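/-
helper14: leaf B4a of helper27's S4607 plan (RANKRED): for a matrix over a commutative ring `O`
mapping injectively to a field `K` and by any ring hom to a field `k`, the rank over `k` is at most
the rank over `K` (minor argument).  Pure Mathlib.
-/
import Mathlib

set_option autoImplicit false

namespace Cfsg.Agent.Lib.Helper14.BlkAlgB4a

open Matrix

/-- `rank B` linearly independent columns. -/
theorem exists_cols {k : Type*} [Field k] {m n : Type*} [Fintype m] [Fintype n]
    (B : Matrix m n k) :
    ∃ c : Fin B.rank → n, LinearIndependent k (fun j => B.col (c j)) := by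
  classical
  obtain ⟨κ, a, ha, hsp, hli⟩ := exists_linearIndependent' k B.col
  have : Finite κ := Finite.of_injective a ha
  let _ := Fintype.ofFinite κ
  have hcard : Fintype.card κ = B.rank := by
    rw [rank_eq_finrank_span_cols, ← hsp, finrank_span_eq_card hli]
  let e : Fin B.rank ≃ κ := (Fintype.equivFinOfCardEq hcard).symm
  refine ⟨a ∘ e, ?_⟩
  exact hli.comp e e.injective

/-- A nonzero `rank × rank` minor. -/
theorem exists_minor {k : Type*} [Field k] {m n : Type*} [Fintype m] [Fintype n]
    (B : Matrix m n k) :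
    ∃ (ρ : Fin B.rank → m) (c : Fin B.rank → n), (B.submatrix ρ c).det ≠ 0 := by
  classical
  obtain ⟨c, hc⟩ := exists_cols B
  -- the matrix whose rows are the chosen columns
  set C : Matrix (Fin B.rank) m k := (B.submatrix id c)ᵀ with hC
  have hrow : LinearIndependent k C.row := hc
  have hCrank : C.rank = B.rank := by
    rw [hrow.rank_matrix, Fintype.card_fin]
  obtain ⟨ρ', hρ'⟩ := exists_cols C
  let ρ : Fin B.rank → m := fun i => ρ' (Fin.cast hCrank.symm i)
  have hρ : LinearIndependent k (fun i => C.col (ρ i)) :=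
    hρ'.comp (fun i => Fin.cast hCrank.symm i) (Fin.cast_injective _)
  refine ⟨ρ, c, ?_⟩
  have hS : (B.submatrix ρ c) = (C.submatrix id ρ)ᵀ := by
    ext i j
    simp [hC]
  have hcols : LinearIndependent k (C.submatrix id ρ).col := hρ
  have hunit : IsUnit (C.submatrix id ρ) := linearIndependent_cols_iff_isUnit.mp hcols
  have hdet : IsUnit (C.submatrix id ρ).det := (Matrix.isUnit_iff_isUnit_det _).mp hunit
  rw [hS, det_transpose]
  exact hdet.ne_zero

/-- LEAF B4a (RANKRED). -/
theorem rank_map_le {O K k : Type*} [CommRing O] [Field K] [Field k] (ι : O →+* K)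
    (hι : Function.Injective ι) (π : O →+* k) {m : Type*} [Fintype m] [DecidableEq m]
    (A : Matrix m m O) : (A.map π).rank ≤ (A.map ι).rank := by
  obtain ⟨ρ, c, hdet⟩ := exists_minor (A.map π)
  have h1 : ((A.map π).submatrix ρ c) = π.mapMatrix (A.submatrix ρ c) := by
    ext i j
    simp
  have h2 : ((A.map ι).submatrix ρ c) = ι.mapMatrix (A.submatrix ρ c) := by
    ext i j
    simp
  rw [h1, ← RingHom.map_det] at hdet
  have hd0 : (A.submatrix ρ c).det ≠ 0 := by
    intro h0
    rw [h0, map_zero] at hdet
    exact hdet rfl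
  have hd1 : ((A.map ι).submatrix ρ c).det ≠ 0 := by
    rw [h2, ← RingHom.map_det]
    intro h0
    exact hd0 (hι (by rw [h0, map_zero]))
  have h3 := rank_of_det_ne_zero hd1
  rw [Fintype.card_fin] at h3
  calc (A.map π).rank = ((A.map ι).submatrix ρ c).rank := h3.symm
    _ ≤ (A.map ι).rank := rank_submatrix_le _ _ _

end Cfsg.Agent.Lib.Helper14.BlkAlgB4a
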