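/-
helper14: leaf B4b of helper27's S4607 plan (SUMRANK): the ranks of a complete family of orthogonal
idempotent matrices over a field add up to the size.  Characteristic free (no traces).  Pure Mathlib.
-/
import Mathlib

set_option autoImplicit false

namespace Cfsg.Agent.Lib.Helper14.BlkAlgB4b

open Matrix

variable {k : Type*} [Field k] {m : Type*} [Fintype m] [DecidableEq m]

/-- `rank (P + Q) = rank P + rank Q` if `P` is idempotent and `P Q = Q P = 0`. -/
theorem rank_add_of_orth (P Q : Matrix m m k) (hP : P * P = P) (hPQ : P * Q = 0)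
    (hQP : Q * P = 0) : (P + Q).rank = P.rank + Q.rank := by
  unfold Matrix.rank
  have hsup : LinearMap.range (P + Q).mulVecLin =
      LinearMap.range P.mulVecLin ⊔ LinearMap.range Q.mulVecLin := by
    apply le_antisymm
    · rintro _ ⟨v, rfl⟩
      rw [Matrix.mulVecLin_apply, Matrix.add_mulVec]
      exact Submodule.add_mem_sup ⟨v, rfl⟩ ⟨v, rfl⟩
    · have hPle : LinearMap.range P.mulVecLin ≤ LinearMap.range (P + Q).mulVecLin := by
        rintro _ ⟨v, rfl⟩
        refine ⟨P *ᵥ v, ?_⟩
        rw [Matrix.mulVecLin_apply, Matrix.mulVecLin_apply, Matrix.mulVec_mulVec, add_mul, hP,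
          hQP, add_zero]
      refine sup_le hPle ?_
      rintro _ ⟨v, rfl⟩
      have h1 : (P + Q).mulVecLin v ∈ LinearMap.range (P + Q).mulVecLin := ⟨v, rfl⟩
      have h2 : P.mulVecLin v ∈ LinearMap.range (P + Q).mulVecLin := hPle ⟨v, rfl⟩
      have h3 := Submodule.sub_mem _ h1 h2
      have e : (P + Q).mulVecLin v - P.mulVecLin v = Q.mulVecLin v := by
        simp only [Matrix.mulVecLin_apply, Matrix.add_mulVec]
        abel
      rwa [e] at h3
  have hinf : LinearMap.range P.mulVecLin ⊓ LinearMap.range Q.mulVecLin = ⊥ := by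
    rw [eq_bot_iff]
    rintro x ⟨⟨u, hu⟩, ⟨w, hw⟩⟩
    rw [Submodule.mem_bot]
    have h1 : P *ᵥ x = x := by
      rw [← hu, Matrix.mulVecLin_apply, Matrix.mulVec_mulVec, hP]
    have h2 : P *ᵥ x = 0 := by
      rw [← hw, Matrix.mulVecLin_apply, Matrix.mulVec_mulVec, hPQ, Matrix.zero_mulVec]
    rw [← h1, h2]
  have h := Submodule.finrank_sup_add_finrank_inf_eq (LinearMap.range P.mulVecLin)
    (LinearMap.range Q.mulVecLin)
  rw [hinf, finrank_bot, add_zero] at h
  rw [hsup, h]

/-- The rank of a sum of pairwise orthogonal idempotents is the sum of the ranks. -/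
theorem rank_sum_of_orth {ι : Type*} [DecidableEq ι] (s : Finset ι) (A : ι → Matrix m m k)
    (hidem : ∀ i ∈ s, A i * A i = A i) (horth : ∀ i ∈ s, ∀ j ∈ s, i ≠ j → A i * A j = 0) :
    (∑ i ∈ s, A i).rank = ∑ i ∈ s, (A i).rank := by
  induction s using Finset.induction_on with
  | empty => simp
  | insert a s ha ih =>
    rw [Finset.sum_insert ha, Finset.sum_insert ha]
    have hidem' : ∀ i ∈ s, A i * A i = A i := fun i hi => hidem i (Finset.mem_insert_of_mem hi)
    have horth' : ∀ i ∈ s, ∀ j ∈ s, i ≠ j → A i * A j = 0 := fun i hi j hj hne =>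
      horth i (Finset.mem_insert_of_mem hi) j (Finset.mem_insert_of_mem hj) hne
    rw [← ih hidem' horth']
    apply rank_add_of_orth
    · exact hidem a (Finset.mem_insert_self a s)
    · rw [Finset.mul_sum]
      apply Finset.sum_eq_zero
      intro i hi
      apply horth a (Finset.mem_insert_self a s) i (Finset.mem_insert_of_mem hi)
      rintro rfl
      exact ha hi
    · rw [Finset.sum_mul]
      apply Finset.sum_eq_zero
      intro i hi
      apply horth i (Finset.mem_insert_of_mem hi) a (Finset.mem_insert_self a s)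
      rintro rfl
      exact ha hi

/-- LEAF B4b (SUMRANK). -/
theorem sum_rank_eq_card {k : Type*} [Field k] {m : Type*} [Fintype m] [DecidableEq m]
    {ι : Type*} (s : Finset ι) (A : ι → Matrix m m k)
    (hidem : ∀ i ∈ s, A i * A i = A i) (horth : ∀ i ∈ s, ∀ j ∈ s, i ≠ j → A i * A j = 0)
    (hsum : ∑ i ∈ s, A i = 1) : ∑ i ∈ s, (A i).rank = Fintype.card m := by
  classical
  rw [← rank_sum_of_orth s A hidem horth, hsum, Matrix.rank_one]

end Cfsg.Agent.Lib.Helper14.BlkAlgB4b
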