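/-
helper14: leaf B4c of helper27's S4607 plan: reduction preserves the rank of each member of a
complete family of orthogonal idempotent matrices (B4a + B4b twice).  Pure Mathlib.
-/
import Cfsg.Agent.Lib.Helper14.BlkAlgB4a
import Cfsg.Agent.Lib.Helper14.BlkAlgB4b

set_option autoImplicit false

namespace Cfsg.Agent.Lib.Helper14.BlkAlgB4c

open Matrix

/-- a ring hom transports a complete orthogonal idempotent family of matrices -/
theorem sum_rank_map {O k : Type*} [CommRing O] [Field k] (π : O →+* k) {m : Type*} [Fintype m]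
    [DecidableEq m] {ι' : Type*} (s : Finset ι') (A : ι' → Matrix m m O)
    (hidem : ∀ i ∈ s, A i * A i = A i) (horth : ∀ i ∈ s, ∀ j ∈ s, i ≠ j → A i * A j = 0)
    (hsum : ∑ i ∈ s, A i = 1) : ∑ i ∈ s, ((A i).map π).rank = Fintype.card m := by
  apply Cfsg.Agent.Lib.Helper14.BlkAlgB4b.sum_rank_eq_card s (fun i => (A i).map π)
  · intro i hi
    have := congrArg π.mapMatrix (hidem i hi)
    rw [map_mul] at this
    exact this
  · intro i hi j hj hne
    have := congrArg π.mapMatrix (horth i hi j hj hne)
    rw [map_mul, map_zero] at this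
    exact this
  · have := congrArg π.mapMatrix hsum
    rw [map_sum, map_one] at this
    exact this

/-- LEAF B4c. -/
theorem rank_map_eq_of_complete {O K k : Type*} [CommRing O] [Field K] [Field k] (ι : O →+* K)
    (hι : Function.Injective ι) (π : O →+* k) {m : Type*} [Fintype m] [DecidableEq m]
    {ι' : Type*} (s : Finset ι') (A : ι' → Matrix m m O)
    (hidem : ∀ i ∈ s, A i * A i = A i) (horth : ∀ i ∈ s, ∀ j ∈ s, i ≠ j → A i * A j = 0)
    (hsum : ∑ i ∈ s, A i = 1) : ∀ i ∈ s, ((A i).map π).rank = ((A i).map ι).rank := by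
  have h1 := sum_rank_map π s A hidem horth hsum
  have h2 := sum_rank_map ι s A hidem horth hsum
  have hle : ∀ i ∈ s, ((A i).map π).rank ≤ ((A i).map ι).rank := fun i _ =>
    Cfsg.Agent.Lib.Helper14.BlkAlgB4a.rank_map_le ι hι π (A i)
  exact (Finset.sum_eq_sum_iff_of_le hle).mp (h1.trans h2.symm)

end Cfsg.Agent.Lib.Helper14.BlkAlgB4c
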