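/-
helper14: leaf A6 of helper27's S4607 plan (Brandt / Kuelshammer): an augmented symmetric algebra
with nilpotent augmentation ideal and centre of dimension `≤ 2` is commutative.
-/
import Cfsg.Agent.Lib.Helper27.SymAlgDefs

set_option autoImplicit false

namespace Cfsg.Agent.Lib.Helper14.SymAlgA6

open Cfsg.Agent.Lib.Helper27.SymAlg

variable {F : Type*} [Field F]

section core

variable {C : Type*} [Ring C] [Algebra F C]

/-- The augmentation ideal as a submodule. -/
def augIdeal (aug : C →ₐ[F] F) : Submodule F C := LinearMap.ker aug.toLinearMap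

theorem mem_augIdeal (aug : C →ₐ[F] F) (x : C) : x ∈ augIdeal aug ↔ aug x = 0 := by
  unfold augIdeal
  rw [LinearMap.mem_ker]
  rfl

theorem sub_algebraMap_mem (aug : C →ₐ[F] F) (x : C) :
    x - algebraMap F C (aug x) ∈ augIdeal aug := by
  rw [mem_augIdeal, map_sub, AlgHom.commutes]
  simp

theorem commSpan_le_sq (aug : C →ₐ[F] F) :
    commSpan F C ≤ augIdeal aug * augIdeal aug := by
  unfold commSpan
  rw [Submodule.span_le]
  rintro z ⟨x, y, rfl⟩
  have hx := sub_algebraMap_mem aug x
  have hy := sub_algebraMap_mem aug y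
  have h1 := Submodule.mul_mem_mul hx hy
  have h2 := Submodule.mul_mem_mul hy hx
  have h3 := Submodule.sub_mem _ h1 h2
  have e : (x - algebraMap F C (aug x)) * (y - algebraMap F C (aug y)) -
      (y - algebraMap F C (aug y)) * (x - algebraMap F C (aug x)) = x * y - y * x := by
    have c1 : algebraMap F C (aug x) * y = y * algebraMap F C (aug x) :=
      Algebra.commutes _ _
    have c2 : algebraMap F C (aug y) * x = x * algebraMap F C (aug y) :=
      Algebra.commutes _ _
    have c3 : algebraMap F C (aug x) * algebraMap F C (aug y) =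
        algebraMap F C (aug y) * algebraMap F C (aug x) := Algebra.commutes _ _
    simp only [sub_mul, mul_sub]
    rw [c1, c2, c3]
    abel
  rw [← e]
  exact h3

theorem sq_le (aug : C →ₐ[F] F) : augIdeal aug * augIdeal aug ≤ augIdeal aug := by
  rw [Submodule.mul_le]
  intro m hm n hn
  rw [mem_augIdeal] at *
  rw [map_mul, hm, zero_mul]

theorem pow_le (aug : C →ₐ[F] F) : ∀ k : ℕ, augIdeal aug ^ (k + 1) ≤ augIdeal aug
  | 0 => by rw [zero_add, pow_one]
  | k + 1 => by
    rw [pow_succ]
    exact le_trans (mul_le_mul' (pow_le aug k) le_rfl) (sq_le aug)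

theorem pow_succ_le (aug : C →ₐ[F] F) (j : ℕ) :
    augIdeal aug ^ (j + 2) ≤ augIdeal aug ^ (j + 1) := by
  calc augIdeal aug ^ (j + 2) = augIdeal aug ^ j * (augIdeal aug * augIdeal aug) := by
        rw [← pow_two, ← pow_add]
    _ ≤ augIdeal aug ^ j * augIdeal aug := mul_le_mul' le_rfl (sq_le aug)
    _ = augIdeal aug ^ (j + 1) := (pow_succ _ _).symm

theorem pow_eq_bot (aug : C →ₐ[F] F) (N : ℕ)
    (hN : ∀ f : Fin N → C, (∀ i, aug (f i) = 0) → (List.ofFn f).prod = 0) :
    augIdeal aug ^ N = ⊥ := by
  rw [Submodule.pow_eq_span_pow_set, Submodule.span_eq_bot]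
  intro x hx
  rw [Set.mem_pow] at hx
  obtain ⟨f, rfl⟩ := hx
  apply hN
  intro i
  have := (f i).2
  rw [SetLike.mem_coe, mem_augIdeal] at this
  exact this

/-- If `𝔫 ≤ F x + 𝔫²` with `x ∈ 𝔫` then `𝔫^k ≤ F x^k + 𝔫^(k+1)`. -/
theorem pow_le_span_sup (aug : C →ₐ[F] F) (x : C) (hx : x ∈ augIdeal aug)
    (h : augIdeal aug ≤ Submodule.span F {x} ⊔ augIdeal aug * augIdeal aug) :
    ∀ k : ℕ, augIdeal aug ^ (k + 1) ≤ Submodule.span F {x ^ (k + 1)} ⊔ augIdeal aug ^ (k + 2)
  | 0 => by
    simpa [pow_two] using h
  | k + 1 => by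
    have ih := pow_le_span_sup aug x hx h k
    set n := augIdeal aug with hn
    have hxs : Submodule.span F {x} ≤ n := by
      rw [Submodule.span_le]
      intro y hy
      rw [Set.mem_singleton_iff] at hy
      rw [hy]
      exact hx
    have hxk : Submodule.span F {x ^ (k + 1)} ≤ n ^ (k + 1) := by
      rw [Submodule.span_le]
      intro y hy
      rw [Set.mem_singleton_iff] at hy
      rw [hy]
      exact Submodule.pow_mem_pow n hx (k + 1)
    calc n ^ (k + 1 + 1) = n ^ (k + 1) * n := pow_succ _ _
      _ ≤ (Submodule.span F {x ^ (k + 1)} ⊔ n ^ (k + 2)) * (Submodule.span F {x} ⊔ n * n) :=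
          mul_le_mul' ih h
      _ ≤ Submodule.span F {x ^ (k + 1 + 1)} ⊔ n ^ (k + 1 + 2) := by
          rw [Submodule.sup_mul, Submodule.mul_sup, Submodule.mul_sup]
          refine sup_le (sup_le ?_ ?_) (sup_le ?_ ?_)
          · refine le_trans (le_of_eq ?_) le_sup_left
            rw [Submodule.span_mul_span, Set.singleton_mul_singleton, ← pow_succ]
          · refine le_trans ?_ le_sup_right
            calc Submodule.span F {x ^ (k + 1)} * (n * n) ≤ n ^ (k + 1) * (n * n) :=
                  mul_le_mul' hxk le_rfl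
              _ = n ^ (k + 1 + 2) := by rw [← pow_two, ← pow_add]
          · refine le_trans ?_ le_sup_right
            calc n ^ (k + 2) * Submodule.span F {x} ≤ n ^ (k + 2) * n := mul_le_mul' le_rfl hxs
              _ = n ^ (k + 1 + 2) := by rw [← pow_succ]
          · refine le_trans ?_ le_sup_right
            calc n ^ (k + 2) * (n * n) = n ^ (k + 1 + 2) * n := by
                  rw [← pow_two, ← pow_add, ← pow_succ]
              _ ≤ n ^ (k + 1 + 2) := by
                  rw [← pow_succ]
                  exact pow_succ_le aug (k + 2)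

/-- Hence `𝔫 ≤ F[x] + 𝔫^(k+1)` for all `k`. -/
theorem le_adjoin_sup_pow (aug : C →ₐ[F] F) (x : C) (hx : x ∈ augIdeal aug)
    (h : augIdeal aug ≤ Submodule.span F {x} ⊔ augIdeal aug * augIdeal aug) :
    ∀ k : ℕ, augIdeal aug ≤
      Subalgebra.toSubmodule (Algebra.adjoin F {x}) ⊔ augIdeal aug ^ (k + 1)
  | 0 => by
    rw [zero_add, pow_one]
    exact le_sup_right
  | k + 1 => by
    have ih := le_adjoin_sup_pow aug x hx h k
    refine le_trans ih (sup_le le_sup_left ?_)
    refine le_trans (pow_le_span_sup aug x hx h k) (sup_le ?_ le_sup_right)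
    refine le_trans ?_ le_sup_left
    rw [Submodule.span_le]
    intro y hy
    rw [Set.mem_singleton_iff] at hy
    rw [hy]
    exact Subalgebra.pow_mem _ (Algebra.subset_adjoin (Set.mem_singleton x)) _

theorem comm_of_generator (aug : C →ₐ[F] F) (N : ℕ)
    (hN : ∀ f : Fin N → C, (∀ i, aug (f i) = 0) → (List.ofFn f).prod = 0)
    (x : C) (hx : x ∈ augIdeal aug)
    (h : augIdeal aug ≤ Submodule.span F {x} ⊔ augIdeal aug * augIdeal aug) :
    ∀ a b : C, a * b = b * a := by
  have hbot := pow_eq_bot aug N hN
  have hle : augIdeal aug ≤ Subalgebra.toSubmodule (Algebra.adjoin F {x}) := by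
    rcases Nat.eq_zero_or_pos N with h0 | hpos
    · -- `𝔫^0 = 1 = ⊥` forces `C` trivial
      rw [h0, pow_zero] at hbot
      intro y _
      have h1 : (1 : C) ∈ (1 : Submodule F C) := Submodule.one_le.mp le_rfl
      rw [hbot, Submodule.mem_bot] at h1
      have : y = 0 := by rw [← mul_one y, h1, mul_zero]
      rw [this]
      exact Submodule.zero_mem _
    · have := le_adjoin_sup_pow aug x hx h (N - 1)
      rw [Nat.sub_add_cancel hpos, hbot, sup_bot_eq] at this
      exact this
  have hall : ∀ a : C, a ∈ Algebra.adjoin F {x} := by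
    intro a
    have h1 := hle (sub_algebraMap_mem aug a)
    rw [Subalgebra.mem_toSubmodule] at h1
    have h2 : algebraMap F C (aug a) ∈ Algebra.adjoin F {x} := Subalgebra.algebraMap_mem _ _
    have := Subalgebra.add_mem _ h1 h2
    rwa [sub_add_cancel] at this
  intro a b
  have ha := hall a
  have hb := hall b
  rw [Algebra.adjoin_singleton_eq_range_aeval] at ha hb
  obtain ⟨p, rfl⟩ := ha
  obtain ⟨q, rfl⟩ := hb
  change Polynomial.aeval x p * Polynomial.aeval x q = Polynomial.aeval x q * Polynomial.aeval x p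
  rw [← map_mul, ← map_mul, mul_comm]

theorem finrank_augIdeal [FiniteDimensional F C] (aug : C →ₐ[F] F) :
    Module.finrank F (augIdeal aug) + 1 = Module.finrank F C := by
  have h := LinearMap.finrank_range_add_finrank_ker aug.toLinearMap
  have hs : Function.Surjective aug.toLinearMap := by
    intro a
    exact ⟨algebraMap F C a, by simp⟩
  rw [LinearMap.range_eq_top.2 hs, finrank_top, Module.finrank_self] at h
  unfold augIdeal
  omega

/-- The generator: from `dim 𝔫 ≤ dim 𝔫² + 1`. -/
theorem exists_generator [FiniteDimensional F C] (aug : C →ₐ[F] F)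
    (hdim : Module.finrank F (augIdeal aug) ≤
      Module.finrank F ↥(augIdeal aug * augIdeal aug) + 1) :
    ∃ x ∈ augIdeal aug,
      augIdeal aug ≤ Submodule.span F {x} ⊔ augIdeal aug * augIdeal aug := by
  by_cases hEq : augIdeal aug ≤ augIdeal aug * augIdeal aug
  · exact ⟨0, Submodule.zero_mem _, le_trans hEq le_sup_right⟩
  · obtain ⟨x, hx, hx2⟩ := SetLike.not_le_iff_exists.mp hEq
    refine ⟨x, hx, ?_⟩
    have hle : Submodule.span F {x} ⊔ augIdeal aug * augIdeal aug ≤ augIdeal aug := by
      refine sup_le ?_ (sq_le aug)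
      rw [Submodule.span_le]
      intro y hy
      rw [Set.mem_singleton_iff] at hy
      rw [hy]
      exact hx
    have hlt : augIdeal aug * augIdeal aug <
        Submodule.span F {x} ⊔ augIdeal aug * augIdeal aug := by
      refine lt_of_le_of_ne le_sup_right ?_
      intro he
      apply hx2
      rw [he]
      exact (le_sup_left : Submodule.span F {x} ≤ _) (Submodule.mem_span_singleton_self x)
    have h1 := Submodule.finrank_lt_finrank_of_lt hlt
    have h2 : Module.finrank F (augIdeal aug) ≤
        Module.finrank F ↥(Submodule.span F {x} ⊔ augIdeal aug * augIdeal aug) := by omega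
    exact le_of_eq (Submodule.eq_of_le_of_finrank_le hle h2).symm

/-- A6 with A0 and A1 (for the commutator space) as hypotheses. -/
theorem comm_core [FiniteDimensional F C] {lam : C →ₗ[F] F}
    (hA0 : Module.finrank F (perp lam (commSpan F C)) + Module.finrank F (commSpan F C) =
      Module.finrank F C)
    (hA1 : perp lam (commSpan F C) = Subalgebra.toSubmodule (Subalgebra.center F C))
    (aug : C →ₐ[F] F) (N : ℕ)
    (hN : ∀ f : Fin N → C, (∀ i, aug (f i) = 0) → (List.ofFn f).prod = 0)
    (hZ : Module.finrank F (Subalgebra.center F C) ≤ 2) : ∀ x y : C, x * y = y * x := by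
  have h1 : Module.finrank F (perp lam (commSpan F C)) =
      Module.finrank F (Subalgebra.center F C) := by
    rw [hA1]
    rfl
  have h2 := Submodule.finrank_mono (commSpan_le_sq (F := F) aug)
  have h3 := finrank_augIdeal (F := F) aug
  have hdim : Module.finrank F (augIdeal aug) ≤
      Module.finrank F ↥(augIdeal aug * augIdeal aug) + 1 := by omega
  obtain ⟨x, hx, hgen⟩ := exists_generator aug hdim
  exact comm_of_generator aug N hN x hx hgen

end core

end Cfsg.Agent.Lib.Helper14.SymAlgA6
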