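/-
helper14: S4503 (Brauer, degree < (p-1)/2), PART E, leaf DATA: for every block `B` of positive defect of a
group with a Sylow `p`-subgroup `P = ⟨x0⟩` of order `p`: a root `θ`, its inertia group `T`, `E ≤ (ℤ/p)ˣ`, the context,
the integer data `GSData` (with `μ = muZ`, `D = Dfun`) and the cardinality `|B| = e + (p-1)/e`
(assembly of the landed defect-one leaves DEFP, ROOT, INERT, GSASM, SQUEEZE + Part M FINAL, UPPER, RANKD).
-/
import Mathlib
import Cfsg.Prelude.Def_BlockRank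
import Cfsg.Agent.Lib.Helper27.DODefs
import Cfsg.Agent.Lib.Helper27.BlkAlgDefs2
import Cfsg.Agent.Lib.Helper8.DOFULL
import Cfsg.Agent.Lib.Helper8.DOMFinalB
import Cfsg.Agent.Lib.Helper26.DODEFP
import Cfsg.Agent.Lib.Helper13.DOROOT
import Cfsg.Agent.Lib.Helper16.DOINERT

set_option autoImplicit false

namespace Cfsg.Agent.Lib.Helper14.BREData

open Cfsg Cfsg.Agent.Lib.Helper8.DOM Cfsg.Agent.Lib.Helper27.DO Cfsg.Agent.Lib.Helper27.BlkAlg
open scoped ComplexConjugate

universe u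

variable {G : Type u} [Group G] [Finite G] {p : ℕ} [Fact p.Prime] {M : Ideal AlgInt}

/-- DATA : the defect-one package of a block of positive defect, for a prescribed generator `x0` of `P`
and a prescribed root `θ`. -/
theorem exists_data_of_root (hM : IsPModular p M) (P : Subgroup G) (hP : Nat.card P = p)
    (hSyl : ¬ p ∣ P.index) (x0 : G) (hx0 : P = Subgroup.zpowers x0)
    (B : Set (IrrCharacter G)) (hB : IsPBlock M B) (hd : 0 < blockDefect p B)
    (θ : IrrCharacter (Cz P)) (hθP : PTriv P (θ : Cz P → ℂ))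
    (hind : IsInducedBlock M (Cz P) (blockOf M (θ : Cz P → ℂ)) B)
    (T : Subgroup G) (hT : IsInertia P (θ : Cz P → ℂ) T) :
    ∃ E : Subgroup (ZMod p)ˣ,
      Ctx p M P B θ T x0 ∧
      GSData p P B θ T x0 E (muZ p M P θ x0) (fun χ => Dfun p x0 (muZ p M P θ x0 χ)) ∧
      Nat.card B = Nat.card E + (p - 1) / Nat.card E := by
  classical
  have : Finite (IrrCharacter G) := Cfsg.Agent.CharLib.finite_irrCharacter
  letI : Fintype (IrrCharacter G) := Fintype.ofFinite _
  have hBP := Cfsg.Agent.Lib.Helper26.DODEFP.isDefectGroup_of_pos hM P hP hSyl B hB hd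
  have c : Ctx p M P B θ T x0 := ⟨hM, hP, hSyl, hB, hBP, hθP, hind, hT, hx0⟩
  obtain ⟨E, d⟩ := Cfsg.Agent.Lib.Helper22.DOGSASM.exists_gsdata c
  have hfinal := Cfsg.Agent.Lib.Helper8.DOMFinalB.hfinal hM P hP hSyl
  have hsq := Cfsg.Agent.Lib.Helper8.DOSQUEEZE.blockRank_eq_of hM P hP hSyl hfinal B θ T x0 c
  have h1 := Cfsg.Agent.Lib.Helper8.DOUPPER.card_le_of_data d
  have h2 := Cfsg.Agent.Lib.Helper8.DORANKD.blockRank_add_le_of_data d
  have hcard : Nat.card B = Nat.card E + (p - 1) / Nat.card E := by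
    rw [hsq, ← d.cardE] at h2
    omega
  exact ⟨E, c, d, hcard⟩

/-- DATA : the defect-one package of a block of positive defect, for a prescribed generator `x0` of `P`. -/
theorem exists_data (hM : IsPModular p M) (P : Subgroup G) (hP : Nat.card P = p)
    (hSyl : ¬ p ∣ P.index) (x0 : G) (hx0 : P = Subgroup.zpowers x0)
    (B : Set (IrrCharacter G)) (hB : IsPBlock M B) (hd : 0 < blockDefect p B) :
    ∃ (θ : IrrCharacter (Cz P)) (T : Subgroup G) (E : Subgroup (ZMod p)ˣ),
      Ctx p M P B θ T x0 ∧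
      GSData p P B θ T x0 E (muZ p M P θ x0) (fun χ => Dfun p x0 (muZ p M P θ x0 χ)) ∧
      Nat.card B = Nat.card E + (p - 1) / Nat.card E := by
  have hBP := Cfsg.Agent.Lib.Helper26.DODEFP.isDefectGroup_of_pos hM P hP hSyl B hB hd
  obtain ⟨θ, hθP, hind⟩ := Cfsg.Agent.Lib.Helper13.DOROOT.exists_root hM P hP hSyl B hB hBP
  obtain ⟨T, hT⟩ := Cfsg.Agent.Lib.Helper16.DOINERT.exists_inertia P (θ : Cz P → ℂ)
  obtain ⟨E, h⟩ := exists_data_of_root hM P hP hSyl x0 hx0 B hB hd θ hθP hind T hT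
  exact ⟨θ, T, E, h⟩

end Cfsg.Agent.Lib.Helper14.BREData
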