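import Mathlib
import Cfsg.Prelude.Def_Characters
import Cfsg.Agent.Lib.Helper24.BSWDefs
import Cfsg.Agent.Lib.Helper1.BSWCDefs
import Cfsg.Agent.Lib.Helper10.PowTwistChar
import Cfsg.Agent.Lib.Lead.CharInd
import Cfsg.Agent.Lib.Lead.BrLeo4
import Cfsg.Agent.Lib.Helper6.Clifford
import Cfsg.Agent.Lib.Helper10.KleinPILPROJ

/-!
# S3282 batch 2 leaf D2 (helper14): `apply_of_mem`, `apply_one_eq`
(values of a character on `K` in terms of the multiplicities `m(χ, μ)`, by Frobenius reciprocity and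
Fourier inversion on the abelian group `K`)
-/

set_option autoImplicit false
open Cfsg Cfsg.Agent.Lib.Helper24.BSW Cfsg.Agent.CharLib Cfsg.Agent.Lib.Helper1.BSWC
open scoped ComplexConjugate

namespace Cfsg.Agent.Lib.Helper14.BSWCD2

universe u

variable {G : Type u} [Group G] [Fintype G]

/-- the inner product `⟨μ, χ|_K⟩_K` -/
noncomputable def coef (K : Subgroup G) [Fintype ↥K] (μ : ↥K →* ℂˣ) (χ : G → ℂ) : ℂ :=
  classInner (fun x : ↥K => ((μ x : ℂˣ) : ℂ)) (fun x : ↥K => χ x)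

theorem mult_eq_coef (K : Subgroup G) [Fintype ↥K] (μ : ↥K →* ℂˣ) {χ : G → ℂ}
    (hχ : IsClassFunction G χ) : mult K μ χ = coef K 1 χ - coef K μ χ := by
  unfold mult theta coef
  rw [frobenius_reciprocity K _ hχ]
  have : (fun x : ↥K => (1 : ℂ) - ((μ x : ℂˣ) : ℂ)) =
      (fun x : ↥K => (((1 : ↥K →* ℂˣ) x : ℂˣ) : ℂ)) - (fun x : ↥K => ((μ x : ℂˣ) : ℂ)) := by
    funext x
    simp
  rw [this, Cfsg.Agent.CharLib.classInner_sub_left]

theorem coef_nat (K : Subgroup G) [Fintype ↥K] (μ : ↥K →* ℂˣ) {χ : G → ℂ}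
    (hχ : IsCharacter G χ) : ∃ n : ℕ, coef K μ χ = (n : ℂ) := by
  unfold coef
  exact Cfsg.Agent.Lib.Helper10.KleinPILPROJ.classInner_char_char
    (Cfsg.Agent.Lib.Helper6.isCharacter_of_hom μ)
    (Cfsg.Agent.Lib.Helper6.isCharacter_resFun K hχ)

/-- Fourier expansion of `χ|_K` -/
theorem sum_coef_mul (K : Subgroup G) [Fintype ↥K] (hcomm : ∀ a b : ↥K, a * b = b * a)
    [Fintype (↥K →* ℂˣ)] {χ : G → ℂ} (hχ : IsCharacter G χ) (y : ↥K) :
    ∑ μ : ↥K →* ℂˣ, coef K μ χ * ((μ y : ℂˣ) : ℂ) = χ (y : G) := by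
  have h1 := fourier_inversion hcomm (fun x : ↥K => χ (x : G)) y
  have hk : (Fintype.card ↥K : ℂ) ≠ 0 := by
    exact_mod_cast Fintype.card_ne_zero
  have h2 : ∀ μ : ↥K →* ℂˣ, coef K μ χ =
      (Fintype.card ↥K : ℂ)⁻¹ * ∑ y' : ↥K, χ (y' : G) * conj ((μ y' : ℂˣ) : ℂ) := by
    intro μ
    obtain ⟨n, hn⟩ := coef_nat K μ hχ
    have h3 : coef K μ χ = conj (coef K μ χ) := by rw [hn]; simp
    rw [h3]
    unfold coef
    rw [Cfsg.Agent.CharLib.classInner_conj_symm]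
    unfold classInner
    rw [Nat.card_eq_fintype_card]
  simp_rw [h2, mul_assoc]
  rw [← Finset.mul_sum, h1]
  field_simp

theorem card_dual (K : Subgroup G) [Fintype ↥K] (hcomm : ∀ a b : ↥K, a * b = b * a)
    [Fintype (↥K →* ℂˣ)] : (Fintype.card (↥K →* ℂˣ) : ℂ) = (Nat.card ↥K : ℂ) := by
  classical
  have := sum_dual_apply hcomm (1 : ↥K)
  simp only [map_one, Units.val_one, Finset.sum_const, Finset.card_univ, nsmul_eq_mul, mul_one,
    if_true] at this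
  rw [this, Nat.card_eq_fintype_card]

/-- **D2 a** -/
theorem apply_of_mem {t s : G} {K : Subgroup G} (h : Hyp t s K) [Fintype (↥K →* ℂˣ)] {χ : G → ℂ}
    (hχ : IsCharacter G χ) (y : ↥K) (hy : y ≠ 1) :
    χ (y : G) = - ∑ μ : ↥K →* ℂˣ, mult K μ χ * ((μ y : ℂˣ) : ℂ) := by
  classical
  letI : Fintype ↥K := Fintype.ofFinite ↥K
  have hcomm : ∀ a b : ↥K, a * b = b * a := h.hKab.is_comm.comm
  have hcl := Cfsg.Agent.CharLib.IsCharacter.isClassFunction hχ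
  simp_rw [mult_eq_coef K _ hcl, sub_mul, Finset.sum_sub_distrib, ← Finset.mul_sum]
  rw [sum_dual_apply hcomm y, if_neg hy, sum_coef_mul K hcomm hχ y]
  ring

/-- **D2 b** -/
theorem apply_one_eq {t s : G} {K : Subgroup G} (h : Hyp t s K) [Fintype (↥K →* ℂˣ)] {χ : G → ℂ}
    (hχ : IsCharacter G χ) :
    ∃ a : ℕ, χ 1 = (a : ℂ) * (Nat.card K : ℂ) - ∑ μ : ↥K →* ℂˣ, mult K μ χ := by
  classical
  letI : Fintype ↥K := Fintype.ofFinite ↥K
  have hcomm : ∀ a b : ↥K, a * b = b * a := h.hKab.is_comm.comm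
  have hcl := Cfsg.Agent.CharLib.IsCharacter.isClassFunction hχ
  obtain ⟨a, ha⟩ := coef_nat K 1 hχ
  refine ⟨a, ?_⟩
  simp_rw [mult_eq_coef K _ hcl, Finset.sum_sub_distrib, Finset.sum_const, Finset.card_univ,
    nsmul_eq_mul]
  have h1 := sum_coef_mul K hcomm hχ (1 : ↥K)
  simp only [map_one, Units.val_one, mul_one, OneMemClass.coe_one] at h1
  rw [h1, card_dual K hcomm, ha]
  ring

end Cfsg.Agent.Lib.Helper14.BSWCD2
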