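import Mathlib
import Cfsg.Prelude.Def_Characters
import Cfsg.Agent.Lib.Helper24.BSWDefs
import Cfsg.Agent.Lib.Helper1.BSWCDefs
import Cfsg.Agent.Lib.Helper10.PowTwistChar

/-!
# S3282 batch 2 leaf E4 (helper14): `pairCount_eq_invCount`
-/

set_option autoImplicit false
open Cfsg Cfsg.Agent.Lib.Helper24.BSW Cfsg.Agent.CharLib Cfsg.Agent.Lib.Helper1.BSWC
open scoped ComplexConjugate

namespace Cfsg.Agent.Lib.Helper14.BSWCE4

universe u

variable {G : Type u} [Group G] [Fintype G]

omit [Fintype G] in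
lemma inv_eq_self_of_orderOf_two {u : G} (hu : orderOf u = 2) : u⁻¹ = u := by
  have h : u ^ 2 = 1 := by rw [← hu]; exact pow_orderOf_eq_one u
  rw [inv_eq_iff_mul_eq_one, ← pow_two]
  exact h

omit [Fintype G] in
lemma mul_self_of_orderOf_two {u : G} (hu : orderOf u = 2) : u * u = 1 := by
  have h : u ^ 2 = 1 := by rw [← hu]; exact pow_orderOf_eq_one u
  rw [← pow_two]
  exact h

omit [Fintype G] in
lemma inverts_of_mul {u v y : G} (hu : orderOf u = 2) (hv : orderOf v = 2) (huv : u * v = y) :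
    u * y * u⁻¹ = y⁻¹ := by
  have hui := inv_eq_self_of_orderOf_two hu
  have hvi := inv_eq_self_of_orderOf_two hv
  have huu := mul_self_of_orderOf_two hu
  subst huv
  rw [mul_inv_rev, hui, hvi]
  calc u * (u * v) * u = (u * u) * v * u := by group
    _ = v * u := by rw [huu, one_mul]

omit [Fintype G] in
lemma orderOf_inv_mul {u y : G} (hu : orderOf u = 2) (huy : u * y * u⁻¹ = y⁻¹)
    (hy : orderOf y ≠ 2) : orderOf (u⁻¹ * y) = 2 := by
  have hui := inv_eq_self_of_orderOf_two hu
  apply orderOf_eq_prime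
  · rw [pow_two, hui]
    have h1 : u * y * u = y⁻¹ := by rw [hui] at huy; exact huy
    calc u * y * (u * y) = (u * y * u) * y := by group
      _ = 1 := by rw [h1]; group
  · intro h1
    apply hy
    have : y = u := by
      have := congrArg (fun z => u * z) h1
      simpa using this
    rw [this]; exact hu

omit [Fintype G] in
/-- **E4** -/
theorem pairCount_eq_invCount [Finite G] (y : G) (hy : orderOf y ≠ 2) : pairCount y = invCount y := by
  unfold pairCount invCount
  refine Nat.card_congr ?_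
  refine
    { toFun := fun p => ⟨p.1.1, p.2.1, inverts_of_mul p.2.1 p.2.2.1 p.2.2.2⟩
      invFun := fun u => ⟨(u.1, u.1⁻¹ * y), u.2.1, orderOf_inv_mul u.2.1 u.2.2 hy, by group⟩
      left_inv := ?_
      right_inv := ?_ }
  · rintro ⟨⟨a, b⟩, ha, hb, hab⟩
    apply Subtype.ext
    show (a, a⁻¹ * y) = (a, b)
    rw [← hab]
    congr 1
    group
  · rintro ⟨u, hu⟩
    rfl

end Cfsg.Agent.Lib.Helper14.BSWCE4
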