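import Mathlib
import Cfsg.Prelude.Def_Characters
import Cfsg.Agent.Lib.Helper24.BSWDefs
import Cfsg.Agent.Lib.Helper1.BSWCDefs
import Cfsg.Agent.Lib.Helper10.PowTwistChar
import Cfsg.Agent.Lib.Helper5.BSWB1
import Cfsg.Agent.Lib.Helper5.BSWB2
import Cfsg.Agent.Lib.Helper5.BSWB3
import Cfsg.Agent.Lib.Helper5.BSWB4
import Cfsg.Agent.Lib.Helper14.BSWCE4

/-!
# S3282 batch 2 leaf E1 (helper14): `pairCount_of_mem_KK`
-/

set_option autoImplicit false
open Cfsg Cfsg.Agent.Lib.Helper24.BSW Cfsg.Agent.CharLib Cfsg.Agent.Lib.Helper1.BSWC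
open scoped ComplexConjugate

namespace Cfsg.Agent.Lib.Helper14.BSWCE1

universe u

variable {G : Type u} [Group G] [Fintype G]

omit [Fintype G] in
lemma orderOf_conj' (x y : G) : orderOf (x * y * x⁻¹) = orderOf y := by
  have h : SemiconjBy x y (x * y * x⁻¹) := by
    unfold SemiconjBy; group
  exact (h.orderOf_eq).symm

omit [Fintype G] in
/-- `pairCount` is conjugation invariant -/
theorem pairCount_conj (x g : G) : pairCount (x * g * x⁻¹) = pairCount g := by
  unfold pairCount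
  refine Nat.card_congr ?_
  refine
    { toFun := fun p => ⟨(x⁻¹ * p.1.1 * x, x⁻¹ * p.1.2 * x), ?_, ?_, ?_⟩
      invFun := fun p => ⟨(x * p.1.1 * x⁻¹, x * p.1.2 * x⁻¹), ?_, ?_, ?_⟩
      left_inv := fun p => by
        apply Subtype.ext
        apply Prod.ext <;> simp [mul_assoc]
      right_inv := fun p => by
        apply Subtype.ext
        apply Prod.ext <;> simp [mul_assoc] }
  · have := p.2.1
    have e : x⁻¹ * p.1.1 * x = x⁻¹ * p.1.1 * x⁻¹⁻¹ := by rw [inv_inv]
    show orderOf (x⁻¹ * p.1.1 * x) = 2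
    rw [e, orderOf_conj']; exact this
  · have := p.2.2.1
    have e : x⁻¹ * p.1.2 * x = x⁻¹ * p.1.2 * x⁻¹⁻¹ := by rw [inv_inv]
    show orderOf (x⁻¹ * p.1.2 * x) = 2
    rw [e, orderOf_conj']; exact this
  · have := p.2.2.2
    show x⁻¹ * p.1.1 * x * (x⁻¹ * p.1.2 * x) = g
    calc x⁻¹ * p.1.1 * x * (x⁻¹ * p.1.2 * x) = x⁻¹ * (p.1.1 * p.1.2) * x := by group
      _ = x⁻¹ * (x * g * x⁻¹) * x := by rw [this]
      _ = g := by group
  · show orderOf (x * p.1.1 * x⁻¹) = 2
    rw [orderOf_conj']; exact p.2.1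
  · show orderOf (x * p.1.2 * x⁻¹) = 2
    rw [orderOf_conj']; exact p.2.2.1
  · have := p.2.2.2
    show x * p.1.1 * x⁻¹ * (x * p.1.2 * x⁻¹) = x * g * x⁻¹
    calc x * p.1.1 * x⁻¹ * (x * p.1.2 * x⁻¹) = x * (p.1.1 * p.1.2) * x⁻¹ := by group
      _ = x * g * x⁻¹ := by rw [this]

/-- `|C(t) \ K| = k` -/
lemma card_cent_diff {t s : G} {K : Subgroup G} (h : Hyp t s K) :
    Nat.card {u : G // u ∈ Subgroup.centralizer ({t} : Set G) ∧ u ∉ K} = Nat.card K := by
  classical
  have h1 := (Cfsg.Agent.Lib.Helper5.BSWB1.card_centralizer h).1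
  rw [Nat.card_eq_fintype_card, Fintype.card_subtype] at h1 ⊢
  have hK : Nat.card K = (Finset.univ.filter (fun u : G => u ∈ K)).card := by
    rw [Nat.card_eq_fintype_card, Fintype.card_subtype]
  have hsplit := Finset.card_filter_add_card_filter_not
    (s := Finset.univ.filter (fun u : G => u ∈ Subgroup.centralizer ({t} : Set G)))
    (fun u : G => u ∈ K)
  rw [Finset.filter_filter, Finset.filter_filter] at hsplit
  have e1 : (Finset.univ.filter (fun u : G => u ∈ Subgroup.centralizer ({t} : Set G) ∧ u ∈ K)) =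
      Finset.univ.filter (fun u : G => u ∈ K) := by
    ext u
    simp only [Finset.mem_filter, Finset.mem_univ, true_and]
    exact ⟨fun hh => hh.2, fun hh => ⟨h.hKH hh, hh⟩⟩
  rw [e1, ← hK, h1] at hsplit
  omega

/-- a factor of `g' ∈ K \ 1` as a product of two involutions lies in `C(t) \ K` -/
lemma fst_mem {t s : G} {K : Subgroup G} (h : Hyp t s K) {g' : G} (hx : g' ∈ K) (hg'1 : g' ≠ 1)
    {a b : G} (hu : orderOf a = 2) (hv : orderOf b = 2) (huv : a * b = g') :
    a ∈ Subgroup.centralizer ({t} : Set G) ∧ a ∉ K := by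
  constructor
  · have hinv := Cfsg.Agent.Lib.Helper14.BSWCE4.inverts_of_mul hu hv huv
    apply Cfsg.Agent.Lib.Helper5.BSWB4.conj_mem_cent h a g' hx hg'1
    rw [hinv]; exact K.inv_mem hx
  · intro huK
    have hvK : b ∈ K := by
      have : b = a⁻¹ * g' := by rw [← huv]; group
      rw [this]; exact K.mul_mem (K.inv_mem huK) hx
    have e1 := Cfsg.Agent.Lib.Helper5.BSWB2.eq_t_of_mem h _ huK hu
    have e2 := Cfsg.Agent.Lib.Helper5.BSWB2.eq_t_of_mem h _ hvK hv
    apply hg'1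
    rw [← huv, e1, e2]
    exact Cfsg.Agent.Lib.Helper5.BSWB1.t_mul_t h

/-- conversely -/
lemma orders_of_mem {t s : G} {K : Subgroup G} (h : Hyp t s K) {g' : G} (hx : g' ∈ K)
    {a : G} (ha : a ∈ Subgroup.centralizer ({t} : Set G)) (haK : a ∉ K) :
    orderOf a = 2 ∧ orderOf (a⁻¹ * g') = 2 := by
  have hB3 := Cfsg.Agent.Lib.Helper5.BSWB3.mem_cent_cases h
  constructor
  · rcases hB3 a ha with hK | ⟨-, h2, -⟩
    · exact absurd hK haK
    · exact h2
  · have hmem : a⁻¹ * g' ∈ Subgroup.centralizer ({t} : Set G) :=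
      Subgroup.mul_mem _ (Subgroup.inv_mem _ ha) (h.hKH hx)
    rcases hB3 _ hmem with hK | ⟨-, h2, -⟩
    · exfalso
      apply haK
      have : a = g' * (a⁻¹ * g')⁻¹ := by group
      rw [this]; exact K.mul_mem hx (K.inv_mem hK)
    · exact h2

/-- **E1** `pairCount = k` on `KK`. -/
theorem pairCount_of_mem_KK {t s : G} {K : Subgroup G} (h : Hyp t s K) (g : G) (hg : g ∈ KK K) :
    pairCount g = Nat.card K := by
  classical
  obtain ⟨hg1, x, hx⟩ := hg
  rw [← pairCount_conj x g, ← card_cent_diff h]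
  have hg'1 : x * g * x⁻¹ ≠ 1 := by
    intro h1
    apply hg1
    have : g = x⁻¹ * (x * g * x⁻¹) * x := by group
    rw [this, h1]; group
  generalize x * g * x⁻¹ = g' at hx hg'1
  unfold pairCount
  refine Nat.card_congr ?_
  refine
    { toFun := fun p => ⟨p.1.1, fst_mem h hx hg'1 p.2.1 p.2.2.1 p.2.2.2⟩
      invFun := fun u => ⟨(u.1, u.1⁻¹ * g'), (orders_of_mem h hx u.2.1 u.2.2).1,
        (orders_of_mem h hx u.2.1 u.2.2).2, by group⟩
      left_inv := ?_
      right_inv := ?_ }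
  · rintro ⟨⟨a, b⟩, ha, hb, hab⟩
    apply Subtype.ext
    show (a, a⁻¹ * g') = (a, b)
    rw [← hab]
    congr 1
    group
  · rintro ⟨u, hu⟩
    rfl

end Cfsg.Agent.Lib.Helper14.BSWCE1
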