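import Mathlib
import Cfsg.Prelude.Def_Characters
import Cfsg.Agent.Lib.Helper24.BSWDefs
import Cfsg.Agent.Lib.Helper1.BSWCDefs
import Cfsg.Agent.Lib.Helper10.PowTwistChar
import Cfsg.Agent.Lib.Helper5.BSWB1
import Cfsg.Agent.Lib.Helper5.BSWB3
import Cfsg.Agent.Lib.Helper5.BSWB4

/-!
# S3282 batch 2 leaf E5 (helper14): `card_KK`

Double counting of `{(g, w) : w ≠ 1, g⁻¹ w g ∈ K}`: for each `g` there are `k - 1` such `w`;
for each `w ∈ KK` the `g` form a coset of `C(t)` (`2k` elements).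
-/

set_option autoImplicit false
open Cfsg Cfsg.Agent.Lib.Helper24.BSW Cfsg.Agent.CharLib Cfsg.Agent.Lib.Helper1.BSWC
open scoped ComplexConjugate

namespace Cfsg.Agent.Lib.Helper14.BSWCE5

universe u

variable {G : Type u} [Group G] [Fintype G]

/-- `C(t)` normalizes `K` -/
lemma conj_mem_K {t s : G} {K : Subgroup G} (h : Hyp t s K) (c : G)
    (hc : c ∈ Subgroup.centralizer ({t} : Set G)) (z : G) (hz : z ∈ K) : c * z * c⁻¹ ∈ K := by
  rcases Cfsg.Agent.Lib.Helper5.BSWB3.mem_cent_cases h c hc with hcK | ⟨-, -, hinv⟩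
  · exact K.mul_mem (K.mul_mem hcK hz) (K.inv_mem hcK)
  · rw [hinv z hz]; exact K.inv_mem hz

/-- **E5** `|KK| * 2k = |G| (k - 1)`. -/
theorem card_KK {t s : G} {K : Subgroup G} (h : Hyp t s K) :
    Nat.card (KK K) * (2 * Nat.card K) = Nat.card G * (Nat.card K - 1) := by
  classical
  set k := Nat.card K with hk
  set S : Finset G := Finset.univ.filter (fun w => w ∈ KK K) with hS
  set K1 : Finset G := (Finset.univ.filter (fun z => z ∈ K)).erase 1 with hK1
  set Cf : Finset G := Finset.univ.filter (fun c => c ∈ Subgroup.centralizer ({t} : Set G)) with hCf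
  have hScard : S.card = Nat.card (KK K) := by
    rw [hS, Nat.card_eq_fintype_card, Fintype.card_subtype]
  have hKcard : (Finset.univ.filter (fun z => z ∈ K)).card = k := by
    rw [hk, Nat.card_eq_fintype_card, Fintype.card_subtype]
  have hK1card : K1.card = k - 1 := by
    rw [hK1, Finset.card_erase_of_mem (by simp [K.one_mem]), hKcard]
  have hCfcard : Cf.card = 2 * k := by
    rw [hCf, ← (Cfsg.Agent.Lib.Helper5.BSWB1.card_centralizer h).1, Nat.card_eq_fintype_card,
      Fintype.card_subtype]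
  let r : G → G → Prop := fun g w => g⁻¹ * w * g ∈ K
  have hdc := Finset.sum_card_bipartiteAbove_eq_sum_card_bipartiteBelow
    (s := (Finset.univ : Finset G)) (t := S) r
  -- left side: exactly `k - 1` for each `g`
  have hleft : ∀ g ∈ (Finset.univ : Finset G), (S.bipartiteAbove r g).card = k - 1 := by
    intro g _
    have hinj : Set.InjOn (fun z : G => g * z * g⁻¹) (K1 : Set G) := by
      intro a _ b _ hab
      simpa using hab
    rw [← hK1card, ← Finset.card_image_of_injOn hinj]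
    congr 1
    ext w
    rw [Finset.mem_bipartiteAbove, hS, Finset.mem_filter, Finset.mem_image]
    constructor
    · rintro ⟨⟨-, hwKK⟩, hr⟩
      refine ⟨g⁻¹ * w * g, ?_, by group⟩
      rw [hK1, Finset.mem_erase, Finset.mem_filter]
      refine ⟨?_, Finset.mem_univ _, hr⟩
      intro h1
      apply hwKK.1
      have : w = g * (g⁻¹ * w * g) * g⁻¹ := by group
      rw [this, h1]; group
    · rintro ⟨z, hz, rfl⟩
      rw [hK1, Finset.mem_erase, Finset.mem_filter] at hz
      obtain ⟨hz1, -, hzK⟩ := hz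
      refine ⟨⟨Finset.mem_univ _, ?_, g⁻¹, ?_⟩, ?_⟩
      · intro h1
        apply hz1
        have : z = g⁻¹ * (g * z * g⁻¹) * g := by group
        rw [this, h1]; group
      · have : g⁻¹ * (g * z * g⁻¹) * g⁻¹⁻¹ = z := by group
        rw [this]; exact hzK
      · show g⁻¹ * (g * z * g⁻¹) * g ∈ K
        have : g⁻¹ * (g * z * g⁻¹) * g = z := by group
        rw [this]; exact hzK
  -- right side: exactly `2k` for each `w ∈ KK`
  have hright : ∀ w ∈ S, ((Finset.univ : Finset G).bipartiteBelow r w).card = 2 * k := by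
    intro w hw
    rw [hS, Finset.mem_filter] at hw
    obtain ⟨-, hw1, x, hx⟩ := hw
    set g₀ : G := x⁻¹ with hg₀
    have hg₀K : g₀⁻¹ * w * g₀ ∈ K := by
      rw [hg₀, inv_inv]; exact hx
    have hz₀1 : g₀⁻¹ * w * g₀ ≠ 1 := by
      intro h1
      apply hw1
      have : w = g₀ * (g₀⁻¹ * w * g₀) * g₀⁻¹ := by group
      rw [this, h1]; group
    have hinj : Set.InjOn (fun c : G => g₀ * c) (Cf : Set G) := by
      intro a _ b _ hab
      simpa using hab
    rw [← hCfcard, ← Finset.card_image_of_injOn hinj]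
    congr 1
    ext g
    rw [Finset.mem_bipartiteBelow, Finset.mem_image]
    constructor
    · rintro ⟨-, hr⟩
      have hr' : g⁻¹ * w * g ∈ K := hr
      refine ⟨g₀⁻¹ * g, ?_, by group⟩
      rw [hCf, Finset.mem_filter]
      refine ⟨Finset.mem_univ _, ?_⟩
      -- (g₀⁻¹ g) z (g₀⁻¹ g)⁻¹ = z₀ ∈ K with z = g⁻¹ w g ≠ 1
      have hz1 : g⁻¹ * w * g ≠ 1 := by
        intro h1
        apply hw1
        have : w = g * (g⁻¹ * w * g) * g⁻¹ := by group
        rw [this, h1]; group
      apply Cfsg.Agent.Lib.Helper5.BSWB4.conj_mem_cent h (g₀⁻¹ * g) (g⁻¹ * w * g) hr' hz1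
      have : g₀⁻¹ * g * (g⁻¹ * w * g) * (g₀⁻¹ * g)⁻¹ = g₀⁻¹ * w * g₀ := by group
      rw [this]; exact hg₀K
    · rintro ⟨c, hc, rfl⟩
      rw [hCf, Finset.mem_filter] at hc
      refine ⟨Finset.mem_univ _, ?_⟩
      show (g₀ * c)⁻¹ * w * (g₀ * c) ∈ K
      have hc' : c⁻¹ ∈ Subgroup.centralizer ({t} : Set G) := Subgroup.inv_mem _ hc.2
      have := conj_mem_K h c⁻¹ hc' _ hg₀K
      have e : (g₀ * c)⁻¹ * w * (g₀ * c) = c⁻¹ * (g₀⁻¹ * w * g₀) * c⁻¹⁻¹ := by group
      rw [e]; exact this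
  have h1 : Fintype.card G * (k - 1) = S.card * (2 * k) := by
    calc Fintype.card G * (k - 1) = ∑ _g ∈ (Finset.univ : Finset G), (k - 1) := by
          rw [Finset.sum_const, Finset.card_univ, smul_eq_mul]
      _ = ∑ g ∈ (Finset.univ : Finset G), (S.bipartiteAbove r g).card :=
          (Finset.sum_congr rfl hleft).symm
      _ = ∑ w ∈ S, ((Finset.univ : Finset G).bipartiteBelow r w).card := hdc
      _ = ∑ _w ∈ S, 2 * k := Finset.sum_congr rfl hright
      _ = S.card * (2 * k) := by rw [Finset.sum_const, smul_eq_mul]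
  rw [← hScard, ← h1, Nat.card_eq_fintype_card]

end Cfsg.Agent.Lib.Helper14.BSWCE5
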