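import Mathlib
import Cfsg.Prelude.Def_Characters
import Cfsg.Agent.Lib.Helper24.BSWDefs

/-!
# S3282 leaf B0a (helper14): conjugation invariance of `KK`, `RR`, `invCount`; dichotomy
-/

set_option autoImplicit false
open Cfsg Cfsg.Agent.Lib.Helper24.BSW

namespace Cfsg.Agent.Lib.Helper14.BSWB0a

variable {G : Type*} [Group G] [Finite G]

omit [Finite G] in
lemma conj_ne_one_iff (x g : G) : x * g * x⁻¹ ≠ 1 ↔ g ≠ 1 := by
  rw [Ne, Ne, conj_eq_one_iff]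

omit [Finite G] in
lemma orderOf_conj' (x y : G) : orderOf (x * y * x⁻¹) = orderOf y := by
  have h : SemiconjBy x y (x * y * x⁻¹) := by
    unfold SemiconjBy; group
  exact (h.orderOf_eq).symm

theorem conj_mem_KK_iff (K : Subgroup G) (x g : G) : x * g * x⁻¹ ∈ KK K ↔ g ∈ KK K := by
  unfold KK
  simp only [Set.mem_setOf_eq]
  rw [conj_ne_one_iff]
  constructor
  · rintro ⟨hg, y, hy⟩
    refine ⟨hg, y * x, ?_⟩
    have : y * x * g * (y * x)⁻¹ = y * (x * g * x⁻¹) * y⁻¹ := by group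
    rw [this]; exact hy
  · rintro ⟨hg, y, hy⟩
    refine ⟨hg, y * x⁻¹, ?_⟩
    have : y * x⁻¹ * (x * g * x⁻¹) * (y * x⁻¹)⁻¹ = y * g * y⁻¹ := by group
    rw [this]; exact hy

theorem conj_mem_RR_iff (K : Subgroup G) (x g : G) : x * g * x⁻¹ ∈ RR K ↔ g ∈ RR K := by
  unfold RR
  simp only [Set.mem_setOf_eq]
  rw [conj_ne_one_iff]
  constructor
  · rintro ⟨hg, h⟩
    refine ⟨hg, fun y hy => h (y * x⁻¹) ?_⟩
    have : y * x⁻¹ * (x * g * x⁻¹) * (y * x⁻¹)⁻¹ = y * g * y⁻¹ := by group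
    rw [this]; exact hy
  · rintro ⟨hg, h⟩
    refine ⟨hg, fun y hy => h (y * x) ?_⟩
    have : y * x * g * (y * x)⁻¹ = y * (x * g * x⁻¹) * y⁻¹ := by group
    rw [this]; exact hy

theorem invCount_conj (x y : G) : invCount (x * y * x⁻¹) = invCount y := by
  unfold invCount
  refine Nat.card_congr ?_
  refine
    { toFun := fun u => ⟨x⁻¹ * u.1 * x, ?_, ?_⟩
      invFun := fun u => ⟨x * u.1 * x⁻¹, ?_, ?_⟩
      left_inv := fun u => by apply Subtype.ext; simp [mul_assoc]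
      right_inv := fun u => by apply Subtype.ext; simp [mul_assoc] }
  · have := u.2.1
    have h2 : x⁻¹ * u.1 * x = x⁻¹ * u.1 * (x⁻¹)⁻¹ := by rw [inv_inv]
    rw [h2, orderOf_conj']; exact this
  · have := u.2.2
    have h3 : x⁻¹ * (u.1 * (x * y * x⁻¹) * u.1⁻¹) * x = x⁻¹ * (x * y * x⁻¹)⁻¹ * x := by rw [this]
    calc x⁻¹ * u.1 * x * y * (x⁻¹ * u.1 * x)⁻¹ = x⁻¹ * (u.1 * (x * y * x⁻¹) * u.1⁻¹) * x := by group
      _ = x⁻¹ * (x * y * x⁻¹)⁻¹ * x := h3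
      _ = y⁻¹ := by group
  · rw [orderOf_conj']; exact u.2.1
  · have := u.2.2
    calc x * u.1 * x⁻¹ * (x * y * x⁻¹) * (x * u.1 * x⁻¹)⁻¹ = x * (u.1 * y * u.1⁻¹) * x⁻¹ := by group
      _ = x * y⁻¹ * x⁻¹ := by rw [this]
      _ = (x * y * x⁻¹)⁻¹ := by group

theorem mem_KK_or_mem_RR (K : Subgroup G) (g : G) (hg : g ≠ 1) : g ∈ KK K ∨ g ∈ RR K := by
  by_cases h : ∃ x : G, x * g * x⁻¹ ∈ K
  · exact Or.inl ⟨hg, h⟩
  · push Not at h
    exact Or.inr ⟨hg, h⟩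

theorem not_mem_RR_of_mem_KK (K : Subgroup G) (g : G) (hg : g ∈ KK K) : g ∉ RR K := by
  rintro ⟨-, h⟩
  obtain ⟨-, x, hx⟩ := hg
  exact h x hx

theorem invCount_ne_zero_iff (y : G) :
    invCount y ≠ 0 ↔ ∃ u : G, orderOf u = 2 ∧ u * y * u⁻¹ = y⁻¹ := by
  unfold invCount
  rw [Nat.card_ne_zero]
  constructor
  · rintro ⟨⟨u, hu⟩, -⟩
    exact ⟨u, hu⟩
  · rintro ⟨u, hu⟩
    exact ⟨⟨⟨u, hu⟩⟩, inferInstance⟩

end Cfsg.Agent.Lib.Helper14.BSWB0a
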