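import Mathlib
import Cfsg.Agent.Lib.Helper5.Symp

/-!
# The order of the symplectic group `Sp_{2m}(q)` by counting symplectic bases
-/

namespace Cfsg.Agent.Lib.Helper14

open Finset Cfsg.Agent.Lib.Helper5

section general

variable {F : Type*} [Field F] [Fintype F]

/-- fibers of a surjective additive map onto a finite field all have `|W|/q` elements -/
theorem card_fiber_mul {W : Type*} [AddCommGroup W] [Finite W] (φ : W →+ F)
    (hφ : Function.Surjective φ) (c : F) :
    Nat.card {w : W // φ w = c} * Fintype.card F = Nat.card W := by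
  classical
  letI : Fintype W := Fintype.ofFinite W
  have hfib : ∀ d : F, (univ.filter (fun y : W => φ y = d)).card =
      (univ.filter (fun y : W => φ y = c)).card := by
    intro d
    exact AddMonoidHom.card_fiber_eq_of_mem_range φ (hφ d) (hφ c)
  have htot : (univ : Finset W).card =
      ∑ d : F, (univ.filter (fun y : W => φ y = d)).card :=
    Finset.card_eq_sum_card_fiberwise (f := fun y => φ y) (t := univ) (fun _ _ => Finset.mem_univ _)
  rw [Finset.sum_congr rfl (fun d _ => hfib d), Finset.sum_const, Finset.card_univ, Finset.card_univ,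
    smul_eq_mul] at htot
  rw [Nat.card_eq_fintype_card, Nat.card_eq_fintype_card, Fintype.card_subtype, htot, mul_comm]

end general

section symp

variable {F : Type*} [Field F] {m k : ℕ}

theorem sympForm_sum_left {ι : Type*} (s : Finset ι) (g : ι → (Fin m ⊕ Fin m → F))
    (z : Fin m ⊕ Fin m → F) :
    Cfsg.sympForm m F (∑ i ∈ s, g i) z = ∑ i ∈ s, Cfsg.sympForm m F (g i) z := by
  classical
  induction s using Finset.induction_on with
  | empty => simp [sympForm_zero_left]
  | insert a s ha ih => rw [Finset.sum_insert ha, Finset.sum_insert ha, sympForm_add_left, ih]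

theorem sympForm_zero_right (z : Fin m ⊕ Fin m → F) : Cfsg.sympForm m F z 0 = 0 := by
  rw [sympForm_swap, sympForm_zero_left, neg_zero]

theorem sympForm_sum_right {ι : Type*} (s : Finset ι) (g : ι → (Fin m ⊕ Fin m → F))
    (z : Fin m ⊕ Fin m → F) :
    Cfsg.sympForm m F z (∑ i ∈ s, g i) = ∑ i ∈ s, Cfsg.sympForm m F z (g i) := by
  classical
  induction s using Finset.induction_on with
  | empty => simp [sympForm_zero_right]
  | insert a s ha ih => rw [Finset.sum_insert ha, Finset.sum_insert ha, sympForm_add_right, ih]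

/-- hyperbolic systems of `k` pairs -/
structure HypSys (F : Type*) [Field F] (m k : ℕ) (e f : Fin k → (Fin m ⊕ Fin m → F)) : Prop where
  ee : ∀ i j, Cfsg.sympForm m F (e i) (e j) = 0
  ff : ∀ i j, Cfsg.sympForm m F (f i) (f j) = 0
  fe : ∀ i j, Cfsg.sympForm m F (f i) (e j) = if i = j then 1 else 0

theorem HypSys.ef {e f : Fin k → (Fin m ⊕ Fin m → F)} (h : HypSys F m k e f) (i j : Fin k) :
    Cfsg.sympForm m F (e i) (f j) = if i = j then -1 else 0 := by
  rw [sympForm_swap, h.fe j i]
  by_cases hij : i = j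
  · subst hij; simp
  · rw [if_neg hij, if_neg (Ne.symm hij), neg_zero]

/-- vectors perpendicular to the system -/
def PerpS (F : Type*) [Field F] (m : ℕ) {k : ℕ} (e f : Fin k → (Fin m ⊕ Fin m → F))
    (w : Fin m ⊕ Fin m → F) : Prop :=
  ∀ i, Cfsg.sympForm m F w (e i) = 0 ∧ Cfsg.sympForm m F w (f i) = 0

/-- the span part `∑ a i • e i + ∑ b i • f i` -/
def hcomb (e f : Fin k → (Fin m ⊕ Fin m → F)) (a b : Fin k → F) : Fin m ⊕ Fin m → F :=
  (∑ i, a i • e i) + ∑ i, b i • f i

theorem sympForm_hcomb_e {e f : Fin k → (Fin m ⊕ Fin m → F)} (h : HypSys F m k e f)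
    (a b : Fin k → F) (j : Fin k) :
    Cfsg.sympForm m F (hcomb e f a b) (e j) = b j := by
  unfold hcomb
  rw [sympForm_add_left, sympForm_sum_left, sympForm_sum_left]
  simp only [sympForm_smul_left, h.ee, h.fe, mul_zero, Finset.sum_const_zero, zero_add]
  simp

theorem sympForm_hcomb_f {e f : Fin k → (Fin m ⊕ Fin m → F)} (h : HypSys F m k e f)
    (a b : Fin k → F) (j : Fin k) :
    Cfsg.sympForm m F (hcomb e f a b) (f j) = - a j := by
  unfold hcomb
  rw [sympForm_add_left, sympForm_sum_left, sympForm_sum_left]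
  simp only [sympForm_smul_left, h.ff, h.ef, mul_zero, Finset.sum_const_zero, add_zero]
  simp

/-- coordinates and projection -/
def coordA (e f : Fin k → (Fin m ⊕ Fin m → F)) (v : Fin m ⊕ Fin m → F) : Fin k → F :=
  fun i => Cfsg.sympForm m F (f i) v

/-- second coordinates -/
def coordB (e f : Fin k → (Fin m ⊕ Fin m → F)) (v : Fin m ⊕ Fin m → F) : Fin k → F :=
  fun i => Cfsg.sympForm m F v (e i)

theorem perpS_sub_hcomb {e f : Fin k → (Fin m ⊕ Fin m → F)} (h : HypSys F m k e f)
    (v : Fin m ⊕ Fin m → F) :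
    PerpS F m e f (v - hcomb e f (coordA e f v) (coordB e f v)) := by
  intro j
  constructor
  · rw [sympForm_sub_left, sympForm_hcomb_e h]
    simp [coordB]
  · rw [sympForm_sub_left, sympForm_hcomb_f h]
    simp only [coordA]
    rw [sympForm_swap m (f j) v]
    ring

theorem coordA_add_hcomb {e f : Fin k → (Fin m ⊕ Fin m → F)} (h : HypSys F m k e f)
    (w : Fin m ⊕ Fin m → F) (hw : PerpS F m e f w) (a b : Fin k → F) :
    coordA e f (w + hcomb e f a b) = a := by
  funext j
  simp only [coordA]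
  rw [sympForm_swap, sympForm_add_left, (hw j).2, zero_add, sympForm_hcomb_f h, neg_neg]

theorem coordB_add_hcomb {e f : Fin k → (Fin m ⊕ Fin m → F)} (h : HypSys F m k e f)
    (w : Fin m ⊕ Fin m → F) (hw : PerpS F m e f w) (a b : Fin k → F) :
    coordB e f (w + hcomb e f a b) = b := by
  funext j
  simp only [coordB]
  rw [sympForm_add_left, (hw j).1, zero_add, sympForm_hcomb_e h]

/-- decomposition `V ≃ F^k × F^k × W` -/
def decompEquiv {e f : Fin k → (Fin m ⊕ Fin m → F)} (h : HypSys F m k e f) :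
    (Fin m ⊕ Fin m → F) ≃ ((Fin k → F) × (Fin k → F)) × {w : Fin m ⊕ Fin m → F // PerpS F m e f w} where
  toFun v := ((coordA e f v, coordB e f v),
    ⟨v - hcomb e f (coordA e f v) (coordB e f v), perpS_sub_hcomb h v⟩)
  invFun p := p.2.1 + hcomb e f p.1.1 p.1.2
  left_inv v := by simp
  right_inv p := by
    obtain ⟨⟨a, b⟩, ⟨w, hw⟩⟩ := p
    simp only [coordA_add_hcomb h w hw, coordB_add_hcomb h w hw, add_sub_cancel_right]

theorem card_perpS [Fintype F] {e f : Fin k → (Fin m ⊕ Fin m → F)} (h : HypSys F m k e f) :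
    Nat.card {w : Fin m ⊕ Fin m → F // PerpS F m e f w} * Fintype.card F ^ (2 * k) =
      Fintype.card F ^ (2 * m) := by
  classical
  have h1 := Nat.card_congr (decompEquiv h)
  rw [Nat.card_prod, Nat.card_prod, Nat.card_eq_fintype_card, Nat.card_eq_fintype_card,
    Fintype.card_fun, Fintype.card_fun, Fintype.card_sum, Fintype.card_fin] at h1
  simp only [Fintype.card_fin] at h1
  rw [two_mul, two_mul, h1, pow_add]
  ring

/-- the perpendicular space as a submodule -/
def perpSub (F : Type*) [Field F] (m : ℕ) {k : ℕ} (e f : Fin k → (Fin m ⊕ Fin m → F)) :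
    Submodule F (Fin m ⊕ Fin m → F) where
  carrier := {w | PerpS F m e f w}
  add_mem' := by
    intro a b ha hb i
    constructor
    · rw [sympForm_add_left, (ha i).1, (hb i).1, add_zero]
    · rw [sympForm_add_left, (ha i).2, (hb i).2, add_zero]
  zero_mem' := by
    intro i
    exact ⟨sympForm_zero_left _, sympForm_zero_left _⟩
  smul_mem' := by
    intro c a ha i
    constructor
    · rw [sympForm_smul_left, (ha i).1, mul_zero]
    · rw [sympForm_smul_left, (ha i).2, mul_zero]

theorem mem_perpSub {e f : Fin k → (Fin m ⊕ Fin m → F)} (w : Fin m ⊕ Fin m → F) :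
    w ∈ perpSub F m e f ↔ PerpS F m e f w := Iff.rfl

theorem sympForm_hcomb_perp {e f : Fin k → (Fin m ⊕ Fin m → F)}
    (a b : Fin k → F) (w : Fin m ⊕ Fin m → F) (hw : PerpS F m e f w) :
    Cfsg.sympForm m F (hcomb e f a b) w = 0 := by
  unfold hcomb
  rw [sympForm_add_left, sympForm_sum_left, sympForm_sum_left]
  have h1 : ∀ i, Cfsg.sympForm m F (e i) w = 0 := by
    intro i; rw [sympForm_swap, (hw i).1, neg_zero]
  have h2 : ∀ i, Cfsg.sympForm m F (f i) w = 0 := by
    intro i; rw [sympForm_swap, (hw i).2, neg_zero]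
  simp only [sympForm_smul_left, h1, h2, mul_zero, Finset.sum_const_zero, add_zero]

/-- for nonzero `e'` in the perpendicular space, the number of `f'` there with `ω(f', e') = 1` -/
theorem card_partner [Fintype F] {e f : Fin k → (Fin m ⊕ Fin m → F)} (h : HypSys F m k e f)
    (e' : Fin m ⊕ Fin m → F) (he' : PerpS F m e f e') (hne : e' ≠ 0) :
    Nat.card {f' : Fin m ⊕ Fin m → F // PerpS F m e f f' ∧ Cfsg.sympForm m F f' e' = 1} *
      Fintype.card F = Nat.card {w : Fin m ⊕ Fin m → F // PerpS F m e f w} := by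
  classical
  let φ : perpSub F m e f →+ F :=
    { toFun := fun w => Cfsg.sympForm m F w.1 e'
      map_zero' := sympForm_zero_left _
      map_add' := fun a b => sympForm_add_left _ _ _ }
  have hφ : Function.Surjective φ := by
    obtain ⟨a, ha⟩ := sympForm_nondeg e' hne
    let w0 : Fin m ⊕ Fin m → F := a - hcomb e f (coordA e f a) (coordB e f a)
    have hw0 : PerpS F m e f w0 := perpS_sub_hcomb h a
    have hval : Cfsg.sympForm m F w0 e' ≠ 0 := by
      simp only [w0]
      rw [sympForm_sub_left, sympForm_hcomb_perp _ _ e' he', sub_zero, sympForm_swap]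
      exact neg_ne_zero.mpr ha
    intro c
    refine ⟨⟨(c / Cfsg.sympForm m F w0 e') • w0, (perpSub F m e f).smul_mem _ hw0⟩, ?_⟩
    show Cfsg.sympForm m F ((c / Cfsg.sympForm m F w0 e') • w0) e' = c
    rw [sympForm_smul_left]
    field_simp
  have := card_fiber_mul φ hφ 1
  have h2 : Nat.card {w : Fin m ⊕ Fin m → F // PerpS F m e f w} = Nat.card (perpSub F m e f) := rfl
  rw [h2, ← this]
  congr 1
  apply Nat.card_congr
  exact (Equiv.subtypeSubtypeEquivSubtypeInter (fun w => PerpS F m e f w)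
    (fun w => Cfsg.sympForm m F w e' = 1)).symm

/-- number of hyperbolic pairs inside the perpendicular space of a system of `k` pairs in
dimension `2(k+j+1)`. -/
theorem card_pairs [Fintype F] {j : ℕ} {e f : Fin k → (Fin (k + j + 1) ⊕ Fin (k + j + 1) → F)}
    (h : HypSys F (k + j + 1) k e f) :
    Nat.card {p : (Fin (k + j + 1) ⊕ Fin (k + j + 1) → F) × (Fin (k + j + 1) ⊕ Fin (k + j + 1) → F) //
      PerpS F (k + j + 1) e f p.1 ∧ PerpS F (k + j + 1) e f p.2 ∧
        Cfsg.sympForm (k + j + 1) F p.2 p.1 = 1} =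
      (Fintype.card F ^ (2 * (j + 1)) - 1) * Fintype.card F ^ (2 * j + 1) := by
  classical
  have hq : 0 < Fintype.card F := Fintype.card_pos
  have hW : Nat.card {w : Fin (k + j + 1) ⊕ Fin (k + j + 1) → F // PerpS F (k + j + 1) e f w} =
      Fintype.card F ^ (2 * (j + 1)) := by
    have := card_perpS h
    have h2 : Fintype.card F ^ (2 * (k + j + 1)) =
        Fintype.card F ^ (2 * (j + 1)) * Fintype.card F ^ (2 * k) := by
      rw [← pow_add]; congr 1; ring
    rw [h2] at this
    exact Nat.eq_of_mul_eq_mul_right (pow_pos hq _) this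
  rw [Nat.card_eq_fintype_card, Fintype.card_subtype, Finset.card_filter, Fintype.sum_prod_type]
  have h1 : ∀ e' : Fin (k + j + 1) ⊕ Fin (k + j + 1) → F,
      (∑ f' : Fin (k + j + 1) ⊕ Fin (k + j + 1) → F,
        if (PerpS F (k + j + 1) e f e' ∧ PerpS F (k + j + 1) e f f' ∧
          Cfsg.sympForm (k + j + 1) F f' e' = 1) then 1 else 0) =
      if (PerpS F (k + j + 1) e f e' ∧ e' ≠ 0) then Fintype.card F ^ (2 * j + 1) else 0 := by
    intro e'
    by_cases he' : PerpS F (k + j + 1) e f e'
    · by_cases hne : e' = 0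
      · subst hne
        rw [if_neg (by simp)]
        apply Finset.sum_eq_zero
        intro f' _
        rw [if_neg]
        rintro ⟨_, _, h3⟩
        rw [sympForm_zero_right] at h3
        exact zero_ne_one h3
      · rw [if_pos ⟨he', hne⟩]
        simp only [he', true_and]
        rw [← Finset.card_filter, ← Fintype.card_subtype, ← Nat.card_eq_fintype_card]
        have := card_partner h e' he' hne
        rw [hW] at this
        have h3 : Fintype.card F ^ (2 * (j + 1)) = Fintype.card F ^ (2 * j + 1) * Fintype.card F := by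
          rw [← pow_succ]; congr 1
        rw [h3] at this
        exact Nat.eq_of_mul_eq_mul_right hq this
    · rw [if_neg (fun h => he' h.1)]
      simp only [he', false_and, if_false, Finset.sum_const_zero]
  simp only []
  rw [Finset.sum_congr rfl (fun e' _ => h1 e'), ← Finset.sum_filter, Finset.sum_const, smul_eq_mul]
  congr 1
  -- number of nonzero elements of W
  have h4 : (univ.filter (fun e' : Fin (k + j + 1) ⊕ Fin (k + j + 1) → F =>
      PerpS F (k + j + 1) e f e' ∧ e' ≠ 0)) =
      (univ.filter (fun e' : Fin (k + j + 1) ⊕ Fin (k + j + 1) → F =>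
        PerpS F (k + j + 1) e f e')).erase 0 := by
    ext x
    simp only [mem_filter, mem_univ, true_and, mem_erase]
    tauto
  rw [h4, Finset.card_erase_of_mem, ← Fintype.card_subtype, ← Nat.card_eq_fintype_card, hW]
  simp only [mem_filter, mem_univ, true_and]
  intro i
  exact ⟨sympForm_zero_left _, sympForm_zero_left _⟩

theorem hypSys_succ_iff (e f : Fin (k + 1) → (Fin m ⊕ Fin m → F)) :
    HypSys F m (k + 1) e f ↔
      HypSys F m k (Fin.tail e) (Fin.tail f) ∧ PerpS F m (Fin.tail e) (Fin.tail f) (e 0) ∧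
        PerpS F m (Fin.tail e) (Fin.tail f) (f 0) ∧ Cfsg.sympForm m F (f 0) (e 0) = 1 := by
  constructor
  · intro h
    refine ⟨⟨fun i j => h.ee i.succ j.succ, fun i j => h.ff i.succ j.succ, fun i j => ?_⟩,
      fun i => ⟨h.ee 0 i.succ, ?_⟩, fun i => ⟨?_, h.ff 0 i.succ⟩, ?_⟩
    · have := h.fe i.succ j.succ
      simp only [Fin.succ_inj] at this
      exact this
    · have := h.ef 0 i.succ
      rw [if_neg (Fin.succ_ne_zero i).symm] at this
      exact this
    · have := h.fe 0 i.succ
      rw [if_neg (Fin.succ_ne_zero i).symm] at this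
      exact this
    · have := h.fe 0 0
      rwa [if_pos rfl] at this
  · rintro ⟨h1, h2, h3, h4⟩
    refine ⟨fun i j => ?_, fun i j => ?_, fun i j => ?_⟩
    · refine Fin.cases ?_ (fun i' => ?_) i <;> refine Fin.cases ?_ (fun j' => ?_) j
      · exact sympForm_self m _
      · exact (h2 j').1
      · rw [sympForm_swap]
        have := (h2 i').1
        simp only [Fin.tail] at this
        rw [this, neg_zero]
      · exact h1.ee i' j'
    · refine Fin.cases ?_ (fun i' => ?_) i <;> refine Fin.cases ?_ (fun j' => ?_) j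
      · exact sympForm_self m _
      · exact (h3 j').2
      · rw [sympForm_swap]
        have := (h3 i').2
        simp only [Fin.tail] at this
        rw [this, neg_zero]
      · exact h1.ff i' j'
    · refine Fin.cases ?_ (fun i' => ?_) i <;> refine Fin.cases ?_ (fun j' => ?_) j
      · rw [if_pos rfl]; exact h4
      · rw [if_neg (Fin.succ_ne_zero j').symm]
        exact (h3 j').1
      · rw [if_neg (Fin.succ_ne_zero i'), sympForm_swap]
        have := (h2 i').2
        simp only [Fin.tail] at this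
        rw [this, neg_zero]
      · have := h1.fe i' j'
        simp only [Fin.succ_inj]
        exact this

/-- the equivalence splitting off the first pair -/
def splitEquiv (V : Type*) (k : ℕ) :
    (Fin (k + 1) → V) × (Fin (k + 1) → V) ≃ ((Fin k → V) × (Fin k → V)) × (V × V) where
  toFun p := ((Fin.tail p.1, Fin.tail p.2), (p.1 0, p.2 0))
  invFun x := (Fin.cons x.2.1 x.1.1, Fin.cons x.2.2 x.1.2)
  left_inv p := by simp
  right_inv x := by simp

theorem card_hypSys_succ [Fintype F] (k j : ℕ) :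
    Nat.card {p : (Fin (k + 1) → (Fin (k + j + 1) ⊕ Fin (k + j + 1) → F)) ×
        (Fin (k + 1) → (Fin (k + j + 1) ⊕ Fin (k + j + 1) → F)) //
        HypSys F (k + j + 1) (k + 1) p.1 p.2} =
      Nat.card {p : (Fin k → (Fin (k + j + 1) ⊕ Fin (k + j + 1) → F)) ×
        (Fin k → (Fin (k + j + 1) ⊕ Fin (k + j + 1) → F)) //
        HypSys F (k + j + 1) k p.1 p.2} *
      ((Fintype.card F ^ (2 * (j + 1)) - 1) * Fintype.card F ^ (2 * j + 1)) := by
  classical
  have e : {p : (Fin (k + 1) → (Fin (k + j + 1) ⊕ Fin (k + j + 1) → F)) ×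
        (Fin (k + 1) → (Fin (k + j + 1) ⊕ Fin (k + j + 1) → F)) //
        HypSys F (k + j + 1) (k + 1) p.1 p.2} ≃
      {x : ((Fin k → (Fin (k + j + 1) ⊕ Fin (k + j + 1) → F)) ×
          (Fin k → (Fin (k + j + 1) ⊕ Fin (k + j + 1) → F))) ×
          ((Fin (k + j + 1) ⊕ Fin (k + j + 1) → F) × (Fin (k + j + 1) ⊕ Fin (k + j + 1) → F)) //
        HypSys F (k + j + 1) k x.1.1 x.1.2 ∧ PerpS F (k + j + 1) x.1.1 x.1.2 x.2.1 ∧
          PerpS F (k + j + 1) x.1.1 x.1.2 x.2.2 ∧
          Cfsg.sympForm (k + j + 1) F x.2.2 x.2.1 = 1} :=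
    Equiv.subtypeEquiv (splitEquiv _ k) (fun p => hypSys_succ_iff p.1 p.2)
  rw [Nat.card_congr e, Nat.card_eq_fintype_card, Fintype.card_subtype, Finset.card_filter,
    Fintype.sum_prod_type]
  have h1 : ∀ s : (Fin k → (Fin (k + j + 1) ⊕ Fin (k + j + 1) → F)) ×
          (Fin k → (Fin (k + j + 1) ⊕ Fin (k + j + 1) → F)),
      (∑ y : (Fin (k + j + 1) ⊕ Fin (k + j + 1) → F) × (Fin (k + j + 1) ⊕ Fin (k + j + 1) → F),
        if (HypSys F (k + j + 1) k s.1 s.2 ∧ PerpS F (k + j + 1) s.1 s.2 y.1 ∧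
          PerpS F (k + j + 1) s.1 s.2 y.2 ∧ Cfsg.sympForm (k + j + 1) F y.2 y.1 = 1) then 1 else 0) =
      if HypSys F (k + j + 1) k s.1 s.2 then
        ((Fintype.card F ^ (2 * (j + 1)) - 1) * Fintype.card F ^ (2 * j + 1)) else 0 := by
    intro s
    by_cases hs : HypSys F (k + j + 1) k s.1 s.2
    · rw [if_pos hs]
      simp only [hs, true_and]
      rw [← Finset.card_filter, ← Fintype.card_subtype, ← Nat.card_eq_fintype_card]
      exact card_pairs hs
    · rw [if_neg hs]
      simp only [hs, false_and, if_false, Finset.sum_const_zero]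
  simp only []
  rw [Finset.sum_congr rfl (fun s _ => h1 s), ← Finset.sum_filter, Finset.sum_const, smul_eq_mul,
    Nat.card_eq_fintype_card, Fintype.card_subtype]

theorem card_hypSys [Fintype F] (m : ℕ) : ∀ k, k ≤ m →
    Nat.card {p : (Fin k → (Fin m ⊕ Fin m → F)) × (Fin k → (Fin m ⊕ Fin m → F)) //
        HypSys F m k p.1 p.2} =
      ∏ i ∈ range k, ((Fintype.card F ^ (2 * (m - i)) - 1) * Fintype.card F ^ (2 * (m - i) - 1))
  | 0, _ => by
      rw [Finset.prod_range_zero, Nat.card_eq_one_iff_unique]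
      refine ⟨⟨?_⟩, ⟨⟨(fun i => i.elim0, fun i => i.elim0),
        ⟨fun i => i.elim0, fun i => i.elim0, fun i => i.elim0⟩⟩⟩⟩
      rintro ⟨⟨a, a'⟩, _⟩ ⟨⟨b, b'⟩, _⟩
      apply Subtype.ext
      apply Prod.ext <;> funext i <;> exact i.elim0
  | k + 1, hk => by
      have ih := card_hypSys m k (by omega)
      obtain ⟨j, rfl⟩ : ∃ j, m = k + j + 1 := ⟨m - k - 1, by omega⟩
      rw [card_hypSys_succ k j, ih, Finset.prod_range_succ]
      congr 2
      · congr 2
        omega
      · congr 1
        omega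

/-- the form on columns of `A` is the matrix `Aᵀ J A` -/
theorem sympForm_cols (A : Matrix (Fin m ⊕ Fin m) (Fin m ⊕ Fin m) F) (a b : Fin m ⊕ Fin m) :
    Cfsg.sympForm m F (fun r => A r a) (fun r => A r b) =
      (A.transpose * Matrix.J (Fin m) F * A) a b := by
  classical
  have h1 : (fun r => A r a) = A.mulVec (Pi.single a 1) := by
    rw [Matrix.mulVec_single_one]; rfl
  have h2 : (fun r => A r b) = A.mulVec (Pi.single b 1) := by
    rw [Matrix.mulVec_single_one]; rfl
  rw [h1, h2]
  unfold Cfsg.sympForm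
  rw [← Matrix.vecMul_transpose, ← Matrix.dotProduct_mulVec, Matrix.mulVec_mulVec,
    Matrix.mulVec_mulVec, Matrix.mulVec_single_one, single_one_dotProduct]
  rfl

theorem J_inl_inl (i j : Fin m) : Matrix.J (Fin m) F (Sum.inl i) (Sum.inl j) = 0 := by
  simp [Matrix.J]

theorem J_inr_inr (i j : Fin m) : Matrix.J (Fin m) F (Sum.inr i) (Sum.inr j) = 0 := by
  simp [Matrix.J]

theorem J_inr_inl (i j : Fin m) :
    Matrix.J (Fin m) F (Sum.inr i) (Sum.inl j) = if i = j then 1 else 0 := by
  simp [Matrix.J, Matrix.one_apply]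

theorem J_inl_inr (i j : Fin m) :
    Matrix.J (Fin m) F (Sum.inl i) (Sum.inr j) = if i = j then -1 else 0 := by
  simp only [Matrix.J, Matrix.fromBlocks_apply₁₂, Matrix.neg_apply, Matrix.one_apply]
  split_ifs <;> simp

theorem card_symplectic_eq_card_hypSys :
    Nat.card (Matrix.symplecticGroup (Fin m) F) =
      Nat.card {p : (Fin m → (Fin m ⊕ Fin m → F)) × (Fin m → (Fin m ⊕ Fin m → F)) //
        HypSys F m m p.1 p.2} := by
  classical
  apply Nat.card_congr
  refine Equiv.ofBijective (fun g => ⟨(fun i r => (g : Matrix (Fin m ⊕ Fin m) (Fin m ⊕ Fin m) F) r (Sum.inl i),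
    fun i r => (g : Matrix (Fin m ⊕ Fin m) (Fin m ⊕ Fin m) F) r (Sum.inr i)), ?_⟩) ⟨?_, ?_⟩
  · have hg := SymplecticGroup.mem_iff'.mp g.2
    refine ⟨fun i j => ?_, fun i j => ?_, fun i j => ?_⟩
    · show Cfsg.sympForm m F (fun r => (g : Matrix (Fin m ⊕ Fin m) (Fin m ⊕ Fin m) F) r (Sum.inl i))
        (fun r => (g : Matrix (Fin m ⊕ Fin m) (Fin m ⊕ Fin m) F) r (Sum.inl j)) = 0
      rw [sympForm_cols, hg, J_inl_inl]
    · show Cfsg.sympForm m F (fun r => (g : Matrix (Fin m ⊕ Fin m) (Fin m ⊕ Fin m) F) r (Sum.inr i))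
        (fun r => (g : Matrix (Fin m ⊕ Fin m) (Fin m ⊕ Fin m) F) r (Sum.inr j)) = 0
      rw [sympForm_cols, hg, J_inr_inr]
    · show Cfsg.sympForm m F (fun r => (g : Matrix (Fin m ⊕ Fin m) (Fin m ⊕ Fin m) F) r (Sum.inr i))
        (fun r => (g : Matrix (Fin m ⊕ Fin m) (Fin m ⊕ Fin m) F) r (Sum.inl j)) = _
      rw [sympForm_cols, hg, J_inr_inl]
  · intro g g' h
    apply Subtype.ext
    ext r c
    have h1 := congrArg Subtype.val h
    simp only [Prod.mk.injEq] at h1
    rcases c with i | i
    · exact congrFun (congrFun h1.1 i) r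
    · exact congrFun (congrFun h1.2 i) r
  · rintro ⟨⟨e, f⟩, hs⟩
    let A : Matrix (Fin m ⊕ Fin m) (Fin m ⊕ Fin m) F :=
      Matrix.of (fun r c => Sum.elim (fun i => e i r) (fun i => f i r) c)
    have hA : A ∈ Matrix.symplecticGroup (Fin m) F := by
      rw [SymplecticGroup.mem_iff']
      ext a b
      rw [← sympForm_cols]
      rcases a with i | i <;> rcases b with j | j
      · rw [J_inl_inl]; exact hs.ee i j
      · rw [J_inl_inr]; exact hs.ef i j
      · rw [J_inr_inl]; exact hs.fe i j
      · rw [J_inr_inr]; exact hs.ff i j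
    exact ⟨⟨A, hA⟩, rfl⟩

/-- The order of `Sp_{2m}(q)`. -/
theorem card_symplectic [Fintype F] (m : ℕ) :
    Nat.card (Matrix.symplecticGroup (Fin m) F) =
      Fintype.card F ^ (m ^ 2) *
        ∏ i ∈ Finset.range m, (Fintype.card F ^ (2 * (i + 1)) - 1) := by
  rw [card_symplectic_eq_card_hypSys, card_hypSys m m le_rfl]
  set q := Fintype.card F with hq
  have h1 : ∏ i ∈ range m, ((q ^ (2 * (m - i)) - 1) * q ^ (2 * (m - i) - 1)) =
      ∏ i ∈ range m, ((q ^ (2 * (i + 1)) - 1) * q ^ (2 * i + 1)) := by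
    rw [← Finset.prod_range_reflect (fun i => (q ^ (2 * (i + 1)) - 1) * q ^ (2 * i + 1)) m]
    apply Finset.prod_congr rfl
    intro i hi
    rw [mem_range] at hi
    have e1 : m - i = m - 1 - i + 1 := by omega
    have e2 : 2 * (m - i) - 1 = 2 * (m - 1 - i) + 1 := by omega
    rw [e2, e1]
  have h2 : ∀ n : ℕ, ∑ i ∈ range n, (2 * i + 1) = n ^ 2 := by
    intro n
    induction n with
    | zero => simp
    | succ n ih => rw [Finset.sum_range_succ, ih]; ring
  rw [h1, Finset.prod_mul_distrib, Finset.prod_pow_eq_pow_sum, mul_comm, h2]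

end symp

end Cfsg.Agent.Lib.Helper14
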