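import Mathlib

/-!
# A group generated by `n` involutions satisfying the braid relations of type `A_n`
has at most `(n+1)!` elements.
-/

namespace Cfsg.Agent.Lib.Helper14

section typeA

variable {W : Type*} [Group W]

/-- descending product `t (i+l-1) * ... * t (i+1) * t i` -/
def descProd (t : ℕ → W) : ℕ → ℕ → W
  | _, 0 => 1
  | i, (l+1) => descProd t (i+1) l * t i

/-- Coxeter relations of type `A_n` for `t 0, ..., t (n-1)`. -/
structure BraidRel (t : ℕ → W) (n : ℕ) : Prop where
  sq : ∀ i, i < n → t i * t i = 1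
  braid : ∀ i, i + 1 < n → t i * t (i+1) * t i = t (i+1) * t i * t (i+1)
  comm : ∀ i j, i + 1 < j → j < n → t i * t j = t j * t i

variable {t : ℕ → W} {n : ℕ}

theorem descProd_comm (h : BraidRel t n) : ∀ l i j, j + 1 < i → i + l ≤ n →
    descProd t i l * t j = t j * descProd t i l
  | 0, i, j, _, _ => by simp [descProd]
  | l+1, i, j, hji, hil => by
      have ih := descProd_comm h l (i+1) j (by omega) (by omega)
      have hc : t j * t i = t i * t j := h.comm j i hji (by omega)
      simp only [descProd]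
      rw [mul_assoc, ← hc, ← mul_assoc, ih, mul_assoc]

theorem descProd_shift (h : BraidRel t n) : ∀ l i j, i ≤ j → j + 1 < i + l → i + l ≤ n →
    descProd t i l * t (j+1) = t j * descProd t i l
  | 0, i, j, hij, hjl, _ => by omega
  | l+1, i, j, hij, hjl, hil => by
      simp only [descProd]
      rcases Nat.eq_or_lt_of_le hij with rfl | hlt
      · obtain ⟨l', rfl⟩ : ∃ l', l = l' + 1 := ⟨l - 1, by omega⟩
        simp only [descProd]
        have hb := h.braid i (by omega)
        have hA := descProd_comm h l' (i+1+1) i (by omega) (by omega)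
        calc descProd t (i+1+1) l' * t (i+1) * t i * t (i+1)
            = descProd t (i+1+1) l' * (t (i+1) * t i * t (i+1)) := by simp only [mul_assoc]
          _ = descProd t (i+1+1) l' * (t i * t (i+1) * t i) := by rw [hb]
          _ = (descProd t (i+1+1) l' * t i) * t (i+1) * t i := by simp only [mul_assoc]
          _ = t i * descProd t (i+1+1) l' * t (i+1) * t i := by rw [hA]
          _ = t i * (descProd t (i+1+1) l' * t (i+1) * t i) := by simp only [mul_assoc]
      · have ih := descProd_shift h l (i+1) j (by omega) (by omega) (by omega)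
        have hc : t i * t (j+1) = t (j+1) * t i := h.comm i (j+1) (by omega) (by omega)
        rw [mul_assoc, hc, ← mul_assoc, ih, mul_assoc]

/-- subgroup generated by `t 0, ..., t (k-1)` -/
def genUpTo (t : ℕ → W) (k : ℕ) : Subgroup W := Subgroup.closure (t '' Set.Iio k)

theorem t_mem_genUpTo {j k : ℕ} (hj : j < k) : t j ∈ genUpTo t k :=
  Subgroup.subset_closure ⟨j, hj, rfl⟩

theorem genUpTo_mono {k k' : ℕ} (hk : k ≤ k') : genUpTo t k ≤ genUpTo t k' :=
  Subgroup.closure_mono (Set.image_mono (fun _ hj => lt_of_lt_of_le hj hk))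

theorem mem_genUpTo_succ (h : BraidRel t n) (k : ℕ) (hk : k < n) (w : W)
    (hw : w ∈ genUpTo t (k+1)) :
    ∃ h' ∈ genUpTo t k, ∃ i l, i + l = k + 1 ∧ w = h' * descProd t i l := by
  have key : ∀ (x : W), (∃ h' ∈ genUpTo t k, ∃ i l, i + l = k + 1 ∧ x = h' * descProd t i l) →
      ∀ j, j < k + 1 → ∃ h' ∈ genUpTo t k, ∃ i l, i + l = k + 1 ∧ x * t j = h' * descProd t i l := by
    rintro x ⟨h', hh', i, l, hil, rfl⟩ j hj
    rcases lt_trichotomy (j + 1) i with hlt | heq | hgt
    · refine ⟨h' * t j, mul_mem hh' (t_mem_genUpTo (by omega)), i, l, hil, ?_⟩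
      rw [mul_assoc, descProd_comm h l i j hlt (by omega), mul_assoc]
    · subst heq
      refine ⟨h', hh', j, l + 1, by omega, ?_⟩
      rw [mul_assoc]
      rfl
    · rcases Nat.eq_or_lt_of_le (Nat.lt_succ_iff.mp hgt) with heq | hlt
      · subst heq
        obtain ⟨l', rfl⟩ : ∃ l', l = l' + 1 := ⟨l - 1, by omega⟩
        refine ⟨h', hh', i + 1, l', by omega, ?_⟩
        simp only [descProd]
        rw [mul_assoc, mul_assoc, h.sq i (by omega), mul_one]
      · obtain ⟨j', rfl⟩ : ∃ j', j = j' + 1 := ⟨j - 1, by omega⟩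
        refine ⟨h' * t j', mul_mem hh' (t_mem_genUpTo (by omega)), i, l, hil, ?_⟩
        rw [mul_assoc, descProd_shift h l i j' (by omega) (by omega) (by omega), mul_assoc]
  refine Subgroup.closure_induction_right (p := fun x _ =>
    ∃ h' ∈ genUpTo t k, ∃ i l, i + l = k + 1 ∧ x = h' * descProd t i l) ?_ ?_ ?_ hw
  · exact ⟨1, one_mem _, k + 1, 0, by omega, by simp [descProd]⟩
  · rintro x _ y ⟨j, hj, rfl⟩ hx
    exact key x hx j hj
  · rintro x _ y ⟨j, hj, rfl⟩ hx
    have hinv : (t j)⁻¹ = t j := by
      rw [inv_eq_iff_mul_eq_one]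
      exact h.sq j (lt_of_lt_of_le hj hk)
    rw [hinv]
    exact key x hx j hj

theorem genUpTo_finite_card (h : BraidRel t n) : ∀ k, k ≤ n →
    (genUpTo t k : Set W).Finite ∧ (genUpTo t k : Set W).ncard ≤ (k+1).factorial
  | 0, _ => by
      have h0 : genUpTo t 0 = ⊥ := by
        unfold genUpTo
        simp
      rw [h0]
      simp
  | k+1, hk => by
      obtain ⟨hfin, hcard⟩ := genUpTo_finite_card h k (by omega)
      have hsub : (genUpTo t (k+1) : Set W) ⊆
          (fun p : W × ℕ => p.1 * descProd t p.2 (k + 1 - p.2)) ''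
            ((genUpTo t k : Set W) ×ˢ (Set.Iio (k+2))) := by
        intro w hw
        obtain ⟨h', hh', i, l, hil, rfl⟩ := mem_genUpTo_succ h k (by omega) w hw
        refine ⟨(h', i), ⟨hh', by simp only [Set.mem_Iio]; omega⟩, ?_⟩
        have : k + 1 - i = l := by omega
        simp only [this]
      have hfinprod : ((genUpTo t k : Set W) ×ˢ (Set.Iio (k+2))).Finite :=
        hfin.prod (Set.finite_Iio _)
      have hfinimg := hfinprod.image (fun p : W × ℕ => p.1 * descProd t p.2 (k + 1 - p.2))
      refine ⟨hfinimg.subset hsub, ?_⟩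
      calc (genUpTo t (k+1) : Set W).ncard
          ≤ ((fun p : W × ℕ => p.1 * descProd t p.2 (k + 1 - p.2)) ''
            ((genUpTo t k : Set W) ×ˢ (Set.Iio (k+2)))).ncard := Set.ncard_le_ncard hsub hfinimg
        _ ≤ ((genUpTo t k : Set W) ×ˢ (Set.Iio (k+2))).ncard := Set.ncard_image_le hfinprod
        _ = (genUpTo t k : Set W).ncard * (Set.Iio (k+2)).ncard := Set.ncard_prod
        _ ≤ (k+1).factorial * (k+2) := by
            apply Nat.mul_le_mul hcard
            rw [Set.ncard_eq_toFinset_card', Set.toFinset_Iio, Nat.card_Iio]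
        _ = (k+1+1).factorial := by
            rw [Nat.factorial_succ (k+1)]
            ring

/-- The bound: a group generated by `t 0, ..., t (n-1)` subject to the type `A_n` relations
is finite of order at most `(n+1)!`. -/
theorem finite_card_le_of_braidRel (h : BraidRel t n)
    (hgen : Subgroup.closure (t '' Set.Iio n) = ⊤) :
    Finite W ∧ Nat.card W ≤ (n+1).factorial := by
  obtain ⟨hfin, hcard⟩ := genUpTo_finite_card h n le_rfl
  have htop : (genUpTo t n : Set W) = Set.univ := by
    unfold genUpTo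
    rw [hgen]
    rfl
  rw [htop] at hfin hcard
  refine ⟨Set.finite_univ_iff.mp hfin, ?_⟩
  rwa [Set.ncard_univ] at hcard

end typeA

end Cfsg.Agent.Lib.Helper14
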