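import Mathlib

/-!
# Counting vectors of given norm for the standard Hermitian form over `F_{q^2}`
-/

namespace Cfsg.Agent.Lib.Helper14

open Finset

section norm

variable {F : Type*} [Field F] [Fintype F] [DecidableEq F] {q : ℕ}

theorem herm_two_le (hF : Fintype.card F = q ^ 2) : 2 ≤ q := by
  have h1 : 1 < Fintype.card F := Fintype.one_lt_card
  rw [hF] at h1
  by_contra h
  have : q ≤ 1 := by omega
  have : q ^ 2 ≤ 1 ^ 2 := Nat.pow_le_pow_left this 2
  omega

theorem herm_pow_card (hF : Fintype.card F = q ^ 2) (a : F) : a ^ (q ^ 2) = a := by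
  rw [← hF]; exact FiniteField.pow_card a

theorem herm_exists_char (hF : Fintype.card F = q ^ 2) :
    ∃ (p : ℕ) (j : ℕ), p.Prime ∧ CharP F p ∧ q = p ^ j := by
  obtain ⟨p, hp⟩ := CharP.exists F
  haveI := hp
  obtain ⟨n, hprime, hcard⟩ := FiniteField.card F p
  have hdvd : q ∣ p ^ (n : ℕ) := by
    rw [← hcard, hF]
    exact Dvd.intro_left (q ^ 1) (by ring)
  obtain ⟨j, _, hj⟩ := (Nat.dvd_prime_pow hprime).mp hdvd
  exact ⟨p, j, hprime, hp, hj⟩

theorem herm_sub_pow (hF : Fintype.card F = q ^ 2) (x y : F) : (x - y) ^ q = x ^ q - y ^ q := by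
  obtain ⟨p, j, hp, hchar, rfl⟩ := herm_exists_char hF
  haveI := hchar
  haveI : Fact p.Prime := ⟨hp⟩
  exact sub_pow_char_pow x y j

theorem herm_neg_pow (hF : Fintype.card F = q ^ 2) (x : F) : (-x) ^ q = -(x ^ q) := by
  have := herm_sub_pow hF 0 x
  have hq := herm_two_le hF
  rwa [zero_sub, zero_pow (by omega), zero_sub] at this

/-- the norm lands in the fixed field of `x ↦ x^q`. -/
theorem herm_norm_mem (hF : Fintype.card F = q ^ 2) (w : F) :
    (w * w ^ q) ^ q = w * w ^ q := by
  rw [mul_pow, ← pow_mul, ← pow_two, herm_pow_card hF, mul_comm]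

/-- number of `w` with norm `c`. -/
def normFiber (q : ℕ) (c : F) : ℕ := (univ.filter (fun w : F => w * w ^ q = c)).card

theorem normFiber_zero (hF : Fintype.card F = q ^ 2) : normFiber q (0 : F) = 1 := by
  unfold normFiber
  have : (univ.filter (fun w : F => w * w ^ q = 0)) = {0} := by
    ext w
    simp only [mem_filter, mem_univ, true_and, mem_singleton, mul_eq_zero]
    constructor
    · rintro (h | h)
      · exact h
      · exact pow_eq_zero_iff (by have := herm_two_le hF; omega) |>.mp h
    · intro h; left; exact h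
  rw [this, card_singleton]

theorem normFiber_le (c : F) : normFiber q c ≤ q + 1 := by
  unfold normFiber
  have hsub : (univ.filter (fun w : F => w * w ^ q = c)) ⊆ Polynomial.nthRootsFinset (q + 1) c := by
    intro w hw
    rw [Polynomial.mem_nthRootsFinset (by omega)]
    simp only [mem_filter, mem_univ, true_and] at hw
    rw [pow_succ', hw]
  calc _ ≤ (Polynomial.nthRootsFinset (q + 1) c).card := card_le_card hsub
    _ ≤ Multiset.card (Polynomial.nthRoots (q + 1) c) := by
        rw [Polynomial.nthRootsFinset_def]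
        exact Multiset.toFinset_card_le _
    _ ≤ q + 1 := Polynomial.card_nthRoots _ _

theorem normFiber_eq_zero_of_not_mem (hF : Fintype.card F = q ^ 2) (c : F) (hc : c ^ q ≠ c) :
    normFiber q c = 0 := by
  unfold normFiber
  rw [card_eq_zero]
  apply filter_false_of_mem
  intro w _ hw
  apply hc
  rw [← hw]
  exact herm_norm_mem hF w

/-- nonzero elements of the fixed field. -/
def fixStar (F : Type*) [Field F] [Fintype F] [DecidableEq F] (q : ℕ) : Finset F :=
  univ.filter (fun c : F => c ≠ 0 ∧ c ^ q = c)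

theorem mem_fixStar {c : F} : c ∈ fixStar F q ↔ c ≠ 0 ∧ c ^ q = c := by
  unfold fixStar
  simp

theorem fixStar_card_le (hF : Fintype.card F = q ^ 2) : (fixStar F q).card ≤ q - 1 := by
  have hq := herm_two_le hF
  have hsub : fixStar F q ⊆ Polynomial.nthRootsFinset (q - 1) (1 : F) := by
    intro c hc
    rw [mem_fixStar] at hc
    rw [Polynomial.mem_nthRootsFinset (by omega)]
    have h1 : c ^ (q - 1) * c = 1 * c := by
      rw [← pow_succ, one_mul]
      have : q - 1 + 1 = q := by omega
      rw [this, hc.2]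
    exact mul_right_cancel₀ hc.1 h1
  calc _ ≤ (Polynomial.nthRootsFinset (q - 1) (1 : F)).card := card_le_card hsub
    _ ≤ Multiset.card (Polynomial.nthRoots (q - 1) (1 : F)) := by
        rw [Polynomial.nthRootsFinset_def]
        exact Multiset.toFinset_card_le _
    _ ≤ q - 1 := Polynomial.card_nthRoots _ _

theorem sum_normFiber (hF : Fintype.card F = q ^ 2) :
    ∑ c ∈ fixStar F q, normFiber q c = q ^ 2 - 1 := by
  have htot : (univ : Finset F).card = ∑ c : F, normFiber q c :=
    Finset.card_eq_sum_card_fiberwise (f := fun w : F => w * w ^ q) (t := univ)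
      (fun _ _ => mem_univ _)
  rw [card_univ, hF] at htot
  -- split the sum
  have hsplit : ∑ c : F, normFiber q c = normFiber q (0 : F) + ∑ c ∈ fixStar F q, normFiber q c := by
    rw [← Finset.sum_erase_add (s := univ) (a := (0 : F)) _ (mem_univ _), add_comm]
    congr 1
    symm
    apply Finset.sum_subset
    · intro c hc
      rw [mem_fixStar] at hc
      simp [hc.1]
    · intro c hc hc'
      simp only [mem_erase, mem_univ, and_true] at hc
      rw [mem_fixStar] at hc'
      apply normFiber_eq_zero_of_not_mem hF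
      intro h
      exact hc' ⟨hc, h⟩
  rw [hsplit, normFiber_zero hF] at htot
  omega

theorem fixStar_card (hF : Fintype.card F = q ^ 2) : (fixStar F q).card = q - 1 := by
  have hq := herm_two_le hF
  apply le_antisymm (fixStar_card_le hF)
  have h1 : ∑ c ∈ fixStar F q, normFiber q c ≤ (fixStar F q).card * (q + 1) := by
    rw [← smul_eq_mul]
    exact Finset.sum_le_card_nsmul _ _ _ (fun c _ => normFiber_le c)
  rw [sum_normFiber hF] at h1
  have h2 : q ^ 2 - 1 = (q - 1) * (q + 1) := by
    obtain ⟨r, rfl⟩ : ∃ r, q = r + 1 := ⟨q - 1, by omega⟩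
    simp only [Nat.add_sub_cancel]
    have : (r + 1) ^ 2 = r * (r + 1 + 1) + 1 := by ring
    omega
  rw [h2] at h1
  exact Nat.le_of_mul_le_mul_right h1 (by omega)

theorem normFiber_of_mem (hF : Fintype.card F = q ^ 2) (c : F) (hc : c ∈ fixStar F q) :
    normFiber q c = q + 1 := by
  have hq := herm_two_le hF
  apply le_antisymm (normFiber_le c)
  by_contra hlt
  push Not at hlt
  have h1 : ∑ d ∈ fixStar F q, normFiber q d < ∑ d ∈ fixStar F q, (q + 1) :=
    Finset.sum_lt_sum (fun d _ => normFiber_le d) ⟨c, hc, hlt⟩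
  rw [sum_normFiber hF, Finset.sum_const, fixStar_card hF, smul_eq_mul] at h1
  obtain ⟨r, rfl⟩ : ∃ r, q = r + 1 := ⟨q - 1, by omega⟩
  simp only [Nat.add_sub_cancel] at h1
  have : (r + 1) ^ 2 = r * (r + 1 + 1) + 1 := by ring
  omega

/-- summing a function of the norm. -/
theorem sum_norm_comp (hF : Fintype.card F = q ^ 2) (g : F → ℕ) :
    ∑ w : F, g (w * w ^ q) = g 0 + (q + 1) * ∑ d ∈ fixStar F q, g d := by
  have h1 : ∑ w : F, g (w * w ^ q) = ∑ d : F, normFiber q d * g d := by
    rw [← Finset.sum_fiberwise_of_maps_to (s := univ) (t := univ) (g := fun w : F => w * w ^ q)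
      (fun _ _ => mem_univ _)]
    apply Finset.sum_congr rfl
    intro d _
    have : ∀ w ∈ univ.filter (fun w : F => w * w ^ q = d), g (w * w ^ q) = g d := by
      intro w hw
      simp only [mem_filter, mem_univ, true_and] at hw
      rw [hw]
    rw [Finset.sum_congr rfl this, Finset.sum_const, smul_eq_mul]
    rfl
  rw [h1, ← Finset.sum_erase_add (s := univ) (a := (0 : F)) _ (mem_univ _), add_comm,
    normFiber_zero hF, one_mul]
  congr 1
  rw [Finset.mul_sum]
  symm
  have hsub : fixStar F q ⊆ univ.erase (0 : F) := by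
    intro c hc
    rw [mem_fixStar] at hc
    simp [hc.1]
  rw [← Finset.sum_subset hsub]
  · apply Finset.sum_congr rfl
    intro d hd
    rw [normFiber_of_mem hF d hd]
  · intro c hc hc'
    simp only [mem_erase, mem_univ, and_true] at hc
    rw [mem_fixStar] at hc'
    rw [normFiber_eq_zero_of_not_mem hF, zero_mul]
    intro h
    exact hc' ⟨hc, h⟩

end norm

section count

variable {F : Type*} [Field F] [Fintype F] [DecidableEq F] {q : ℕ}

/-- number of vectors `v ∈ F^n` with `∑ v i * (v i)^q = c`. -/
noncomputable def hermCount (F : Type*) [Field F] (q n : ℕ) (c : F) : ℕ :=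
  Nat.card {v : Fin n → F // ∑ i, v i * v i ^ q = c}

theorem hermCount_zero (c : F) : hermCount F q 0 c = if c = 0 then 1 else 0 := by
  unfold hermCount
  by_cases hc : c = 0
  · subst hc
    rw [if_pos rfl, Nat.card_eq_one_iff_unique]
    refine ⟨⟨?_⟩, ⟨⟨fun i => i.elim0, by simp⟩⟩⟩
    rintro ⟨a, _⟩ ⟨b, _⟩
    apply Subtype.ext
    funext i
    exact i.elim0
  · rw [if_neg hc]
    rw [Nat.card_eq_zero]
    left
    refine ⟨?_⟩
    rintro ⟨v, hv⟩
    apply hc
    rw [← hv]
    simp

theorem hermCount_succ (n : ℕ) (c : F) :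
    hermCount F q (n + 1) c = ∑ w : F, hermCount F q n (c - w * w ^ q) := by
  unfold hermCount
  have e : {v : Fin (n + 1) → F // ∑ i, v i * v i ^ q = c} ≃
      {p : F × (Fin n → F) // p.1 * p.1 ^ q + ∑ i, p.2 i * p.2 i ^ q = c} :=
    Equiv.subtypeEquiv (Fin.consEquiv (fun _ : Fin (n + 1) => F)).symm (fun v => by
      rw [Fin.sum_univ_succ]
      rfl)
  rw [Nat.card_congr e, Nat.card_eq_fintype_card, Fintype.card_subtype, Finset.card_filter,
    Fintype.sum_prod_type]
  apply Finset.sum_congr rfl
  intro w _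
  rw [← Finset.card_filter, ← Fintype.card_subtype, ← Nat.card_eq_fintype_card]
  apply Nat.card_congr
  apply Equiv.subtypeEquivRight
  intro u
  constructor
  · intro h; rw [← h]; ring
  · intro h; rw [h]; ring

/-- the two sequences `A_n = #{H = 0}` and `B_n = #{H = 1}`. -/
def hermAB (q : ℕ) : ℕ → ℕ × ℕ
  | 0 => (1, 0)
  | n + 1 => ((hermAB q n).1 + (q + 1) * ((q - 1) * (hermAB q n).2),
      (hermAB q n).2 + (q + 1) * ((hermAB q n).1 + (q - 2) * (hermAB q n).2))

theorem hermCount_eq (hF : Fintype.card F = q ^ 2) : ∀ (n : ℕ) (c : F),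
    hermCount F q n c =
      if c = 0 then (hermAB q n).1 else if c ^ q = c then (hermAB q n).2 else 0
  | 0, c => by
      rw [hermCount_zero]
      simp only [hermAB]
      split_ifs <;> rfl
  | n + 1, c => by
      have hq := herm_two_le hF
      have ih := hermCount_eq hF n
      rw [hermCount_succ, sum_norm_comp hF (fun d => hermCount F q n (c - d))]
      simp only [sub_zero]
      by_cases hc0 : c = 0
      · subst hc0
        rw [if_pos rfl, ih 0, if_pos rfl]
        simp only [hermAB]
        congr 2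
        have : ∀ d ∈ fixStar F q, hermCount F q n (0 - d) = (hermAB q n).2 := by
          intro d hd
          rw [mem_fixStar] at hd
          rw [ih, zero_sub, if_neg (neg_ne_zero.mpr hd.1), if_pos]
          rw [herm_neg_pow hF, hd.2]
        rw [Finset.sum_congr rfl this, Finset.sum_const, fixStar_card hF, smul_eq_mul]
      · rw [if_neg hc0]
        by_cases hcK : c ^ q = c
        · rw [if_pos hcK, ih c, if_neg hc0, if_pos hcK]
          simp only [hermAB]
          congr 2
          have hcmem : c ∈ fixStar F q := mem_fixStar.mpr ⟨hc0, hcK⟩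
          rw [← Finset.add_sum_erase _ _ hcmem, sub_self, ih 0, if_pos rfl]
          congr 1
          have : ∀ d ∈ (fixStar F q).erase c, hermCount F q n (c - d) = (hermAB q n).2 := by
            intro d hd
            rw [mem_erase, mem_fixStar] at hd
            rw [ih, if_neg (sub_ne_zero.mpr (Ne.symm hd.1)), if_pos]
            rw [herm_sub_pow hF, hcK, hd.2.2]
          rw [Finset.sum_congr rfl this, Finset.sum_const, Finset.card_erase_of_mem hcmem,
            fixStar_card hF, smul_eq_mul]
          congr 1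
        · rw [if_neg hcK, ih c, if_neg hc0, if_neg hcK]
          have : ∀ d ∈ fixStar F q, hermCount F q n (c - d) = 0 := by
            intro d hd
            rw [mem_fixStar] at hd
            have h1 : c - d ≠ 0 := by
              intro h
              apply hcK
              rw [sub_eq_zero.mp h]
              exact hd.2
            have h2 : (c - d) ^ q ≠ c - d := by
              rw [herm_sub_pow hF, hd.2]
              intro h
              exact hcK (sub_left_injective h)
            rw [ih, if_neg h1, if_neg h2]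
          rw [Finset.sum_congr rfl this, Finset.sum_const_zero, mul_zero, add_zero]

theorem hermAB_closed (hq : 2 ≤ q) : ∀ n : ℕ,
    (q : ℤ) * ((hermAB q n).1 : ℤ) = (q : ℤ) ^ (2 * n) + (-1) ^ n * ((q : ℤ) ^ (n + 1) - (q : ℤ) ^ n) ∧
    (q : ℤ) * ((hermAB q n).2 : ℤ) = (q : ℤ) ^ (2 * n) - (-1) ^ n * (q : ℤ) ^ n
  | 0 => by simp [hermAB]
  | n + 1 => by
      obtain ⟨ihA, ihB⟩ := hermAB_closed hq n
      simp only [hermAB]
      push_cast [Nat.cast_sub (show 1 ≤ q by omega), Nat.cast_sub hq]
      constructor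
      · have : (q : ℤ) * (((hermAB q n).1 : ℤ) + ((q : ℤ) + 1) * (((q : ℤ) - 1) * ((hermAB q n).2 : ℤ)))
            = (q : ℤ) * ((hermAB q n).1 : ℤ) + ((q : ℤ) + 1) * ((q : ℤ) - 1) * ((q : ℤ) * ((hermAB q n).2 : ℤ)) := by
          ring
        rw [this, ihA, ihB]
        ring
      · have : (q : ℤ) * (((hermAB q n).2 : ℤ) + ((q : ℤ) + 1) * (((hermAB q n).1 : ℤ) + ((q : ℤ) - 2) * ((hermAB q n).2 : ℤ)))
            = (q : ℤ) * ((hermAB q n).2 : ℤ) + ((q : ℤ) + 1) * ((q : ℤ) * ((hermAB q n).1 : ℤ) + ((q : ℤ) - 2) * ((q : ℤ) * ((hermAB q n).2 : ℤ))) := by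
          ring
        rw [this, ihA, ihB]
        ring

end count

end Cfsg.Agent.Lib.Helper14
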