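import Mathlib
import Cfsg.Prelude.Def_LieClassical
import Cfsg.Agent.Lib.Helper14.HermCount

/-!
# The order of the general unitary group `GU_n(q)`
-/

namespace Cfsg.Agent.Lib.Helper14

open Finset

section herm

variable {F : Type*} [Field F] [Fintype F] [DecidableEq F] {q n : ℕ}

theorem herm_add_pow (hF : Fintype.card F = q ^ 2) (x y : F) : (x + y) ^ q = x ^ q + y ^ q := by
  have := herm_sub_pow hF x (-y)
  rwa [sub_neg_eq_add, herm_neg_pow hF, sub_neg_eq_add] at this

theorem herm_sum_pow (hF : Fintype.card F = q ^ 2) {ι : Type*} (s : Finset ι) (f : ι → F) :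
    (∑ i ∈ s, f i) ^ q = ∑ i ∈ s, (f i) ^ q := by
  classical
  have hq := herm_two_le hF
  induction s using Finset.induction_on with
  | empty => simp [zero_pow (show q ≠ 0 by omega)]
  | insert a s ha ih => rw [Finset.sum_insert ha, Finset.sum_insert ha, herm_add_pow hF, ih]

omit [Fintype F] [DecidableEq F] in
theorem hermForm_add_left (u u' v : Fin n → F) :
    Cfsg.hermForm n F q (u + u') v = Cfsg.hermForm n F q u v + Cfsg.hermForm n F q u' v := by
  unfold Cfsg.hermForm
  simp [add_mul, Finset.sum_add_distrib]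

omit [Fintype F] [DecidableEq F] in
theorem hermForm_smul_left (a : F) (u v : Fin n → F) :
    Cfsg.hermForm n F q (a • u) v = a * Cfsg.hermForm n F q u v := by
  unfold Cfsg.hermForm
  simp [Finset.mul_sum, mul_assoc]

omit [Fintype F] [DecidableEq F] in
theorem hermForm_neg_left (u v : Fin n → F) :
    Cfsg.hermForm n F q (-u) v = - Cfsg.hermForm n F q u v := by
  unfold Cfsg.hermForm
  simp

omit [Fintype F] [DecidableEq F] in
theorem hermForm_sub_left (u u' v : Fin n → F) :
    Cfsg.hermForm n F q (u - u') v = Cfsg.hermForm n F q u v - Cfsg.hermForm n F q u' v := by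
  rw [sub_eq_add_neg, hermForm_add_left, hermForm_neg_left, ← sub_eq_add_neg]

omit [Fintype F] [DecidableEq F] in
theorem hermForm_zero_left (v : Fin n → F) : Cfsg.hermForm n F q 0 v = 0 := by
  unfold Cfsg.hermForm
  simp

omit [Fintype F] [DecidableEq F] in
theorem hermForm_sum_left {ι : Type*} (s : Finset ι) (f : ι → (Fin n → F)) (v : Fin n → F) :
    Cfsg.hermForm n F q (∑ i ∈ s, f i) v = ∑ i ∈ s, Cfsg.hermForm n F q (f i) v := by
  classical
  induction s using Finset.induction_on with
  | empty => simp [hermForm_zero_left]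
  | insert a s ha ih => rw [Finset.sum_insert ha, Finset.sum_insert ha, hermForm_add_left, ih]

theorem hermForm_conj (hF : Fintype.card F = q ^ 2) (u v : Fin n → F) :
    (Cfsg.hermForm n F q u v) ^ q = Cfsg.hermForm n F q v u := by
  unfold Cfsg.hermForm
  rw [herm_sum_pow hF]
  apply Finset.sum_congr rfl
  intro i _
  rw [mul_pow, ← pow_mul, ← pow_two, herm_pow_card hF, mul_comm]

theorem hermForm_add_right (hF : Fintype.card F = q ^ 2) (u v v' : Fin n → F) :
    Cfsg.hermForm n F q u (v + v') = Cfsg.hermForm n F q u v + Cfsg.hermForm n F q u v' := by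
  unfold Cfsg.hermForm
  simp only [Pi.add_apply, herm_add_pow hF, mul_add, Finset.sum_add_distrib]

omit [Fintype F] [DecidableEq F] in
theorem hermForm_smul_right (a : F) (u v : Fin n → F) :
    Cfsg.hermForm n F q u (a • v) = a ^ q * Cfsg.hermForm n F q u v := by
  unfold Cfsg.hermForm
  simp only [Pi.smul_apply, smul_eq_mul, mul_pow, Finset.mul_sum]
  apply Finset.sum_congr rfl
  intro i _
  ring

theorem hermForm_zero_right (hF : Fintype.card F = q ^ 2) (u : Fin n → F) :
    Cfsg.hermForm n F q u 0 = 0 := by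
  have hq := herm_two_le hF
  unfold Cfsg.hermForm
  simp [zero_pow (show q ≠ 0 by omega)]

theorem hermForm_sum_right (hF : Fintype.card F = q ^ 2) {ι : Type*} (s : Finset ι)
    (f : ι → (Fin n → F)) (u : Fin n → F) :
    Cfsg.hermForm n F q u (∑ i ∈ s, f i) = ∑ i ∈ s, Cfsg.hermForm n F q u (f i) := by
  classical
  induction s using Finset.induction_on with
  | empty => simp [hermForm_zero_right hF]
  | insert a s ha ih =>
    rw [Finset.sum_insert ha, Finset.sum_insert ha, hermForm_add_right hF, ih]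

theorem hermForm_self_pow (hF : Fintype.card F = q ^ 2) (u : Fin n → F) :
    (Cfsg.hermForm n F q u u) ^ q = Cfsg.hermForm n F q u u := hermForm_conj hF u u

theorem hermForm_eq_zero_symm (hF : Fintype.card F = q ^ 2) (u v : Fin n → F)
    (h : Cfsg.hermForm n F q u v = 0) : Cfsg.hermForm n F q v u = 0 := by
  have hq := herm_two_le hF
  rw [← hermForm_conj hF, h, zero_pow (by omega)]

end herm

section ortho

variable {F : Type*} [Field F] [Fintype F] [DecidableEq F] {q n k : ℕ}

/-- orthonormal `k`-tuples of vectors of `F^n` for the Hermitian form. -/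
def OrthoN (F : Type*) [Field F] (q n k : ℕ) (v : Fin k → (Fin n → F)) : Prop :=
  ∀ i j, Cfsg.hermForm n F q (v i) (v j) = if i = j then 1 else 0

/-- `w` is perpendicular to all `v i`. -/
def Perp (F : Type*) [Field F] (q n : ℕ) {k : ℕ} (v : Fin k → (Fin n → F)) (w : Fin n → F) : Prop :=
  ∀ i, Cfsg.hermForm n F q w (v i) = 0

/-- the linear combination `∑ a i • v i`. -/
def comb (v : Fin k → (Fin n → F)) (a : Fin k → F) : Fin n → F := ∑ i, a i • v i

omit [Fintype F] [DecidableEq F] in
theorem hermForm_comb_left {v : Fin k → (Fin n → F)} (hv : OrthoN F q n k v)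
    (a : Fin k → F) (j : Fin k) :
    Cfsg.hermForm n F q (comb v a) (v j) = a j := by
  unfold comb
  rw [hermForm_sum_left]
  simp only [hermForm_smul_left, hv _ j]
  simp

theorem hermForm_comb_right (hF : Fintype.card F = q ^ 2) {v : Fin k → (Fin n → F)}
    (w : Fin n → F) (a : Fin k → F) :
    Cfsg.hermForm n F q w (comb v a) = ∑ i, a i ^ q * Cfsg.hermForm n F q w (v i) := by
  unfold comb
  rw [hermForm_sum_right hF]
  simp only [hermForm_smul_right]

theorem hermForm_comb_comb (hF : Fintype.card F = q ^ 2) {v : Fin k → (Fin n → F)}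
    (hv : OrthoN F q n k v) (a : Fin k → F) :
    Cfsg.hermForm n F q (comb v a) (comb v a) = ∑ i, a i * a i ^ q := by
  rw [hermForm_comb_right hF]
  apply Finset.sum_congr rfl
  intro i _
  rw [hermForm_comb_left hv, mul_comm]

/-- L1 -/
theorem hermForm_add_comb_left {v : Fin k → (Fin n → F)}
    (hv : OrthoN F q n k v) (w : Fin n → F) (hw : Perp F q n v w) (a : Fin k → F) (j : Fin k) :
    Cfsg.hermForm n F q (w + comb v a) (v j) = a j := by
  rw [hermForm_add_left, hw j, zero_add, hermForm_comb_left hv]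

/-- L2 -/
theorem perp_sub_comb {v : Fin k → (Fin n → F)}
    (hv : OrthoN F q n k v) (w : Fin n → F) :
    Perp F q n v (w - comb v (fun i => Cfsg.hermForm n F q w (v i))) := by
  intro j
  rw [hermForm_sub_left, hermForm_comb_left hv, sub_self]

/-- L3 -/
theorem hermForm_add_comb_self (hF : Fintype.card F = q ^ 2) {v : Fin k → (Fin n → F)}
    (hv : OrthoN F q n k v) (w : Fin n → F) (hw : Perp F q n v w) (a : Fin k → F) :
    Cfsg.hermForm n F q (w + comb v a) (w + comb v a) =
      (∑ i, a i * a i ^ q) + Cfsg.hermForm n F q w w := by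
  have h1 : Cfsg.hermForm n F q w (comb v a) = 0 := by
    rw [hermForm_comb_right hF]
    apply Finset.sum_eq_zero
    intro i _
    rw [hw i, mul_zero]
  have h2 : Cfsg.hermForm n F q (comb v a) w = 0 := hermForm_eq_zero_symm hF _ _ h1
  rw [hermForm_add_left, hermForm_add_right hF, hermForm_add_right hF, h1, h2,
    hermForm_comb_comb hF hv]
  ring

/-- number of vectors perpendicular to `v` of norm `c`. -/
noncomputable def perpCount (F : Type*) [Field F] (q n : ℕ) {k : ℕ} (v : Fin k → (Fin n → F))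
    (c : F) : ℕ :=
  Nat.card {w : Fin n → F // Perp F q n v w ∧ Cfsg.hermForm n F q w w = c}

/-- (P3) the structural formula. -/
theorem hermCount_eq_sum_perpCount (hF : Fintype.card F = q ^ 2) {v : Fin k → (Fin n → F)}
    (hv : OrthoN F q n k v) (c : F) :
    hermCount F q n c = ∑ a : Fin k → F, perpCount F q n v (c - ∑ i, a i * a i ^ q) := by
  classical
  have e : {w : Fin n → F // ∑ i, w i * w i ^ q = c} ≃
      {p : (Fin k → F) × (Fin n → F) //
        Perp F q n v p.2 ∧ (∑ i, p.1 i * p.1 i ^ q) + Cfsg.hermForm n F q p.2 p.2 = c} :=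
    { toFun := fun w => ⟨(fun i => Cfsg.hermForm n F q w.1 (v i),
          w.1 - comb v (fun i => Cfsg.hermForm n F q w.1 (v i))), by
        refine ⟨perp_sub_comb hv w.1, ?_⟩
        have := hermForm_add_comb_self hF hv _ (perp_sub_comb hv w.1)
          (fun i => Cfsg.hermForm n F q w.1 (v i))
        rw [sub_add_cancel] at this
        rw [← this]
        exact w.2⟩
      invFun := fun p => ⟨p.1.2 + comb v p.1.1, by
        have := hermForm_add_comb_self hF hv _ p.2.1 p.1.1
        have h2 := p.2.2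
        rw [← this] at h2
        exact h2⟩
      left_inv := fun w => by
        apply Subtype.ext
        simp only [sub_add_cancel]
      right_inv := fun p => by
        apply Subtype.ext
        apply Prod.ext
        · funext j
          exact hermForm_add_comb_left hv _ p.2.1 _ j
        · show p.1.2 + comb v p.1.1 - comb v (fun i =>
            Cfsg.hermForm n F q (p.1.2 + comb v p.1.1) (v i)) = p.1.2
          have : (fun i => Cfsg.hermForm n F q (p.1.2 + comb v p.1.1) (v i)) = p.1.1 := by
            funext j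
            exact hermForm_add_comb_left hv _ p.2.1 _ j
          rw [this, add_sub_cancel_right] }
  unfold hermCount
  rw [Nat.card_congr e, Nat.card_eq_fintype_card, Fintype.card_subtype, Finset.card_filter,
    Fintype.sum_prod_type]
  apply Finset.sum_congr rfl
  intro a _
  rw [← Finset.card_filter, ← Fintype.card_subtype, ← Nat.card_eq_fintype_card]
  unfold perpCount
  apply Nat.card_congr
  apply Equiv.subtypeEquivRight
  intro w
  constructor
  · rintro ⟨h1, h2⟩
    exact ⟨h1, by rw [← h2]; ring⟩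
  · rintro ⟨h1, h2⟩
    exact ⟨h1, by rw [h2]; ring⟩

/-- (P1) -/
theorem perpCount_eq_zero (hF : Fintype.card F = q ^ 2) (v : Fin k → (Fin n → F)) (c : F)
    (hc : c ^ q ≠ c) : perpCount F q n v c = 0 := by
  unfold perpCount
  rw [Nat.card_eq_zero]
  left
  refine ⟨?_⟩
  rintro ⟨w, _, hw⟩
  apply hc
  rw [← hw]
  exact hermForm_self_pow hF w

/-- (P2) -/
theorem perpCount_eq_one (hF : Fintype.card F = q ^ 2) (v : Fin k → (Fin n → F)) (c : F)
    (hc : c ∈ fixStar F q) : perpCount F q n v c = perpCount F q n v 1 := by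
  have hpos : 0 < normFiber q c := by
    rw [normFiber_of_mem hF c hc]; omega
  unfold normFiber at hpos
  obtain ⟨l, hl⟩ := Finset.card_pos.mp hpos
  simp only [mem_filter, mem_univ, true_and] at hl
  have hc0 : c ≠ 0 := (mem_fixStar.mp hc).1
  have hl0 : l ≠ 0 := by
    rintro rfl
    apply hc0
    rw [← hl, zero_mul]
  unfold perpCount
  symm
  apply Nat.card_congr
  refine
    { toFun := fun w => ⟨l • w.1, ?_, ?_⟩
      invFun := fun w => ⟨l⁻¹ • w.1, ?_, ?_⟩
      left_inv := fun w => by
        apply Subtype.ext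
        simp only [smul_smul, inv_mul_cancel₀ hl0, one_smul]
      right_inv := fun w => by
        apply Subtype.ext
        simp only [smul_smul, mul_inv_cancel₀ hl0, one_smul] }
  · intro i
    rw [hermForm_smul_left, w.2.1 i, mul_zero]
  · rw [hermForm_smul_left, hermForm_smul_right, w.2.2, mul_one, hl]
  · intro i
    rw [hermForm_smul_left, w.2.1 i, mul_zero]
  · rw [hermForm_smul_left, hermForm_smul_right, w.2.2, ← hl, inv_pow]
    field_simp

/-- summing a three-valued weight against `g`. -/
theorem sum_three_valued (h : F → ℕ) (A B : ℕ)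
    (hh : ∀ d, h d = if d = 0 then A else if d ^ q = d then B else 0) (g : F → ℕ) :
    ∑ d : F, h d * g d = A * g 0 + B * ∑ d ∈ fixStar F q, g d := by
  rw [← Finset.sum_erase_add (s := univ) (a := (0 : F)) _ (mem_univ _), add_comm]
  congr 1
  · rw [hh 0, if_pos rfl]
  · rw [Finset.mul_sum]
    symm
    have hsub : fixStar F q ⊆ univ.erase (0 : F) := by
      intro c hc
      rw [mem_fixStar] at hc
      simp [hc.1]
    rw [← Finset.sum_subset hsub]
    · apply Finset.sum_congr rfl
      intro d hd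
      rw [mem_fixStar] at hd
      rw [hh d, if_neg hd.1, if_pos hd.2]
    · intro c hc hc'
      simp only [mem_erase, mem_univ, and_true] at hc
      rw [mem_fixStar] at hc'
      have : ¬ c ^ q = c := fun h => hc' ⟨hc, h⟩
      rw [hh c, if_neg hc, if_neg this, zero_mul]

/-- summing a function of the standard `k`-dimensional norm. -/
theorem sum_hermNorm_comp (hF : Fintype.card F = q ^ 2) (k : ℕ) (g : F → ℕ) :
    ∑ a : Fin k → F, g (∑ i, a i * a i ^ q) =
      (hermAB q k).1 * g 0 + (hermAB q k).2 * ∑ d ∈ fixStar F q, g d := by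
  have h1 : ∑ a : Fin k → F, g (∑ i, a i * a i ^ q) = ∑ d : F, hermCount F q k d * g d := by
    rw [← Finset.sum_fiberwise_of_maps_to (s := univ) (t := univ)
      (g := fun a : Fin k → F => ∑ i, a i * a i ^ q) (fun _ _ => mem_univ _)]
    apply Finset.sum_congr rfl
    intro d _
    have : ∀ a ∈ univ.filter (fun a : Fin k → F => ∑ i, a i * a i ^ q = d),
        g (∑ i, a i * a i ^ q) = g d := by
      intro a ha
      simp only [mem_filter, mem_univ, true_and] at ha
      rw [ha]
    rw [Finset.sum_congr rfl this, Finset.sum_const, smul_eq_mul]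
    congr 1
    unfold hermCount
    rw [Nat.card_eq_fintype_card, Fintype.card_subtype]
  rw [h1]
  exact sum_three_valued _ _ _ (hermCount_eq hF k) g

/-- the two linear equations for `X = perpCount v 0`, `Y = perpCount v 1`. -/
theorem perpCount_equations (hF : Fintype.card F = q ^ 2) {v : Fin k → (Fin n → F)}
    (hv : OrthoN F q n k v) :
    (hermAB q n).1 = (hermAB q k).1 * perpCount F q n v 0 +
        (hermAB q k).2 * ((q - 1) * perpCount F q n v 1) ∧
    (hermAB q n).2 = (hermAB q k).1 * perpCount F q n v 1 +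
        (hermAB q k).2 * (perpCount F q n v 0 + (q - 2) * perpCount F q n v 1) := by
  have hq := herm_two_le hF
  have h1F : (1 : F) ∈ fixStar F q := mem_fixStar.mpr ⟨one_ne_zero, one_pow q⟩
  constructor
  · have h0 := hermCount_eq hF n (0 : F)
    rw [if_pos rfl, hermCount_eq_sum_perpCount hF hv,
      sum_hermNorm_comp hF k (fun d => perpCount F q n v (0 - d))] at h0
    rw [← h0]
    simp only [sub_zero]
    congr 2
    have : ∀ d ∈ fixStar F q, perpCount F q n v (0 - d) = perpCount F q n v 1 := by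
      intro d hd
      apply perpCount_eq_one hF
      rw [mem_fixStar] at hd ⊢
      rw [zero_sub]
      exact ⟨neg_ne_zero.mpr hd.1, by rw [herm_neg_pow hF, hd.2]⟩
    rw [Finset.sum_congr rfl this, Finset.sum_const, fixStar_card hF, smul_eq_mul]
  · have h0 := hermCount_eq hF n (1 : F)
    rw [if_neg one_ne_zero, if_pos (one_pow q), hermCount_eq_sum_perpCount hF hv,
      sum_hermNorm_comp hF k (fun d => perpCount F q n v (1 - d))] at h0
    rw [← h0]
    simp only [sub_zero]
    congr 2
    rw [← Finset.add_sum_erase _ _ h1F, sub_self]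
    congr 1
    have : ∀ d ∈ (fixStar F q).erase 1, perpCount F q n v (1 - d) = perpCount F q n v 1 := by
      intro d hd
      rw [mem_erase] at hd
      apply perpCount_eq_one hF
      have hd2 := mem_fixStar.mp hd.2
      rw [mem_fixStar]
      refine ⟨sub_ne_zero.mpr (Ne.symm hd.1), ?_⟩
      rw [herm_sub_pow hF, one_pow, hd2.2]
    rw [Finset.sum_congr rfl this, Finset.sum_const, Finset.card_erase_of_mem h1F,
      fixStar_card hF, smul_eq_mul]
    congr 1

/-- addition formulas for the sequences `A`, `B`. -/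
theorem hermAB_add (hq : 2 ≤ q) (k j : ℕ) :
    ((hermAB q (k + j)).1 : ℤ) = (hermAB q k).1 * (hermAB q j).1 +
        ((q : ℤ) - 1) * (hermAB q k).2 * (hermAB q j).2 ∧
    ((hermAB q (k + j)).2 : ℤ) = (hermAB q k).1 * (hermAB q j).2 +
        (hermAB q k).2 * ((hermAB q j).1 + ((q : ℤ) - 2) * (hermAB q j).2) := by
  obtain ⟨hAn, hBn⟩ := hermAB_closed hq (k + j)
  obtain ⟨hAk, hBk⟩ := hermAB_closed hq k
  obtain ⟨hAj, hBj⟩ := hermAB_closed hq j
  have hq0 : (q : ℤ) ≠ 0 := by
    have : (2 : ℤ) ≤ q := by exact_mod_cast hq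
    omega
  have hqq : (q : ℤ) * q ≠ 0 := mul_ne_zero hq0 hq0
  constructor
  · apply mul_left_cancel₀ hqq
    linear_combination (q : ℤ) * hAn - ((q : ℤ) * (hermAB q j).1) * hAk
      - ((q : ℤ) ^ (2 * k) + (-1) ^ k * ((q : ℤ) ^ (k + 1) - (q : ℤ) ^ k)) * hAj
      - ((q : ℤ) - 1) * ((q : ℤ) * (hermAB q j).2) * hBk
      - ((q : ℤ) - 1) * ((q : ℤ) ^ (2 * k) - (-1) ^ k * (q : ℤ) ^ k) * hBj
  · apply mul_left_cancel₀ hqq
    linear_combination (q : ℤ) * hBn - ((q : ℤ) * (hermAB q j).2) * hAk
      - ((q : ℤ) ^ (2 * k) + (-1) ^ k * ((q : ℤ) ^ (k + 1) - (q : ℤ) ^ k)) * hBj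
      - ((q : ℤ) * (hermAB q j).1 + ((q : ℤ) - 2) * ((q : ℤ) * (hermAB q j).2)) * hBk
      - ((q : ℤ) ^ (2 * k) - (-1) ^ k * (q : ℤ) ^ k) * hAj
      - ((q : ℤ) - 2) * ((q : ℤ) ^ (2 * k) - (-1) ^ k * (q : ℤ) ^ k) * hBj

/-- Key lemma: the number of norm-one vectors perpendicular to an orthonormal `k`-tuple
in `F^(k+j)` is `B_j`. -/
theorem perpCount_one (hF : Fintype.card F = q ^ 2) {j : ℕ} {v : Fin k → (Fin (k + j) → F)}
    (hv : OrthoN F q (k + j) k v) : perpCount F q (k + j) v 1 = (hermAB q j).2 := by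
  have hq := herm_two_le hF
  obtain ⟨e1, e2⟩ := perpCount_equations hF hv
  obtain ⟨i1, i2⟩ := hermAB_add hq k j
  obtain ⟨hAk, hBk⟩ := hermAB_closed hq k
  have hq0 : (q : ℤ) ≠ 0 := by
    have : (2 : ℤ) ≤ q := by exact_mod_cast hq
    omega
  set X : ℤ := (perpCount F q (k + j) v 0 : ℤ) with hX
  set Y : ℤ := (perpCount F q (k + j) v 1 : ℤ) with hY
  have e1' : ((hermAB q (k + j)).1 : ℤ) = (hermAB q k).1 * X + (hermAB q k).2 * (((q : ℤ) - 1) * Y) := by
    rw [e1]
    push_cast [Nat.cast_sub (show 1 ≤ q by omega)]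
    rfl
  have e2' : ((hermAB q (k + j)).2 : ℤ) = (hermAB q k).1 * Y +
      (hermAB q k).2 * (X + ((q : ℤ) - 2) * Y) := by
    rw [e2]
    push_cast [Nat.cast_sub hq]
    rfl
  -- D * (Y - B_j) = 0
  have hD : (((hermAB q k).1 : ℤ) - (hermAB q k).2) * (((hermAB q k).1 : ℤ) + ((q : ℤ) - 1) * (hermAB q k).2)
      * (Y - (hermAB q j).2) = 0 := by
    linear_combination ((hermAB q k).1 : ℤ) * (i2 - e2') - ((hermAB q k).2 : ℤ) * (i1 - e1')
  have hD1 : (((hermAB q k).1 : ℤ) - (hermAB q k).2) ≠ 0 := by
    intro h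
    have : (q : ℤ) * (((hermAB q k).1 : ℤ) - (hermAB q k).2) = (-1) ^ k * (q : ℤ) ^ (k + 1) := by
      linear_combination hAk - hBk
    rw [h, mul_zero] at this
    have h2 : ((-1 : ℤ) ^ k) * (q : ℤ) ^ (k + 1) ≠ 0 :=
      mul_ne_zero (pow_ne_zero _ (by norm_num)) (pow_ne_zero _ hq0)
    exact h2 this.symm
  have hD2 : (((hermAB q k).1 : ℤ) + ((q : ℤ) - 1) * (hermAB q k).2) ≠ 0 := by
    intro h
    have : (q : ℤ) * (((hermAB q k).1 : ℤ) + ((q : ℤ) - 1) * (hermAB q k).2) = (q : ℤ) ^ (2 * k) * q := by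
      linear_combination hAk + ((q : ℤ) - 1) * hBk
    rw [h, mul_zero] at this
    have h2 : (q : ℤ) ^ (2 * k) * q ≠ 0 := mul_ne_zero (pow_ne_zero _ hq0) hq0
    exact h2 this.symm
  have hY0 : Y - (hermAB q j).2 = 0 := by
    rcases mul_eq_zero.mp hD with h | h
    · rcases mul_eq_zero.mp h with h | h
      · exact absurd h hD1
      · exact absurd h hD2
    · exact h
  have : Y = (hermAB q j).2 := by linarith
  rw [hY] at this
  exact_mod_cast this

theorem orthoN_succ_iff (hF : Fintype.card F = q ^ 2) (x : Fin (k + 1) → (Fin n → F)) :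
    OrthoN F q n (k + 1) x ↔
      OrthoN F q n k (Fin.tail x) ∧ Perp F q n (Fin.tail x) (x 0) ∧
        Cfsg.hermForm n F q (x 0) (x 0) = 1 := by
  constructor
  · intro h
    refine ⟨?_, ?_, ?_⟩
    · intro i j
      have := h i.succ j.succ
      simp only [Fin.succ_inj] at this
      exact this
    · intro i
      have := h 0 i.succ
      rw [if_neg (Fin.succ_ne_zero i).symm] at this
      exact this
    · have := h 0 0
      rwa [if_pos rfl] at this
  · rintro ⟨h1, h2, h3⟩ i j
    refine Fin.cases ?_ (fun i' => ?_) i <;> refine Fin.cases ?_ (fun j' => ?_) j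
    · rw [if_pos rfl]; exact h3
    · rw [if_neg (Fin.succ_ne_zero j').symm]
      exact h2 j'
    · rw [if_neg (Fin.succ_ne_zero i')]
      exact hermForm_eq_zero_symm hF _ _ (h2 i')
    · have := h1 i' j'
      simp only [Fin.succ_inj]
      exact this

theorem card_orthoN_succ (hF : Fintype.card F = q ^ 2) (k j : ℕ) :
    Nat.card {v : Fin (k + 1) → (Fin (k + j) → F) // OrthoN F q (k + j) (k + 1) v} =
      Nat.card {v : Fin k → (Fin (k + j) → F) // OrthoN F q (k + j) k v} * (hermAB q j).2 := by
  classical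
  have e : {x : Fin (k + 1) → (Fin (k + j) → F) // OrthoN F q (k + j) (k + 1) x} ≃
      {p : (Fin (k + j) → F) × (Fin k → (Fin (k + j) → F)) //
        OrthoN F q (k + j) k p.2 ∧ Perp F q (k + j) p.2 p.1 ∧
          Cfsg.hermForm (k + j) F q p.1 p.1 = 1} :=
    Equiv.subtypeEquiv (Fin.consEquiv (fun _ : Fin (k + 1) => (Fin (k + j) → F))).symm
      (fun x => orthoN_succ_iff hF x)
  rw [Nat.card_congr e, Nat.card_eq_fintype_card, Fintype.card_subtype, Finset.card_filter,
    Fintype.sum_prod_type_right]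
  have h1 : ∀ v : Fin k → (Fin (k + j) → F),
      (∑ w : Fin (k + j) → F, if (OrthoN F q (k + j) k v ∧ Perp F q (k + j) v w ∧
          Cfsg.hermForm (k + j) F q w w = 1) then 1 else 0) =
        if OrthoN F q (k + j) k v then (hermAB q j).2 else 0 := by
    intro v
    by_cases hv : OrthoN F q (k + j) k v
    · rw [if_pos hv]
      simp only [hv, true_and]
      rw [← Finset.card_filter, ← Fintype.card_subtype, ← Nat.card_eq_fintype_card]
      exact perpCount_one hF hv
    · rw [if_neg hv]
      simp only [hv, false_and, if_false, Finset.sum_const_zero]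
  simp only []
  rw [Finset.sum_congr rfl (fun v _ => h1 v), ← Finset.sum_filter, Finset.sum_const, smul_eq_mul,
    Nat.card_eq_fintype_card, Fintype.card_subtype]

theorem card_orthoN (hF : Fintype.card F = q ^ 2) (n : ℕ) : ∀ k, k ≤ n →
    Nat.card {v : Fin k → (Fin n → F) // OrthoN F q n k v} =
      ∏ i ∈ range k, (hermAB q (n - i)).2
  | 0, _ => by
      rw [Finset.prod_range_zero, Nat.card_eq_one_iff_unique]
      refine ⟨⟨?_⟩, ⟨⟨fun i => i.elim0, fun i => i.elim0⟩⟩⟩
      rintro ⟨a, _⟩ ⟨b, _⟩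
      apply Subtype.ext
      funext i
      exact i.elim0
  | k + 1, hk => by
      have ih := card_orthoN hF n k (by omega)
      obtain ⟨j, rfl⟩ := Nat.exists_eq_add_of_le (show k ≤ n by omega)
      rw [card_orthoN_succ hF k j, ih, Finset.prod_range_succ, Nat.add_sub_cancel_left]

end ortho

section GUcard

variable {F : Type*} [Field F] [Fintype F] [DecidableEq F] {q n : ℕ}

omit [Fintype F] in
theorem mulVec_eq_comb (M : Matrix (Fin n) (Fin n) F) (u : Fin n → F) :
    M.mulVec u = comb (fun j i => M i j) u := by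
  funext i
  unfold comb
  simp only [Matrix.mulVec, dotProduct, Finset.sum_apply, Pi.smul_apply, smul_eq_mul]
  apply Finset.sum_congr rfl
  intro j _
  ring

theorem hermForm_single (hF : Fintype.card F = q ^ 2) (j l : Fin n) :
    Cfsg.hermForm n F q (Pi.single j 1) (Pi.single l 1) = if j = l then 1 else 0 := by
  have hq := herm_two_le hF
  unfold Cfsg.hermForm
  rw [Finset.sum_eq_single j]
  · rw [Pi.single_eq_same]
    by_cases h : j = l
    · subst h
      rw [Pi.single_eq_same, if_pos rfl, one_pow, mul_one]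
    · rw [if_neg h, Pi.single_eq_of_ne h, zero_pow (by omega), mul_zero]
  · intro i _ hi
    rw [Pi.single_eq_of_ne hi, zero_mul]
  · intro h; exact absurd (mem_univ _) h

theorem mem_GU_iff (g : Matrix.GeneralLinearGroup (Fin n) F) :
    g ∈ Cfsg.GU n F q ↔ ∀ u v : Fin n → F,
      Cfsg.hermForm n F q ((g : Matrix (Fin n) (Fin n) F).mulVec u)
        ((g : Matrix (Fin n) (Fin n) F).mulVec v) = Cfsg.hermForm n F q u v := Iff.rfl

/-- columns of a unitary matrix are orthonormal -/
theorem orthoN_cols_of_mem_GU (hF : Fintype.card F = q ^ 2)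
    (g : Matrix.GeneralLinearGroup (Fin n) F) (hg : g ∈ Cfsg.GU n F q) :
    OrthoN F q n n (fun j i => (g : Matrix (Fin n) (Fin n) F) i j) := by
  intro j l
  have := (mem_GU_iff g).mp hg (Pi.single j 1) (Pi.single l 1)
  rw [hermForm_single hF, Matrix.mulVec_single_one, Matrix.mulVec_single_one] at this
  exact this

/-- a matrix with orthonormal columns preserves the form -/
theorem hermForm_mulVec_of_orthoN (hF : Fintype.card F = q ^ 2) (M : Matrix (Fin n) (Fin n) F)
    (hM : OrthoN F q n n (fun j i => M i j)) (u v : Fin n → F) :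
    Cfsg.hermForm n F q (M.mulVec u) (M.mulVec v) = Cfsg.hermForm n F q u v := by
  rw [mulVec_eq_comb M u, mulVec_eq_comb M v, hermForm_comb_right hF]
  unfold Cfsg.hermForm
  apply Finset.sum_congr rfl
  intro i _
  have := hermForm_comb_left hM u i
  unfold Cfsg.hermForm at this
  rw [this, mul_comm]

theorem det_ne_zero_of_orthoN (hF : Fintype.card F = q ^ 2) (M : Matrix (Fin n) (Fin n) F)
    (hM : OrthoN F q n n (fun j i => M i j)) : M.det ≠ 0 := by
  have h1 : M.transpose * M.map (fun x => x ^ q) = 1 := by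
    ext j l
    rw [Matrix.mul_apply, Matrix.one_apply]
    have := hM j l
    unfold Cfsg.hermForm at this
    simpa using this
  intro h
  have h2 := congrArg Matrix.det h1
  rw [Matrix.det_mul, Matrix.det_transpose, h, zero_mul, Matrix.det_one] at h2
  exact zero_ne_one h2

theorem card_GU_eq_card_orthoN (hF : Fintype.card F = q ^ 2) :
    Nat.card (Cfsg.GU n F q) =
      Nat.card {v : Fin n → (Fin n → F) // OrthoN F q n n v} := by
  apply Nat.card_congr
  refine Equiv.ofBijective
    (fun g => ⟨fun j i => ((g.1 : Matrix.GeneralLinearGroup (Fin n) F) :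
      Matrix (Fin n) (Fin n) F) i j, orthoN_cols_of_mem_GU hF g.1 g.2⟩) ⟨?_, ?_⟩
  · intro g g' h
    apply Subtype.ext
    apply Units.ext
    ext i j
    have := congrArg (fun x => x.1 j i) h
    exact this
  · rintro ⟨v, hv⟩
    let M : Matrix (Fin n) (Fin n) F := Matrix.of (fun i j => v j i)
    have hM : OrthoN F q n n (fun j i => M i j) := hv
    have hdet := det_ne_zero_of_orthoN hF M hM
    refine ⟨⟨Matrix.GeneralLinearGroup.mkOfDetNeZero M hdet, ?_⟩, ?_⟩
    · rw [mem_GU_iff]
      intro u w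
      exact hermForm_mulVec_of_orthoN hF M hM u w
    · rfl

/-- `B_{i+1}` in product form. -/
theorem hermAB_snd_succ (hq : 2 ≤ q) (i : ℕ) :
    (hermAB q (i + 1)).2 = q ^ i * (if Even i then q ^ (i + 1) + 1 else q ^ (i + 1) - 1) := by
  obtain ⟨-, hB⟩ := hermAB_closed hq (i + 1)
  have hq0 : (q : ℤ) ≠ 0 := by
    have : (2 : ℤ) ≤ q := by exact_mod_cast hq
    omega
  have hp1 : 1 ≤ q ^ (i + 1) := Nat.one_le_pow _ _ (by omega)
  apply Nat.cast_injective (R := ℤ)
  apply mul_left_cancel₀ hq0
  rw [hB]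
  by_cases he : Even i
  · rw [if_pos he, pow_succ, he.neg_one_pow]
    push_cast
    ring
  · rw [if_neg he]
    have ho : Odd i := Nat.not_even_iff_odd.mp he
    rw [pow_succ (-1 : ℤ), ho.neg_one_pow]
    push_cast [Nat.cast_sub hp1]
    ring

/-- The order of `GU_n(q)`. -/
theorem card_GU (hF : Fintype.card F = q ^ 2) (n : ℕ) :
    Nat.card (Cfsg.GU n F q) = q ^ (n * (n - 1) / 2) *
      ∏ i ∈ Finset.range n, (if Even i then q ^ (i + 1) + 1 else q ^ (i + 1) - 1) := by
  have hq := herm_two_le hF
  rw [card_GU_eq_card_orthoN hF, card_orthoN hF n n le_rfl]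
  have h1 : ∏ i ∈ range n, (hermAB q (n - i)).2 = ∏ i ∈ range n, (hermAB q (i + 1)).2 := by
    rw [← Finset.prod_range_reflect (fun i => (hermAB q (i + 1)).2) n]
    apply Finset.prod_congr rfl
    intro i hi
    rw [mem_range] at hi
    congr 2
    omega
  rw [h1, Finset.prod_congr rfl (fun i _ => hermAB_snd_succ hq i), Finset.prod_mul_distrib,
    Finset.prod_pow_eq_pow_sum, Finset.sum_range_id]

end GUcard

end Cfsg.Agent.Lib.Helper14
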