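import Mathlib
import Cfsg.Agent.Lib.Helper14.Unitary

/-!
# The order of `SU_n(q)`: `(q+1) |SU_n(q)| = |GU_n(q)|`
-/

namespace Cfsg.Agent.Lib.Helper14

open Finset

section SUcard

variable {F : Type*} [Field F] [Fintype F] [DecidableEq F] {q n : ℕ}

omit [Fintype F] [DecidableEq F] in
theorem transpose_mul_map_of_orthoN (M : Matrix (Fin n) (Fin n) F)
    (hM : OrthoN F q n n (fun j i => M i j)) :
    M.transpose * M.map (fun x => x ^ q) = 1 := by
  ext j l
  rw [Matrix.mul_apply, Matrix.one_apply]
  have := hM j l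
  unfold Cfsg.hermForm at this
  simpa using this

/-- the determinant of a unitary matrix has norm one -/
theorem det_mul_det_pow_of_orthoN (hF : Fintype.card F = q ^ 2) (M : Matrix (Fin n) (Fin n) F)
    (hM : OrthoN F q n n (fun j i => M i j)) : M.det * M.det ^ q = 1 := by
  have h1 := transpose_mul_map_of_orthoN M hM
  obtain ⟨p, j, hp, hchar, rfl⟩ := herm_exists_char hF
  haveI := hchar
  haveI : Fact p.Prime := ⟨hp⟩
  have h2 : (M.map (fun x => x ^ p ^ j)).det = M.det ^ p ^ j := by
    have := RingHom.map_det (iterateFrobenius F p j) M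
    rw [iterateFrobenius_def] at this
    rw [this]
    rfl
  have := congrArg Matrix.det h1
  rw [Matrix.det_mul, Matrix.det_transpose, h2, Matrix.det_one] at this
  exact this

/-- the determinant hom on `GU`. -/
noncomputable def detGU (F : Type*) [Field F] (q n : ℕ) : Cfsg.GU n F q →* Fˣ :=
  Matrix.GeneralLinearGroup.det.comp (Cfsg.GU n F q).subtype

/-- the norm-one subgroup of `Fˣ`. -/
def normOne (F : Type*) [Field F] (q : ℕ) : Subgroup Fˣ := (powMonoidHom (q + 1) : Fˣ →* Fˣ).ker

omit [Fintype F] [DecidableEq F] in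
theorem mem_normOne (l : Fˣ) : l ∈ normOne F q ↔ l ^ (q + 1) = 1 := by
  unfold normOne
  rw [MonoidHom.mem_ker]
  rfl

theorem card_normOne (hF : Fintype.card F = q ^ 2) : Nat.card (normOne F q) = q + 1 := by
  have h1F : (1 : F) ∈ fixStar F q := mem_fixStar.mpr ⟨one_ne_zero, one_pow q⟩
  rw [← normFiber_of_mem hF 1 h1F]
  unfold normFiber
  rw [← Fintype.card_subtype, ← Nat.card_eq_fintype_card]
  apply Nat.card_congr
  refine
    { toFun := fun l => ⟨(l.1 : F), by
        have := (mem_normOne l.1).mp l.2
        have h2 := congrArg Units.val this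
        rw [Units.val_pow_eq_pow_val, Units.val_one, pow_succ'] at h2
        exact h2⟩
      invFun := fun w => ⟨Units.mk0 w.1 (by
          rintro h
          have := w.2
          rw [h, zero_mul] at this
          exact zero_ne_one this), by
        rw [mem_normOne]
        apply Units.ext
        rw [Units.val_pow_eq_pow_val, Units.val_one, Units.val_mk0, pow_succ']
        exact w.2⟩
      left_inv := fun l => by
        apply Subtype.ext
        apply Units.ext
        rfl
      right_inv := fun w => by
        apply Subtype.ext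
        rfl }

theorem detGU_range_le (hF : Fintype.card F = q ^ 2) : (detGU F q n).range ≤ normOne F q := by
  rintro _ ⟨g, rfl⟩
  rw [mem_normOne]
  apply Units.ext
  rw [Units.val_pow_eq_pow_val, Units.val_one, pow_succ']
  have := det_mul_det_pow_of_orthoN hF (g.1 : Matrix (Fin n) (Fin n) F)
    (orthoN_cols_of_mem_GU hF g.1 g.2)
  exact this

theorem normOne_le_detGU_range (hF : Fintype.card F = q ^ 2) (n : ℕ) :
    normOne F q ≤ (detGU F q (n + 1)).range := by
  intro l hl
  rw [mem_normOne] at hl
  have hl' : (l : F) * (l : F) ^ q = 1 := by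
    have h2 := congrArg Units.val hl
    rw [Units.val_pow_eq_pow_val, Units.val_one, pow_succ'] at h2
    exact h2
  let d : Fin (n + 1) → F := Function.update (fun _ => 1) 0 (l : F)
  have hd : ∀ i, d i * d i ^ q = 1 := by
    intro i
    by_cases hi : i = 0
    · subst hi
      simp only [d, Function.update_self]
      exact hl'
    · simp only [d, Function.update_of_ne hi, one_pow, mul_one]
  let D : Matrix (Fin (n + 1)) (Fin (n + 1)) F := Matrix.diagonal d
  have hD : OrthoN F q (n + 1) (n + 1) (fun j i => D i j) := by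
    intro j k
    have hq := herm_two_le hF
    unfold Cfsg.hermForm
    rw [Finset.sum_eq_single j]
    · by_cases hjk : j = k
      · subst hjk
        rw [if_pos rfl]
        simp only [D, Matrix.diagonal_apply_eq]
        exact hd j
      · rw [if_neg hjk]
        simp only [D, Matrix.diagonal_apply_ne _ hjk, zero_pow (show q ≠ 0 by omega), mul_zero]
    · intro i _ hij
      simp only [D, Matrix.diagonal_apply_ne _ hij, zero_mul]
    · intro h; exact absurd (mem_univ _) h
  have hdet : D.det = (l : F) := by
    simp only [D, Matrix.det_diagonal, d]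
    rw [Fin.prod_univ_succ]
    simp only [Function.update_self]
    rw [Finset.prod_eq_one, mul_one]
    intro i _
    rw [Function.update_of_ne (Fin.succ_ne_zero i)]
  have hdet0 : D.det ≠ 0 := by
    rw [hdet]; exact l.ne_zero
  refine ⟨⟨Matrix.GeneralLinearGroup.mkOfDetNeZero D hdet0, ?_⟩, ?_⟩
  · rw [mem_GU_iff]
    intro u w
    exact hermForm_mulVec_of_orthoN hF D hD u w
  · apply Units.ext
    show (Matrix.GeneralLinearGroup.det (Matrix.GeneralLinearGroup.mkOfDetNeZero D hdet0) : F) = l
    rw [Matrix.GeneralLinearGroup.val_det_apply]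
    exact hdet

theorem card_detGU_range (hF : Fintype.card F = q ^ 2) (n : ℕ) :
    Nat.card (detGU F q (n + 1)).range = q + 1 := by
  rw [le_antisymm (detGU_range_le hF) (normOne_le_detGU_range hF n), card_normOne hF]

omit [Fintype F] [DecidableEq F] in
theorem card_SU_eq_card_ker : Nat.card (Cfsg.SU n F q) = Nat.card (detGU F q n).ker := by
  apply Nat.card_congr
  refine Equiv.ofBijective (fun g => ⟨⟨Matrix.SpecialLinearGroup.toGL g.1, g.2⟩, ?_⟩) ⟨?_, ?_⟩
  · rw [MonoidHom.mem_ker]
    apply Units.ext
    show (Matrix.GeneralLinearGroup.det (Matrix.SpecialLinearGroup.toGL g.1) : F) = 1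
    rw [Matrix.GeneralLinearGroup.val_det_apply]
    exact g.1.2
  · intro g g' h
    apply Subtype.ext
    apply Subtype.ext
    have h1 := congrArg (fun x => ((x.1.1 : Matrix.GeneralLinearGroup (Fin n) F) :
      Matrix (Fin n) (Fin n) F)) h
    exact h1
  · rintro ⟨⟨g, hg⟩, hker⟩
    rw [MonoidHom.mem_ker] at hker
    have hdet : (g : Matrix (Fin n) (Fin n) F).det = 1 := by
      have := congrArg Units.val hker
      exact this
    refine ⟨⟨⟨(g : Matrix (Fin n) (Fin n) F), hdet⟩, hg⟩, ?_⟩
    apply Subtype.ext
    apply Subtype.ext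
    apply Units.ext
    rfl

/-- `(q+1) |SU_n(q)| = |GU_n(q)|` for `n ≥ 1`. -/
theorem card_SU_mul (hF : Fintype.card F = q ^ 2) (n : ℕ) (hn : 1 ≤ n) :
    (q + 1) * Nat.card (Cfsg.SU n F q) = Nat.card (Cfsg.GU n F q) := by
  obtain ⟨m, rfl⟩ : ∃ m, n = m + 1 := ⟨n - 1, by omega⟩
  rw [card_SU_eq_card_ker, ← card_detGU_range hF m, ← Subgroup.index_ker, mul_comm]
  exact Subgroup.card_mul_index _

end SUcard

end Cfsg.Agent.Lib.Helper14
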