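import Mathlib
import Cfsg.Agent.Lib.Helper14.Unitary2

/-!
# The centre of `SU_n(q)` has order `gcd(n, q+1)` (for `n ≥ 2`)
-/

namespace Cfsg.Agent.Lib.Helper14

open Finset

section center

variable {F : Type*} [Field F] [Fintype F] [DecidableEq F] {q n : ℕ}

/-- unitary matrices -/
def IsUni (F : Type*) [Field F] (q n : ℕ) (M : Matrix (Fin n) (Fin n) F) : Prop :=
  ∀ u v, Cfsg.hermForm n F q (M.mulVec u) (M.mulVec v) = Cfsg.hermForm n F q u v

omit [Fintype F] [DecidableEq F] in
theorem IsUni.mul {M N : Matrix (Fin n) (Fin n) F} (hM : IsUni F q n M) (hN : IsUni F q n N) :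
    IsUni F q n (M * N) := by
  intro u v
  rw [← Matrix.mulVec_mulVec, ← Matrix.mulVec_mulVec, hM, hN]

omit [Fintype F] [DecidableEq F] in
theorem isUni_diagonal (d : Fin n → F) (hd : ∀ i, d i * d i ^ q = 1) :
    IsUni F q n (Matrix.diagonal d) := by
  intro u v
  unfold Cfsg.hermForm
  apply Finset.sum_congr rfl
  intro i _
  rw [Matrix.mulVec_diagonal, Matrix.mulVec_diagonal, mul_pow]
  calc d i * u i * (d i ^ q * v i ^ q) = (d i * d i ^ q) * (u i * v i ^ q) := by ring
    _ = u i * v i ^ q := by rw [hd i, one_mul]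

omit [Fintype F] in
theorem isUni_permMatrix (σ : Equiv.Perm (Fin n)) : IsUni F q n (σ.permMatrix F) := by
  intro u v
  rw [Matrix.permMatrix_mulVec, Matrix.permMatrix_mulVec]
  unfold Cfsg.hermForm
  exact Equiv.sum_comp σ (fun i => u i * v i ^ q)

omit [Fintype F] [DecidableEq F] in
theorem mem_SU_iff (g : Matrix.SpecialLinearGroup (Fin n) F) :
    g ∈ Cfsg.SU n F q ↔ IsUni F q n (g : Matrix (Fin n) (Fin n) F) := Iff.rfl

/-- a norm-one element whose square is not one -/
theorem exists_normOne_sq_ne_one (hF : Fintype.card F = q ^ 2) :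
    ∃ l : F, l * l ^ q = 1 ∧ l * l ≠ 1 := by
  have hq := herm_two_le hF
  have h1F : (1 : F) ∈ fixStar F q := mem_fixStar.mpr ⟨one_ne_zero, one_pow q⟩
  have hcard := normFiber_of_mem hF 1 h1F
  unfold normFiber at hcard
  have h2 : (Polynomial.nthRootsFinset 2 (1 : F)).card < (univ.filter (fun w : F => w * w ^ q = 1)).card := by
    rw [hcard]
    calc (Polynomial.nthRootsFinset 2 (1 : F)).card
        ≤ Multiset.card (Polynomial.nthRoots 2 (1 : F)) := by
          rw [Polynomial.nthRootsFinset_def]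
          exact Multiset.toFinset_card_le _
      _ ≤ 2 := Polynomial.card_nthRoots _ _
      _ < q + 1 := by omega
  obtain ⟨l, hl1, hl2⟩ := Finset.exists_mem_notMem_of_card_lt_card h2
  simp only [mem_filter, mem_univ, true_and] at hl1
  refine ⟨l, hl1, ?_⟩
  intro h
  apply hl2
  rw [Polynomial.mem_nthRootsFinset (by norm_num), pow_two]
  exact h

/-- central elements of `SU_n` commute with unitary matrices of determinant one -/
theorem center_comm (z : Cfsg.SU n F q) (hz : z ∈ Subgroup.center (Cfsg.SU n F q))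
    (M : Matrix (Fin n) (Fin n) F) (hdet : M.det = 1) (hM : IsUni F q n M) :
    M * (z.1 : Matrix (Fin n) (Fin n) F) = (z.1 : Matrix (Fin n) (Fin n) F) * M := by
  have h := Subgroup.mem_center_iff.mp hz ⟨⟨M, hdet⟩, (mem_SU_iff _).mpr hM⟩
  have h2 := congrArg (fun x : Cfsg.SU n F q =>
    ((x.1 : Matrix.SpecialLinearGroup (Fin n) F) : Matrix (Fin n) (Fin n) F)) h
  exact h2

theorem center_offdiag (hF : Fintype.card F = q ^ 2) (z : Cfsg.SU n F q)
    (hz : z ∈ Subgroup.center (Cfsg.SU n F q)) (i j : Fin n) (hij : i ≠ j) :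
    (z.1 : Matrix (Fin n) (Fin n) F) i j = 0 := by
  obtain ⟨l, hl1, hl2⟩ := exists_normOne_sq_ne_one hF
  have hl0 : l ≠ 0 := by
    rintro rfl
    rw [zero_mul] at hl1
    exact zero_ne_one hl1
  have hlinv : l⁻¹ * l⁻¹ ^ q = 1 := by
    rw [inv_pow, ← mul_inv, hl1, inv_one]
  let d : Fin n → F := fun k => (if k = i then l else 1) * (if k = j then l⁻¹ else 1)
  have hd : ∀ k, d k * d k ^ q = 1 := by
    intro k
    simp only [d]
    rw [mul_pow]
    have h1 : (if k = i then l else 1) * (if k = i then l else 1) ^ q = 1 := by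
      split_ifs
      · exact hl1
      · simp
    have h2 : (if k = j then l⁻¹ else 1) * (if k = j then l⁻¹ else 1) ^ q = 1 := by
      split_ifs
      · exact hlinv
      · simp
    calc _ = ((if k = i then l else 1) * (if k = i then l else 1) ^ q) *
        ((if k = j then l⁻¹ else 1) * (if k = j then l⁻¹ else 1) ^ q) := by ring
      _ = 1 := by rw [h1, h2, one_mul]
  have hdet : (Matrix.diagonal d).det = 1 := by
    rw [Matrix.det_diagonal]
    simp only [d]
    rw [Finset.prod_mul_distrib, Finset.prod_ite_eq' univ i, Finset.prod_ite_eq' univ j]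
    simp only [mem_univ, if_true]
    exact mul_inv_cancel₀ hl0
  have hcomm := center_comm z hz (Matrix.diagonal d) hdet (isUni_diagonal d hd)
  have h1 := congrFun (congrFun hcomm i) j
  rw [Matrix.diagonal_mul, Matrix.mul_diagonal] at h1
  have hdi : d i = l := by
    simp only [d, if_neg hij, mul_one, if_true]
  have hdj : d j = l⁻¹ := by
    simp only [d, if_neg (Ne.symm hij), one_mul, if_true]
  rw [hdi, hdj] at h1
  -- l * Z = Z * l⁻¹
  have h2 : (l * l - 1) * (z.1 : Matrix (Fin n) (Fin n) F) i j = 0 := by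
    have : l * (l * (z.1 : Matrix (Fin n) (Fin n) F) i j) = (z.1 : Matrix (Fin n) (Fin n) F) i j := by
      rw [h1]
      field_simp
    linear_combination this
  rcases mul_eq_zero.mp h2 with h | h
  · exact absurd (sub_eq_zero.mp h) hl2
  · exact h

theorem center_diag_eq (hF : Fintype.card F = q ^ 2) (z : Cfsg.SU n F q)
    (hz : z ∈ Subgroup.center (Cfsg.SU n F q)) (i j : Fin n) (hij : i ≠ j) :
    (z.1 : Matrix (Fin n) (Fin n) F) i i = (z.1 : Matrix (Fin n) (Fin n) F) j j := by
  let d : Fin n → F := fun k => if k = j then -1 else 1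
  have hneg : (-1 : F) * (-1) ^ q = 1 := by
    rw [herm_neg_pow hF, one_pow]; ring
  have hd : ∀ k, d k * d k ^ q = 1 := by
    intro k
    simp only [d]
    split_ifs
    · exact hneg
    · simp
  let S : Matrix (Fin n) (Fin n) F := (Equiv.swap i j).permMatrix F * Matrix.diagonal d
  have hS : IsUni F q n S := (isUni_permMatrix _).mul (isUni_diagonal d hd)
  have hdet : S.det = 1 := by
    simp only [S]
    rw [Matrix.det_mul, Matrix.det_permutation, Equiv.Perm.sign_swap hij, Matrix.det_diagonal]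
    simp only [d]
    rw [Finset.prod_ite_eq' univ j]
    simp
  have hcomm := center_comm z hz S hdet hS
  have h1 := congrFun (congrFun hcomm j) i
  rw [Matrix.mul_apply, Matrix.mul_apply] at h1
  have hSji : S j i = 1 := by
    simp only [S]
    rw [Matrix.mul_diagonal]
    simp only [d, if_neg hij, mul_one]
    simp [Equiv.Perm.permMatrix, PEquiv.toMatrix_apply, Equiv.toPEquiv_apply]
  rw [Finset.sum_eq_single i, Finset.sum_eq_single j] at h1
  · rw [hSji, one_mul, mul_one] at h1
    exact h1
  · intro k _ hk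
    rw [center_offdiag hF z hz j k (Ne.symm hk), zero_mul]
  · intro h; exact absurd (mem_univ _) h
  · intro k _ hk
    rw [center_offdiag hF z hz k i hk, mul_zero]
  · intro h; exact absurd (mem_univ _) h

/-- a central element of `SU_{m+2}` is the scalar matrix of its `(0,0)` entry -/
theorem center_eq_scalar (hF : Fintype.card F = q ^ 2) {m : ℕ} (z : Cfsg.SU (m + 2) F q)
    (hz : z ∈ Subgroup.center (Cfsg.SU (m + 2) F q)) :
    (z.1 : Matrix (Fin (m + 2)) (Fin (m + 2)) F) =
      Matrix.diagonal (fun _ => (z.1 : Matrix (Fin (m + 2)) (Fin (m + 2)) F) 0 0) := by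
  ext a b
  by_cases hab : a = b
  · subst hab
    rw [Matrix.diagonal_apply_eq]
    by_cases ha : a = 0
    · rw [ha]
    · exact center_diag_eq hF z hz a 0 ha
  · rw [Matrix.diagonal_apply_ne _ hab]
    exact center_offdiag hF z hz a b hab

/-- the scalars allowed in the centre -/
def centerScalars (F : Type*) [Field F] (q n : ℕ) : Type _ := {c : F // c ^ n = 1 ∧ c * c ^ q = 1}

theorem center_scalar_props (hF : Fintype.card F = q ^ 2) {m : ℕ} (z : Cfsg.SU (m + 2) F q)
    (hz : z ∈ Subgroup.center (Cfsg.SU (m + 2) F q)) :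
    ((z.1 : Matrix (Fin (m + 2)) (Fin (m + 2)) F) 0 0) ^ (m + 2) = 1 ∧
    ((z.1 : Matrix (Fin (m + 2)) (Fin (m + 2)) F) 0 0) *
      ((z.1 : Matrix (Fin (m + 2)) (Fin (m + 2)) F) 0 0) ^ q = 1 := by
  have hsc := center_eq_scalar hF z hz
  set c := (z.1 : Matrix (Fin (m + 2)) (Fin (m + 2)) F) 0 0 with hc
  constructor
  · have hdet : (z.1 : Matrix (Fin (m + 2)) (Fin (m + 2)) F).det = 1 := z.1.2
    rw [hsc, Matrix.det_diagonal, Finset.prod_const, Finset.card_univ, Fintype.card_fin] at hdet
    exact hdet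
  · have hU : IsUni F q (m + 2) (z.1 : Matrix (Fin (m + 2)) (Fin (m + 2)) F) := (mem_SU_iff _).mp z.2
    have := hU (Pi.single 0 1) (Pi.single 0 1)
    rw [hermForm_single hF, if_pos rfl, hsc, Matrix.mulVec_single_one] at this
    unfold Cfsg.hermForm at this
    rw [Finset.sum_eq_single 0] at this
    · simpa using this
    · intro k _ hk
      simp [Matrix.diagonal_apply_ne _ hk]
    · intro h; exact absurd (mem_univ _) h

theorem card_center_SU_eq (hF : Fintype.card F = q ^ 2) (m : ℕ) :
    Nat.card (Subgroup.center (Cfsg.SU (m + 2) F q)) =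
      Nat.card {c : F // c ^ (m + 2) = 1 ∧ c * c ^ q = 1} := by
  apply Nat.card_congr
  refine Equiv.ofBijective (fun z => ⟨(z.1.1 : Matrix (Fin (m + 2)) (Fin (m + 2)) F) 0 0,
    center_scalar_props hF z.1 z.2⟩) ⟨?_, ?_⟩
  · intro z z' h
    have h0 : (z.1.1 : Matrix (Fin (m + 2)) (Fin (m + 2)) F) 0 0 =
        (z'.1.1 : Matrix (Fin (m + 2)) (Fin (m + 2)) F) 0 0 := congrArg Subtype.val h
    apply Subtype.ext
    apply Subtype.ext
    apply Subtype.ext
    rw [center_eq_scalar hF z.1 z.2, center_eq_scalar hF z'.1 z'.2, h0]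
  · rintro ⟨c, hc1, hc2⟩
    have hdet : (Matrix.diagonal (fun _ : Fin (m + 2) => c)).det = 1 := by
      rw [Matrix.det_diagonal, Finset.prod_const, Finset.card_univ, Fintype.card_fin]
      exact hc1
    have hU : IsUni F q (m + 2) (Matrix.diagonal (fun _ : Fin (m + 2) => c)) :=
      isUni_diagonal _ (fun _ => hc2)
    let g : Cfsg.SU (m + 2) F q := ⟨⟨Matrix.diagonal (fun _ => c), hdet⟩, (mem_SU_iff _).mpr hU⟩
    have hg : g ∈ Subgroup.center (Cfsg.SU (m + 2) F q) := by
      rw [Subgroup.mem_center_iff]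
      intro h
      apply Subtype.ext
      apply Subtype.ext
      show (h.1 : Matrix (Fin (m + 2)) (Fin (m + 2)) F) * Matrix.diagonal (fun _ => c) =
        Matrix.diagonal (fun _ => c) * (h.1 : Matrix (Fin (m + 2)) (Fin (m + 2)) F)
      ext a b
      rw [Matrix.mul_diagonal, Matrix.diagonal_mul, mul_comm]
    refine ⟨⟨g, hg⟩, ?_⟩
    apply Subtype.ext
    show (Matrix.diagonal (fun _ : Fin (m + 2) => c)) 0 0 = c
    rw [Matrix.diagonal_apply_eq]

theorem card_scalars (hF : Fintype.card F = q ^ 2) (n : ℕ) :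
    Nat.card {c : F // c ^ n = 1 ∧ c * c ^ q = 1} = Nat.gcd n (q + 1) := by
  have hq := herm_two_le hF
  set g := Nat.gcd n (q + 1) with hg
  have hgpos : 0 < g := Nat.gcd_pos_of_pos_right _ (by omega)
  have h1 : Nat.card {c : F // c ^ n = 1 ∧ c * c ^ q = 1} =
      Nat.card (powMonoidHom g : Fˣ →* Fˣ).ker := by
    apply Nat.card_congr
    refine
      { toFun := fun c => ⟨Units.mk0 c.1 (by
            rintro h
            have := c.2.2
            rw [h, zero_mul] at this
            exact zero_ne_one this), by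
          rw [MonoidHom.mem_ker]
          apply Units.ext
          show (Units.mk0 c.1 _ ^ g : Fˣ).val = 1
          rw [Units.val_pow_eq_pow_val, Units.val_mk0]
          have h2 : c.1 ^ (q + 1) = 1 := by rw [pow_succ']; exact c.2.2
          exact pow_gcd_eq_one.mpr ⟨c.2.1, h2⟩⟩
        invFun := fun u => ⟨(u.1 : F), by
          have hu := u.2
          rw [MonoidHom.mem_ker] at hu
          have hu' : (u.1 : F) ^ g = 1 := by
            have := congrArg Units.val hu
            simpa using this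
          constructor
          · obtain ⟨k, hk⟩ := Nat.gcd_dvd_left n (q + 1)
            rw [hk, pow_mul, hu', one_pow]
          · obtain ⟨k, hk⟩ := Nat.gcd_dvd_right n (q + 1)
            rw [← pow_succ', hk, pow_mul, hu', one_pow]⟩
        left_inv := fun c => by
          apply Subtype.ext
          rfl
        right_inv := fun u => by
          apply Subtype.ext
          apply Units.ext
          rfl }
  rw [h1, IsCyclic.card_powMonoidHom_ker, Nat.card_units, Nat.card_eq_fintype_card, hF]
  apply Nat.gcd_eq_right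
  have h2 : g ∣ q + 1 := Nat.gcd_dvd_right n (q + 1)
  have h3 : q ^ 2 - 1 = (q + 1) * (q - 1) := by
    obtain ⟨r, rfl⟩ : ∃ r, q = r + 1 := ⟨q - 1, by omega⟩
    simp only [Nat.add_sub_cancel]
    have : (r + 1) ^ 2 = (r + 1 + 1) * r + 1 := by ring
    omega
  rw [h3]
  exact Dvd.dvd.mul_right h2 _

/-- The centre of `SU_n(q)`, `n ≥ 2`, has order `gcd(n, q+1)`. -/
theorem card_center_SU (hF : Fintype.card F = q ^ 2) (n : ℕ) (hn : 2 ≤ n) :
    Nat.card (Subgroup.center (Cfsg.SU n F q)) = Nat.gcd n (q + 1) := by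
  obtain ⟨m, rfl⟩ : ∃ m, n = m + 2 := ⟨n - 2, by omega⟩
  rw [card_center_SU_eq hF m, card_scalars hF]

end center

end Cfsg.Agent.Lib.Helper14
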