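import Mathlib

/-!
# Counting zeros of split quadratic forms over finite fields
-/

namespace Cfsg.Agent.Lib.Helper14

open Finset

section

variable {F : Type*} [Field F] [Fintype F] [DecidableEq F]

/-- fibers of a nonzero linear functional `y ↦ ∑ x i * y i` on `ι → F` have `q^(|ι|-1)` elements. -/
theorem card_dot_eq {ι : Type*} [Fintype ι] [DecidableEq ι] (x : ι → F) (hx : x ≠ 0) (c : F) :
    (univ.filter (fun y : ι → F => ∑ i, x i * y i = c)).card =
      Fintype.card F ^ (Fintype.card ι - 1) := by
  classical
  let φ : (ι → F) →+ F :=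
    { toFun := fun y => ∑ i, x i * y i
      map_zero' := by simp
      map_add' := by intro y z; simp [mul_add, Finset.sum_add_distrib] }
  obtain ⟨i0, hi0⟩ := Function.ne_iff.mp hx
  have hi0' : x i0 ≠ 0 := hi0
  have hsurj : Function.Surjective φ := by
    intro d
    refine ⟨Pi.single i0 (d / x i0), ?_⟩
    show ∑ i, x i * (Pi.single i0 (d / x i0) : ι → F) i = d
    rw [Finset.sum_eq_single i0]
    · rw [Pi.single_eq_same]
      field_simp
    · intro j _ hj
      rw [Pi.single_eq_of_ne hj, mul_zero]
    · intro h; exact absurd (Finset.mem_univ _) h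
  have hfib : ∀ d : F, (univ.filter (fun y : ι → F => φ y = d)).card =
      (univ.filter (fun y : ι → F => φ y = c)).card := by
    intro d
    exact AddMonoidHom.card_fiber_eq_of_mem_range φ (hsurj d) (hsurj c)
  have htot : (univ : Finset (ι → F)).card =
      ∑ d : F, (univ.filter (fun y : ι → F => φ y = d)).card :=
    Finset.card_eq_sum_card_fiberwise (f := fun y => φ y) (t := univ) (fun _ _ => Finset.mem_univ _)
  rw [Finset.sum_congr rfl (fun d _ => hfib d), Finset.sum_const, Finset.card_univ, Finset.card_univ,
    Fintype.card_fun, smul_eq_mul] at htot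
  have hpos : 0 < Fintype.card ι := Fintype.card_pos_iff.mpr ⟨i0⟩
  have hq : 0 < Fintype.card F := Fintype.card_pos
  have : Fintype.card F ^ Fintype.card ι = Fintype.card F * Fintype.card F ^ (Fintype.card ι - 1) := by
    rw [← pow_succ']
    congr 1
    omega
  rw [this] at htot
  exact (Nat.eq_of_mul_eq_mul_left hq htot).symm


/-- number of pairs `(x, y)` with `∑ x i * y i = c`. -/
theorem card_pair_dot_eq {ι : Type*} [Fintype ι] [DecidableEq ι] (c : F) :
    (univ.filter (fun p : (ι → F) × (ι → F) => ∑ i, p.1 i * p.2 i = c)).card =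
      (if c = 0 then Fintype.card F ^ Fintype.card ι else 0) +
        (Fintype.card F ^ Fintype.card ι - 1) * Fintype.card F ^ (Fintype.card ι - 1) := by
  classical
  rw [Finset.card_filter, Fintype.sum_prod_type]
  have h1 : ∀ x : ι → F, (∑ y : ι → F, if ∑ i, x i * y i = c then 1 else 0) =
      if x = 0 then (if c = 0 then Fintype.card F ^ Fintype.card ι else 0)
      else Fintype.card F ^ (Fintype.card ι - 1) := by
    intro x
    rw [← Finset.card_filter]
    by_cases hx : x = 0
    · subst hx
      rw [if_pos rfl]
      by_cases hc : c = 0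
      · subst hc
        rw [if_pos rfl]
        have : (univ.filter (fun y : ι → F => ∑ i, (0 : ι → F) i * y i = 0)) = univ := by
          apply Finset.filter_true_of_mem
          intro y _
          simp
        rw [this, Finset.card_univ, Fintype.card_fun]
      · rw [if_neg hc]
        rw [Finset.card_eq_zero]
        apply Finset.filter_false_of_mem
        intro y _
        simp only [Pi.zero_apply, zero_mul, Finset.sum_const_zero]
        exact fun h => hc h.symm
    · rw [if_neg hx]
      exact card_dot_eq x hx c
  simp only []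
  rw [Finset.sum_congr rfl (fun x _ => h1 x), Finset.sum_ite, Finset.sum_const, Finset.sum_const,
    Finset.filter_eq', if_pos (Finset.mem_univ _), Finset.card_singleton, one_smul,
    Finset.filter_ne', Finset.card_erase_of_mem (Finset.mem_univ _), Finset.card_univ,
    Fintype.card_fun, smul_eq_mul]

/-- counting zeros of `f a + g b` when the fibers of `g` have two sizes. -/
theorem natCard_sum_form {A B : Type*} [Fintype A] [Fintype B] (f : A → F) (g : B → F)
    (N0 N1 : ℕ) (hg : ∀ c, Nat.card {b // g b = c} = if c = 0 then N0 else N1) :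
    Nat.card {p : A × B // f p.1 + g p.2 = 0} =
      Nat.card {a // f a = 0} * N0 + (Fintype.card A - Nat.card {a // f a = 0}) * N1 := by
  classical
  rw [Nat.card_eq_fintype_card, Fintype.card_subtype, Finset.card_filter, Fintype.sum_prod_type]
  have h1 : ∀ a : A, (∑ b : B, if f a + g b = 0 then 1 else 0) = if f a = 0 then N0 else N1 := by
    intro a
    rw [← Finset.card_filter, ← Fintype.card_subtype, ← Nat.card_eq_fintype_card]
    have : Nat.card {b // f a + g b = 0} = Nat.card {b // g b = - f a} := by
      apply Nat.card_congr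
      apply Equiv.subtypeEquivRight
      intro b
      constructor
      · intro h; exact eq_neg_of_add_eq_zero_right h
      · intro h; rw [h]; ring
    rw [this, hg]
    simp only [neg_eq_zero]
  simp only []
  rw [Finset.sum_congr rfl (fun a _ => h1 a), Finset.sum_ite, Finset.sum_const, Finset.sum_const,
    smul_eq_mul, smul_eq_mul, Nat.card_eq_fintype_card, Fintype.card_subtype]
  congr 2
  have := Finset.card_filter_add_card_filter_not (s := (univ : Finset A)) (fun a => f a = 0)
  rw [Finset.card_univ] at this
  omega


/-- number of `v : Fin m ⊕ Fin m → F` with `∑ v (inl i) * v (inr i) = c`. -/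
theorem natCard_plus (m : ℕ) (c : F) :
    Nat.card {v : Fin m ⊕ Fin m → F // ∑ i : Fin m, v (.inl i) * v (.inr i) = c} =
      (if c = 0 then Fintype.card F ^ m else 0) +
        (Fintype.card F ^ m - 1) * Fintype.card F ^ (m - 1) := by
  classical
  have e : {v : Fin m ⊕ Fin m → F // ∑ i : Fin m, v (.inl i) * v (.inr i) = c} ≃
      {p : (Fin m → F) × (Fin m → F) // ∑ i, p.1 i * p.2 i = c} :=
    Equiv.subtypeEquiv (Equiv.sumArrowEquivProdArrow (Fin m) (Fin m) F) (fun v => Iff.rfl)
  rw [Nat.card_congr e, Nat.card_eq_fintype_card, Fintype.card_subtype, card_pair_dot_eq,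
    Fintype.card_fin]

end

end Cfsg.Agent.Lib.Helper14
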