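import Mathlib
import Cfsg.Agent.Lib.Helper14.FormCount
import Cfsg.Agent.Lib.Helper14.SympCount

/-!
# Counting hyperbolic systems for a quadratic form with nondegenerate polar form
(engine for the orders of the finite orthogonal groups)
-/

namespace Cfsg.Agent.Lib.Helper14

open Finset

section quad

variable {F : Type*} [Field F] {ι : Type*}

/-- abstract quadratic form `Q` on `ι → F` with polar form `B`. -/
structure IsQF (Q : (ι → F) → F) (B : (ι → F) → (ι → F) → F) : Prop where
  polar : ∀ u v, Q (u + v) = Q u + Q v + B u v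
  q_smul : ∀ (c : F) u, Q (c • u) = c * c * Q u
  b_add : ∀ u v w, B (u + v) w = B u w + B v w
  b_smul : ∀ (c : F) u w, B (c • u) w = c * B u w
  b_symm : ∀ u v, B u v = B v u
  nondeg : ∀ u, u ≠ 0 → ∃ v, B u v ≠ 0

namespace IsQF

variable {Q : (ι → F) → F} {B : (ι → F) → (ι → F) → F}

theorem q_zero (h : IsQF Q B) : Q 0 = 0 := by
  have := h.q_smul 0 0
  simpa using this

theorem b_zero_left (h : IsQF Q B) (w : ι → F) : B 0 w = 0 := by
  have := h.b_smul 0 0 w
  simpa using this

theorem b_zero_right (h : IsQF Q B) (w : ι → F) : B w 0 = 0 := by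
  rw [h.b_symm, h.b_zero_left]

theorem b_add_right (h : IsQF Q B) (u v w : ι → F) : B u (v + w) = B u v + B u w := by
  rw [h.b_symm, h.b_add, h.b_symm v, h.b_symm w]

theorem b_smul_right (h : IsQF Q B) (c : F) (u w : ι → F) : B u (c • w) = c * B u w := by
  rw [h.b_symm, h.b_smul, h.b_symm]

theorem b_neg_left (h : IsQF Q B) (u w : ι → F) : B (-u) w = - B u w := by
  have := h.b_smul (-1) u w
  simpa using this

theorem b_sub_left (h : IsQF Q B) (u v w : ι → F) : B (u - v) w = B u w - B v w := by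
  rw [sub_eq_add_neg, h.b_add, h.b_neg_left, ← sub_eq_add_neg]

theorem b_sum_left (h : IsQF Q B) {κ : Type*} (s : Finset κ) (g : κ → (ι → F)) (w : ι → F) :
    B (∑ i ∈ s, g i) w = ∑ i ∈ s, B (g i) w := by
  classical
  induction s using Finset.induction_on with
  | empty => simp [h.b_zero_left]
  | insert a s ha ih => rw [Finset.sum_insert ha, Finset.sum_insert ha, h.b_add, ih]

theorem b_sum_right (h : IsQF Q B) {κ : Type*} (s : Finset κ) (g : κ → (ι → F)) (w : ι → F) :
    B w (∑ i ∈ s, g i) = ∑ i ∈ s, B w (g i) := by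
  rw [h.b_symm, h.b_sum_left]
  exact Finset.sum_congr rfl (fun i _ => h.b_symm _ _)

theorem b_self (h : IsQF Q B) (u : ι → F) : B u u = 2 * Q u := by
  have h1 := h.polar u u
  have h2 : u + u = (2 : F) • u := by rw [two_smul]
  rw [h2, h.q_smul] at h1
  linear_combination -h1

theorem q_neg (h : IsQF Q B) (u : ι → F) : Q (-u) = Q u := by
  have := h.q_smul (-1) u
  simpa using this

theorem q_sum_orth (h : IsQF Q B) {κ : Type*} (s : Finset κ) (g : κ → (ι → F))
    (horth : ∀ i ∈ s, ∀ j ∈ s, i ≠ j → B (g i) (g j) = 0) :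
    Q (∑ i ∈ s, g i) = ∑ i ∈ s, Q (g i) := by
  classical
  induction s using Finset.induction_on with
  | empty => simp [h.q_zero]
  | insert a s ha ih =>
    rw [Finset.sum_insert ha, Finset.sum_insert ha, h.polar, ih, h.b_sum_right]
    · have : ∑ i ∈ s, B (g a) (g i) = 0 := by
        apply Finset.sum_eq_zero
        intro i hi
        apply horth a (mem_insert_self _ _) i (mem_insert_of_mem hi)
        rintro rfl
        exact ha hi
      rw [this, add_zero]
    · intro i hi j hj hij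
      exact horth i (mem_insert_of_mem hi) j (mem_insert_of_mem hj) hij

end IsQF

variable {Q : (ι → F) → F} {B : (ι → F) → (ι → F) → F} {k : ℕ}

/-- hyperbolic systems of `k` pairs for `(Q, B)` -/
structure HypQ (Q : (ι → F) → F) (B : (ι → F) → (ι → F) → F) (k : ℕ)
    (e f : Fin k → (ι → F)) : Prop where
  qe : ∀ i, Q (e i) = 0
  qf : ∀ i, Q (f i) = 0
  ee : ∀ i j, B (e i) (e j) = 0
  ff : ∀ i j, B (f i) (f j) = 0
  ef : ∀ i j, B (e i) (f j) = if i = j then 1 else 0

theorem HypQ.fe (hQ : IsQF Q B) {e f : Fin k → (ι → F)} (h : HypQ Q B k e f) (i j : Fin k) :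
    B (f i) (e j) = if i = j then 1 else 0 := by
  rw [hQ.b_symm, h.ef j i]
  by_cases hij : i = j
  · subst hij; simp
  · rw [if_neg hij, if_neg (Ne.symm hij)]

/-- perpendicular to the system -/
def PerpQ (B : (ι → F) → (ι → F) → F) {k : ℕ} (e f : Fin k → (ι → F)) (w : ι → F) : Prop :=
  ∀ i, B w (e i) = 0 ∧ B w (f i) = 0

/-- the span part -/
def qcomb (e f : Fin k → (ι → F)) (a b : Fin k → F) : ι → F :=
  ∑ i, (a i • e i + b i • f i)

theorem b_qcomb_e (hQ : IsQF Q B) {e f : Fin k → (ι → F)} (h : HypQ Q B k e f)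
    (a b : Fin k → F) (j : Fin k) : B (qcomb e f a b) (e j) = b j := by
  unfold qcomb
  rw [hQ.b_sum_left]
  simp only [hQ.b_add, hQ.b_smul, h.ee, h.fe hQ, mul_zero, zero_add]
  simp

theorem b_qcomb_f (hQ : IsQF Q B) {e f : Fin k → (ι → F)} (h : HypQ Q B k e f)
    (a b : Fin k → F) (j : Fin k) : B (qcomb e f a b) (f j) = a j := by
  unfold qcomb
  rw [hQ.b_sum_left]
  simp only [hQ.b_add, hQ.b_smul, h.ff, h.ef, mul_zero, add_zero]
  simp

theorem b_qcomb_perp (hQ : IsQF Q B) {e f : Fin k → (ι → F)}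
    (a b : Fin k → F) (w : ι → F) (hw : PerpQ B e f w) : B (qcomb e f a b) w = 0 := by
  unfold qcomb
  rw [hQ.b_sum_left]
  apply Finset.sum_eq_zero
  intro i _
  rw [hQ.b_add, hQ.b_smul, hQ.b_smul, hQ.b_symm (e i), hQ.b_symm (f i), (hw i).1, (hw i).2]
  ring

theorem q_qcomb (hQ : IsQF Q B) {e f : Fin k → (ι → F)} (h : HypQ Q B k e f)
    (a b : Fin k → F) : Q (qcomb e f a b) = ∑ i, a i * b i := by
  unfold qcomb
  rw [hQ.q_sum_orth]
  · apply Finset.sum_congr rfl
    intro i _
    rw [hQ.polar, hQ.q_smul, hQ.q_smul, h.qe, h.qf, hQ.b_smul, hQ.b_smul_right, h.ef, if_pos rfl]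
    ring
  · intro i _ j _ hij
    simp only [hQ.b_add, hQ.b_smul, hQ.b_add_right, hQ.b_smul_right, h.ee, h.ff, h.ef, h.fe hQ,
      if_neg hij, if_neg (Ne.symm hij)]
    ring

theorem q_add_qcomb (hQ : IsQF Q B) {e f : Fin k → (ι → F)} (h : HypQ Q B k e f)
    (w : ι → F) (hw : PerpQ B e f w) (a b : Fin k → F) :
    Q (w + qcomb e f a b) = Q w + ∑ i, a i * b i := by
  rw [hQ.polar, q_qcomb hQ h, hQ.b_symm, b_qcomb_perp hQ a b w hw, add_zero]

/-- coordinates -/
def qcoordA (B : (ι → F) → (ι → F) → F) (f : Fin k → (ι → F)) (v : ι → F) : Fin k → F :=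
  fun i => B v (f i)

/-- second coordinates -/
def qcoordB (B : (ι → F) → (ι → F) → F) (e : Fin k → (ι → F)) (v : ι → F) : Fin k → F :=
  fun i => B v (e i)

theorem perpQ_sub_qcomb (hQ : IsQF Q B) {e f : Fin k → (ι → F)} (h : HypQ Q B k e f)
    (v : ι → F) : PerpQ B e f (v - qcomb e f (qcoordA B f v) (qcoordB B e v)) := by
  intro j
  constructor
  · rw [hQ.b_sub_left, b_qcomb_e hQ h]
    simp [qcoordB]
  · rw [hQ.b_sub_left, b_qcomb_f hQ h]
    simp [qcoordA]

theorem qcoordA_add_qcomb (hQ : IsQF Q B) {e f : Fin k → (ι → F)} (h : HypQ Q B k e f)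
    (w : ι → F) (hw : PerpQ B e f w) (a b : Fin k → F) :
    qcoordA B f (w + qcomb e f a b) = a := by
  funext j
  simp only [qcoordA]
  rw [hQ.b_add, (hw j).2, zero_add, b_qcomb_f hQ h]

theorem qcoordB_add_qcomb (hQ : IsQF Q B) {e f : Fin k → (ι → F)} (h : HypQ Q B k e f)
    (w : ι → F) (hw : PerpQ B e f w) (a b : Fin k → F) :
    qcoordB B e (w + qcomb e f a b) = b := by
  funext j
  simp only [qcoordB]
  rw [hQ.b_add, (hw j).1, zero_add, b_qcomb_e hQ h]

/-- decomposition `V ≃ (F^k × F^k) × W` -/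
def decompQ (hQ : IsQF Q B) {e f : Fin k → (ι → F)} (h : HypQ Q B k e f) :
    (ι → F) ≃ ((Fin k → F) × (Fin k → F)) × {w : ι → F // PerpQ B e f w} where
  toFun v := ((qcoordA B f v, qcoordB B e v),
    ⟨v - qcomb e f (qcoordA B f v) (qcoordB B e v), perpQ_sub_qcomb hQ h v⟩)
  invFun p := p.2.1 + qcomb e f p.1.1 p.1.2
  left_inv v := by simp
  right_inv p := by
    obtain ⟨⟨a, b⟩, ⟨w, hw⟩⟩ := p
    simp only [qcoordA_add_qcomb hQ h w hw, qcoordB_add_qcomb hQ h w hw, add_sub_cancel_right]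

end quad

section quadcount

variable {F : Type*} [Field F] [Fintype F] [DecidableEq F] {ι : Type*} [Fintype ι]
variable {Q : (ι → F) → F} {B : (ι → F) → (ι → F) → F} {k : ℕ}

theorem card_perpQ (hQ : IsQF Q B) {e f : Fin k → (ι → F)} (h : HypQ Q B k e f) :
    Nat.card {w : ι → F // PerpQ B e f w} * Fintype.card F ^ (2 * k) =
      Fintype.card F ^ Fintype.card ι := by
  classical
  have h1 := Nat.card_congr (decompQ hQ h)
  rw [Nat.card_prod, Nat.card_prod, Nat.card_eq_fintype_card, Nat.card_eq_fintype_card,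
    Fintype.card_fun, Fintype.card_fun] at h1
  simp only [Fintype.card_fin] at h1
  rw [two_mul, h1, pow_add]
  ring

/-- pairs `(a, b)` with given dot product, as a `Nat.card` -/
theorem natCard_pairs_dot (k : ℕ) (c : F) :
    Nat.card {p : (Fin k → F) × (Fin k → F) // ∑ i, p.1 i * p.2 i = c} =
      if c = 0 then Fintype.card F ^ k + (Fintype.card F ^ k - 1) * Fintype.card F ^ (k - 1)
      else (Fintype.card F ^ k - 1) * Fintype.card F ^ (k - 1) := by
  classical
  rw [Nat.card_eq_fintype_card, Fintype.card_subtype, card_pair_dot_eq, Fintype.card_fin]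
  split_ifs <;> simp

/-- the number of vectors with `Q v = c` in terms of the perpendicular space of a system -/
theorem card_q_eq (hQ : IsQF Q B) {e f : Fin k → (ι → F)} (h : HypQ Q B k e f) (c : F) :
    Nat.card {v : ι → F // Q v = c} =
      Nat.card {w : ι → F // PerpQ B e f w ∧ Q w = c} * Fintype.card F ^ k +
        Nat.card {w : ι → F // PerpQ B e f w} *
          ((Fintype.card F ^ k - 1) * Fintype.card F ^ (k - 1)) := by
  classical
  have e1 : {v : ι → F // Q v = c} ≃
      {p : {w : ι → F // PerpQ B e f w} × ((Fin k → F) × (Fin k → F)) //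
        (Q p.1.1 - c) + ∑ i, p.2.1 i * p.2.2 i = 0} :=
    Equiv.subtypeEquiv ((decompQ hQ h).trans (Equiv.prodComm _ _)) (fun v => by
      show Q v = c ↔ (Q (v - qcomb e f (qcoordA B f v) (qcoordB B e v)) - c) +
        ∑ i, (qcoordA B f v) i * (qcoordB B e v) i = 0
      have := q_add_qcomb hQ h _ (perpQ_sub_qcomb hQ h v) (qcoordA B f v) (qcoordB B e v)
      rw [sub_add_cancel] at this
      rw [this]
      constructor
      · intro h2; rw [← h2]; ring
      · intro h2; linear_combination h2)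
  rw [Nat.card_congr e1]
  have hg := natCard_pairs_dot (F := F) k
  rw [natCard_sum_form (fun w : {w : ι → F // PerpQ B e f w} => Q w.1 - c)
    (fun p : (Fin k → F) × (Fin k → F) => ∑ i, p.1 i * p.2 i) _ _ hg]
  have e2 : Nat.card {a : {w : ι → F // PerpQ B e f w} // Q a.1 - c = 0} =
      Nat.card {w : ι → F // PerpQ B e f w ∧ Q w = c} := by
    apply Nat.card_congr
    refine (Equiv.subtypeSubtypeEquivSubtypeInter (fun w => PerpQ B e f w)
      (fun w => Q w - c = 0)).trans (Equiv.subtypeEquivRight (fun w => ?_))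
    rw [sub_eq_zero]
  rw [e2, ← Nat.card_eq_fintype_card (α := {w : ι → F // PerpQ B e f w})]
  have hle : Nat.card {w : ι → F // PerpQ B e f w ∧ Q w = c} ≤
      Nat.card {w : ι → F // PerpQ B e f w} :=
    Nat.card_le_card_of_injective
      (fun w => (⟨w.1, w.2.1⟩ : {w : ι → F // PerpQ B e f w})) (fun a b hab => by
      apply Subtype.ext
      have := congrArg Subtype.val hab
      exact this)
  obtain ⟨d, hd⟩ := Nat.exists_eq_add_of_le hle
  rw [hd, Nat.add_sub_cancel_left]
  ring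

/-- the perpendicular space as a submodule -/
def perpSubQ (hQ : IsQF Q B) (e f : Fin k → (ι → F)) : Submodule F (ι → F) where
  carrier := {w | PerpQ B e f w}
  add_mem' := by
    intro a b ha hb i
    constructor
    · rw [hQ.b_add, (ha i).1, (hb i).1, add_zero]
    · rw [hQ.b_add, (ha i).2, (hb i).2, add_zero]
  zero_mem' := by
    intro i
    exact ⟨hQ.b_zero_left _, hQ.b_zero_left _⟩
  smul_mem' := by
    intro c a ha i
    constructor
    · rw [hQ.b_smul, (ha i).1, mul_zero]
    · rw [hQ.b_smul, (ha i).2, mul_zero]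

/-- for a nonzero singular `e'` in the perpendicular space, the singular `f'` there with
`B e' f' = 1` number `|W| / q^2`. -/
theorem card_partnerQ (hQ : IsQF Q B) {e f : Fin k → (ι → F)} (h : HypQ Q B k e f)
    (e' : ι → F) (he' : PerpQ B e f e') (hne : e' ≠ 0) (hq0 : Q e' = 0) :
    Nat.card {f' : ι → F // PerpQ B e f f' ∧ Q f' = 0 ∧ B e' f' = 1} *
      (Fintype.card F * Fintype.card F) = Nat.card {w : ι → F // PerpQ B e f w} := by
  classical
  -- step 1: the affine hyperplane
  have hA : Nat.card {f' : ι → F // PerpQ B e f f' ∧ B e' f' = 1} * Fintype.card F =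
      Nat.card {w : ι → F // PerpQ B e f w} := by
    let φ : perpSubQ hQ e f →+ F :=
      { toFun := fun w => B e' w.1
        map_zero' := hQ.b_zero_right _
        map_add' := fun a b => hQ.b_add_right _ _ _ }
    have hφ : Function.Surjective φ := by
      obtain ⟨a, ha⟩ := hQ.nondeg e' hne
      let w0 : ι → F := a - qcomb e f (qcoordA B f a) (qcoordB B e a)
      have hw0 : PerpQ B e f w0 := perpQ_sub_qcomb hQ h a
      have hval : B e' w0 ≠ 0 := by
        simp only [w0]
        rw [hQ.b_symm, hQ.b_sub_left, b_qcomb_perp hQ _ _ e' he', sub_zero, hQ.b_symm]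
        exact ha
      intro c
      refine ⟨⟨(c / B e' w0) • w0, (perpSubQ hQ e f).smul_mem _ hw0⟩, ?_⟩
      show B e' ((c / B e' w0) • w0) = c
      rw [hQ.b_smul_right]
      field_simp
    have := card_fiber_mul φ hφ 1
    have h2 : Nat.card {w : ι → F // PerpQ B e f w} = Nat.card (perpSubQ hQ e f) := rfl
    rw [h2, ← this]
    congr 1
    apply Nat.card_congr
    exact (Equiv.subtypeSubtypeEquivSubtypeInter (fun w => PerpQ B e f w)
      (fun w => B e' w = 1)).symm
  -- step 2: translation along e'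
  have hbe : B e' e' = 0 := by rw [hQ.b_self, hq0, mul_zero]
  have e2 : {f' : ι → F // PerpQ B e f f' ∧ B e' f' = 1} ≃
      {f' : ι → F // PerpQ B e f f' ∧ Q f' = 0 ∧ B e' f' = 1} × F :=
    { toFun := fun x => (⟨x.1 - Q x.1 • e', by
          refine ⟨(perpSubQ hQ e f).sub_mem x.2.1 ((perpSubQ hQ e f).smul_mem _ he'), ?_, ?_⟩
          · rw [sub_eq_add_neg, hQ.polar, hQ.q_neg, hQ.q_smul, hq0, hQ.b_symm, hQ.b_neg_left,
              hQ.b_smul, x.2.2]
            ring
          · rw [hQ.b_symm, hQ.b_sub_left, hQ.b_smul, hbe, hQ.b_symm, x.2.2]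
            ring⟩, Q x.1)
      invFun := fun y => ⟨y.1.1 + y.2 • e', by
          refine ⟨(perpSubQ hQ e f).add_mem y.1.2.1 ((perpSubQ hQ e f).smul_mem _ he'), ?_⟩
          rw [hQ.b_add_right, hQ.b_smul_right, hbe, y.1.2.2.2]
          ring⟩
      left_inv := fun x => by
        apply Subtype.ext
        simp
      right_inv := fun y => by
        have hy : Q (y.1.1 + y.2 • e') = y.2 := by
          rw [hQ.polar, hQ.q_smul, hq0, y.1.2.2.1, hQ.b_smul_right, hQ.b_symm, y.1.2.2.2]
          ring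
        apply Prod.ext
        · apply Subtype.ext
          show y.1.1 + y.2 • e' - Q (y.1.1 + y.2 • e') • e' = y.1.1
          rw [hy, add_sub_cancel_right]
        · exact hy }
  have h3 := Nat.card_congr e2
  rw [Nat.card_prod, Nat.card_eq_fintype_card (α := F)] at h3
  rw [← hA, h3]
  ring

/-- number of hyperbolic pairs inside the perpendicular space -/
theorem card_pairsQ (hQ : IsQF Q B) {e f : Fin k → (ι → F)} (h : HypQ Q B k e f) (s : ℕ)
    (hW : Nat.card {w : ι → F // PerpQ B e f w} = s * (Fintype.card F * Fintype.card F)) :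
    Nat.card {p : (ι → F) × (ι → F) // PerpQ B e f p.1 ∧ PerpQ B e f p.2 ∧ Q p.1 = 0 ∧
        Q p.2 = 0 ∧ B p.1 p.2 = 1} =
      (Nat.card {w : ι → F // PerpQ B e f w ∧ Q w = 0} - 1) * s := by
  classical
  have hq : 0 < Fintype.card F * Fintype.card F := Nat.mul_pos Fintype.card_pos Fintype.card_pos
  rw [Nat.card_eq_fintype_card, Fintype.card_subtype, Finset.card_filter, Fintype.sum_prod_type]
  have h1 : ∀ e' : ι → F,
      (∑ f' : ι → F, if (PerpQ B e f e' ∧ PerpQ B e f f' ∧ Q e' = 0 ∧ Q f' = 0 ∧ B e' f' = 1)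
        then 1 else 0) =
      if ((PerpQ B e f e' ∧ Q e' = 0) ∧ e' ≠ 0) then s else 0 := by
    intro e'
    by_cases he' : PerpQ B e f e' ∧ Q e' = 0
    · by_cases hne : e' = 0
      · subst hne
        rw [if_neg (by simp)]
        apply Finset.sum_eq_zero
        intro f' _
        rw [if_neg]
        rintro ⟨_, _, _, _, h3⟩
        rw [hQ.b_zero_left] at h3
        exact zero_ne_one h3
      · rw [if_pos ⟨he', hne⟩]
        simp only [he'.1, he'.2, true_and]
        rw [← Finset.card_filter, ← Fintype.card_subtype, ← Nat.card_eq_fintype_card]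
        have := card_partnerQ hQ h e' he'.1 hne he'.2
        rw [hW] at this
        exact Nat.eq_of_mul_eq_mul_right hq this
    · rw [if_neg (fun h => he' h.1)]
      apply Finset.sum_eq_zero
      intro f' _
      rw [if_neg]
      rintro ⟨h1, _, h3, _, _⟩
      exact he' ⟨h1, h3⟩
  simp only []
  rw [Finset.sum_congr rfl (fun e' _ => h1 e'), ← Finset.sum_filter, Finset.sum_const, smul_eq_mul]
  congr 1
  have h4 : (univ.filter (fun e' : ι → F => (PerpQ B e f e' ∧ Q e' = 0) ∧ e' ≠ 0)) =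
      (univ.filter (fun e' : ι → F => PerpQ B e f e' ∧ Q e' = 0)).erase 0 := by
    ext x
    simp only [mem_filter, mem_univ, true_and, mem_erase]
    tauto
  rw [h4, Finset.card_erase_of_mem, ← Fintype.card_subtype, ← Nat.card_eq_fintype_card]
  simp only [mem_filter, mem_univ, true_and]
  exact ⟨fun i => ⟨hQ.b_zero_left _, hQ.b_zero_left _⟩, hQ.q_zero⟩

omit [Fintype F] [DecidableEq F] [Fintype ι] in
theorem hypQ_succ_iff (hQ : IsQF Q B) (e f : Fin (k + 1) → (ι → F)) :
    HypQ Q B (k + 1) e f ↔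
      HypQ Q B k (Fin.tail e) (Fin.tail f) ∧ PerpQ B (Fin.tail e) (Fin.tail f) (e 0) ∧
        PerpQ B (Fin.tail e) (Fin.tail f) (f 0) ∧ Q (e 0) = 0 ∧ Q (f 0) = 0 ∧
        B (e 0) (f 0) = 1 := by
  constructor
  · intro h
    refine ⟨⟨fun i => h.qe i.succ, fun i => h.qf i.succ, fun i j => h.ee i.succ j.succ,
      fun i j => h.ff i.succ j.succ, fun i j => ?_⟩,
      fun i => ⟨h.ee 0 i.succ, ?_⟩, fun i => ⟨?_, h.ff 0 i.succ⟩, h.qe 0, h.qf 0, ?_⟩
    · have := h.ef i.succ j.succ
      simp only [Fin.succ_inj] at this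
      exact this
    · have := h.ef 0 i.succ
      rw [if_neg (Fin.succ_ne_zero i).symm] at this
      exact this
    · have := h.fe hQ 0 i.succ
      rw [if_neg (Fin.succ_ne_zero i).symm] at this
      exact this
    · have := h.ef 0 0
      rwa [if_pos rfl] at this
  · rintro ⟨h1, h2, h3, h4, h5, h6⟩
    refine ⟨fun i => ?_, fun i => ?_, fun i j => ?_, fun i j => ?_, fun i j => ?_⟩
    · refine Fin.cases h4 (fun i' => ?_) i
      exact h1.qe i'
    · refine Fin.cases h5 (fun i' => ?_) i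
      exact h1.qf i'
    · refine Fin.cases ?_ (fun i' => ?_) i <;> refine Fin.cases ?_ (fun j' => ?_) j
      · rw [hQ.b_self, h4, mul_zero]
      · exact (h2 j').1
      · rw [hQ.b_symm]
        exact (h2 i').1
      · exact h1.ee i' j'
    · refine Fin.cases ?_ (fun i' => ?_) i <;> refine Fin.cases ?_ (fun j' => ?_) j
      · rw [hQ.b_self, h5, mul_zero]
      · exact (h3 j').2
      · rw [hQ.b_symm]
        exact (h3 i').2
      · exact h1.ff i' j'
    · refine Fin.cases ?_ (fun i' => ?_) i <;> refine Fin.cases ?_ (fun j' => ?_) j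
      · rw [if_pos rfl]; exact h6
      · rw [if_neg (Fin.succ_ne_zero j').symm]
        exact (h2 j').2
      · rw [if_neg (Fin.succ_ne_zero i'), hQ.b_symm]
        exact (h3 i').1
      · have := h1.ef i' j'
        simp only [Fin.succ_inj]
        exact this

/-- the recursion for the number of hyperbolic systems -/
theorem card_hypQ_succ (hQ : IsQF Q B) (k z s : ℕ)
    (hz : ∀ e f : Fin k → (ι → F), HypQ Q B k e f →
      Nat.card {w : ι → F // PerpQ B e f w ∧ Q w = 0} = z)
    (hs : ∀ e f : Fin k → (ι → F), HypQ Q B k e f →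
      Nat.card {w : ι → F // PerpQ B e f w} = s * (Fintype.card F * Fintype.card F)) :
    Nat.card {p : (Fin (k + 1) → (ι → F)) × (Fin (k + 1) → (ι → F)) // HypQ Q B (k + 1) p.1 p.2} =
      Nat.card {p : (Fin k → (ι → F)) × (Fin k → (ι → F)) // HypQ Q B k p.1 p.2} *
        ((z - 1) * s) := by
  classical
  have e : {p : (Fin (k + 1) → (ι → F)) × (Fin (k + 1) → (ι → F)) // HypQ Q B (k + 1) p.1 p.2} ≃
      {x : ((Fin k → (ι → F)) × (Fin k → (ι → F))) × ((ι → F) × (ι → F)) //
        HypQ Q B k x.1.1 x.1.2 ∧ PerpQ B x.1.1 x.1.2 x.2.1 ∧ PerpQ B x.1.1 x.1.2 x.2.2 ∧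
          Q x.2.1 = 0 ∧ Q x.2.2 = 0 ∧ B x.2.1 x.2.2 = 1} :=
    Equiv.subtypeEquiv (splitEquiv _ k) (fun p => hypQ_succ_iff hQ p.1 p.2)
  rw [Nat.card_congr e, Nat.card_eq_fintype_card, Fintype.card_subtype, Finset.card_filter,
    Fintype.sum_prod_type]
  have h1 : ∀ t : (Fin k → (ι → F)) × (Fin k → (ι → F)),
      (∑ y : (ι → F) × (ι → F),
        if (HypQ Q B k t.1 t.2 ∧ PerpQ B t.1 t.2 y.1 ∧ PerpQ B t.1 t.2 y.2 ∧
          Q y.1 = 0 ∧ Q y.2 = 0 ∧ B y.1 y.2 = 1) then 1 else 0) =
      if HypQ Q B k t.1 t.2 then ((z - 1) * s) else 0 := by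
    intro t
    by_cases ht : HypQ Q B k t.1 t.2
    · rw [if_pos ht]
      simp only [ht, true_and]
      rw [← Finset.card_filter, ← Fintype.card_subtype, ← Nat.card_eq_fintype_card,
        card_pairsQ hQ ht s (hs _ _ ht), hz _ _ ht]
    · rw [if_neg ht]
      simp only [ht, false_and, if_false, Finset.sum_const_zero]
  simp only []
  rw [Finset.sum_congr rfl (fun t _ => h1 t), ← Finset.sum_filter, Finset.sum_const, smul_eq_mul,
    Nat.card_eq_fintype_card, Fintype.card_subtype]

omit [Fintype F] [DecidableEq F] [Fintype ι] in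
theorem card_hypQ_zero :
    Nat.card {p : (Fin 0 → (ι → F)) × (Fin 0 → (ι → F)) // HypQ Q B 0 p.1 p.2} = 1 := by
  rw [Nat.card_eq_one_iff_unique]
  refine ⟨⟨?_⟩, ⟨⟨(fun i => i.elim0, fun i => i.elim0),
    ⟨fun i => i.elim0, fun i => i.elim0, fun i => i.elim0, fun i => i.elim0, fun i => i.elim0⟩⟩⟩⟩
  rintro ⟨⟨a, a'⟩, _⟩ ⟨⟨b, b'⟩, _⟩
  apply Subtype.ext
  apply Prod.ext <;> funext i <;> exact i.elim0

end quadcount

end Cfsg.Agent.Lib.Helper14
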