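import Mathlib
import Cfsg.Prelude.Def_Classical
import Cfsg.Agent.Lib.Helper14.QuadCount

/-!
# The order of `GO^+_{2m}(q)`
-/

namespace Cfsg.Agent.Lib.Helper14

open Finset

section plus

variable {F : Type*} [Field F] {m : ℕ}

/-- polar form of `quadFormPlus` -/
def plusPolar (m : ℕ) (F : Type*) [Field F] (u v : Fin m ⊕ Fin m → F) : F :=
  ∑ i : Fin m, (u (.inl i) * v (.inr i) + v (.inl i) * u (.inr i))

theorem isQF_plus : IsQF (Cfsg.quadFormPlus m F) (plusPolar m F) where
  polar u v := by
    unfold Cfsg.quadFormPlus plusPolar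
    rw [← Finset.sum_add_distrib, ← Finset.sum_add_distrib]
    apply Finset.sum_congr rfl
    intro i _
    simp only [Pi.add_apply]
    ring
  q_smul c u := by
    unfold Cfsg.quadFormPlus
    rw [Finset.mul_sum]
    apply Finset.sum_congr rfl
    intro i _
    simp only [Pi.smul_apply, smul_eq_mul]
    ring
  b_add u v w := by
    unfold plusPolar
    rw [← Finset.sum_add_distrib]
    apply Finset.sum_congr rfl
    intro i _
    simp only [Pi.add_apply]
    ring
  b_smul c u w := by
    unfold plusPolar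
    rw [Finset.mul_sum]
    apply Finset.sum_congr rfl
    intro i _
    simp only [Pi.smul_apply, smul_eq_mul]
    ring
  b_symm u v := by
    unfold plusPolar
    apply Finset.sum_congr rfl
    intro i _
    ring
  nondeg u hu := by
    classical
    obtain ⟨c, hc⟩ := Function.ne_iff.mp hu
    rcases c with i | i
    · refine ⟨Pi.single (Sum.inr i) 1, ?_⟩
      unfold plusPolar
      rw [Finset.sum_eq_single i]
      · simpa using hc
      · intro j _ hj
        simp [Pi.single_apply, hj]
      · intro h; exact absurd (mem_univ _) h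
    · refine ⟨Pi.single (Sum.inl i) 1, ?_⟩
      unfold plusPolar
      rw [Finset.sum_eq_single i]
      · simpa using hc
      · intro j _ hj
        simp [Pi.single_apply, hj]
      · intro h; exact absurd (mem_univ _) h

/-- arithmetic for the plus type deconvolution -/
theorem plus_arith (q k j N : ℕ) (hq : 0 < q)
    (h : q ^ (k + j + 1) + (q ^ (k + j + 1) - 1) * q ^ (k + j + 1 - 1) =
      N * q ^ k + q ^ (2 * j + 2) * ((q ^ k - 1) * q ^ (k - 1))) :
    N = q ^ (j + 1) + (q ^ (j + 1) - 1) * q ^ j := by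
  have h1 : ∀ n, 1 ≤ q ^ n := fun n => Nat.one_le_pow _ _ hq
  have hqz : (q : ℤ) ≠ 0 := by exact_mod_cast hq.ne'
  have e1 : k + j + 1 - 1 = k + j := by omega
  rw [e1] at h
  rcases Nat.eq_zero_or_pos k with rfl | hk
  · simp only [pow_zero, Nat.sub_self, zero_mul, mul_zero, add_zero, mul_one, zero_add] at h
    rw [← h]
  · obtain ⟨k', rfl⟩ : ∃ k', k = k' + 1 := ⟨k - 1, by omega⟩
    have e2 : k' + 1 - 1 = k' := by omega
    rw [e2] at h
    zify [h1 (k' + 1 + j + 1), h1 (k' + 1), h1 (j + 1)] at h ⊢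
    have h3 : (N : ℤ) * (q : ℤ) ^ (k' + 1) =
        ((q : ℤ) ^ (j + 1) + ((q : ℤ) ^ (j + 1) - 1) * (q : ℤ) ^ j) * (q : ℤ) ^ (k' + 1) := by
      have : (N : ℤ) * (q : ℤ) ^ (k' + 1) = (q : ℤ) ^ (k' + 1 + j + 1) +
          ((q : ℤ) ^ (k' + 1 + j + 1) - 1) * (q : ℤ) ^ (k' + 1 + j) -
          (q : ℤ) ^ (2 * j + 2) * (((q : ℤ) ^ (k' + 1) - 1) * (q : ℤ) ^ k') := by
        linear_combination -h
      rw [this]
      ring
    exact mul_right_cancel₀ (pow_ne_zero _ hqz) h3

section pluscount

variable {F : Type*} [Field F] [Fintype F] [DecidableEq F]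

theorem plus_card_zero (m : ℕ) :
    Nat.card {v : Fin m ⊕ Fin m → F // Cfsg.quadFormPlus m F v = 0} =
      Fintype.card F ^ m + (Fintype.card F ^ m - 1) * Fintype.card F ^ (m - 1) := by
  have := natCard_plus (F := F) m 0
  rw [if_pos rfl] at this
  exact this

theorem plus_card_perp {k j : ℕ} {e f : Fin k → (Fin (k + j + 1) ⊕ Fin (k + j + 1) → F)}
    (h : HypQ (Cfsg.quadFormPlus (k + j + 1) F) (plusPolar (k + j + 1) F) k e f) :
    Nat.card {w : Fin (k + j + 1) ⊕ Fin (k + j + 1) → F //
      PerpQ (plusPolar (k + j + 1) F) e f w} =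
      Fintype.card F ^ (2 * j) * (Fintype.card F * Fintype.card F) := by
  have hq : 0 < Fintype.card F := Fintype.card_pos
  have := card_perpQ isQF_plus h
  rw [Fintype.card_sum, Fintype.card_fin] at this
  have h2 : Fintype.card F ^ (k + j + 1 + (k + j + 1)) =
      (Fintype.card F ^ (2 * j) * (Fintype.card F * Fintype.card F)) * Fintype.card F ^ (2 * k) := by
    rw [← pow_two, ← pow_add, ← pow_add]; congr 1; ring
  rw [h2] at this
  exact Nat.eq_of_mul_eq_mul_right (pow_pos hq _) this

theorem plus_card_perp_zero {k j : ℕ} {e f : Fin k → (Fin (k + j + 1) ⊕ Fin (k + j + 1) → F)}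
    (h : HypQ (Cfsg.quadFormPlus (k + j + 1) F) (plusPolar (k + j + 1) F) k e f) :
    Nat.card {w : Fin (k + j + 1) ⊕ Fin (k + j + 1) → F //
      PerpQ (plusPolar (k + j + 1) F) e f w ∧ Cfsg.quadFormPlus (k + j + 1) F w = 0} =
      Fintype.card F ^ (j + 1) + (Fintype.card F ^ (j + 1) - 1) * Fintype.card F ^ j := by
  have hq : 0 < Fintype.card F := Fintype.card_pos
  have h1 := card_q_eq isQF_plus h 0
  rw [plus_card_zero, plus_card_perp h] at h1
  apply plus_arith (Fintype.card F) k j _ hq
  rw [h1]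
  congr 1
  rw [← pow_two, ← pow_add]

/-- the number of hyperbolic `k`-systems for the plus form in dimension `2m` -/
theorem plus_card_hypQ (m : ℕ) : ∀ k, k ≤ m →
    Nat.card {p : (Fin k → (Fin m ⊕ Fin m → F)) × (Fin k → (Fin m ⊕ Fin m → F)) //
        HypQ (Cfsg.quadFormPlus m F) (plusPolar m F) k p.1 p.2} =
      ∏ i ∈ range k, ((Fintype.card F ^ (m - i) - 1) * (Fintype.card F ^ (m - i - 1) + 1) *
        Fintype.card F ^ (2 * (m - i - 1)))
  | 0, _ => by
      rw [Finset.prod_range_zero]
      exact card_hypQ_zero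
  | k + 1, hk => by
      have ih := plus_card_hypQ m k (by omega)
      obtain ⟨j, rfl⟩ : ∃ j, m = k + j + 1 := ⟨m - k - 1, by omega⟩
      rw [card_hypQ_succ isQF_plus k
        (Fintype.card F ^ (j + 1) + (Fintype.card F ^ (j + 1) - 1) * Fintype.card F ^ j)
        (Fintype.card F ^ (2 * j))
        (fun e f h => plus_card_perp_zero h) (fun e f h => plus_card_perp h),
        ih, Finset.prod_range_succ]
      congr 1
      have e1 : k + j + 1 - k = j + 1 := by omega
      have e2 : j + 1 - 1 = j := by omega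
      rw [e1, e2]
      congr 1
      have h1 : 1 ≤ Fintype.card F ^ (j + 1) := Nat.one_le_pow _ _ Fintype.card_pos
      obtain ⟨X, hX⟩ : ∃ X, Fintype.card F ^ (j + 1) = X + 1 := ⟨_, (Nat.sub_add_cancel h1).symm⟩
      rw [hX]
      simp only [Nat.add_sub_cancel]
      have : X + 1 + X * Fintype.card F ^ j - 1 = X + X * Fintype.card F ^ j := by omega
      rw [this]
      ring

end pluscount

section iso

variable {F : Type*} [Field F]

theorem mem_isometryGroup_iff {ι : Type} [Fintype ι] [DecidableEq ι] (Q : (ι → F) → F)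
    (g : Matrix.GeneralLinearGroup ι F) :
    g ∈ Cfsg.isometryGroup F Q ↔ ∀ u, Q ((g : Matrix ι ι F).mulVec u) = Q u := by
  constructor
  · intro h u
    exact h u u
  · intro h u v
    exact h u

theorem polar_mulVec_of_preserves {ι : Type} [Fintype ι] [DecidableEq ι] {Q : (ι → F) → F}
    {B : (ι → F) → (ι → F) → F} (hQ : IsQF Q B) (M : Matrix ι ι F)
    (hM : ∀ u, Q (M.mulVec u) = Q u) (u v : ι → F) : B (M.mulVec u) (M.mulVec v) = B u v := by
  have h1 := hQ.polar (M.mulVec u) (M.mulVec v)
  rw [← Matrix.mulVec_add, hM, hM, hM, hQ.polar] at h1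
  linear_combination -h1

variable {m : ℕ}

theorem plus_std_hypQ : HypQ (Cfsg.quadFormPlus m F) (plusPolar m F) m
    (fun i => Pi.single (Sum.inl i) 1) (fun i => Pi.single (Sum.inr i) 1) where
  qe i := by
    unfold Cfsg.quadFormPlus
    apply Finset.sum_eq_zero
    intro l _
    simp [Pi.single_apply]
  qf i := by
    unfold Cfsg.quadFormPlus
    apply Finset.sum_eq_zero
    intro l _
    simp [Pi.single_apply]
  ee i j := by
    unfold plusPolar
    apply Finset.sum_eq_zero
    intro l _
    simp [Pi.single_apply]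
  ff i j := by
    unfold plusPolar
    apply Finset.sum_eq_zero
    intro l _
    simp [Pi.single_apply]
  ef i j := by
    unfold plusPolar
    simp [Pi.single_apply, Finset.sum_ite_eq]
    by_cases hij : i = j
    · subst hij; simp
    · simp [hij]
      intro h; exact absurd h.symm hij

theorem card_isometry_plus_eq [Fintype F] :
    Nat.card (Cfsg.isometryGroup F (Cfsg.quadFormPlus m F)) =
      Nat.card {p : (Fin m → (Fin m ⊕ Fin m → F)) × (Fin m → (Fin m ⊕ Fin m → F)) //
        HypQ (Cfsg.quadFormPlus m F) (plusPolar m F) m p.1 p.2} := by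
  classical
  apply Nat.card_congr
  refine Equiv.ofBijective (fun g => ⟨(fun i r =>
      ((g.1 : Matrix.GeneralLinearGroup (Fin m ⊕ Fin m) F) : Matrix (Fin m ⊕ Fin m) (Fin m ⊕ Fin m) F) r (Sum.inl i),
    fun i r => ((g.1 : Matrix.GeneralLinearGroup (Fin m ⊕ Fin m) F) :
      Matrix (Fin m ⊕ Fin m) (Fin m ⊕ Fin m) F) r (Sum.inr i)), ?_⟩) ⟨?_, ?_⟩
  · -- columns of an isometry form a hyperbolic system
    have hg := (mem_isometryGroup_iff _ g.1).mp g.2
    set M := ((g.1 : Matrix.GeneralLinearGroup (Fin m ⊕ Fin m) F) :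
      Matrix (Fin m ⊕ Fin m) (Fin m ⊕ Fin m) F) with hM
    have hB := polar_mulVec_of_preserves isQF_plus M hg
    have hcol : ∀ c, (fun r => M r c) = M.mulVec (Pi.single c 1) := by
      intro c
      rw [Matrix.mulVec_single_one]; rfl
    have hstd := plus_std_hypQ (F := F) (m := m)
    refine ⟨fun i => ?_, fun i => ?_, fun i j => ?_, fun i j => ?_, fun i j => ?_⟩
    · show Cfsg.quadFormPlus m F (fun r => M r (Sum.inl i)) = 0
      rw [hcol, hg]; exact hstd.qe i
    · show Cfsg.quadFormPlus m F (fun r => M r (Sum.inr i)) = 0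
      rw [hcol, hg]; exact hstd.qf i
    · show plusPolar m F (fun r => M r (Sum.inl i)) (fun r => M r (Sum.inl j)) = 0
      rw [hcol, hcol, hB]; exact hstd.ee i j
    · show plusPolar m F (fun r => M r (Sum.inr i)) (fun r => M r (Sum.inr j)) = 0
      rw [hcol, hcol, hB]; exact hstd.ff i j
    · show plusPolar m F (fun r => M r (Sum.inl i)) (fun r => M r (Sum.inr j)) = _
      rw [hcol, hcol, hB]; exact hstd.ef i j
  · intro g g' h
    apply Subtype.ext
    apply Units.ext
    ext r c
    have h1 := congrArg Subtype.val h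
    simp only [Prod.mk.injEq] at h1
    rcases c with i | i
    · exact congrFun (congrFun h1.1 i) r
    · exact congrFun (congrFun h1.2 i) r
  · rintro ⟨⟨e, f⟩, hs⟩
    let A : Matrix (Fin m ⊕ Fin m) (Fin m ⊕ Fin m) F :=
      Matrix.of (fun r c => Sum.elim (fun i => e i r) (fun i => f i r) c)
    have hAu : ∀ u, A.mulVec u = qcomb e f (fun i => u (Sum.inl i)) (fun i => u (Sum.inr i)) := by
      intro u
      funext r
      unfold qcomb
      simp only [Matrix.mulVec, dotProduct, Fintype.sum_sum_type, A, Matrix.of_apply, Sum.elim_inl,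
        Sum.elim_inr, Finset.sum_apply, Pi.add_apply, Pi.smul_apply, smul_eq_mul,
        Finset.sum_add_distrib]
      congr 1 <;> exact Finset.sum_congr rfl (fun i _ => mul_comm _ _)
    have hAQ : ∀ u, Cfsg.quadFormPlus m F (A.mulVec u) = Cfsg.quadFormPlus m F u := by
      intro u
      rw [hAu, q_qcomb isQF_plus hs]
      rfl
    have hinj : Function.Injective A.mulVec := by
      intro u u' huu
      rw [hAu, hAu] at huu
      funext c
      rcases c with i | i
      · have := congrArg (fun x => plusPolar m F x (f i)) huu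
        simp only [b_qcomb_f isQF_plus hs] at this
        exact this
      · have := congrArg (fun x => plusPolar m F x (e i)) huu
        simp only [b_qcomb_e isQF_plus hs] at this
        exact this
    have hunit : IsUnit A := Matrix.mulVec_injective_iff_isUnit.mp hinj
    have hdet : A.det ≠ 0 := ((Matrix.isUnit_iff_isUnit_det A).mp hunit).ne_zero
    refine ⟨⟨Matrix.GeneralLinearGroup.mkOfDetNeZero A hdet, ?_⟩, rfl⟩
    rw [mem_isometryGroup_iff]
    exact hAQ

/-- The order of `GO^+_{2m}(q)`, `m ≥ 1`. -/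
theorem card_isometry_plus [Fintype F] (n : ℕ) :
    Nat.card (Cfsg.isometryGroup F (Cfsg.quadFormPlus (n + 1) F)) =
      2 * Fintype.card F ^ ((n + 1) * n) * (Fintype.card F ^ (n + 1) - 1) *
        ∏ i ∈ Finset.range n, (Fintype.card F ^ (2 * (i + 1)) - 1) := by
  classical
  rw [card_isometry_plus_eq, plus_card_hypQ (n + 1) (n + 1) le_rfl]
  set q := Fintype.card F with hq
  have hqpos : 0 < q := Fintype.card_pos
  have h1 : ∏ i ∈ range (n + 1), ((q ^ (n + 1 - i) - 1) * (q ^ (n + 1 - i - 1) + 1) *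
      q ^ (2 * (n + 1 - i - 1))) =
      ∏ i ∈ range (n + 1), ((q ^ (i + 1) - 1) * (q ^ i + 1) * q ^ (2 * i)) := by
    rw [← Finset.prod_range_reflect (fun i => (q ^ (i + 1) - 1) * (q ^ i + 1) * q ^ (2 * i)) (n + 1)]
    apply Finset.prod_congr rfl
    intro i hi
    rw [mem_range] at hi
    have e1 : n + 1 - i = n + 1 - 1 - i + 1 := by omega
    have e2 : n + 1 - i - 1 = n + 1 - 1 - i := by omega
    rw [e2, e1]
  rw [h1, Finset.prod_mul_distrib, Finset.prod_mul_distrib, Finset.prod_pow_eq_pow_sum,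
    Finset.prod_range_succ (fun i => q ^ (i + 1) - 1), Finset.prod_range_succ' (fun i => q ^ i + 1)]
  have h2 : ∑ i ∈ range (n + 1), 2 * i = (n + 1) * n := by
    rw [← Finset.mul_sum, mul_comm, Finset.sum_range_id_mul_two]
    simp
  have h3 : (∏ i ∈ range n, (q ^ (i + 1) - 1)) * (∏ i ∈ range n, (q ^ (i + 1) + 1)) =
      ∏ i ∈ range n, (q ^ (2 * (i + 1)) - 1) := by
    rw [← Finset.prod_mul_distrib]
    apply Finset.prod_congr rfl
    intro i _
    have h1 : 1 ≤ q ^ (i + 1) := Nat.one_le_pow _ _ hqpos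
    obtain ⟨X, hX⟩ : ∃ X, q ^ (i + 1) = X + 1 := ⟨_, (Nat.sub_add_cancel h1).symm⟩
    have : q ^ (2 * (i + 1)) = q ^ (i + 1) * q ^ (i + 1) := by rw [← pow_add]; congr 1; ring
    rw [this, hX]
    simp only [Nat.add_sub_cancel]
    have : (X + 1) * (X + 1) - 1 = X * (X + 1 + 1) := by
      have : (X + 1) * (X + 1) = X * (X + 1 + 1) + 1 := by ring
      omega
    rw [this]
  rw [h2, ← h3]
  simp only [pow_zero]
  ring

end iso

end plus

end Cfsg.Agent.Lib.Helper14
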