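import Mathlib
import Cfsg.Agent.Lib.Helper14.HermCount

set_option autoImplicit false

/-!
# The quadratic extension attached to an anisotropic binary form `z₁² + a z₁ z₂ + b z₂²`

`K = QuadraticAlgebra F (-b) a` (so `ω² = -b + a ω`), whose norm is the binary form.  When the form
is anisotropic `K` is a field with `q²` elements, the conjugation `star` is the Frobenius
`x ↦ x^q`, and so every nonzero `c : F` is the norm of exactly `q + 1` elements.
-/

namespace Cfsg.Agent.Lib.Helper14.QuadExt

open QuadraticAlgebra

variable {F : Type*} [Field F] {a b : F}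

/-- The binary form `z₁² + a z₁ z₂ + b z₂²` is anisotropic. -/
def Aniso (a b : F) : Prop :=
  ∀ z₁ z₂ : F, z₁ ^ 2 + a * z₁ * z₂ + b * z₂ ^ 2 = 0 → z₁ = 0 ∧ z₂ = 0

theorem fact_of_aniso (hab : Aniso a b) : Fact (∀ r : F, r ^ 2 ≠ -b + a * r) :=
  ⟨fun r hr => by
    have h := hab r (-1) (by linear_combination hr)
    exact one_ne_zero (neg_eq_zero.mp h.2)⟩

theorem norm_eq (z : QuadraticAlgebra F (-b) a) :
    norm z = z.re ^ 2 + a * z.re * z.im + b * z.im ^ 2 := by
  rw [norm_def]; ring

theorem norm_mk (x y : F) :
    norm (⟨x, y⟩ : QuadraticAlgebra F (-b) a) = x ^ 2 + a * x * y + b * y ^ 2 := by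
  rw [norm_eq]

section finite

variable [Fintype F]

noncomputable instance fintypeK (a b : F) : Fintype (QuadraticAlgebra F (-b) a) :=
  Fintype.ofEquiv _ (QuadraticAlgebra.equivProd (-b) a).symm

theorem card_K (a b : F) :
    Fintype.card (QuadraticAlgebra F (-b) a) = Fintype.card F ^ 2 := by
  rw [Fintype.card_congr (QuadraticAlgebra.equivProd (-b) a), Fintype.card_prod, sq]

variable [Hab : Fact (∀ r : F, r ^ 2 ≠ -b + a * r)]

theorem algebraMap_pow_card (c : F) :
    (algebraMap F (QuadraticAlgebra F (-b) a) c) ^ Fintype.card F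
      = algebraMap F (QuadraticAlgebra F (-b) a) c := by
  rw [← map_pow, FiniteField.pow_card]

theorem add_pow_card' (x y : QuadraticAlgebra F (-b) a) :
    (x + y) ^ Fintype.card F = x ^ Fintype.card F + y ^ Fintype.card F := by
  classical
  have h1 := herm_sub_pow (card_K a b) x (-y)
  have h2 := herm_neg_pow (card_K a b) y
  rw [sub_neg_eq_add, h2, sub_neg_eq_add] at h1
  exact h1

theorem eq_re_add_im_omega (x : QuadraticAlgebra F (-b) a) :
    x = algebraMap F _ x.re + algebraMap F _ x.im * ω := by
  ext <;> simp

theorem pow_card_eq (x : QuadraticAlgebra F (-b) a) :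
    x ^ Fintype.card F
      = algebraMap F _ x.re + algebraMap F _ x.im * (ω : QuadraticAlgebra F (-b) a) ^ Fintype.card F := by
  conv_lhs => rw [eq_re_add_im_omega x]
  rw [add_pow_card', mul_pow, algebraMap_pow_card, algebraMap_pow_card]

theorem star_eq_re_add (x : QuadraticAlgebra F (-b) a) :
    star x = algebraMap F _ x.re + algebraMap F _ x.im * star (ω : QuadraticAlgebra F (-b) a) := by
  ext <;> simp <;> ring

/-- Not every element of `K` is fixed by `x ↦ x^q`. -/
theorem not_forall_pow_card_eq :
    ¬ ∀ x : QuadraticAlgebra F (-b) a, x ^ Fintype.card F = x := by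
  classical
  intro hall
  have hcard := fixStar_card (F := QuadraticAlgebra F (-b) a) (q := Fintype.card F) (card_K a b)
  have hfix : fixStar (QuadraticAlgebra F (-b) a) (Fintype.card F) = Finset.univ.erase 0 := by
    ext x
    rw [mem_fixStar, Finset.mem_erase]
    constructor
    · intro h; exact ⟨h.1, Finset.mem_univ _⟩
    · intro h; exact ⟨h.1, hall x⟩
  rw [hfix, Finset.card_erase_of_mem (Finset.mem_univ _), Finset.card_univ, card_K] at hcard
  have hq2 : 2 ≤ Fintype.card F := Fintype.one_lt_card
  have : Fintype.card F < Fintype.card F ^ 2 := by nlinarith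
  omega

/-- The Frobenius `x ↦ x^q` of `K` is the conjugation. -/
theorem pow_card_eq_star (x : QuadraticAlgebra F (-b) a) : x ^ Fintype.card F = star x := by
  classical
  set η : QuadraticAlgebra F (-b) a := (ω : QuadraticAlgebra F (-b) a) ^ Fintype.card F with hη
  -- η is a root of the same quadratic
  have hωω : (ω : QuadraticAlgebra F (-b) a) * ω
      = algebraMap F _ (-b) + algebraMap F _ a * ω := omega_mul_omega_eq_algebraMap
  have hηη : η * η = algebraMap F _ (-b) + algebraMap F _ a * η := by
    rw [hη, ← mul_pow, hωω, add_pow_card', mul_pow, algebraMap_pow_card, algebraMap_pow_card]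
  have hstar : star (ω : QuadraticAlgebra F (-b) a) = algebraMap F _ a - ω := by
    ext <;> simp
  have hprod : (η - ω) * (η - star (ω : QuadraticAlgebra F (-b) a)) = 0 := by
    rw [hstar]
    have : (η - ω) * (η - (algebraMap F _ a - ω))
        = η * η - algebraMap F _ a * η - (ω * ω - algebraMap F _ a * ω) := by ring
    rw [this, hηη, hωω]; ring
  have hne : η ≠ ω := by
    intro h
    apply not_forall_pow_card_eq (a := a) (b := b)
    intro x
    rw [pow_card_eq, ← hη, h, ← eq_re_add_im_omega]
  have hηstar : η = star (ω : QuadraticAlgebra F (-b) a) := by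
    rcases mul_eq_zero.mp hprod with h | h
    · exact absurd (sub_eq_zero.mp h) hne
    · exact sub_eq_zero.mp h
  rw [pow_card_eq, ← hη, hηstar, ← star_eq_re_add]

theorem star_omega_ne : star (ω : QuadraticAlgebra F (-b) a) ≠ ω := by
  intro h
  apply not_forall_pow_card_eq (a := a) (b := b)
  intro x
  rw [pow_card_eq_star, star_eq_re_add, h, ← eq_re_add_im_omega]

/-- The norm is `x ↦ x · x^q`. -/
theorem algebraMap_norm_eq (x : QuadraticAlgebra F (-b) a) :
    algebraMap F (QuadraticAlgebra F (-b) a) (norm x) = x * x ^ Fintype.card F := by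
  rw [pow_card_eq_star, algebraMap_norm_eq_mul_star]

/-- Every nonzero `c : F` is the norm of exactly `q + 1` elements of `K`. -/
theorem card_norm_eq (c : F) (hc : c ≠ 0) :
    Nat.card {x : QuadraticAlgebra F (-b) a // norm x = c} = Fintype.card F + 1 := by
  classical
  have hmem : algebraMap F (QuadraticAlgebra F (-b) a) c
      ∈ fixStar (QuadraticAlgebra F (-b) a) (Fintype.card F) := by
    rw [mem_fixStar]
    refine ⟨?_, algebraMap_pow_card c⟩
    intro h
    apply hc
    exact (map_eq_zero_iff _ (algebraMap F (QuadraticAlgebra F (-b) a)).injective).mp h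
  have h := normFiber_of_mem (card_K a b) _ hmem
  unfold normFiber at h
  rw [Nat.card_eq_fintype_card, Fintype.card_subtype, ← h]
  congr 1
  ext x
  simp only [Finset.mem_filter, Finset.mem_univ, true_and]
  rw [← algebraMap_norm_eq]
  constructor
  · intro hx; rw [hx]
  · intro hx
    exact (algebraMap F (QuadraticAlgebra F (-b) a)).injective hx

end finite

end Cfsg.Agent.Lib.Helper14.QuadExt
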