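import Mathlib
import Cfsg.Prelude.Def_Classical
import Cfsg.Agent.Lib.Helper14.OrthPlus
import Cfsg.Agent.Lib.Helper14.QuadExt

set_option autoImplicit false

/-!
# The order of `GO⁻_{2n+2}(q)`
-/

namespace Cfsg.Agent.Lib.Helper14.OrthMinus

open Finset Cfsg.Agent.Lib.Helper14 Cfsg.Agent.Lib.Helper14.QuadExt

section defs

variable {F : Type*} [Field F] {n : ℕ} {a b : F}

/-- index type of the minus form -/
abbrev Idx (n : ℕ) := (Fin n ⊕ Fin n) ⊕ Fin 2

/-- polar form of `quadFormMinus` -/
def minusPolar (n : ℕ) (F : Type*) [Field F] (a b : F) (u v : Idx n → F) : F :=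
  (∑ i : Fin n, (u (.inl (.inl i)) * v (.inl (.inr i)) + v (.inl (.inl i)) * u (.inl (.inr i)))) +
    (2 * u (.inr 0) * v (.inr 0) + a * (u (.inr 0) * v (.inr 1) + u (.inr 1) * v (.inr 0)) +
      2 * b * u (.inr 1) * v (.inr 1))

theorem minusPolar_single_inr0 (u : Idx n → F) :
    minusPolar n F a b u (Pi.single (Sum.inr 0) 1) = 2 * u (.inr 0) + a * u (.inr 1) := by
  unfold minusPolar
  rw [Finset.sum_eq_zero]
  · simp [Pi.single_apply]
  · intro l _
    simp [Pi.single_apply]

theorem minusPolar_single_inr1 (u : Idx n → F) :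
    minusPolar n F a b u (Pi.single (Sum.inr 1) 1) = a * u (.inr 0) + 2 * b * u (.inr 1) := by
  unfold minusPolar
  rw [Finset.sum_eq_zero]
  · simp [Pi.single_apply]
  · intro l _
    simp [Pi.single_apply]

theorem isQF_minus (hD : a ^ 2 - 4 * b ≠ 0) :
    IsQF (Cfsg.quadFormMinus n F a b) (minusPolar n F a b) where
  polar u v := by
    unfold Cfsg.quadFormMinus minusPolar
    have : ∑ i : Fin n, (u + v) (.inl (.inl i)) * (u + v) (.inl (.inr i)) =
        (∑ i : Fin n, u (.inl (.inl i)) * u (.inl (.inr i))) +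
        (∑ i : Fin n, v (.inl (.inl i)) * v (.inl (.inr i))) +
        ∑ i : Fin n, (u (.inl (.inl i)) * v (.inl (.inr i)) + v (.inl (.inl i)) * u (.inl (.inr i))) := by
      rw [← Finset.sum_add_distrib, ← Finset.sum_add_distrib]
      apply Finset.sum_congr rfl
      intro i _
      simp only [Pi.add_apply]
      ring
    rw [this]
    simp only [Pi.add_apply]
    ring
  q_smul c u := by
    unfold Cfsg.quadFormMinus
    have : ∑ i : Fin n, (c • u) (.inl (.inl i)) * (c • u) (.inl (.inr i)) =
        c * c * ∑ i : Fin n, u (.inl (.inl i)) * u (.inl (.inr i)) := by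
      rw [Finset.mul_sum]
      apply Finset.sum_congr rfl
      intro i _
      simp only [Pi.smul_apply, smul_eq_mul]
      ring
    rw [this]
    simp only [Pi.smul_apply, smul_eq_mul]
    ring
  b_add u v w := by
    unfold minusPolar
    have : ∑ i : Fin n, ((u + v) (.inl (.inl i)) * w (.inl (.inr i)) +
          w (.inl (.inl i)) * (u + v) (.inl (.inr i))) =
        (∑ i : Fin n, (u (.inl (.inl i)) * w (.inl (.inr i)) + w (.inl (.inl i)) * u (.inl (.inr i)))) +
        ∑ i : Fin n, (v (.inl (.inl i)) * w (.inl (.inr i)) + w (.inl (.inl i)) * v (.inl (.inr i))) := by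
      rw [← Finset.sum_add_distrib]
      apply Finset.sum_congr rfl
      intro i _
      simp only [Pi.add_apply]
      ring
    rw [this]
    simp only [Pi.add_apply]
    ring
  b_smul c u w := by
    unfold minusPolar
    have : ∑ i : Fin n, ((c • u) (.inl (.inl i)) * w (.inl (.inr i)) +
          w (.inl (.inl i)) * (c • u) (.inl (.inr i))) =
        c * ∑ i : Fin n, (u (.inl (.inl i)) * w (.inl (.inr i)) + w (.inl (.inl i)) * u (.inl (.inr i))) := by
      rw [Finset.mul_sum]
      apply Finset.sum_congr rfl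
      intro i _
      simp only [Pi.smul_apply, smul_eq_mul]
      ring
    rw [this]
    simp only [Pi.smul_apply, smul_eq_mul]
    ring
  b_symm u v := by
    unfold minusPolar
    congr 1
    · apply Finset.sum_congr rfl
      intro i _
      ring
    · ring
  nondeg u hu := by
    classical
    obtain ⟨c, hc⟩ := Function.ne_iff.mp hu
    rcases c with (i | i) | j
    · refine ⟨Pi.single (Sum.inl (Sum.inr i)) 1, ?_⟩
      unfold minusPolar
      rw [Finset.sum_eq_single i]
      · simpa [Pi.single_apply] using hc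
      · intro j _ hj
        simp [Pi.single_apply, hj]
      · intro h; exact absurd (mem_univ _) h
    · refine ⟨Pi.single (Sum.inl (Sum.inl i)) 1, ?_⟩
      unfold minusPolar
      rw [Finset.sum_eq_single i]
      · simpa [Pi.single_apply] using hc
      · intro j _ hj
        simp [Pi.single_apply, hj]
      · intro h; exact absurd (mem_univ _) h
    · by_contra hall
      push Not at hall
      have h0 := hall (Pi.single (Sum.inr 0) 1)
      have h1 := hall (Pi.single (Sum.inr 1) 1)
      rw [minusPolar_single_inr0] at h0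
      rw [minusPolar_single_inr1] at h1
      have e1 : (a ^ 2 - 4 * b) * u (.inr 1) = 0 := by linear_combination a * h0 - 2 * h1
      have e0 : (a ^ 2 - 4 * b) * u (.inr 0) = 0 := by linear_combination (-2 * b) * h0 + a * h1
      have u1 : u (.inr 1) = 0 := (mul_eq_zero.mp e1).resolve_left hD
      have u0 : u (.inr 0) = 0 := (mul_eq_zero.mp e0).resolve_left hD
      apply hc
      fin_cases j
      · exact u0
      · exact u1

theorem disc_ne_zero [Finite F] (hab : Aniso a b) : a ^ 2 - 4 * b ≠ 0 := by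
  intro hD
  by_cases h2 : (2 : F) = 0
  · have h4 : (4 : F) = 0 := by
      have : (4 : F) = 2 * 2 := by norm_num
      rw [this, h2, mul_zero]
    have ha : a = 0 := by
      have : a ^ 2 = 0 := by linear_combination hD + b * h4
      exact pow_eq_zero_iff (two_ne_zero) |>.mp this
    have hchar : ringChar F = 2 := by
      have : CharP F 2 := by
        apply CharTwo.of_one_ne_zero_of_two_eq_zero one_ne_zero h2
      exact ringChar.eq F 2
    obtain ⟨s, hs⟩ := FiniteField.isSquare_of_char_two hchar b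
    have := hab s 1 (by rw [ha, hs]; linear_combination s * s * h2)
    exact one_ne_zero this.2
  · have := hab (-a) 2 (by linear_combination -hD)
    exact h2 this.2

end defs

section count

variable {F : Type*} [Field F] [Fintype F] [DecidableEq F] {n : ℕ} {a b : F}

theorem card_bin_zero (hab : Aniso a b) :
    Nat.card {z : Fin 2 → F // (z 0 ^ 2 + a * z 0 * z 1 + b * z 1 ^ 2) - 0 = 0} = 1 := by
  rw [Nat.card_eq_one_iff_unique]
  refine ⟨⟨?_⟩, ⟨⟨fun _ => 0, by simp⟩⟩⟩
  rintro ⟨z, hz⟩ ⟨z', hz'⟩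
  apply Subtype.ext
  rw [sub_zero] at hz hz'
  have h1 := hab _ _ hz
  have h2 := hab _ _ hz'
  funext i
  fin_cases i
  · exact h1.1.trans h2.1.symm
  · exact h1.2.trans h2.2.symm

theorem card_bin_ne (hab : Aniso a b) (c : F) (hc : c ≠ 0) :
    Nat.card {z : Fin 2 → F // (z 0 ^ 2 + a * z 0 * z 1 + b * z 1 ^ 2) - c = 0} =
      Fintype.card F + 1 := by
  haveI := fact_of_aniso hab
  rw [← card_norm_eq (a := a) (b := b) c hc]
  apply Nat.card_congr
  refine Equiv.subtypeEquiv ((piFinTwoEquiv (fun _ => F)).trans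
    (QuadraticAlgebra.equivProd (-b) a).symm) ?_
  intro z
  rw [QuadExt.norm_eq, sub_eq_zero]
  simp

theorem minus_card (n : ℕ) (c : F) :
    Nat.card {v : Idx n → F // Cfsg.quadFormMinus n F a b v = c} =
      Nat.card {z : Fin 2 → F // (z 0 ^ 2 + a * z 0 * z 1 + b * z 1 ^ 2) - c = 0} *
        (Fintype.card F ^ n + (Fintype.card F ^ n - 1) * Fintype.card F ^ (n - 1)) +
      (Fintype.card F ^ 2 -
        Nat.card {z : Fin 2 → F // (z 0 ^ 2 + a * z 0 * z 1 + b * z 1 ^ 2) - c = 0}) *
        ((Fintype.card F ^ n - 1) * Fintype.card F ^ (n - 1)) := by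
  let f : (Fin 2 → F) → F := fun z => (z 0 ^ 2 + a * z 0 * z 1 + b * z 1 ^ 2) - c
  let g : (Fin n ⊕ Fin n → F) → F := fun v => ∑ i : Fin n, v (.inl i) * v (.inr i)
  have e : {v : Idx n → F // Cfsg.quadFormMinus n F a b v = c} ≃
      {p : (Fin 2 → F) × (Fin n ⊕ Fin n → F) // f p.1 + g p.2 = 0} :=
    Equiv.subtypeEquiv ((Equiv.sumArrowEquivProdArrow (Fin n ⊕ Fin n) (Fin 2) F).trans
      (Equiv.prodComm _ _)) (fun v => by
      show (∑ i : Fin n, v (.inl (.inl i)) * v (.inl (.inr i))) +
          (v (.inr 0) ^ 2 + a * v (.inr 0) * v (.inr 1) + b * v (.inr 1) ^ 2) = c ↔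
        ((v (.inr 0) ^ 2 + a * v (.inr 0) * v (.inr 1) + b * v (.inr 1) ^ 2) - c) +
          ∑ i : Fin n, v (.inl (.inl i)) * v (.inl (.inr i)) = 0
      constructor
      · intro h; rw [← h]; ring
      · intro h; linear_combination h)
  rw [Nat.card_congr e]
  have hg : ∀ d : F, Nat.card {b : Fin n ⊕ Fin n → F // g b = d} =
      if d = 0 then (Fintype.card F ^ n + (Fintype.card F ^ n - 1) * Fintype.card F ^ (n - 1))
      else ((Fintype.card F ^ n - 1) * Fintype.card F ^ (n - 1)) := by
    intro d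
    rw [natCard_plus (F := F) n d]
    split_ifs <;> simp
  rw [natCard_sum_form f g _ _ hg]
  have hA : Fintype.card (Fin 2 → F) = Fintype.card F ^ 2 := by
    rw [Fintype.card_fun]; simp
  rw [hA]

theorem minus_card_zero (hab : Aniso a b) (n : ℕ) :
    Nat.card {v : Idx n → F // Cfsg.quadFormMinus n F a b v = 0} =
      Fintype.card F ^ n + Fintype.card F ^ (n + 1) * (Fintype.card F ^ n - 1) := by
  have hq : 0 < Fintype.card F := Fintype.card_pos
  rw [minus_card, card_bin_zero hab, one_mul]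
  set q := Fintype.card F
  rcases Nat.eq_zero_or_pos n with rfl | hn
  · simp
  · obtain ⟨k, rfl⟩ : ∃ k, n = k + 1 := ⟨n - 1, by omega⟩
    have h1 : 1 ≤ q ^ (k + 1) := Nat.one_le_pow _ _ hq
    have h2 : 1 ≤ q ^ 2 := Nat.one_le_pow _ _ hq
    simp only [Nat.add_sub_cancel]
    zify [h1, h2]
    ring

theorem minus_card_ne (hab : Aniso a b) (n : ℕ) (c : F) (hc : c ≠ 0) :
    Nat.card {v : Idx n → F // Cfsg.quadFormMinus n F a b v = c} =
      (Fintype.card F + 1) * Fintype.card F ^ n +
        Fintype.card F ^ (n + 1) * (Fintype.card F ^ n - 1) := by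
  have hq : 2 ≤ Fintype.card F := by
    have h1 : 1 < Fintype.card F := Fintype.one_lt_card
    omega
  rw [minus_card, card_bin_ne hab c hc]
  set q := Fintype.card F
  have h2 : q + 1 ≤ q ^ 2 := by nlinarith
  rcases Nat.eq_zero_or_pos n with rfl | hn
  · simp
  · obtain ⟨k, rfl⟩ : ∃ k, n = k + 1 := ⟨n - 1, by omega⟩
    have h1 : 1 ≤ q ^ (k + 1) := Nat.one_le_pow _ _ (by omega)
    simp only [Nat.add_sub_cancel]
    zify [h1, h2]
    ring

theorem minus_arith0 (q k j N : ℕ) (hq : 0 < q)
    (h : q ^ (k + j) + q ^ (k + j + 1) * (q ^ (k + j) - 1) =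
      N * q ^ k + q ^ (2 * j) * (q * q) * ((q ^ k - 1) * q ^ (k - 1))) :
    N = (q ^ (j + 1) + 1) * (q ^ j - 1) + 1 := by
  have h1 : ∀ n, 1 ≤ q ^ n := fun n => Nat.one_le_pow _ _ hq
  have hqz : (q : ℤ) ≠ 0 := by exact_mod_cast hq.ne'
  rcases Nat.eq_zero_or_pos k with rfl | hk
  · simp only [pow_zero, Nat.sub_self, zero_mul, mul_zero, add_zero, mul_one, zero_add] at h
    zify [h1 j] at h ⊢
    linear_combination -h
  · obtain ⟨k', rfl⟩ : ∃ k', k = k' + 1 := ⟨k - 1, by omega⟩
    have e2 : k' + 1 - 1 = k' := by omega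
    rw [e2] at h
    zify [h1 (k' + 1), h1 (k' + 1 + j), h1 j] at h ⊢
    have h3 : (N : ℤ) * (q : ℤ) ^ (k' + 1) =
        (((q : ℤ) ^ (j + 1) + 1) * ((q : ℤ) ^ j - 1) + 1) * (q : ℤ) ^ (k' + 1) := by
      have : (N : ℤ) * (q : ℤ) ^ (k' + 1) = (q : ℤ) ^ (k' + 1 + j) +
          (q : ℤ) ^ (k' + 1 + j + 1) * ((q : ℤ) ^ (k' + 1 + j) - 1) -
          (q : ℤ) ^ (2 * j) * ((q : ℤ) * (q : ℤ)) * (((q : ℤ) ^ (k' + 1) - 1) * (q : ℤ) ^ k') := by
        linear_combination -h
      rw [this]
      ring
    exact mul_right_cancel₀ (pow_ne_zero _ hqz) h3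

theorem minus_arith1 (q n N : ℕ) (hq : 0 < q)
    (h : (q + 1) * q ^ n + q ^ (n + 1) * (q ^ n - 1) =
      N * q ^ n + q ^ (2 * 0) * (q * q) * ((q ^ n - 1) * q ^ (n - 1))) :
    N = q + 1 := by
  have h1 : ∀ n, 1 ≤ q ^ n := fun n => Nat.one_le_pow _ _ hq
  have hqz : (q : ℤ) ≠ 0 := by exact_mod_cast hq.ne'
  rcases Nat.eq_zero_or_pos n with rfl | hk
  · simp only [pow_zero, Nat.sub_self, zero_mul, mul_zero, add_zero, mul_one, zero_add] at h
    omega
  · obtain ⟨k', rfl⟩ : ∃ k', n = k' + 1 := ⟨n - 1, by omega⟩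
    have e2 : k' + 1 - 1 = k' := by omega
    rw [e2] at h
    zify [h1 (k' + 1)] at h ⊢
    have h3 : (N : ℤ) * (q : ℤ) ^ (k' + 1) = ((q : ℤ) + 1) * (q : ℤ) ^ (k' + 1) := by
      have : (N : ℤ) * (q : ℤ) ^ (k' + 1) = ((q : ℤ) + 1) * (q : ℤ) ^ (k' + 1) +
          (q : ℤ) ^ (k' + 1 + 1) * ((q : ℤ) ^ (k' + 1) - 1) -
          (q : ℤ) ^ (2 * 0) * ((q : ℤ) * (q : ℤ)) * (((q : ℤ) ^ (k' + 1) - 1) * (q : ℤ) ^ k') := by
        linear_combination -h
      rw [this]
      ring
    exact mul_right_cancel₀ (pow_ne_zero _ hqz) h3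

theorem minus_card_perp (hD : a ^ 2 - 4 * b ≠ 0) {k j : ℕ}
    {e f : Fin k → (Idx (k + j) → F)}
    (h : HypQ (Cfsg.quadFormMinus (k + j) F a b) (minusPolar (k + j) F a b) k e f) :
    Nat.card {w : Idx (k + j) → F // PerpQ (minusPolar (k + j) F a b) e f w} =
      Fintype.card F ^ (2 * j) * (Fintype.card F * Fintype.card F) := by
  have hq : 0 < Fintype.card F := Fintype.card_pos
  have := card_perpQ (isQF_minus hD) h
  rw [Fintype.card_sum, Fintype.card_sum, Fintype.card_fin, Fintype.card_fin] at this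
  have h3 : Fintype.card F ^ (k + j + (k + j) + 2) =
      (Fintype.card F ^ (2 * j) * (Fintype.card F * Fintype.card F)) * Fintype.card F ^ (2 * k) := by
    rw [← pow_two, ← pow_add, ← pow_add]; congr 1; ring
  rw [h3] at this
  exact Nat.eq_of_mul_eq_mul_right (pow_pos hq _) this

theorem minus_card_perp_zero (hab : Aniso a b) {k j : ℕ}
    {e f : Fin k → (Idx (k + j) → F)}
    (h : HypQ (Cfsg.quadFormMinus (k + j) F a b) (minusPolar (k + j) F a b) k e f) :
    Nat.card {w : Idx (k + j) → F //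
      PerpQ (minusPolar (k + j) F a b) e f w ∧ Cfsg.quadFormMinus (k + j) F a b w = 0} =
      (Fintype.card F ^ (j + 1) + 1) * (Fintype.card F ^ j - 1) + 1 := by
  have hq : 0 < Fintype.card F := Fintype.card_pos
  have hD := disc_ne_zero hab
  have h1 := card_q_eq (isQF_minus hD) h 0
  rw [minus_card_zero hab, minus_card_perp hD h] at h1
  exact minus_arith0 (Fintype.card F) k j _ hq h1

theorem minus_card_perp_ne (hab : Aniso a b) {n : ℕ}
    {e f : Fin n → (Idx n → F)}
    (h : HypQ (Cfsg.quadFormMinus n F a b) (minusPolar n F a b) n e f) (c : F) (hc : c ≠ 0) :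
    Nat.card {w : Idx n → F //
      PerpQ (minusPolar n F a b) e f w ∧ Cfsg.quadFormMinus n F a b w = c} =
      Fintype.card F + 1 := by
  have hq : 0 < Fintype.card F := Fintype.card_pos
  have hD := disc_ne_zero hab
  have h1 := card_q_eq (isQF_minus hD) h c
  have h2 : Nat.card {w : Idx n → F // PerpQ (minusPolar n F a b) e f w} =
      Fintype.card F ^ (2 * 0) * (Fintype.card F * Fintype.card F) :=
    minus_card_perp (k := n) (j := 0) hD h
  rw [minus_card_ne hab n c hc, h2] at h1
  exact minus_arith1 (Fintype.card F) n _ hq h1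

/-- the number of hyperbolic `k`-systems for the minus form -/
theorem minus_card_hypQ (hab : Aniso a b) (n : ℕ) : ∀ k, k ≤ n →
    Nat.card {p : (Fin k → (Idx n → F)) × (Fin k → (Idx n → F)) //
        HypQ (Cfsg.quadFormMinus n F a b) (minusPolar n F a b) k p.1 p.2} =
      ∏ i ∈ range k, ((Fintype.card F ^ (n - i + 1) + 1) * (Fintype.card F ^ (n - i) - 1) *
        Fintype.card F ^ (2 * (n - i)))
  | 0, _ => by
      rw [Finset.prod_range_zero]
      exact card_hypQ_zero
  | k + 1, hk => by
      have ih := minus_card_hypQ hab n k (by omega)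
      obtain ⟨j, rfl⟩ : ∃ j, n = k + j := ⟨n - k, by omega⟩
      have hD := disc_ne_zero hab
      rw [card_hypQ_succ (isQF_minus hD) k ((Fintype.card F ^ (j + 1) + 1) * (Fintype.card F ^ j - 1) + 1)
        (Fintype.card F ^ (2 * j))
        (fun e f h => minus_card_perp_zero hab h) (fun e f h => minus_card_perp hD h),
        ih, Finset.prod_range_succ]
      congr 1
      have e1 : k + j - k = j := by omega
      rw [e1, Nat.add_sub_cancel]

end count

section roots

open QuadraticAlgebra Polynomial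

variable {F : Type*} [Field F] [Fintype F] {a b β δ : F}

omit [Fintype F] in
theorem root_iff (hab : Aniso a b) (x y : F) :
    ((⟨x, y⟩ : QuadraticAlgebra F (-δ) β) * ⟨x, y⟩ =
        algebraMap F _ a * ⟨x, y⟩ - algebraMap F _ b) ↔
      (x ^ 2 + β * x * y + δ * y ^ 2 = b ∧ 2 * x + β * y = a) := by
  rw [QuadraticAlgebra.ext_iff]
  simp
  constructor
  · rintro ⟨h1, h2⟩
    have hy : y ≠ 0 := by
      rintro rfl
      have := hab x (-1) (by linear_combination h1)
      exact one_ne_zero (neg_eq_zero.mp this.2)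
    have hT : 2 * x + β * y = a := by
      have : y * (2 * x + β * y - a) = 0 := by linear_combination h2
      rcases mul_eq_zero.mp this with h | h
      · exact absurd h hy
      · exact sub_eq_zero.mp h
    refine ⟨?_, hT⟩
    rw [← hT] at h1
    linear_combination -h1
  · rintro ⟨h1, h2⟩
    rw [← h2, ← h1]
    constructor <;> ring

theorem exists_root (hab : Aniso a b) (hβδ : Aniso β δ) :
    haveI := fact_of_aniso hβδ
    ∃ z0 : QuadraticAlgebra F (-δ) β,
      z0 * z0 = algebraMap F _ a * z0 - algebraMap F _ b ∧ z0 ≠ algebraMap F _ a - z0 := by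
  haveI := fact_of_aniso hab
  haveI := fact_of_aniso hβδ
  haveI s1 : IsSplittingField F (QuadraticAlgebra F (-b) a) (X ^ (Fintype.card F ^ 2) - X) := by
    have := FiniteField.isSplittingField_sub (QuadraticAlgebra F (-b) a) F
    rwa [card_K] at this
  haveI s2 : IsSplittingField F (QuadraticAlgebra F (-δ) β) (X ^ (Fintype.card F ^ 2) - X) := by
    have := FiniteField.isSplittingField_sub (QuadraticAlgebra F (-δ) β) F
    rwa [card_K] at this
  let φ : QuadraticAlgebra F (-b) a ≃ₐ[F] QuadraticAlgebra F (-δ) β :=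
    (IsSplittingField.algEquiv _ (X ^ (Fintype.card F ^ 2) - X : F[X])).trans
      (IsSplittingField.algEquiv _ (X ^ (Fintype.card F ^ 2) - X : F[X])).symm
  refine ⟨φ ω, ?_, ?_⟩
  · have hωω : (ω : QuadraticAlgebra F (-b) a) * ω
        = algebraMap F _ (-b) + algebraMap F _ a * ω := omega_mul_omega_eq_algebraMap
    have := congrArg φ hωω
    rw [map_mul, map_add, map_mul, φ.commutes, φ.commutes] at this
    rw [this, map_neg]; ring
  · intro h
    have hstar : star (ω : QuadraticAlgebra F (-b) a) = algebraMap F _ a - ω := by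
      ext <;> simp
    apply star_omega_ne (a := a) (b := b)
    apply φ.injective
    rw [hstar, map_sub, φ.commutes]
    exact h.symm

theorem card_roots (hab : Aniso a b) (hβδ : Aniso β δ) :
    Nat.card {z : QuadraticAlgebra F (-δ) β //
      z * z = algebraMap F _ a * z - algebraMap F _ b} = 2 := by
  classical
  haveI := fact_of_aniso hβδ
  obtain ⟨z0, h0, hne⟩ := exists_root hab hβδ
  have hset : {z : QuadraticAlgebra F (-δ) β |
      z * z = algebraMap F _ a * z - algebraMap F _ b} = {z0, algebraMap F _ a - z0} := by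
    ext z
    simp only [Set.mem_ofPred_eq, Set.mem_insert_iff, Set.mem_singleton_iff]
    constructor
    · intro hz
      have : (z - z0) * (z - (algebraMap F _ a - z0)) = 0 := by linear_combination hz - h0
      rcases mul_eq_zero.mp this with h | h
      · left; exact sub_eq_zero.mp h
      · right; exact sub_eq_zero.mp h
    · rintro (rfl | rfl)
      · exact h0
      · linear_combination h0
  show Nat.card ({z : QuadraticAlgebra F (-δ) β |
      z * z = algebraMap F _ a * z - algebraMap F _ b} : Set _) = 2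
  rw [hset, Nat.card_coe_set_eq, Set.ncard_pair hne]

theorem card_partner_two {ι : Type*} [Fintype ι] {Q : (ι → F) → F} {B : (ι → F) → (ι → F) → F}
    (hQ : IsQF Q B) (S : Submodule F (ι → F))
    (hcard : Nat.card S = Fintype.card F ^ 2)
    (haniso : ∀ w ∈ S, Q w = 0 → w = 0) (hab : Aniso a b)
    (d0 : ι → F) (hd0 : d0 ∈ S) (hq0 : Q d0 = 1) :
    Nat.card {w : ι → F // w ∈ S ∧ Q w = b ∧ B d0 w = a} = 2 := by
  classical
  have hq : 2 ≤ Fintype.card F := Fintype.one_lt_card
  have hd0ne : d0 ≠ 0 := by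
    rintro rfl
    rw [hQ.q_zero] at hq0
    exact zero_ne_one hq0
  -- (a) a second basis vector
  obtain ⟨w1, hw1, hw1ne⟩ : ∃ w1 ∈ S, ∀ x : F, w1 ≠ x • d0 := by
    by_contra hall
    push Not at hall
    have hle : Nat.card S ≤ Nat.card F := by
      apply Nat.card_le_card_of_surjective (fun x : F => (⟨x • d0, S.smul_mem x hd0⟩ : S))
      rintro ⟨w, hw⟩
      obtain ⟨x, hx⟩ := hall w hw
      exact ⟨x, Subtype.ext hx.symm⟩
    rw [hcard, Nat.card_eq_fintype_card] at hle
    nlinarith
  set β := B d0 w1 with hβ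
  set δ := Q w1 with hδ
  -- (b) coordinates
  have hQc : ∀ x y : F, Q (x • d0 + y • w1) = x ^ 2 + β * x * y + δ * y ^ 2 := by
    intro x y
    rw [hQ.polar, hQ.q_smul, hQ.q_smul, hQ.b_smul, hQ.b_smul_right, hq0]
    ring
  have hBc : ∀ x y : F, B d0 (x • d0 + y • w1) = 2 * x + β * y := by
    intro x y
    rw [hQ.b_add_right, hQ.b_smul_right, hQ.b_smul_right, hQ.b_self, hq0]
    ring
  let φ : F × F → S := fun p => ⟨p.1 • d0 + p.2 • w1,
    S.add_mem (S.smul_mem _ hd0) (S.smul_mem _ hw1)⟩
  have hinj : Function.Injective φ := by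
    rintro ⟨x, y⟩ ⟨x', y'⟩ h
    have h1 : x • d0 + y • w1 = x' • d0 + y' • w1 := congrArg Subtype.val h
    have hy : y = y' := by
      by_contra hne
      have hne' : y - y' ≠ 0 := sub_ne_zero.mpr hne
      apply hw1ne ((x' - x) / (y - y'))
      have h2 : (y - y') • w1 = (x' - x) • d0 := by
        rw [sub_smul, sub_smul]
        linear_combination (exp := 1) h1
      rw [div_eq_inv_mul, mul_smul, ← h2, smul_smul, inv_mul_cancel₀ hne', one_smul]
    subst hy
    have h2 : (x - x') • d0 = 0 := by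
      rw [sub_smul]
      linear_combination (exp := 1) h1
    rcases smul_eq_zero.mp h2 with h3 | h3
    · rw [sub_eq_zero.mp h3]
    · exact absurd h3 hd0ne
  have hbij : Function.Bijective φ := by
    apply hinj.bijective_of_nat_card_le
    rw [hcard, Nat.card_prod, Nat.card_eq_fintype_card, sq]
  have hβδ : Aniso β δ := by
    intro x y hxy
    have h1 : Q (x • d0 + y • w1) = 0 := by rw [hQc]; exact hxy
    have h2 := haniso _ (φ (x, y)).2 h1
    have h3 : φ (x, y) = φ (0, 0) := by
      apply Subtype.ext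
      show x • d0 + y • w1 = (0 : F) • d0 + (0 : F) • w1
      rw [zero_smul, zero_smul, add_zero]
      exact h2
    have h4 := hinj h3
    simp only [Prod.mk.injEq] at h4
    exact h4
  rw [← card_roots hab hβδ]
  apply Nat.card_congr
  refine (Equiv.subtypeSubtypeEquivSubtypeInter (fun w => w ∈ S) (fun w => Q w = b ∧ B d0 w = a)).symm.trans ?_
  refine (Equiv.subtypeEquiv (Equiv.ofBijective φ hbij) (p := fun p => p.1 ^ 2 + β * p.1 * p.2 + δ * p.2 ^ 2 = b ∧ 2 * p.1 + β * p.2 = a) ?_).symm.trans ?_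
  · rintro ⟨x, y⟩
    show _ ↔ (Q (x • d0 + y • w1) = b ∧ B d0 (x • d0 + y • w1) = a)
    rw [hQc, hBc]
  · refine (Equiv.subtypeEquiv (QuadraticAlgebra.equivProd (-δ) β) ?_).symm
    intro z
    exact root_iff hab z.re z.im

end roots

section iso

variable {F : Type*} [Field F] {n : ℕ} {a b : F}

theorem minus_std_hypQ : HypQ (Cfsg.quadFormMinus n F a b) (minusPolar n F a b) n
    (fun i => Pi.single (Sum.inl (Sum.inl i)) 1) (fun i => Pi.single (Sum.inl (Sum.inr i)) 1) where
  qe i := by
    unfold Cfsg.quadFormMinus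
    rw [Finset.sum_eq_zero]
    · simp
    · intro l _
      simp [Pi.single_apply]
  qf i := by
    unfold Cfsg.quadFormMinus
    rw [Finset.sum_eq_zero]
    · simp
    · intro l _
      simp [Pi.single_apply]
  ee i j := by
    unfold minusPolar
    rw [Finset.sum_eq_zero]
    · simp
    · intro l _
      simp [Pi.single_apply]
  ff i j := by
    unfold minusPolar
    rw [Finset.sum_eq_zero]
    · simp
    · intro l _
      simp [Pi.single_apply]
  ef i j := by
    unfold minusPolar
    simp [Pi.single_apply, Finset.sum_ite_eq]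
    by_cases hij : i = j
    · subst hij; simp
    · simp [hij]
      intro h; exact absurd h.symm hij

theorem minus_std_perp (j : Fin 2) : PerpQ (minusPolar n F a b)
    (fun i : Fin n => (Pi.single (Sum.inl (Sum.inl i)) 1 : Idx n → F))
    (fun i => Pi.single (Sum.inl (Sum.inr i)) 1) (Pi.single (Sum.inr j) 1) := by
  intro i
  constructor
  · unfold minusPolar
    rw [Finset.sum_eq_zero]
    · simp
    · intro l _
      simp [Pi.single_apply]
  · unfold minusPolar
    rw [Finset.sum_eq_zero]
    · simp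
    · intro l _
      simp [Pi.single_apply]

theorem minus_std_q0 : Cfsg.quadFormMinus n F a b (Pi.single (Sum.inr 0) 1) = 1 := by
  unfold Cfsg.quadFormMinus
  rw [Finset.sum_eq_zero]
  · simp
  · intro l _
    simp

theorem minus_std_q1 : Cfsg.quadFormMinus n F a b (Pi.single (Sum.inr 1) 1) = b := by
  unfold Cfsg.quadFormMinus
  rw [Finset.sum_eq_zero]
  · simp
  · intro l _
    simp

theorem minus_std_b01 :
    minusPolar n F a b (Pi.single (Sum.inr 0) 1) (Pi.single (Sum.inr 1) 1) = a := by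
  rw [minusPolar_single_inr1]
  simp

theorem card_isometry_minus_eq [Fintype F] (hab : Aniso a b) :
    Nat.card (Cfsg.isometryGroup F (Cfsg.quadFormMinus n F a b)) =
      Nat.card {x : ((Fin n → (Idx n → F)) × (Fin n → (Idx n → F))) ×
          ((Idx n → F) × (Idx n → F)) //
        HypQ (Cfsg.quadFormMinus n F a b) (minusPolar n F a b) n x.1.1 x.1.2 ∧
          PerpQ (minusPolar n F a b) x.1.1 x.1.2 x.2.1 ∧
          PerpQ (minusPolar n F a b) x.1.1 x.1.2 x.2.2 ∧
          Cfsg.quadFormMinus n F a b x.2.1 = 1 ∧ Cfsg.quadFormMinus n F a b x.2.2 = b ∧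
          minusPolar n F a b x.2.1 x.2.2 = a} := by
  classical
  have hD := disc_ne_zero hab
  have hQ := isQF_minus (F := F) (n := n) hD
  apply Nat.card_congr
  refine Equiv.ofBijective (fun g => ⟨((fun i r =>
      ((g.1 : Matrix.GeneralLinearGroup (Idx n) F) : Matrix (Idx n) (Idx n) F) r (Sum.inl (Sum.inl i)),
    fun i r => ((g.1 : Matrix.GeneralLinearGroup (Idx n) F) :
      Matrix (Idx n) (Idx n) F) r (Sum.inl (Sum.inr i))),
    (fun r => ((g.1 : Matrix.GeneralLinearGroup (Idx n) F) :
      Matrix (Idx n) (Idx n) F) r (Sum.inr 0),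
     fun r => ((g.1 : Matrix.GeneralLinearGroup (Idx n) F) :
      Matrix (Idx n) (Idx n) F) r (Sum.inr 1))), ?_⟩) ⟨?_, ?_⟩
  · have hg := (mem_isometryGroup_iff _ g.1).mp g.2
    set M := ((g.1 : Matrix.GeneralLinearGroup (Idx n) F) : Matrix (Idx n) (Idx n) F) with hM
    have hB := polar_mulVec_of_preserves hQ M hg
    have hcol : ∀ c, (fun r => M r c) = M.mulVec (Pi.single c 1) := by
      intro c
      rw [Matrix.mulVec_single_one]; rfl
    have hstd := minus_std_hypQ (F := F) (n := n) (a := a) (b := b)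
    have hperp := minus_std_perp (F := F) (n := n) (a := a) (b := b)
    refine ⟨⟨fun i => ?_, fun i => ?_, fun i j => ?_, fun i j => ?_, fun i j => ?_⟩,
      fun i => ⟨?_, ?_⟩, fun i => ⟨?_, ?_⟩, ?_, ?_, ?_⟩
    · show Cfsg.quadFormMinus n F a b (fun r => M r (Sum.inl (Sum.inl i))) = 0
      rw [hcol, hg]; exact hstd.qe i
    · show Cfsg.quadFormMinus n F a b (fun r => M r (Sum.inl (Sum.inr i))) = 0
      rw [hcol, hg]; exact hstd.qf i
    · show minusPolar n F a b (fun r => M r (Sum.inl (Sum.inl i))) (fun r => M r (Sum.inl (Sum.inl j))) = 0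
      rw [hcol, hcol, hB]; exact hstd.ee i j
    · show minusPolar n F a b (fun r => M r (Sum.inl (Sum.inr i))) (fun r => M r (Sum.inl (Sum.inr j))) = 0
      rw [hcol, hcol, hB]; exact hstd.ff i j
    · show minusPolar n F a b (fun r => M r (Sum.inl (Sum.inl i))) (fun r => M r (Sum.inl (Sum.inr j))) = _
      rw [hcol, hcol, hB]; exact hstd.ef i j
    · show minusPolar n F a b (fun r => M r (Sum.inr 0)) (fun r => M r (Sum.inl (Sum.inl i))) = 0
      rw [hcol, hcol, hB]; exact (hperp 0 i).1
    · show minusPolar n F a b (fun r => M r (Sum.inr 0)) (fun r => M r (Sum.inl (Sum.inr i))) = 0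
      rw [hcol, hcol, hB]; exact (hperp 0 i).2
    · show minusPolar n F a b (fun r => M r (Sum.inr 1)) (fun r => M r (Sum.inl (Sum.inl i))) = 0
      rw [hcol, hcol, hB]; exact (hperp 1 i).1
    · show minusPolar n F a b (fun r => M r (Sum.inr 1)) (fun r => M r (Sum.inl (Sum.inr i))) = 0
      rw [hcol, hcol, hB]; exact (hperp 1 i).2
    · show Cfsg.quadFormMinus n F a b (fun r => M r (Sum.inr 0)) = 1
      rw [hcol, hg]; exact minus_std_q0
    · show Cfsg.quadFormMinus n F a b (fun r => M r (Sum.inr 1)) = b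
      rw [hcol, hg]; exact minus_std_q1
    · show minusPolar n F a b (fun r => M r (Sum.inr 0)) (fun r => M r (Sum.inr 1)) = a
      rw [hcol, hcol, hB]; exact minus_std_b01
  · intro g g' h
    apply Subtype.ext
    apply Units.ext
    ext r c
    have h1 := congrArg Subtype.val h
    simp only [Prod.mk.injEq] at h1
    rcases c with (i | i) | j
    · exact congrFun (congrFun h1.1.1 i) r
    · exact congrFun (congrFun h1.1.2 i) r
    · fin_cases j
      · exact congrFun h1.2.1 r
      · exact congrFun h1.2.2 r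
  · rintro ⟨⟨⟨e, f⟩, ⟨d0, d1⟩⟩, hs, hd0, hd1, hq0, hq1, hb01⟩
    simp only at hs hd0 hd1 hq0 hq1 hb01
    let A : Matrix (Idx n) (Idx n) F :=
      Matrix.of (fun r c => Sum.elim (Sum.elim (fun i => e i r) (fun i => f i r))
        (fun j : Fin 2 => if j = 0 then d0 r else d1 r) c)
    have hAu : ∀ u, A.mulVec u = (u (Sum.inr 0) • d0 + u (Sum.inr 1) • d1) +
        qcomb e f (fun i => u (Sum.inl (Sum.inl i))) (fun i => u (Sum.inl (Sum.inr i))) := by
      intro u
      funext r
      unfold qcomb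
      simp only [Matrix.mulVec, dotProduct, Fintype.sum_sum_type, A, Matrix.of_apply, Sum.elim_inl,
        Sum.elim_inr, Finset.sum_apply, Pi.add_apply, Pi.smul_apply, smul_eq_mul,
        Finset.sum_add_distrib, Fin.sum_univ_two]
      simp only [if_true, if_neg (show (1 : Fin 2) ≠ 0 by decide)]
      rw [add_comm]
      congr 1
      · ring
      · congr 1 <;> exact Finset.sum_congr rfl (fun i _ => mul_comm _ _)
    have hperp_w : ∀ s t : F, PerpQ (minusPolar n F a b) e f (s • d0 + t • d1) := by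
      intro s t i
      constructor
      · rw [hQ.b_add, hQ.b_smul, hQ.b_smul, (hd0 i).1, (hd1 i).1, mul_zero, mul_zero, add_zero]
      · rw [hQ.b_add, hQ.b_smul, hQ.b_smul, (hd0 i).2, (hd1 i).2, mul_zero, mul_zero, add_zero]
    have hQw : ∀ s t : F, Cfsg.quadFormMinus n F a b (s • d0 + t • d1) =
        s ^ 2 + a * s * t + b * t ^ 2 := by
      intro s t
      rw [hQ.polar, hQ.q_smul, hQ.q_smul, hQ.b_smul, hQ.b_smul_right, hq0, hq1, hb01]
      ring
    have hAQ : ∀ u, Cfsg.quadFormMinus n F a b (A.mulVec u) = Cfsg.quadFormMinus n F a b u := by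
      intro u
      rw [hAu, q_add_qcomb hQ hs _ (hperp_w _ _), hQw]
      unfold Cfsg.quadFormMinus
      ring
    have hinj : Function.Injective A.mulVec := by
      intro u u' huu
      have h0 : A.mulVec (u - u') = 0 := by rw [Matrix.mulVec_sub, huu, sub_self]
      set v := u - u' with hv
      have hl : ∀ i, v (Sum.inl (Sum.inl i)) = 0 := by
        intro i
        have := congrArg (fun x => minusPolar n F a b x (f i)) h0
        simp only [hAu, hQ.b_add, hQ.b_smul, (hd0 i).2, (hd1 i).2, mul_zero, b_qcomb_f hQ hs,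
          zero_add, hQ.b_zero_left] at this
        exact this
      have hr : ∀ i, v (Sum.inl (Sum.inr i)) = 0 := by
        intro i
        have := congrArg (fun x => minusPolar n F a b x (e i)) h0
        simp only [hAu, hQ.b_add, hQ.b_smul, (hd0 i).1, (hd1 i).1, mul_zero, b_qcomb_e hQ hs,
          zero_add, hQ.b_zero_left] at this
        exact this
      have hq : Cfsg.quadFormMinus n F a b v = 0 := by
        rw [← hAQ, h0, hQ.q_zero]
      have hq' : v (Sum.inr 0) ^ 2 + a * v (Sum.inr 0) * v (Sum.inr 1) + b * v (Sum.inr 1) ^ 2 = 0 := by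
        unfold Cfsg.quadFormMinus at hq
        rw [Finset.sum_eq_zero (fun i _ => by rw [hl i, zero_mul]), zero_add] at hq
        exact hq
      have h01 := hab _ _ hq'
      have hv0 : v = 0 := by
        funext c
        rcases c with (i | i) | j
        · exact hl i
        · exact hr i
        · fin_cases j
          · exact h01.1
          · exact h01.2
      exact sub_eq_zero.mp hv0
    have hunit : IsUnit A := Matrix.mulVec_injective_iff_isUnit.mp hinj
    have hdet : A.det ≠ 0 := ((Matrix.isUnit_iff_isUnit_det A).mp hunit).ne_zero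
    refine ⟨⟨Matrix.GeneralLinearGroup.mkOfDetNeZero A hdet, ?_⟩, ?_⟩
    · rw [mem_isometryGroup_iff]
      exact hAQ
    · apply Subtype.ext
      simp only [Matrix.GeneralLinearGroup.mkOfDetNeZero]
      refine Prod.ext (Prod.ext ?_ ?_) (Prod.ext ?_ ?_) <;> rfl

theorem card_pairs_full [Fintype F] (hab : Aniso a b) {e f : Fin n → (Idx n → F)}
    (h : HypQ (Cfsg.quadFormMinus n F a b) (minusPolar n F a b) n e f) :
    Nat.card {y : (Idx n → F) × (Idx n → F) //
      PerpQ (minusPolar n F a b) e f y.1 ∧ PerpQ (minusPolar n F a b) e f y.2 ∧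
        Cfsg.quadFormMinus n F a b y.1 = 1 ∧ Cfsg.quadFormMinus n F a b y.2 = b ∧
        minusPolar n F a b y.1 y.2 = a} = (Fintype.card F + 1) * 2 := by
  classical
  have hD := disc_ne_zero hab
  have hQ := isQF_minus (F := F) (n := n) hD
  have hcard : Nat.card (perpSubQ hQ e f) = Fintype.card F ^ 2 := by
    have h2 : Nat.card {w : Idx n → F // PerpQ (minusPolar n F a b) e f w} =
        Fintype.card F ^ (2 * 0) * (Fintype.card F * Fintype.card F) :=
      minus_card_perp (k := n) (j := 0) hD h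
    rw [mul_zero, pow_zero, one_mul, ← sq] at h2
    exact h2
  have haniso : ∀ w ∈ perpSubQ hQ e f, Cfsg.quadFormMinus n F a b w = 0 → w = 0 := by
    intro w hw hw0
    have h2 : Nat.card {w : Idx n → F //
        PerpQ (minusPolar n F a b) e f w ∧ Cfsg.quadFormMinus n F a b w = 0} =
        (Fintype.card F ^ (0 + 1) + 1) * (Fintype.card F ^ 0 - 1) + 1 :=
      minus_card_perp_zero (k := n) (j := 0) hab h
    rw [pow_zero, Nat.sub_self, mul_zero, zero_add, Nat.card_eq_one_iff_unique] at h2
    have := h2.1.elim (⟨w, hw, hw0⟩ : {w : Idx n → F //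
        PerpQ (minusPolar n F a b) e f w ∧ Cfsg.quadFormMinus n F a b w = 0})
        ⟨0, (perpSubQ hQ e f).zero_mem, hQ.q_zero⟩
    exact congrArg Subtype.val this
  rw [Nat.card_eq_fintype_card, Fintype.card_subtype, Finset.card_filter, Fintype.sum_prod_type]
  have h1 : ∀ d0 : Idx n → F,
      (∑ d1 : Idx n → F, if (PerpQ (minusPolar n F a b) e f d0 ∧ PerpQ (minusPolar n F a b) e f d1 ∧
        Cfsg.quadFormMinus n F a b d0 = 1 ∧ Cfsg.quadFormMinus n F a b d1 = b ∧
        minusPolar n F a b d0 d1 = a) then 1 else 0) =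
      if (PerpQ (minusPolar n F a b) e f d0 ∧ Cfsg.quadFormMinus n F a b d0 = 1) then 2 else 0 := by
    intro d0
    by_cases hd : PerpQ (minusPolar n F a b) e f d0 ∧ Cfsg.quadFormMinus n F a b d0 = 1
    · rw [if_pos hd]
      simp only [hd.1, hd.2, true_and]
      rw [← Finset.card_filter, ← Fintype.card_subtype, ← Nat.card_eq_fintype_card]
      exact card_partner_two hQ (perpSubQ hQ e f) hcard haniso hab d0 hd.1 hd.2
    · rw [if_neg hd]
      apply Finset.sum_eq_zero
      intro d1 _
      rw [if_neg]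
      rintro ⟨h1, _, h3, _, _⟩
      exact hd ⟨h1, h3⟩
  simp only []
  rw [Finset.sum_congr rfl (fun d0 _ => h1 d0), ← Finset.sum_filter, Finset.sum_const, smul_eq_mul,
    ← Fintype.card_subtype, ← Nat.card_eq_fintype_card,
    minus_card_perp_ne hab h 1 one_ne_zero]

theorem prod_arith (q n : ℕ) (hq : 0 < q) :
    (∏ i ∈ range n, ((q ^ (n - i + 1) + 1) * (q ^ (n - i) - 1) * q ^ (2 * (n - i)))) *
      ((q + 1) * 2) =
    2 * q ^ ((n + 1) * n) * (q ^ (n + 1) + 1) * ∏ i ∈ range n, (q ^ (2 * (i + 1)) - 1) := by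
  have h3 : ∏ i ∈ range n, ((q ^ (n - i + 1) + 1) * (q ^ (n - i) - 1) * q ^ (2 * (n - i))) =
      ∏ i ∈ range n, ((q ^ (i + 2) + 1) * (q ^ (i + 1) - 1) * q ^ (2 * (i + 1))) := by
    rw [← Finset.prod_range_reflect
      (fun i => (q ^ (i + 2) + 1) * (q ^ (i + 1) - 1) * q ^ (2 * (i + 1))) n]
    apply Finset.prod_congr rfl
    intro i hi
    rw [mem_range] at hi
    have e1 : n - i + 1 = n - 1 - i + 2 := by omega
    have e2 : n - i = n - 1 - i + 1 := by omega
    rw [e1, e2]
  have h4 : ∀ n : ℕ, ∑ i ∈ range n, (2 * (i + 1)) = (n + 1) * n := by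
    intro n
    induction n with
    | zero => simp
    | succ n ih => rw [Finset.sum_range_succ, ih]; ring
  have h5 : (∏ i ∈ range n, (q ^ (i + 2) + 1)) * (q + 1) =
      (∏ i ∈ range n, (q ^ (i + 1) + 1)) * (q ^ (n + 1) + 1) := by
    rw [← Finset.prod_range_succ (fun i => q ^ (i + 1) + 1) n,
      Finset.prod_range_succ' (fun i => q ^ (i + 1) + 1) n]
    simp
  have h6 : (∏ i ∈ range n, (q ^ (i + 1) + 1)) * (∏ i ∈ range n, (q ^ (i + 1) - 1)) =
      ∏ i ∈ range n, (q ^ (2 * (i + 1)) - 1) := by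
    rw [← Finset.prod_mul_distrib]
    apply Finset.prod_congr rfl
    intro i _
    obtain ⟨y, hy⟩ : ∃ y, q ^ (i + 1) = y + 1 := ⟨q ^ (i + 1) - 1, by
      have := Nat.one_le_pow (i + 1) q hq
      omega⟩
    have : q ^ (2 * (i + 1)) = (y + 1) ^ 2 := by rw [← hy, ← pow_mul, mul_comm]
    rw [this, hy, Nat.add_sub_cancel]
    symm
    apply Nat.sub_eq_of_eq_add
    ring
  rw [h3, Finset.prod_mul_distrib, Finset.prod_mul_distrib, Finset.prod_pow_eq_pow_sum, h4, ← h6]
  calc (∏ i ∈ range n, (q ^ (i + 2) + 1)) * (∏ i ∈ range n, (q ^ (i + 1) - 1)) * q ^ ((n + 1) * n) *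
        ((q + 1) * 2)
      = 2 * q ^ ((n + 1) * n) * (∏ i ∈ range n, (q ^ (i + 1) - 1)) *
          ((∏ i ∈ range n, (q ^ (i + 2) + 1)) * (q + 1)) := by ring
    _ = _ := by rw [h5]; ring

/-- The order of `GO⁻_{2n+2}(q)`. -/
theorem card_isometry_minus [Fintype F] (hab : Aniso a b) (n : ℕ) :
    Nat.card (Cfsg.isometryGroup F (Cfsg.quadFormMinus n F a b)) =
      2 * Fintype.card F ^ ((n + 1) * n) * (Fintype.card F ^ (n + 1) + 1) *
        ∏ i ∈ Finset.range n, (Fintype.card F ^ (2 * (i + 1)) - 1) := by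
  classical
  rw [card_isometry_minus_eq hab]
  rw [Nat.card_eq_fintype_card, Fintype.card_subtype, Finset.card_filter, Fintype.sum_prod_type]
  have h1 : ∀ t : (Fin n → (Idx n → F)) × (Fin n → (Idx n → F)),
      (∑ y : (Idx n → F) × (Idx n → F),
        if (HypQ (Cfsg.quadFormMinus n F a b) (minusPolar n F a b) n t.1 t.2 ∧
          PerpQ (minusPolar n F a b) t.1 t.2 y.1 ∧ PerpQ (minusPolar n F a b) t.1 t.2 y.2 ∧
          Cfsg.quadFormMinus n F a b y.1 = 1 ∧ Cfsg.quadFormMinus n F a b y.2 = b ∧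
          minusPolar n F a b y.1 y.2 = a) then 1 else 0) =
      if HypQ (Cfsg.quadFormMinus n F a b) (minusPolar n F a b) n t.1 t.2 then
        (Fintype.card F + 1) * 2 else 0 := by
    intro t
    by_cases ht : HypQ (Cfsg.quadFormMinus n F a b) (minusPolar n F a b) n t.1 t.2
    · rw [if_pos ht]
      simp only [ht, true_and]
      rw [← Finset.card_filter, ← Fintype.card_subtype, ← Nat.card_eq_fintype_card,
        card_pairs_full hab ht]
    · rw [if_neg ht]
      simp only [ht, false_and, if_false, Finset.sum_const_zero]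
  simp only []
  rw [Finset.sum_congr rfl (fun t _ => h1 t), ← Finset.sum_filter, Finset.sum_const, smul_eq_mul,
    ← Fintype.card_subtype, ← Nat.card_eq_fintype_card, minus_card_hypQ hab n n le_rfl]
  exact prod_arith _ n Fintype.card_pos

end iso

end Cfsg.Agent.Lib.Helper14.OrthMinus
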