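import Mathlib
import Cfsg.Prelude.Def_Classical
import Cfsg.Agent.Lib.Helper14.OrthPlus

/-!
# The order of `GO_{2m+1}(q)`, `q` odd
-/

namespace Cfsg.Agent.Lib.Helper14

open Finset

section odd

variable {F : Type*} [Field F] {m : ℕ}

/-- polar form of `quadFormOdd` -/
def oddPolar (m : ℕ) (F : Type*) [Field F] (u v : Unit ⊕ (Fin m ⊕ Fin m) → F) : F :=
  2 * u (.inl ()) * v (.inl ()) +
    ∑ i : Fin m, (u (.inr (.inl i)) * v (.inr (.inr i)) + v (.inr (.inl i)) * u (.inr (.inr i)))

theorem isQF_odd (h2 : (2 : F) ≠ 0) : IsQF (Cfsg.quadFormOdd m F) (oddPolar m F) where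
  polar u v := by
    unfold Cfsg.quadFormOdd oddPolar
    have : ∑ i : Fin m, (u + v) (.inr (.inl i)) * (u + v) (.inr (.inr i)) =
        (∑ i : Fin m, u (.inr (.inl i)) * u (.inr (.inr i))) +
        (∑ i : Fin m, v (.inr (.inl i)) * v (.inr (.inr i))) +
        ∑ i : Fin m, (u (.inr (.inl i)) * v (.inr (.inr i)) + v (.inr (.inl i)) * u (.inr (.inr i))) := by
      rw [← Finset.sum_add_distrib, ← Finset.sum_add_distrib]
      apply Finset.sum_congr rfl
      intro i _
      simp only [Pi.add_apply]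
      ring
    rw [this]
    simp only [Pi.add_apply]
    ring
  q_smul c u := by
    unfold Cfsg.quadFormOdd
    have : ∑ i : Fin m, (c • u) (.inr (.inl i)) * (c • u) (.inr (.inr i)) =
        c * c * ∑ i : Fin m, u (.inr (.inl i)) * u (.inr (.inr i)) := by
      rw [Finset.mul_sum]
      apply Finset.sum_congr rfl
      intro i _
      simp only [Pi.smul_apply, smul_eq_mul]
      ring
    rw [this]
    simp only [Pi.smul_apply, smul_eq_mul]
    ring
  b_add u v w := by
    unfold oddPolar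
    have : ∑ i : Fin m, ((u + v) (.inr (.inl i)) * w (.inr (.inr i)) +
          w (.inr (.inl i)) * (u + v) (.inr (.inr i))) =
        (∑ i : Fin m, (u (.inr (.inl i)) * w (.inr (.inr i)) + w (.inr (.inl i)) * u (.inr (.inr i)))) +
        ∑ i : Fin m, (v (.inr (.inl i)) * w (.inr (.inr i)) + w (.inr (.inl i)) * v (.inr (.inr i))) := by
      rw [← Finset.sum_add_distrib]
      apply Finset.sum_congr rfl
      intro i _
      simp only [Pi.add_apply]
      ring
    rw [this]
    simp only [Pi.add_apply]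
    ring
  b_smul c u w := by
    unfold oddPolar
    have : ∑ i : Fin m, ((c • u) (.inr (.inl i)) * w (.inr (.inr i)) +
          w (.inr (.inl i)) * (c • u) (.inr (.inr i))) =
        c * ∑ i : Fin m, (u (.inr (.inl i)) * w (.inr (.inr i)) + w (.inr (.inl i)) * u (.inr (.inr i))) := by
      rw [Finset.mul_sum]
      apply Finset.sum_congr rfl
      intro i _
      simp only [Pi.smul_apply, smul_eq_mul]
      ring
    rw [this]
    simp only [Pi.smul_apply, smul_eq_mul]
    ring
  b_symm u v := by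
    unfold oddPolar
    congr 1
    · ring
    · apply Finset.sum_congr rfl
      intro i _
      ring
  nondeg u hu := by
    classical
    obtain ⟨c, hc⟩ := Function.ne_iff.mp hu
    rcases c with c | i | i
    · refine ⟨Pi.single (Sum.inl ()) 1, ?_⟩
      unfold oddPolar
      have : ∑ i : Fin m, (u (.inr (.inl i)) * (Pi.single (Sum.inl ()) (1 : F) :
          Unit ⊕ (Fin m ⊕ Fin m) → F) (.inr (.inr i)) +
          (Pi.single (Sum.inl ()) (1 : F) : Unit ⊕ (Fin m ⊕ Fin m) → F) (.inr (.inl i)) *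
            u (.inr (.inr i))) = 0 := by
        apply Finset.sum_eq_zero
        intro i _
        simp [Pi.single_apply]
      rw [this, add_zero, Pi.single_eq_same, mul_one]
      exact mul_ne_zero h2 hc
    · refine ⟨Pi.single (Sum.inr (Sum.inr i)) 1, ?_⟩
      unfold oddPolar
      rw [Finset.sum_eq_single i]
      · simpa [Pi.single_apply] using hc
      · intro j _ hj
        simp [Pi.single_apply, hj]
      · intro h; exact absurd (mem_univ _) h
    · refine ⟨Pi.single (Sum.inr (Sum.inl i)) 1, ?_⟩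
      unfold oddPolar
      rw [Finset.sum_eq_single i]
      · simpa [Pi.single_apply] using hc
      · intro j _ hj
        simp [Pi.single_apply, hj]
      · intro h; exact absurd (mem_univ _) h

section oddcount

variable {F : Type*} [Field F] [Fintype F] [DecidableEq F]

theorem odd_card (m : ℕ) (c : F) :
    Nat.card {v : Unit ⊕ (Fin m ⊕ Fin m) → F // Cfsg.quadFormOdd m F v = c} =
      Nat.card {a : Unit → F // a () ^ 2 - c = 0} *
        (Fintype.card F ^ m + (Fintype.card F ^ m - 1) * Fintype.card F ^ (m - 1)) +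
      (Fintype.card F - Nat.card {a : Unit → F // a () ^ 2 - c = 0}) *
        ((Fintype.card F ^ m - 1) * Fintype.card F ^ (m - 1)) := by
  let f : (Unit → F) → F := fun a => a () ^ 2 - c
  let g : (Fin m ⊕ Fin m → F) → F := fun v => ∑ i : Fin m, v (.inl i) * v (.inr i)
  have e : {v : Unit ⊕ (Fin m ⊕ Fin m) → F // Cfsg.quadFormOdd m F v = c} ≃
      {p : (Unit → F) × (Fin m ⊕ Fin m → F) // f p.1 + g p.2 = 0} :=
    Equiv.subtypeEquiv (Equiv.sumArrowEquivProdArrow Unit (Fin m ⊕ Fin m) F) (fun v => by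
      show v (.inl ()) ^ 2 + ∑ i : Fin m, v (.inr (.inl i)) * v (.inr (.inr i)) = c ↔
        (v (.inl ()) ^ 2 - c) + ∑ i : Fin m, v (.inr (.inl i)) * v (.inr (.inr i)) = 0
      constructor
      · intro h; rw [← h]; ring
      · intro h; linear_combination h)
  rw [Nat.card_congr e]
  have hg : ∀ d : F, Nat.card {b : Fin m ⊕ Fin m → F // g b = d} =
      if d = 0 then (Fintype.card F ^ m + (Fintype.card F ^ m - 1) * Fintype.card F ^ (m - 1))
      else ((Fintype.card F ^ m - 1) * Fintype.card F ^ (m - 1)) := by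
    intro d
    rw [natCard_plus (F := F) m d]
    split_ifs <;> simp
  rw [natCard_sum_form f g _ _ hg]
  have hA : Fintype.card (Unit → F) = Fintype.card F := by
    rw [Fintype.card_fun]; simp
  rw [hA]

theorem odd_sq_zero_card : Nat.card {a : Unit → F // a () ^ 2 - 0 = 0} = 1 := by
  rw [Nat.card_eq_one_iff_unique]
  refine ⟨⟨?_⟩, ⟨⟨fun _ => 0, by simp⟩⟩⟩
  rintro ⟨a, ha⟩ ⟨b, hb⟩
  apply Subtype.ext
  funext u
  have ha' : a () = 0 := by simpa using ha
  have hb' : b () = 0 := by simpa using hb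
  cases u
  exact ha'.trans hb'.symm

theorem odd_sq_one_card (h2 : (2 : F) ≠ 0) : Nat.card {a : Unit → F // a () ^ 2 - 1 = 0} = 2 := by
  classical
  have e : {a : Unit → F // a () ^ 2 - 1 = 0} ≃ ({1, -1} : Set F) :=
    { toFun := fun a => ⟨a.1 (), by
        have := a.2
        have h : (a.1 () - 1) * (a.1 () + 1) = 0 := by linear_combination this
        rcases mul_eq_zero.mp h with h | h
        · left; exact sub_eq_zero.mp h
        · right; exact eq_neg_of_add_eq_zero_left h⟩
      invFun := fun x => ⟨fun _ => x.1, by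
        rcases x.2 with h | h
        · rw [h]; ring
        · rw [Set.mem_singleton_iff.mp h]; ring⟩
      left_inv := fun a => by
        apply Subtype.ext
        funext u
        rfl
      right_inv := fun x => rfl }
  rw [Nat.card_congr e, Nat.card_coe_set_eq, Set.ncard_pair]
  intro h
  apply h2
  linear_combination h

theorem odd_card_zero (m : ℕ) :
    Nat.card {v : Unit ⊕ (Fin m ⊕ Fin m) → F // Cfsg.quadFormOdd m F v = 0} =
      Fintype.card F ^ (2 * m) := by
  have hq : 0 < Fintype.card F := Fintype.card_pos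
  rw [odd_card, odd_sq_zero_card, one_mul]
  set q := Fintype.card F
  rcases Nat.eq_zero_or_pos m with rfl | hm
  · simp
  · obtain ⟨n, rfl⟩ : ∃ n, m = n + 1 := ⟨m - 1, by omega⟩
    have h1 : 1 ≤ q ^ (n + 1) := Nat.one_le_pow _ _ hq
    simp only [Nat.add_sub_cancel]
    zify [h1, hq]
    ring

theorem odd_card_one (h2 : (2 : F) ≠ 0) (m : ℕ) :
    Nat.card {v : Unit ⊕ (Fin m ⊕ Fin m) → F // Cfsg.quadFormOdd m F v = 1} =
      Fintype.card F ^ (2 * m) + Fintype.card F ^ m := by
  have hq : 2 ≤ Fintype.card F := by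
    have h1 : 1 < Fintype.card F := Fintype.one_lt_card
    omega
  rw [odd_card, odd_sq_one_card h2]
  set q := Fintype.card F
  rcases Nat.eq_zero_or_pos m with rfl | hm
  · simp
  · obtain ⟨n, rfl⟩ : ∃ n, m = n + 1 := ⟨m - 1, by omega⟩
    have h1 : 1 ≤ q ^ (n + 1) := Nat.one_le_pow _ _ (by omega)
    simp only [Nat.add_sub_cancel]
    zify [h1, hq]
    ring

theorem odd_arith (q k j N : ℕ) (hq : 0 < q)
    (h : q ^ (2 * (k + j + 1)) = N * q ^ k + q ^ (2 * j + 3) * ((q ^ k - 1) * q ^ (k - 1))) :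
    N = q ^ (2 * j + 2) := by
  have h1 : ∀ n, 1 ≤ q ^ n := fun n => Nat.one_le_pow _ _ hq
  have hqz : (q : ℤ) ≠ 0 := by exact_mod_cast hq.ne'
  rcases Nat.eq_zero_or_pos k with rfl | hk
  · simp only [pow_zero, Nat.sub_self, zero_mul, mul_zero, add_zero, mul_one, zero_add] at h
    rw [← h]
    congr 1
  · obtain ⟨k', rfl⟩ : ∃ k', k = k' + 1 := ⟨k - 1, by omega⟩
    have e2 : k' + 1 - 1 = k' := by omega
    rw [e2] at h
    zify [h1 (k' + 1)] at h ⊢
    have h3 : (N : ℤ) * (q : ℤ) ^ (k' + 1) = (q : ℤ) ^ (2 * j + 2) * (q : ℤ) ^ (k' + 1) := by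
      have : (N : ℤ) * (q : ℤ) ^ (k' + 1) = (q : ℤ) ^ (2 * (k' + 1 + j + 1)) -
          (q : ℤ) ^ (2 * j + 3) * (((q : ℤ) ^ (k' + 1) - 1) * (q : ℤ) ^ k') := by
        linear_combination -h
      rw [this]
      ring
    exact mul_right_cancel₀ (pow_ne_zero _ hqz) h3

theorem odd_card_perp (h2 : (2 : F) ≠ 0) {m k : ℕ}
    {e f : Fin k → (Unit ⊕ (Fin m ⊕ Fin m) → F)}
    (h : HypQ (Cfsg.quadFormOdd m F) (oddPolar m F) k e f) :
    Nat.card {w : Unit ⊕ (Fin m ⊕ Fin m) → F // PerpQ (oddPolar m F) e f w} *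
      Fintype.card F ^ (2 * k) = Fintype.card F ^ (2 * m + 1) := by
  have := card_perpQ (isQF_odd h2) h
  rw [Fintype.card_sum, Fintype.card_sum, Fintype.card_fin] at this
  rw [this]
  congr 1
  simp
  ring

theorem odd_card_perp' (h2 : (2 : F) ≠ 0) {k j : ℕ}
    {e f : Fin k → (Unit ⊕ (Fin (k + j + 1) ⊕ Fin (k + j + 1)) → F)}
    (h : HypQ (Cfsg.quadFormOdd (k + j + 1) F) (oddPolar (k + j + 1) F) k e f) :
    Nat.card {w : Unit ⊕ (Fin (k + j + 1) ⊕ Fin (k + j + 1)) → F //
      PerpQ (oddPolar (k + j + 1) F) e f w} =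
      Fintype.card F ^ (2 * j + 1) * (Fintype.card F * Fintype.card F) := by
  have hq : 0 < Fintype.card F := Fintype.card_pos
  have := odd_card_perp h2 h
  have h3 : Fintype.card F ^ (2 * (k + j + 1) + 1) =
      (Fintype.card F ^ (2 * j + 1) * (Fintype.card F * Fintype.card F)) * Fintype.card F ^ (2 * k) := by
    rw [← pow_two, ← pow_add, ← pow_add]; congr 1; ring
  rw [h3] at this
  exact Nat.eq_of_mul_eq_mul_right (pow_pos hq _) this

theorem odd_card_perp_zero (h2 : (2 : F) ≠ 0) {k j : ℕ}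
    {e f : Fin k → (Unit ⊕ (Fin (k + j + 1) ⊕ Fin (k + j + 1)) → F)}
    (h : HypQ (Cfsg.quadFormOdd (k + j + 1) F) (oddPolar (k + j + 1) F) k e f) :
    Nat.card {w : Unit ⊕ (Fin (k + j + 1) ⊕ Fin (k + j + 1)) → F //
      PerpQ (oddPolar (k + j + 1) F) e f w ∧ Cfsg.quadFormOdd (k + j + 1) F w = 0} =
      Fintype.card F ^ (2 * j + 2) := by
  have hq : 0 < Fintype.card F := Fintype.card_pos
  have h1 := card_q_eq (isQF_odd h2) h 0
  rw [odd_card_zero, odd_card_perp' h2 h] at h1
  apply odd_arith (Fintype.card F) k j _ hq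
  rw [h1]
  congr 1
  rw [← pow_two, ← pow_add]

/-- the number of hyperbolic `k`-systems for the odd form -/
theorem odd_card_hypQ (h2 : (2 : F) ≠ 0) (m : ℕ) : ∀ k, k ≤ m →
    Nat.card {p : (Fin k → (Unit ⊕ (Fin m ⊕ Fin m) → F)) × (Fin k → (Unit ⊕ (Fin m ⊕ Fin m) → F)) //
        HypQ (Cfsg.quadFormOdd m F) (oddPolar m F) k p.1 p.2} =
      ∏ i ∈ range k, ((Fintype.card F ^ (2 * (m - i)) - 1) * Fintype.card F ^ (2 * (m - i) - 1))
  | 0, _ => by
      rw [Finset.prod_range_zero]
      exact card_hypQ_zero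
  | k + 1, hk => by
      have ih := odd_card_hypQ h2 m k (by omega)
      obtain ⟨j, rfl⟩ : ∃ j, m = k + j + 1 := ⟨m - k - 1, by omega⟩
      rw [card_hypQ_succ (isQF_odd h2) k (Fintype.card F ^ (2 * j + 2)) (Fintype.card F ^ (2 * j + 1))
        (fun e f h => odd_card_perp_zero h2 h) (fun e f h => odd_card_perp' h2 h),
        ih, Finset.prod_range_succ]
      congr 2
      · congr 2
        omega
      · congr 1
        omega

/-- norm one vectors perpendicular to a full system -/
theorem odd_card_perp_one (h2 : (2 : F) ≠ 0) {m : ℕ}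
    {e f : Fin m → (Unit ⊕ (Fin m ⊕ Fin m) → F)}
    (h : HypQ (Cfsg.quadFormOdd m F) (oddPolar m F) m e f) :
    Nat.card {w : Unit ⊕ (Fin m ⊕ Fin m) → F //
      PerpQ (oddPolar m F) e f w ∧ Cfsg.quadFormOdd m F w = 1} = 2 := by
  have hq : 0 < Fintype.card F := Fintype.card_pos
  have h1 := card_q_eq (isQF_odd h2) h 1
  have hW : Nat.card {w : Unit ⊕ (Fin m ⊕ Fin m) → F // PerpQ (oddPolar m F) e f w} =
      Fintype.card F := by
    have := odd_card_perp h2 h
    rw [pow_succ, mul_comm (Fintype.card F ^ (2 * m))] at this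
    exact Nat.eq_of_mul_eq_mul_right (pow_pos hq _) this
  rw [odd_card_one h2, hW] at h1
  set q := Fintype.card F
  set N := Nat.card {w : Unit ⊕ (Fin m ⊕ Fin m) → F //
      PerpQ (oddPolar m F) e f w ∧ Cfsg.quadFormOdd m F w = 1}
  rcases Nat.eq_zero_or_pos m with rfl | hm
  · simp at h1
    omega
  · obtain ⟨n, rfl⟩ : ∃ n, m = n + 1 := ⟨m - 1, by omega⟩
    have hp : 1 ≤ q ^ (n + 1) := Nat.one_le_pow _ _ hq
    simp only [Nat.add_sub_cancel] at h1
    have hqz : (q : ℤ) ≠ 0 := by exact_mod_cast hq.ne'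
    zify [hp] at h1 ⊢
    have h3 : (N : ℤ) * (q : ℤ) ^ (n + 1) = 2 * (q : ℤ) ^ (n + 1) := by
      have : (N : ℤ) * (q : ℤ) ^ (n + 1) = (q : ℤ) ^ (2 * (n + 1)) + (q : ℤ) ^ (n + 1) -
          (q : ℤ) * (((q : ℤ) ^ (n + 1) - 1) * (q : ℤ) ^ n) := by
        linear_combination -h1
      rw [this]
      ring
    exact mul_right_cancel₀ (pow_ne_zero _ hqz) h3

end oddcount

section oddiso

variable {F : Type*} [Field F] {m : ℕ}

theorem odd_std_hypQ : HypQ (Cfsg.quadFormOdd m F) (oddPolar m F) m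
    (fun i => Pi.single (Sum.inr (Sum.inl i)) 1) (fun i => Pi.single (Sum.inr (Sum.inr i)) 1) where
  qe i := by
    unfold Cfsg.quadFormOdd
    rw [Finset.sum_eq_zero]
    · simp [Pi.single_apply]
    · intro l _
      simp [Pi.single_apply]
  qf i := by
    unfold Cfsg.quadFormOdd
    rw [Finset.sum_eq_zero]
    · simp [Pi.single_apply]
    · intro l _
      simp [Pi.single_apply]
  ee i j := by
    unfold oddPolar
    rw [Finset.sum_eq_zero]
    · simp [Pi.single_apply]
    · intro l _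
      simp [Pi.single_apply]
  ff i j := by
    unfold oddPolar
    rw [Finset.sum_eq_zero]
    · simp [Pi.single_apply]
    · intro l _
      simp [Pi.single_apply]
  ef i j := by
    unfold oddPolar
    simp [Pi.single_apply, Finset.sum_ite_eq]
    by_cases hij : i = j
    · subst hij; simp
    · simp [hij]
      intro h; exact absurd h.symm hij

theorem odd_std_perp : PerpQ (oddPolar m F)
    (fun i : Fin m => (Pi.single (Sum.inr (Sum.inl i)) 1 : Unit ⊕ (Fin m ⊕ Fin m) → F))
    (fun i => Pi.single (Sum.inr (Sum.inr i)) 1) (Pi.single (Sum.inl ()) 1) := by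
  intro i
  constructor
  · unfold oddPolar
    rw [Finset.sum_eq_zero]
    · simp [Pi.single_apply]
    · intro l _
      simp [Pi.single_apply]
  · unfold oddPolar
    rw [Finset.sum_eq_zero]
    · simp [Pi.single_apply]
    · intro l _
      simp [Pi.single_apply]

theorem odd_std_q : Cfsg.quadFormOdd m F (Pi.single (Sum.inl ()) 1) = 1 := by
  unfold Cfsg.quadFormOdd
  rw [Finset.sum_eq_zero]
  · simp
  · intro l _
    simp [Pi.single_apply]

theorem card_isometry_odd_eq [Fintype F] (h2 : (2 : F) ≠ 0) :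
    Nat.card (Cfsg.isometryGroup F (Cfsg.quadFormOdd m F)) =
      Nat.card {x : ((Fin m → (Unit ⊕ (Fin m ⊕ Fin m) → F)) ×
          (Fin m → (Unit ⊕ (Fin m ⊕ Fin m) → F))) × (Unit ⊕ (Fin m ⊕ Fin m) → F) //
        HypQ (Cfsg.quadFormOdd m F) (oddPolar m F) m x.1.1 x.1.2 ∧
          PerpQ (oddPolar m F) x.1.1 x.1.2 x.2 ∧ Cfsg.quadFormOdd m F x.2 = 1} := by
  classical
  have hQ := isQF_odd (F := F) (m := m) h2
  apply Nat.card_congr
  refine Equiv.ofBijective (fun g => ⟨((fun i r =>
      ((g.1 : Matrix.GeneralLinearGroup (Unit ⊕ (Fin m ⊕ Fin m)) F) :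
        Matrix (Unit ⊕ (Fin m ⊕ Fin m)) (Unit ⊕ (Fin m ⊕ Fin m)) F) r (Sum.inr (Sum.inl i)),
    fun i r => ((g.1 : Matrix.GeneralLinearGroup (Unit ⊕ (Fin m ⊕ Fin m)) F) :
      Matrix (Unit ⊕ (Fin m ⊕ Fin m)) (Unit ⊕ (Fin m ⊕ Fin m)) F) r (Sum.inr (Sum.inr i))),
    fun r => ((g.1 : Matrix.GeneralLinearGroup (Unit ⊕ (Fin m ⊕ Fin m)) F) :
      Matrix (Unit ⊕ (Fin m ⊕ Fin m)) (Unit ⊕ (Fin m ⊕ Fin m)) F) r (Sum.inl ())), ?_⟩) ⟨?_, ?_⟩
  · have hg := (mem_isometryGroup_iff _ g.1).mp g.2
    set M := ((g.1 : Matrix.GeneralLinearGroup (Unit ⊕ (Fin m ⊕ Fin m)) F) :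
      Matrix (Unit ⊕ (Fin m ⊕ Fin m)) (Unit ⊕ (Fin m ⊕ Fin m)) F) with hM
    have hB := polar_mulVec_of_preserves hQ M hg
    have hcol : ∀ c, (fun r => M r c) = M.mulVec (Pi.single c 1) := by
      intro c
      rw [Matrix.mulVec_single_one]; rfl
    have hstd := odd_std_hypQ (F := F) (m := m)
    have hperp := odd_std_perp (F := F) (m := m)
    refine ⟨⟨fun i => ?_, fun i => ?_, fun i j => ?_, fun i j => ?_, fun i j => ?_⟩,
      fun i => ⟨?_, ?_⟩, ?_⟩
    · show Cfsg.quadFormOdd m F (fun r => M r (Sum.inr (Sum.inl i))) = 0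
      rw [hcol, hg]; exact hstd.qe i
    · show Cfsg.quadFormOdd m F (fun r => M r (Sum.inr (Sum.inr i))) = 0
      rw [hcol, hg]; exact hstd.qf i
    · show oddPolar m F (fun r => M r (Sum.inr (Sum.inl i))) (fun r => M r (Sum.inr (Sum.inl j))) = 0
      rw [hcol, hcol, hB]; exact hstd.ee i j
    · show oddPolar m F (fun r => M r (Sum.inr (Sum.inr i))) (fun r => M r (Sum.inr (Sum.inr j))) = 0
      rw [hcol, hcol, hB]; exact hstd.ff i j
    · show oddPolar m F (fun r => M r (Sum.inr (Sum.inl i))) (fun r => M r (Sum.inr (Sum.inr j))) = _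
      rw [hcol, hcol, hB]; exact hstd.ef i j
    · show oddPolar m F (fun r => M r (Sum.inl ())) (fun r => M r (Sum.inr (Sum.inl i))) = 0
      rw [hcol, hcol, hB]; exact (hperp i).1
    · show oddPolar m F (fun r => M r (Sum.inl ())) (fun r => M r (Sum.inr (Sum.inr i))) = 0
      rw [hcol, hcol, hB]; exact (hperp i).2
    · show Cfsg.quadFormOdd m F (fun r => M r (Sum.inl ())) = 1
      rw [hcol, hg]; exact odd_std_q
  · intro g g' h
    apply Subtype.ext
    apply Units.ext
    ext r c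
    have h1 := congrArg Subtype.val h
    simp only [Prod.mk.injEq] at h1
    rcases c with c | i | i
    · exact congrFun h1.2 r
    · exact congrFun (congrFun h1.1.1 i) r
    · exact congrFun (congrFun h1.1.2 i) r
  · rintro ⟨⟨⟨e, f⟩, d⟩, hs, hd, hqd⟩
    simp only at hs hd hqd
    let A : Matrix (Unit ⊕ (Fin m ⊕ Fin m)) (Unit ⊕ (Fin m ⊕ Fin m)) F :=
      Matrix.of (fun r c => Sum.elim (fun _ => d r)
        (Sum.elim (fun i => e i r) (fun i => f i r)) c)
    have hAu : ∀ u, A.mulVec u = u (Sum.inl ()) • d +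
        qcomb e f (fun i => u (Sum.inr (Sum.inl i))) (fun i => u (Sum.inr (Sum.inr i))) := by
      intro u
      funext r
      unfold qcomb
      simp only [Matrix.mulVec, dotProduct, Fintype.sum_sum_type, A, Matrix.of_apply, Sum.elim_inl,
        Sum.elim_inr, Finset.sum_apply, Pi.add_apply, Pi.smul_apply, smul_eq_mul,
        Finset.sum_add_distrib, Finset.univ_unique, Finset.sum_singleton]
      rw [mul_comm (d r)]
      congr 1
      congr 1 <;> exact Finset.sum_congr rfl (fun i _ => mul_comm _ _)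
    have hperp_smul : ∀ t : F, PerpQ (oddPolar m F) e f (t • d) := by
      intro t i
      exact ⟨by rw [hQ.b_smul, (hd i).1, mul_zero], by rw [hQ.b_smul, (hd i).2, mul_zero]⟩
    have hAQ : ∀ u, Cfsg.quadFormOdd m F (A.mulVec u) = Cfsg.quadFormOdd m F u := by
      intro u
      rw [hAu, q_add_qcomb hQ hs _ (hperp_smul _), hQ.q_smul, hqd]
      unfold Cfsg.quadFormOdd
      ring
    have hinj : Function.Injective A.mulVec := by
      intro u u' huu
      rw [hAu, hAu] at huu
      funext c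
      rcases c with c | i | i
      · have := congrArg (fun x => oddPolar m F x d) huu
        simp only [hQ.b_add, hQ.b_smul, b_qcomb_perp hQ _ _ d hd, hQ.b_self, hqd] at this
        have h3 : (2 : F) * u (Sum.inl ()) = 2 * u' (Sum.inl ()) := by linear_combination this
        exact mul_left_cancel₀ h2 h3
      · have := congrArg (fun x => oddPolar m F x (f i)) huu
        simp only [hQ.b_add, hQ.b_smul, (hd i).2, b_qcomb_f hQ hs, mul_zero, zero_add] at this
        exact this
      · have := congrArg (fun x => oddPolar m F x (e i)) huu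
        simp only [hQ.b_add, hQ.b_smul, (hd i).1, b_qcomb_e hQ hs, mul_zero, zero_add] at this
        exact this
    have hunit : IsUnit A := Matrix.mulVec_injective_iff_isUnit.mp hinj
    have hdet : A.det ≠ 0 := ((Matrix.isUnit_iff_isUnit_det A).mp hunit).ne_zero
    refine ⟨⟨Matrix.GeneralLinearGroup.mkOfDetNeZero A hdet, ?_⟩, rfl⟩
    rw [mem_isometryGroup_iff]
    exact hAQ

/-- The order of `GO_{2m+1}(q)`, `q` odd. -/
theorem card_isometry_odd [Fintype F] (h2 : (2 : F) ≠ 0) (m : ℕ) :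
    Nat.card (Cfsg.isometryGroup F (Cfsg.quadFormOdd m F)) =
      2 * Fintype.card F ^ (m ^ 2) *
        ∏ i ∈ Finset.range m, (Fintype.card F ^ (2 * (i + 1)) - 1) := by
  classical
  rw [card_isometry_odd_eq h2]
  rw [Nat.card_eq_fintype_card, Fintype.card_subtype, Finset.card_filter, Fintype.sum_prod_type]
  have h1 : ∀ t : (Fin m → (Unit ⊕ (Fin m ⊕ Fin m) → F)) × (Fin m → (Unit ⊕ (Fin m ⊕ Fin m) → F)),
      (∑ y : Unit ⊕ (Fin m ⊕ Fin m) → F,
        if (HypQ (Cfsg.quadFormOdd m F) (oddPolar m F) m t.1 t.2 ∧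
          PerpQ (oddPolar m F) t.1 t.2 y ∧ Cfsg.quadFormOdd m F y = 1) then 1 else 0) =
      if HypQ (Cfsg.quadFormOdd m F) (oddPolar m F) m t.1 t.2 then 2 else 0 := by
    intro t
    by_cases ht : HypQ (Cfsg.quadFormOdd m F) (oddPolar m F) m t.1 t.2
    · rw [if_pos ht]
      simp only [ht, true_and]
      rw [← Finset.card_filter, ← Fintype.card_subtype, ← Nat.card_eq_fintype_card,
        odd_card_perp_one h2 ht]
    · rw [if_neg ht]
      simp only [ht, false_and, if_false, Finset.sum_const_zero]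
  simp only []
  rw [Finset.sum_congr rfl (fun t _ => h1 t), ← Finset.sum_filter, Finset.sum_const, smul_eq_mul,
    ← Fintype.card_subtype, ← Nat.card_eq_fintype_card, odd_card_hypQ h2 m m le_rfl]
  set q := Fintype.card F with hq
  have h3 : ∏ i ∈ range m, ((q ^ (2 * (m - i)) - 1) * q ^ (2 * (m - i) - 1)) =
      ∏ i ∈ range m, ((q ^ (2 * (i + 1)) - 1) * q ^ (2 * i + 1)) := by
    rw [← Finset.prod_range_reflect (fun i => (q ^ (2 * (i + 1)) - 1) * q ^ (2 * i + 1)) m]
    apply Finset.prod_congr rfl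
    intro i hi
    rw [mem_range] at hi
    have e1 : m - i = m - 1 - i + 1 := by omega
    have e2 : 2 * (m - i) - 1 = 2 * (m - 1 - i) + 1 := by omega
    rw [e2, e1]
  have h4 : ∀ n : ℕ, ∑ i ∈ range n, (2 * i + 1) = n ^ 2 := by
    intro n
    induction n with
    | zero => simp
    | succ n ih => rw [Finset.sum_range_succ, ih]; ring
  rw [h3, Finset.prod_mul_distrib, Finset.prod_pow_eq_pow_sum, h4]
  ring

end oddiso

end odd

end Cfsg.Agent.Lib.Helper14
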