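import Mathlib
import Cfsg.Agent.Lib.Helper3.Dihedral

set_option autoImplicit false

namespace Cfsg.Agent.Lib.Helper14

/-- Recognition of dihedral groups: a finite group of order `2n` containing `r` of order `n`
and an involution `s ∉ ⟨r⟩` inverting `r` is dihedral. -/
theorem nonempty_mulEquiv_dihedral {G : Type*} [Group G] [Finite G] (n : ℕ)
    (hcard : Nat.card G = 2 * n) (r s : G) (hr : r ^ n = 1) (hs : s * s = 1)
    (hsr : s * r * s = r⁻¹) (hord : orderOf r = n) (hs' : s ∉ Subgroup.zpowers r) :
    Nonempty (G ≃* DihedralGroup n) := by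
  have hinj := Cfsg.Agent.Lib.Helper3.dihLift_injective r s hr hs hsr hord hs'
  have hbij : Function.Bijective (Cfsg.Agent.Lib.Helper3.dihLift r s hr hs hsr) := by
    apply Function.Injective.bijective_of_nat_card_le hinj
    rw [hcard, DihedralGroup.nat_card]
  exact ⟨(MulEquiv.ofBijective _ hbij).symm⟩

end Cfsg.Agent.Lib.Helper14
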