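import Mathlib

set_option autoImplicit false

/-! A group of order `p ^ a * Q` (`a ≤ 2`, `p ∤ Q`, the only divisors of `Q` congruent to `1`
modulo `p` being `1` and `Q`) has a proper nontrivial characteristic subgroup: a normal Sylow
`p`-subgroup, or a normal `p`-complement (by Burnside's transfer theorem). -/

namespace Cfsg.Agent.Lib.Helper14.CharSub

open Subgroup

variable {N : Type*} [Group N]

/-- a normal subgroup of order coprime to its index consists of the elements of order dividing
its order -/
theorem mem_iff_pow_of_coprime [Finite N] (K : Subgroup N) [K.Normal]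
    (hcop : Nat.Coprime (Nat.card K) K.index) (x : N) : x ∈ K ↔ x ^ Nat.card K = 1 := by
  constructor
  · intro hx
    have h := pow_card_eq_one' (G := K) (x := ⟨x, hx⟩)
    exact congrArg Subtype.val h
  · intro hx
    rw [← QuotientGroup.eq_one_iff]
    have h1 : (QuotientGroup.mk x : N ⧸ K) ^ Nat.card K = 1 := by
      rw [← QuotientGroup.mk_pow, hx, QuotientGroup.mk_one]
    have h2 : (QuotientGroup.mk x : N ⧸ K) ^ K.index = 1 := by
      rw [Subgroup.index_eq_card]
      exact pow_card_eq_one'
    have h3 := orderOf_dvd_of_pow_eq_one h1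
    have h4 := orderOf_dvd_of_pow_eq_one h2
    have h5 : orderOf (QuotientGroup.mk x : N ⧸ K) = 1 :=
      Nat.eq_one_of_dvd_coprimes hcop h3 h4
    exact orderOf_eq_one_iff.mp h5

/-- a normal subgroup of order coprime to its index is characteristic -/
theorem characteristic_of_coprime [Finite N] (K : Subgroup N) [K.Normal]
    (hcop : Nat.Coprime (Nat.card K) K.index) : K.Characteristic := by
  rw [characteristic_iff_comap_le]
  intro φ x hx
  rw [mem_comap, mem_iff_pow_of_coprime K hcop] at hx
  rw [mem_iff_pow_of_coprime K hcop]
  have : φ.toMonoidHom (x ^ Nat.card K) = 1 := by rw [map_pow]; exact hx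
  have h1 : φ (x ^ Nat.card K) = φ 1 := by rw [map_one]; exact this
  exact φ.injective h1

theorem exists_char_of_card [Finite N] (p a Q : ℕ) [hp : Fact p.Prime]
    (hcard : Nat.card N = p ^ a * Q) (ha : 1 ≤ a ∧ a ≤ 2) (hcop : Nat.Coprime p Q) (hQ : 1 < Q)
    (hdiv : ∀ d, d ∣ Q → d % p = 1 → d = 1 ∨ d = Q) :
    ∃ K : Subgroup N, K.Characteristic ∧ K ≠ ⊥ ∧ K ≠ ⊤ := by
  classical
  have hp2 : 2 ≤ p := hp.out.two_le
  have hpa : 1 < p ^ a := Nat.one_lt_pow (by omega) hp.out.one_lt
  obtain ⟨S⟩ : Nonempty (Sylow p N) := Sylow.nonempty
  have hndvd : ¬ p ∣ Q := fun h => by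
    have := Nat.Coprime.eq_one_of_dvd hcop h
    omega
  have hScard : Nat.card S = p ^ a := by
    rw [Sylow.card_eq_multiplicity, hcard, Nat.factorization_mul (by positivity) (by omega),
      Nat.Prime.factorization_pow hp.out]
    simp [Nat.factorization_eq_zero_of_not_dvd hndvd]
  have hSidx : (S : Subgroup N).index = Q := by
    have h := (S : Subgroup N).card_mul_index
    rw [hcard] at h
    have h' : Nat.card (S : Subgroup N) = p ^ a := hScard
    rw [h'] at h
    exact Nat.eq_of_mul_eq_mul_left (by positivity) h
  have hNlt : p ^ a < Nat.card N := by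
    rw [hcard]; nlinarith
  have hQlt : Q < Nat.card N := by
    rw [hcard]; nlinarith
  have hn1 := card_sylow_modEq_one p N
  have hn2 := Sylow.card_dvd_index S
  rw [hSidx] at hn2
  have hn3 : Nat.card (Sylow p N) % p = 1 := by
    have : Nat.card (Sylow p N) % p = 1 % p := hn1
    rwa [Nat.mod_eq_of_lt (by omega : 1 < p)] at this
  rcases hdiv _ hn2 hn3 with h1 | hQ'
  · -- the Sylow subgroup is normal
    have : Subsingleton (Sylow p N) := (Nat.card_eq_one_iff_unique.mp h1).1
    refine ⟨S, Sylow.characteristic_of_subsingleton S, ?_, ?_⟩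
    · intro h
      have hc : Nat.card (S : Subgroup N) = p ^ a := hScard
      rw [h, Subgroup.card_bot] at hc
      omega
    · intro h
      have hc : Nat.card (S : Subgroup N) = p ^ a := hScard
      rw [h, Subgroup.card_top] at hc
      omega
  · -- the normaliser of the Sylow subgroup is the Sylow subgroup itself
    have hnidx : (normalizer ((S : Subgroup N) : Set N)).index = Q := by
      have h := Sylow.card_eq_index_normalizer S
      rw [hQ'] at h
      exact h.symm
    have hncard : Nat.card (normalizer ((S : Subgroup N) : Set N)) = p ^ a := by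
      have h := (normalizer ((S : Subgroup N) : Set N)).card_mul_index
      rw [hnidx, hcard] at h
      exact Nat.eq_of_mul_eq_mul_right (by omega) h
    have hneq : normalizer ((S : Subgroup N) : Set N) = (S : Subgroup N) := by
      symm
      apply Subgroup.eq_of_le_of_card_ge le_normalizer
      rw [hncard]
      exact hScard.ge
    have hcomm : ∀ x y : S, x * y = y * x := by
      rcases ha with ⟨ha1, ha2⟩
      have ha' : a = 1 ∨ a = 2 := by omega
      rcases ha' with rfl | rfl
      · rw [pow_one] at hScard
        have hcyc : IsCyclic S := isCyclic_of_prime_card hScard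
        intro x y
        exact (IsCyclic.isMulCommutative (α := S)).is_comm.comm x y
      · exact (IsPGroup.isMulCommutative_of_card_eq_prime_sq hScard).is_comm.comm
    have hS : normalizer ((S : Subgroup N) : Set N) ≤ centralizer ((S : Subgroup N) : Set N) := by
      rw [hneq]
      intro x hx y hy
      have := hcomm ⟨y, hy⟩ ⟨x, hx⟩
      exact congrArg Subtype.val this
    set K : Subgroup N := (MonoidHom.transferSylow S hS).ker with hK
    have hcompl : IsComplement' K S := MonoidHom.ker_transferSylow_isComplement' S hS
    have hKcard : Nat.card K = Q := by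
      have h := hcompl.card_mul_card
      have h' : Nat.card (S : Subgroup N) = p ^ a := hScard
      rw [h', hcard, mul_comm] at h
      exact Nat.eq_of_mul_eq_mul_left (by positivity) h
    have hKidx : K.index = p ^ a := by
      have h := K.card_mul_index
      rw [hKcard, hcard, mul_comm] at h
      exact Nat.eq_of_mul_eq_mul_right (by omega) h
    have hKn : K.Normal := MonoidHom.normal_ker _
    refine ⟨K, characteristic_of_coprime K ?_, ?_, ?_⟩
    · rw [hKcard, hKidx]
      exact (Nat.Coprime.pow_left a hcop).symm
    · intro h
      rw [h, Subgroup.card_bot] at hKcard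
      omega
    · intro h
      rw [h, Subgroup.card_top] at hKcard
      omega

end Cfsg.Agent.Lib.Helper14.CharSub
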