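import Mathlib
import Cfsg.Prelude.Def_GeometricClasses
import Cfsg.Agent.Lib.Helper18.ReidxDefs

/-!
REINDEX / TRANSPORT block (sub-planner helper18), packet P9: the residual class and symplectic-type data are
transported along `e : ι ≃ κ`.  Self-contained (reproves the few P0/P4/P5/P7 facts it needs under `p9_` names).
-/

set_option autoImplicit false
set_option linter.unusedSectionVars false
set_option linter.unusedVariables false

namespace Cfsg.Agent.Lib.Helper14.ReidxLeaf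
open Matrix Cfsg Cfsg.Geo Cfsg.Agent.Lib.Helper18.Reidx
open scoped Kronecker

/-! ### generic transport along a group isomorphism -/

section generic
variable {G G' : Type*} [Group G] [Group G']

theorem p9_char_comap (φ : G ≃* G') {A : Subgroup G'} (hA : A.Characteristic) :
    (A.comap φ.toMonoidHom).Characteristic := by
  rw [Subgroup.characteristic_iff_comap_eq]
  intro ψ
  have h := (Subgroup.characteristic_iff_comap_eq.mp hA) ((φ.symm.trans ψ).trans φ)
  ext x
  have h2 : φ x ∈ A.comap ((φ.symm.trans ψ).trans φ).toMonoidHom ↔ φ x ∈ A := by rw [h]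
  simp only [Subgroup.mem_comap, MulEquiv.coe_toMonoidHom, MulEquiv.trans_apply,
    MulEquiv.symm_apply_apply] at h2 ⊢
  exact h2

/-- the pulled-back subgroup is isomorphic (as a type) to the subgroup -/
def p9_comapEquiv (φ : G ≃* G') (A : Subgroup G') : A.comap φ.toMonoidHom ≃* A where
  toFun x := ⟨φ x.1, x.2⟩
  invFun y := ⟨φ.symm y.1, by
    rw [Subgroup.mem_comap, MulEquiv.coe_toMonoidHom, MulEquiv.apply_symm_apply]; exact y.2⟩
  left_inv x := by ext; simp
  right_inv y := by ext; simp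
  map_mul' x y := by
    apply Subtype.ext
    change φ (x.1 * y.1) = φ x.1 * φ y.1
    rw [map_mul]

theorem p9_comm_comap (φ : G ≃* G') (A : Subgroup G') (hA : IsMulCommutative A) :
    IsMulCommutative (A.comap φ.toMonoidHom) := by
  refine ⟨⟨fun a b => ?_⟩⟩
  apply Subtype.ext
  apply φ.injective
  have ha : φ a.1 ∈ A := a.2
  have hb : φ b.1 ∈ A := b.2
  change φ (a.1 * b.1) = φ (b.1 * a.1)
  rw [map_mul, map_mul]
  exact setLike_mul_comm ha hb

end generic

variable {F : Type*} [Field F] {ι κ : Type} [Fintype ι] [DecidableEq ι] [Fintype κ] [DecidableEq κ]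

/-- the isomorphism `R ≃* rg e R` -/
def p9_rgEquiv (e : ι ≃ κ) (R : Subgroup (GL ι F)) : R ≃* rg e R := (glReindex e).subgroupMap R

@[simp] theorem p9_rgEquiv_coe (e : ι ≃ κ) (R : Subgroup (GL ι F)) (x : R) :
    ((p9_rgEquiv e R x : rg e R) : GL κ F) = glReindex e x.1 := rfl

theorem card_rg (e : ι ≃ κ) (R : Subgroup (GL ι F)) : Nat.card (rg e R) = Nat.card R :=
  (Nat.card_congr (p9_rgEquiv e R).toEquiv).symm

theorem card_center_rg (e : ι ≃ κ) (R : Subgroup (GL ι F)) :
    Nat.card (Subgroup.center (rg e R)) = Nat.card (Subgroup.center R) :=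
  (Nat.card_congr (Subgroup.centerCongr (p9_rgEquiv e R)).toEquiv).symm

theorem isSymplecticTypeGroup_rg (e : ι ≃ κ) {r : ℕ} {R : Subgroup (GL ι F)} (h : IsSymplecticTypeGroup r R) :
    IsSymplecticTypeGroup r (rg e R) := by
  refine ⟨h.prime, h.pGroup.of_equiv (p9_rgEquiv e R), ?_, ?_⟩
  · intro A hchar hcomm
    have hc := h.cyclic_of_characteristic (A.comap (p9_rgEquiv e R).toMonoidHom)
      (p9_char_comap _ hchar) (p9_comm_comap _ A hcomm)
    exact isCyclic_of_surjective (p9_comapEquiv (p9_rgEquiv e R) A) (p9_comapEquiv (p9_rgEquiv e R) A).surjective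
  · rw [← Monoid.exponent_eq_of_mulEquiv (p9_rgEquiv e R)]
    exact h.exponent_eq

theorem isOfMinusType_rg (e : ι ≃ κ) {k : ℕ} {R : Subgroup (GL ι F)} (h : IsOfMinusType k R) :
    IsOfMinusType k (rg e R) := by
  intro A hcomm hsq
  have h1 := h (A.comap (p9_rgEquiv e R).toMonoidHom) (p9_comm_comap _ A hcomm) (by
    intro x hx
    apply (p9_rgEquiv e R).injective
    rw [map_mul, map_one]
    exact hsq _ hx)
  rwa [Nat.card_congr (p9_comapEquiv (p9_rgEquiv e R) A).toEquiv] at h1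


/-! ### small facts on `rm`, `rv` (P0/P4/P5/P7 material, reproved here to keep the packet self-contained) -/

theorem p9_rm_symm (e : ι ≃ κ) (M : Matrix ι ι F) : rm e.symm (rm e M) = M := by
  ext i j; simp

theorem p9_rm_symm' (e : ι ≃ κ) (M : Matrix κ κ F) : rm e (rm e.symm M) = M := by
  ext i j; simp

theorem p9_rm_mul (e : ι ≃ κ) (M N : Matrix ι ι F) : rm e (M * N) = rm e M * rm e N := by
  ext k l
  simp only [Matrix.mul_apply, rm_apply]
  exact (Equiv.sum_comp e.symm fun i => M (e.symm k) i * N i (e.symm l)).symm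

theorem p9_rm_smul_one (e : ι ≃ κ) (c : F) : rm e (c • (1 : Matrix ι ι F)) = c • 1 := by
  ext k l
  simp only [rm_apply, Matrix.smul_apply, Matrix.one_apply, EmbeddingLike.apply_eq_iff_eq]

theorem p9_rm_eq_smul_one_iff (e : ι ≃ κ) (M : Matrix ι ι F) (c : F) :
    rm e M = c • 1 ↔ M = c • 1 := by
  constructor
  · intro h
    rw [← p9_rm_symm e M, h, p9_rm_smul_one]
  · intro h
    rw [h, p9_rm_smul_one]

theorem p9_mem_scalars_glReindex (e : ι ≃ κ) (g : GL ι F) :
    glReindex e g ∈ scalars κ F ↔ g ∈ scalars ι F := by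
  rw [mem_scalars_iff, mem_scalars_iff]
  constructor
  · rintro ⟨c, hc⟩
    rw [glReindex_val, p9_rm_eq_smul_one_iff] at hc
    exact ⟨c, hc⟩
  · rintro ⟨c, hc⟩
    refine ⟨c, ?_⟩
    rw [glReindex_val, p9_rm_eq_smul_one_iff]
    exact hc

theorem p9_matrixSet_rg (e : ι ≃ κ) (H : Subgroup (GL ι F)) : matrixSet (rg e H) = rm e '' matrixSet H := by
  ext M
  constructor
  · rintro ⟨g, hg, rfl⟩
    obtain ⟨h, hh, rfl⟩ := mem_rg.mp hg
    exact ⟨(h : Matrix ι ι F), ⟨h, hh, rfl⟩, (glReindex_val e h).symm⟩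
  · rintro ⟨_, ⟨h, hh, rfl⟩, rfl⟩
    exact ⟨glReindex e h, mem_rg.mpr ⟨h, hh, rfl⟩, glReindex_val e h⟩

theorem p9_actsIrreducibly (e : ι ≃ κ) {S : Set (Matrix ι ι F)} (h : ActsIrreducibly S) :
    ActsIrreducibly (rm e '' S) := by
  intro W hW
  have hinv : ∀ s ∈ S, (W.comap ((rv e : (ι → F) ≃ₗ[F] (κ → F)) : (ι → F) →ₗ[F] (κ → F))).map (Matrix.toLin' s)
      ≤ W.comap ((rv e : (ι → F) ≃ₗ[F] (κ → F)) : (ι → F) →ₗ[F] (κ → F)) := by
    intro s hs
    rintro _ ⟨v, hv, rfl⟩
    have hv : rv e v ∈ W := hv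
    rw [Submodule.mem_comap, Matrix.toLin'_apply]
    change rv e (s *ᵥ v) ∈ W
    rw [← rm_mulVec]
    apply hW (rm e s) ⟨s, hs, rfl⟩
    exact ⟨rv e v, hv, by rw [Matrix.toLin'_apply]⟩
  rcases h _ hinv with h0 | h1
  · left
    rw [eq_bot_iff]
    intro w hw
    have : (rv e).symm w ∈ W.comap ((rv e : (ι → F) ≃ₗ[F] (κ → F)) : (ι → F) →ₗ[F] (κ → F)) := by
      rw [Submodule.mem_comap]
      change rv e ((rv e).symm w) ∈ W
      rw [LinearEquiv.apply_symm_apply]; exact hw
    rw [h0, Submodule.mem_bot] at this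
    rw [Submodule.mem_bot]
    have h2 := congrArg (rv e) this
    rwa [LinearEquiv.apply_symm_apply, map_zero] at h2
  · right
    rw [eq_top_iff]
    intro w _
    have : (rv e).symm w ∈ W.comap ((rv e : (ι → F) ≃ₗ[F] (κ → F)) : (ι → F) →ₗ[F] (κ → F)) := by
      rw [h1]; exact Submodule.mem_top
    rw [Submodule.mem_comap] at this
    change rv e ((rv e).symm w) ∈ W at this
    rwa [LinearEquiv.apply_symm_apply] at this

theorem p9_actsAbsolutelyIrreducibly (e : ι ≃ κ) {S : Set (Matrix ι ι F)} (h : ActsAbsolutelyIrreducibly S) :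
    ActsAbsolutelyIrreducibly (rm e '' S) := by
  refine ⟨p9_actsIrreducibly e h.1, ?_⟩
  intro M hM
  have h2 : ∀ s ∈ S, rm e.symm M * s = s * rm e.symm M := by
    intro s hs
    have h3 := hM (rm e s) ⟨s, hs, rfl⟩
    have h4 := congrArg (rm e.symm) h3
    rwa [p9_rm_mul, p9_rm_mul, p9_rm_symm] at h4
  obtain ⟨c, hc⟩ := h.2 _ h2
  refine ⟨c, ?_⟩
  rw [← p9_rm_symm' e M, hc, p9_rm_smul_one]

theorem p9_realisableOver (e : ι ≃ κ) {F₀ : Subfield F} {S : Set (Matrix ι ι F)} (h : RealisableOver F₀ S) :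
    RealisableOver F₀ (rm e '' S) := by
  obtain ⟨B, hB⟩ := h
  refine ⟨glReindex e B, ?_⟩
  rintro _ ⟨s, hs, rfl⟩ k l
  rw [← map_inv, glReindex_val, glReindex_val, ← p9_rm_mul, ← p9_rm_mul, rm_apply]
  exact hB s hs _ _

theorem p9_image_symm (e : ι ≃ κ) (S : Set (Matrix ι ι F)) : rm e.symm '' (rm e '' S) = S := by
  rw [Set.image_image]
  simp only [p9_rm_symm, Set.image_id']

/-- pull a two-argument form on `F^κ` back to `F^ι` -/
def p9_pb (e : ι ≃ κ) (f : (κ → F) → (κ → F) → F) : (ι → F) → (ι → F) → F := fun u v => f (rv e u) (rv e v)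

theorem p9_pb_bilinear (e : ι ≃ κ) {f : (κ → F) → (κ → F) → F} (h : IsBilinearForm f) :
    IsBilinearForm (p9_pb e f) := by
  refine ⟨?_, ?_, ?_, ?_⟩
  · intro x y v; simp only [p9_pb, map_add]; exact h.add_left _ _ _
  · intro c x v; simp only [p9_pb, map_smul]; exact h.smul_left _ _ _
  · intro v x y; simp only [p9_pb, map_add]; exact h.add_right _ _ _
  · intro c v x; simp only [p9_pb, map_smul]; exact h.smul_right _ _ _

theorem p9_pb_nondegenerate (e : ι ≃ κ) {f : (κ → F) → (κ → F) → F} (h : IsNondegenerateForm f) :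
    IsNondegenerateForm (p9_pb e f) := by
  intro v hv
  have hv' : rv e v ≠ 0 := by
    intro h0
    apply hv
    have := congrArg (rv e).symm h0
    rwa [LinearEquiv.symm_apply_apply, map_zero] at this
  obtain ⟨⟨x, hx⟩, ⟨y, hy⟩⟩ := h _ hv'
  refine ⟨⟨(rv e).symm x, ?_⟩, ⟨(rv e).symm y, ?_⟩⟩
  · simp only [p9_pb, LinearEquiv.apply_symm_apply]; exact hx
  · simp only [p9_pb, LinearEquiv.apply_symm_apply]; exact hy

theorem p9_pb_unitary (e : ι ≃ κ) {σ : F ≃+* F} {f : (κ → F) → (κ → F) → F} (h : IsUnitaryForm σ f) :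
    IsUnitaryForm σ (p9_pb e f) := by
  refine ⟨h.ne_refl, h.involutive, ?_, ?_, ?_, p9_pb_nondegenerate e h.nondegenerate⟩
  · intro x y v; simp only [p9_pb, map_add]; exact h.add_left _ _ _
  · intro c x v; simp only [p9_pb, map_smul]; exact h.smul_left _ _ _
  · intro v w; exact h.herm _ _

theorem p9_pb_fixes (e : ι ≃ κ) {P : Subgroup (GL ι F)} {f : (κ → F) → (κ → F) → F}
    (h : FixesForm (matrixSet (rg e P)) f) : FixesForm (matrixSet P) (p9_pb e f) := by
  intro s hs u v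
  simp only [p9_pb]
  rw [← rm_mulVec, ← rm_mulVec]
  apply h
  rw [p9_matrixSet_rg]
  exact ⟨s, hs, rfl⟩

theorem p9_pbq_nondegenerate (e : ι ≃ κ) {Q : (κ → F) → F} (h : IsNondegenerateQuadraticForm Q) :
    IsNondegenerateQuadraticForm (fun v => Q (rv e v)) := by
  have hpol : QuadraticMap.polar (fun v => Q (rv e v)) = p9_pb e (QuadraticMap.polar Q) := by
    funext u v
    simp only [QuadraticMap.polar, p9_pb, map_add]
  refine ⟨?_, ?_, ?_⟩
  · intro c v
    simp only [map_smul]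
    exact h.smul _ _
  · rw [hpol]; exact p9_pb_bilinear e h.polar_bilinear
  · rw [hpol]; exact p9_pb_nondegenerate e h.nondegenerate

theorem p9_pbq_fixes (e : ι ≃ κ) {P : Subgroup (GL ι F)} {Q : (κ → F) → F}
    (h : FixesQuadForm (matrixSet (rg e P)) Q) : FixesQuadForm (matrixSet P) (fun v => Q (rv e v)) := by
  intro s hs v
  change Q (rv e (s *ᵥ v)) = Q (rv e v)
  rw [← rm_mulVec]
  apply h
  rw [p9_matrixSet_rg]
  exact ⟨s, hs, rfl⟩

/-! ### the quotient by the scalars -/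

theorem p9_map_scalars_subgroupOf (e : ι ≃ κ) (P : Subgroup (GL ι F)) :
    ((scalars ι F).subgroupOf P).map ((p9_rgEquiv e P : P ≃* rg e P) : P →* rg e P) =
      (scalars κ F).subgroupOf (rg e P) := by
  ext y
  rw [Subgroup.mem_map, Subgroup.mem_subgroupOf]
  constructor
  · rintro ⟨x, hx, rfl⟩
    rw [Subgroup.mem_subgroupOf] at hx
    change glReindex e x.1 ∈ scalars κ F
    rw [p9_mem_scalars_glReindex]; exact hx
  · intro hy
    refine ⟨(p9_rgEquiv e P).symm y, ?_, ?_⟩
    · rw [Subgroup.mem_subgroupOf, ← p9_mem_scalars_glReindex e]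
      have : glReindex e ((p9_rgEquiv e P).symm y).1 = y.1 := by
        rw [← p9_rgEquiv_coe, MulEquiv.apply_symm_apply]
      rw [this]; exact hy
    · exact MulEquiv.apply_symm_apply _ _

/-- the quotients by the scalars are isomorphic -/
noncomputable def p9_quotEquiv (e : ι ≃ κ) (P : Subgroup (GL ι F)) :
    (P ⧸ (scalars ι F).subgroupOf P) ≃* (rg e P ⧸ (scalars κ F).subgroupOf (rg e P)) :=
  QuotientGroup.congr _ _ (p9_rgEquiv e P) (p9_map_scalars_subgroupOf e P)

/-! ### P9 -/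

theorem isResidualCore_rg (e : ι ≃ κ) {H P : Subgroup (GL ι F)} (h : IsResidualCore H P) :
    IsResidualCore (rg e H) (rg e P) := by
  refine ⟨?_, ?_, ?_, ?_, ?_, ?_, ?_, ?_⟩
  · exact Subgroup.map_mono h.le
  · intro g hg x hx
    obtain ⟨g', hg', rfl⟩ := mem_rg.mp hg
    obtain ⟨x', hx', rfl⟩ := mem_rg.mp hx
    rw [← map_inv, ← map_mul, ← map_mul]
    exact mem_rg.mpr ⟨_, h.normal g' hg' x' hx', rfl⟩
  · have := Subgroup.map_commutator P P (glReindex (F := F) e).toMonoidHom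
    unfold rg
    rw [← this, h.perfect]
  · have := h.simple
    exact (p9_quotEquiv e P).symm.isSimpleGroup
  · intro hc
    apply h.nonabelian
    refine ⟨⟨fun a b => ?_⟩⟩
    apply (p9_quotEquiv e P).injective
    rw [map_mul, map_mul]
    exact hc.is_comm.comm _ _
  · intro g hg hcen
    obtain ⟨g', hg', rfl⟩ := mem_rg.mp hg
    rw [p9_mem_scalars_glReindex]
    apply h.centralizer_scalar g' hg'
    intro x hx
    have := hcen (glReindex e x) (mem_rg.mpr ⟨x, hx, rfl⟩)
    rw [← map_inv, ← map_inv, ← map_mul, ← map_mul, ← map_mul, p9_mem_scalars_glReindex] at this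
    exact this
  · rw [p9_matrixSet_rg]
    exact p9_actsAbsolutelyIrreducibly e h.absIrred
  · intro F₀ hF₀ hreal
    apply h.no_subfield F₀ hF₀
    have := p9_realisableOver e.symm hreal
    rwa [p9_matrixSet_rg, p9_image_symm] at this

theorem inOrthogonalResidualClass_rg (e : ι ≃ κ) {H : Subgroup (GL ι F)} (h : InOrthogonalResidualClass H) :
    InOrthogonalResidualClass (rg e H) := by
  obtain ⟨P, hcore, hU⟩ := h
  refine ⟨rg e P, isResidualCore_rg e hcore, ?_⟩
  rintro ⟨σ, f, hf, hfix⟩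
  exact hU ⟨σ, p9_pb e f, p9_pb_unitary e hf, p9_pb_fixes e hfix⟩

theorem inSymplecticResidualClass_rg (e : ι ≃ κ) {H : Subgroup (GL ι F)} (h : InSymplecticResidualClass H) :
    InSymplecticResidualClass (rg e H) := by
  obtain ⟨P, hcore, hQ, hU⟩ := h
  refine ⟨rg e P, isResidualCore_rg e hcore, ?_, ?_⟩
  · rintro ⟨Q, hQ', hfix⟩
    exact hQ ⟨fun v => Q (rv e v), p9_pbq_nondegenerate e hQ', p9_pbq_fixes e hfix⟩
  · rintro ⟨σ, f, hf, hfix⟩
    exact hU ⟨σ, p9_pb e f, p9_pb_unitary e hf, p9_pb_fixes e hfix⟩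

end Cfsg.Agent.Lib.Helper14.ReidxLeaf
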