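import Mathlib
import Cfsg.Prelude.Def_ClassicalGeometry
import Cfsg.Agent.Lib.Helper5.Symp
import Cfsg.Agent.Lib.Helper5.SympTrans
import Cfsg.Agent.Lib.Helper5.SympGen
import Cfsg.Agent.Lib.Helper5.SympGen2

set_option autoImplicit false

/-!
# Perfectness of the symplectic group

`Tr w c` is the symplectic transvection `x ↦ x + c f(x,w) w` as an element of
`Matrix.symplecticGroup (Fin m) F`.  We prove the conjugation formula, the scaling formula,
relations among transvections along pairwise orthogonal vectors, and deduce that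
`Sp_{2m}(F)` is perfect for `|F| ≥ 4`, for `m ≥ 3`, and for `m ≥ 2`, `|F| = 3`.
-/

namespace Cfsg.Agent.Lib.Helper14.SpPerfect

open Matrix Cfsg.Agent.Lib.Helper5

variable {F : Type*} [Field F] {m : ℕ}

/-- The symplectic transvection as an element of the symplectic group. -/
def Tr (w : Fin m ⊕ Fin m → F) (c : F) : Matrix.symplecticGroup (Fin m) F :=
  ⟨Cfsg.sympTransvection m w c, sympTransvection_mem m w c⟩

theorem Tr_mulVec (w x : Fin m ⊕ Fin m → F) (c : F) :
    ((Tr w c : Matrix.symplecticGroup (Fin m) F) :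
      Matrix (Fin m ⊕ Fin m) (Fin m ⊕ Fin m) F) *ᵥ x
      = x + (c * Cfsg.sympForm m F x w) • w :=
  sympTransvection_mulVec m w x c

theorem sp_ext {A B : Matrix.symplecticGroup (Fin m) F}
    (h : ∀ x : Fin m ⊕ Fin m → F,
      (A : Matrix (Fin m ⊕ Fin m) (Fin m ⊕ Fin m) F) *ᵥ x
        = (B : Matrix (Fin m ⊕ Fin m) (Fin m ⊕ Fin m) F) *ᵥ x) : A = B :=
  Subtype.ext (Matrix.ext_iff_mulVec.mpr h)

theorem coe_mul_mulVec (A B : Matrix.symplecticGroup (Fin m) F) (x : Fin m ⊕ Fin m → F) :
    ((A * B : Matrix.symplecticGroup (Fin m) F) :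
      Matrix (Fin m ⊕ Fin m) (Fin m ⊕ Fin m) F) *ᵥ x
      = (A : Matrix (Fin m ⊕ Fin m) (Fin m ⊕ Fin m) F) *ᵥ
        ((B : Matrix (Fin m ⊕ Fin m) (Fin m ⊕ Fin m) F) *ᵥ x) := by
  change ((A : Matrix (Fin m ⊕ Fin m) (Fin m ⊕ Fin m) F) *
      (B : Matrix (Fin m ⊕ Fin m) (Fin m ⊕ Fin m) F)) *ᵥ x = _
  rw [Matrix.mulVec_mulVec]

theorem coe_one_mulVec (x : Fin m ⊕ Fin m → F) :
    ((1 : Matrix.symplecticGroup (Fin m) F) :
      Matrix (Fin m ⊕ Fin m) (Fin m ⊕ Fin m) F) *ᵥ x = x := by
  change (1 : Matrix (Fin m ⊕ Fin m) (Fin m ⊕ Fin m) F) *ᵥ x = x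
  rw [Matrix.one_mulVec]

theorem Tr_mul (w : Fin m ⊕ Fin m → F) (c d : F) : Tr w c * Tr w d = Tr w (c + d) :=
  Subtype.ext (sympTransvection_mul m w c d)

theorem Tr_zero (w : Fin m ⊕ Fin m → F) : Tr w (0 : F) = 1 := by
  apply sp_ext
  intro x
  rw [Tr_mulVec, coe_one_mulVec, zero_mul, zero_smul, add_zero]

theorem Tr_zero_vec (c : F) : Tr (0 : Fin m ⊕ Fin m → F) c = 1 := by
  apply sp_ext
  intro x
  rw [Tr_mulVec, coe_one_mulVec, smul_zero, add_zero]

theorem Tr_neg (w : Fin m ⊕ Fin m → F) (c : F) : Tr w (-c) = (Tr w c)⁻¹ := by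
  rw [eq_inv_iff_mul_eq_one, Tr_mul, neg_add_cancel, Tr_zero]

/-- Conjugation formula: `g T_w(c) g⁻¹ = T_{g w}(c)`. -/
theorem conj_Tr (g : Matrix.symplecticGroup (Fin m) F) (w : Fin m ⊕ Fin m → F) (c : F) :
    g * Tr w c * g⁻¹
      = Tr ((g : Matrix (Fin m ⊕ Fin m) (Fin m ⊕ Fin m) F) *ᵥ w) c := by
  apply sp_ext
  intro x
  rw [coe_mul_mulVec, coe_mul_mulVec, Tr_mulVec, Tr_mulVec, Matrix.mulVec_add,
    coe_inv_mulVec_cancel, Matrix.mulVec_smul]
  congr 2
  rw [← sympForm_mulVec_of_mem g.2, coe_inv_mulVec_cancel]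

/-- Scaling formula: `T_{a w}(c) = T_w(a² c)`. -/
theorem Tr_smul (a : F) (w : Fin m ⊕ Fin m → F) (c : F) :
    Tr (a • w) c = Tr w (a ^ 2 * c) := by
  apply sp_ext
  intro x
  rw [Tr_mulVec, Tr_mulVec, sympForm_smul_right, smul_smul]
  congr 2
  ring

/-- Images of transvections along nonzero vectors in a commutative group agree. -/
theorem map_Tr_eq {A : Type*} [CommGroup A] (π : Matrix.symplecticGroup (Fin m) F →* A)
    (x y : Fin m ⊕ Fin m → F) (hx : x ≠ 0) (hy : y ≠ 0) (c : F) :
    π (Tr x c) = π (Tr y c) := by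
  obtain ⟨g, -, hg⟩ := transv_trans1 x y hx hy
  rw [← hg, ← conj_Tr, map_mul, map_mul, map_inv, mul_comm, ← mul_assoc, inv_mul_cancel, one_mul]

theorem map_Tr_neg {A : Type*} [CommGroup A] (π : Matrix.symplecticGroup (Fin m) F →* A)
    (x : Fin m ⊕ Fin m → F) (c : F) : π (Tr x (-c)) = (π (Tr x c))⁻¹ := by
  rw [Tr_neg, map_inv]

/-- A hom to a commutative group killing all transvections is trivial. -/
theorem hom_eq_one_of_Tr {A : Type*} [CommGroup A]
    (π : Matrix.symplecticGroup (Fin m) F →* A)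
    (h : ∀ (w : Fin m ⊕ Fin m → F) (c : F), π (Tr w c) = 1) (g) : π g = 1 := by
  have hg : g ∈ transvGroup m F := by rw [transvGroup_eq_top]; trivial
  have hle : transvGroup m F ≤ π.ker := by
    unfold transvGroup
    rw [Subgroup.closure_le]
    rintro B ⟨w, c, hB⟩
    have : B = Tr w c := Subtype.ext hB
    rw [this]
    exact h w c
  exact hle hg

/-- The symplectic group is perfect as soon as the abelianization map kills all
transvections along one fixed nonzero vector. -/
theorem commutator_eq_top_of (u : Fin m ⊕ Fin m → F) (hu : u ≠ 0)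
    (h : ∀ c : F, (Abelianization.of (Tr u c) :
      Abelianization (Matrix.symplecticGroup (Fin m) F)) = 1) :
    commutator (Matrix.symplecticGroup (Fin m) F) = ⊤ := by
  rw [eq_top_iff]
  intro g _
  rw [← Abelianization.ker_of]
  refine hom_eq_one_of_Tr Abelianization.of ?_ g
  intro w c
  by_cases hw : w = 0
  · rw [hw, Tr_zero_vec, map_one]
  · rw [map_Tr_eq _ w u hw hu]
    exact h c

/-! ### Case `|F| ≥ 4` -/

theorem exists_sq_ne_one [Fintype F] (hF : 4 ≤ Fintype.card F) : ∃ a : F, a ≠ 0 ∧ a ^ 2 ≠ 1 := by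
  classical
  by_contra hcon
  push Not at hcon
  have hsub : (Finset.univ : Finset F) ⊆ {0, 1, -1} := by
    intro a _
    by_cases ha : a = 0
    · simp [ha]
    · have h1 := hcon a ha
      have h2 : (a - 1) * (a + 1) = 0 := by ring_nf; rw [h1]; ring
      rcases mul_eq_zero.mp h2 with h3 | h3
      · have : a = 1 := by linear_combination h3
        simp [this]
      · have : a = -1 := by linear_combination h3
        simp [this]
  have hcard := Finset.card_le_card hsub
  have h3 : ({0, 1, -1} : Finset F).card ≤ 3 := Finset.card_le_three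
  rw [Finset.card_univ] at hcard
  omega

theorem commutator_eq_top_of_four_le [Fintype F] (hF : 4 ≤ Fintype.card F) :
    commutator (Matrix.symplecticGroup (Fin m) F) = ⊤ := by
  classical
  by_cases hm : m = 0
  · subst hm
    have : Subsingleton (Matrix.symplecticGroup (Fin 0) F) :=
      ⟨fun a b => Subtype.ext (Subsingleton.elim _ _)⟩
    exact Subsingleton.elim _ _
  obtain ⟨i⟩ : Nonempty (Fin m) := ⟨⟨0, Nat.pos_of_ne_zero hm⟩⟩
  obtain ⟨a, ha0, ha1⟩ := exists_sq_ne_one hF
  set u : Fin m ⊕ Fin m → F := Pi.single (Sum.inl i) 1 with hu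
  have hu0 : u ≠ 0 := by
    intro h
    have := congrFun h (Sum.inl i)
    simp [hu] at this
  refine commutator_eq_top_of u hu0 ?_
  intro c
  set π : Matrix.symplecticGroup (Fin m) F →* Abelianization (Matrix.symplecticGroup (Fin m) F) :=
    Abelianization.of with hπ
  have hne : a ^ 2 - 1 ≠ 0 := sub_ne_zero.mpr ha1
  set d := c / (a ^ 2 - 1) with hd
  have hc : c = a ^ 2 * d + (-d) := by
    rw [hd]; field_simp; ring
  have hau : a • u ≠ 0 := smul_ne_zero ha0 hu0
  rw [hc, ← Tr_mul, map_mul, ← Tr_smul, map_Tr_eq π (a • u) u hau hu0, map_Tr_neg,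
    mul_inv_cancel]

/-! ### Relations along pairwise orthogonal vectors -/

theorem Tr_mulVec_of_orth (w x y : Fin m ⊕ Fin m → F) (c : F)
    (h : Cfsg.sympForm m F w y = 0) :
    Cfsg.sympForm m F
      (((Tr w c : Matrix.symplecticGroup (Fin m) F) :
        Matrix (Fin m ⊕ Fin m) (Fin m ⊕ Fin m) F) *ᵥ x) y = Cfsg.sympForm m F x y := by
  rw [Tr_mulVec, sympForm_add_left, sympForm_smul_left, h, mul_zero, add_zero]

theorem Tr_mulVec_add (y x S : Fin m ⊕ Fin m → F) (c : F)
    (hS : Cfsg.sympForm m F S y = 0) :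
    ((Tr y c : Matrix.symplecticGroup (Fin m) F) :
      Matrix (Fin m ⊕ Fin m) (Fin m ⊕ Fin m) F) *ᵥ (x + S)
      = x + (S + (c * Cfsg.sympForm m F x y) • y) := by
  rw [Tr_mulVec, sympForm_add_left, hS, add_zero, add_assoc]

/-- The seven-term relation among transvections along three pairwise orthogonal vectors. -/
theorem seven_term (u v w : Fin m ⊕ Fin m → F) (c : F)
    (huv : Cfsg.sympForm m F u v = 0) (huw : Cfsg.sympForm m F u w = 0)
    (hvw : Cfsg.sympForm m F v w = 0) :
    Tr (u + v + w) c * Tr (u + v) (-c) * Tr (u + w) (-c) * Tr (v + w) (-c)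
      * Tr u c * Tr v c * Tr w c = 1 := by
  have hvu : Cfsg.sympForm m F v u = 0 := by rw [sympForm_swap, huv, neg_zero]
  have hwu : Cfsg.sympForm m F w u = 0 := by rw [sympForm_swap, huw, neg_zero]
  have hwv : Cfsg.sympForm m F w v = 0 := by rw [sympForm_swap, hvw, neg_zero]
  apply sp_ext
  intro x
  simp only [coe_mul_mulVec, coe_one_mulVec]
  rw [Tr_mulVec w, Tr_mulVec_add v, Tr_mulVec_add u, Tr_mulVec_add (v + w),
    Tr_mulVec_add (u + w), Tr_mulVec_add (u + v), Tr_mulVec_add (u + v + w)]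
  · simp only [sympForm_add_right]
    have : ∀ a b d : F, (c * a) • w + (c * b) • v + (c * d) • u + (-c * (b + a)) • (v + w)
        + (-c * (d + a)) • (u + w) + (-c * (d + b)) • (u + v)
        + (c * (d + b + a)) • (u + v + w) = 0 := by
      intro a b d
      module
    rw [this, add_zero]
  all_goals
    simp only [sympForm_add_left, sympForm_add_right, sympForm_smul_left,
      sympForm_self, huv, huw, hvw, hvu, hwu, hwv, mul_zero, add_zero]

/-- The four-term relation in characteristic three. -/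
theorem four_term (h3 : (3 : F) = 0) (u v : Fin m ⊕ Fin m → F) (c : F)
    (huv : Cfsg.sympForm m F u v = 0) :
    Tr (u + v) c * Tr (u - v) c * Tr u c * Tr v c = 1 := by
  have hvu : Cfsg.sympForm m F v u = 0 := by rw [sympForm_swap, huv, neg_zero]
  apply sp_ext
  intro x
  simp only [coe_mul_mulVec, coe_one_mulVec]
  rw [Tr_mulVec v, Tr_mulVec_add u, Tr_mulVec_add (u - v), Tr_mulVec_add (u + v)]
  · simp only [sympForm_add_right, sympForm_sub_right]
    have : ∀ a b : F, (c * a) • v + (c * b) • u + (c * (b - a)) • (u - v)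
        + (c * (b + a)) • (u + v) = (3 * (c * a)) • v + (3 * (c * b)) • u := by
      intro a b
      module
    rw [this, h3, zero_mul, zero_mul, zero_smul, zero_smul, add_zero, add_zero]
  all_goals
    simp [sympForm_add_left, sympForm_add_right, sympForm_sub_right, sympForm_sub_left,
      sympForm_smul_left, sympForm_self, huv, hvu]

/-! ### Basis vectors -/

/-- The basis vector `e_i` of the first Lagrangian. -/
def eL (m : ℕ) (F : Type*) [Field F] (i : Fin m) : Fin m ⊕ Fin m → F :=
  Pi.single (Sum.inl i) 1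

theorem sympForm_eL_eL (i j : Fin m) : Cfsg.sympForm m F (eL m F i) (eL m F j) = 0 := by
  unfold eL
  rw [sympForm_single_inl]
  simp

theorem eL_apply_self (i : Fin m) : eL m F i (Sum.inl i) = 1 := by
  simp [eL]

theorem eL_apply_ne (i j : Fin m) (h : i ≠ j) : eL m F i (Sum.inl j) = 0 := by
  unfold eL
  rw [Pi.single_apply, if_neg]
  intro h'
  exact h (Sum.inl.inj h').symm

theorem commutator_eq_top_of_three_le (hm : 3 ≤ m) :
    commutator (Matrix.symplecticGroup (Fin m) F) = ⊤ := by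
  classical
  set i0 : Fin m := ⟨0, by omega⟩ with hi0
  set i1 : Fin m := ⟨1, by omega⟩ with hi1
  set i2 : Fin m := ⟨2, by omega⟩ with hi2
  have h01 : i0 ≠ i1 := by simp [hi0, hi1]
  have h02 : i0 ≠ i2 := by simp [hi0, hi2]
  have h12 : i1 ≠ i2 := by simp [hi1, hi2]
  set u := eL m F i0 with hu
  set v := eL m F i1 with hv
  set w := eL m F i2 with hw
  have hu0 : u ≠ 0 := by
    intro h
    have := congrFun h (Sum.inl i0)
    simp [hu, eL_apply_self] at this
  have hv0 : v ≠ 0 := by
    intro h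
    have := congrFun h (Sum.inl i1)
    simp [hv, eL_apply_self] at this
  have hw0 : w ≠ 0 := by
    intro h
    have := congrFun h (Sum.inl i2)
    simp [hw, eL_apply_self] at this
  have huv0 : u + v ≠ 0 := by
    intro h
    have := congrFun h (Sum.inl i0)
    simp [hu, hv, eL_apply_self, eL_apply_ne i1 i0 h01.symm] at this
  have huw0 : u + w ≠ 0 := by
    intro h
    have := congrFun h (Sum.inl i0)
    simp [hu, hw, eL_apply_self, eL_apply_ne i2 i0 h02.symm] at this
  have hvw0 : v + w ≠ 0 := by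
    intro h
    have := congrFun h (Sum.inl i1)
    simp [hv, hw, eL_apply_self, eL_apply_ne i2 i1 h12.symm] at this
  have huvw0 : u + v + w ≠ 0 := by
    intro h
    have := congrFun h (Sum.inl i0)
    simp [hu, hv, hw, eL_apply_self, eL_apply_ne i1 i0 h01.symm,
      eL_apply_ne i2 i0 h02.symm] at this
  refine commutator_eq_top_of u hu0 ?_
  intro c
  set π : Matrix.symplecticGroup (Fin m) F →* Abelianization (Matrix.symplecticGroup (Fin m) F) :=
    Abelianization.of with hπ
  have key := congrArg π (seven_term u v w c (sympForm_eL_eL i0 i1) (sympForm_eL_eL i0 i2)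
    (sympForm_eL_eL i1 i2))
  rw [map_mul, map_mul, map_mul, map_mul, map_mul, map_mul, map_one,
    map_Tr_eq π (u + v + w) u huvw0 hu0, map_Tr_eq π (u + v) u huv0 hu0,
    map_Tr_eq π (u + w) u huw0 hu0, map_Tr_eq π (v + w) u hvw0 hu0,
    map_Tr_eq π v u hv0 hu0, map_Tr_eq π w u hw0 hu0, map_Tr_neg] at key
  have : π (Tr u c) = π (Tr u c) * (π (Tr u c))⁻¹ * (π (Tr u c))⁻¹ * (π (Tr u c))⁻¹
      * π (Tr u c) * π (Tr u c) * π (Tr u c) := by group
  rw [this, key]

theorem commutator_eq_top_of_two_le_of_three [Fintype F] (hm : 2 ≤ m)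
    (hF : Fintype.card F = 3) :
    commutator (Matrix.symplecticGroup (Fin m) F) = ⊤ := by
  classical
  have h3 : (3 : F) = 0 := by
    have := FiniteField.cast_card_eq_zero F
    rw [hF] at this
    exact_mod_cast this
  set i0 : Fin m := ⟨0, by omega⟩ with hi0
  set i1 : Fin m := ⟨1, by omega⟩ with hi1
  have h01 : i0 ≠ i1 := by simp [hi0, hi1]
  set u := eL m F i0 with hu
  set v := eL m F i1 with hv
  have hu0 : u ≠ 0 := by
    intro h
    have := congrFun h (Sum.inl i0)
    simp [hu, eL_apply_self] at this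
  have hv0 : v ≠ 0 := by
    intro h
    have := congrFun h (Sum.inl i1)
    simp [hv, eL_apply_self] at this
  have huv0 : u + v ≠ 0 := by
    intro h
    have := congrFun h (Sum.inl i0)
    simp [hu, hv, eL_apply_self, eL_apply_ne i1 i0 h01.symm] at this
  have huv1 : u - v ≠ 0 := by
    intro h
    have := congrFun h (Sum.inl i0)
    simp [hu, hv, eL_apply_self, eL_apply_ne i1 i0 h01.symm] at this
  refine commutator_eq_top_of u hu0 ?_
  intro c
  set π : Matrix.symplecticGroup (Fin m) F →* Abelianization (Matrix.symplecticGroup (Fin m) F) :=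
    Abelianization.of with hπ
  have key := congrArg π (four_term h3 u v c (sympForm_eL_eL i0 i1))
  rw [map_mul, map_mul, map_mul, map_one,
    map_Tr_eq π (u + v) u huv0 hu0, map_Tr_eq π (u - v) u huv1 hu0,
    map_Tr_eq π v u hv0 hu0] at key
  have hcube : π (Tr u c) * π (Tr u c) * π (Tr u c) = 1 := by
    rw [← map_mul, ← map_mul, Tr_mul, Tr_mul]
    have : c + c + c = 3 * c := by ring
    rw [this, h3, zero_mul, Tr_zero, map_one]
  have : π (Tr u c) = (π (Tr u c) * π (Tr u c) * π (Tr u c) * π (Tr u c))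
      * (π (Tr u c) * π (Tr u c) * π (Tr u c))⁻¹ := by group
  rw [this, key, hcube, inv_one, mul_one]

/-- `Sp_{2m}(q)` is perfect except for `Sp_2(2)`, `Sp_2(3)`, `Sp_4(2)`. -/
theorem commutator_symplecticGroup_eq_top [Fintype F]
    (h : 3 ≤ m ∨ (m = 2 ∧ 3 ≤ Fintype.card F) ∨ 4 ≤ Fintype.card F) :
    commutator (Matrix.symplecticGroup (Fin m) F) = ⊤ := by
  rcases h with h | ⟨h1, h2⟩ | h
  · exact commutator_eq_top_of_three_le h
  · by_cases h4 : 4 ≤ Fintype.card F
    · exact commutator_eq_top_of_four_le h4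
    · exact commutator_eq_top_of_two_le_of_three (by omega) (by omega)
  · exact commutator_eq_top_of_four_le h

end Cfsg.Agent.Lib.Helper14.SpPerfect
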