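import Mathlib
import Cfsg.Prelude.Def_Classical
import Cfsg.Prelude.Def_ClassicalGeometry
import Cfsg.Agent.Lib.Helper5.SympPrim
import Cfsg.Agent.Lib.Helper14.SpPerfect

set_option autoImplicit false

/-!
# Simplicity of `PSp_{2m}(F)` via Iwasawa's criterion
-/

open scoped LinearAlgebra.Projectivization

namespace Cfsg.Agent.Lib.Helper14.PSpSimple

open Matrix Cfsg.Agent.Lib.Helper5 Cfsg.Agent.Lib.Helper14.SpPerfect

variable {F : Type*} [Field F] {m : ℕ}

theorem smul_vec_def (A : Matrix.symplecticGroup (Fin m) F) (v : Fin m ⊕ Fin m → F) :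
    A • v = (A : Matrix (Fin m ⊕ Fin m) (Fin m ⊕ Fin m) F) *ᵥ v := rfl

theorem mulVec_ne_zero (A : Matrix.symplecticGroup (Fin m) F) {v : Fin m ⊕ Fin m → F}
    (hv : v ≠ 0) : (A : Matrix (Fin m ⊕ Fin m) (Fin m ⊕ Fin m) F) *ᵥ v ≠ 0 :=
  (smul_ne_zero_iff_ne A).mpr hv

theorem smul_mk (A : Matrix.symplecticGroup (Fin m) F) (v : Fin m ⊕ Fin m → F)
    (hv : v ≠ 0) :
    A • Projectivization.mk F v hv
      = Projectivization.mk F ((A : Matrix (Fin m ⊕ Fin m) (Fin m ⊕ Fin m) F) *ᵥ v)
        (mulVec_ne_zero A hv) := rfl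

open scoped Pointwise in
/-- The symplectic group acts primitively on the points of projective space. -/
theorem isPreprimitive_sp :
    MulAction.IsPreprimitive (Matrix.symplecticGroup (Fin m) F) (ℙ F (Fin m ⊕ Fin m → F)) := by
  have htrans : MulAction.IsPretransitive (Matrix.symplecticGroup (Fin m) F)
      (ℙ F (Fin m ⊕ Fin m → F)) := by
    constructor
    intro p q
    induction p using Projectivization.ind with
    | h v hv =>
    induction q using Projectivization.ind with
    | h w hw =>
    obtain ⟨A, -, hA⟩ := transv_trans1 v w hv hw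
    refine ⟨A, ?_⟩
    rw [smul_mk]
    congr 1
  refine { toIsPretransitive := htrans, isTrivialBlock_of_isBlock := ?_ }
  intro B hB
  by_cases hsub : B.Subsingleton
  · exact Or.inl hsub
  · right
    rw [Set.not_subsingleton_iff] at hsub
    obtain ⟨p, hp, q, hq, hpq⟩ := hsub
    induction p using Projectivization.ind with
    | h v hv =>
    induction q using Projectivization.ind with
    | h w hw =>
    let P : (Fin m ⊕ Fin m → F) → Prop := fun x => ∃ hx : x ≠ 0, Projectivization.mk F x hx ∈ B
    have hscale : ∀ (v : Fin m ⊕ Fin m → F) (c : F), c ≠ 0 → P v → P (c • v) := by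
      rintro v c hc ⟨hv, hvB⟩
      refine ⟨smul_ne_zero hc hv, ?_⟩
      have : Projectivization.mk F (c • v) (smul_ne_zero hc hv) = Projectivization.mk F v hv := by
        rw [Projectivization.mk_eq_mk_iff']
        exact ⟨c, rfl⟩
      rw [this]
      exact hvB
    have hfix : ∀ (A : Matrix.symplecticGroup (Fin m) F) (v w : Fin m ⊕ Fin m → F),
        (A : Matrix (Fin m ⊕ Fin m) (Fin m ⊕ Fin m) F) *ᵥ v = v → P v → P w →
          P ((A : Matrix (Fin m ⊕ Fin m) (Fin m ⊕ Fin m) F) *ᵥ w) := by
      rintro A v w hAv ⟨hv, hvB⟩ ⟨hw, hwB⟩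
      have h1 : A • Projectivization.mk F v hv ∈ B := by
        rw [smul_mk]
        have : Projectivization.mk F ((A : Matrix (Fin m ⊕ Fin m) (Fin m ⊕ Fin m) F) *ᵥ v)
            (mulVec_ne_zero A hv) = Projectivization.mk F v hv := by
          congr 1
        rw [this]
        exact hvB
      have h2 : A • B = B := hB.smul_eq_of_mem hvB h1
      have h3 : A • Projectivization.mk F w hw ∈ A • B := Set.smul_mem_smul_set hwB
      rw [h2, smul_mk] at h3
      exact ⟨mulVec_ne_zero A hw, h3⟩
    have hind : ∀ c : F, w ≠ c • v := by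
      intro c hc
      apply hpq.symm
      rw [Projectivization.mk_eq_mk_iff']
      exact ⟨c, hc.symm⟩
    have hall := symp_block_all P hscale hfix v w ⟨hv, hp⟩ ⟨hw, hq⟩ hv hw hind
    rw [Set.eq_univ_iff_forall]
    intro r
    induction r using Projectivization.ind with
    | h x hx =>
    obtain ⟨_, hxB⟩ := hall x hx
    exact hxB

/-! ### Root subgroups and the Iwasawa structure -/

/-- The root subgroup of transvections along `w`. -/
def rootSubgroup (w : Fin m ⊕ Fin m → F) : Subgroup (Matrix.symplecticGroup (Fin m) F) where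
  carrier := {A | ∃ c : F, A = Tr w c}
  mul_mem' := by
    rintro _ _ ⟨c, rfl⟩ ⟨d, rfl⟩
    exact ⟨c + d, Tr_mul w c d⟩
  one_mem' := ⟨0, (Tr_zero w).symm⟩
  inv_mem' := by
    rintro _ ⟨c, rfl⟩
    exact ⟨-c, (Tr_neg w c).symm⟩

theorem mem_rootSubgroup (w : Fin m ⊕ Fin m → F) (A : Matrix.symplecticGroup (Fin m) F) :
    A ∈ rootSubgroup w ↔ ∃ c : F, A = Tr w c := Iff.rfl

theorem rootSubgroup_smul (a : F) (ha : a ≠ 0) (w : Fin m ⊕ Fin m → F) :
    rootSubgroup (a • w) = rootSubgroup w := by
  ext A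
  constructor
  · rintro ⟨c, rfl⟩
    exact ⟨a ^ 2 * c, Tr_smul a w c⟩
  · rintro ⟨c, rfl⟩
    refine ⟨(a ^ 2)⁻¹ * c, ?_⟩
    rw [Tr_smul]
    congr 1
    field_simp

theorem rootSubgroup_comm (w : Fin m ⊕ Fin m → F) : IsMulCommutative (rootSubgroup w) := by
  refine ⟨⟨?_⟩⟩
  rintro ⟨_, c, rfl⟩ ⟨_, d, rfl⟩
  apply Subtype.ext
  change Tr w c * Tr w d = Tr w d * Tr w c
  rw [Tr_mul, Tr_mul, add_comm]

/-- The root subgroup attached to a point of projective space. -/
noncomputable def rootT (p : ℙ F (Fin m ⊕ Fin m → F)) :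
    Subgroup (Matrix.symplecticGroup (Fin m) F) :=
  rootSubgroup p.rep

theorem rootT_mk (v : Fin m ⊕ Fin m → F) (hv : v ≠ 0) :
    rootT (Projectivization.mk F v hv) = rootSubgroup v := by
  obtain ⟨a, ha⟩ := Projectivization.exists_smul_eq_mk_rep F v hv
  unfold rootT
  rw [← ha, Units.smul_def]
  exact rootSubgroup_smul (a : F) a.ne_zero v

open scoped Pointwise in
theorem conj_rootSubgroup (g : Matrix.symplecticGroup (Fin m) F) (w : Fin m ⊕ Fin m → F) :
    rootSubgroup ((g : Matrix (Fin m ⊕ Fin m) (Fin m ⊕ Fin m) F) *ᵥ w)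
      = MulAut.conj g • rootSubgroup w := by
  ext A
  rw [Subgroup.mem_pointwise_smul_iff_inv_smul_mem]
  constructor
  · rintro ⟨c, rfl⟩
    refine ⟨c, ?_⟩
    rw [← conj_Tr]
    simp only [MulAut.smul_def, MulAut.conj_inv_apply]
    group
  · rintro ⟨c, hc⟩
    refine ⟨c, ?_⟩
    rw [← conj_Tr, ← hc]
    simp only [MulAut.smul_def, MulAut.conj_inv_apply]
    group

/-- The Iwasawa structure of root subgroups for the action of `Sp` on points. -/
noncomputable def iwasawa :
    MulAction.IwasawaStructure (Matrix.symplecticGroup (Fin m) F)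
      (ℙ F (Fin m ⊕ Fin m → F)) where
  T := rootT
  is_comm := fun p => rootSubgroup_comm p.rep
  is_conj := by
    intro g p
    induction p using Projectivization.ind with
    | h v hv =>
    rw [smul_mk, rootT_mk, rootT_mk, conj_rootSubgroup]
  is_generator := by
    rw [eq_top_iff, ← transvGroup_eq_top]
    unfold transvGroup
    rw [Subgroup.closure_le]
    rintro B ⟨w, c, hB⟩
    have hBT : B = Tr w c := Subtype.ext hB
    by_cases hw : w = 0
    · rw [hBT, hw, Tr_zero_vec]
      exact Subgroup.one_mem _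
    · have h1 : B ∈ rootT (Projectivization.mk F w hw) := by
        rw [rootT_mk]
        exact ⟨c, hBT⟩
      exact (le_iSup rootT (Projectivization.mk F w hw)) h1

/-! ### Elements fixing all points are central -/

theorem mem_center_of_scalar (A : Matrix.symplecticGroup (Fin m) F) (a : F)
    (h : ∀ x : Fin m ⊕ Fin m → F,
      (A : Matrix (Fin m ⊕ Fin m) (Fin m ⊕ Fin m) F) *ᵥ x = a • x) :
    A ∈ Subgroup.center (Matrix.symplecticGroup (Fin m) F) := by
  rw [Subgroup.mem_center_iff]
  intro B
  apply sp_ext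
  intro x
  rw [coe_mul_mulVec, coe_mul_mulVec, h, h, Matrix.mulVec_smul]

theorem mem_center_of_fixes (hm : 1 ≤ m) (A : Matrix.symplecticGroup (Fin m) F)
    (h : ∀ p : ℙ F (Fin m ⊕ Fin m → F), A • p = p) :
    A ∈ Subgroup.center (Matrix.symplecticGroup (Fin m) F) := by
  classical
  have hex : ∀ v : Fin m ⊕ Fin m → F, v ≠ 0 →
      ∃ a : F, (A : Matrix (Fin m ⊕ Fin m) (Fin m ⊕ Fin m) F) *ᵥ v = a • v := by
    intro v hv
    have h1 := h (Projectivization.mk F v hv)
    rw [smul_mk, Projectivization.mk_eq_mk_iff'] at h1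
    obtain ⟨a, ha⟩ := h1
    exact ⟨a, ha.symm⟩
  set v0 : Fin m ⊕ Fin m → F := eL m F ⟨0, by omega⟩ with hv0
  have hv0ne : v0 ≠ 0 := by
    intro h
    have := congrFun h (Sum.inl ⟨0, by omega⟩)
    simp [hv0, eL_apply_self] at this
  obtain ⟨a, ha⟩ := hex v0 hv0ne
  refine mem_center_of_scalar A a ?_
  intro w
  by_cases hdep : ∃ c : F, w = c • v0
  · obtain ⟨c, rfl⟩ := hdep
    rw [Matrix.mulVec_smul, ha, smul_comm]
  · push Not at hdep
    have hw0 : w ≠ 0 := by
      intro h0
      exact hdep 0 (by rw [h0, zero_smul])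
    have hvw0 : v0 + w ≠ 0 := by
      intro h0
      apply hdep (-1)
      rw [neg_one_smul]
      exact eq_neg_of_add_eq_zero_right h0
    obtain ⟨b, hb⟩ := hex w hw0
    obtain ⟨d, hd⟩ := hex (v0 + w) hvw0
    rw [Matrix.mulVec_add, ha, hb, smul_add] at hd
    -- (a - d) v0 + (b - d) w = 0
    have hrel : (a - d) • v0 = (d - b) • w := by
      rw [sub_smul, sub_smul, sub_eq_sub_iff_add_eq_add]
      rw [hd]; abel
    have hbd : d - b = 0 := by
      by_contra hne
      apply hdep ((d - b)⁻¹ * (a - d))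
      rw [mul_smul, hrel, smul_smul, inv_mul_cancel₀ hne, one_smul]
    have had : a - d = 0 := by
      by_contra hne
      apply hv0ne
      have : (a - d) • v0 = 0 := by rw [hrel, hbd, zero_smul]
      exact (smul_eq_zero.mp this).resolve_left hne
    have : a = b := by
      rw [sub_eq_zero] at hbd had
      rw [had, hbd]
    rw [hb, this]

/-! ### Normal subgroups -/

theorem normal_le_center_or_eq_top (hm : 1 ≤ m)
    (hperf : commutator (Matrix.symplecticGroup (Fin m) F) = ⊤)
    (N : Subgroup (Matrix.symplecticGroup (Fin m) F)) [N.Normal] :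
    N ≤ Subgroup.center (Matrix.symplecticGroup (Fin m) F) ∨ N = ⊤ := by
  have hprim := isPreprimitive_sp (F := F) (m := m)
  by_cases hfix : MulAction.fixedPoints N (ℙ F (Fin m ⊕ Fin m → F)) = Set.univ
  · left
    intro A hA
    apply mem_center_of_fixes hm
    intro p
    have hp : p ∈ MulAction.fixedPoints N (ℙ F (Fin m ⊕ Fin m → F)) := by
      rw [hfix]; trivial
    exact hp ⟨A, hA⟩
  · right
    have := iwasawa.commutator_le N hfix
    rw [hperf] at this
    exact top_le_iff.mp this

theorem isSimpleGroup_quotient_center {G : Type*} [Group G]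
    (hne : Subgroup.center G ≠ ⊤)
    (h : ∀ N : Subgroup G, N.Normal → N ≤ Subgroup.center G ∨ N = ⊤) :
    IsSimpleGroup (G ⧸ Subgroup.center G) := by
  have hnt : Nontrivial (G ⧸ Subgroup.center G) := QuotientGroup.nontrivial_iff.mpr hne
  refine { toNontrivial := hnt, eq_bot_or_eq_top_of_normal := ?_ }
  intro K hK
  have hsurj : Function.Surjective (QuotientGroup.mk' (Subgroup.center G)) :=
    QuotientGroup.mk'_surjective _
  have hKmap : (K.comap (QuotientGroup.mk' (Subgroup.center G))).map
      (QuotientGroup.mk' (Subgroup.center G)) = K :=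
    Subgroup.map_comap_eq_self_of_surjective hsurj K
  rcases h (K.comap (QuotientGroup.mk' (Subgroup.center G))) inferInstance with h1 | h1
  · left
    rw [← hKmap, eq_bot_iff]
    calc (K.comap (QuotientGroup.mk' (Subgroup.center G))).map
          (QuotientGroup.mk' (Subgroup.center G))
        ≤ (Subgroup.center G).map (QuotientGroup.mk' (Subgroup.center G)) :=
          Subgroup.map_mono h1
      _ = ⊥ := by
          rw [eq_bot_iff]
          rintro _ ⟨g, hg, rfl⟩
          rw [Subgroup.mem_bot]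
          exact (QuotientGroup.eq_one_iff g).mpr hg
  · right
    rw [← hKmap, h1, ← MonoidHom.range_eq_map, MonoidHom.range_eq_top]
    exact hsurj

theorem center_ne_top (hm : 1 ≤ m)
    (hperf : commutator (Matrix.symplecticGroup (Fin m) F) = ⊤) :
    Subgroup.center (Matrix.symplecticGroup (Fin m) F) ≠ ⊤ := by
  classical
  intro htop
  -- then the group is commutative, so the commutator is trivial, so the group is trivial
  have hcomm : ∀ a b : Matrix.symplecticGroup (Fin m) F, a * b = b * a := by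
    intro a b
    have ha : a ∈ Subgroup.center (Matrix.symplecticGroup (Fin m) F) := by rw [htop]; trivial
    exact ((Subgroup.mem_center_iff.mp ha) b).symm
  have hbot : commutator (Matrix.symplecticGroup (Fin m) F) = ⊥ := by
    rw [commutator_def, Subgroup.commutator_eq_bot_iff_le_centralizer]
    intro a _
    rw [Subgroup.mem_centralizer_iff]
    intro b _
    exact hcomm b a
  rw [hperf] at hbot
  -- exhibit a nontrivial element
  set i0 : Fin m := ⟨0, by omega⟩ with hi0
  have h1 : Tr (eL m F i0) (1 : F) ∈ (⊤ : Subgroup (Matrix.symplecticGroup (Fin m) F)) := trivial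
  rw [hbot, Subgroup.mem_bot] at h1
  have h2 := congrArg (fun A : Matrix.symplecticGroup (Fin m) F =>
    (A : Matrix (Fin m ⊕ Fin m) (Fin m ⊕ Fin m) F) *ᵥ
      (Pi.single (Sum.inr i0) 1 : Fin m ⊕ Fin m → F)) h1
  simp only [Tr_mulVec, coe_one_mulVec] at h2
  have h3 := congrFun h2 (Sum.inl i0)
  unfold eL at h3
  rw [sympForm_single_inl] at h3
  simp at h3

/-- `PSp_{2m}(F)` is simple whenever `Sp_{2m}(F)` is perfect (and `m ≥ 1`). -/
theorem isSimpleGroup_PSp (hm : 1 ≤ m)
    (hperf : commutator (Matrix.symplecticGroup (Fin m) F) = ⊤) :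
    IsSimpleGroup (Cfsg.PSp m F) :=
  isSimpleGroup_quotient_center (center_ne_top hm hperf)
    (fun N hN => by
      have := hN
      exact normal_le_center_or_eq_top hm hperf N)

end Cfsg.Agent.Lib.Helper14.PSpSimple
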