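import Mathlib
import Cfsg.Agent.Lib.Helper8.TW.Defs
import Cfsg.Agent.Lib.Helper22.TWExtBasic

/-!
S5641 (C7 maximal in SL_n), part (II) Stage II, Case B + glue (sub-planner helper14): definitions.
Vocabulary of `Cfsg.Agent.Lib.Helper8.TW` (owner helper8).  Plan: `notes/S5641_IIB_plan.md`.
-/

set_option autoImplicit false
set_option linter.unusedSectionVars false
set_option linter.unusedVariables false

namespace Cfsg.Agent.Lib.Helper14.TWII
open Matrix Cfsg.Agent.Lib.Helper18.AschA89 Cfsg.Agent.Lib.Helper8.TW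

variable {F : Type*} [Field F] {t m : ℕ}

/-- `u ∈ Z_b`, `b = (i, y)`: `(u - 1) V ≤ W(i,y)` and `u = 1` on `W(i,y)` (the two hypotheses `hu1`, `hu2` of helper19's `caseA`,
`h2`, `h1` of helper6's `K_lemma`) -/
def InZ (i : Fin t) (y : Fin m → F) (u : GL (Idx t m) F) : Prop :=
  (∀ v, mv u v - v ∈ Wf i y) ∧ (∀ v ∈ Wf i y, mv u v = v)

/-- the standard basis vector `e_o` of `A = F^m` -/
def eo (o : Fin m) : Fin m → F := Pi.single o 1

lemma eo_ne_zero (o : Fin m) : (eo o : Fin m → F) ≠ 0 := by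
  intro h
  have := congrFun h o
  simp [eo] at this

lemma dot_eo (η : Fin m → F) (o : Fin m) : η ⬝ᵥ eo o = η o := by
  unfold eo
  rw [dotProduct_single, mul_one]

/-- the root element `1 + N(i,y,η)` as a unit -/
def rootU (i : Fin t) (y η : Fin m → F) (h : η ⬝ᵥ y = 0) : GL (Idx t m) F :=
  unip (rootN i y η) (rootN_mul_self i y η h)

@[simp] lemma rootU_val (i : Fin t) (y η : Fin m → F) (h : η ⬝ᵥ y = 0) :
    ((rootU i y η h : GL (Idx t m) F) : Matrix (Idx t m) (Idx t m) F) = 1 + rootN i y η := rfl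

lemma slotGL_mul (i : Fin t) (α β : GL (Fin m) F) : slotGL i (α * β) = slotGL i α * slotGL i β := by
  apply Units.ext
  rw [Units.val_mul, slotGL_val, slotGL_val, slotGL_val, Units.val_mul, slot_mul]

lemma slotGL_one (i : Fin t) : slotGL i (1 : GL (Fin m) F) = 1 := by
  apply Units.ext
  rw [slotGL_val, Units.val_one, slot_one, Units.val_one]

lemma slotGL_inv (i : Fin t) (α : GL (Fin m) F) : slotGL i α⁻¹ = (slotGL i α)⁻¹ := by
  rw [eq_inv_iff_mul_eq_one, ← slotGL_mul, inv_mul_cancel, slotGL_one]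

lemma extGL_mul (i : Fin (t + 1)) (γ δ : GL (Idx t m) F) : extGL i (γ * δ) = extGL i γ * extGL i δ := by
  apply Units.ext
  rw [Units.val_mul, extGL_val, extGL_val, extGL_val, Units.val_mul, ext_mul]

lemma extGL_one (i : Fin (t + 1)) : extGL i (1 : GL (Idx t m) F) = 1 := by
  apply Units.ext
  rw [extGL_val, Units.val_one, ext_one, Units.val_one]

lemma extGL_inv (i : Fin (t + 1)) (γ : GL (Idx t m) F) : extGL i γ⁻¹ = (extGL i γ)⁻¹ := by
  rw [eq_inv_iff_mul_eq_one, ← extGL_mul, inv_mul_cancel, extGL_one]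

lemma extGL_comm_slotGL (i : Fin (t + 1)) (γ : GL (Idx t m) F) (α : GL (Fin m) F) :
    extGL i γ * slotGL i α = slotGL i α * extGL i γ := by
  apply Units.ext
  rw [Units.val_mul, Units.val_mul, extGL_val, slotGL_val]
  exact Cfsg.Agent.Lib.Helper22.TWLeaf.ext_comm_slot i _ _

/-- `X_B`: the `γ ∈ GL(B)` such that `α ⊗ γ ∈ X` for some `α ∈ GL(A)` (`A` at position `i`) -/
def XB (X : Subgroup (GL (Idx (t + 1) m) F)) (i : Fin (t + 1)) : Subgroup (GL (Idx t m) F) where
  carrier := {γ | ∃ α : GL (Fin m) F, slotGL i α * extGL i γ ∈ X}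
  mul_mem' := by
    rintro γ δ ⟨α, hα⟩ ⟨β, hβ⟩
    refine ⟨α * β, ?_⟩
    have h := X.mul_mem hα hβ
    have e : slotGL i α * extGL i γ * (slotGL i β * extGL i δ) = slotGL i (α * β) * extGL i (γ * δ) := by
      rw [slotGL_mul, extGL_mul, mul_assoc, ← mul_assoc (extGL i γ), extGL_comm_slotGL, mul_assoc, mul_assoc]
    rwa [e] at h
  one_mem' := ⟨1, by rw [slotGL_one, extGL_one, mul_one]; exact X.one_mem⟩
  inv_mem' := by
    rintro γ ⟨α, hα⟩
    refine ⟨α⁻¹, ?_⟩
    have h := X.inv_mem hα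
    rwa [_root_.mul_inv_rev, ← slotGL_inv, ← extGL_inv, extGL_comm_slotGL] at h

lemma mem_XB (X : Subgroup (GL (Idx (t + 1) m) F)) (i : Fin (t + 1)) (γ : GL (Idx t m) F) :
    γ ∈ XB X i ↔ ∃ α : GL (Fin m) F, slotGL i α * extGL i γ ∈ X := Iff.rfl

end Cfsg.Agent.Lib.Helper14.TWII
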