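import Mathlib
import Cfsg.Agent.Lib.Helper5.TWU.Defs
import Cfsg.Agent.Lib.Helper14.TWIIDefs

/-!
S5672 (C7 unitary: `GU_k wr S_t` maximal in `SU_n(q)`; owner helper5), STAGE II (sub-planner helper14): definitions.
Vocabulary: `Cfsg.Agent.Lib.Helper8.TW` (form-free), `Cfsg.Agent.Lib.Helper5.TWU` (unitary layer),
`Cfsg.Agent.Lib.Helper14.TWII` (`InZ`, `eo`, `rootU`, `XB`, `slotGL_mul/inv`, `extGL_mul/inv`, `extGL_comm_slotGL`).
Plan: `notes/S5672_II_plan.md`.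
-/

set_option autoImplicit false
set_option linter.unusedSectionVars false
set_option linter.unusedVariables false

namespace Cfsg.Agent.Lib.Helper14.TWUII
open Matrix Cfsg.Agent.Lib.Helper18.AschA89 Cfsg.Agent.Lib.Helper8.TW Cfsg.Agent.Lib.Helper5.TWU
open Cfsg.Agent.Lib.Helper20.UT (hv)

variable {F : Type*} [Field F] {t k : ℕ}

/-- `u ∈ U^W` for `W = W(i,y)`: `u` is unitriangular w.r.t. the flag `W ≤ W^⊥ = C(i, y†) ≤ V`
(form-free shape; for isotropic `y ≠ 0` and `|F| = q²`, `Cf i (dag q y) = perpU q (Wf i y)`) -/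
def InU (q : ℕ) (i : Fin t) (y : Fin k → F) (u : GL (Idx t k) F) : Prop :=
  (∀ v ∈ Wf i y, mv u v = v) ∧ (∀ v ∈ Cf i (dag q y), mv u v - v ∈ Wf i y) ∧
    (∀ v, mv u v - v ∈ Cf i (dag q y))

/-- the HEISENBERG (Siegel) matrix `η_{w,c}` of the isotropic vector `y`:
`a ↦ a + f(a,y) w - f(a,w) y + c f(a,y) y`  (`f = hv q`; an isometry of determinant one fixing `y` when `y` is isotropic,
`w ⊥ y` and `c + c^q + f(w,w) = 0`; these matrices form the unipotent radical `Q_U^A(y)` of `Stab_{SU(A)}(F y)`) -/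
def etaA (q : ℕ) (y w : Fin k → F) (c : F) : Matrix (Fin k) (Fin k) F :=
  1 + Matrix.vecMulVec w (dag q y) - Matrix.vecMulVec y (dag q w) + c • Matrix.vecMulVec y (dag q y)

/-- `K_B`: the `γ ∈ GL(B)` with `γ ⊗ 1 ∈ X` -/
def KB (X : Subgroup (GL (Idx (t + 1) k) F)) (i : Fin (t + 1)) : Subgroup (GL (Idx t k) F) where
  carrier := {γ | extGL i γ ∈ X}
  mul_mem' := by
    intro γ δ hγ hδ
    change extGL i (γ * δ) ∈ X
    rw [Cfsg.Agent.Lib.Helper14.TWII.extGL_mul]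
    exact X.mul_mem hγ hδ
  one_mem' := by
    change extGL i (1 : GL (Idx t k) F) ∈ X
    rw [Cfsg.Agent.Lib.Helper14.TWII.extGL_one]
    exact X.one_mem
  inv_mem' := by
    intro γ hγ
    change extGL i γ⁻¹ ∈ X
    rw [Cfsg.Agent.Lib.Helper14.TWII.extGL_inv]
    exact X.inv_mem hγ

lemma mem_KB (X : Subgroup (GL (Idx (t + 1) k) F)) (i : Fin (t + 1)) (γ : GL (Idx t k) F) :
    γ ∈ KB X i ↔ extGL i γ ∈ X := Iff.rfl

end Cfsg.Agent.Lib.Helper14.TWUII
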