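import Mathlib
import Cfsg.Agent.Lib.Helper5.TWS.Defs
import Cfsg.Agent.Lib.Helper14.TWIIDefs
import Cfsg.Agent.Lib.Helper14.TWUIIDefs

/-!
S5668 (C7 symplectic: `Sp_k wr S_t` maximal in `Sp_{k^t}(q)`, `q` odd, `t` odd; owner helper5), STAGE II = the DESCENT `(D_t)`
(sub-planner helper14): definitions.  Vocabulary: `Cfsg.Agent.Lib.Helper8.TW` (form-free), `Cfsg.Agent.Lib.Helper5.TWS` (symplectic layer),
`Cfsg.Agent.Lib.Helper14.TWII` (`InZ`, `eo`, `rootU`, `XB`, `slotGL_mul/inv`, `extGL_mul/inv`), `Cfsg.Agent.Lib.Helper14.TWUII.KB`.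
Plan: `notes/S5668_II_plan.md`.
-/

set_option autoImplicit false
set_option linter.unusedSectionVars false
set_option linter.unusedVariables false

namespace Cfsg.Agent.Lib.Helper14.TWSII
open Matrix Cfsg.Agent.Lib.Helper18.AschA89 Cfsg.Agent.Lib.Helper8.TW Cfsg.Agent.Lib.Helper5.TWS
  Cfsg.Agent.Lib.Helper14.TWII
open Cfsg.Agent.Lib.Helper25.SpT (sf Jm sfv)

variable {F : Type*} [Field F] {t k : ℕ}

/-- `u ∈ U^W` for `W = W(i,y)`: `u` is unitriangular w.r.t. the flag `W ≤ W^⊥ = C(i, y†) ≤ V`, `y† = sfv y`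
(form-free shape; for `y ≠ 0`, `Cf i (sfv y) = perpT (Wf i y)`) -/
def InUS (i : Fin t) (y : Fin k → F) (u : GL (Idx t k) F) : Prop :=
  (∀ v ∈ Wf i y, mv u v = v) ∧ (∀ v ∈ Cf i (sfv y), mv u v - v ∈ Wf i y) ∧
    (∀ v, mv u v - v ∈ Cf i (sfv y))

/-- the HEISENBERG (Siegel) matrix `η_{w,c}` of the vector `y`: `a ↦ a + f(a,y) w + f(a,w) y + c f(a,y) y`  (`f = sf`; an isometry fixing `y`
when `w ⊥ y`, ANY `c : F`; these matrices form the unipotent radical `Q^A(y)` of `Stab_{Sp(A)}(F y)`; `η_{0,c} = 1 + c y y†` is the transvection) -/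
def etaS (y w : Fin k → F) (c : F) : Matrix (Fin k) (Fin k) F :=
  1 + Matrix.vecMulVec w (sfv y) + Matrix.vecMulVec y (sfv w) + c • Matrix.vecMulVec y (sfv y)

/-- the rank two SELFADJOINT square-zero matrix `w ∧ y := w y† - y w†` of a totally isotropic pair -/
def wedS (w y : Fin k → F) : Matrix (Fin k) (Fin k) F :=
  Matrix.vecMulVec w (sfv y) - Matrix.vecMulVec y (sfv w)

/-- the torus matrix `d_λ`: `y ↦ λ y`, `y' ↦ λ⁻¹ y'`, identity on `⟨y,y'⟩^⊥` (for `sf y y' = 1`) -/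
def torS (y y' : Fin k → F) (l : F) : Matrix (Fin k) (Fin k) F :=
  1 + (l - 1) • Matrix.vecMulVec y (sfv y') - (l⁻¹ - 1) • Matrix.vecMulVec y' (sfv y)

/-- `θ` is skew-adjoint for the tensor form -/
def SkewT (σ : Matrix (Idx t k) (Idx t k) F) : Prop :=
  ∀ b b' : Idx t k → F, sfT (σ *ᵥ b) b' = - sfT b (σ *ᵥ b')

/-- CASE A holds for `X`: some `u ∈ X \ G` with `(u - 1) V ≤ W(i,y)`, `u = 1` on `W(i,y)` (for `X ≤ Δ(V)`: `u = 1 + θ ⊗ y y†`, `θ` non-scalar) -/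
def CaseAS (X : Subgroup (GL (Idx t k) F)) : Prop :=
  ∃ (i : Fin t) (y : Fin k → F) (u : GL (Idx t k) F), y ≠ 0 ∧ u ∈ X ∧ u ∉ Gstd t k F ∧ InZ i y u

end Cfsg.Agent.Lib.Helper14.TWSII
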