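import Mathlib
import Cfsg.Agent.Lib.Helper20.AschDefs
import Cfsg.Agent.Lib.Helper18.AschA89Defs

/-!
S5630 (Aschbacher, helper20), block (A89) (sub-planner helper18): GROUP THEORY leaves
G1 `exists_minNS_le`, G2a `minNS_cj`, G2b `minNS_comm_mod`, G2c `iSup_cj_eq`, G2d `minNS_perfect`,
G2e `commute_of_comm_mod` (exact signatures of notes/S5630_A89_leaves.lean).  Taker: helper14.
-/

set_option autoImplicit false
set_option linter.unusedSectionVars false
set_option linter.unusedVariables false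

namespace Cfsg.Agent.Lib.Helper14.AschLeaf
open Matrix Cfsg.Geo Cfsg.Agent.Lib.Helper20.Asch Cfsg.Agent.Lib.Helper18.AschA89
open scoped Kronecker

/-! ### tools (any field) -/
section tools
variable {F : Type*} [Field F] {n : ℕ}

/-- scalars are central -/
lemma scalars_comm {z : GL (Fin n) F} (hz : z ∈ scalars (Fin n) F) (g : GL (Fin n) F) : z * g = g * z := by
  rw [mem_scalars_iff] at hz
  obtain ⟨c, hc⟩ := hz
  apply Units.ext
  rw [Units.val_mul, Units.val_mul, hc, Matrix.smul_mul, Matrix.mul_smul, Matrix.one_mul, Matrix.mul_one]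

lemma scalars_conj_mem {z : GL (Fin n) F} (hz : z ∈ scalars (Fin n) F) (g : GL (Fin n) F) :
    g * z * g⁻¹ ∈ scalars (Fin n) F := by
  have : g * z * g⁻¹ = z := by rw [← scalars_comm hz g, mul_assoc, mul_inv_cancel, mul_one]
  rw [this]; exact hz

lemma cj_one (X : Subgroup (GL (Fin n) F)) : cj 1 X = X := by
  ext y
  rw [mem_cj]
  constructor
  · rintro ⟨x, hx, rfl⟩; simpa using hx
  · intro hy; exact ⟨y, hy, by simp⟩

lemma cj_cj (g h : GL (Fin n) F) (X : Subgroup (GL (Fin n) F)) : cj g (cj h X) = cj (g * h) X := by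
  ext y
  simp only [mem_cj]
  constructor
  · rintro ⟨_, ⟨x, hx, rfl⟩, rfl⟩
    exact ⟨x, hx, by simp [mul_assoc]⟩
  · rintro ⟨x, hx, rfl⟩
    exact ⟨h * x * h⁻¹, ⟨x, hx, rfl⟩, by simp [mul_assoc]⟩

lemma cj_mono (h : GL (Fin n) F) {X Y : Subgroup (GL (Fin n) F)} (hXY : X ≤ Y) : cj h X ≤ cj h Y := by
  intro y hy
  rw [mem_cj] at hy ⊢
  obtain ⟨x, hx, rfl⟩ := hy
  exact ⟨x, hXY hx, rfl⟩

lemma cj_inv_cj (h : GL (Fin n) F) (X : Subgroup (GL (Fin n) F)) : cj h⁻¹ (cj h X) = X := by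
  rw [cj_cj, inv_mul_cancel, cj_one]

lemma cj_cj_inv (h : GL (Fin n) F) (X : Subgroup (GL (Fin n) F)) : cj h (cj h⁻¹ X) = X := by
  rw [cj_cj, mul_inv_cancel, cj_one]

lemma cj_le_scalars_iff (h : GL (Fin n) F) (X : Subgroup (GL (Fin n) F)) :
    cj h X ≤ scalars (Fin n) F ↔ X ≤ scalars (Fin n) F := by
  constructor
  · intro hle x hx
    have h1 : h * x * h⁻¹ ∈ scalars (Fin n) F := hle (mem_cj.2 ⟨x, hx, rfl⟩)
    have h2 := scalars_conj_mem h1 h⁻¹
    simpa [mul_assoc] using h2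
  · intro hle y hy
    rw [mem_cj] at hy
    obtain ⟨x, hx, rfl⟩ := hy
    exact scalars_conj_mem (hle hx) h

/-- if `h` and `h⁻¹` normalise `N` then `cj h` preserves `≤ N` -/
lemma cj_le_of_norm {N X : Subgroup (GL (Fin n) F)} (h : GL (Fin n) F)
    (hh : ∀ x ∈ N, h * x * h⁻¹ ∈ N) (hX : X ≤ N) : cj h X ≤ N := by
  intro y hy
  rw [mem_cj] at hy
  obtain ⟨x, hx, rfl⟩ := hy
  exact hh x (hX hx)

/-- if `h⁻¹` normalises `N` then `cj h` preserves `N`-normality -/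
lemma normBy_cj {N X : Subgroup (GL (Fin n) F)} (h : GL (Fin n) F)
    (hh : ∀ x ∈ N, h⁻¹ * x * h ∈ N) (hX : NormBy N X) : NormBy N (cj h X) := by
  intro y hy z hz
  rw [mem_cj] at hz ⊢
  obtain ⟨x, hx, rfl⟩ := hz
  refine ⟨(h⁻¹ * y * h) * x * (h⁻¹ * y * h)⁻¹, hX _ (hh y hy) x hx, ?_⟩
  group

lemma normBy_inf {N X Y : Subgroup (GL (Fin n) F)} (hX : NormBy N X) (hY : NormBy N Y) :
    NormBy N (X ⊓ Y) := by
  intro y hy z hz
  exact ⟨hX y hy z hz.1, hY y hy z hz.2⟩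

lemma normBy_commutator {N X : Subgroup (GL (Fin n) F)} (hX : NormBy N X) : NormBy N ⁅X, X⁆ := by
  intro y hy z hz
  have hmap : ⁅X, X⁆.map (MulAut.conj y).toMonoidHom ≤ ⁅X, X⁆ := by
    rw [Subgroup.map_commutator]
    have h1 : X.map (MulAut.conj y).toMonoidHom ≤ X := by
      rintro _ ⟨x, hx, rfl⟩
      exact hX y hy x hx
    exact Subgroup.commutator_mono h1 h1
  exact hmap ⟨z, hz, rfl⟩

end tools

variable {F : Type*} [Field F] [Fintype F] {n : ℕ} {H N : Subgroup (GL (Fin n) F)}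

/-- G1: a minimal non-scalar `N`-normal subgroup inside `K` (finiteness). -/
theorem exists_minNS_le (K : Subgroup (GL (Fin n) F)) (hK : K ≤ N) (hKn : NormBy N K)
    (hKs : ¬ K ≤ scalars (Fin n) F) : ∃ M : Subgroup (GL (Fin n) F), M ≤ K ∧ MinNS N M := by
  classical
  let S : Set (Subgroup (GL (Fin n) F)) := {M | M ≤ K ∧ NormBy N M ∧ ¬ M ≤ scalars (Fin n) F}
  have hS : S.Nonempty := ⟨K, le_refl K, hKn, hKs⟩
  obtain ⟨M, hMS, hMmin⟩ := (measure (fun M : Subgroup (GL (Fin n) F) => Nat.card M)).wf.has_min S hS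
  obtain ⟨hMK, hMn, hMs⟩ := hMS
  refine ⟨M, hMK, hMK.trans hK, hMn, hMs, ?_⟩
  intro M' hM'M hM'n
  by_cases hs : M' ≤ scalars (Fin n) F
  · exact Or.inr hs
  · left
    have hM'S : M' ∈ S := ⟨hM'M.trans hMK, hM'n, hs⟩
    have hcard : ¬ Nat.card M' < Nat.card M := hMmin M' hM'S
    exact Subgroup.eq_of_le_of_card_ge hM'M (not_lt.1 hcard)

/-- G2a: `H`-conjugates of a minimal non-scalar `N`-normal subgroup are again such. -/
theorem minNS_cj {M : Subgroup (GL (Fin n) F)} (hnorm : NormBy H N) (h : GL (Fin n) F) (hh : h ∈ H)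
    (hM : MinNS N M) : MinNS N (cj h M) := by
  obtain ⟨hMN, hMn, hMs, hMmin⟩ := hM
  have hh1 : ∀ x ∈ N, h * x * h⁻¹ ∈ N := fun x hx => hnorm h hh x hx
  have hh2 : ∀ x ∈ N, h⁻¹ * x * h ∈ N := fun x hx => by
    have := hnorm h⁻¹ (H.inv_mem hh) x hx
    simpa using this
  refine ⟨cj_le_of_norm h hh1 hMN, normBy_cj h hh2 hMn, ?_, ?_⟩
  · rw [cj_le_scalars_iff]; exact hMs
  · intro M' hM' hM'n
    have h1 : cj h⁻¹ M' ≤ M := by
      have := cj_mono h⁻¹ hM'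
      rwa [cj_inv_cj] at this
    have h2 : NormBy N (cj h⁻¹ M') := normBy_cj h⁻¹ (by simpa using hh1) hM'n
    rcases hMmin _ h1 h2 with h3 | h3
    · left
      rw [← h3, cj_cj_inv]
    · right
      rwa [cj_le_scalars_iff] at h3

/-- G2b: two distinct minimal ones commute modulo scalars (`[M₁,M₂] ≤ M₁ ⊓ M₂`, which is scalar by minimality). -/
theorem minNS_comm_mod {M₁ M₂ : Subgroup (GL (Fin n) F)} (h₁ : MinNS N M₁) (h₂ : MinNS N M₂)
    (hne : M₁ ≠ M₂) : ∀ x ∈ M₁, ∀ y ∈ M₂, x * y * x⁻¹ * y⁻¹ ∈ scalars (Fin n) F := by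
  obtain ⟨h1N, h1n, h1s, h1min⟩ := h₁
  obtain ⟨h2N, h2n, h2s, h2min⟩ := h₂
  have hDn : NormBy N (M₁ ⊓ M₂) := normBy_inf h1n h2n
  have hD : M₁ ⊓ M₂ ≤ scalars (Fin n) F := by
    rcases h1min _ inf_le_left hDn with ha | ha
    · rcases h2min _ inf_le_right hDn with hb | hb
      · exact absurd (ha.symm.trans hb) hne
      · exact hb
    · exact ha
  intro x hx y hy
  apply hD
  constructor
  · have h3 : y * x⁻¹ * y⁻¹ ∈ M₁ := h1n y (h2N hy) x⁻¹ (M₁.inv_mem hx)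
    have : x * y * x⁻¹ * y⁻¹ = x * (y * x⁻¹ * y⁻¹) := by simp only [mul_assoc]
    rw [this]
    exact M₁.mul_mem hx h3
  · have h3 : x * y * x⁻¹ ∈ M₂ := h2n x (h1N hx) y hy
    exact M₂.mul_mem h3 (M₂.inv_mem hy)

/-- G2c: the join of the `H`-conjugates of `M` is `N` (minimality of `N` among `H`-normal non-scalar subgroups). -/
theorem iSup_cj_eq {M : Subgroup (GL (Fin n) F)} (hnorm : NormBy H N)
    (hmin : ∀ M : Subgroup (GL (Fin n) F), M ≤ N → NormBy H M → M = N ∨ M ≤ scalars (Fin n) F)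
    (hM : MinNS N M) : (⨆ h : H, cj (h : GL (Fin n) F) M) = N := by
  obtain ⟨hMN, hMn, hMs, hMmin⟩ := hM
  have hle : (⨆ h : H, cj (h : GL (Fin n) F) M) ≤ N := by
    apply iSup_le
    intro h
    exact cj_le_of_norm _ (fun x hx => hnorm h h.2 x hx) hMN
  have hn : NormBy H (⨆ h : H, cj (h : GL (Fin n) F) M) := by
    intro g hg z hz
    have hmap : (⨆ h : H, cj (h : GL (Fin n) F) M).map (MulAut.conj g).toMonoidHom ≤
        ⨆ h : H, cj (h : GL (Fin n) F) M := by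
      rw [Subgroup.map_iSup]
      apply iSup_le
      intro h
      have : (cj (h : GL (Fin n) F) M).map (MulAut.conj g).toMonoidHom = cj g (cj (h : GL (Fin n) F) M) := rfl
      rw [this, cj_cj]
      exact le_iSup (fun h : H => cj (h : GL (Fin n) F) M) ⟨g * h, H.mul_mem hg h.2⟩
    exact hmap ⟨z, hz, rfl⟩
  rcases hmin _ hle hn with h1 | h1
  · exact h1
  · exfalso
    apply hMs
    have : M ≤ ⨆ h : H, cj (h : GL (Fin n) F) M := by
      have := le_iSup (fun h : H => cj (h : GL (Fin n) F) M) ⟨1, H.one_mem⟩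
      simpa [cj_one] using this
    exact this.trans h1

/-- G2d: `M` is perfect. -/
theorem minNS_perfect {M : Subgroup (GL (Fin n) F)} (hns : ¬ N ≤ scalars (Fin n) F)
    (hperf : ⁅N, N⁆ = N) (hM : MinNS N M)
    (hsup : (⨆ h : H, cj (h : GL (Fin n) F) M) = N)
    (hcm : ∀ h₁ ∈ H, ∀ h₂ ∈ H, cj h₁ M ≠ cj h₂ M →
      ∀ x ∈ cj h₁ M, ∀ y ∈ cj h₂ M, x * y * x⁻¹ * y⁻¹ ∈ scalars (Fin n) F) : ⁅M, M⁆ = M := by
  obtain ⟨hMN, hMn, hMs, hMmin⟩ := hM
  rcases hMmin ⁅M, M⁆ (Subgroup.commutator_le_self M) (normBy_commutator hMn) with h1 | h1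
  · exact h1
  · exfalso
    apply hns
    -- each conjugate is abelian modulo scalars
    have hab : ∀ h : GL (Fin n) F, ∀ x ∈ cj h M, ∀ y ∈ cj h M, x * y * x⁻¹ * y⁻¹ ∈ scalars (Fin n) F := by
      intro h x hx y hy
      rw [mem_cj] at hx hy
      obtain ⟨x', hx', rfl⟩ := hx
      obtain ⟨y', hy', rfl⟩ := hy
      have h2 : x' * y' * x'⁻¹ * y'⁻¹ ∈ scalars (Fin n) F := by
        apply h1
        have := Subgroup.commutator_mem_commutator hx' hy'
        rwa [commutatorElement_def] at this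
      have h3 := scalars_conj_mem h2 h
      have : h * x' * h⁻¹ * (h * y' * h⁻¹) * (h * x' * h⁻¹)⁻¹ * (h * y' * h⁻¹)⁻¹ =
          h * (x' * y' * x'⁻¹ * y'⁻¹) * h⁻¹ := by
        group
      rw [this]
      exact h3
    have hall : ∀ h₁ ∈ H, ∀ h₂ ∈ H, ∀ x ∈ cj h₁ M, ∀ y ∈ cj h₂ M,
        x * y * x⁻¹ * y⁻¹ ∈ scalars (Fin n) F := by
      intro h₁ hh₁ h₂ hh₂ x hx y hy
      by_cases he : cj h₁ M = cj h₂ M
      · exact hab h₂ x (he ▸ hx) y hy
      · exact hcm h₁ hh₁ h₂ hh₂ he x hx y hy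
    -- pass to the quotient by the scalars
    let π := QuotientGroup.mk' (scalars (Fin n) F)
    have hπ : ∀ x y : GL (Fin n) F, x * y * x⁻¹ * y⁻¹ ∈ scalars (Fin n) F ↔ π x * π y = π y * π x := by
      intro x y
      rw [← map_mul, ← map_mul]
      change _ ↔ (QuotientGroup.mk (x * y) : GL (Fin n) F ⧸ scalars (Fin n) F) = QuotientGroup.mk (y * x)
      rw [eq_comm, QuotientGroup.eq]
      have key : (y * x)⁻¹ * (x * y) = (y * x)⁻¹ * (x * y * x⁻¹ * y⁻¹) * ((y * x)⁻¹)⁻¹ := by group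
      rw [key]
      constructor
      · intro h
        exact scalars_conj_mem h _
      · intro h
        have h2 := scalars_conj_mem h (y * x)
        have h3 : (y * x) * ((y * x)⁻¹ * (x * y * x⁻¹ * y⁻¹) * ((y * x)⁻¹)⁻¹) * (y * x)⁻¹ =
            x * y * x⁻¹ * y⁻¹ := by group
        rwa [h3] at h2
    -- step 1: a generator commutes with all of `N`
    have hstep1 : ∀ h₂ ∈ H, ∀ y ∈ cj h₂ M, ∀ x ∈ N, π x * π y = π y * π x := by
      intro h₂ hh₂ y hy x hx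
      have hle : N ≤ (Subgroup.centralizer {π y}).comap π := by
        rw [← hsup]
        apply iSup_le
        intro h₁ x' hx'
        rw [Subgroup.mem_comap, Subgroup.mem_centralizer_iff]
        intro w hw
        rw [Set.mem_singleton_iff] at hw
        subst hw
        exact ((hπ x' y).1 (hall h₁ h₁.2 h₂ hh₂ x' hx' y hy)).symm
      have := hle hx
      rw [Subgroup.mem_comap, Subgroup.mem_centralizer_iff] at this
      exact (this (π y) rfl).symm
    have hstep2 : ∀ x ∈ N, ∀ y ∈ N, π x * π y = π y * π x := by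
      intro x hx y hy
      have hle : N ≤ (Subgroup.centralizer {π x}).comap π := by
        rw [← hsup]
        apply iSup_le
        intro h₂ y' hy'
        rw [Subgroup.mem_comap, Subgroup.mem_centralizer_iff]
        intro w hw
        rw [Set.mem_singleton_iff] at hw
        subst hw
        exact hstep1 h₂ h₂.2 y' hy' x hx
      have := hle hy
      rw [Subgroup.mem_comap, Subgroup.mem_centralizer_iff] at this
      exact this (π x) rfl
    rw [← hperf, Subgroup.commutator_le]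
    intro x hx y hy
    rw [commutatorElement_def]
    exact (hπ x y).2 (hstep2 x hx y hy)

/-- commutators do not see central factors (left) -/
lemma comm_central_left {G : Type*} [Group G] {z : G} (hz : ∀ g, z * g = g * z) (a b : G) :
    (z * a) * b * (z * a)⁻¹ * b⁻¹ = a * b * a⁻¹ * b⁻¹ := by
  calc (z * a) * b * (z * a)⁻¹ * b⁻¹ = z * (a * b * a⁻¹) * z⁻¹ * b⁻¹ := by group
    _ = (a * b * a⁻¹) * z * z⁻¹ * b⁻¹ := by rw [hz]
    _ = a * b * a⁻¹ * b⁻¹ := by group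

/-- commutators do not see central factors (right) -/
lemma comm_central_right {G : Type*} [Group G] {z : G} (hz : ∀ g, z * g = g * z) (a b : G) :
    a * (z * b) * a⁻¹ * (z * b)⁻¹ = a * b * a⁻¹ * b⁻¹ := by
  calc a * (z * b) * a⁻¹ * (z * b)⁻¹ = (a * z) * b * a⁻¹ * b⁻¹ * z⁻¹ := by group
    _ = (z * a) * b * a⁻¹ * b⁻¹ * z⁻¹ := by rw [hz a]
    _ = z * (a * b * a⁻¹ * b⁻¹) * z⁻¹ := by group
    _ = (a * b * a⁻¹ * b⁻¹) * z * z⁻¹ := by rw [hz]
    _ = a * b * a⁻¹ * b⁻¹ := by group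

/-- G2e: a perfect group commuting modulo (central) scalars with `M₁` commutes with `M₁`
(`y ↦ [x,y]` is a homomorphism to an abelian group). -/
theorem commute_of_comm_mod {M₁ M₂ : Subgroup (GL (Fin n) F)} (hp : ⁅M₂, M₂⁆ = M₂)
    (hc : ∀ x ∈ M₁, ∀ y ∈ M₂, x * y * x⁻¹ * y⁻¹ ∈ scalars (Fin n) F) :
    ∀ x ∈ M₁, ∀ y ∈ M₂, x * y = y * x := by
  intro x hx
  have hle : M₂ ≤ Subgroup.centralizer {x} := by
    rw [← hp, Subgroup.commutator_le]
    intro y₁ hy₁ y₂ hy₂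
    rw [Subgroup.mem_centralizer_iff]
    intro w hw
    rw [Set.mem_singleton_iff] at hw
    subst hw
    -- `w y_i w⁻¹ = z_i y_i` with `z_i` central
    have c₁ := scalars_comm (hc w hx y₁ hy₁)
    have c₂ := scalars_comm (hc w hx y₂ hy₂)
    have e₁ : w * y₁ * w⁻¹ = (w * y₁ * w⁻¹ * y₁⁻¹) * y₁ := by group
    have e₂ : w * y₂ * w⁻¹ = (w * y₂ * w⁻¹ * y₂⁻¹) * y₂ := by group
    have h1 : w * (y₁ * y₂ * y₁⁻¹ * y₂⁻¹) * w⁻¹ =
        (w * y₁ * w⁻¹) * (w * y₂ * w⁻¹) * (w * y₁ * w⁻¹)⁻¹ * (w * y₂ * w⁻¹)⁻¹ := by group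
    have h2 : w * (y₁ * y₂ * y₁⁻¹ * y₂⁻¹) * w⁻¹ = y₁ * y₂ * y₁⁻¹ * y₂⁻¹ := by
      rw [h1, e₁, e₂, comm_central_left c₁, comm_central_right c₂]
    rw [commutatorElement_def]
    calc w * (y₁ * y₂ * y₁⁻¹ * y₂⁻¹) = (w * (y₁ * y₂ * y₁⁻¹ * y₂⁻¹) * w⁻¹) * w := by group
      _ = y₁ * y₂ * y₁⁻¹ * y₂⁻¹ * w := by rw [h2]
  intro y hy
  have := hle hy
  rw [Subgroup.mem_centralizer_iff] at this
  exact this x rfl

end Cfsg.Agent.Lib.Helper14.AschLeaf
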