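import Mathlib
import Cfsg.Agent.Lib.Helper20.AschDefs
import Cfsg.Agent.Lib.Helper18.AschA89Defs
import Cfsg.Agent.Lib.Helper14.AschA89G

/-!
S5630 (Aschbacher, helper20), block (A89) (sub-planner helper18): GROUP THEORY leaf
G2f `cfam_of_conjugates` (exact signature of notes/S5630_A89_leaves.lean).  Taker: helper14.
-/

set_option autoImplicit false
set_option linter.unusedSectionVars false
set_option linter.unusedVariables false

namespace Cfsg.Agent.Lib.Helper14.AschLeaf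
open Matrix Cfsg.Geo Cfsg.Agent.Lib.Helper20.Asch Cfsg.Agent.Lib.Helper18.AschA89
open scoped Kronecker

variable {F : Type*} [Field F] [Fintype F] {n : ℕ} {H N : Subgroup (GL (Fin n) F)}

/-- G2f: enumerate the (finitely many) distinct `H`-conjugates of `M`. -/
theorem cfam_of_conjugates {M : Subgroup (GL (Fin n) F)} (hMN : M ≠ N)
    (hsup : (⨆ h : H, cj (h : GL (Fin n) F) M) = N)
    (hmns : ∀ h ∈ H, MinNS N (cj h M))
    (hcomm : ∀ h₁ ∈ H, ∀ h₂ ∈ H, cj h₁ M ≠ cj h₂ M →
      ∀ x ∈ cj h₁ M, ∀ y ∈ cj h₂ M, x * y = y * x) :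
    ∃ (r : ℕ) (Nf : Fin r → Subgroup (GL (Fin n) F)), CFam H N r Nf := by
  classical
  let C : Set (Subgroup (GL (Fin n) F)) := Set.range (fun h : H => cj (h : GL (Fin n) F) M)
  have hCfin : Finite C := (Set.finite_range _).to_subtype
  let e : C ≃ Fin (Nat.card C) := Finite.equivFin C
  let Nf : Fin (Nat.card C) → Subgroup (GL (Fin n) F) := fun i => ((e.symm i : C) : Subgroup (GL (Fin n) F))
  have hNfinj : Function.Injective Nf := by
    intro i j hij
    have : (e.symm i : C) = e.symm j := Subtype.ext hij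
    exact e.symm.injective this
  have ha : ∀ i, ∃ h ∈ H, Nf i = cj h M := by
    intro i
    obtain ⟨h, hh⟩ := (e.symm i).2
    exact ⟨h, h.2, hh.symm⟩
  have hb : ∀ h ∈ H, ∃ i, Nf i = cj h M := by
    intro h hh
    refine ⟨e ⟨cj h M, ⟨⟨h, hh⟩, rfl⟩⟩, ?_⟩
    change ((e.symm (e ⟨cj h M, _⟩) : C) : Subgroup (GL (Fin n) F)) = cj h M
    rw [Equiv.symm_apply_apply]
  refine ⟨Nat.card C, Nf, ?_, ?_, ?_, ?_, ?_, ?_, ?_, ?_⟩
  · -- two_le
    by_contra hlt
    push Not at hlt
    have hsub : Subsingleton C := by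
      rw [← Finite.card_le_one_iff_subsingleton]
      omega
    have hconst : ∀ h : H, cj (h : GL (Fin n) F) M = M := by
      intro h
      have h1 : (⟨cj (h : GL (Fin n) F) M, ⟨h, rfl⟩⟩ : C) = ⟨cj (1 : GL (Fin n) F) M, ⟨⟨1, H.one_mem⟩, rfl⟩⟩ :=
        Subsingleton.elim _ _
      have h2 := congrArg (fun X : C => (X : Subgroup (GL (Fin n) F))) h1
      simpa [cj_one] using h2
    apply hMN
    rw [← hsup]
    apply le_antisymm
    · have := le_iSup (fun h : H => cj (h : GL (Fin n) F) M) ⟨1, H.one_mem⟩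
      simpa [cj_one] using this
    · apply iSup_le
      intro h
      rw [hconst h]
  · -- le
    intro i
    obtain ⟨h, hh, hi⟩ := ha i
    rw [hi]
    exact (hmns h hh).1
  · -- ns
    intro i
    obtain ⟨h, hh, hi⟩ := ha i
    rw [hi]
    exact (hmns h hh).2.2.1
  · -- comm
    intro i j hij x hx y hy
    obtain ⟨h₁, hh₁, hi⟩ := ha i
    obtain ⟨h₂, hh₂, hj⟩ := ha j
    have hne : cj h₁ M ≠ cj h₂ M := by
      intro heq
      apply hij
      apply hNfinj
      rw [hi, hj, heq]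
    rw [hi] at hx
    rw [hj] at hy
    exact hcomm h₁ hh₁ h₂ hh₂ hne x hx y hy
  · -- sup
    rw [← hsup]
    apply le_antisymm
    · apply iSup_le
      intro i
      obtain ⟨h, hh, hi⟩ := ha i
      rw [hi]
      exact le_iSup (fun h : H => cj (h : GL (Fin n) F) M) ⟨h, hh⟩
    · apply iSup_le
      intro h
      obtain ⟨i, hi⟩ := hb h h.2
      rw [← hi]
      exact le_iSup Nf i
  · -- normN
    intro i
    obtain ⟨h, hh, hi⟩ := ha i
    rw [hi]
    exact (hmns h hh).2.1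
  · -- perm
    intro g hg
    have hmemC : ∀ (g' : GL (Fin n) F), g' ∈ H → ∀ X : C, cj g' (X : Subgroup (GL (Fin n) F)) ∈ C := by
      intro g' hg' X
      obtain ⟨h, hh⟩ := X.2
      refine ⟨⟨g' * h, H.mul_mem hg' h.2⟩, ?_⟩
      change cj (g' * (h : GL (Fin n) F)) M = cj g' X
      rw [← hh, cj_cj]
    let f : Equiv.Perm C :=
      { toFun := fun X => ⟨cj g X, hmemC g hg X⟩
        invFun := fun X => ⟨cj g⁻¹ X, hmemC g⁻¹ (H.inv_mem hg) X⟩
        left_inv := fun X => Subtype.ext (cj_inv_cj g X)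
        right_inv := fun X => Subtype.ext (cj_cj_inv g X) }
    refine ⟨(e.symm.trans f).trans e, ?_⟩
    intro i
    change cj g (Nf i) = ((e.symm (e (f (e.symm i))) : C) : Subgroup (GL (Fin n) F))
    rw [Equiv.symm_apply_apply]
    rfl
  · -- trans
    intro i j
    obtain ⟨h₁, hh₁, hi⟩ := ha i
    obtain ⟨h₂, hh₂, hj⟩ := ha j
    refine ⟨h₂ * h₁⁻¹, H.mul_mem hh₂ (H.inv_mem hh₁), ?_⟩
    rw [hi, hj, cj_cj, inv_mul_cancel_right]

end Cfsg.Agent.Lib.Helper14.AschLeaf
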