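import Mathlib
import Cfsg.Agent.Lib.Helper20.AschDefs
import Cfsg.Agent.Lib.Helper18.AschA89Defs

/-!
S5630 (Aschbacher, helper20), block (A89) (sub-planner helper18): GROUP THEORY leaf
SIMP `simple_of_core` (exact signature of notes/S5630_A89_leaves.lean).  Taker: helper14.
-/

set_option autoImplicit false
set_option linter.unusedSectionVars false
set_option linter.unusedVariables false

namespace Cfsg.Agent.Lib.Helper14.AschLeaf
open Matrix Cfsg.Geo Cfsg.Agent.Lib.Helper20.Asch Cfsg.Agent.Lib.Helper18.AschA89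
open scoped Kronecker

variable {F : Type*} [Field F] [Fintype F] {n : ℕ} {H N : Subgroup (GL (Fin n) F)}

/-- SIMP: from the core statement to simplicity of `N` modulo scalars (quotient group API). -/
theorem simple_of_core (hns : ¬ N ≤ scalars (Fin n) F)
    (hcore : ∀ K : Subgroup (GL (Fin n) F), K ≤ N → NormBy N K → ¬ K ≤ scalars (Fin n) F → K ≠ N → Geo H) :
    Geo H ∨ IsSimpleGroup (N ⧸ (scalars (Fin n) F).subgroupOf N) := by
  classical
  by_cases hG : Geo H
  · exact Or.inl hG
  right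
  have hall : ∀ K : Subgroup (GL (Fin n) F), K ≤ N → NormBy N K → K ≤ scalars (Fin n) F ∨ K = N := by
    intro K hK hKn
    by_contra hcon
    push Not at hcon
    exact hG (hcore K hK hKn hcon.1 hcon.2)
  have hnt : Nontrivial (N ⧸ (scalars (Fin n) F).subgroupOf N) := by
    by_contra hcon
    rw [not_nontrivial_iff_subsingleton] at hcon
    have h1 := QuotientGroup.subgroup_eq_top_of_subsingleton _ hcon
    rw [Subgroup.subgroupOf_eq_top] at h1
    exact hns h1
  refine { toNontrivial := hnt, eq_bot_or_eq_top_of_normal := ?_ }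
  intro Kb hKb
  obtain ⟨K', hK'def⟩ : ∃ K' : Subgroup N,
      K' = Kb.comap (QuotientGroup.mk' ((scalars (Fin n) F).subgroupOf N)) := ⟨_, rfl⟩
  have hK'mem : ∀ x : N, x ∈ K' ↔
      (QuotientGroup.mk x : N ⧸ (scalars (Fin n) F).subgroupOf N) ∈ Kb := by
    intro x
    rw [hK'def]
    rfl
  have hK'n : K'.Normal := by
    rw [hK'def]
    exact Subgroup.Normal.comap hKb _
  obtain ⟨K, hKdef⟩ : ∃ K : Subgroup (GL (Fin n) F), K = K'.map N.subtype := ⟨_, rfl⟩
  have hKN : K ≤ N := by rw [hKdef]; exact Subgroup.map_subtype_le K'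
  have hKmem : ∀ x : N, (x : GL (Fin n) F) ∈ K ↔ x ∈ K' := by
    intro x
    rw [hKdef]
    constructor
    · rintro ⟨x'', hx'', hxx⟩
      have : x'' = x := Subtype.ext hxx
      rwa [this] at hx''
    · intro hx
      exact ⟨x, hx, rfl⟩
  have hKnorm : NormBy N K := by
    intro y hy x hx
    have hxN : x ∈ N := hKN hx
    have h1 : (⟨x, hxN⟩ : N) ∈ K' := (hKmem ⟨x, hxN⟩).1 hx
    have h2 := hK'n.conj_mem ⟨x, hxN⟩ h1 ⟨y, hy⟩
    exact (hKmem _).2 h2
  rcases hall K hKN hKnorm with h1 | h1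
  · left
    rw [eq_bot_iff]
    intro q hq
    obtain ⟨x', rfl⟩ := QuotientGroup.mk_surjective q
    have hx' : x' ∈ K' := (hK'mem x').2 hq
    have h2 : (x' : GL (Fin n) F) ∈ scalars (Fin n) F := h1 ((hKmem x').2 hx')
    rw [Subgroup.mem_bot, QuotientGroup.eq_one_iff]
    exact h2
  · right
    rw [eq_top_iff]
    intro q _
    obtain ⟨x', rfl⟩ := QuotientGroup.mk_surjective q
    have h2 : (x' : GL (Fin n) F) ∈ K := h1 ▸ x'.2
    exact (hK'mem x').1 ((hKmem x').1 h2)

end Cfsg.Agent.Lib.Helper14.AschLeaf
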