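import Mathlib
import Cfsg.Prelude.Def_Sporadic_a

set_option autoImplicit false

/-!
# Basic facts on the binary Golay code `Cfsg.golayCode`

Self-orthogonality, double evenness, closure of supports under symmetric difference.
-/

namespace Cfsg.Agent.Lib.Helper14.Golay

open Cfsg

/-- The dot product of binary words. -/
def dot (a b : GolayPt → ZMod 2) : ZMod 2 := ∑ p, a p * b p

theorem dot_add_left (a b c : GolayPt → ZMod 2) : dot (a + b) c = dot a c + dot b c := by
  unfold dot
  rw [← Finset.sum_add_distrib]
  refine Finset.sum_congr rfl fun p _ => ?_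
  rw [Pi.add_apply, add_mul]

theorem dot_add_right (a b c : GolayPt → ZMod 2) : dot a (b + c) = dot a b + dot a c := by
  unfold dot
  rw [← Finset.sum_add_distrib]
  refine Finset.sum_congr rfl fun p _ => ?_
  rw [Pi.add_apply, mul_add]

theorem dot_smul_left (k : ZMod 2) (a c : GolayPt → ZMod 2) : dot (k • a) c = k * dot a c := by
  unfold dot
  rw [Finset.mul_sum]
  refine Finset.sum_congr rfl fun p _ => ?_
  rw [Pi.smul_apply, smul_eq_mul, mul_assoc]

theorem dot_smul_right (k : ZMod 2) (a c : GolayPt → ZMod 2) : dot a (k • c) = k * dot a c := by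
  unfold dot
  rw [Finset.mul_sum]
  refine Finset.sum_congr rfl fun p _ => ?_
  rw [Pi.smul_apply, smul_eq_mul]
  ring

theorem dot_zero_left (c : GolayPt → ZMod 2) : dot 0 c = 0 := by
  unfold dot
  simp

theorem dot_zero_right (c : GolayPt → ZMod 2) : dot c 0 = 0 := by
  unfold dot
  simp

set_option maxRecDepth 100000 in
theorem qr_dot : ∀ s t : ZMod 23, ∑ p : GolayPt, qrWord s p * qrWord t p = 0 := by
  decide +kernel

set_option maxRecDepth 100000 in
theorem qr_wt : ∀ t : ZMod 23, (support₂ (qrWord t)).card = 12 := by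
  decide +kernel

set_option maxRecDepth 100000 in
theorem one_dot_qr : ∀ t : ZMod 23, ∑ p : GolayPt, (1 : GolayPt → ZMod 2) p * qrWord t p = 0 := by
  decide +kernel

set_option maxRecDepth 100000 in
theorem qr_dot_one : ∀ t : ZMod 23, ∑ p : GolayPt, qrWord t p * (1 : GolayPt → ZMod 2) p = 0 := by
  decide +kernel

set_option maxRecDepth 100000 in
theorem one_dot_one : ∑ p : GolayPt, (1 : GolayPt → ZMod 2) p * (1 : GolayPt → ZMod 2) p = 0 := by
  decide +kernel

set_option maxRecDepth 100000 in
theorem one_wt : (support₂ (1 : GolayPt → ZMod 2)).card = 24 := by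
  decide +kernel

theorem dot_gen_gen (g h : GolayPt → ZMod 2) (hg : g ∈ Set.range qrWord ∪ {1})
    (hh : h ∈ Set.range qrWord ∪ {1}) : dot g h = 0 := by
  unfold dot
  rcases hg with ⟨s, rfl⟩ | hg
  · rcases hh with ⟨t, rfl⟩ | hh
    · exact qr_dot s t
    · rw [Set.mem_singleton_iff] at hh
      rw [hh]
      exact qr_dot_one s
  · rw [Set.mem_singleton_iff] at hg
    rw [hg]
    rcases hh with ⟨t, rfl⟩ | hh
    · exact one_dot_qr t
    · rw [Set.mem_singleton_iff] at hh
      rw [hh]
      exact one_dot_one

theorem dot_gen_span (g b : GolayPt → ZMod 2) (hg : g ∈ Set.range qrWord ∪ {1})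
    (hb : b ∈ golayCode) : dot g b = 0 := by
  unfold golayCode at hb
  induction hb using Submodule.span_induction with
  | mem h hh => exact dot_gen_gen g h hg hh
  | zero => exact dot_zero_right g
  | add x y _ _ hx hy => rw [dot_add_right, hx, hy, add_zero]
  | smul k x _ hx => rw [dot_smul_right, hx, mul_zero]

/-- The Golay code is self-orthogonal. -/
theorem selfOrth (a b : GolayPt → ZMod 2) (ha : a ∈ golayCode) (hb : b ∈ golayCode) :
    dot a b = 0 := by
  have ha' := ha
  unfold golayCode at ha'
  induction ha' using Submodule.span_induction with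
  | mem g hg => exact dot_gen_span g b hg hb
  | zero => exact dot_zero_left b
  | add x y hx hy hx' hy' =>
    rw [dot_add_left, hx' (by unfold golayCode; exact hx), hy' (by unfold golayCode; exact hy),
      add_zero]
  | smul k x hx hx' => rw [dot_smul_left, hx' (by unfold golayCode; exact hx), mul_zero]

theorem zmod2_cases : ∀ x : ZMod 2, x = 0 ∨ x = 1 := by decide

theorem zmod2_ne_zero_iff : ∀ x : ZMod 2, x ≠ 0 ↔ x = 1 := by decide

theorem zmod2_add_ne_zero_iff : ∀ x y : ZMod 2, x + y ≠ 0 ↔ ¬(x ≠ 0 ↔ y ≠ 0) := by decide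

theorem zmod2_mul_eq : ∀ x y : ZMod 2, x * y = if (x ≠ 0 ∧ y ≠ 0) then 1 else 0 := by decide

theorem support₂_add (a b : GolayPt → ZMod 2) :
    support₂ (a + b) = symmDiff (support₂ a) (support₂ b) := by
  ext p
  unfold support₂
  simp only [Finset.mem_filter, Finset.mem_univ, true_and, Finset.mem_symmDiff, Pi.add_apply]
  rw [zmod2_add_ne_zero_iff]
  tauto

theorem dot_eq_card (a b : GolayPt → ZMod 2) :
    dot a b = ((support₂ a ∩ support₂ b).card : ZMod 2) := by
  unfold dot support₂
  rw [Finset.card_eq_sum_ones, Nat.cast_sum, ← Finset.filter_and, Finset.sum_filter]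
  refine Finset.sum_congr rfl fun p _ => ?_
  rw [zmod2_mul_eq]
  simp

theorem card_symmDiff_add (A B : Finset GolayPt) :
    (symmDiff A B).card + 2 * (A ∩ B).card = A.card + B.card := by
  have h1 : symmDiff A B = (A \ B) ∪ (B \ A) := rfl
  have hd : Disjoint (A \ B) (B \ A) := by
    rw [Finset.disjoint_left]
    intro x hx hx'
    rw [Finset.mem_sdiff] at hx hx'
    exact hx.2 hx'.1
  rw [h1, Finset.card_union_of_disjoint hd]
  have h2 := Finset.card_sdiff_add_card_inter A B
  have h3 := Finset.card_sdiff_add_card_inter B A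
  rw [Finset.inter_comm B A] at h3
  omega

/-- Two codewords meet evenly. -/
theorem even_card_inter (a b : GolayPt → ZMod 2) (ha : a ∈ golayCode) (hb : b ∈ golayCode) :
    2 ∣ (support₂ a ∩ support₂ b).card := by
  have h := selfOrth a b ha hb
  rw [dot_eq_card] at h
  exact (ZMod.natCast_eq_zero_iff _ 2).mp h

/-- The Golay code is doubly even. -/
theorem four_dvd_card (a : GolayPt → ZMod 2) (ha : a ∈ golayCode) :
    4 ∣ (support₂ a).card := by
  have ha' := ha
  unfold golayCode at ha'
  induction ha' using Submodule.span_induction with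
  | mem g hg =>
    rcases hg with ⟨t, rfl⟩ | hg
    · rw [qr_wt]; decide
    · rw [Set.mem_singleton_iff] at hg
      rw [hg, one_wt]; decide
  | zero =>
    have : support₂ (0 : GolayPt → ZMod 2) = ∅ := by
      unfold support₂
      simp
    rw [this]; simp
  | add x y hx hy hx' hy' =>
    have hxg : x ∈ golayCode := by unfold golayCode; exact hx
    have hyg : y ∈ golayCode := by unfold golayCode; exact hy
    have h1 := hx' hxg
    have h2 := hy' hyg
    have h3 := even_card_inter x y hxg hyg
    have h4 := card_symmDiff_add (support₂ x) (support₂ y)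
    rw [support₂_add]
    omega
  | smul k x hx hx' =>
    have hxg : x ∈ golayCode := by unfold golayCode; exact hx
    have hk : k = 0 ∨ k = 1 := zmod2_cases k
    rcases hk with rfl | rfl
    · rw [zero_smul]
      have : support₂ (0 : GolayPt → ZMod 2) = ∅ := by
        unfold support₂
        simp
      rw [this]; simp
    · rw [one_smul]; exact hx' hxg

/-! ### Set-level statements -/

theorem mem_supports_iff (c : Finset GolayPt) :
    c ∈ supports (golayCode : Set (GolayPt → ZMod 2)) ↔ ∃ w ∈ golayCode, support₂ w = c :=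
  Iff.rfl

theorem supports_four_dvd (c : Finset GolayPt)
    (hc : c ∈ supports (golayCode : Set (GolayPt → ZMod 2))) : 4 ∣ c.card := by
  obtain ⟨w, hw, rfl⟩ := hc
  exact four_dvd_card w hw

theorem supports_even_inter (c d : Finset GolayPt)
    (hc : c ∈ supports (golayCode : Set (GolayPt → ZMod 2)))
    (hd : d ∈ supports (golayCode : Set (GolayPt → ZMod 2))) : 2 ∣ (c ∩ d).card := by
  obtain ⟨w, hw, rfl⟩ := hc
  obtain ⟨v, hv, rfl⟩ := hd
  exact even_card_inter w v hw hv

theorem supports_symmDiff (c d : Finset GolayPt)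
    (hc : c ∈ supports (golayCode : Set (GolayPt → ZMod 2)))
    (hd : d ∈ supports (golayCode : Set (GolayPt → ZMod 2))) :
    symmDiff c d ∈ supports (golayCode : Set (GolayPt → ZMod 2)) := by
  obtain ⟨w, hw, rfl⟩ := hc
  obtain ⟨v, hv, rfl⟩ := hd
  exact ⟨w + v, Submodule.add_mem _ hw hv, support₂_add w v⟩

theorem supports_empty : (∅ : Finset GolayPt) ∈ supports (golayCode : Set (GolayPt → ZMod 2)) := by
  refine ⟨0, Submodule.zero_mem _, ?_⟩
  unfold support₂
  simp

end Cfsg.Agent.Lib.Helper14.Golay
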