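import Mathlib
import Cfsg.Prelude.Def_Sporadic_a
import Cfsg.Agent.Lib.Helper14.Golay

set_option autoImplicit false

/-!
# The Leech lattice `Cfsg.leechLattice`: `leechSet` is a subgroup, norms are divisible by 16
-/

namespace Cfsg.Agent.Lib.Helper14.Leech

open Cfsg Cfsg.Agent.Lib.Helper14.Golay

theorem val_cases : ∀ z : ZMod 2, z.val = 0 ∨ z.val = 1 := by decide

theorem ne_zero_iff_val : ∀ z : ZMod 2, z ≠ 0 ↔ z.val = 1 := by decide

theorem add_one_ne_zero_iff_val : ∀ z : ZMod 2, z + 1 ≠ 0 ↔ z.val = 0 := by decide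

theorem val_add_mod : ∀ a b : ZMod 2, (a + b).val % 2 = (a.val + b.val) % 2 := by decide

theorem one_mem_golay : (1 : GolayPt → ZMod 2) ∈ golayCode := by
  unfold golayCode
  exact Submodule.subset_span (Or.inr rfl)

/-- Characterisation of `leechSet` by a single codeword. -/
theorem mem_leechSet_iff (x : GolayPt → ℤ) :
    x ∈ leechSet ↔ ∃ m : ℤ, ∃ w ∈ golayCode,
      (∀ i, x i % 4 = (m + 2 * ((w i).val : ℤ)) % 4) ∧ (∑ i, x i) % 8 = (4 * m) % 8 := by
  constructor
  · rintro ⟨m, h1, h2, h3⟩
    obtain ⟨w, hw, hwA⟩ := h3 (m + 2)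
    refine ⟨m, w, hw, ?_, h2⟩
    intro i
    have hi : x i % 2 = m % 2 := h1 i
    have hmem : w i ≠ 0 ↔ x i % 4 = (m + 2) % 4 := by
      have : i ∈ support₂ w ↔ i ∈ (Finset.univ.filter fun i => x i ≡ m + 2 [ZMOD 4]) := by
        rw [hwA]
      unfold support₂ at this
      simp only [Finset.mem_filter, Finset.mem_univ, true_and] at this
      exact this
    rcases val_cases (w i) with hv | hv
    · have h0 : ¬ (w i ≠ 0) := by
        rw [ne_zero_iff_val, hv]; decide
      rw [hmem] at h0
      rw [hv]
      push_cast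
      omega
    · have h0 : w i ≠ 0 := (ne_zero_iff_val _).mpr hv
      rw [hmem] at h0
      rw [hv]
      push_cast
      omega
  · rintro ⟨m, w, hw, h1, h2⟩
    refine ⟨m, ?_, h2, ?_⟩
    · intro i
      have := h1 i
      change x i % 2 = m % 2
      omega
    · intro k
      by_cases hk0 : k % 4 = m % 4
      · refine ⟨w + 1, Submodule.add_mem _ hw one_mem_golay, ?_⟩
        ext i
        unfold support₂
        simp only [Finset.mem_filter, Finset.mem_univ, true_and, Pi.add_apply, Pi.one_apply]
        rw [add_one_ne_zero_iff_val]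
        have := h1 i
        change _ ↔ x i % 4 = k % 4
        rcases val_cases (w i) with hv | hv
        · rw [hv] at this ⊢
          push_cast at this
          constructor
          · intro _; omega
          · intro _; trivial
        · rw [hv] at this ⊢
          push_cast at this
          constructor
          · intro h; omega
          · intro h; omega
      · by_cases hk2 : k % 4 = (m + 2) % 4
        · refine ⟨w, hw, ?_⟩
          ext i
          unfold support₂
          simp only [Finset.mem_filter, Finset.mem_univ, true_and]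
          rw [ne_zero_iff_val]
          have := h1 i
          change _ ↔ x i % 4 = k % 4
          rcases val_cases (w i) with hv | hv
          · rw [hv] at this ⊢
            push_cast at this
            constructor
            · intro h; omega
            · intro h; omega
          · rw [hv] at this ⊢
            push_cast at this
            constructor
            · intro _; omega
            · intro _; trivial
        · have : (Finset.univ.filter fun i => x i ≡ k [ZMOD 4]) = ∅ := by
            rw [Finset.filter_eq_empty_iff]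
            intro i _
            have := h1 i
            change ¬ (x i % 4 = k % 4)
            rcases val_cases (w i) with hv | hv
            · rw [hv] at this
              push_cast at this
              omega
            · rw [hv] at this
              push_cast at this
              omega
          rw [this]
          exact supports_empty

/-- `leechSet` as an additive subgroup. -/
def leechSubgroup : AddSubgroup (GolayPt → ℤ) where
  carrier := leechSet
  zero_mem' := by
    rw [mem_leechSet_iff]
    exact ⟨0, 0, Submodule.zero_mem _, by simp, by simp⟩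
  add_mem' := by
    intro x y hx hy
    rw [mem_leechSet_iff] at hx hy ⊢
    obtain ⟨m, w, hw, h1, h2⟩ := hx
    obtain ⟨n, v, hv, g1, g2⟩ := hy
    refine ⟨m + n, w + v, Submodule.add_mem _ hw hv, ?_, ?_⟩
    · intro i
      have a1 := h1 i
      have a2 := g1 i
      have a3 : (((w + v) i).val : ℤ) % 2 = (((w i).val : ℤ) + ((v i).val : ℤ)) % 2 := by
        have := val_add_mod (w i) (v i)
        rw [Pi.add_apply]
        exact_mod_cast this
      rw [Pi.add_apply]
      omega
    · rw [show (∑ i, (x + y) i) = ∑ i, x i + ∑ i, y i by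
        rw [← Finset.sum_add_distrib]; rfl]
      omega
  neg_mem' := by
    intro x hx
    rw [mem_leechSet_iff] at hx ⊢
    obtain ⟨m, w, hw, h1, h2⟩ := hx
    refine ⟨-m, w, hw, ?_, ?_⟩
    · intro i
      have a1 := h1 i
      have a2 := val_cases (w i)
      rw [Pi.neg_apply]
      rcases a2 with hv | hv
      · rw [hv] at a1 ⊢
        push_cast at a1 ⊢
        omega
      · rw [hv] at a1 ⊢
        push_cast at a1 ⊢
        omega
    · rw [show (∑ i, (-x) i) = -∑ i, x i by
        rw [← Finset.sum_neg_distrib]; rfl]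
      omega

theorem coe_leechSubgroup : (leechSubgroup : Set (GolayPt → ℤ)) = leechSet := rfl

theorem leechLattice_eq : leechLattice = leechSubgroup := by
  unfold leechLattice
  rw [← coe_leechSubgroup, AddSubgroup.closure_eq]

theorem mem_leechLattice_iff (x : GolayPt → ℤ) : x ∈ leechLattice ↔ x ∈ leechSet := by
  rw [leechLattice_eq]; rfl

/-! ### Divisibility of norms -/

theorem card_golayPt : Fintype.card GolayPt = 24 := by decide

theorem sum_val_eq_card (w : GolayPt → ZMod 2) :
    ∑ i, ((w i).val : ℤ) = ((support₂ w).card : ℤ) := by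
  unfold support₂
  rw [Finset.card_eq_sum_ones, Finset.sum_filter]
  push_cast
  refine Finset.sum_congr rfl fun i _ => ?_
  rcases val_cases (w i) with hv | hv
  · have h0 : ¬ (w i ≠ 0) := by
      rw [ne_zero_iff_val, hv]; decide
    rw [if_neg h0, hv]; rfl
  · have h0 : w i ≠ 0 := (ne_zero_iff_val _).mpr hv
    rw [if_pos h0, hv]; rfl

/-- Decomposition of a vector of `leechSet`: `x i = m + 2 v i + 4 t i` with `v` a codeword,
and `m + ∑ t` even. -/
theorem exists_decomp (x : GolayPt → ℤ) (hx : x ∈ leechSet) :
    ∃ (m : ℤ) (w : GolayPt → ZMod 2) (t : GolayPt → ℤ), w ∈ golayCode ∧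
      (∀ i, x i = m + 2 * ((w i).val : ℤ) + 4 * t i) ∧ (2 : ℤ) ∣ m + ∑ i, t i := by
  rw [mem_leechSet_iff] at hx
  obtain ⟨m, w, hw, h1, h2⟩ := hx
  have hex : ∀ i, ∃ t : ℤ, x i = m + 2 * ((w i).val : ℤ) + 4 * t := by
    intro i
    have := h1 i
    refine ⟨(x i - (m + 2 * ((w i).val : ℤ))) / 4, ?_⟩
    omega
  choose t ht using hex
  refine ⟨m, w, t, hw, ht, ?_⟩
  obtain ⟨W', hW'⟩ : (4 : ℤ) ∣ ((support₂ w).card : ℤ) := by
    exact_mod_cast four_dvd_card w hw
  have hsum : ∑ i, x i = 24 * m + 2 * ((support₂ w).card : ℤ) + 4 * ∑ i, t i := by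
    rw [Finset.sum_congr rfl (fun i _ => ht i), Finset.sum_add_distrib, Finset.sum_add_distrib,
      Finset.sum_const, ← Finset.mul_sum, ← Finset.mul_sum, sum_val_eq_card, Finset.card_univ,
      card_golayPt]
    simp
  rw [hsum, hW'] at h2
  omega

theorem sixteen_dvd_sqNorm (x : GolayPt → ℤ) (hx : x ∈ leechSet) : (16 : ℤ) ∣ sqNorm x := by
  obtain ⟨m, w, t, hw, ht, ⟨s, hs⟩⟩ := exists_decomp x hx
  obtain ⟨W', hW'⟩ : (4 : ℤ) ∣ ((support₂ w).card : ℤ) := by
    exact_mod_cast four_dvd_card w hw
  have hpt : ∀ i, x i ^ 2 = 16 * (t i ^ 2 + ((w i).val : ℤ) * t i)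
      + (m ^ 2 + 4 * (1 + m) * ((w i).val : ℤ) + 8 * m * t i) := by
    intro i
    have hvv : ((w i).val : ℤ) * ((w i).val : ℤ) = ((w i).val : ℤ) := by
      rcases val_cases (w i) with hv | hv <;> simp [hv]
    rw [ht i]
    linear_combination (4 : ℤ) * hvv
  have hsq : sqNorm x = 16 * (∑ i, (t i ^ 2 + ((w i).val : ℤ) * t i))
      + (24 * m ^ 2 + 4 * (1 + m) * ((support₂ w).card : ℤ) + 8 * m * ∑ i, t i) := by
    unfold sqNorm
    have e1 : ∑ i, (m ^ 2 + 4 * (1 + m) * ((w i).val : ℤ) + 8 * m * t i)
        = 24 * m ^ 2 + 4 * (1 + m) * ((support₂ w).card : ℤ) + 8 * m * ∑ i, t i := by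
      rw [Finset.sum_add_distrib, Finset.sum_add_distrib, Finset.sum_const, ← Finset.mul_sum,
        ← Finset.mul_sum, sum_val_eq_card, Finset.card_univ, card_golayPt]
      simp
    rw [Finset.sum_congr rfl (fun i _ => hpt i), Finset.sum_add_distrib, ← Finset.mul_sum, e1]
  refine ⟨∑ i, (t i ^ 2 + ((w i).val : ℤ) * t i) + m ^ 2 + m * s + (1 + m) * W', ?_⟩
  rw [hsq]
  linear_combination (8 * m) * hs + (4 * (1 + m)) * hW'

theorem sixteen_dvd_sqNorm_lattice (x : GolayPt → ℤ) (hx : x ∈ leechLattice) :
    (16 : ℤ) ∣ sqNorm x :=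
  sixteen_dvd_sqNorm x ((mem_leechLattice_iff x).mp hx)

end Cfsg.Agent.Lib.Helper14.Leech
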