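import Mathlib
import Cfsg.Prelude.Def_Sporadic_a
import Cfsg.Agent.Lib.Helper14.Golay

set_option autoImplicit false

/-!
# The binary Golay code has minimum weight 8

A word of weight 4 orthogonal to all translates of the quadratic residue word does not exist:
brute force over 3- and 4-subsets of `ZMod 23`, by a Boolean computation on natural numbers.
-/

namespace Cfsg.Agent.Lib.Helper14.GolayMin

open Cfsg Cfsg.Agent.Lib.Helper14.Golay

/-- Bit mask of the squares modulo 23 (zero included). -/
def sqB (n : ℕ) : Bool := Nat.testBit 340831 n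

/-- Indicator of `x - t` being a square modulo 23. -/
def indQ (x t : ℕ) : ℕ := if sqB ((x + 23 - t) % 23) then 1 else 0

def chk4 : Bool :=
  (List.range 23).all fun a => (List.range a).all fun b => (List.range b).all fun c =>
    (List.range c).all fun d => (List.range 23).any fun t =>
      (indQ a t + indQ b t + indQ c t + indQ d t) % 2 == 1

def chk3 : Bool :=
  (List.range 23).all fun a => (List.range a).all fun b => (List.range b).all fun c =>
    (List.range 23).any fun t => (indQ a t + indQ b t + indQ c t) % 2 == 1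

theorem chk4_true : chk4 = true := by decide +kernel

theorem chk3_true : chk3 = true := by decide +kernel

theorem chk4_spec (a b c d : ℕ) (ha : a < 23) (hb : b < a) (hc : c < b) (hd : d < c) :
    ∃ t, t < 23 ∧ (indQ a t + indQ b t + indQ c t + indQ d t) % 2 = 1 := by
  have h := chk4_true
  unfold chk4 at h
  simp only [List.all_eq_true, List.any_eq_true, List.mem_range, beq_iff_eq] at h
  exact h a ha b hb c hc d hd

theorem chk3_spec (a b c : ℕ) (ha : a < 23) (hb : b < a) (hc : c < b) :
    ∃ t, t < 23 ∧ (indQ a t + indQ b t + indQ c t) % 2 = 1 := by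
  have h := chk3_true
  unfold chk3 at h
  simp only [List.all_eq_true, List.any_eq_true, List.mem_range, beq_iff_eq] at h
  exact h a ha b hb c hc

theorem nat_check4 (S : Finset ℕ) (hS : ∀ x ∈ S, x < 23) (hcard : S.card = 4) :
    ∃ t, t < 23 ∧ (∑ x ∈ S, indQ x t) % 2 = 1 := by
  have himg : Finset.image (S.orderEmbOfFin hcard) Finset.univ = S :=
    Finset.image_orderEmbOfFin_univ S hcard
  have h01 : S.orderEmbOfFin hcard 0 < S.orderEmbOfFin hcard 1 :=
    (S.orderEmbOfFin hcard).strictMono (by decide)
  have h12 : S.orderEmbOfFin hcard 1 < S.orderEmbOfFin hcard 2 :=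
    (S.orderEmbOfFin hcard).strictMono (by decide)
  have h23 : S.orderEmbOfFin hcard 2 < S.orderEmbOfFin hcard 3 :=
    (S.orderEmbOfFin hcard).strictMono (by decide)
  obtain ⟨t, ht, h⟩ := chk4_spec _ _ _ _ (hS _ (S.orderEmbOfFin_mem hcard 3)) h23 h12 h01
  refine ⟨t, ht, ?_⟩
  rw [← himg, Finset.sum_image (fun a _ b _ hab => (S.orderEmbOfFin hcard).injective hab),
    Fin.sum_univ_four]
  omega

theorem nat_check3 (S : Finset ℕ) (hS : ∀ x ∈ S, x < 23) (hcard : S.card = 3) :
    ∃ t, t < 23 ∧ (∑ x ∈ S, indQ x t) % 2 = 1 := by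
  have himg : Finset.image (S.orderEmbOfFin hcard) Finset.univ = S :=
    Finset.image_orderEmbOfFin_univ S hcard
  have h01 : S.orderEmbOfFin hcard 0 < S.orderEmbOfFin hcard 1 :=
    (S.orderEmbOfFin hcard).strictMono (by decide)
  have h12 : S.orderEmbOfFin hcard 1 < S.orderEmbOfFin hcard 2 :=
    (S.orderEmbOfFin hcard).strictMono (by decide)
  obtain ⟨t, ht, h⟩ := chk3_spec _ _ _ (hS _ (S.orderEmbOfFin_mem hcard 2)) h12 h01
  refine ⟨t, ht, ?_⟩
  rw [← himg, Finset.sum_image (fun a _ b _ hab => (S.orderEmbOfFin hcard).injective hab),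
    Fin.sum_univ_three]
  omega

theorem nat_check (S : Finset ℕ) (hS : ∀ x ∈ S, x < 23) (hcard : S.card = 3 ∨ S.card = 4) :
    ∃ t, t < 23 ∧ (∑ x ∈ S, indQ x t) % 2 = 1 := by
  rcases hcard with h | h
  · exact nat_check3 S hS h
  · exact nat_check4 S hS h

/-! ### Transfer to `ZMod 23` -/

theorem sq_iff_sqB : ∀ y : ZMod 23, (∃ r : ZMod 23, y = r ^ 2) ↔ sqB y.val = true := by
  decide

theorem val_sub_eq : ∀ x t : ZMod 23, (x - t).val = (x.val + 23 - t.val) % 23 := by
  decide

theorem qr_iff (x t : ZMod 23) :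
    (∃ r : ZMod 23, x = r ^ 2 + t) ↔ indQ x.val t.val = 1 := by
  have h1 : (∃ r : ZMod 23, x = r ^ 2 + t) ↔ ∃ r : ZMod 23, x - t = r ^ 2 := by
    constructor
    · rintro ⟨r, hr⟩
      exact ⟨r, by rw [hr]; ring⟩
    · rintro ⟨r, hr⟩
      exact ⟨r, by rw [← hr]; ring⟩
  rw [h1, sq_iff_sqB, val_sub_eq]
  unfold indQ
  split_ifs with h
  · simp [h]
  · simp [h]

theorem zmod_check (S : Finset (ZMod 23)) (hcard : S.card = 3 ∨ S.card = 4) :
    ∃ t : ZMod 23, (S.filter (fun x => ∃ r : ZMod 23, x = r ^ 2 + t)).card % 2 = 1 := by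
  classical
  have hinj : Function.Injective (ZMod.val : ZMod 23 → ℕ) := ZMod.val_injective 23
  have hc : (S.image ZMod.val).card = S.card := Finset.card_image_of_injective S hinj
  obtain ⟨t', ht', h⟩ := nat_check (S.image ZMod.val)
    (by
      intro x hx
      rw [Finset.mem_image] at hx
      obtain ⟨y, _, rfl⟩ := hx
      exact ZMod.val_lt y)
    (by rw [hc]; exact hcard)
  refine ⟨(t' : ZMod 23), ?_⟩
  have htv : ((t' : ZMod 23)).val = t' := ZMod.val_natCast_of_lt ht'
  rw [Finset.sum_image (fun a _ b _ hab => hinj hab)] at h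
  rw [Finset.card_eq_sum_ones, Finset.sum_filter]
  have : ∀ x ∈ S, (if (∃ r : ZMod 23, x = r ^ 2 + (t' : ZMod 23)) then 1 else 0)
      = indQ x.val t' := by
    intro x _
    have hq := qr_iff x (t' : ZMod 23)
    rw [htv] at hq
    have h01 : indQ x.val t' = 0 ∨ indQ x.val t' = 1 := by
      unfold indQ
      split_ifs <;> simp
    by_cases hx : ∃ r : ZMod 23, x = r ^ 2 + (t' : ZMod 23)
    · rw [if_pos hx, hq.mp hx]
    · rw [if_neg hx]
      rcases h01 with h | h
      · exact h.symm
      · exact absurd (hq.mpr h) hx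
  rw [Finset.sum_congr rfl this]
  exact h

/-! ### No codeword of weight 4 -/

theorem support₂_qrWord (t : ZMod 23) :
    support₂ (qrWord t)
      = ((Finset.univ : Finset (ZMod 23)).filter
          (fun x => ∃ r : ZMod 23, x = r ^ 2 + t)).map Function.Embedding.some := by
  classical
  ext p
  unfold support₂
  simp only [Finset.mem_filter, Finset.mem_univ, true_and, Finset.mem_map,
    Function.Embedding.some_apply]
  cases p with
  | none =>
    simp [qrWord]
  | some x =>
    simp only [qrWord, Option.some.injEq, exists_eq_right]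
    split_ifs with h
    · simp [h]
    · simp [h]

theorem no_weight_four (w : GolayPt → ZMod 2) (hw : w ∈ golayCode) :
    (support₂ w).card ≠ 4 := by
  classical
  intro h4
  set T := support₂ w with hT
  set T₀ : Finset (ZMod 23) := T.eraseNone with hT₀
  have hmap : T₀.map Function.Embedding.some = T.erase none := Finset.map_some_eraseNone T
  have hcard₀ : T₀.card = 3 ∨ T₀.card = 4 := by
    have h1 : T₀.card = (T.erase none).card := by
      rw [← hmap, Finset.card_map]
    by_cases hn : none ∈ T
    · left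
      rw [h1, Finset.card_erase_of_mem hn, h4]
    · right
      rw [h1, Finset.erase_eq_of_notMem hn, h4]
  obtain ⟨t, ht⟩ := zmod_check T₀ hcard₀
  have hqr : qrWord t ∈ golayCode := by
    unfold golayCode
    exact Submodule.subset_span (Or.inl ⟨t, rfl⟩)
  have heven := even_card_inter w (qrWord t) hw hqr
  have hinter : support₂ w ∩ support₂ (qrWord t)
      = (T₀.filter (fun x => ∃ r : ZMod 23, x = r ^ 2 + t)).map Function.Embedding.some := by
    rw [support₂_qrWord]
    ext p
    simp only [Finset.mem_inter, Finset.mem_map, Finset.mem_filter, Finset.mem_univ, true_and,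
      Function.Embedding.some_apply]
    constructor
    · rintro ⟨hp, x, hx, rfl⟩
      refine ⟨x, ⟨?_, hx⟩, rfl⟩
      rw [hT₀, Finset.mem_eraseNone]
      exact hp
    · rintro ⟨x, ⟨hx0, hx⟩, rfl⟩
      rw [hT₀, Finset.mem_eraseNone] at hx0
      exact ⟨hx0, x, hx, rfl⟩
  rw [hinter, Finset.card_map] at heven
  omega

/-- The minimum weight of the Golay code is at least 8. -/
theorem eight_le_card (w : GolayPt → ZMod 2) (hw : w ∈ golayCode) (h0 : w ≠ 0) :
    8 ≤ (support₂ w).card := by
  have h4 := four_dvd_card w hw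
  have hne4 := no_weight_four w hw
  have hne0 : (support₂ w).card ≠ 0 := by
    intro h
    apply h0
    rw [Finset.card_eq_zero] at h
    funext p
    by_contra hp
    have : p ∈ support₂ w := by
      unfold support₂
      simp only [Finset.mem_filter, Finset.mem_univ, true_and]
      exact hp
    rw [h] at this
    exact absurd this (Finset.notMem_empty p)
  omega

theorem supports_eight_le (c : Finset GolayPt)
    (hc : c ∈ supports (golayCode : Set (GolayPt → ZMod 2))) (hne : c ≠ ∅) : 8 ≤ c.card := by
  obtain ⟨w, hw, rfl⟩ := hc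
  apply eight_le_card w hw
  rintro rfl
  apply hne
  unfold support₂
  simp

end Cfsg.Agent.Lib.Helper14.GolayMin
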