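import Mathlib
import Cfsg.Prelude.Def_Sporadic_a
import Cfsg.Agent.Lib.Helper14.Golay
import Cfsg.Agent.Lib.Helper14.GolayMin
import Cfsg.Agent.Lib.Helper14.Leech
import Cfsg.Agent.Lib.Helper3.Golay.Weights

set_option autoImplicit false

/-! The 196560 minimal vectors of the Leech lattice. -/

namespace Cfsg.Agent.Lib.Helper14.LeechCount

open Cfsg Cfsg.Agent.Lib.Helper14.Golay Cfsg.Agent.Lib.Helper14.Leech

theorem val_add_one : ∀ z : ZMod 2, ((z + 1).val : ℤ) = 1 - (z.val : ℤ) := by decide

/-- membership with normalised parity -/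
theorem mem_leechSet_iff01 (x : GolayPt → ℤ) :
    x ∈ leechSet ↔ ∃ m : ℤ, (m = 0 ∨ m = 1) ∧ ∃ w ∈ golayCode,
      (∀ i, x i % 4 = (m + 2 * ((w i).val : ℤ)) % 4) ∧ (∑ i, x i) % 8 = (4 * m) % 8 := by
  constructor
  · intro hx
    obtain ⟨m, w, hw, h1, h2⟩ := (mem_leechSet_iff x).mp hx
    have hm : m % 4 = 0 ∨ m % 4 = 1 ∨ m % 4 = 2 ∨ m % 4 = 3 := by omega
    rcases hm with hm | hm | hm | hm
    · refine ⟨0, Or.inl rfl, w, hw, ?_, by omega⟩
      intro i
      have := h1 i
      omega
    · refine ⟨1, Or.inr rfl, w, hw, ?_, by omega⟩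
      intro i
      have := h1 i
      omega
    · refine ⟨0, Or.inl rfl, w + 1, golayCode.add_mem hw one_mem_golay, ?_, by omega⟩
      intro i
      have := h1 i
      have hv := val_add_one (w i)
      rw [Pi.add_apply, Pi.one_apply, hv]
      have := val_cases (w i)
      omega
    · refine ⟨1, Or.inr rfl, w + 1, golayCode.add_mem hw one_mem_golay, ?_, by omega⟩
      intro i
      have := h1 i
      have hv := val_add_one (w i)
      rw [Pi.add_apply, Pi.one_apply, hv]
      have := val_cases (w i)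
      omega
  · rintro ⟨m, _, w, hw, h1, h2⟩
    exact (mem_leechSet_iff x).mpr ⟨m, w, hw, h1, h2⟩

/-! ### signed indicator vectors -/

/-- `c` on `T \ U`, `-c` on `U`, `0` elsewhere -/
def Psi (c : ℤ) (p : (_ : Finset GolayPt) × Finset GolayPt) : GolayPt → ℤ :=
  fun i => if i ∈ p.1 then (if i ∈ p.2 then -c else c) else 0

theorem Psi_apply (c : ℤ) (T U : Finset GolayPt) (i : GolayPt) :
    Psi c ⟨T, U⟩ i = if i ∈ T then (if i ∈ U then -c else c) else 0 := rfl

theorem Psi_ne_zero_iff {c : ℤ} (hc : c ≠ 0) (T U : Finset GolayPt) (i : GolayPt) :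
    Psi c ⟨T, U⟩ i ≠ 0 ↔ i ∈ T := by
  rw [Psi_apply]
  by_cases h : i ∈ T
  · by_cases h' : i ∈ U <;> simp [h, h', hc]
  · simp [h]

theorem Psi_neg_iff {c : ℤ} (hc : 0 < c) (T U : Finset GolayPt) (hU : U ⊆ T) (i : GolayPt) :
    Psi c ⟨T, U⟩ i < 0 ↔ i ∈ U := by
  rw [Psi_apply]
  by_cases h : i ∈ T
  · by_cases h' : i ∈ U
    · simp [h, h', hc]
    · simp only [h, h', if_true, if_false, iff_false, not_lt]
      omega
  · have h' : i ∉ U := fun h' => h (hU h')
    simp [h, h']

theorem Psi_injOn {c : ℤ} (hc : 0 < c) (S : Set ((_ : Finset GolayPt) × Finset GolayPt))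
    (hS : ∀ p ∈ S, p.2 ⊆ p.1) : Set.InjOn (Psi c) S := by
  rintro ⟨T, U⟩ hp ⟨T', U'⟩ hp' h
  have hU := hS _ hp
  have hU' := hS _ hp'
  simp only at hU hU'
  have hT : T = T' := by
    ext i
    rw [← Psi_ne_zero_iff hc.ne' T U i, ← Psi_ne_zero_iff hc.ne' T' U' i, h]
  have hUU : U = U' := by
    ext i
    rw [← Psi_neg_iff hc T U hU i, ← Psi_neg_iff hc T' U' hU' i, h]
  rw [hT, hUU]

theorem sum_Psi (c : ℤ) (T U : Finset GolayPt) (hU : U ⊆ T) :
    ∑ i, Psi c ⟨T, U⟩ i = c * ((T.card : ℤ) - 2 * (U.card : ℤ)) := by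
  have h1 : ∀ i, Psi c ⟨T, U⟩ i = (if i ∈ T then c else 0) - 2 * (if i ∈ U then c else 0) := by
    intro i
    rw [Psi_apply]
    by_cases h : i ∈ T
    · by_cases h' : i ∈ U
      · simp only [h, h', if_true]; ring
      · simp only [h, h', if_true, if_false]; ring
    · have h' : i ∉ U := fun h' => h (hU h')
      simp only [h, h', if_false]; ring
  rw [Finset.sum_congr rfl (fun i _ => h1 i), Finset.sum_sub_distrib, ← Finset.mul_sum,
    Finset.sum_ite_mem, Finset.sum_ite_mem, Finset.univ_inter, Finset.univ_inter,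
    Finset.sum_const, Finset.sum_const]
  simp only [nsmul_eq_mul]
  ring

theorem sqNorm_Psi (c : ℤ) (T U : Finset GolayPt) :
    sqNorm (Psi c ⟨T, U⟩) = c ^ 2 * (T.card : ℤ) := by
  unfold sqNorm
  have h1 : ∀ i, Psi c ⟨T, U⟩ i ^ 2 = if i ∈ T then c ^ 2 else 0 := by
    intro i
    rw [Psi_apply]
    by_cases h : i ∈ T
    · by_cases h' : i ∈ U
      · simp only [h, h', if_true]; ring
      · simp only [h, h', if_true, if_false]
    · simp only [h, if_false]; ring
  rw [Finset.sum_congr rfl (fun i _ => h1 i), Finset.sum_ite_mem, Finset.univ_inter,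
    Finset.sum_const]
  simp only [nsmul_eq_mul]
  ring


/-! ### the three families lie in the lattice -/

theorem mem_support₂_iff (w : GolayPt → ZMod 2) (i : GolayPt) :
    i ∈ support₂ w ↔ (w i).val = 1 := by
  unfold support₂
  rw [Finset.mem_filter, ne_zero_iff_val]
  simp

theorem notMem_support₂_iff (w : GolayPt → ZMod 2) (i : GolayPt) :
    i ∉ support₂ w ↔ (w i).val = 0 := by
  rw [mem_support₂_iff]
  have := val_cases (w i)
  omega

theorem Psi2_mem (w : GolayPt → ZMod 2) (hw : w ∈ golayCode) (h8 : (support₂ w).card = 8)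
    (U : Finset GolayPt) (hU : U ⊆ support₂ w) (hev : Even U.card) :
    Psi 2 ⟨support₂ w, U⟩ ∈ leechSet ∧ sqNorm (Psi 2 ⟨support₂ w, U⟩) = 32 := by
  constructor
  · rw [mem_leechSet_iff]
    refine ⟨0, w, hw, ?_, ?_⟩
    · intro i
      rw [Psi_apply]
      by_cases h : i ∈ support₂ w
      · have hv := (mem_support₂_iff w i).mp h
        by_cases h' : i ∈ U
        · simp only [h, h', if_true, hv]; norm_num
        · simp only [h, h', if_true, if_false, hv]; norm_num
      · have hv := (notMem_support₂_iff w i).mp h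
        simp only [h, if_false, hv]; norm_num
    · rw [sum_Psi 2 _ U hU, h8]
      obtain ⟨t, ht⟩ := hev
      rw [ht]
      push_cast
      omega
  · rw [sqNorm_Psi, h8]
    norm_num

theorem Psi4_mem (T : Finset GolayPt) (h2 : T.card = 2) (U : Finset GolayPt) (hU : U ⊆ T) :
    Psi 4 ⟨T, U⟩ ∈ leechSet ∧ sqNorm (Psi 4 ⟨T, U⟩) = 32 := by
  constructor
  · rw [mem_leechSet_iff]
    refine ⟨0, 0, golayCode.zero_mem, ?_, ?_⟩
    · intro i
      rw [Psi_apply]
      by_cases h : i ∈ T
      · by_cases h' : i ∈ U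
        · simp only [h, h', if_true, Pi.zero_apply, ZMod.val_zero]; norm_num
        · simp only [h, h', if_true, if_false, Pi.zero_apply, ZMod.val_zero]; norm_num
      · simp only [h, if_false, Pi.zero_apply, ZMod.val_zero]; norm_num
    · rw [sum_Psi 4 _ U hU, h2]
      push_cast
      omega
  · rw [sqNorm_Psi, h2]
    norm_num

/-- the odd family -/
def PhiO (p : (GolayPt → ZMod 2) × GolayPt) : GolayPt → ℤ :=
  fun i => (1 - 2 * ((p.1 i).val : ℤ)) * (if i = p.2 then -3 else 1)

theorem PhiO_apply (w : GolayPt → ZMod 2) (j i : GolayPt) :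
    PhiO (w, j) i = (1 - 2 * ((w i).val : ℤ)) * (if i = j then -3 else 1) := rfl

theorem PhiO_mem (w : GolayPt → ZMod 2) (hw : w ∈ golayCode) (j : GolayPt) :
    PhiO (w, j) ∈ leechSet ∧ sqNorm (PhiO (w, j)) = 32 := by
  constructor
  · rw [mem_leechSet_iff]
    refine ⟨1, w, hw, ?_, ?_⟩
    · intro i
      rw [PhiO_apply]
      have := val_cases (w i)
      by_cases h : i = j
      · simp only [h, if_true]
        rcases val_cases (w j) with hv | hv <;> rw [hv] <;> norm_num
      · simp only [h, if_false]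
        rcases val_cases (w i) with hv | hv <;> rw [hv] <;> norm_num
    · have h1 : ∀ i, PhiO (w, j) i =
          (1 - 2 * ((w i).val : ℤ)) - 4 * (if i = j then (1 - 2 * ((w i).val : ℤ)) else 0) := by
        intro i
        rw [PhiO_apply]
        by_cases h : i = j
        · simp only [h, if_true]; ring
        · simp only [h, if_false]; ring
      rw [Finset.sum_congr rfl (fun i _ => h1 i), Finset.sum_sub_distrib, ← Finset.mul_sum,
        Finset.sum_ite_eq' Finset.univ j, if_pos (Finset.mem_univ j), Finset.sum_sub_distrib,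
        ← Finset.mul_sum, sum_val_eq_card, Finset.sum_const, Finset.card_univ, card_golayPt]
      obtain ⟨t, ht⟩ := four_dvd_card w hw
      rw [ht]
      have := val_cases (w j)
      push_cast
      simp only [nsmul_eq_mul]
      omega
  · unfold sqNorm
    have h1 : ∀ i, PhiO (w, j) i ^ 2 = 1 + (if i = j then 8 else 0) := by
      intro i
      rw [PhiO_apply]
      by_cases h : i = j
      · simp only [h, if_true]
        rcases val_cases (w j) with hv | hv <;> rw [hv] <;> norm_num
      · simp only [h, if_false]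
        rcases val_cases (w i) with hv | hv <;> rw [hv] <;> norm_num
    rw [Finset.sum_congr rfl (fun i _ => h1 i), Finset.sum_add_distrib,
      Finset.sum_ite_eq' Finset.univ j, if_pos (Finset.mem_univ j), Finset.sum_const,
      Finset.card_univ, card_golayPt]
    norm_num


/-! ### classification of the vectors of norm 32 -/

theorem eq_of_sum_le (T : Finset GolayPt) (f : GolayPt → ℤ) (b : ℤ) (hlow : ∀ i ∈ T, b ≤ f i)
    (hsum : ∑ i ∈ T, f i ≤ b * (T.card : ℤ)) : ∀ i ∈ T, f i = b := by
  intro i hi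
  have h1 : f i + ∑ k ∈ T.erase i, f k = ∑ k ∈ T, f k := Finset.add_sum_erase T f hi
  have h2 : ((T.erase i).card : ℤ) * b ≤ ∑ k ∈ T.erase i, f k := by
    have := Finset.card_nsmul_le_sum (T.erase i) f b
      (fun k hk => hlow k (Finset.mem_of_mem_erase hk))
    simpa [nsmul_eq_mul] using this
  have h3 : ((T.erase i).card : ℤ) = (T.card : ℤ) - 1 := by
    rw [Finset.card_erase_of_mem hi]
    have : 1 ≤ T.card := Finset.card_pos.mpr ⟨i, hi⟩
    push_cast [Nat.cast_sub this]
    ring
  rw [h3] at h2
  have := hlow i hi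
  nlinarith

theorem sum_sq_split (x : GolayPt → ℤ) (T : Finset GolayPt) :
    sqNorm x = ∑ i ∈ T, x i ^ 2 + ∑ i ∈ Tᶜ, x i ^ 2 := by
  unfold sqNorm
  rw [← Finset.sum_add_sum_compl T]

theorem card_le_of_sq (x : GolayPt → ℤ) (T : Finset GolayPt) (b : ℤ)
    (hlow : ∀ i ∈ T, b ≤ x i ^ 2) : b * (T.card : ℤ) ≤ sqNorm x := by
  rw [sum_sq_split x T]
  have h1 : (T.card : ℤ) * b ≤ ∑ i ∈ T, x i ^ 2 := by
    have := Finset.card_nsmul_le_sum T (fun i => x i ^ 2) b hlow
    simpa [nsmul_eq_mul] using this
  have h2 : 0 ≤ ∑ i ∈ Tᶜ, x i ^ 2 := Finset.sum_nonneg (fun i _ => sq_nonneg (x i))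
  nlinarith

/-- if the norm is exactly `b * |T|` with all squares on `T` at least `b`, then the squares on `T`
are `b` and the vector vanishes off `T` -/
theorem tight (x : GolayPt → ℤ) (T : Finset GolayPt) (b : ℤ)
    (hlow : ∀ i ∈ T, b ≤ x i ^ 2) (hn : sqNorm x = b * (T.card : ℤ)) :
    (∀ i ∈ T, x i ^ 2 = b) ∧ ∀ i ∉ T, x i = 0 := by
  have hs := sum_sq_split x T
  have h1 : (T.card : ℤ) * b ≤ ∑ i ∈ T, x i ^ 2 := by
    have := Finset.card_nsmul_le_sum T (fun i => x i ^ 2) b hlow
    simpa [nsmul_eq_mul] using this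
  have h2 : 0 ≤ ∑ i ∈ Tᶜ, x i ^ 2 := Finset.sum_nonneg (fun i _ => sq_nonneg (x i))
  have h3 : ∑ i ∈ Tᶜ, x i ^ 2 = 0 := by nlinarith
  have h4 : ∑ i ∈ T, x i ^ 2 ≤ b * (T.card : ℤ) := by nlinarith
  refine ⟨eq_of_sum_le T (fun i => x i ^ 2) b hlow h4, ?_⟩
  intro i hi
  have := (Finset.sum_eq_zero_iff_of_nonneg (fun k _ => sq_nonneg (x k))).mp h3 i
    (Finset.mem_compl.mpr hi)
  exact pow_eq_zero_iff (two_ne_zero) |>.mp this

theorem eq_Psi_of (x : GolayPt → ℤ) (T : Finset GolayPt) (c : ℤ) (hc : 0 < c)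
    (hT : ∀ i ∈ T, x i ^ 2 = c ^ 2) (hoff : ∀ i ∉ T, x i = 0) :
    x = Psi c ⟨T, T.filter (fun i => x i < 0)⟩ := by
  funext i
  rw [Psi_apply]
  by_cases h : i ∈ T
  · have hsq := hT i h
    have hcases : x i = c ∨ x i = -c := by
      have : (x i - c) * (x i + c) = 0 := by ring_nf; rw [hsq]; ring
      rcases mul_eq_zero.mp this with h' | h'
      · left; omega
      · right; omega
    by_cases hneg : x i < 0
    · have : i ∈ T.filter (fun i => x i < 0) := Finset.mem_filter.mpr ⟨h, hneg⟩
      simp only [h, this, if_true]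
      rcases hcases with h' | h'
      · omega
      · exact h'
    · have : i ∉ T.filter (fun i => x i < 0) := fun hm => hneg (Finset.mem_filter.mp hm).2
      simp only [h, this, if_true, if_false]
      rcases hcases with h' | h'
      · exact h'
      · omega
  · simp only [h, if_false]
    exact hoff i h

theorem classify (x : GolayPt → ℤ) (hx : x ∈ leechSet) (h32 : sqNorm x = 32) :
    (∃ w ∈ golayCode, ∃ j, x = PhiO (w, j)) ∨
    (∃ w ∈ golayCode, (support₂ w).card = 8 ∧ ∃ U ⊆ support₂ w, Even U.card ∧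
      x = Psi 2 ⟨support₂ w, U⟩) ∨
    (∃ T : Finset GolayPt, T.card = 2 ∧ ∃ U ⊆ T, x = Psi 4 ⟨T, U⟩) := by
  classical
  obtain ⟨m, hm, w, hw, h1, h2⟩ := (mem_leechSet_iff01 x).mp hx
  rcases hm with rfl | rfl
  · -- even case
    right
    set T := support₂ w with hT
    have hlow : ∀ i ∈ T, (4 : ℤ) ≤ x i ^ 2 := by
      intro i hi
      have hv := (mem_support₂_iff w i).mp hi
      have := h1 i
      rw [hv] at this
      have h' : 2 ≤ x i ∨ x i ≤ -2 := by omega
      rcases h' with h' | h' <;> nlinarith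
    have hcard := card_le_of_sq x T 4 hlow
    rw [h32] at hcard
    have hwt := Cfsg.Agent.Lib.Helper3.Golay.weight_mem hw
    have hnorm : hammingNorm w = T.card := rfl
    rw [hnorm] at hwt
    have hT8 : T.card = 0 ∨ T.card = 8 := by
      rcases hwt with h | h | h | h | h
      · left; exact h
      · right; exact h
      · rw [h] at hcard; norm_num at hcard
      · rw [h] at hcard; norm_num at hcard
      · rw [h] at hcard; norm_num at hcard
    rcases hT8 with h0 | h8
    · -- all coordinates divisible by 4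
      right
      have hw0 : ∀ i, (w i).val = 0 := by
        intro i
        rw [← notMem_support₂_iff]
        rw [Finset.card_eq_zero] at h0
        rw [← hT, h0]
        exact Finset.notMem_empty i
      have hx4 : ∀ i, x i % 4 = 0 := by
        intro i
        have := h1 i
        rw [hw0 i] at this
        omega
      set T' := Finset.univ.filter (fun i => x i ≠ 0) with hT'
      have hlow' : ∀ i ∈ T', (16 : ℤ) ≤ x i ^ 2 := by
        intro i hi
        have hne : x i ≠ 0 := (Finset.mem_filter.mp hi).2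
        have := hx4 i
        have h' : 4 ≤ x i ∨ x i ≤ -4 := by omega
        rcases h' with h' | h' <;> nlinarith
      have hoff : ∀ i ∉ T', x i = 0 := by
        intro i hi
        by_contra hne
        exact hi (Finset.mem_filter.mpr ⟨Finset.mem_univ _, hne⟩)
      have hcard' := card_le_of_sq x T' 16 hlow'
      rw [h32] at hcard'
      have hle2 : T'.card ≤ 2 := by
        have : (T'.card : ℤ) ≤ 2 := by omega
        exact_mod_cast this
      have hsumT' : sqNorm x = ∑ i ∈ T', x i ^ 2 := by
        rw [sum_sq_split x T']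
        have : ∑ i ∈ T'ᶜ, x i ^ 2 = 0 := by
          apply Finset.sum_eq_zero
          intro i hi
          rw [hoff i (Finset.mem_compl.mp hi)]
          norm_num
        rw [this, add_zero]
      have hc2 : T'.card = 2 := by
        interval_cases hcd : T'.card
        · rw [Finset.card_eq_zero] at hcd
          rw [hcd, Finset.sum_empty] at hsumT'
          omega
        · obtain ⟨a, ha⟩ := Finset.card_eq_one.mp hcd
          rw [ha, Finset.sum_singleton] at hsumT'
          have hxa := hx4 a
          obtain ⟨z, hz⟩ : ∃ z, x a = 4 * z := ⟨x a / 4, by omega⟩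
          rw [h32, hz] at hsumT'
          have hz2 : z ^ 2 = 2 := by nlinarith
          have hzb : -2 < z ∧ z < 2 := by constructor <;> nlinarith
          obtain ⟨hz1, hz3⟩ := hzb
          interval_cases z <;> omega
        · rfl
      obtain ⟨hsq, -⟩ := tight x T' 16 hlow' (by rw [h32, hc2]; norm_num)
      refine ⟨T', hc2, T'.filter (fun i => x i < 0), Finset.filter_subset _ _, ?_⟩
      exact eq_Psi_of x T' 4 (by norm_num) (fun i hi => by rw [hsq i hi]; norm_num) hoff
    · -- an octad
      left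
      obtain ⟨hsq, hoff⟩ := tight x T 4 hlow (by rw [h32, h8]; norm_num)
      have hxe := eq_Psi_of x T 2 (by norm_num) (fun i hi => by rw [hsq i hi]; norm_num) hoff
      refine ⟨w, hw, h8, T.filter (fun i => x i < 0), Finset.filter_subset _ _, ?_, hxe⟩
      have hsum := sum_Psi 2 T (T.filter (fun i => x i < 0)) (Finset.filter_subset _ _)
      rw [← hxe, h8] at hsum
      rw [hsum] at h2
      rw [Nat.even_iff]
      push_cast at h2
      omega
  · -- odd case
    left
    have hodd : ∀ i, x i % 2 = 1 := by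
      intro i
      have := h1 i
      have := val_cases (w i)
      omega
    set B := Finset.univ.filter (fun i => x i ^ 2 ≠ 1) with hB
    have hlowB : ∀ i ∈ B, (9 : ℤ) ≤ x i ^ 2 := by
      intro i hi
      have hne : x i ^ 2 ≠ 1 := (Finset.mem_filter.mp hi).2
      have := hodd i
      have h' : 3 ≤ x i ∨ x i ≤ -3 := by
        by_contra hcon
        push Not at hcon
        have : x i = 1 ∨ x i = -1 := by omega
        rcases this with h'' | h'' <;> rw [h''] at hne <;> norm_num at hne
      rcases h' with h' | h' <;> nlinarith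
    have hoffB : ∀ i ∈ Bᶜ, x i ^ 2 = 1 := by
      intro i hi
      by_contra hne
      exact (Finset.mem_compl.mp hi) (Finset.mem_filter.mpr ⟨Finset.mem_univ _, hne⟩)
    have hsplit := sum_sq_split x B
    have hcompl : ∑ i ∈ Bᶜ, x i ^ 2 = ((Bᶜ).card : ℤ) := by
      rw [Finset.sum_congr rfl hoffB]
      simp
    have hcc : ((Bᶜ).card : ℤ) = 24 - (B.card : ℤ) := by
      have := Finset.card_compl_add_card B
      rw [card_golayPt] at this
      omega
    have hBsum : (B.card : ℤ) * 9 ≤ ∑ i ∈ B, x i ^ 2 := by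
      have := Finset.card_nsmul_le_sum B (fun i => x i ^ 2) 9 hlowB
      simpa [nsmul_eq_mul] using this
    rw [h32, hcompl, hcc] at hsplit
    have hB1 : B.card = 1 := by
      have hle : (B.card : ℤ) ≤ 1 := by omega
      have hle' : B.card ≤ 1 := by exact_mod_cast hle
      interval_cases hcd : B.card
      · rw [Finset.card_eq_zero] at hcd
        rw [hcd, Finset.sum_empty] at hsplit
        simp at hsplit
      · rfl
    obtain ⟨j, hj⟩ := Finset.card_eq_one.mp hB1
    rw [hj, Finset.sum_singleton, Finset.card_singleton] at hsplit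
    have hxj : x j ^ 2 = 9 := by push_cast at hsplit; omega
    refine ⟨w, hw, j, ?_⟩
    funext i
    rw [PhiO_apply]
    have hi1 := h1 i
    by_cases h : i = j
    · subst h
      simp only [if_true]
      have hcases : x i = 3 ∨ x i = -3 := by
        have : (x i - 3) * (x i + 3) = 0 := by ring_nf; rw [hxj]; ring
        rcases mul_eq_zero.mp this with h' | h'
        · left; omega
        · right; omega
      rcases val_cases (w i) with hv | hv <;> rw [hv] at hi1 ⊢ <;> rcases hcases with h' | h' <;>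
        rw [h'] at hi1 ⊢ <;> first | (norm_num at hi1; done) | norm_num
    · simp only [h, if_false]
      have hiB : i ∈ Bᶜ := by
        rw [Finset.mem_compl, hj, Finset.mem_singleton]
        exact h
      have hsq := hoffB i hiB
      have hcases : x i = 1 ∨ x i = -1 := by
        have : (x i - 1) * (x i + 1) = 0 := by ring_nf; rw [hsq]; ring
        rcases mul_eq_zero.mp this with h' | h'
        · left; omega
        · right; omega
      rcases val_cases (w i) with hv | hv <;> rw [hv] at hi1 ⊢ <;> rcases hcases with h' | h' <;>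
        rw [h'] at hi1 ⊢ <;> first | (norm_num at hi1; done) | norm_num

end Cfsg.Agent.Lib.Helper14.LeechCount
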