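import Mathlib
import Cfsg.Prelude.Def_Sporadic_a
import Cfsg.Agent.Lib.Helper14.LeechCount
import Cfsg.Agent.Lib.Helper3.Golay.Bits
import Cfsg.Agent.Lib.Helper3.Golay.Code

set_option autoImplicit false

/-! The lattice is generated by its minimal vectors. -/

namespace Cfsg.Agent.Lib.Helper14.LeechCount

open Cfsg Cfsg.Agent.Lib.Helper14.Golay Cfsg.Agent.Lib.Helper14.Leech
open Cfsg.Agent.Lib.Helper3.Golay

/-- the subgroup generated by the minimal vectors -/
def Lmin : AddSubgroup (GolayPt → ℤ) :=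
  AddSubgroup.closure {x : GolayPt → ℤ | x ∈ leechLattice ∧ sqNorm x = 32}

theorem mem_Lmin_of (x : GolayPt → ℤ) (h : x ∈ leechSet ∧ sqNorm x = 32) : x ∈ Lmin :=
  AddSubgroup.subset_closure ⟨(mem_leechLattice_iff x).mpr h.1, h.2⟩

theorem pair_add_mem (i j : GolayPt) (h : i ≠ j) :
    (Pi.single i 4 + Pi.single j 4 : GolayPt → ℤ) ∈ Lmin := by
  have hc : ({i, j} : Finset GolayPt).card = 2 := Finset.card_pair h
  have := mem_Lmin_of _ (Psi4_mem {i, j} hc ∅ (Finset.empty_subset _))
  convert this using 1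
  funext c
  rw [Psi_apply]
  simp only [Finset.mem_insert, Finset.mem_singleton, Finset.notMem_empty, if_false, Pi.add_apply,
    Pi.single_apply]
  by_cases h1 : c = i
  · have : c ≠ j := fun hh => h (h1.symm.trans hh)
    simp [h1, h]
  · by_cases h2 : c = j
    · simp [h2, h.symm]
    · simp [h1, h2]

theorem pair_sub_mem (i j : GolayPt) (h : i ≠ j) :
    (Pi.single i 4 - Pi.single j 4 : GolayPt → ℤ) ∈ Lmin := by
  have hc : ({i, j} : Finset GolayPt).card = 2 := Finset.card_pair h
  have := mem_Lmin_of _ (Psi4_mem {i, j} hc {j} (by simp))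
  convert this using 1
  funext c
  rw [Psi_apply]
  simp only [Finset.mem_insert, Finset.mem_singleton, Pi.sub_apply, Pi.single_apply]
  by_cases h1 : c = i
  · simp [h1, h]
  · by_cases h2 : c = j
    · simp [h2, h.symm]
    · simp [h1, h2]

theorem single8_mem (i : GolayPt) : (Pi.single i 8 : GolayPt → ℤ) ∈ Lmin := by
  obtain ⟨j, hj⟩ : ∃ j : GolayPt, i ≠ j := by
    by_cases h : i = none
    · exact ⟨some 0, by rw [h]; simp⟩
    · exact ⟨none, h⟩
  have := Lmin.add_mem (pair_add_mem i j hj) (pair_sub_mem i j hj)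
  convert this using 1
  funext c
  simp only [Pi.add_apply, Pi.sub_apply, Pi.single_apply]
  split_ifs <;> norm_num

theorem four_mul_mem (u : GolayPt → ℤ) (hu : (2 : ℤ) ∣ ∑ i, u i) :
    (fun i => 4 * u i) ∈ Lmin := by
  obtain ⟨k, hk⟩ := hu
  have h1 : ∀ i, u i • (Pi.single i 4 - Pi.single none 4 : GolayPt → ℤ) ∈ Lmin := by
    intro i
    by_cases h : i = none
    · rw [h, sub_self, smul_zero]
      exact Lmin.zero_mem
    · exact Lmin.zsmul_mem (pair_sub_mem i none h) _
  have h2 : k • (Pi.single none 8 : GolayPt → ℤ) ∈ Lmin := Lmin.zsmul_mem (single8_mem none) _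
  have h3 := Lmin.add_mem (Lmin.sum_mem (fun i (_ : i ∈ Finset.univ) => h1 i)) h2
  convert h3 using 1
  funext c
  simp only [Pi.add_apply, Finset.sum_apply, Pi.smul_apply, Pi.sub_apply, Pi.single_apply,
    smul_eq_mul]
  have e1 : ∀ i, u i * ((if c = i then (4 : ℤ) else 0) - (if c = none then 4 else 0))
      = (if c = i then 4 * u i else 0) - u i * (if c = none then 4 else 0) := by
    intro i
    split_ifs <;> ring
  rw [Finset.sum_congr rfl (fun i _ => e1 i), Finset.sum_sub_distrib, Finset.sum_ite_eq Finset.univ c,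
    if_pos (Finset.mem_univ c), ← Finset.sum_mul, hk]
  split_ifs <;> ring

theorem bvec_weight : ∀ k : Fin 12, (support₂ (bvec k)).card = 8 := by
  intro k
  have h : hammingNorm (bvec k) = pcAux 24 (basisMask k) := hammingNorm_wordOf _
  have h2 : ∀ k : Fin 12, pcAux 24 (basisMask k) = 8 := by decide
  rw [h2 k] at h
  exact h

/-- twice the integer lift of a basis word -/
theorem two_bvec_mem (k : Fin 12) : (fun i => 2 * ((bvec k i).val : ℤ)) ∈ Lmin := by
  have := mem_Lmin_of _ (Psi2_mem (bvec k) (bvec_mem k) (bvec_weight k) ∅ (Finset.empty_subset _)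
    (by simp))
  convert this using 1
  funext c
  rw [Psi_apply]
  by_cases h : c ∈ support₂ (bvec k)
  · rw [(mem_support₂_iff _ _).mp h]
    simp [h]
  · rw [(notMem_support₂_iff _ _).mp h]
    simp [h]

theorem v0_mem : (fun i : GolayPt => if i = none then (-3 : ℤ) else 1) ∈ Lmin := by
  have := mem_Lmin_of _ (PhiO_mem 0 golayCode.zero_mem none)
  convert this using 1
  funext c
  rw [PhiO_apply]
  simp

theorem leechSet_le : leechSet ⊆ (Lmin : Set (GolayPt → ℤ)) := by
  intro x hx
  obtain ⟨m, w, t, hw, hx1, hpar⟩ := exists_decomp x hx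
  have hw' := hw
  rw [golayCode_eq_span, Submodule.mem_span_range_iff_exists_fun] at hw'
  obtain ⟨a, ha⟩ := hw'
  -- integer lifts
  set n : GolayPt → ℤ := fun i => ∑ k, ((a k).val : ℤ) * ((bvec k i).val : ℤ) with hn
  have hcast : ∀ i, ((n i : ℤ) : ZMod 2) = w i := by
    intro i
    rw [hn]
    push_cast
    rw [← ha]
    simp only [Finset.sum_apply, Pi.smul_apply, smul_eq_mul]
    apply Finset.sum_congr rfl
    intro k _
    rw [ZMod.natCast_zmod_val, ZMod.natCast_zmod_val]
  have hdvd : ∀ i, (2 : ℤ) ∣ n i - ((w i).val : ℤ) := by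
    intro i
    have : ((n i - ((w i).val : ℤ) : ℤ) : ZMod 2) = 0 := by
      push_cast
      rw [hcast i, ZMod.natCast_zmod_val, sub_self]
    exact (ZMod.intCast_zmod_eq_zero_iff_dvd _ 2).mp this
  choose s hs using hdvd
  have hy : (fun i => 2 * n i) ∈ Lmin := by
    have : (fun i => 2 * n i) = ∑ k, ((a k).val : ℤ) • (fun i => 2 * ((bvec k i).val : ℤ)) := by
      funext i
      simp only [hn, Finset.sum_apply, Pi.smul_apply, smul_eq_mul, Finset.mul_sum]
      apply Finset.sum_congr rfl
      intro k _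
      ring
    rw [this]
    exact Lmin.sum_mem (fun k _ => Lmin.zsmul_mem (two_bvec_mem k) _)
  -- sum of s
  have hsum_n : ∑ i, n i = 8 * ∑ k, ((a k).val : ℤ) := by
    simp only [hn]
    rw [Finset.sum_comm, Finset.mul_sum]
    apply Finset.sum_congr rfl
    intro k _
    rw [← Finset.mul_sum, sum_val_eq_card, bvec_weight k]
    push_cast
    ring
  obtain ⟨q, hq⟩ := four_dvd_card w hw
  have hsum_s : 2 * ∑ i, s i = ∑ i, n i - ∑ i, ((w i).val : ℤ) := by
    rw [Finset.mul_sum, ← Finset.sum_sub_distrib]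
    apply Finset.sum_congr rfl
    intro i _
    rw [hs i]
  rw [hsum_n, sum_val_eq_card, hq] at hsum_s
  push_cast at hsum_s
  -- the remaining part
  set u : GolayPt → ℤ := fun i => t i - s i + (if i = none then m else 0) with hu
  have hu_sum : (2 : ℤ) ∣ ∑ i, u i := by
    have : ∑ i, u i = ∑ i, t i - ∑ i, s i + m := by
      simp only [hu]
      rw [Finset.sum_add_distrib, Finset.sum_sub_distrib, Finset.sum_ite_eq' Finset.univ none,
        if_pos (Finset.mem_univ _)]
    rw [this]
    omega
  have h4u := four_mul_mem u hu_sum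
  have hmv := Lmin.zsmul_mem v0_mem m
  have hfin := Lmin.add_mem (Lmin.add_mem hmv hy) h4u
  have hxe : x = m • (fun i : GolayPt => if i = none then (-3 : ℤ) else 1) + (fun i => 2 * n i)
      + (fun i => 4 * u i) := by
    funext i
    simp only [Pi.add_apply, Pi.smul_apply, smul_eq_mul, hu]
    rw [hx1 i]
    have := hs i
    split_ifs <;> linarith
  show x ∈ Lmin
  rw [hxe]
  exact hfin

theorem Lmin_eq : Lmin = leechLattice := by
  apply le_antisymm
  · unfold Lmin
    rw [AddSubgroup.closure_le]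
    intro x hx
    exact hx.1
  · unfold leechLattice
    rw [AddSubgroup.closure_le]
    exact leechSet_le

end Cfsg.Agent.Lib.Helper14.LeechCount
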