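import Mathlib
import Cfsg.Prelude.Def_Sporadic_a
import Cfsg.Agent.Lib.Helper14.Golay
import Cfsg.Agent.Lib.Helper14.GolayMin
import Cfsg.Agent.Lib.Helper14.Leech

set_option autoImplicit false

/-!
# The Leech lattice has minimum norm 32 (in the scaling of `Cfsg.sqNorm`)
-/

namespace Cfsg.Agent.Lib.Helper14.Leech

open Cfsg Cfsg.Agent.Lib.Helper14.Golay Cfsg.Agent.Lib.Helper14.GolayMin

theorem sqNorm_nonneg (x : GolayPt → ℤ) : 0 ≤ sqNorm x := by
  unfold sqNorm
  exact Finset.sum_nonneg fun i _ => sq_nonneg (x i)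

theorem thirtytwo_le_sqNorm (x : GolayPt → ℤ) (hx : x ∈ leechSet) (h0 : x ≠ 0) :
    32 ≤ sqNorm x := by
  classical
  have h16 := sixteen_dvd_sqNorm x hx
  obtain ⟨m, h1, h2, h3⟩ := hx
  have h1' : ∀ i, x i % 2 = m % 2 := fun i => h1 i
  have h2' : (∑ i, x i) % 8 = (4 * m) % 8 := h2
  suffices hgt : 16 < sqNorm x by
    obtain ⟨k, hk⟩ := h16
    omega
  obtain ⟨j, hj⟩ : ∃ j, x j ≠ 0 := by
    by_contra hcon
    push Not at hcon
    exact h0 (funext hcon)
  rcases Int.emod_two_eq_zero_or_one m with hm | hm
  · -- m even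
    set A2 : Finset GolayPt := Finset.univ.filter fun i => x i ≡ 2 [ZMOD 4] with hA2
    have hA2s : A2 ∈ supports (golayCode : Set (GolayPt → ZMod 2)) := h3 2
    by_cases hA : A2 = ∅
    · -- all coordinates divisible by 4
      have hx4 : ∀ i, x i % 4 = 0 := by
        intro i
        have hi := h1' i
        have hni : ¬ (x i % 4 = 2 % 4) := by
          intro h
          have : i ∈ A2 := by
            rw [hA2, Finset.mem_filter]
            exact ⟨Finset.mem_univ _, h⟩
          rw [hA] at this
          exact absurd this (Finset.notMem_empty i)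
        omega
      by_contra hle
      push Not at hle
      have hsplit : sqNorm x = x j ^ 2 + ∑ i ∈ Finset.univ.erase j, x i ^ 2 := by
        unfold sqNorm
        exact (Finset.add_sum_erase Finset.univ (fun i => x i ^ 2) (Finset.mem_univ j)).symm
      have hrest_nonneg : 0 ≤ ∑ i ∈ Finset.univ.erase j, x i ^ 2 :=
        Finset.sum_nonneg fun i _ => sq_nonneg (x i)
      have hj4 := hx4 j
      have hj16 : 16 ≤ x j ^ 2 := by
        have : 4 ≤ x j ∨ x j ≤ -4 := by omega
        rcases this with h | h <;> nlinarith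
      have hrest0 : ∑ i ∈ Finset.univ.erase j, x i ^ 2 = 0 := by omega
      have hxj16 : x j ^ 2 = 16 := by omega
      have hzero : ∀ i ∈ Finset.univ.erase j, x i ^ 2 = 0 :=
        (Finset.sum_eq_zero_iff_of_nonneg fun i _ => sq_nonneg (x i)).mp hrest0
      have hsum : ∑ i, x i = x j := by
        rw [← Finset.add_sum_erase Finset.univ x (Finset.mem_univ j)]
        have : ∑ i ∈ Finset.univ.erase j, x i = 0 := by
          apply Finset.sum_eq_zero
          intro i hi
          have := hzero i hi
          exact pow_eq_zero_iff (two_ne_zero) |>.mp this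
        rw [this, add_zero]
      have hxj : x j = 4 ∨ x j = -4 := by
        have h : (x j - 4) * (x j + 4) = 0 := by ring_nf; rw [hxj16]; ring
        rcases mul_eq_zero.mp h with h | h
        · left; omega
        · right; omega
      rw [hsum] at h2'
      rcases hxj with h | h <;> rw [h] at h2' <;> omega
    · have h8 := supports_eight_le A2 hA2s hA
      have hpt : ∀ i ∈ A2, (4 : ℤ) ≤ x i ^ 2 := by
        intro i hi
        rw [hA2, Finset.mem_filter] at hi
        have h4 : x i % 4 = 2 % 4 := hi.2
        have : 2 ≤ x i ∨ x i ≤ -2 := by omega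
        rcases this with h | h <;> nlinarith
      have hsub : ∑ i ∈ A2, x i ^ 2 ≤ sqNorm x := by
        unfold sqNorm
        exact Finset.sum_le_sum_of_subset_of_nonneg (Finset.subset_univ _)
          (fun i _ _ => sq_nonneg (x i))
      have hlow : (4 : ℤ) * (A2.card : ℤ) ≤ ∑ i ∈ A2, x i ^ 2 := by
        have := Finset.card_nsmul_le_sum A2 (fun i => x i ^ 2) 4 hpt
        simpa [mul_comm] using this
      have h8' : (8 : ℤ) ≤ (A2.card : ℤ) := by exact_mod_cast h8
      omega
  · -- m odd: all coordinates odd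
    have hpt : ∀ i ∈ (Finset.univ : Finset GolayPt), (1 : ℤ) ≤ x i ^ 2 := by
      intro i _
      have hi := h1' i
      have : 1 ≤ x i ∨ x i ≤ -1 := by omega
      rcases this with h | h <;> nlinarith
    have := Finset.card_nsmul_le_sum Finset.univ (fun i => x i ^ 2) 1 hpt
    rw [Finset.card_univ, card_golayPt] at this
    unfold sqNorm
    simp only [nsmul_eq_mul, mul_one] at this
    have h24 : (24 : ℤ) ≤ ∑ i, x i ^ 2 := by exact_mod_cast this
    omega

theorem thirtytwo_le_sqNorm_lattice (x : GolayPt → ℤ) (hx : x ∈ leechLattice) (h0 : x ≠ 0) :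
    32 ≤ sqNorm x :=
  thirtytwo_le_sqNorm x ((mem_leechLattice_iff x).mp hx) h0

end Cfsg.Agent.Lib.Helper14.Leech
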