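import Mathlib
import Cfsg.Prelude.Def_Sporadic_a
import Cfsg.Agent.Lib.Helper14.LeechMin

set_option autoImplicit false

/-!
# Short vectors of the Leech lattice modulo twice the lattice
-/

namespace Cfsg.Agent.Lib.Helper14.Leech

open Cfsg

theorem sqNorm_add_self (z : GolayPt → ℤ) : sqNorm (z + z) = 4 * sqNorm z := by
  unfold sqNorm
  rw [Finset.mul_sum]
  refine Finset.sum_congr rfl fun i _ => ?_
  rw [Pi.add_apply]; ring

theorem sqNorm_sub (x y : GolayPt → ℤ) :
    sqNorm (x - y) = sqNorm x + sqNorm y - 2 * dotInt x y := by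
  unfold sqNorm dotInt
  rw [Finset.mul_sum, ← Finset.sum_add_distrib, ← Finset.sum_sub_distrib]
  refine Finset.sum_congr rfl fun i _ => ?_
  rw [Pi.sub_apply]; ring

theorem sqNorm_add (x y : GolayPt → ℤ) :
    sqNorm (x + y) = sqNorm x + sqNorm y + 2 * dotInt x y := by
  unfold sqNorm dotInt
  rw [Finset.mul_sum, ← Finset.sum_add_distrib, ← Finset.sum_add_distrib]
  refine Finset.sum_congr rfl fun i _ => ?_
  rw [Pi.add_apply]; ring

theorem sqNorm_neg (x : GolayPt → ℤ) : sqNorm (-x) = sqNorm x := by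
  unfold sqNorm
  refine Finset.sum_congr rfl fun i _ => ?_
  rw [Pi.neg_apply]; ring

/-- Two distinct short vectors congruent modulo `2Λ` are opposite, or both of norm 64 and
orthogonal. -/
theorem short_congr (x y z : GolayPt → ℤ) (hy : y ∈ leechLattice)
    (hz : z ∈ leechLattice) (hxy : x ≠ y) (hxn : sqNorm x ≤ 64) (hyn : sqNorm y ≤ 64)
    (hc : x - y = z + z) :
    x = -y ∨ (sqNorm x = 64 ∧ sqNorm y = 64 ∧ dotInt x y = 0) := by
  have hz0 : z ≠ 0 := by
    rintro rfl
    apply hxy
    rw [add_zero] at hc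
    exact sub_eq_zero.mp hc
  have hz' : z + y ∈ leechLattice := AddSubgroup.add_mem _ hz hy
  have hc' : x + y = (z + y) + (z + y) := by
    have : x = z + z + y := by rw [← hc]; abel
    rw [this]; abel
  by_cases hzy : z + y = 0
  · left
    rw [hzy, add_zero] at hc'
    exact eq_neg_of_add_eq_zero_left hc'
  · right
    have h1 := thirtytwo_le_sqNorm_lattice z hz hz0
    have h2 := thirtytwo_le_sqNorm_lattice (z + y) hz' hzy
    have e1 : sqNorm (x - y) = 4 * sqNorm z := by rw [hc, sqNorm_add_self]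
    have e2 : sqNorm (x + y) = 4 * sqNorm (z + y) := by rw [hc', sqNorm_add_self]
    rw [sqNorm_sub] at e1
    rw [sqNorm_add] at e2
    refine ⟨?_, ?_, ?_⟩ <;> omega

end Cfsg.Agent.Lib.Helper14.Leech
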