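import Mathlib
import Cfsg.Prelude.Def_Sporadic_a
import Cfsg.Prelude.Def_SporadicCombinatorics
import Cfsg.Agent.Lib.Helper14.Golay
import Cfsg.Agent.Lib.Helper14.Leech
import Cfsg.Agent.Lib.Helper14.LeechShort
import Cfsg.Agent.Lib.Helper14.LeechGen
import Cfsg.Agent.Lib.Helper3.Golay.Code
import Cfsg.Agent.Lib.Helper3.Golay.Perm
import Cfsg.Agent.Lib.Helper3.Golay.M24Order

set_option autoImplicit false

/-! The monomial group `2^12 : M24` acting on the Leech lattice, and the stabiliser of the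
standard cross. -/

namespace Cfsg.Agent.Lib.Helper14.LeechMono

open Cfsg
open Cfsg.Agent.Lib.Helper14.Golay
open Cfsg.Agent.Lib.Helper14.Leech
open Cfsg.Agent.Lib.Helper14.LeechCount
open Cfsg.Agent.Lib.Helper3.Golay
open scoped Pointwise

/-! ### Signed permutations preserve the lattice -/

theorem signedPerm_apply (σ : Equiv.Perm GolayPt) (c : Finset GolayPt) (x : GolayPt → ℤ)
    (i : GolayPt) :
    signedPerm σ c x i = if i ∈ c then -x (σ.symm i) else x (σ.symm i) := rfl

theorem signedPerm_add (σ : Equiv.Perm GolayPt) (c : Finset GolayPt) (x y : GolayPt → ℤ) :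
    signedPerm σ c (x + y) = signedPerm σ c x + signedPerm σ c y := by
  funext i
  rw [Pi.add_apply, signedPerm_apply, signedPerm_apply, signedPerm_apply, Pi.add_apply]
  split_ifs <;> ring

theorem sqNorm_signedPerm (σ : Equiv.Perm GolayPt) (c : Finset GolayPt) (x : GolayPt → ℤ) :
    sqNorm (signedPerm σ c x) = sqNorm x := by
  unfold sqNorm
  rw [← Equiv.sum_comp σ.symm (fun j => x j ^ 2)]
  refine Finset.sum_congr rfl fun i _ => ?_
  rw [signedPerm_apply]
  split_ifs <;> ring

theorem perm_mem (σ : Equiv.Perm GolayPt) (hσ : σ ∈ M24) (x : GolayPt → ℤ) (hx : x ∈ leechSet) :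
    (fun i => x (σ.symm i)) ∈ leechSet := by
  rw [mem_leechSet_iff] at hx ⊢
  obtain ⟨m, w, hw, h1, h2⟩ := hx
  refine ⟨m, permWord σ w, (mem_M24_iff σ).mp hσ w hw, fun i => ?_, ?_⟩
  · rw [permWord_apply]; exact h1 _
  · rw [Equiv.sum_comp σ.symm x]; exact h2

theorem sum_val_on (A : Finset GolayPt) (w : GolayPt → ZMod 2) :
    ∑ i ∈ A, ((w i).val : ℤ) = ((A ∩ support₂ w).card : ℤ) := by
  have h : A ∩ support₂ w = A.filter (fun i => w i ≠ 0) := by
    ext i
    unfold support₂
    simp
  rw [h, Finset.card_filter]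
  push_cast
  refine Finset.sum_congr rfl fun i _ => ?_
  rcases val_cases (w i) with hv | hv
  · have h0 : ¬ (w i ≠ 0) := by
      rw [ne_zero_iff_val, hv]; decide
    rw [if_neg h0, hv]; rfl
  · have h0 : w i ≠ 0 := (ne_zero_iff_val _).mpr hv
    rw [if_pos h0, hv]; rfl

theorem four_dvd_sum_on (x : GolayPt → ℤ) (hx : x ∈ leechSet) (d : Finset GolayPt)
    (hd : d ∈ supports (golayCode : Set (GolayPt → ZMod 2))) : (4 : ℤ) ∣ ∑ i ∈ d, x i := by
  obtain ⟨m, w, t, hw, ht, -⟩ := exists_decomp x hx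
  obtain ⟨wd, hwd, rfl⟩ := hd
  obtain ⟨a, ha⟩ := four_dvd_card wd hwd
  obtain ⟨b, hb⟩ := even_card_inter wd w hwd hw
  have hsum : ∑ i ∈ support₂ wd, x i = m * ((support₂ wd).card : ℤ)
      + 2 * ((support₂ wd ∩ support₂ w).card : ℤ) + 4 * ∑ i ∈ support₂ wd, t i := by
    rw [Finset.sum_congr rfl (fun i _ => ht i), Finset.sum_add_distrib, Finset.sum_add_distrib,
      Finset.sum_const, ← Finset.mul_sum, ← Finset.mul_sum, sum_val_on]
    simp [mul_comm]
  rw [hsum, ha, hb]
  push_cast
  exact ⟨m * a + b + ∑ i ∈ support₂ wd, t i, by ring⟩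

theorem sign_mem (c : Finset GolayPt)
    (hc : c ∈ supports (golayCode : Set (GolayPt → ZMod 2))) (x : GolayPt → ℤ)
    (hx : x ∈ leechSet) : (fun i => if i ∈ c then -x i else x i) ∈ leechSet := by
  obtain ⟨q, hq⟩ := four_dvd_sum_on x hx c hc
  rw [mem_leechSet_iff] at hx ⊢
  obtain ⟨m, w, hw, h1, h2⟩ := hx
  obtain ⟨wc, hwc, rfl⟩ := hc
  have hsum : ∑ i, (if i ∈ support₂ wc then -x i else x i)
      = ∑ i, x i - 2 * ∑ i ∈ support₂ wc, x i := by
    have : ∀ i, (if i ∈ support₂ wc then -x i else x i)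
        = x i - 2 * (if i ∈ support₂ wc then x i else 0) := by
      intro i; split_ifs <;> ring
    rw [Finset.sum_congr rfl (fun i _ => this i), Finset.sum_sub_distrib, ← Finset.mul_sum,
      Finset.sum_ite_mem, Finset.univ_inter]
  have hmem : ∀ i, i ∈ support₂ wc ↔ (wc i).val = 1 := by
    intro i
    unfold support₂
    rw [Finset.mem_filter, ne_zero_iff_val]
    simp
  by_cases hm : m % 2 = 0
  · refine ⟨m, w, hw, fun i => ?_, ?_⟩
    · have := h1 i
      show (if i ∈ support₂ wc then -x i else x i) % 4 = _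
      split_ifs <;> omega
    · rw [hsum, hq]; omega
  · refine ⟨m, w + wc, Submodule.add_mem _ hw hwc, fun i => ?_, ?_⟩
    · have := h1 i
      have hv := val_add_mod (w i) (wc i)
      have hmi := hmem i
      show (if i ∈ support₂ wc then -x i else x i) % 4 = _
      rw [Pi.add_apply]
      by_cases hi : i ∈ support₂ wc
      · rw [if_pos hi]
        have h4 := hmi.mp hi
        rw [h4] at hv
        rcases val_cases (w i) with h3 | h3 <;> rcases val_cases (w i + wc i) with h5 | h5 <;>
          rw [h3, h5] at hv <;> rw [h3] at this <;> rw [h5] <;> omega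
      · rw [if_neg hi]
        have h4 : (wc i).val = 0 := by
          rcases val_cases (wc i) with h | h
          · exact h
          · exact absurd (hmi.mpr h) hi
        rw [h4] at hv
        rcases val_cases (w i) with h3 | h3 <;> rcases val_cases (w i + wc i) with h5 | h5 <;>
          rw [h3, h5] at hv <;> rw [h3] at this <;> rw [h5] <;> omega
    · rw [hsum, hq]; omega

theorem signedPerm_mem (σ : Equiv.Perm GolayPt) (c : Finset GolayPt) (hσ : σ ∈ M24)
    (hc : c ∈ supports (golayCode : Set (GolayPt → ZMod 2))) (x : GolayPt → ℤ)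
    (hx : x ∈ leechLattice) : signedPerm σ c x ∈ leechLattice := by
  rw [mem_leechLattice_iff] at hx ⊢
  exact sign_mem c hc _ (perm_mem σ hσ x hx)

/-! ### The monomial elements of `Co0` -/

theorem smul_mem_supports {σ : Equiv.Perm GolayPt} (hσ : σ ∈ M24) {s : Finset GolayPt}
    (hs : s ∈ supports (golayCode : Set (GolayPt → ZMod 2))) :
    σ • s ∈ supports (golayCode : Set (GolayPt → ZMod 2)) := by
  have h1 : σ • supports (golayCode : Set (GolayPt → ZMod 2))
      = supports (golayCode : Set (GolayPt → ZMod 2)) := hσ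
  have h2 := Set.smul_mem_smul_set (a := σ) hs
  rwa [h1] at h2

theorem mem_inv_smul (σ : Equiv.Perm GolayPt) (c : Finset GolayPt) (j : GolayPt) :
    j ∈ σ⁻¹ • c ↔ σ j ∈ c := by
  rw [Finset.mem_inv_smul_finset_iff, Equiv.Perm.smul_def]

theorem signedPerm_inv_left (σ : Equiv.Perm GolayPt) (c : Finset GolayPt) (x : GolayPt → ℤ) :
    signedPerm σ⁻¹ (σ⁻¹ • c) (signedPerm σ c x) = x := by
  funext j
  have h1 : (σ⁻¹).symm j = σ j := rfl
  rw [signedPerm_apply, h1, signedPerm_apply, Equiv.symm_apply_apply]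
  by_cases h : σ j ∈ c
  · rw [if_pos ((mem_inv_smul σ c j).mpr h), if_pos h]; ring
  · rw [if_neg (fun h' => h ((mem_inv_smul σ c j).mp h')), if_neg h]

theorem signedPerm_inv_right (σ : Equiv.Perm GolayPt) (c : Finset GolayPt) (y : GolayPt → ℤ) :
    signedPerm σ c (signedPerm σ⁻¹ (σ⁻¹ • c) y) = y := by
  funext i
  have h1 : (σ⁻¹).symm (σ.symm i) = i := by
    show σ (σ.symm i) = i
    exact Equiv.apply_symm_apply σ i
  rw [signedPerm_apply, signedPerm_apply, h1]
  have h2 : σ.symm i ∈ σ⁻¹ • c ↔ i ∈ c := by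
    rw [mem_inv_smul, Equiv.apply_symm_apply]
  by_cases h : i ∈ c
  · rw [if_pos h, if_pos (h2.mpr h)]; ring
  · rw [if_neg h, if_neg (fun h' => h (h2.mp h'))]

/-- The monomial map attached to `σ ∈ M24` and a codeword `w`, as a permutation of the
lattice. -/
noncomputable def mono (σ : ↥M24) (w : ↥golayCode) : Equiv.Perm ↥leechLattice where
  toFun v := ⟨signedPerm σ.1 (support₂ w.1) v.1,
    signedPerm_mem σ.1 _ σ.2 ⟨w.1, w.2, rfl⟩ v.1 v.2⟩
  invFun v := ⟨signedPerm σ.1⁻¹ (σ.1⁻¹ • support₂ w.1) v.1,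
    signedPerm_mem _ _ (inv_mem σ.2) (smul_mem_supports (inv_mem σ.2) ⟨w.1, w.2, rfl⟩) v.1 v.2⟩
  left_inv v := Subtype.ext (signedPerm_inv_left _ _ _)
  right_inv v := Subtype.ext (signedPerm_inv_right _ _ _)

theorem mono_apply (σ : ↥M24) (w : ↥golayCode) (v : ↥leechLattice) :
    ((mono σ w v : ↥leechLattice) : GolayPt → ℤ) = signedPerm σ.1 (support₂ w.1) v.1 := rfl

theorem mono_mem_Co0 (σ : ↥M24) (w : ↥golayCode) : mono σ w ∈ Co0 := by
  refine ⟨fun v u => Subtype.ext ?_, fun v => ?_⟩
  · exact signedPerm_add _ _ _ _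
  · exact sqNorm_signedPerm _ _ _

theorem signedPerm_single (σ : Equiv.Perm GolayPt) (c : Finset GolayPt) (i : GolayPt) (s : ℤ) :
    signedPerm σ c (Pi.single i s) = Pi.single (σ i) (if σ i ∈ c then -s else s) := by
  funext j
  rw [signedPerm_apply]
  by_cases hj : j = σ i
  · subst hj
    simp
  · have h1 : σ.symm j ≠ i := fun h => hj (by rw [← h]; simp)
    rw [Pi.single_eq_of_ne hj, Pi.single_eq_of_ne h1]
    simp

theorem signedPerm_stdCross (σ : Equiv.Perm GolayPt) (c : Finset GolayPt) (x : GolayPt → ℤ)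
    (hx : x ∈ stdCross) : signedPerm σ c x ∈ stdCross := by
  obtain ⟨i, s, hs, rfl⟩ := hx
  rw [signedPerm_single]
  refine ⟨σ i, _, ?_, rfl⟩
  split_ifs <;> rcases hs with rfl | rfl <;> simp

/-! ### Elements of `Co0` preserving the standard cross -/

theorem co0_map_zero (g : Equiv.Perm ↥leechLattice) (hg : g ∈ Co0) : g 0 = 0 := by
  have h := hg.1 0 0
  rw [add_zero] at h
  have h2 : g 0 + g 0 = g 0 + 0 := by rw [← h, add_zero]
  exact add_left_cancel h2

theorem dot_pres (g : Equiv.Perm ↥leechLattice) (hg : g ∈ Co0) (v u : ↥leechLattice) :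
    dotInt ((g v : ↥leechLattice) : GolayPt → ℤ) ((g u : ↥leechLattice) : GolayPt → ℤ)
      = dotInt (v : GolayPt → ℤ) (u : GolayPt → ℤ) := by
  have h1 := hg.2 (v + u)
  rw [hg.1 v u, AddSubgroup.coe_add, AddSubgroup.coe_add, sqNorm_add, sqNorm_add, hg.2 v,
    hg.2 u] at h1
  linarith

/-- `8 e_i` as a lattice vector. -/
noncomputable def E (i : GolayPt) : ↥leechLattice :=
  ⟨Pi.single i 8, by rw [← Lmin_eq]; exact single8_mem i⟩

theorem dotInt_single (x : GolayPt → ℤ) (j : GolayPt) (a : ℤ) :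
    dotInt x (Pi.single j a) = x j * a := by
  unfold dotInt
  rw [Finset.sum_eq_single j]
  · rw [Pi.single_eq_same]
  · intro b _ hb; rw [Pi.single_eq_of_ne hb, mul_zero]
  · intro h; exact absurd (Finset.mem_univ j) h

theorem zmod2_eq_add_one : ∀ a b : ZMod 2, a.val + b.val = 1 → a = b + 1 := by decide

theorem two_word_mem (w : GolayPt → ZMod 2) (hw : w ∈ golayCode) :
    (fun i => 2 * ((w i).val : ℤ)) ∈ leechLattice := by
  rw [mem_leechLattice_iff, mem_leechSet_iff]
  refine ⟨0, w, hw, fun i => by simp, ?_⟩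
  rw [← Finset.mul_sum, sum_val_eq_card]
  obtain ⟨a, ha⟩ := four_dvd_card w hw
  rw [ha]; push_cast; omega

theorem v0_mem_leech : (fun i : GolayPt => if i = none then (-3 : ℤ) else 1) ∈ leechLattice := by
  rw [← Lmin_eq]; exact v0_mem

theorem partA (g : Equiv.Perm ↥leechLattice) (hg : g ∈ Co0)
    (hstd : ∀ v : ↥leechLattice, (v : GolayPt → ℤ) ∈ stdCross →
      ((g v : ↥leechLattice) : GolayPt → ℤ) ∈ stdCross) :
    ∃ σ ∈ M24, ∃ w ∈ golayCode, ∀ v : ↥leechLattice,
      ((g v : ↥leechLattice) : GolayPt → ℤ) = signedPerm σ (support₂ w) v := by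
  have hE : ∀ i, ∃ (j : GolayPt) (s : ℤ), (s = 8 ∨ s = -8) ∧
      ((g (E i) : ↥leechLattice) : GolayPt → ℤ) = Pi.single j s :=
    fun i => hstd (E i) ⟨i, 8, Or.inl rfl, rfl⟩
  choose π s hs hgE using hE
  have hinj : Function.Injective π := by
    intro i i' h
    by_contra hne
    have h1 := dot_pres g hg (E i) (E i')
    rw [hgE i, hgE i', h, dotInt_single, Pi.single_eq_same] at h1
    have h2 : dotInt ((E i : ↥leechLattice) : GolayPt → ℤ) ((E i' : ↥leechLattice) : GolayPt → ℤ)
        = 0 := by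
      show dotInt (Pi.single i 8) (Pi.single i' 8) = 0
      rw [dotInt_single, Pi.single_eq_of_ne (Ne.symm hne)]
      ring
    rw [h2] at h1
    rcases hs i with h3 | h3 <;> rcases hs i' with h4 | h4 <;> rw [h3, h4] at h1 <;>
      norm_num at h1
  have hbij : Function.Bijective π := Finite.injective_iff_bijective.mp hinj
  let σ : Equiv.Perm GolayPt := Equiv.ofBijective π hbij
  have hσ : ∀ i, σ i = π i := fun i => rfl
  let c : Finset GolayPt := Finset.univ.filter (fun j => s (σ.symm j) = -8)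
  have hgv : ∀ v : ↥leechLattice,
      ((g v : ↥leechLattice) : GolayPt → ℤ) = signedPerm σ c v := by
    intro v
    funext j
    obtain ⟨i, rfl⟩ : ∃ i, σ i = j := ⟨σ.symm j, by simp⟩
    have h1 := dot_pres g hg v (E i)
    rw [hgE i, dotInt_single] at h1
    have h2 : dotInt (v : GolayPt → ℤ) ((E i : ↥leechLattice) : GolayPt → ℤ) = v.1 i * 8 :=
      dotInt_single _ _ _
    rw [h2] at h1
    rw [signedPerm_apply, Equiv.symm_apply_apply]
    have hc : σ i ∈ c ↔ s i = -8 := by simp [c]
    rw [← hσ i] at h1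
    by_cases h3 : s i = -8
    · rw [if_pos (hc.mpr h3)]; rw [h3] at h1; linarith
    · rw [if_neg (fun h => h3 (hc.mp h))]
      have h4 : s i = 8 := (hs i).resolve_right h3
      rw [h4] at h1; linarith
  have hσM : σ ∈ M24 := by
    rw [mem_M24_iff]
    intro w hw
    have h1 := hgv ⟨_, two_word_mem w hw⟩
    have h2 : ((g ⟨_, two_word_mem w hw⟩ : ↥leechLattice) : GolayPt → ℤ) ∈ leechLattice :=
      (g ⟨_, two_word_mem w hw⟩).2
    rw [h1, mem_leechLattice_iff, mem_leechSet_iff] at h2
    obtain ⟨m', w', hw', h3, -⟩ := h2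
    have h4 : ∀ j, (m' + 2 * ((w' j).val : ℤ)) % 4 = (2 * ((w (σ.symm j)).val : ℤ)) % 4 := by
      intro j
      rw [← h3 j, signedPerm_apply]
      show (if j ∈ c then -(2 * ((w (σ.symm j)).val : ℤ)) else 2 * ((w (σ.symm j)).val : ℤ)) % 4
        = _
      split_ifs <;> omega
    have h5 := h4 none
    have hm : m' % 4 = 0 ∨ m' % 4 = 2 := by
      rcases val_cases (w' none) with h | h <;>
        rcases val_cases (w (σ.symm none)) with h' | h' <;> rw [h, h'] at h5 <;> omega
    rcases hm with hm | hm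
    · have : permWord σ w = w' := by
        funext j
        rw [permWord_apply]
        have := h4 j
        apply ZMod.val_injective 2
        rcases val_cases (w' j) with h | h <;>
          rcases val_cases (w (σ.symm j)) with h' | h' <;> rw [h, h'] at this ⊢ <;> omega
      rw [this]; exact hw'
    · have : permWord σ w = w' + 1 := by
        funext j
        rw [permWord_apply, Pi.add_apply, Pi.one_apply]
        have := h4 j
        apply zmod2_eq_add_one
        rcases val_cases (w' j) with h | h <;>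
          rcases val_cases (w (σ.symm j)) with h' | h' <;> rw [h, h'] at this ⊢ <;> omega
      rw [this]; exact Submodule.add_mem _ hw' one_mem_golay
  have hcS : ∃ w ∈ golayCode, support₂ w = c := by
    have h1 := hgv ⟨_, v0_mem_leech⟩
    have h2 : ((g ⟨_, v0_mem_leech⟩ : ↥leechLattice) : GolayPt → ℤ) ∈ leechLattice :=
      (g ⟨_, v0_mem_leech⟩).2
    rw [h1, mem_leechLattice_iff, mem_leechSet_iff] at h2
    obtain ⟨m', w', hw', h3, -⟩ := h2
    have h4 : ∀ j, (m' + 2 * ((w' j).val : ℤ)) % 4 = if j ∈ c then 3 else 1 := by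
      intro j
      rw [← h3 j, signedPerm_apply]
      by_cases hj : j ∈ c
      · rw [if_pos hj, if_pos hj]
        show (-(if σ.symm j = none then (-3 : ℤ) else 1)) % 4 = 3
        split_ifs <;> norm_num
      · rw [if_neg hj, if_neg hj]
        show (if σ.symm j = none then (-3 : ℤ) else 1) % 4 = 1
        split_ifs <;> norm_num
    have h5 := h4 none
    have hm : m' % 4 = 1 ∨ m' % 4 = 3 := by
      rcases val_cases (w' none) with h | h <;> rw [h] at h5 <;> split_ifs at h5 <;> omega
    rcases hm with hm | hm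
    · refine ⟨w', hw', ?_⟩
      ext j
      unfold support₂
      rw [Finset.mem_filter, ne_zero_iff_val]
      have := h4 j
      simp only [Finset.mem_univ, true_and]
      rcases val_cases (w' j) with h | h <;> rw [h] at this ⊢ <;> split_ifs at this with h6 <;>
        first | omega | simp [h6]
    · refine ⟨w' + 1, Submodule.add_mem _ hw' one_mem_golay, ?_⟩
      ext j
      unfold support₂
      rw [Finset.mem_filter, Pi.add_apply, Pi.one_apply, add_one_ne_zero_iff_val]
      have := h4 j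
      simp only [Finset.mem_univ, true_and]
      rcases val_cases (w' j) with h | h <;> rw [h] at this ⊢ <;> split_ifs at this with h6 <;>
        first | omega | simp [h6]
  obtain ⟨w, hw, hwc⟩ := hcS
  exact ⟨σ, hσM, w, hw, fun v => by rw [hwc]; exact hgv v⟩

/-! ### Counting the stabiliser of the standard cross -/

theorem smul_coe (g : ↥Co0) (v : ↥leechLattice) : g • v = (g : Equiv.Perm ↥leechLattice) v := rfl

theorem mono_std (σ : ↥M24) (w : ↥golayCode) (v : ↥leechLattice)
    (hv : (v : GolayPt → ℤ) ∈ stdCross) :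
    (((⟨mono σ w, mono_mem_Co0 σ w⟩ : ↥Co0) • v : ↥leechLattice) : GolayPt → ℤ) ∈ stdCross :=
  signedPerm_stdCross _ _ _ hv

/-- The parametrisation of the stabiliser by `M24 × golayCode`. -/
noncomputable def Phi (p : ↥M24 × ↥golayCode) :
    {g : ↥Co0 // ∀ v : ↥leechLattice, (v : GolayPt → ℤ) ∈ stdCross →
      ((g • v : ↥leechLattice) : GolayPt → ℤ) ∈ stdCross} :=
  ⟨⟨mono p.1 p.2, mono_mem_Co0 p.1 p.2⟩, mono_std p.1 p.2⟩

theorem single_inj (j j' : GolayPt) (a b : ℤ) (ha : a ≠ 0)
    (h : (Pi.single j a : GolayPt → ℤ) = Pi.single j' b) : j = j' := by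
  by_contra hne
  have h1 := congrFun h j
  rw [Pi.single_eq_same, Pi.single_eq_of_ne hne] at h1
  exact ha h1

theorem Phi_injective : Function.Injective Phi := by
  rintro ⟨σ, w⟩ ⟨σ', w'⟩ h
  have h1 : mono σ w = mono σ' w' := by
    have := congrArg (fun q => ((q.1 : ↥Co0) : Equiv.Perm ↥leechLattice)) h
    exact this
  have hσ : σ = σ' := by
    apply Subtype.ext
    apply Equiv.ext
    intro i
    have h2 := congrArg (fun q : Equiv.Perm ↥leechLattice =>
      ((q (E i) : ↥leechLattice) : GolayPt → ℤ)) h1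
    simp only [mono_apply] at h2
    have h3 : ((E i : ↥leechLattice) : GolayPt → ℤ) = Pi.single i 8 := rfl
    rw [h3, signedPerm_single, signedPerm_single] at h2
    refine single_inj _ _ _ _ ?_ h2
    split_ifs <;> norm_num
  subst hσ
  have hw : w = w' := by
    apply Subtype.ext
    apply support₂_injective
    have h2 := congrArg (fun q : Equiv.Perm ↥leechLattice =>
      ((q ⟨_, v0_mem_leech⟩ : ↥leechLattice) : GolayPt → ℤ)) h1
    simp only [mono_apply] at h2
    ext j
    have h3 := congrFun h2 j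
    rw [signedPerm_apply, signedPerm_apply] at h3
    have h4 : (if σ.1.symm j = none then (-3 : ℤ) else 1) ≠ 0 := by
      split_ifs <;> norm_num
    by_cases ha : j ∈ support₂ w.1 <;> by_cases hb : j ∈ support₂ w'.1
    · exact ⟨fun _ => hb, fun _ => ha⟩
    · rw [if_pos ha, if_neg hb] at h3
      exact absurd (by linarith) h4
    · rw [if_neg ha, if_pos hb] at h3
      exact absurd (by linarith) h4
    · exact ⟨fun h => absurd h ha, fun h => absurd h hb⟩
  rw [hw]

theorem Phi_surjective : Function.Surjective Phi := by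
  rintro ⟨⟨g, hg⟩, hP⟩
  obtain ⟨σ, hσ, w, hw, hgv⟩ := partA g hg hP
  refine ⟨(⟨σ, hσ⟩, ⟨w, hw⟩), ?_⟩
  apply Subtype.ext
  apply Subtype.ext
  apply Equiv.ext
  intro v
  apply Subtype.ext
  exact (hgv v).symm

theorem card_golayCode : Nat.card ↥golayCode = 4096 := by
  rw [Module.natCard_eq_pow_finrank (K := ZMod 2), finrank_golayCode, Nat.card_zmod]
  norm_num

theorem card_stab : Nat.card {g : ↥Co0 // ∀ v : ↥leechLattice, (v : GolayPt → ℤ) ∈ stdCross →
      ((g • v : ↥leechLattice) : GolayPt → ℤ) ∈ stdCross} = 4096 * 244823040 := by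
  rw [← Nat.card_congr (Equiv.ofBijective Phi ⟨Phi_injective, Phi_surjective⟩), Nat.card_prod,
    card_M24, card_golayCode]

theorem stab_monomial (g : ↥Co0)
    (hP : ∀ v : ↥leechLattice, (v : GolayPt → ℤ) ∈ stdCross →
      ((g • v : ↥leechLattice) : GolayPt → ℤ) ∈ stdCross) :
    ∃ f ∈ golayMonomialMaps, ∀ v : ↥leechLattice,
      ((g • v : ↥leechLattice) : GolayPt → ℤ) = f (v : GolayPt → ℤ) := by
  obtain ⟨σ, hσ, w, hw, hgv⟩ := partA g.1 g.2 hP
  exact ⟨signedPerm σ (support₂ w), ⟨σ, hσ, support₂ w, ⟨w, hw, rfl⟩, rfl⟩, hgv⟩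

end Cfsg.Agent.Lib.Helper14.LeechMono
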