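import Mathlib
import Cfsg.Prelude.Def_Sporadic_a
import Cfsg.Prelude.Def_SporadicCombinatorics
import Cfsg.Agent.Lib.Helper14.LeechMono
import Cfsg.Agent.Lib.Helper3.Golay.M24Trans

set_option autoImplicit false

/-! The centre of the automorphism group of the Leech lattice is `{±1}`. -/

namespace Cfsg.Agent.Lib.Helper14.Co0Center

open Cfsg
open Cfsg.Agent.Lib.Helper14.Golay
open Cfsg.Agent.Lib.Helper14.Leech
open Cfsg.Agent.Lib.Helper14.LeechMono
open Cfsg.Agent.Lib.Helper3.Golay
open scoped Pointwise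

/-- the negation map of the lattice -/
noncomputable def negPerm : Equiv.Perm ↥leechLattice := Equiv.neg _

theorem negPerm_apply (v : ↥leechLattice) : negPerm v = -v := rfl

theorem negPerm_mem : negPerm ∈ Co0 :=
  ⟨fun v w => neg_add v w, fun v => sqNorm_neg (v : GolayPt → ℤ)⟩

theorem co0_map_neg (g : Equiv.Perm ↥leechLattice) (hg : g ∈ Co0) (v : ↥leechLattice) :
    g (-v) = -g v := by
  have h := hg.1 v (-v)
  rw [add_neg_cancel, co0_map_zero g hg] at h
  exact eq_neg_of_add_eq_zero_right h.symm

theorem qr_sep : ∀ i j : GolayPt, i ≠ j → ∃ t : ZMod 23, qrWord t i ≠ qrWord t j := by decide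

theorem zmod2_sep : ∀ a b : ZMod 2, a ≠ b → (a ≠ 0 ∧ b = 0) ∨ (a + 1 ≠ 0 ∧ b + 1 = 0) := by decide

theorem exists_sep (i j : GolayPt) (h : i ≠ j) : ∃ w ∈ golayCode, w i ≠ 0 ∧ w j = 0 := by
  obtain ⟨t, ht⟩ := qr_sep i j h
  have hq : qrWord t ∈ golayCode := by
    unfold golayCode
    exact Submodule.subset_span (Or.inl ⟨t, rfl⟩)
  rcases zmod2_sep _ _ ht with h1 | h1
  · exact ⟨qrWord t, hq, h1⟩
  · exact ⟨qrWord t + 1, Submodule.add_mem _ hq one_mem_golay, h1⟩

theorem E_coe (i : GolayPt) : ((E i : ↥leechLattice) : GolayPt → ℤ) = Pi.single i 8 := rfl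

theorem sqNorm_single (i : GolayPt) (a : ℤ) : sqNorm (Pi.single i a : GolayPt → ℤ) = a ^ 2 := by
  unfold sqNorm
  rw [Finset.sum_eq_single i]
  · rw [Pi.single_eq_same]
  · intro b _ hb; rw [Pi.single_eq_of_ne hb]; ring
  · intro h; exact absurd (Finset.mem_univ i) h

theorem zero_golay : (0 : GolayPt → ZMod 2) ∈ golayCode := Submodule.zero_mem _

theorem support₂_zero : support₂ (0 : GolayPt → ZMod 2) = ∅ := by
  unfold support₂; simp

theorem center_cases (z : Equiv.Perm ↥leechLattice) (hz : z ∈ Co0)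
    (hcomm : ∀ g ∈ Co0, ∀ v, z (g v) = g (z v)) : z = 1 ∨ z = negPerm := by
  -- step 1: `z (8 e_i)` is supported at `i`
  have hsupp : ∀ i j, j ≠ i → ((z (E i) : ↥leechLattice) : GolayPt → ℤ) j = 0 := by
    intro i j hji
    obtain ⟨w, hw, hwi, hwj⟩ := exists_sep i j (Ne.symm hji)
    have hεE : mono 1 ⟨w, hw⟩ (E i) = -E i := by
      apply Subtype.ext
      rw [mono_apply, AddSubgroup.coe_neg, E_coe]
      show signedPerm 1 (support₂ w) (Pi.single i 8) = _
      rw [signedPerm_single]
      have hi : (1 : Equiv.Perm GolayPt) i ∈ support₂ w := by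
        rw [Equiv.Perm.one_apply]
        unfold support₂
        simp [hwi]
      rw [if_pos hi, Equiv.Perm.one_apply]
      funext k
      by_cases hk : k = i
      · subst hk; simp
      · simp [Pi.single_eq_of_ne hk]
    have h1 := hcomm _ (mono_mem_Co0 1 ⟨w, hw⟩) (E i)
    rw [hεE, co0_map_neg z hz] at h1
    have h2 := congrArg (fun v : ↥leechLattice => (v : GolayPt → ℤ) j) h1
    simp only [mono_apply, AddSubgroup.coe_neg, Pi.neg_apply] at h2
    rw [signedPerm_apply] at h2
    have hj : j ∉ support₂ w := by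
      unfold support₂
      simp [hwj]
    rw [if_neg hj] at h2
    have h3 : (Equiv.symm ((1 : ↥M24) : Equiv.Perm GolayPt)) j = j := rfl
    rw [h3] at h2
    omega
  have hval : ∀ i, ((z (E i) : ↥leechLattice) : GolayPt → ℤ) i = 8 ∨
      ((z (E i) : ↥leechLattice) : GolayPt → ℤ) i = -8 := by
    intro i
    have h1 := hz.2 (E i)
    have h2 : ((z (E i) : ↥leechLattice) : GolayPt → ℤ)
        = Pi.single i (((z (E i) : ↥leechLattice) : GolayPt → ℤ) i) := by
      funext k
      by_cases hk : k = i
      · subst hk; simp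
      · rw [Pi.single_eq_of_ne hk]; exact hsupp i k hk
    rw [h2, sqNorm_single, E_coe, sqNorm_single] at h1
    have h3 : (((z (E i) : ↥leechLattice) : GolayPt → ℤ) i - 8) *
        (((z (E i) : ↥leechLattice) : GolayPt → ℤ) i + 8) = 0 := by
      ring_nf; ring_nf at h1; omega
    rcases mul_eq_zero.mp h3 with h | h
    · left; omega
    · right; omega
  have hzE : ∀ i, ((z (E i) : ↥leechLattice) : GolayPt → ℤ)
      = Pi.single i (((z (E i) : ↥leechLattice) : GolayPt → ℤ) i) := by
    intro i
    funext k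
    by_cases hk : k = i
    · subst hk; simp
    · rw [Pi.single_eq_of_ne hk]; exact hsupp i k hk
  -- step 2: `z` preserves the standard cross
  have hstd : ∀ v : ↥leechLattice, (v : GolayPt → ℤ) ∈ stdCross →
      ((z v : ↥leechLattice) : GolayPt → ℤ) ∈ stdCross := by
    rintro v ⟨i, s, hs, hv⟩
    rcases hs with rfl | rfl
    · have : v = E i := Subtype.ext hv
      rw [this, hzE i]
      exact ⟨i, _, hval i, rfl⟩
    · have : v = -E i := by
        apply Subtype.ext
        rw [hv, AddSubgroup.coe_neg, E_coe]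
        funext k
        by_cases hk : k = i
        · subst hk; simp
        · simp [Pi.single_eq_of_ne hk]
      rw [this, co0_map_neg z hz, AddSubgroup.coe_neg, hzE i]
      refine ⟨i, -(((z (E i) : ↥leechLattice) : GolayPt → ℤ) i), ?_, ?_⟩
      · rcases hval i with h | h <;> rw [h] <;> norm_num
      · funext k
        by_cases hk : k = i
        · subst hk; simp
        · simp [Pi.single_eq_of_ne hk]
  obtain ⟨σ, hσ, w, hw, hzv⟩ := partA z hz hstd
  -- step 3: the permutation part is trivial
  have hσ1 : σ = 1 := by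
    apply Equiv.ext
    intro i
    have h1 := hzv (E i)
    rw [hzE i, E_coe, signedPerm_single] at h1
    have h2 := single_inj _ _ _ _ (by rcases hval i with h | h <;> rw [h] <;> norm_num) h1
    rw [Equiv.Perm.one_apply]
    exact h2.symm
  subst hσ1
  -- step 4: the sign set is invariant under `M24`
  have hinv : ∀ π ∈ M24, ∀ j, j ∈ support₂ w ↔ π.symm j ∈ support₂ w := by
    intro π hπ j
    have h1 := hcomm _ (mono_mem_Co0 ⟨π, hπ⟩ ⟨0, zero_golay⟩) ⟨_, v0_mem_leech⟩
    have h2 := congrArg (fun v : ↥leechLattice => (v : GolayPt → ℤ) j) h1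
    simp only [hzv, mono_apply] at h2
    rw [signedPerm_apply, signedPerm_apply, signedPerm_apply, signedPerm_apply, support₂_zero] at h2
    simp only [Finset.notMem_empty, if_false] at h2
    have h3 : (1 : Equiv.Perm GolayPt).symm j = j := rfl
    have h4 : (1 : Equiv.Perm GolayPt).symm (π.symm j) = π.symm j := rfl
    rw [h3, h4] at h2
    have h5 : (if π.symm j = none then (-3 : ℤ) else 1) ≠ 0 := by
      split_ifs <;> norm_num
    by_cases ha : j ∈ support₂ w <;> by_cases hb : π.symm j ∈ support₂ w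
    · exact ⟨fun _ => hb, fun _ => ha⟩
    · rw [if_pos ha, if_neg hb] at h2
      exact absurd (by linarith) h5
    · rw [if_neg ha, if_pos hb] at h2
      exact absurd (by linarith) h5
    · exact ⟨fun h => absurd h ha, fun h => absurd h hb⟩
  by_cases hne : (support₂ w).Nonempty
  · right
    obtain ⟨a, ha⟩ := hne
    have hall : ∀ b, b ∈ support₂ w := by
      intro b
      obtain ⟨π, hπ, hπb⟩ := exists_map_one b a
      have := (hinv π hπ a).mp ha
      rwa [← hπb, Equiv.symm_apply_apply] at this
    apply Equiv.ext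
    intro v
    apply Subtype.ext
    rw [hzv v, negPerm_apply, AddSubgroup.coe_neg]
    funext j
    rw [signedPerm_apply, if_pos (hall j)]
    rfl
  · left
    rw [Finset.not_nonempty_iff_eq_empty] at hne
    apply Equiv.ext
    intro v
    apply Subtype.ext
    rw [hzv v, hne]
    funext j
    rw [signedPerm_apply, if_neg (Finset.notMem_empty j)]
    rfl

/-- negation as an element of `Co0` -/
noncomputable def negC : ↥Co0 := ⟨negPerm, negPerm_mem⟩

theorem negC_mem_center : negC ∈ Subgroup.center ↥Co0 := by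
  rw [Subgroup.mem_center_iff]
  intro g
  apply Subtype.ext
  apply Equiv.ext
  intro v
  show (g : Equiv.Perm ↥leechLattice) (negPerm v) = negPerm ((g : Equiv.Perm ↥leechLattice) v)
  rw [negPerm_apply, negPerm_apply, co0_map_neg _ g.2]

theorem negC_ne_one : negC ≠ 1 := by
  intro h
  have h1 := congrArg (fun g : ↥Co0 => (((g : Equiv.Perm ↥leechLattice) (E none) : ↥leechLattice)
    : GolayPt → ℤ) none) h
  simp only [negC, negPerm_apply, AddSubgroup.coe_neg, Pi.neg_apply, E_coe, Pi.single_eq_same,
    OneMemClass.coe_one, Equiv.Perm.one_apply] at h1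
  norm_num at h1

theorem center_elems (z : ↥Co0) (hz : z ∈ Subgroup.center ↥Co0) : z = 1 ∨ z = negC := by
  rw [Subgroup.mem_center_iff] at hz
  have hcomm : ∀ g ∈ Co0, ∀ v, (z : Equiv.Perm ↥leechLattice) (g v)
      = g ((z : Equiv.Perm ↥leechLattice) v) := by
    intro g hg v
    have h1 := hz ⟨g, hg⟩
    have h2 := congrArg (fun q : ↥Co0 => (q : Equiv.Perm ↥leechLattice) v) h1
    exact h2.symm
  rcases center_cases z.1 z.2 hcomm with h | h
  · left; exact Subtype.ext h
  · right; exact Subtype.ext h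

theorem card_center : Nat.card (Subgroup.center ↥Co0) = 2 := by
  rw [Nat.card_eq_two_iff]
  refine ⟨1, ⟨negC, negC_mem_center⟩, ?_, ?_⟩
  · intro h
    exact negC_ne_one (congrArg Subtype.val h).symm
  · ext z
    simp only [Set.mem_insert_iff, Set.mem_singleton_iff, Set.mem_univ, iff_true]
    rcases center_elems z.1 z.2 with h | h
    · left; exact Subtype.ext h
    · right; exact Subtype.ext h

end Cfsg.Agent.Lib.Helper14.Co0Center
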