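import Mathlib

set_option autoImplicit false

/-! Counting integer vectors with prescribed coordinate alphabets and prescribed value of an
additive statistic, by evaluating the generating polynomial at a large base. -/

namespace Cfsg.Agent.Lib.Helper14.GFCount

/-- the generating function of an additive statistic factorises -/
theorem sum_pow_eq_prod {ι : Type*} [Fintype ι] [DecidableEq ι] (A : ι → Finset ℤ) (g : ℤ → ℕ)
    (B : ℕ) :
    ∑ x ∈ Fintype.piFinset A, B ^ (∑ i, g (x i)) = ∏ i, ∑ a ∈ A i, B ^ g a := by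
  rw [Finset.prod_univ_sum]
  refine Finset.sum_congr rfl fun x _ => ?_
  rw [Finset.prod_pow_eq_pow_sum]

/-- digit extraction -/
theorem digit_eq_card {P : Type*} [DecidableEq P] (S : Finset P) (e : P → ℕ) (B : ℕ)
    (hB : S.card < B) (v : ℕ) :
    (∑ p ∈ S, B ^ e p) / B ^ v % B = (S.filter (fun p => e p = v)).card := by
  have hBpos : 0 < B := by omega
  have hBv : 0 < B ^ v := Nat.pow_pos hBpos
  set S1 := S.filter (fun p => e p < v) with hS1
  set S2 := S.filter (fun p => e p = v) with hS2
  set S3 := S.filter (fun p => v < e p) with hS3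
  have hsplit : ∑ p ∈ S, B ^ e p = ∑ p ∈ S1, B ^ e p + ∑ p ∈ S2, B ^ e p + ∑ p ∈ S3, B ^ e p := by
    have h1 := Finset.sum_filter_add_sum_filter_not S (fun p => e p < v) (fun p => B ^ e p)
    have h2 := Finset.sum_filter_add_sum_filter_not (S.filter (fun p => ¬ e p < v))
      (fun p => e p = v) (fun p => B ^ e p)
    rw [Finset.filter_filter, Finset.filter_filter] at h2
    have e2 : S.filter (fun p => ¬ e p < v ∧ e p = v) = S2 := by
      rw [hS2]; apply Finset.filter_congr; intro p _; omega
    have e3 : S.filter (fun p => ¬ e p < v ∧ ¬ e p = v) = S3 := by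
      rw [hS3]; apply Finset.filter_congr; intro p _; omega
    rw [e2, e3] at h2
    rw [← h1, ← h2, add_assoc]
  have h2 : ∑ p ∈ S2, B ^ e p = S2.card * B ^ v := by
    rw [Finset.sum_congr rfl (fun p hp => by rw [(Finset.mem_filter.mp hp).2]),
      Finset.sum_const, smul_eq_mul]
  have h3 : ∑ p ∈ S3, B ^ e p = B ^ v * (B * ∑ p ∈ S3, B ^ (e p - v - 1)) := by
    rw [Finset.mul_sum, Finset.mul_sum]
    refine Finset.sum_congr rfl fun p hp => ?_
    have := (Finset.mem_filter.mp hp).2
    rw [← mul_assoc, ← pow_succ, ← pow_add]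
    congr 1
    omega
  have h1 : ∑ p ∈ S1, B ^ e p < B ^ v := by
    rcases Nat.eq_zero_or_pos v with hv | hv
    · have : S1 = ∅ := by
        rw [hS1, Finset.filter_eq_empty_iff]; intro p _; omega
      rw [this, Finset.sum_empty]; exact hBv
    · have hle : ∑ p ∈ S1, B ^ e p ≤ S1.card * B ^ (v - 1) := by
        rw [← smul_eq_mul, ← Finset.sum_const]
        refine Finset.sum_le_sum fun p hp => ?_
        have := (Finset.mem_filter.mp hp).2
        exact Nat.pow_le_pow_right hBpos (by omega)
      have hc : S1.card < B := lt_of_le_of_lt (Finset.card_filter_le _ _) hB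
      have : S1.card * B ^ (v - 1) < B * B ^ (v - 1) :=
        Nat.mul_lt_mul_of_pos_right hc (Nat.pow_pos hBpos)
      have hpow : B * B ^ (v - 1) = B ^ v := by
        rw [← pow_succ']; congr 1; omega
      omega
  have hc2 : S2.card < B := lt_of_le_of_lt (Finset.card_filter_le _ _) hB
  set L := ∑ p ∈ S1, B ^ e p with hL
  set H := ∑ p ∈ S3, B ^ (e p - v - 1) with hH
  have hN : ∑ p ∈ S, B ^ e p = L + B ^ v * (S2.card + B * H) := by
    rw [hsplit, h2, h3]; ring
  rw [hN, Nat.add_mul_div_left _ _ hBv, Nat.div_eq_of_lt h1, zero_add, Nat.add_mul_mod_self_left,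
    Nat.mod_eq_of_lt hc2]

/-- the number of vectors in a box with a given value of the statistic -/
theorem card_filter_eq_digit {ι : Type*} [Fintype ι] [DecidableEq ι] (A : ι → Finset ℤ)
    (g : ℤ → ℕ) (B : ℕ) (hB : ∏ i, (A i).card < B) (v : ℕ) :
    ((Fintype.piFinset A).filter (fun x => ∑ i, g (x i) = v)).card
      = (∏ i, ∑ a ∈ A i, B ^ g a) / B ^ v % B := by
  rw [← sum_pow_eq_prod, digit_eq_card _ _ _ (by rw [Fintype.card_piFinset]; exact hB)]

end Cfsg.Agent.Lib.Helper14.GFCount
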