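import Mathlib
import Cfsg.Prelude.Def_Sporadic_a
import Cfsg.Agent.Lib.Helper14.LeechCount
import Cfsg.Agent.Lib.Helper3.Golay.Bits
import Cfsg.Agent.Lib.Helper3.Golay.Code
import Cfsg.Agent.Lib.Helper3.Golay.Weights

set_option autoImplicit false

/-! Counting the 196560 minimal vectors. -/

namespace Cfsg.Agent.Lib.Helper14.LeechCount

open Cfsg Cfsg.Agent.Lib.Helper14.Golay Cfsg.Agent.Lib.Helper14.Leech

/-- even subsets of a nonempty set: half of all subsets -/
theorem card_even_subsets {α : Type*} [DecidableEq α] (S : Finset α) (hS : S.Nonempty) :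
    2 * (S.powerset.filter (fun U => Even U.card)).card = 2 ^ S.card := by
  have h0 := Finset.sum_powerset_neg_one_pow_card_of_nonempty hS
  rw [← Finset.sum_filter_add_sum_filter_not S.powerset (fun U => Even U.card)] at h0
  have h1 : ∑ U ∈ S.powerset.filter (fun U => Even U.card), (-1 : ℤ) ^ U.card
      = ((S.powerset.filter (fun U => Even U.card)).card : ℤ) := by
    rw [Finset.sum_congr rfl (g := fun _ => (1 : ℤ))]
    · simp
    · intro U hU
      exact Even.neg_one_pow (Finset.mem_filter.mp hU).2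
  have h2 : ∑ U ∈ S.powerset.filter (fun U => ¬ Even U.card), (-1 : ℤ) ^ U.card
      = -((S.powerset.filter (fun U => ¬ Even U.card)).card : ℤ) := by
    rw [Finset.sum_congr rfl (g := fun _ => (-1 : ℤ))]
    · simp
    · intro U hU
      exact Odd.neg_one_pow (Nat.not_even_iff_odd.mp (Finset.mem_filter.mp hU).2)
  rw [h1, h2] at h0
  have h3 := Finset.card_filter_add_card_filter_not (s := S.powerset) (fun U => Even U.card)
  rw [Finset.card_powerset] at h3
  have : ((S.powerset.filter (fun U => Even U.card)).card : ℤ)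
      = ((S.powerset.filter (fun U => ¬ Even U.card)).card : ℤ) := by omega
  have h4 : (S.powerset.filter (fun U => Even U.card)).card
      = (S.powerset.filter (fun U => ¬ Even U.card)).card := by exact_mod_cast this
  omega

theorem card_even_subsets_eight {α : Type*} [DecidableEq α] (S : Finset α) (hS : S.card = 8) :
    (S.powerset.filter (fun U => Even U.card)).card = 128 := by
  have hne : S.Nonempty := by
    rw [← Finset.card_pos, hS]; norm_num
  have := card_even_subsets S hne
  rw [hS] at this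
  omega

theorem PhiO_aux (a b k k' : ℤ) (ha : a = 1 ∨ a = -1) (hb : b = 1 ∨ b = -1)
    (hk : k = -3 ∨ k = 1) (hk' : k' = -3 ∨ k' = 1) (h : a * k = b * k') : k = k' ∧ a = b := by
  rcases ha with rfl | rfl <;> rcases hb with rfl | rfl <;> rcases hk with rfl | rfl <;>
    rcases hk' with rfl | rfl <;> first | (norm_num at h; done) | norm_num

theorem PhiO_injective : Function.Injective PhiO := by
  rintro ⟨w, j⟩ ⟨w', j'⟩ h
  have key : ∀ i, (if i = j then (-3 : ℤ) else 1) = (if i = j' then -3 else 1) ∧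
      (1 - 2 * ((w i).val : ℤ)) = (1 - 2 * ((w' i).val : ℤ)) := by
    intro i
    have hi := congrFun h i
    rw [PhiO_apply, PhiO_apply] at hi
    apply PhiO_aux _ _ _ _ _ _ _ _ hi
    · rcases val_cases (w i) with hv | hv <;> rw [hv] <;> norm_num
    · rcases val_cases (w' i) with hv | hv <;> rw [hv] <;> norm_num
    · by_cases h1 : i = j
      · left; rw [if_pos h1]
      · right; rw [if_neg h1]
    · by_cases h1 : i = j'
      · left; rw [if_pos h1]
      · right; rw [if_neg h1]
  have hj : j = j' := by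
    have := (key j).1
    rw [if_pos rfl] at this
    by_contra hne
    rw [if_neg hne] at this
    norm_num at this
  subst hj
  have hw : w = w' := by
    funext i
    apply ZMod.val_injective 2
    have := (key i).2
    omega
  rw [hw]

open Classical in
/-- the code as a finset -/
noncomputable def Cf : Finset (GolayPt → ZMod 2) := Finset.univ.filter (· ∈ golayCode)

theorem mem_Cf (w : GolayPt → ZMod 2) : w ∈ Cf ↔ w ∈ golayCode := by
  simp [Cf]

theorem card_Cf : Cf.card = 4096 := by
  have h1 : (golayCode : Set (GolayPt → ZMod 2)) = ↑Cf := by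
    ext w; simp [mem_Cf]
  have h2 : (golayCode : Set (GolayPt → ZMod 2)).ncard = Nat.card golayCode := by
    rw [← Nat.card_coe_set_eq]; rfl
  rw [h1, Set.ncard_coe_finset, Module.natCard_eq_pow_finrank (K := ZMod 2),
    Cfsg.Agent.Lib.Helper3.Golay.finrank_golayCode, Nat.card_zmod] at h2
  rw [h2]; norm_num

open Classical in
/-- the code words of weight 8 -/
noncomputable def Oct8 : Finset (GolayPt → ZMod 2) := Cf.filter (fun w => (support₂ w).card = 8)

theorem mem_Oct8 (w : GolayPt → ZMod 2) : w ∈ Oct8 ↔ w ∈ golayCode ∧ (support₂ w).card = 8 := by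
  simp [Oct8, mem_Cf]

theorem card_Oct8 : Oct8.card = 759 := by
  have h1 : octads = support₂ '' (↑Oct8 : Set (GolayPt → ZMod 2)) := by
    ext b
    unfold octads wordsOfWeight supports
    simp only [Set.mem_ofPred_eq, Set.mem_image, SetLike.mem_coe, mem_Oct8]
    constructor
    · rintro ⟨⟨w, hw, rfl⟩, h8⟩
      exact ⟨w, ⟨hw, h8⟩, rfl⟩
    · rintro ⟨w, ⟨hw, h8⟩, rfl⟩
      exact ⟨⟨w, hw, rfl⟩, h8⟩
  have h2 := Cfsg.Agent.Lib.Helper3.Golay.ncard_octads
  rw [h1, Set.ncard_image_of_injective _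
    (fun v w h => Cfsg.Agent.Lib.Helper3.Golay.support₂_injective h), Set.ncard_coe_finset] at h2
  exact h2


/-! ### the parameter sets -/

open Classical in
@[irreducible] noncomputable def PO : Finset ((GolayPt → ZMod 2) × GolayPt) := Cf ×ˢ Finset.univ

open Classical in
@[irreducible] noncomputable def P2 : Finset ((_ : GolayPt → ZMod 2) × Finset GolayPt) :=
  Oct8.sigma (fun w => (support₂ w).powerset.filter (fun U => Even U.card))

/-- the octad family -/
def f2 (p : (_ : GolayPt → ZMod 2) × Finset GolayPt) : GolayPt → ℤ :=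
  Psi 2 ⟨support₂ p.1, p.2⟩

open Classical in
@[irreducible] noncomputable def P4 : Finset ((_ : Finset GolayPt) × Finset GolayPt) :=
  (Finset.powersetCard 2 Finset.univ).sigma (fun T => T.powerset)

theorem card_PO : PO.card = 98304 := by
  unfold PO
  rw [Finset.card_product, card_Cf, Finset.card_univ, card_golayPt]

theorem card_P2 : P2.card = 97152 := by
  classical
  unfold P2
  rw [Finset.card_sigma, Finset.sum_congr rfl (g := fun _ => 128)]
  · rw [Finset.sum_const, card_Oct8]
    rfl
  · intro w hw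
    have h8 := ((mem_Oct8 w).mp hw).2
    convert card_even_subsets_eight (support₂ w) h8

theorem card_P4 : P4.card = 1104 := by
  classical
  unfold P4
  rw [Finset.card_sigma, Finset.sum_congr rfl (g := fun _ => 4)]
  · rw [Finset.sum_const, Finset.card_powersetCard, Finset.card_univ, card_golayPt]
    rfl
  · intro T hT
    rw [Finset.card_powerset, (Finset.mem_powersetCard.mp hT).2]
    rfl

theorem mem_P2 (p : (_ : GolayPt → ZMod 2) × Finset GolayPt) :
    p ∈ P2 ↔ (p.1 ∈ golayCode ∧ (support₂ p.1).card = 8) ∧ p.2 ⊆ support₂ p.1 ∧ Even p.2.card := by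
  classical
  unfold P2
  rw [Finset.mem_sigma, mem_Oct8, Finset.mem_filter, Finset.mem_powerset]

theorem mem_P4 (p : (_ : Finset GolayPt) × Finset GolayPt) :
    p ∈ P4 ↔ p.1.card = 2 ∧ p.2 ⊆ p.1 := by
  classical
  unfold P4
  rw [Finset.mem_sigma, Finset.mem_powersetCard, Finset.mem_powerset]
  simp

theorem mem_PO (p : (GolayPt → ZMod 2) × GolayPt) : p ∈ PO ↔ p.1 ∈ golayCode := by
  classical
  unfold PO
  rw [Finset.mem_product, mem_Cf]
  simp

theorem f2_injOn : Set.InjOn f2 ↑P2 := by
  rintro ⟨w, U⟩ hp ⟨w', U'⟩ hp' h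
  rw [Finset.mem_coe, mem_P2] at hp hp'
  have hinj := Psi_injOn (c := 2) (by norm_num)
    {q : (_ : Finset GolayPt) × Finset GolayPt | q.2 ⊆ q.1} (fun q hq => hq)
  have := hinj (show (⟨support₂ w, U⟩ : (_ : Finset GolayPt) × Finset GolayPt) ∈ _ from hp.2.1)
    (show (⟨support₂ w', U'⟩ : (_ : Finset GolayPt) × Finset GolayPt) ∈ _ from hp'.2.1) h
  rw [Sigma.mk.injEq] at this
  obtain ⟨h1, h2⟩ := this
  have hw : w = w' := Cfsg.Agent.Lib.Helper3.Golay.support₂_injective h1
  subst hw
  rw [heq_eq_eq] at h2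
  rw [h2]

theorem Psi4_injOn : Set.InjOn (Psi 4) ↑P4 := by
  apply Psi_injOn (by norm_num)
  intro p hp
  rw [Finset.mem_coe, mem_P4] at hp
  exact hp.2

theorem PhiO_odd (p : (GolayPt → ZMod 2) × GolayPt) (i : GolayPt) : PhiO p i % 2 = 1 := by
  obtain ⟨w, j⟩ := p
  rw [PhiO_apply]
  by_cases h : i = j
  · simp only [h, if_true]
    rcases val_cases (w j) with hv | hv <;> rw [hv] <;> norm_num
  · simp only [h, if_false]
    rcases val_cases (w i) with hv | hv <;> rw [hv] <;> norm_num

theorem Psi2_cases (p : (_ : Finset GolayPt) × Finset GolayPt) (i : GolayPt) :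
    (i ∈ p.1 ∧ Psi 2 p i % 4 = 2) ∨ (i ∉ p.1 ∧ Psi 2 p i = 0) := by
  obtain ⟨T, U⟩ := p
  rw [Psi_apply]
  by_cases h : i ∈ T
  · left
    by_cases h' : i ∈ U
    · simp only [h, h', if_true]; norm_num
    · simp only [h, h', if_true, if_false]; norm_num
  · right
    simp only [h, if_false]; norm_num

theorem Psi4_mod (p : (_ : Finset GolayPt) × Finset GolayPt) (i : GolayPt) :
    Psi 4 p i % 4 = 0 := by
  obtain ⟨T, U⟩ := p
  rw [Psi_apply]
  by_cases h : i ∈ T
  · by_cases h' : i ∈ U
    · simp only [h, h', if_true]; norm_num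
    · simp only [h, h', if_true, if_false]; norm_num
  · simp only [h, if_false]; norm_num

theorem min_eq : {x : GolayPt → ℤ | x ∈ leechLattice ∧ sqNorm x = 32} =
    ↑(PO.image PhiO ∪ P2.image f2 ∪ P4.image (Psi 4)) := by
  classical
  ext x
  simp only [Set.mem_ofPred_eq, Finset.coe_union, Finset.coe_image, Set.mem_union, Set.mem_image,
    Finset.mem_coe]
  constructor
  · rintro ⟨hx, h32⟩
    rw [mem_leechLattice_iff] at hx
    rcases classify x hx h32 with ⟨w, hw, j, rfl⟩ | ⟨w, hw, h8, U, hU, hev, rfl⟩ | ⟨T, hT, U, hU, rfl⟩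
    · left; left
      exact ⟨(w, j), (mem_PO _).mpr hw, rfl⟩
    · left; right
      exact ⟨⟨w, U⟩, (mem_P2 _).mpr ⟨⟨hw, h8⟩, hU, hev⟩, rfl⟩
    · right
      exact ⟨⟨T, U⟩, (mem_P4 _).mpr ⟨hT, hU⟩, rfl⟩
  · rintro ((⟨⟨w, j⟩, hp, rfl⟩ | ⟨⟨w, U⟩, hp, rfl⟩) | ⟨⟨T, U⟩, hp, rfl⟩)
    · rw [mem_PO] at hp
      rw [mem_leechLattice_iff]
      exact PhiO_mem w hp j
    · rw [mem_P2] at hp
      rw [mem_leechLattice_iff]
      exact Psi2_mem w hp.1.1 hp.1.2 U hp.2.1 hp.2.2
    · rw [mem_P4] at hp
      rw [mem_leechLattice_iff]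
      exact Psi4_mem T hp.1 U hp.2

theorem ncard_min : {x : GolayPt → ℤ | x ∈ leechLattice ∧ sqNorm x = 32}.ncard = 196560 := by
  classical
  rw [min_eq, Set.ncard_coe_finset]
  have d1 : Disjoint (PO.image PhiO) (P2.image f2) := by
    rw [Finset.disjoint_left]
    intro x hx hx'
    obtain ⟨p, _, rfl⟩ := Finset.mem_image.mp hx
    obtain ⟨q, _, hq⟩ := Finset.mem_image.mp hx'
    have h1 := PhiO_odd p none
    rw [← hq] at h1
    rcases Psi2_cases ⟨support₂ q.1, q.2⟩ none with ⟨_, h2⟩ | ⟨_, h2⟩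
    · change f2 q none % 4 = 2 at h2
      omega
    · change f2 q none = 0 at h2
      omega
  have d2 : Disjoint (PO.image PhiO ∪ P2.image f2) (P4.image (Psi 4)) := by
    rw [Finset.disjoint_union_left]
    constructor
    · rw [Finset.disjoint_left]
      intro x hx hx'
      obtain ⟨p, _, rfl⟩ := Finset.mem_image.mp hx
      obtain ⟨q, _, hq⟩ := Finset.mem_image.mp hx'
      have h1 := PhiO_odd p none
      rw [← hq] at h1
      have h2 := Psi4_mod q none
      omega
    · rw [Finset.disjoint_left]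
      intro x hx hx'
      obtain ⟨p, hp, rfl⟩ := Finset.mem_image.mp hx
      obtain ⟨q, _, hq⟩ := Finset.mem_image.mp hx'
      rw [mem_P2] at hp
      obtain ⟨i, hi⟩ : (support₂ p.1).Nonempty := by
        rw [← Finset.card_pos, hp.1.2]; norm_num
      have h2 := Psi4_mod q i
      rw [hq] at h2
      rcases Psi2_cases ⟨support₂ p.1, p.2⟩ i with ⟨_, h3⟩ | ⟨h3, _⟩
      · change f2 p i % 4 = 2 at h3
        omega
      · exact h3 hi
  rw [Finset.card_union_of_disjoint d2, Finset.card_union_of_disjoint d1,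
    Finset.card_image_of_injective _ PhiO_injective, Finset.card_image_of_injOn f2_injOn,
    Finset.card_image_of_injOn Psi4_injOn, card_PO, card_P2, card_P4]

end Cfsg.Agent.Lib.Helper14.LeechCount
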