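import Mathlib
import Cfsg.Prelude.Def_Sporadic_a
import Cfsg.Agent.Lib.Helper14.LeechCount
import Cfsg.Agent.Lib.Helper14.LeechCount2

set_option autoImplicit false

/-! The lattice vectors of sum of squares 48: the four shapes. -/

namespace Cfsg.Agent.Lib.Helper14.LeechCount

open Cfsg Cfsg.Agent.Lib.Helper14.Golay Cfsg.Agent.Lib.Helper14.Leech

/-! ### odd vectors -/

/-- the vector with entries `±(1 + 4 τ i)`, signs given by the code word `w` -/
def PhiT (w : GolayPt → ZMod 2) (τ : GolayPt → ℤ) : GolayPt → ℤ :=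
  fun i => (1 - 2 * ((w i).val : ℤ)) * (1 + 4 * τ i)

theorem PhiT_apply (w : GolayPt → ZMod 2) (τ : GolayPt → ℤ) (i : GolayPt) :
    PhiT w τ i = (1 - 2 * ((w i).val : ℤ)) * (1 + 4 * τ i) := rfl

theorem PhiT_mem (w : GolayPt → ZMod 2) (hw : w ∈ golayCode) (τ : GolayPt → ℤ)
    (hτ : (∑ i, τ i) % 2 = 1) : PhiT w τ ∈ leechSet := by
  rw [mem_leechSet_iff]
  refine ⟨1, w, hw, ?_, ?_⟩
  · intro i
    rw [PhiT_apply]
    rcases val_cases (w i) with hv | hv <;> rw [hv] <;> push_cast <;> omega
  · have h1 : ∀ i, PhiT w τ i =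
        1 - 2 * ((w i).val : ℤ) + 4 * τ i - 8 * (((w i).val : ℤ) * τ i) := by
      intro i
      rw [PhiT_apply]; ring
    rw [Finset.sum_congr rfl (fun i _ => h1 i), Finset.sum_sub_distrib, Finset.sum_add_distrib,
      Finset.sum_sub_distrib, ← Finset.mul_sum, ← Finset.mul_sum, ← Finset.mul_sum,
      sum_val_eq_card, Finset.sum_const, Finset.card_univ, card_golayPt]
    obtain ⟨t, ht⟩ := four_dvd_card w hw
    rw [ht]
    push_cast
    simp only [nsmul_eq_mul]
    omega

theorem sqNorm_PhiT (w : GolayPt → ZMod 2) (τ : GolayPt → ℤ) :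
    sqNorm (PhiT w τ) = ∑ i, (1 + 4 * τ i) ^ 2 := by
  unfold sqNorm
  apply Finset.sum_congr rfl
  intro i _
  rw [PhiT_apply]
  rcases val_cases (w i) with hv | hv <;> rw [hv] <;> push_cast <;> ring

theorem PhiT_aux (s s' t t' : ℤ) (hs : s = 1 ∨ s = -1) (hs' : s' = 1 ∨ s' = -1)
    (ht : t = -1 ∨ t = 0 ∨ t = 1) (ht' : t' = -1 ∨ t' = 0 ∨ t' = 1)
    (h : s * (1 + 4 * t) = s' * (1 + 4 * t')) : t = t' ∧ s = s' := by
  rcases hs with rfl | rfl <;> rcases hs' with rfl | rfl <;> rcases ht with rfl | rfl | rfl <;>
    rcases ht' with rfl | rfl | rfl <;> first | (norm_num at h; done) | norm_num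

theorem PhiT_inj (w w' : GolayPt → ZMod 2) (τ τ' : GolayPt → ℤ)
    (hτ : ∀ i, τ i = -1 ∨ τ i = 0 ∨ τ i = 1) (hτ' : ∀ i, τ' i = -1 ∨ τ' i = 0 ∨ τ' i = 1)
    (h : PhiT w τ = PhiT w' τ') : w = w' ∧ τ = τ' := by
  have key : ∀ i, τ i = τ' i ∧ (1 - 2 * ((w i).val : ℤ)) = (1 - 2 * ((w' i).val : ℤ)) := by
    intro i
    have hi := congrFun h i
    rw [PhiT_apply, PhiT_apply] at hi
    apply PhiT_aux _ _ _ _ _ _ (hτ i) (hτ' i) hi
    · rcases val_cases (w i) with hv | hv <;> rw [hv] <;> norm_num
    · rcases val_cases (w' i) with hv | hv <;> rw [hv] <;> norm_num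
  constructor
  · funext i
    apply ZMod.val_injective 2
    have := (key i).2
    omega
  · funext i
    exact (key i).1

/-- `τ` for the shape `(±5, ±1^23)` -/
def tau4 (j : GolayPt) : GolayPt → ℤ := fun i => if i = j then 1 else 0

/-- `τ` for the shape `(±3^3, ±1^21)` -/
def tau2 (J : Finset GolayPt) : GolayPt → ℤ := fun i => if i ∈ J then -1 else 0

theorem tau4_cases (j i : GolayPt) : tau4 j i = -1 ∨ tau4 j i = 0 ∨ tau4 j i = 1 := by
  unfold tau4; split_ifs <;> simp

theorem tau2_cases (J : Finset GolayPt) (i : GolayPt) :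
    tau2 J i = -1 ∨ tau2 J i = 0 ∨ tau2 J i = 1 := by
  unfold tau2; split_ifs <;> simp

theorem sum_tau4 (j : GolayPt) : ∑ i, tau4 j i = 1 := by
  unfold tau4
  rw [Finset.sum_ite_eq' Finset.univ j, if_pos (Finset.mem_univ j)]

theorem sum_tau2 (J : Finset GolayPt) : ∑ i, tau2 J i = -(J.card : ℤ) := by
  unfold tau2
  rw [Finset.sum_ite_mem, Finset.univ_inter, Finset.sum_const]
  simp

theorem F4_mem (w : GolayPt → ZMod 2) (hw : w ∈ golayCode) (j : GolayPt) :
    PhiT w (tau4 j) ∈ leechSet ∧ sqNorm (PhiT w (tau4 j)) = 48 := by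
  constructor
  · apply PhiT_mem w hw
    rw [sum_tau4]; norm_num
  · rw [sqNorm_PhiT]
    have h1 : ∀ i, (1 + 4 * tau4 j i) ^ 2 = 1 + (if i = j then 24 else 0) := by
      intro i
      unfold tau4
      split_ifs <;> norm_num
    rw [Finset.sum_congr rfl (fun i _ => h1 i), Finset.sum_add_distrib,
      Finset.sum_ite_eq' Finset.univ j, if_pos (Finset.mem_univ j), Finset.sum_const,
      Finset.card_univ, card_golayPt]
    norm_num

theorem F2_mem (w : GolayPt → ZMod 2) (hw : w ∈ golayCode) (J : Finset GolayPt)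
    (hJ : J.card = 3) :
    PhiT w (tau2 J) ∈ leechSet ∧ sqNorm (PhiT w (tau2 J)) = 48 := by
  constructor
  · apply PhiT_mem w hw
    rw [sum_tau2, hJ]; norm_num
  · rw [sqNorm_PhiT]
    have h1 : ∀ i, (1 + 4 * tau2 J i) ^ 2 = 1 + (if i ∈ J then 8 else 0) := by
      intro i
      unfold tau2
      split_ifs <;> norm_num
    rw [Finset.sum_congr rfl (fun i _ => h1 i), Finset.sum_add_distrib,
      Finset.sum_ite_mem, Finset.univ_inter, Finset.sum_const, Finset.sum_const,
      Finset.card_univ, card_golayPt, hJ]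
    norm_num


/-! ### even vectors -/

theorem Psi2_mem_gen (w : GolayPt → ZMod 2) (hw : w ∈ golayCode)
    (U : Finset GolayPt) (hU : U ⊆ support₂ w)
    (hpar : (2 * (((support₂ w).card : ℤ) - 2 * (U.card : ℤ))) % 8 = 0) :
    Psi 2 ⟨support₂ w, U⟩ ∈ leechSet := by
  rw [mem_leechSet_iff]
  refine ⟨0, w, hw, ?_, ?_⟩
  · intro i
    rw [Psi_apply]
    by_cases h : i ∈ support₂ w
    · have hv := (mem_support₂_iff w i).mp h
      by_cases h' : i ∈ U
      · simp only [h, h', if_true, hv]; norm_num
      · simp only [h, h', if_true, if_false, hv]; norm_num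
    · have hv := (notMem_support₂_iff w i).mp h
      simp only [h, if_false, hv]; norm_num
  · rw [sum_Psi 2 _ U hU]
    omega

theorem F1_mem (w : GolayPt → ZMod 2) (hw : w ∈ golayCode) (h12 : (support₂ w).card = 12)
    (U : Finset GolayPt) (hU : U ⊆ support₂ w) (hev : Even U.card) :
    Psi 2 ⟨support₂ w, U⟩ ∈ leechSet ∧ sqNorm (Psi 2 ⟨support₂ w, U⟩) = 48 := by
  constructor
  · apply Psi2_mem_gen w hw U hU
    rw [h12]
    obtain ⟨t, ht⟩ := hev
    rw [ht]
    push_cast
    omega
  · rw [sqNorm_Psi, h12]
    norm_num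

/-- the shape `(±4, ±2^8, 0^15)` -/
def Psi3 (T U : Finset GolayPt) (a : GolayPt) (ε : Bool) : GolayPt → ℤ :=
  fun i => Psi 2 ⟨T, U⟩ i + (if i = a then (if ε then 4 else -4) else 0)

theorem Psi3_apply (T U : Finset GolayPt) (a : GolayPt) (ε : Bool) (i : GolayPt) :
    Psi3 T U a ε i = Psi 2 ⟨T, U⟩ i + (if i = a then (if ε then 4 else -4) else 0) := rfl

theorem Psi3_of_mem (T U : Finset GolayPt) (a : GolayPt) (ε : Bool) (ha : a ∉ T) (i : GolayPt)
    (hi : i ∈ T) : Psi3 T U a ε i = if i ∈ U then -2 else 2 := by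
  have hne : i ≠ a := fun h => ha (h ▸ hi)
  rw [Psi3_apply, Psi_apply, if_pos hi, if_neg hne, add_zero]

theorem Psi3_of_notMem (T U : Finset GolayPt) (a : GolayPt) (ε : Bool) (i : GolayPt)
    (hi : i ∉ T) : Psi3 T U a ε i = if i = a then (if ε then 4 else -4) else 0 := by
  rw [Psi3_apply, Psi_apply, if_neg hi, zero_add]

theorem Psi3_mod (T U : Finset GolayPt) (a : GolayPt) (ε : Bool) (ha : a ∉ T) (i : GolayPt) :
    Psi3 T U a ε i % 4 = 2 ↔ i ∈ T := by
  by_cases hi : i ∈ T
  · rw [Psi3_of_mem T U a ε ha i hi]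
    simp only [hi, iff_true]
    split_ifs <;> norm_num
  · rw [Psi3_of_notMem T U a ε i hi]
    simp only [hi, iff_false]
    cases ε <;> split_ifs <;> norm_num

theorem sum_Psi3 (T U : Finset GolayPt) (a : GolayPt) (ε : Bool) (hU : U ⊆ T) :
    ∑ i, Psi3 T U a ε i = 2 * ((T.card : ℤ) - 2 * (U.card : ℤ)) + (if ε then 4 else -4) := by
  unfold Psi3
  rw [Finset.sum_add_distrib, sum_Psi 2 T U hU, Finset.sum_ite_eq' Finset.univ a,
    if_pos (Finset.mem_univ a)]

theorem sqNorm_Psi3 (T U : Finset GolayPt) (a : GolayPt) (ε : Bool) (ha : a ∉ T) :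
    sqNorm (Psi3 T U a ε) = 4 * (T.card : ℤ) + 16 := by
  unfold sqNorm
  have h1 : ∀ i, Psi3 T U a ε i ^ 2 = (if i ∈ T then 4 else 0) + (if i = a then 16 else 0) := by
    intro i
    by_cases hi : i ∈ T
    · have hne : i ≠ a := fun h => ha (h ▸ hi)
      rw [Psi3_of_mem T U a ε ha i hi, if_pos hi, if_neg hne]
      split_ifs <;> norm_num
    · rw [Psi3_of_notMem T U a ε i hi, if_neg hi]
      cases ε <;> split_ifs <;> norm_num
  rw [Finset.sum_congr rfl (fun i _ => h1 i), Finset.sum_add_distrib, Finset.sum_ite_mem,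
    Finset.univ_inter, Finset.sum_const, Finset.sum_ite_eq' Finset.univ a,
    if_pos (Finset.mem_univ a)]
  simp only [nsmul_eq_mul]
  ring

theorem F3_mem (w : GolayPt → ZMod 2) (hw : w ∈ golayCode) (h8 : (support₂ w).card = 8)
    (U : Finset GolayPt) (hU : U ⊆ support₂ w) (hodd : Odd U.card) (a : GolayPt)
    (ha : a ∉ support₂ w) (ε : Bool) :
    Psi3 (support₂ w) U a ε ∈ leechSet ∧ sqNorm (Psi3 (support₂ w) U a ε) = 48 := by
  constructor
  · rw [mem_leechSet_iff]
    refine ⟨0, w, hw, ?_, ?_⟩
    · intro i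
      by_cases h : i ∈ support₂ w
      · have hv := (mem_support₂_iff w i).mp h
        rw [Psi3_of_mem _ U a ε ha i h, hv]
        split_ifs <;> norm_num
      · have hv := (notMem_support₂_iff w i).mp h
        rw [Psi3_of_notMem _ U a ε i h, hv]
        cases ε <;> split_ifs <;> norm_num
    · rw [sum_Psi3 _ U a ε hU, h8]
      obtain ⟨t, ht⟩ := hodd
      rw [ht]
      push_cast
      cases ε
      · simp only [Bool.false_eq_true, if_false]; omega
      · simp only [if_true]; omega
  · rw [sqNorm_Psi3 _ U a ε ha, h8]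
    norm_num


/-! ### classification -/

theorem sq_cases (z c : ℤ) (hc : 0 < c) (h : z ^ 2 = c ^ 2) : z = c ∨ z = -c := by
  have : (z - c) * (z + c) = 0 := by ring_nf; rw [h]; ring
  rcases mul_eq_zero.mp this with h' | h'
  · left; omega
  · right; omega

theorem sq_parity (z : ℤ) : ∃ k : ℤ, z ^ 2 = z + 2 * k := by
  obtain ⟨k, hk⟩ := Int.even_mul_pred_self z
  exact ⟨k, by rw [pow_two]; linarith⟩

theorem classify48 (x : GolayPt → ℤ) (hx : x ∈ leechSet) (h48 : sqNorm x = 48) :
    (∃ w ∈ golayCode, (support₂ w).card = 12 ∧ ∃ U ⊆ support₂ w, Even U.card ∧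
      x = Psi 2 ⟨support₂ w, U⟩) ∨
    (∃ w ∈ golayCode, ∃ J : Finset GolayPt, J.card = 3 ∧ x = PhiT w (tau2 J)) ∨
    (∃ w ∈ golayCode, (support₂ w).card = 8 ∧ ∃ U ⊆ support₂ w, Odd U.card ∧
      ∃ a ∉ support₂ w, ∃ ε : Bool, x = Psi3 (support₂ w) U a ε) ∨
    (∃ w ∈ golayCode, ∃ j, x = PhiT w (tau4 j)) := by
  classical
  obtain ⟨m, hm, w, hw, h1, h2⟩ := (mem_leechSet_iff01 x).mp hx
  rcases hm with rfl | rfl
  · -- even case
    set T := support₂ w with hT
    have hmodT : ∀ i ∈ T, x i % 4 = 2 := by
      intro i hi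
      have hv := (mem_support₂_iff w i).mp hi
      have := h1 i
      rw [hv] at this
      omega
    have hmodN : ∀ i ∉ T, x i % 4 = 0 := by
      intro i hi
      have hv := (notMem_support₂_iff w i).mp hi
      have := h1 i
      rw [hv] at this
      omega
    have hlow : ∀ i ∈ T, (4 : ℤ) ≤ x i ^ 2 := by
      intro i hi
      have := hmodT i hi
      have h' : 2 ≤ x i ∨ x i ≤ -2 := by omega
      rcases h' with h' | h' <;> nlinarith
    have hcard := card_le_of_sq x T 4 hlow
    rw [h48] at hcard
    have hwt := Cfsg.Agent.Lib.Helper3.Golay.weight_mem hw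
    have hnorm : hammingNorm w = T.card := rfl
    rw [hnorm] at hwt
    have hT3 : T.card = 0 ∨ T.card = 8 ∨ T.card = 12 := by
      rcases hwt with h | h | h | h | h
      · left; exact h
      · right; left; exact h
      · right; right; exact h
      · rw [h] at hcard; norm_num at hcard
      · rw [h] at hcard; norm_num at hcard
    rcases hT3 with h0 | h8 | h12
    · -- impossible
      exfalso
      have hx4 : ∀ i, x i % 4 = 0 := by
        intro i
        apply hmodN
        rw [Finset.card_eq_zero] at h0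
        rw [h0]
        exact Finset.notMem_empty i
      have hz : ∀ i, ∃ z k : ℤ, x i = 4 * z ∧ z ^ 2 = z + 2 * k := by
        intro i
        obtain ⟨k, hk⟩ := sq_parity (x i / 4)
        exact ⟨x i / 4, k, by have := hx4 i; omega, hk⟩
      choose z k hz1 hz2 using hz
      have hs1 : ∑ i, x i = 4 * ∑ i, z i := by
        rw [Finset.mul_sum]
        exact Finset.sum_congr rfl (fun i _ => hz1 i)
      have hs2 : sqNorm x = 16 * ∑ i, z i + 32 * ∑ i, k i := by
        unfold sqNorm
        rw [Finset.mul_sum, Finset.mul_sum, ← Finset.sum_add_distrib]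
        apply Finset.sum_congr rfl
        intro i _
        rw [hz1 i, mul_pow, hz2 i]
        ring
      rw [hs1] at h2
      rw [h48] at hs2
      omega
    · -- octad plus a point
      right; right; left
      have hsq : ∀ i ∈ T, x i ^ 2 = 4 := by
        intro i hi
        by_contra hne
        have hm := hmodT i hi
        have h36 : 36 ≤ x i ^ 2 := by
          have h' : 6 ≤ x i ∨ x i ≤ -6 := by
            by_contra hcon
            push Not at hcon
            have : x i = 2 ∨ x i = -2 := by omega
            rcases this with h'' | h'' <;> rw [h''] at hne <;> norm_num at hne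
          rcases h' with h' | h' <;> nlinarith
        have hs := sum_sq_split x T
        have h1' : x i ^ 2 + ∑ k ∈ T.erase i, x k ^ 2 = ∑ k ∈ T, x k ^ 2 :=
          Finset.add_sum_erase T (fun k => x k ^ 2) hi
        have h2' : ((T.erase i).card : ℤ) * 4 ≤ ∑ k ∈ T.erase i, x k ^ 2 := by
          have := Finset.card_nsmul_le_sum (T.erase i) (fun k => x k ^ 2) 4
            (fun k hk => hlow k (Finset.mem_of_mem_erase hk))
          simpa [nsmul_eq_mul] using this
        rw [Finset.card_erase_of_mem hi, h8] at h2'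
        have h3' : 0 ≤ ∑ i ∈ Tᶜ, x i ^ 2 := Finset.sum_nonneg (fun i _ => sq_nonneg (x i))
        push_cast at h2'
        omega
      have hsumT : ∑ i ∈ T, x i ^ 2 = 32 := by
        rw [Finset.sum_congr rfl hsq, Finset.sum_const, h8]
        norm_num
      have hsumC : ∑ i ∈ Tᶜ, x i ^ 2 = 16 := by
        have hs := sum_sq_split x T
        rw [h48, hsumT] at hs
        omega
      set B' := Tᶜ.filter (fun i => x i ≠ 0) with hB'
      have hlowB : ∀ i ∈ B', (16 : ℤ) ≤ x i ^ 2 := by
        intro i hi
        rw [hB', Finset.mem_filter, Finset.mem_compl] at hi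
        have := hmodN i hi.1
        have hne := hi.2
        have h' : 4 ≤ x i ∨ x i ≤ -4 := by omega
        rcases h' with h' | h' <;> nlinarith
      have hsumB : ∑ i ∈ B', x i ^ 2 = 16 := by
        rw [← hsumC, hB', Finset.sum_filter]
        apply Finset.sum_congr rfl
        intro i _
        by_cases h0 : x i = 0
        · simp [h0]
        · simp [h0]
      have hB1 : B'.card = 1 := by
        have hle : (B'.card : ℤ) * 16 ≤ ∑ i ∈ B', x i ^ 2 := by
          have := Finset.card_nsmul_le_sum B' (fun i => x i ^ 2) 16 hlowB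
          simpa [nsmul_eq_mul] using this
        rw [hsumB] at hle
        have hle' : B'.card ≤ 1 := by
          have : (B'.card : ℤ) ≤ 1 := by omega
          exact_mod_cast this
        interval_cases hcd : B'.card
        · rw [Finset.card_eq_zero] at hcd
          rw [hcd, Finset.sum_empty] at hsumB
          norm_num at hsumB
        · rfl
      obtain ⟨a, ha⟩ := Finset.card_eq_one.mp hB1
      have haB : a ∈ B' := by rw [ha]; exact Finset.mem_singleton_self a
      have haT : a ∉ T := by
        rw [hB', Finset.mem_filter, Finset.mem_compl] at haB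
        exact haB.1
      have hxa : x a ^ 2 = 16 := by
        rw [ha, Finset.sum_singleton] at hsumB
        exact hsumB
      have hoff : ∀ i ∉ T, i ≠ a → x i = 0 := by
        intro i hi hne
        by_contra h0
        have : i ∈ B' := by
          rw [hB', Finset.mem_filter, Finset.mem_compl]
          exact ⟨hi, h0⟩
        rw [ha, Finset.mem_singleton] at this
        exact hne this
      set U := T.filter (fun i => x i < 0) with hU
      have hxe : x = Psi3 T U a (decide (0 < x a)) := by
        funext i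
        by_cases hi : i ∈ T
        · rw [Psi3_of_mem T U a _ haT i hi]
          rcases sq_cases (x i) 2 (by norm_num) (by rw [hsq i hi]; norm_num) with h' | h'
          · have : i ∉ U := by
              rw [hU, Finset.mem_filter]
              intro hh
              omega
            rw [if_neg this, h']
          · have : i ∈ U := by
              rw [hU, Finset.mem_filter]
              exact ⟨hi, by omega⟩
            rw [if_pos this, h']
        · rw [Psi3_of_notMem T U a _ i hi]
          by_cases hia : i = a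
          · rw [if_pos hia, hia]
            rcases sq_cases (x a) 4 (by norm_num) (by rw [hxa]; norm_num) with h' | h'
            · have : decide (0 < x a) = true := by rw [h']; decide
              rw [this, if_pos rfl, h']
            · have : decide (0 < x a) = false := by rw [h']; decide
              rw [this, if_neg (by simp), h']
          · rw [if_neg hia]
            exact hoff i hi hia
      refine ⟨w, hw, h8, U, Finset.filter_subset _ _, ?_, a, haT, decide (0 < x a), hxe⟩
      have hsum := sum_Psi3 T U a (decide (0 < x a)) (Finset.filter_subset _ _)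
      rw [← hxe, h8] at hsum
      rw [hsum] at h2
      rw [Nat.odd_iff]
      push_cast at h2
      split_ifs at h2 <;> omega
    · -- dodecad
      left
      obtain ⟨hsq, hoff⟩ := tight x T 4 hlow (by rw [h48, h12]; norm_num)
      have hxe := eq_Psi_of x T 2 (by norm_num) (fun i hi => by rw [hsq i hi]; norm_num) hoff
      refine ⟨w, hw, h12, T.filter (fun i => x i < 0), Finset.filter_subset _ _, ?_, hxe⟩
      have hsum := sum_Psi 2 T (T.filter (fun i => x i < 0)) (Finset.filter_subset _ _)
      rw [← hxe, h12] at hsum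
      rw [hsum] at h2
      rw [Nat.even_iff]
      push_cast at h2
      omega
  · -- odd case
    have hodd : ∀ i, x i % 2 = 1 := by
      intro i
      have := h1 i
      have := val_cases (w i)
      omega
    set B := Finset.univ.filter (fun i => x i ^ 2 ≠ 1) with hB
    set B5 := B.filter (fun i => x i ^ 2 ≠ 9) with hB5
    set B3 := B.filter (fun i => ¬ x i ^ 2 ≠ 9) with hB3
    have hoffB : ∀ i ∈ Bᶜ, x i ^ 2 = 1 := by
      intro i hi
      by_contra hne
      exact (Finset.mem_compl.mp hi) (Finset.mem_filter.mpr ⟨Finset.mem_univ _, hne⟩)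
    have hB3sq : ∀ i ∈ B3, x i ^ 2 = 9 := by
      intro i hi
      have := (Finset.mem_filter.mp hi).2
      push Not at this
      exact this
    have hlow5 : ∀ i ∈ B5, (25 : ℤ) ≤ x i ^ 2 := by
      intro i hi
      rw [hB5, Finset.mem_filter, hB, Finset.mem_filter] at hi
      have hne1 := hi.1.2
      have hne9 := hi.2
      have := hodd i
      have h' : 5 ≤ x i ∨ x i ≤ -5 := by
        by_contra hcon
        push Not at hcon
        have : x i = 1 ∨ x i = -1 ∨ x i = 3 ∨ x i = -3 := by omega
        rcases this with h'' | h'' | h'' | h'' <;> rw [h''] at hne1 hne9 <;>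
          first | (norm_num at hne1; done) | (norm_num at hne9; done)
      rcases h' with h' | h' <;> nlinarith
    have hsplit := sum_sq_split x B
    have hcompl : ∑ i ∈ Bᶜ, x i ^ 2 = ((Bᶜ).card : ℤ) := by
      rw [Finset.sum_congr rfl hoffB]
      simp
    have hcc : ((Bᶜ).card : ℤ) = 24 - (B.card : ℤ) := by
      have := Finset.card_compl_add_card B
      rw [card_golayPt] at this
      omega
    have hBsplit : ∑ i ∈ B, x i ^ 2 = ∑ i ∈ B5, x i ^ 2 + ∑ i ∈ B3, x i ^ 2 :=
      (Finset.sum_filter_add_sum_filter_not B (fun i => x i ^ 2 ≠ 9) (fun i => x i ^ 2)).symm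
    have hB3sum : ∑ i ∈ B3, x i ^ 2 = 9 * (B3.card : ℤ) := by
      rw [Finset.sum_congr rfl hB3sq, Finset.sum_const]
      simp [mul_comm]
    have hcards : B5.card + B3.card = B.card :=
      Finset.card_filter_add_card_filter_not (s := B) (fun i => x i ^ 2 ≠ 9)
    have h5sum : (B5.card : ℤ) * 25 ≤ ∑ i ∈ B5, x i ^ 2 := by
      have := Finset.card_nsmul_le_sum B5 (fun i => x i ^ 2) 25 hlow5
      simpa [nsmul_eq_mul] using this
    rw [h48, hcompl, hcc, hBsplit, hB3sum] at hsplit
    have hcards' : (B5.card : ℤ) + (B3.card : ℤ) = (B.card : ℤ) := by exact_mod_cast hcards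
    by_cases h50 : B5.card = 0
    · -- three entries ±3
      right; left
      have hB5e : B5 = ∅ := Finset.card_eq_zero.mp h50
      rw [hB5e, Finset.sum_empty] at hsplit
      have h3 : B3.card = 3 := by
        have : (B3.card : ℤ) = 3 := by
          rw [h50] at hcards'
          push_cast at hcards'
          omega
        exact_mod_cast this
      have hB3B : B3 = B := by
        have hle : B.card ≤ B3.card := by omega
        exact Finset.eq_of_subset_of_card_le (Finset.filter_subset _ _) hle
      refine ⟨w, hw, B3, h3, ?_⟩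
      funext i
      rw [PhiT_apply]
      have hi1 := h1 i
      by_cases hi : i ∈ B3
      · have hsq := hB3sq i hi
        have ht : tau2 B3 i = -1 := by unfold tau2; rw [if_pos hi]
        rw [ht]
        rcases sq_cases (x i) 3 (by norm_num) (by rw [hsq]; norm_num) with h' | h' <;>
          rcases val_cases (w i) with hv | hv <;> rw [hv] at hi1 ⊢ <;> rw [h'] at hi1 ⊢ <;>
          first | (norm_num at hi1; done) | norm_num
      · have ht : tau2 B3 i = 0 := by unfold tau2; rw [if_neg hi]
        rw [ht]
        have hiB : i ∈ Bᶜ := by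
          rw [Finset.mem_compl, ← hB3B]
          exact hi
        have hsq := hoffB i hiB
        rcases sq_cases (x i) 1 (by norm_num) (by rw [hsq]; norm_num) with h' | h' <;>
          rcases val_cases (w i) with hv | hv <;> rw [hv] at hi1 ⊢ <;> rw [h'] at hi1 ⊢ <;>
          first | (norm_num at hi1; done) | norm_num
    · -- one entry ±5
      right; right; right
      have h5pos : 1 ≤ B5.card := Nat.one_le_iff_ne_zero.mpr h50
      have h5pos' : (1 : ℤ) ≤ (B5.card : ℤ) := by exact_mod_cast h5pos
      have hn5 : (B5.card : ℤ) = 1 := by omega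
      have hn3 : (B3.card : ℤ) = 0 := by omega
      have hB51 : B5.card = 1 := by exact_mod_cast hn5
      have hB1 : B.card = 1 := by
        have : (B.card : ℤ) = 1 := by omega
        exact_mod_cast this
      obtain ⟨j, hj⟩ := Finset.card_eq_one.mp hB51
      have hB5B : B5 = B := by
        have hle : B.card ≤ B5.card := by omega
        exact Finset.eq_of_subset_of_card_le (Finset.filter_subset _ _) hle
      rw [hj, Finset.sum_singleton, hn3] at hsplit
      have hxj : x j ^ 2 = 25 := by
        rw [hB1] at hsplit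
        push_cast at hsplit
        omega
      refine ⟨w, hw, j, ?_⟩
      funext i
      rw [PhiT_apply]
      have hi1 := h1 i
      by_cases hi : i = j
      · subst hi
        have ht : tau4 i i = 1 := by unfold tau4; rw [if_pos rfl]
        rw [ht]
        rcases sq_cases (x i) 5 (by norm_num) (by rw [hxj]; norm_num) with h' | h' <;>
          rcases val_cases (w i) with hv | hv <;> rw [hv] at hi1 ⊢ <;> rw [h'] at hi1 ⊢ <;>
          first | (norm_num at hi1; done) | norm_num
      · have ht : tau4 j i = 0 := by unfold tau4; rw [if_neg hi]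
        rw [ht]
        have hiB : i ∈ Bᶜ := by
          rw [Finset.mem_compl, ← hB5B, hj, Finset.mem_singleton]
          exact hi
        have hsq := hoffB i hiB
        rcases sq_cases (x i) 1 (by norm_num) (by rw [hsq]; norm_num) with h' | h' <;>
          rcases val_cases (w i) with hv | hv <;> rw [hv] at hi1 ⊢ <;> rw [h'] at hi1 ⊢ <;>
          first | (norm_num at hi1; done) | norm_num

end Cfsg.Agent.Lib.Helper14.LeechCount
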