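import Mathlib
import Cfsg.Prelude.Def_Sporadic_a
import Cfsg.Agent.Lib.Helper14.LeechCount48

set_option autoImplicit false

/-! Counting the lattice vectors of sum of squares 48 by shape. -/

namespace Cfsg.Agent.Lib.Helper14.LeechCount

open Cfsg Cfsg.Agent.Lib.Helper14.Golay Cfsg.Agent.Lib.Helper14.Leech

theorem card_even_subsets_twelve {α : Type*} [DecidableEq α] (S : Finset α) (hS : S.card = 12) :
    (S.powerset.filter (fun U => Even U.card)).card = 2048 := by
  have hne : S.Nonempty := by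
    rw [← Finset.card_pos, hS]; norm_num
  have := card_even_subsets S hne
  rw [hS] at this
  omega

theorem card_odd_subsets_eight {α : Type*} [DecidableEq α] (S : Finset α) (hS : S.card = 8) :
    (S.powerset.filter (fun U => Odd U.card)).card = 128 := by
  have h1 := card_even_subsets_eight S hS
  have h2 := Finset.card_filter_add_card_filter_not (s := S.powerset) (fun U => Even U.card)
  rw [Finset.card_powerset, hS, h1] at h2
  have h3 : S.powerset.filter (fun U => Odd U.card) = S.powerset.filter (fun U => ¬ Even U.card) := by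
    apply Finset.filter_congr
    intro U _
    exact Nat.not_even_iff_odd.symm
  rw [h3]
  omega

open Classical in
/-- the code words of weight 12 -/
noncomputable def Dod12 : Finset (GolayPt → ZMod 2) := Cf.filter (fun w => (support₂ w).card = 12)

theorem mem_Dod12 (w : GolayPt → ZMod 2) :
    w ∈ Dod12 ↔ w ∈ golayCode ∧ (support₂ w).card = 12 := by
  simp [Dod12, mem_Cf]

theorem card_Dod12 : Dod12.card = 2576 := by
  have h1 : dodecads = support₂ '' (↑Dod12 : Set (GolayPt → ZMod 2)) := by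
    ext b
    unfold dodecads wordsOfWeight supports
    simp only [Set.mem_ofPred_eq, Set.mem_image, SetLike.mem_coe, mem_Dod12]
    constructor
    · rintro ⟨⟨w, hw, rfl⟩, h8⟩
      exact ⟨w, ⟨hw, h8⟩, rfl⟩
    · rintro ⟨w, ⟨hw, h8⟩, rfl⟩
      exact ⟨⟨w, hw, rfl⟩, h8⟩
  have h2 := Cfsg.Agent.Lib.Helper3.Golay.ncard_dodecads
  rw [h1, Set.ncard_image_of_injective _
    (fun v w h => Cfsg.Agent.Lib.Helper3.Golay.support₂_injective h), Set.ncard_coe_finset] at h2
  exact h2

/-! ### parameter sets -/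

open Classical in
@[irreducible] noncomputable def Q1 : Finset ((_ : GolayPt → ZMod 2) × Finset GolayPt) :=
  Dod12.sigma (fun w => (support₂ w).powerset.filter (fun U => Even U.card))

open Classical in
@[irreducible] noncomputable def Q2 : Finset ((GolayPt → ZMod 2) × Finset GolayPt) :=
  Cf ×ˢ Finset.powersetCard 3 Finset.univ

open Classical in
@[irreducible] noncomputable def Q3 :
    Finset ((_ : GolayPt → ZMod 2) × (Finset GolayPt × GolayPt × Bool)) :=
  Oct8.sigma (fun w => ((support₂ w).powerset.filter (fun U => Odd U.card)) ×ˢ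
    ((support₂ w)ᶜ ×ˢ (Finset.univ : Finset Bool)))

open Classical in
@[irreducible] noncomputable def Q4 : Finset ((GolayPt → ZMod 2) × GolayPt) := Cf ×ˢ Finset.univ

def g2 (p : (GolayPt → ZMod 2) × Finset GolayPt) : GolayPt → ℤ := PhiT p.1 (tau2 p.2)

def g3 (p : (_ : GolayPt → ZMod 2) × (Finset GolayPt × GolayPt × Bool)) : GolayPt → ℤ :=
  Psi3 (support₂ p.1) p.2.1 p.2.2.1 p.2.2.2

def g4 (p : (GolayPt → ZMod 2) × GolayPt) : GolayPt → ℤ := PhiT p.1 (tau4 p.2)

theorem mem_Q1 (p : (_ : GolayPt → ZMod 2) × Finset GolayPt) :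
    p ∈ Q1 ↔ (p.1 ∈ golayCode ∧ (support₂ p.1).card = 12) ∧ p.2 ⊆ support₂ p.1 ∧
      Even p.2.card := by
  classical
  unfold Q1
  rw [Finset.mem_sigma, mem_Dod12, Finset.mem_filter, Finset.mem_powerset]

theorem mem_Q2 (p : (GolayPt → ZMod 2) × Finset GolayPt) :
    p ∈ Q2 ↔ p.1 ∈ golayCode ∧ p.2.card = 3 := by
  classical
  unfold Q2
  rw [Finset.mem_product, mem_Cf, Finset.mem_powersetCard]
  simp

theorem mem_Q3 (p : (_ : GolayPt → ZMod 2) × (Finset GolayPt × GolayPt × Bool)) :
    p ∈ Q3 ↔ (p.1 ∈ golayCode ∧ (support₂ p.1).card = 8) ∧ (p.2.1 ⊆ support₂ p.1 ∧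
      Odd p.2.1.card) ∧ p.2.2.1 ∉ support₂ p.1 := by
  classical
  unfold Q3
  rw [Finset.mem_sigma, mem_Oct8, Finset.mem_product, Finset.mem_product, Finset.mem_filter,
    Finset.mem_powerset, Finset.mem_compl]
  simp

theorem mem_Q4 (p : (GolayPt → ZMod 2) × GolayPt) : p ∈ Q4 ↔ p.1 ∈ golayCode := by
  classical
  unfold Q4
  rw [Finset.mem_product, mem_Cf]
  simp

theorem card_Q1 : Q1.card = 5275648 := by
  classical
  unfold Q1
  rw [Finset.card_sigma, Finset.sum_congr rfl (g := fun _ => 2048)]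
  · rw [Finset.sum_const, card_Dod12]
    rfl
  · intro w hw
    have h12 := ((mem_Dod12 w).mp hw).2
    convert card_even_subsets_twelve (support₂ w) h12

theorem card_Q2 : Q2.card = 8290304 := by
  classical
  unfold Q2
  rw [Finset.card_product, card_Cf, Finset.card_powersetCard, Finset.card_univ, card_golayPt]
  rfl

theorem card_Q3 : Q3.card = 3108864 := by
  classical
  unfold Q3
  rw [Finset.card_sigma, Finset.sum_congr rfl (g := fun _ => 4096)]
  · rw [Finset.sum_const, card_Oct8]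
    rfl
  · intro w hw
    have h8 := ((mem_Oct8 w).mp hw).2
    rw [Finset.card_product, Finset.card_product, Finset.card_compl, h8, card_golayPt,
      Finset.card_univ, Fintype.card_bool]
    have h := card_odd_subsets_eight (support₂ w) h8
    have h' : (Finset.filter (fun U => Odd U.card) (support₂ w).powerset).card = 128 := by
      convert h
    rw [h']

theorem card_Q4 : Q4.card = 98304 := by
  classical
  unfold Q4
  rw [Finset.card_product, card_Cf, Finset.card_univ, card_golayPt]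


/-! ### injectivity -/

theorem f2_injOn' (S : Set ((_ : GolayPt → ZMod 2) × Finset GolayPt))
    (hS : ∀ p ∈ S, p.2 ⊆ support₂ p.1) : Set.InjOn f2 S := by
  rintro ⟨w, U⟩ hp ⟨w', U'⟩ hp' h
  have hinj := Psi_injOn (c := 2) (by norm_num)
    {q : (_ : Finset GolayPt) × Finset GolayPt | q.2 ⊆ q.1} (fun q hq => hq)
  have := hinj (show (⟨support₂ w, U⟩ : (_ : Finset GolayPt) × Finset GolayPt) ∈ _ from hS _ hp)
    (show (⟨support₂ w', U'⟩ : (_ : Finset GolayPt) × Finset GolayPt) ∈ _ from hS _ hp') h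
  rw [Sigma.mk.injEq] at this
  obtain ⟨h1, h2⟩ := this
  have hw : w = w' := Cfsg.Agent.Lib.Helper3.Golay.support₂_injective h1
  subst hw
  rw [heq_eq_eq] at h2
  rw [h2]

theorem f2_injOn_Q1 : Set.InjOn f2 ↑Q1 := by
  apply f2_injOn'
  intro p hp
  rw [Finset.mem_coe, mem_Q1] at hp
  exact hp.2.1

theorem g2_injective : Function.Injective g2 := by
  rintro ⟨w, J⟩ ⟨w', J'⟩ h
  obtain ⟨hw, ht⟩ := PhiT_inj w w' (tau2 J) (tau2 J') (tau2_cases J) (tau2_cases J') h
  have hJ : J = J' := by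
    ext i
    have := congrFun ht i
    unfold tau2 at this
    by_cases h1 : i ∈ J <;> by_cases h2 : i ∈ J' <;> simp [h1, h2] at this ⊢
  rw [hw, hJ]

theorem g4_injective : Function.Injective g4 := by
  rintro ⟨w, j⟩ ⟨w', j'⟩ h
  obtain ⟨hw, ht⟩ := PhiT_inj w w' (tau4 j) (tau4 j') (tau4_cases j) (tau4_cases j') h
  have hj : j = j' := by
    have := congrFun ht j
    unfold tau4 at this
    rw [if_pos rfl] at this
    by_contra hne
    rw [if_neg hne] at this
    norm_num at this
  rw [hw, hj]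

theorem g3_injOn : Set.InjOn g3 ↑Q3 := by
  rintro ⟨w, U, a, ε⟩ hp ⟨w', U', a', ε'⟩ hp' h
  rw [Finset.mem_coe, mem_Q3] at hp hp'
  obtain ⟨⟨-, -⟩, ⟨hU, -⟩, ha⟩ := hp
  obtain ⟨⟨-, -⟩, ⟨hU', -⟩, ha'⟩ := hp'
  simp only at hU ha hU' ha'
  change Psi3 (support₂ w) U a ε = Psi3 (support₂ w') U' a' ε' at h
  have hT : support₂ w = support₂ w' := by
    ext i
    rw [← Psi3_mod (support₂ w) U a ε ha i, ← Psi3_mod (support₂ w') U' a' ε' ha' i, h]
  have hw : w = w' := Cfsg.Agent.Lib.Helper3.Golay.support₂_injective hT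
  subst hw
  have hUU : U = U' := by
    ext i
    by_cases hi : i ∈ support₂ w
    · have := congrFun h i
      rw [Psi3_of_mem _ U a ε ha i hi, Psi3_of_mem _ U' a' ε' ha' i hi] at this
      by_cases h1 : i ∈ U <;> by_cases h2 : i ∈ U' <;> simp [h1, h2] at this ⊢
    · have h1 : i ∉ U := fun hh => hi (hU hh)
      have h2 : i ∉ U' := fun hh => hi (hU' hh)
      simp [h1, h2]
  subst hUU
  have haa : a = a' := by
    have := congrFun h a
    rw [Psi3_of_notMem _ U a ε a ha, Psi3_of_notMem _ U a' ε' a ha, if_pos rfl] at this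
    by_contra hne
    rw [if_neg hne] at this
    cases ε <;> simp at this
  subst haa
  have hee : ε = ε' := by
    have := congrFun h a
    rw [Psi3_of_notMem _ U a ε a ha, Psi3_of_notMem _ U a ε' a ha, if_pos rfl, if_pos rfl] at this
    cases ε <;> cases ε' <;> simp at this ⊢
  rw [hee]

/-! ### the values taken -/

theorem f2_values (p : (_ : GolayPt → ZMod 2) × Finset GolayPt) (i : GolayPt) :
    f2 p i = 0 ∨ f2 p i = 2 ∨ f2 p i = -2 := by
  unfold f2
  rw [Psi_apply]
  split_ifs <;> simp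

theorem g3_values (p : (_ : GolayPt → ZMod 2) × (Finset GolayPt × GolayPt × Bool))
    (hp : p.2.2.1 ∉ support₂ p.1) (i : GolayPt) :
    g3 p i = 0 ∨ g3 p i = 2 ∨ g3 p i = -2 ∨ g3 p i = 4 ∨ g3 p i = -4 := by
  unfold g3
  by_cases hi : i ∈ support₂ p.1
  · rw [Psi3_of_mem _ _ _ _ hp i hi]
    split_ifs <;> simp
  · rw [Psi3_of_notMem _ _ _ _ i hi]
    cases p.2.2.2 <;> split_ifs <;> simp

theorem g3_four (p : (_ : GolayPt → ZMod 2) × (Finset GolayPt × GolayPt × Bool))
    (hp : p.2.2.1 ∉ support₂ p.1) : g3 p p.2.2.1 = 4 ∨ g3 p p.2.2.1 = -4 := by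
  unfold g3
  rw [Psi3_of_notMem _ _ _ _ _ hp, if_pos rfl]
  cases p.2.2.2 <;> simp

theorem PhiT_values (w : GolayPt → ZMod 2) (τ : GolayPt → ℤ) (i : GolayPt) :
    (τ i = 0 → PhiT w τ i = 1 ∨ PhiT w τ i = -1) ∧
    (τ i = -1 → PhiT w τ i = 3 ∨ PhiT w τ i = -3) ∧
    (τ i = 1 → PhiT w τ i = 5 ∨ PhiT w τ i = -5) := by
  rw [PhiT_apply]
  refine ⟨?_, ?_, ?_⟩ <;> intro ht <;> rw [ht] <;>
    rcases val_cases (w i) with hv | hv <;> rw [hv] <;> norm_num

theorem g2_values (p : (GolayPt → ZMod 2) × Finset GolayPt) (i : GolayPt) :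
    g2 p i = 1 ∨ g2 p i = -1 ∨ g2 p i = 3 ∨ g2 p i = -3 := by
  unfold g2
  obtain ⟨h0, h1, -⟩ := PhiT_values p.1 (tau2 p.2) i
  by_cases hi : i ∈ p.2
  · have : tau2 p.2 i = -1 := by unfold tau2; rw [if_pos hi]
    rcases h1 this with h | h
    · right; right; left; exact h
    · right; right; right; exact h
  · have : tau2 p.2 i = 0 := by unfold tau2; rw [if_neg hi]
    rcases h0 this with h | h
    · left; exact h
    · right; left; exact h

theorem g2_three (p : (GolayPt → ZMod 2) × Finset GolayPt) (i : GolayPt) (hi : i ∈ p.2) :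
    |g2 p i| = 3 := by
  unfold g2
  obtain ⟨-, h1, -⟩ := PhiT_values p.1 (tau2 p.2) i
  have : tau2 p.2 i = -1 := by unfold tau2; rw [if_pos hi]
  rcases h1 this with h | h <;> rw [h] <;> norm_num

theorem g4_values (p : (GolayPt → ZMod 2) × GolayPt) (i : GolayPt) :
    g4 p i = 1 ∨ g4 p i = -1 ∨ g4 p i = 5 ∨ g4 p i = -5 := by
  unfold g4
  obtain ⟨h0, -, h1⟩ := PhiT_values p.1 (tau4 p.2) i
  by_cases hi : i = p.2
  · have : tau4 p.2 i = 1 := by unfold tau4; rw [if_pos hi]
    rcases h1 this with h | h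
    · right; right; left; exact h
    · right; right; right; exact h
  · have : tau4 p.2 i = 0 := by unfold tau4; rw [if_neg hi]
    rcases h0 this with h | h
    · left; exact h
    · right; left; exact h

theorem g4_five (p : (GolayPt → ZMod 2) × GolayPt) : |g4 p p.2| = 5 := by
  unfold g4
  obtain ⟨-, -, h1⟩ := PhiT_values p.1 (tau4 p.2) p.2
  have : tau4 p.2 p.2 = 1 := by unfold tau4; rw [if_pos rfl]
  rcases h1 this with h | h <;> rw [h] <;> norm_num

end Cfsg.Agent.Lib.Helper14.LeechCount
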