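import Mathlib
import Cfsg.Prelude.Def_Sporadic_a
import Cfsg.Agent.Lib.Helper14.Golay
import Cfsg.Agent.Lib.Helper14.Leech
import Cfsg.Agent.Lib.Helper14.LeechCount
import Cfsg.Agent.Lib.Helper14.LeechCount2
import Cfsg.Agent.Lib.Helper14.LeechCount48
import Cfsg.Agent.Lib.Helper14.LeechCount48b
import Cfsg.Agent.Lib.Helper14.GFCount
import Cfsg.Agent.Lib.Helper3.Golay.Weights

set_option autoImplicit false

/-! The number of vectors of norm 64 in the Leech lattice, by generating functions. -/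

namespace Cfsg.Agent.Lib.Helper14.LeechCount

open Cfsg Cfsg.Agent.Lib.Helper14.Golay Cfsg.Agent.Lib.Helper14.Leech
open Cfsg.Agent.Lib.Helper14.GFCount

/-! ### alphabets -/

/-- the integers in `[-8, 8]` with a given residue modulo 4 -/
noncomputable def Alph (r : ℤ) : Finset ℤ := (Finset.Icc (-8) 8).filter (fun a => a % 4 = r)

theorem mem_Alph (r a : ℤ) : a ∈ Alph r ↔ (-8 ≤ a ∧ a ≤ 8) ∧ a % 4 = r := by
  unfold Alph; rw [Finset.mem_filter, Finset.mem_Icc]

theorem alph0 : Alph 0 = {-8, -4, 0, 4, 8} := by decide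
theorem alph1 : Alph 1 = {-7, -3, 1, 5} := by decide
theorem alph2 : Alph 2 = {-6, -2, 2, 6} := by decide
theorem alph3 : Alph 3 = {-5, -1, 3, 7} := by decide

theorem card_Alph_le (r : ℤ) (h0 : 0 ≤ r) (h4 : r < 4) : (Alph r).card ≤ 5 := by
  interval_cases r
  · rw [alph0]; decide
  · rw [alph1]; decide
  · rw [alph2]; decide
  · rw [alph3]; decide

/-- the square, as a natural number -/
def gsq (a : ℤ) : ℕ := a.natAbs ^ 2

theorem gsq_cast (a : ℤ) : ((gsq a : ℕ) : ℤ) = a ^ 2 := by
  unfold gsq; rw [Nat.cast_pow, Int.natCast_natAbs, sq_abs]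

theorem sum_gsq_cast (x : GolayPt → ℤ) : ((∑ i, gsq (x i) : ℕ) : ℤ) = sqNorm x := by
  unfold sqNorm; rw [Nat.cast_sum]; exact Finset.sum_congr rfl fun i _ => gsq_cast _

/-- the generating polynomial of an alphabet, evaluated at `B` -/
noncomputable def pol (r : ℤ) (B : ℕ) : ℕ := ∑ a ∈ Alph r, B ^ gsq a

theorem pol0 (B : ℕ) : pol 0 B = 1 + 2 * B ^ 16 + 2 * B ^ 64 := by
  unfold pol; rw [alph0]; simp [gsq]; ring

theorem pol1 (B : ℕ) : pol 1 B = B + B ^ 9 + B ^ 25 + B ^ 49 := by
  unfold pol; rw [alph1]; simp [gsq]; ring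

theorem pol2 (B : ℕ) : pol 2 B = 2 * B ^ 4 + 2 * B ^ 36 := by
  unfold pol; rw [alph2]; simp [gsq]; ring

theorem pol3 (B : ℕ) : pol 3 B = B + B ^ 9 + B ^ 25 + B ^ 49 := by
  unfold pol; rw [alph3]; simp [gsq]; ring

/-! ### the boxes -/

/-- the residue modulo 4 prescribed at the coordinate `i` -/
def res (m : ℤ) (w : GolayPt → ZMod 2) (i : GolayPt) : ℤ := (m + 2 * ((w i).val : ℤ)) % 4

theorem res_range (m : ℤ) (w : GolayPt → ZMod 2) (i : GolayPt) : 0 ≤ res m w i ∧ res m w i < 4 := by
  unfold res; omega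

/-- vectors with prescribed residues modulo 4 and norm 64 -/
noncomputable def Fset (m : ℤ) (w : GolayPt → ZMod 2) : Finset (GolayPt → ℤ) :=
  (Fintype.piFinset (fun i => Alph (res m w i))).filter (fun x => ∑ i, gsq (x i) = 64)

theorem entry_bound (x : GolayPt → ℤ) (h : sqNorm x = 64) (i : GolayPt) : -8 ≤ x i ∧ x i ≤ 8 := by
  have h1 : x i ^ 2 ≤ sqNorm x := by
    unfold sqNorm
    exact Finset.single_le_sum (f := fun i => x i ^ 2) (fun j _ => sq_nonneg (x j))
      (Finset.mem_univ i)
  rw [h] at h1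
  constructor <;> nlinarith

theorem mem_Fset (m : ℤ) (w : GolayPt → ZMod 2) (x : GolayPt → ℤ) :
    x ∈ Fset m w ↔ (∀ i, x i % 4 = res m w i) ∧ sqNorm x = 64 := by
  unfold Fset
  rw [Finset.mem_filter, Fintype.mem_piFinset]
  constructor
  · rintro ⟨h1, h2⟩
    refine ⟨fun i => ((mem_Alph _ _).mp (h1 i)).2, ?_⟩
    rw [← sum_gsq_cast, h2]; norm_num
  · rintro ⟨h1, h2⟩
    refine ⟨fun i => (mem_Alph _ _).mpr ⟨entry_bound x h2 i, h1 i⟩, ?_⟩
    have := sum_gsq_cast x
    rw [h2] at this
    exact_mod_cast this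

/-- the base -/
def BB : ℕ := 2 ^ 64

theorem card_Fset (m : ℤ) (w : GolayPt → ZMod 2) :
    (Fset m w).card = (∏ i, pol (res m w i) BB) / BB ^ 64 % BB := by
  unfold Fset
  refine card_filter_eq_digit _ gsq BB ?_ 64
  calc ∏ i, (Alph (res m w i)).card ≤ ∏ _i : GolayPt, 5 :=
        Finset.prod_le_prod' (fun i _ => card_Alph_le _ (res_range m w i).1 (res_range m w i).2)
    _ < BB := by
        rw [Finset.prod_const, Finset.card_univ, card_golayPt]; unfold BB; norm_num

theorem res0 (w : GolayPt → ZMod 2) (i : GolayPt) :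
    res 0 w i = if w i ≠ 0 then 2 else 0 := by
  unfold res
  rcases val_cases (w i) with h | h
  · have : ¬ (w i ≠ 0) := by rw [ne_zero_iff_val, h]; decide
    rw [if_neg this, h]; rfl
  · have : w i ≠ 0 := (ne_zero_iff_val _).mpr h
    rw [if_pos this, h]; rfl

theorem res1 (w : GolayPt → ZMod 2) (i : GolayPt) :
    res 1 w i = if w i ≠ 0 then 3 else 1 := by
  unfold res
  rcases val_cases (w i) with h | h
  · have : ¬ (w i ≠ 0) := by rw [ne_zero_iff_val, h]; decide
    rw [if_neg this, h]; rfl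
  · have : w i ≠ 0 := (ne_zero_iff_val _).mpr h
    rw [if_pos this, h]; rfl

theorem prod_pol0 (w : GolayPt → ZMod 2) (B : ℕ) :
    ∏ i, pol (res 0 w i) B = pol 0 B ^ (24 - (support₂ w).card) * pol 2 B ^ (support₂ w).card := by
  have h1 : ∀ i, pol (res 0 w i) B = if w i ≠ 0 then pol 2 B else pol 0 B := by
    intro i; rw [res0]; split_ifs <;> rfl
  rw [Finset.prod_congr rfl (fun i _ => h1 i), Finset.prod_ite, Finset.prod_const,
    Finset.prod_const, mul_comm]
  have hc := Finset.card_filter_add_card_filter_not (s := (Finset.univ : Finset GolayPt))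
    (fun i => w i ≠ 0)
  rw [Finset.card_univ, card_golayPt] at hc
  have hs : (Finset.univ.filter (fun i => w i ≠ 0)).card = (support₂ w).card := rfl
  rw [hs] at hc ⊢
  congr 2
  omega

theorem prod_pol1 (w : GolayPt → ZMod 2) (B : ℕ) :
    ∏ i, pol (res 1 w i) B = pol 1 B ^ 24 := by
  have h1 : ∀ i, pol (res 1 w i) B = pol 1 B := by
    intro i; rw [res1]; split_ifs
    · rw [pol3, pol1]
    · rfl
  rw [Finset.prod_congr rfl (fun i _ => h1 i), Finset.prod_const, Finset.card_univ, card_golayPt]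

set_option maxRecDepth 100000 in
theorem digit_odd : (pol 1 BB ^ 24) / BB ^ 64 % BB = 48576 := by
  rw [pol1]; unfold BB; decide +kernel

set_option maxRecDepth 100000 in
theorem digit_even (k : ℕ) (hk : k = 0 ∨ k = 8 ∨ k = 12 ∨ k = 16 ∨ k = 24) :
    (pol 0 BB ^ (24 - k) * pol 2 BB ^ k) / BB ^ 64 % BB =
      if k = 0 then 170064 else if k = 8 then 124928 else if k = 12 then 98304
        else if k = 16 then 65536 else 0 := by
  rw [pol0, pol2]; unfold BB
  rcases hk with rfl | rfl | rfl | rfl | rfl <;> decide +kernel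

/-! ### the condition on the coordinate sum -/

/-- odd vectors of norm 64 automatically satisfy the sum condition -/
theorem sum_odd (w : GolayPt → ZMod 2) (hw : w ∈ golayCode) (x : GolayPt → ℤ)
    (hx : x ∈ Fset 1 w) : (∑ i, x i) % 8 = 4 := by
  rw [mem_Fset] at hx
  obtain ⟨h1, h64⟩ := hx
  have hex : ∀ i, ∃ u : ℤ, x i = 1 - 2 * ((w i).val : ℤ) + 4 * u := by
    intro i
    have := h1 i
    unfold res at this
    have hv := val_cases (w i)
    exact ⟨(x i - (1 - 2 * ((w i).val : ℤ))) / 4, by omega⟩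
  choose u hu using hex
  obtain ⟨a, ha⟩ := four_dvd_card w hw
  have hs1 : ∑ i, x i = 24 - 2 * ((support₂ w).card : ℤ) + 4 * ∑ i, u i := by
    rw [Finset.sum_congr rfl (fun i _ => hu i), Finset.sum_add_distrib, Finset.sum_sub_distrib,
      ← Finset.mul_sum, ← Finset.mul_sum, sum_val_eq_card, Finset.sum_const, Finset.card_univ,
      card_golayPt]
    simp
  have hsq : ∀ i, ∃ k : ℤ, x i ^ 2 = 1 + 8 * u i + 16 * k := by
    intro i
    rcases val_cases (w i) with hv | hv
    · refine ⟨u i ^ 2, ?_⟩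
      rw [hu i, hv]; push_cast; ring
    · refine ⟨u i ^ 2 - u i, ?_⟩
      rw [hu i, hv]; push_cast; ring
  choose k hk using hsq
  have hs2 : sqNorm x = 24 + 8 * ∑ i, u i + 16 * ∑ i, k i := by
    unfold sqNorm
    rw [Finset.sum_congr rfl (fun i _ => hk i), Finset.sum_add_distrib, Finset.sum_add_distrib,
      ← Finset.mul_sum, ← Finset.mul_sum, Finset.sum_const, Finset.card_univ, card_golayPt]
    simp
  rw [h64] at hs2
  rw [hs1, ha]
  push_cast
  omega

/-- vectors of norm 64 divisible by 4 automatically satisfy the sum condition -/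
theorem sum_even_zero (x : GolayPt → ℤ) (hx : x ∈ Fset 0 0) : (∑ i, x i) % 8 = 0 := by
  rw [mem_Fset] at hx
  obtain ⟨h1, h64⟩ := hx
  have hz : ∀ i, ∃ z k : ℤ, x i = 4 * z ∧ z ^ 2 = z + 2 * k := by
    intro i
    obtain ⟨k, hk⟩ := sq_parity (x i / 4)
    have := h1 i
    unfold res at this
    simp only [Pi.zero_apply, ZMod.val_zero, Nat.cast_zero, mul_zero, add_zero] at this
    exact ⟨x i / 4, k, by omega, hk⟩
  choose z k hz1 hz2 using hz
  have hs1 : ∑ i, x i = 4 * ∑ i, z i := by
    rw [Finset.mul_sum]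
    exact Finset.sum_congr rfl (fun i _ => hz1 i)
  have hs2 : sqNorm x = 16 * ∑ i, z i + 32 * ∑ i, k i := by
    unfold sqNorm
    rw [Finset.mul_sum, Finset.mul_sum, ← Finset.sum_add_distrib]
    apply Finset.sum_congr rfl
    intro i _
    rw [hz1 i, mul_pow, hz2 i]
    ring
  rw [h64] at hs2
  rw [hs1]
  omega

theorem sum_even (w : GolayPt → ZMod 2) (hw : w ∈ golayCode) (x : GolayPt → ℤ)
    (hx : x ∈ Fset 0 w) : (∑ i, x i) % 8 = 0 ∨ (∑ i, x i) % 8 = 4 := by
  rw [mem_Fset] at hx
  obtain ⟨h1, -⟩ := hx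
  have hex : ∀ i, ∃ u : ℤ, x i = 2 * ((w i).val : ℤ) + 4 * u := by
    intro i
    have := h1 i
    unfold res at this
    have hv := val_cases (w i)
    exact ⟨(x i - 2 * ((w i).val : ℤ)) / 4, by omega⟩
  choose u hu using hex
  obtain ⟨a, ha⟩ := four_dvd_card w hw
  have hs1 : ∑ i, x i = 2 * ((support₂ w).card : ℤ) + 4 * ∑ i, u i := by
    rw [Finset.sum_congr rfl (fun i _ => hu i), Finset.sum_add_distrib,
      ← Finset.mul_sum, ← Finset.mul_sum, sum_val_eq_card]
  rw [hs1, ha]
  push_cast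
  omega

/-- negate one coordinate -/
def flip (j : GolayPt) (x : GolayPt → ℤ) : GolayPt → ℤ := fun i => if i = j then -x i else x i

theorem flip_flip (j : GolayPt) (x : GolayPt → ℤ) : flip j (flip j x) = x := by
  funext i; unfold flip; split_ifs <;> simp

theorem sum_flip (j : GolayPt) (x : GolayPt → ℤ) : ∑ i, flip j x i = ∑ i, x i - 2 * x j := by
  have : ∀ i, flip j x i = x i - (if i = j then 2 * x i else 0) := by
    intro i; unfold flip; split_ifs <;> ring
  rw [Finset.sum_congr rfl (fun i _ => this i), Finset.sum_sub_distrib, Finset.sum_ite_eq']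
  simp

theorem sqNorm_flip (j : GolayPt) (x : GolayPt → ℤ) : sqNorm (flip j x) = sqNorm x := by
  unfold sqNorm
  refine Finset.sum_congr rfl fun i _ => ?_
  unfold flip; split_ifs <;> ring

theorem flip_mem (w : GolayPt → ZMod 2) (j : GolayPt) (x : GolayPt → ℤ) (hx : x ∈ Fset 0 w) :
    flip j x ∈ Fset 0 w := by
  rw [mem_Fset] at hx ⊢
  refine ⟨fun i => ?_, by rw [sqNorm_flip]; exact hx.2⟩
  have := hx.1 i
  unfold flip
  unfold res at this ⊢
  have hv := val_cases (w i)
  split_ifs <;> omega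

theorem card_half (w : GolayPt → ZMod 2) (hw : w ∈ golayCode) (j : GolayPt)
    (hj : j ∈ support₂ w) :
    2 * ((Fset 0 w).filter (fun x => (∑ i, x i) % 8 = 0)).card = (Fset 0 w).card := by
  have hxj : ∀ x ∈ Fset 0 w, x j % 4 = 2 := by
    intro x hx
    rw [mem_Fset] at hx
    have := hx.1 j
    unfold res at this
    rw [(mem_support₂_iff w j).mp hj] at this
    omega
  have hpart := Finset.card_filter_add_card_filter_not (s := Fset 0 w)
    (fun x => (∑ i, x i) % 8 = 0)
  have hbij : ((Fset 0 w).filter (fun x => (∑ i, x i) % 8 = 0)).card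
      = ((Fset 0 w).filter (fun x => ¬ (∑ i, x i) % 8 = 0)).card := by
    refine Finset.card_bij' (fun x _ => flip j x) (fun x _ => flip j x) ?_ ?_ ?_ ?_
    · intro x hx
      rw [Finset.mem_filter] at hx ⊢
      refine ⟨flip_mem w j x hx.1, ?_⟩
      rw [sum_flip]
      have := hxj x hx.1
      omega
    · intro x hx
      rw [Finset.mem_filter] at hx ⊢
      refine ⟨flip_mem w j x hx.1, ?_⟩
      rw [sum_flip]
      have := hxj x hx.1
      have := sum_even w hw x hx.1
      omega
    · intro x _; exact flip_flip j x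
    · intro x _; exact flip_flip j x
  omega

/-! ### the weight distribution of the code -/

open Classical in
theorem card_weight (n : ℕ) : (Cf.filter (fun w => (support₂ w).card = n)).card
    = (wordsOfWeight (golayCode : Set (GolayPt → ZMod 2)) n).ncard := by
  have h1 : wordsOfWeight (golayCode : Set (GolayPt → ZMod 2)) n
      = support₂ '' (↑(Cf.filter (fun w => (support₂ w).card = n)) : Set (GolayPt → ZMod 2)) := by
    ext b
    unfold wordsOfWeight supports
    simp only [Set.mem_ofPred_eq, Set.mem_image, SetLike.mem_coe, Finset.coe_filter, mem_Cf]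
    constructor
    · rintro ⟨⟨w, hw, rfl⟩, h8⟩
      exact ⟨w, ⟨hw, h8⟩, rfl⟩
    · rintro ⟨w, ⟨hw, h8⟩, rfl⟩
      exact ⟨⟨w, hw, rfl⟩, h8⟩
  rw [h1, Set.ncard_image_of_injective _
    (fun v w h => Cfsg.Agent.Lib.Helper3.Golay.support₂_injective h), Set.ncard_coe_finset]

set_option maxRecDepth 100000 in
theorem count0 : Cfsg.Agent.Lib.Helper3.Golay.countBelow 4096
    (fun c => Nat.beq (Cfsg.Agent.Lib.Helper3.Golay.pc24 (Cfsg.Agent.Lib.Helper3.Golay.codeMask c)) 0)
      = 1 := by
  decide +kernel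

set_option maxRecDepth 100000 in
theorem count16 : Cfsg.Agent.Lib.Helper3.Golay.countBelow 4096
    (fun c => Nat.beq (Cfsg.Agent.Lib.Helper3.Golay.pc24 (Cfsg.Agent.Lib.Helper3.Golay.codeMask c)) 16)
      = 759 := by
  decide +kernel

open Classical in
theorem card_w0 : (Cf.filter (fun w => (support₂ w).card = 0)).card = 1 := by
  rw [card_weight, Cfsg.Agent.Lib.Helper3.Golay.ncard_wordsOfWeight, count0]

open Classical in
theorem card_w8 : (Cf.filter (fun w => (support₂ w).card = 8)).card = 759 := by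
  rw [card_weight, Cfsg.Agent.Lib.Helper3.Golay.ncard_wordsOfWeight,
    Cfsg.Agent.Lib.Helper3.Golay.count8]

open Classical in
theorem card_w12 : (Cf.filter (fun w => (support₂ w).card = 12)).card = 2576 := by
  rw [card_weight, Cfsg.Agent.Lib.Helper3.Golay.ncard_wordsOfWeight,
    Cfsg.Agent.Lib.Helper3.Golay.count12]

open Classical in
theorem card_w16 : (Cf.filter (fun w => (support₂ w).card = 16)).card = 759 := by
  rw [card_weight, Cfsg.Agent.Lib.Helper3.Golay.ncard_wordsOfWeight, count16]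

/-! ### assembling the count -/

/-- the part of `Fset m w` satisfying the sum condition -/
noncomputable def Gset (p : ℤ × (GolayPt → ZMod 2)) : Finset (GolayPt → ℤ) :=
  (Fset p.1 p.2).filter (fun x => (∑ i, x i) % 8 = (4 * p.1) % 8)

open Classical in
theorem mem_S64 (x : GolayPt → ℤ) :
    (x ∈ leechLattice ∧ sqNorm x = 64) ↔ ∃ p ∈ ({0, 1} : Finset ℤ) ×ˢ Cf, x ∈ Gset p := by
  rw [mem_leechLattice_iff, mem_leechSet_iff01]
  constructor
  · rintro ⟨⟨m, hm, w, hw, h1, h2⟩, h64⟩
    refine ⟨(m, w), ?_, ?_⟩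
    · rw [Finset.mem_product, mem_Cf]
      refine ⟨?_, hw⟩
      rcases hm with rfl | rfl <;> simp
    · unfold Gset
      rw [Finset.mem_filter, mem_Fset]
      exact ⟨⟨h1, h64⟩, h2⟩
  · rintro ⟨⟨m, w⟩, hp, hx⟩
    rw [Finset.mem_product, mem_Cf] at hp
    unfold Gset at hx
    rw [Finset.mem_filter, mem_Fset] at hx
    have hm : m = 0 ∨ m = 1 := by
      have := hp.1
      simp only [Finset.mem_insert, Finset.mem_singleton] at this
      exact this
    exact ⟨⟨m, hm, w, hp.2, hx.1.1, hx.2⟩, hx.1.2⟩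

theorem key_unique (m m' : ℤ) (hm : m = 0 ∨ m = 1) (hm' : m' = 0 ∨ m' = 1)
    (w w' : GolayPt → ZMod 2) (x : GolayPt → ℤ) (hx : x ∈ Fset m w) (hx' : x ∈ Fset m' w') :
    m = m' ∧ w = w' := by
  rw [mem_Fset] at hx hx'
  have hmm : m = m' := by
    have h1 := hx.1 none
    have h2 := hx'.1 none
    unfold res at h1 h2
    have hv := val_cases (w none)
    have hv' := val_cases (w' none)
    omega
  refine ⟨hmm, ?_⟩
  subst hmm
  funext i
  have h1 := hx.1 i
  have h2 := hx'.1 i
  unfold res at h1 h2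
  apply ZMod.val_injective 2
  have hv := val_cases (w i)
  have hv' := val_cases (w' i)
  omega

open Classical in
theorem card_S64 : ((({0, 1} : Finset ℤ) ×ˢ Cf).biUnion Gset).card
    = ∑ w ∈ Cf, (Gset (0, w)).card + ∑ w ∈ Cf, (Gset (1, w)).card := by
  rw [Finset.card_biUnion, Finset.sum_product, Finset.sum_pair (by norm_num)]
  intro p hp q hq hpq
  show Disjoint (Gset p) (Gset q)
  rw [Finset.disjoint_left]
  intro x hxp hxq
  apply hpq
  rw [Finset.mem_coe, Finset.mem_product] at hp hq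
  have hm : p.1 = 0 ∨ p.1 = 1 := by
    have := hp.1
    simp only [Finset.mem_insert, Finset.mem_singleton] at this
    exact this
  have hm' : q.1 = 0 ∨ q.1 = 1 := by
    have := hq.1
    simp only [Finset.mem_insert, Finset.mem_singleton] at this
    exact this
  unfold Gset at hxp hxq
  obtain ⟨h1, h2⟩ := key_unique p.1 q.1 hm hm' p.2 q.2 x (Finset.mem_filter.mp hxp).1
    (Finset.mem_filter.mp hxq).1
  exact Prod.ext h1 h2

theorem card_G1 (w : GolayPt → ZMod 2) (hw : w ∈ golayCode) : (Gset (1, w)).card = 48576 := by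
  unfold Gset
  rw [Finset.filter_true_of_mem, card_Fset, prod_pol1, digit_odd]
  intro x hx
  rw [sum_odd w hw x hx]
  norm_num

/-- the number of even vectors of norm 64 attached to a code word of weight `k` -/
def hE (k : ℕ) : ℕ :=
  if k = 0 then 170064 else if k = 8 then 62464 else if k = 12 then 49152
    else if k = 16 then 32768 else 0

theorem card_G0 (w : GolayPt → ZMod 2) (hw : w ∈ golayCode) :
    (Gset (0, w)).card = hE (support₂ w).card := by
  have hwt := Cfsg.Agent.Lib.Helper3.Golay.weight_mem hw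
  have hnorm : hammingNorm w = (support₂ w).card := rfl
  rw [hnorm] at hwt
  by_cases h0 : (support₂ w).card = 0
  · have hw0 : w = 0 := by
      apply Cfsg.Agent.Lib.Helper3.Golay.support₂_injective
      rw [Finset.card_eq_zero.mp h0]
      unfold support₂
      simp
    subst hw0
    unfold Gset
    rw [Finset.filter_true_of_mem, card_Fset, prod_pol0, digit_even _ (Or.inl h0), h0]
    · rfl
    · intro x hx
      rw [sum_even_zero x hx]
      norm_num
  · obtain ⟨j, hj⟩ : (support₂ w).Nonempty := by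
      rw [← Finset.card_pos]; omega
    have hhalf := card_half w hw j hj
    have hG : Gset (0, w) = (Fset 0 w).filter (fun x => (∑ i, x i) % 8 = 0) := by
      unfold Gset
      apply Finset.filter_congr
      intro x _
      norm_num
    rw [hG]
    have hk : (support₂ w).card = 0 ∨ (support₂ w).card = 8 ∨ (support₂ w).card = 12 ∨
        (support₂ w).card = 16 ∨ (support₂ w).card = 24 := hwt
    rw [card_Fset, prod_pol0, digit_even _ hk] at hhalf
    unfold hE
    rcases hk with h | h | h | h | h <;> rw [h] at hhalf ⊢ <;> simp at hhalf ⊢ <;> omega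

theorem sum_ite_const' {V : Type*} (S : Finset V) (p : V → Prop) [DecidablePred p] (c : ℕ) :
    ∑ v ∈ S, (if p v then c else 0) = (S.filter p).card * c := by
  rw [← Finset.sum_filter, Finset.sum_const, smul_eq_mul]

theorem hE_eq (k : ℕ) : hE k = (if k = 0 then 170064 else 0) + (if k = 8 then 62464 else 0)
    + (if k = 12 then 49152 else 0) + (if k = 16 then 32768 else 0) := by
  unfold hE
  split_ifs <;> omega

open Classical in
theorem ncard64 : {x : GolayPt → ℤ | x ∈ leechLattice ∧ sqNorm x = 64}.ncard = 398034000 := by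
  have hset : {x : GolayPt → ℤ | x ∈ leechLattice ∧ sqNorm x = 64}
      = ↑((({0, 1} : Finset ℤ) ×ˢ Cf).biUnion Gset) := by
    ext x
    rw [Set.mem_ofPred_eq, mem_S64, Finset.mem_coe, Finset.mem_biUnion]
  rw [hset, Set.ncard_coe_finset, card_S64,
    Finset.sum_congr rfl (fun w hw => card_G1 w ((mem_Cf w).mp hw)),
    Finset.sum_congr rfl (fun w hw => (card_G0 w ((mem_Cf w).mp hw)).trans (hE_eq _)),
    Finset.sum_const, card_Cf, Finset.sum_add_distrib, Finset.sum_add_distrib,
    Finset.sum_add_distrib, sum_ite_const', sum_ite_const', sum_ite_const', sum_ite_const',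
    card_w0, card_w8, card_w12, card_w16]
  norm_num

end Cfsg.Agent.Lib.Helper14.LeechCount
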