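import Mathlib

set_option autoImplicit false

/-! Abstract counting lemmas behind "every class of `Λ/2Λ` has a short representative, and the
classes of norm-8 vectors contain exactly 48 of them". -/

namespace Cfsg.Agent.Lib.Helper14.CrossCount

/-- Weighted fibre counting: if all fibre weights are at most 48, the total weight is `48 N` and
there are at most `N` classes, then all fibres have weight exactly 48 (in particular they are
nonempty). -/
theorem fiber_count {V K : Type*} [DecidableEq V] [DecidableEq K] [Fintype K]
    (S : Finset V) (f : V → K) (wt : V → ℕ) (N : ℕ)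
    (hK : Fintype.card K ≤ N)
    (hN : ∑ v ∈ S, wt v = 48 * N)
    (hwt : ∀ x ∈ S, ∀ y ∈ S, f y = f x → wt y = wt x)
    (hfib : ∀ x ∈ S, (S.filter (fun y => f y = f x)).card * wt x ≤ 48) :
    (∀ x ∈ S, (S.filter (fun y => f y = f x)).card * wt x = 48) ∧
      ∀ k : K, ∃ x ∈ S, f x = k := by
  have hc : ∀ k : K, ∑ v ∈ S.filter (fun y => f y = k), wt v ≤ 48 := by
    intro k
    by_cases hne : (S.filter (fun y => f y = k)).Nonempty
    · obtain ⟨x, hx⟩ := hne
      rw [Finset.mem_filter] at hx
      obtain ⟨hxS, rfl⟩ := hx
      rw [Finset.sum_congr rfl (fun y hy => hwt x hxS y (Finset.mem_filter.mp hy).1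
        (Finset.mem_filter.mp hy).2), Finset.sum_const, smul_eq_mul]
      exact hfib x hxS
    · rw [Finset.not_nonempty_iff_eq_empty.mp hne]; simp
  have hsum : ∑ k : K, ∑ v ∈ S.filter (fun y => f y = k), wt v = 48 * N := by
    rw [← hN]; exact Finset.sum_fiberwise S f wt
  have hall : ∀ k : K, ∑ v ∈ S.filter (fun y => f y = k), wt v = 48 := by
    by_contra hcon
    push Not at hcon
    obtain ⟨k0, hk0⟩ := hcon
    have hlt : ∑ k : K, ∑ v ∈ S.filter (fun y => f y = k), wt v < ∑ _k : K, 48 :=
      Finset.sum_lt_sum (fun k _ => hc k) ⟨k0, Finset.mem_univ _, lt_of_le_of_ne (hc k0) hk0⟩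
    rw [hsum, Finset.sum_const, Finset.card_univ, smul_eq_mul] at hlt
    nlinarith
  refine ⟨fun x hx => ?_, fun k => ?_⟩
  · have := hall (f x)
    rwa [Finset.sum_congr rfl (fun y hy => hwt x hx y (Finset.mem_filter.mp hy).1
      (Finset.mem_filter.mp hy).2), Finset.sum_const, smul_eq_mul] at this
  · have h1 := hall k
    by_contra hcon
    push Not at hcon
    have h2 : S.filter (fun y => f y = k) = ∅ := by
      rw [Finset.filter_eq_empty_iff]; intro y hy; exact hcon y hy
    rw [h2] at h1
    simp at h1

/-- A finite set of vectors that are pairwise equal, opposite or orthogonal (for a form `b`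
additive and homogeneous in its first argument, with `b y y ≠ 0` on the set) has at most
`2 · rank` elements. -/
theorem orth_card_le {M : Type*} [AddCommGroup M] [Module.Finite ℤ M] [DecidableEq M]
    (b : M → M → ℤ) (hadd : ∀ x y u, b (x + y) u = b x u + b y u)
    (hsmul : ∀ (c : ℤ) x u, b (c • x) u = c * b x u)
    (F : Finset M) (hq : ∀ y ∈ F, b y y ≠ 0)
    (horth : ∀ y ∈ F, ∀ y' ∈ F, y' = y ∨ y' = -y ∨ b y' y = 0) :
    F.card ≤ 2 * Module.finrank ℤ M := by
  classical
  have hb0 : ∀ u, b 0 u = 0 := by
    intro u
    have := hsmul 0 0 u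
    rw [zero_smul, zero_mul] at this
    exact this
  have hbsum : ∀ (ι : Type _) (s : Finset ι) (g : ι → ℤ) (v : ι → M) (u : M),
      b (∑ i ∈ s, g i • v i) u = ∑ i ∈ s, g i * b (v i) u := by
    intro ι s g v u
    induction s using Finset.induction_on with
    | empty => simp [hb0]
    | insert a s ha ih =>
      rw [Finset.sum_insert ha, Finset.sum_insert ha, hadd, hsmul, ih]
  have hne0 : ∀ y ∈ F, y ≠ 0 := by
    intro y hy h0
    apply hq y hy
    rw [h0, hb0]
  let Q : Finset M → Prop := fun T => ∀ a ∈ T, ∀ c ∈ T, a + c ≠ 0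
  have hnonempty : (F.powerset.filter Q).Nonempty :=
    ⟨∅, by rw [Finset.mem_filter]; exact ⟨Finset.empty_mem_powerset _, fun a ha => by simp at ha⟩⟩
  obtain ⟨T, hT⟩ := Finset.exists_maximal hnonempty
  have hTmem : T ∈ F.powerset.filter Q := hT.1
  rw [Finset.mem_filter, Finset.mem_powerset] at hTmem
  obtain ⟨hTF, hTQ⟩ := hTmem
  have hcover : F ⊆ T ∪ T.image Neg.neg := by
    intro y hy
    by_cases hyT : y ∈ T
    · exact Finset.mem_union_left _ hyT
    · apply Finset.mem_union_right
      rw [Finset.mem_image]
      by_contra hcon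
      have hQ' : Q (insert y T) := by
        intro a ha c hc hac
        rw [Finset.mem_insert] at ha hc
        rcases ha with ha | ha <;> rcases hc with hc | hc
        · apply hq y hy
          rw [ha, hc] at hac
          have h2 := hadd y y y
          rw [hac, hb0] at h2
          omega
        · rw [ha] at hac
          exact hcon ⟨c, hc, by rw [neg_eq_iff_add_eq_zero, add_comm]; exact hac⟩
        · rw [hc] at hac
          exact hcon ⟨a, ha, by rw [neg_eq_iff_add_eq_zero]; exact hac⟩
        · exact hTQ a ha c hc hac
      have hins : insert y T ∈ F.powerset.filter Q := by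
        rw [Finset.mem_filter, Finset.mem_powerset]
        exact ⟨Finset.insert_subset hy hTF, hQ'⟩
      have hle := hT.2 hins (Finset.subset_insert y T)
      exact hyT (hle (Finset.mem_insert_self y T))
  have hli : LinearIndependent ℤ (fun t : {x // x ∈ T} => (t : M)) := by
    rw [linearIndependent_iff']
    intro s g hsum i hi
    have h1 := hbsum _ s g (fun t : {x // x ∈ T} => (t : M)) (i : M)
    rw [hsum, hb0] at h1
    rw [Finset.sum_eq_single i] at h1
    · have h2 := hq i (hTF i.2)
      rcases mul_eq_zero.mp h1.symm with h | h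
      · exact h
      · exact absurd h h2
    · intro j _ hji
      have h3 := horth i (hTF i.2) j (hTF j.2)
      rcases h3 with h3 | h3 | h3
      · exact absurd (Subtype.ext h3) hji
      · exfalso
        apply hTQ j j.2 i i.2
        rw [h3]; simp
      · rw [h3, mul_zero]
    · intro h; exact absurd hi h
  have hcardT : T.card ≤ Module.finrank ℤ M := by
    have := hli.fintype_card_le_finrank
    simpa using this
  calc F.card ≤ (T ∪ T.image Neg.neg).card := Finset.card_le_card hcover
    _ ≤ T.card + (T.image Neg.neg).card := Finset.card_union_le _ _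
    _ ≤ T.card + T.card := by
        have := Finset.card_image_le (s := T) (f := (Neg.neg : M → M))
        omega
    _ ≤ 2 * Module.finrank ℤ M := by omega

end Cfsg.Agent.Lib.Helper14.CrossCount
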