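import Mathlib
import Cfsg.Prelude.Def_Sporadic_a
import Cfsg.Agent.Lib.Helper14.LeechCount48b

set_option autoImplicit false

/-! The census of the lattice vectors of sum of squares 48. -/

namespace Cfsg.Agent.Lib.Helper14.LeechCount

open Cfsg Cfsg.Agent.Lib.Helper14.Golay Cfsg.Agent.Lib.Helper14.Leech

theorem im1_mem (p : (_ : GolayPt → ZMod 2) × Finset GolayPt) (hp : p ∈ Q1) :
    f2 p ∈ leechLattice ∧ sqNorm (f2 p) = 48 := by
  rw [mem_Q1] at hp
  rw [mem_leechLattice_iff]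
  exact F1_mem p.1 hp.1.1 hp.1.2 p.2 hp.2.1 hp.2.2

theorem im2_mem (p : (GolayPt → ZMod 2) × Finset GolayPt) (hp : p ∈ Q2) :
    g2 p ∈ leechLattice ∧ sqNorm (g2 p) = 48 := by
  rw [mem_Q2] at hp
  rw [mem_leechLattice_iff]
  exact F2_mem p.1 hp.1 p.2 hp.2

theorem im3_mem (p : (_ : GolayPt → ZMod 2) × (Finset GolayPt × GolayPt × Bool)) (hp : p ∈ Q3) :
    g3 p ∈ leechLattice ∧ sqNorm (g3 p) = 48 := by
  rw [mem_Q3] at hp
  rw [mem_leechLattice_iff]
  exact F3_mem p.1 hp.1.1 hp.1.2 p.2.1 hp.2.1.1 hp.2.1.2 p.2.2.1 hp.2.2 p.2.2.2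

theorem im4_mem (p : (GolayPt → ZMod 2) × GolayPt) (hp : p ∈ Q4) :
    g4 p ∈ leechLattice ∧ sqNorm (g4 p) = 48 := by
  rw [mem_Q4] at hp
  rw [mem_leechLattice_iff]
  exact F4_mem p.1 hp p.2

theorem cover (x : GolayPt → ℤ) (hx : x ∈ leechLattice) (h48 : sqNorm x = 48) :
    (∃ p ∈ Q1, f2 p = x) ∨ (∃ p ∈ Q2, g2 p = x) ∨ (∃ p ∈ Q3, g3 p = x) ∨ (∃ p ∈ Q4, g4 p = x) := by
  rw [mem_leechLattice_iff] at hx
  rcases classify48 x hx h48 with ⟨w, hw, h12, U, hU, hev, rfl⟩ | ⟨w, hw, J, hJ, rfl⟩ |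
    ⟨w, hw, h8, U, hU, hodd, a, ha, ε, rfl⟩ | ⟨w, hw, j, rfl⟩
  · left
    exact ⟨⟨w, U⟩, (mem_Q1 _).mpr ⟨⟨hw, h12⟩, hU, hev⟩, rfl⟩
  · right; left
    exact ⟨(w, J), (mem_Q2 _).mpr ⟨hw, hJ⟩, rfl⟩
  · right; right; left
    exact ⟨⟨w, (U, a, ε)⟩, (mem_Q3 _).mpr ⟨⟨hw, h8⟩, ⟨hU, hodd⟩, ha⟩, rfl⟩
  · right; right; right
    exact ⟨(w, j), (mem_Q4 _).mpr hw, rfl⟩

/-- no entry of an even-shaped vector is odd, etc.: the incompatibilities -/
theorem abs_cases (z : ℤ) (c : ℤ) (hc : 0 ≤ c) : |z| = c ↔ z = c ∨ z = -c := abs_eq hc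

theorem A1_eq : {x : GolayPt → ℤ | x ∈ leechLattice ∧ sqNorm x = 48 ∧
    ∀ i, x i = 0 ∨ x i = 2 ∨ x i = -2} = ↑(Q1.image f2) := by
  classical
  ext x
  simp only [Set.mem_ofPred_eq, Finset.coe_image, Set.mem_image, Finset.mem_coe]
  constructor
  · rintro ⟨hx, h48, hv⟩
    rcases cover x hx h48 with h | ⟨p, hp, rfl⟩ | ⟨p, hp, rfl⟩ | ⟨p, hp, rfl⟩
    · exact h
    · exfalso
      have h1 := g2_values p none
      have h2 := hv none
      omega
    · exfalso
      rw [mem_Q3] at hp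
      have h1 := g3_four p hp.2.2
      have h2 := hv p.2.2.1
      omega
    · exfalso
      have h1 := g4_values p none
      have h2 := hv none
      omega
  · rintro ⟨p, hp, rfl⟩
    exact ⟨(im1_mem p hp).1, (im1_mem p hp).2, f2_values p⟩

theorem A2_eq : {x : GolayPt → ℤ | x ∈ leechLattice ∧ sqNorm x = 48 ∧
    ∃ i j k, i ≠ j ∧ j ≠ k ∧ i ≠ k ∧ |x i| = 3 ∧ |x j| = 3 ∧ |x k| = 3} = ↑(Q2.image g2) := by
  classical
  ext x
  simp only [Set.mem_ofPred_eq, Finset.coe_image, Set.mem_image, Finset.mem_coe]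
  constructor
  · rintro ⟨hx, h48, i, j, k, -, -, -, hi, -, -⟩
    rw [abs_cases _ 3 (by norm_num)] at hi
    rcases cover x hx h48 with ⟨p, hp, rfl⟩ | h | ⟨p, hp, rfl⟩ | ⟨p, hp, rfl⟩
    · exfalso
      have h1 := f2_values p i
      omega
    · exact h
    · exfalso
      rw [mem_Q3] at hp
      have h1 := g3_values p hp.2.2 i
      omega
    · exfalso
      have h1 := g4_values p i
      omega
  · rintro ⟨p, hp, rfl⟩
    refine ⟨(im2_mem p hp).1, (im2_mem p hp).2, ?_⟩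
    rw [mem_Q2] at hp
    obtain ⟨a, b, c, hab, hac, hbc, hJ⟩ := Finset.card_eq_three.mp hp.2
    refine ⟨a, b, c, hab, hbc, hac, g2_three p a ?_, g2_three p b ?_, g2_three p c ?_⟩ <;>
      rw [hJ] <;> simp

theorem A3_eq : {x : GolayPt → ℤ | x ∈ leechLattice ∧ sqNorm x = 48 ∧ ∃ i, |x i| = 4} =
    ↑(Q3.image g3) := by
  classical
  ext x
  simp only [Set.mem_ofPred_eq, Finset.coe_image, Set.mem_image, Finset.mem_coe]
  constructor
  · rintro ⟨hx, h48, i, hi⟩
    rw [abs_cases _ 4 (by norm_num)] at hi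
    rcases cover x hx h48 with ⟨p, hp, rfl⟩ | ⟨p, hp, rfl⟩ | h | ⟨p, hp, rfl⟩
    · exfalso
      have h1 := f2_values p i
      omega
    · exfalso
      have h1 := g2_values p i
      omega
    · exact h
    · exfalso
      have h1 := g4_values p i
      omega
  · rintro ⟨p, hp, rfl⟩
    refine ⟨(im3_mem p hp).1, (im3_mem p hp).2, p.2.2.1, ?_⟩
    rw [mem_Q3] at hp
    rw [abs_cases _ 4 (by norm_num)]
    exact g3_four p hp.2.2

theorem A4_eq : {x : GolayPt → ℤ | x ∈ leechLattice ∧ sqNorm x = 48 ∧ ∃ i, |x i| = 5} =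
    ↑(Q4.image g4) := by
  classical
  ext x
  simp only [Set.mem_ofPred_eq, Finset.coe_image, Set.mem_image, Finset.mem_coe]
  constructor
  · rintro ⟨hx, h48, i, hi⟩
    rw [abs_cases _ 5 (by norm_num)] at hi
    rcases cover x hx h48 with ⟨p, hp, rfl⟩ | ⟨p, hp, rfl⟩ | ⟨p, hp, rfl⟩ | h
    · exfalso
      have h1 := f2_values p i
      omega
    · exfalso
      have h1 := g2_values p i
      omega
    · exfalso
      rw [mem_Q3] at hp
      have h1 := g3_values p hp.2.2 i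
      omega
    · exact h
  · rintro ⟨p, hp, rfl⟩
    exact ⟨(im4_mem p hp).1, (im4_mem p hp).2, p.2, g4_five p⟩

theorem card_im1 : (Q1.image f2).card = 5275648 := by
  classical
  rw [Finset.card_image_of_injOn f2_injOn_Q1, card_Q1]

theorem card_im2 : (Q2.image g2).card = 8290304 := by
  classical
  rw [Finset.card_image_of_injective _ g2_injective, card_Q2]

theorem card_im3 : (Q3.image g3).card = 3108864 := by
  classical
  rw [Finset.card_image_of_injOn g3_injOn, card_Q3]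

theorem card_im4 : (Q4.image g4).card = 98304 := by
  classical
  rw [Finset.card_image_of_injective _ g4_injective, card_Q4]

/-- the census by shape -/
theorem census48 :
    {x : GolayPt → ℤ | x ∈ leechLattice ∧ sqNorm x = 48 ∧
      ∀ i, x i = 0 ∨ x i = 2 ∨ x i = -2}.ncard = 5275648 ∧
    {x : GolayPt → ℤ | x ∈ leechLattice ∧ sqNorm x = 48 ∧
      ∃ i j k, i ≠ j ∧ j ≠ k ∧ i ≠ k ∧ |x i| = 3 ∧ |x j| = 3 ∧ |x k| = 3}.ncard = 8290304 ∧
    {x : GolayPt → ℤ | x ∈ leechLattice ∧ sqNorm x = 48 ∧ ∃ i, |x i| = 4}.ncard = 3108864 ∧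
    {x : GolayPt → ℤ | x ∈ leechLattice ∧ sqNorm x = 48 ∧ ∃ i, |x i| = 5}.ncard = 98304 := by
  classical
  rw [A1_eq, A2_eq, A3_eq, A4_eq, Set.ncard_coe_finset, Set.ncard_coe_finset,
    Set.ncard_coe_finset, Set.ncard_coe_finset]
  exact ⟨card_im1, card_im2, card_im3, card_im4⟩

theorem total_eq : {x : GolayPt → ℤ | x ∈ leechLattice ∧ sqNorm x = 48} =
    ↑(Q1.image f2 ∪ Q2.image g2 ∪ Q3.image g3 ∪ Q4.image g4) := by
  classical
  ext x
  simp only [Set.mem_ofPred_eq, Finset.coe_union, Finset.coe_image, Set.mem_union, Set.mem_image,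
    Finset.mem_coe]
  constructor
  · rintro ⟨hx, h48⟩
    rcases cover x hx h48 with h | h | h | h
    · left; left; left; exact h
    · left; left; right; exact h
    · left; right; exact h
    · right; exact h
  · rintro (((⟨p, hp, rfl⟩ | ⟨p, hp, rfl⟩) | ⟨p, hp, rfl⟩) | ⟨p, hp, rfl⟩)
    · exact im1_mem p hp
    · exact im2_mem p hp
    · exact im3_mem p hp
    · exact im4_mem p hp

theorem ncard48 : {x : GolayPt → ℤ | x ∈ leechLattice ∧ sqNorm x = 48}.ncard = 16773120 := by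
  classical
  rw [total_eq, Set.ncard_coe_finset]
  have d12 : Disjoint (Q1.image f2) (Q2.image g2) := by
    rw [Finset.disjoint_left]
    intro x hx hx'
    obtain ⟨p, _, rfl⟩ := Finset.mem_image.mp hx
    obtain ⟨q, _, hq⟩ := Finset.mem_image.mp hx'
    have h1 := f2_values p none
    have h2 := g2_values q none
    rw [hq] at h2
    omega
  have d3 : Disjoint (Q1.image f2 ∪ Q2.image g2) (Q3.image g3) := by
    rw [Finset.disjoint_union_left]
    constructor
    · rw [Finset.disjoint_left]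
      intro x hx hx'
      obtain ⟨p, _, rfl⟩ := Finset.mem_image.mp hx
      obtain ⟨q, hq', hq⟩ := Finset.mem_image.mp hx'
      rw [mem_Q3] at hq'
      have h1 := f2_values p q.2.2.1
      have h2 := g3_four q hq'.2.2
      rw [hq] at h2
      omega
    · rw [Finset.disjoint_left]
      intro x hx hx'
      obtain ⟨p, _, rfl⟩ := Finset.mem_image.mp hx
      obtain ⟨q, hq', hq⟩ := Finset.mem_image.mp hx'
      rw [mem_Q3] at hq'
      have h1 := g2_values p none
      have h2 := g3_values q hq'.2.2 none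
      rw [hq] at h2
      omega
  have d4 : Disjoint (Q1.image f2 ∪ Q2.image g2 ∪ Q3.image g3) (Q4.image g4) := by
    rw [Finset.disjoint_union_left, Finset.disjoint_union_left]
    refine ⟨⟨?_, ?_⟩, ?_⟩
    · rw [Finset.disjoint_left]
      intro x hx hx'
      obtain ⟨p, _, rfl⟩ := Finset.mem_image.mp hx
      obtain ⟨q, _, hq⟩ := Finset.mem_image.mp hx'
      have h1 := f2_values p none
      have h2 := g4_values q none
      rw [hq] at h2
      omega
    · rw [Finset.disjoint_left]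
      intro x hx hx'
      obtain ⟨p, _, rfl⟩ := Finset.mem_image.mp hx
      obtain ⟨q, _, hq⟩ := Finset.mem_image.mp hx'
      have h1 := g2_values p q.2
      have h2 := g4_five q
      rw [hq, abs_cases _ 5 (by norm_num)] at h2
      omega
    · rw [Finset.disjoint_left]
      intro x hx hx'
      obtain ⟨p, hp', rfl⟩ := Finset.mem_image.mp hx
      obtain ⟨q, _, hq⟩ := Finset.mem_image.mp hx'
      rw [mem_Q3] at hp'
      have h1 := g3_values p hp'.2.2 none
      have h2 := g4_values q none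
      rw [hq] at h2
      omega
  rw [Finset.card_union_of_disjoint d4, Finset.card_union_of_disjoint d3,
    Finset.card_union_of_disjoint d12, card_im1, card_im2, card_im3, card_im4]

end Cfsg.Agent.Lib.Helper14.LeechCount
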