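import Mathlib
import Cfsg.Prelude.Def_Sporadic_a
import Cfsg.Prelude.Def_SporadicCombinatorics
import Cfsg.Agent.Lib.Helper14.Leech
import Cfsg.Agent.Lib.Helper14.LeechMin
import Cfsg.Agent.Lib.Helper14.LeechShort
import Cfsg.Agent.Lib.Helper14.LeechCount2
import Cfsg.Agent.Lib.Helper14.LeechCount48c
import Cfsg.Agent.Lib.Helper14.LeechCount64
import Cfsg.Agent.Lib.Helper14.CrossCount

set_option autoImplicit false

/-! The classes of the Leech lattice modulo twice the lattice: every class has a representative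
of norm at most 64, and the classes of norm-64 vectors contain exactly 48 of them. -/

namespace Cfsg.Agent.Lib.Helper14.LeechCross

open Cfsg Cfsg.Agent.Lib.Helper14.Leech Cfsg.Agent.Lib.Helper14.LeechCount
open Cfsg.Agent.Lib.Helper14.CrossCount

/-- the lattice as a `ℤ`-submodule -/
noncomputable def L : Submodule ℤ (GolayPt → ℤ) := AddSubgroup.toIntSubmodule leechLattice

theorem mem_L (x : GolayPt → ℤ) : x ∈ L ↔ x ∈ leechLattice := Iff.rfl

/-- the rank of the lattice -/
noncomputable def rk : ℕ := (Submodule.basisOfPid (Pi.basisFun ℤ GolayPt) L).1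

/-- a basis of the lattice -/
noncomputable def bas : Module.Basis (Fin rk) ℤ L :=
  (Submodule.basisOfPid (Pi.basisFun ℤ GolayPt) L).2

theorem rk_le : rk ≤ 24 := by
  have h1 : Module.finrank ℤ L = rk := by
    rw [Module.finrank_eq_card_basis bas]; simp
  have h2 := Submodule.finrank_le L
  rw [Module.finrank_fintype_fun_eq_card, card_golayPt] at h2
  omega

open Classical in
/-- the class of a vector modulo twice the lattice (junk outside the lattice) -/
noncomputable def cls (x : GolayPt → ℤ) : Fin rk → ZMod 2 :=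
  if hx : x ∈ L then fun i => ((bas.equivFun ⟨x, hx⟩ i : ℤ) : ZMod 2) else 0

theorem cls_eq_iff (x y : GolayPt → ℤ) (hx : x ∈ leechLattice) (hy : y ∈ leechLattice) :
    cls y = cls x ↔ ∃ z ∈ leechLattice, x - y = z + z := by
  have hxL : x ∈ L := hx
  have hyL : y ∈ L := hy
  unfold cls
  rw [dif_pos hxL, dif_pos hyL, funext_iff]
  have hsub : ∀ i, bas.equivFun (⟨x, hxL⟩ - ⟨y, hyL⟩ : L) i
      = bas.equivFun ⟨x, hxL⟩ i - bas.equivFun ⟨y, hyL⟩ i := by
    intro i
    rw [map_sub]; rfl
  constructor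
  · intro h
    have hdiv : ∀ i, (2 : ℤ) ∣ bas.equivFun (⟨x, hxL⟩ - ⟨y, hyL⟩ : L) i := by
      intro i
      rw [hsub]
      have := h i
      rw [ZMod.intCast_eq_intCast_iff_dvd_sub] at this
      exact_mod_cast this
    choose c hc using hdiv
    refine ⟨(bas.equivFun.symm c : L), (bas.equivFun.symm c : L).2, ?_⟩
    have h2 : (⟨x, hxL⟩ - ⟨y, hyL⟩ : L) = bas.equivFun.symm c + bas.equivFun.symm c := by
      apply bas.equivFun.injective
      rw [map_add, LinearEquiv.apply_symm_apply]
      funext i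
      rw [hc i, Pi.add_apply]; ring
    have h3 := congrArg (fun v : L => (v : GolayPt → ℤ)) h2
    exact h3
  · rintro ⟨z, hz, hxy⟩ i
    have hzL : z ∈ L := hz
    have h2 : (⟨x, hxL⟩ - ⟨y, hyL⟩ : L) = (⟨z, hzL⟩ + ⟨z, hzL⟩ : L) := Subtype.ext hxy
    have h3 := hsub i
    rw [h2, map_add, Pi.add_apply] at h3
    rw [ZMod.intCast_eq_intCast_iff_dvd_sub]
    exact ⟨bas.equivFun ⟨z, hzL⟩ i, by push_cast; linarith⟩

/-! ### the form -/

theorem dotInt_add_left (x y u : GolayPt → ℤ) : dotInt (x + y) u = dotInt x u + dotInt y u := by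
  unfold dotInt
  rw [← Finset.sum_add_distrib]
  refine Finset.sum_congr rfl fun i _ => ?_
  rw [Pi.add_apply]; ring

theorem dotInt_smul_left (c : ℤ) (x u : GolayPt → ℤ) : dotInt (c • x) u = c * dotInt x u := by
  unfold dotInt
  rw [Finset.mul_sum]
  refine Finset.sum_congr rfl fun i _ => ?_
  rw [Pi.smul_apply, smul_eq_mul]; ring

theorem dotInt_self (x : GolayPt → ℤ) : dotInt x x = sqNorm x := by
  unfold dotInt sqNorm
  refine Finset.sum_congr rfl fun i _ => ?_
  ring

theorem dotInt_comm (x y : GolayPt → ℤ) : dotInt x y = dotInt y x := by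
  unfold dotInt
  refine Finset.sum_congr rfl fun i _ => ?_
  ring

theorem sqNorm_eq_zero (x : GolayPt → ℤ) (h : sqNorm x = 0) : x = 0 := by
  unfold sqNorm at h
  have := (Finset.sum_eq_zero_iff_of_nonneg (fun i _ => sq_nonneg (x i))).mp h
  funext i
  have hi := this i (Finset.mem_univ i)
  exact pow_eq_zero_iff (two_ne_zero) |>.mp hi

theorem norm_cases (x : GolayPt → ℤ) (hx : x ∈ leechLattice) (h64 : sqNorm x ≤ 64) :
    x = 0 ∨ sqNorm x = 32 ∨ sqNorm x = 48 ∨ sqNorm x = 64 := by
  by_cases h0 : x = 0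
  · exact Or.inl h0
  · right
    have h1 := thirtytwo_le_sqNorm_lattice x hx h0
    obtain ⟨k, hk⟩ := sixteen_dvd_sqNorm_lattice x hx
    omega

/-- two short lattice vectors in the same class are equal, opposite, or both of norm 64 and
orthogonal -/
theorem key (x y : GolayPt → ℤ) (hx : x ∈ leechLattice) (hy : y ∈ leechLattice)
    (hxn : sqNorm x ≤ 64) (hyn : sqNorm y ≤ 64) (h : cls y = cls x) :
    y = x ∨ y = -x ∨ (sqNorm x = 64 ∧ sqNorm y = 64 ∧ dotInt y x = 0) := by
  obtain ⟨z, hz, hxy⟩ := (cls_eq_iff x y hx hy).mp h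
  by_cases hne : x = y
  · exact Or.inl hne.symm
  · rcases short_congr x y z hy hz hne hxn hyn hxy with h1 | h1
    · right; left
      rw [h1, neg_neg]
    · right; right
      exact ⟨h1.1, h1.2.1, by rw [dotInt_comm]; exact h1.2.2⟩

theorem norm_eq_of_cls (x y : GolayPt → ℤ) (hx : x ∈ leechLattice) (hy : y ∈ leechLattice)
    (hxn : sqNorm x ≤ 64) (hyn : sqNorm y ≤ 64) (h : cls y = cls x) : sqNorm y = sqNorm x := by
  rcases key x y hx hy hxn hyn h with h1 | h1 | h1
  · rw [h1]
  · rw [h1, sqNorm_neg]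
  · rw [h1.1, h1.2.1]

/-! ### the count -/

/-- weights by norm -/
def wq (n : ℤ) : ℕ :=
  (if n = 0 then 48 else 0) + (if n = 32 then 24 else 0) + (if n = 48 then 24 else 0)
    + (if n = 64 then 1 else 0)

theorem sum_ite_const {V : Type*} (S : Finset V) (p : V → Prop) [DecidablePred p] (c : ℕ) :
    ∑ v ∈ S, (if p v then c else 0) = (S.filter p).card * c := by
  rw [← Finset.sum_filter, Finset.sum_const, smul_eq_mul]

theorem short_finite : {x : GolayPt → ℤ | x ∈ leechLattice ∧ sqNorm x ≤ 64}.Finite := by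
  have f32 : {x : GolayPt → ℤ | x ∈ leechLattice ∧ sqNorm x = 32}.Finite :=
    Set.finite_of_ncard_ne_zero (by rw [ncard_min]; norm_num)
  have f48 : {x : GolayPt → ℤ | x ∈ leechLattice ∧ sqNorm x = 48}.Finite :=
    Set.finite_of_ncard_ne_zero (by rw [ncard48]; norm_num)
  have f64 : {x : GolayPt → ℤ | x ∈ leechLattice ∧ sqNorm x = 64}.Finite :=
    Set.finite_of_ncard_ne_zero (by rw [ncard64]; norm_num)
  refine Set.Finite.subset (((Set.finite_singleton (0 : GolayPt → ℤ)).union f32).union
    (f48.union f64)) ?_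
  rintro y ⟨hy, hyn⟩
  rcases norm_cases y hy hyn with h | h | h | h
  · exact Or.inl (Or.inl h)
  · exact Or.inl (Or.inr ⟨hy, h⟩)
  · exact Or.inr (Or.inl ⟨hy, h⟩)
  · exact Or.inr (Or.inr ⟨hy, h⟩)

/-- the short vectors of the lattice -/
noncomputable def Short : Finset (GolayPt → ℤ) := short_finite.toFinset

theorem mem_Short (y : GolayPt → ℤ) : y ∈ Short ↔ y ∈ leechLattice ∧ sqNorm y ≤ 64 := by
  unfold Short; rw [Set.Finite.mem_toFinset]; rfl

theorem sqNorm_zero : sqNorm (0 : GolayPt → ℤ) = 0 := by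
  unfold sqNorm; simp

open Classical in
theorem main :
    (∀ x ∈ Short, (Short.filter (fun y => cls y = cls x)).card * wq (sqNorm x) = 48) ∧
      ∀ k : Fin rk → ZMod 2, ∃ x ∈ Short, cls x = k := by
  have c0 : (Short.filter (fun v => sqNorm v = 0)).card = 1 := by
    rw [Finset.card_eq_one]
    refine ⟨0, ?_⟩
    ext y
    rw [Finset.mem_filter, Finset.mem_singleton, mem_Short]
    constructor
    · rintro ⟨_, h0⟩
      exact sqNorm_eq_zero y h0
    · rintro rfl
      rw [sqNorm_zero]
      exact ⟨⟨leechLattice.zero_mem, by norm_num⟩, rfl⟩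
  have cn : ∀ n : ℤ, n ≤ 64 → (Short.filter (fun v => sqNorm v = n)).card
      = {x : GolayPt → ℤ | x ∈ leechLattice ∧ sqNorm x = n}.ncard := by
    intro n hn
    rw [← Set.ncard_coe_finset]
    congr 1
    ext y
    rw [Finset.coe_filter]
    simp only [Set.mem_ofPred_eq, mem_Short]
    constructor
    · exact fun h => ⟨h.1.1, h.2⟩
    · exact fun h => ⟨⟨h.1, by rw [h.2]; exact hn⟩, h.2⟩
  have hN : ∑ v ∈ Short, wq (sqNorm v) = 48 * 16777216 := by
    unfold wq
    rw [Finset.sum_add_distrib, Finset.sum_add_distrib, Finset.sum_add_distrib,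
      sum_ite_const, sum_ite_const, sum_ite_const, sum_ite_const, c0, cn 32 (by norm_num),
      cn 48 (by norm_num), cn 64 (by norm_num), ncard_min, ncard48, ncard64]
  have hK : Fintype.card (Fin rk → ZMod 2) ≤ 16777216 := by
    rw [Fintype.card_fun, ZMod.card, Fintype.card_fin]
    calc 2 ^ rk ≤ 2 ^ 24 := Nat.pow_le_pow_right (by norm_num) rk_le
      _ = 16777216 := by norm_num
  have hqeq : ∀ a ∈ Short, ∀ y ∈ Short, cls y = cls a → sqNorm y = sqNorm a := by
    intro a ha y hy h
    rw [mem_Short] at ha hy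
    exact norm_eq_of_cls a y ha.1 hy.1 ha.2 hy.2 h
  have hwt : ∀ a ∈ Short, ∀ y ∈ Short, cls y = cls a → wq (sqNorm y) = wq (sqNorm a) := by
    intro a ha y hy h
    rw [hqeq a ha y hy h]
  have hfib : ∀ a ∈ Short, (Short.filter (fun y => cls y = cls a)).card * wq (sqNorm a) ≤ 48 := by
    intro a ha
    have haS := (mem_Short a).mp ha
    by_cases ha8 : sqNorm a = 64
    · have hw : wq (sqNorm a) = 1 := by rw [ha8]; rfl
      rw [hw, mul_one]
      have := orth_card_le (M := GolayPt → ℤ) dotInt dotInt_add_left dotInt_smul_left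
        (Short.filter (fun y => cls y = cls a)) ?_ ?_
      · rw [Module.finrank_fintype_fun_eq_card, card_golayPt] at this
        exact this
      · intro y hy
        rw [Finset.mem_filter] at hy
        rw [dotInt_self, hqeq a ha y hy.1 hy.2, ha8]; norm_num
      · intro y hy y' hy'
        rw [Finset.mem_filter] at hy hy'
        have hyS := (mem_Short y).mp hy.1
        have hyS' := (mem_Short y').mp hy'.1
        rcases key y y' hyS.1 hyS'.1 hyS.2 hyS'.2 (by rw [hy'.2, hy.2]) with h | h | h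
        · exact Or.inl h
        · exact Or.inr (Or.inl h)
        · exact Or.inr (Or.inr h.2.2)
    · have hsub : Short.filter (fun y => cls y = cls a) ⊆ {a, -a} := by
        intro y hy
        rw [Finset.mem_filter] at hy
        have hyS := (mem_Short y).mp hy.1
        rw [Finset.mem_insert, Finset.mem_singleton]
        rcases key a y haS.1 hyS.1 haS.2 hyS.2 hy.2 with h | h | h
        · exact Or.inl h
        · exact Or.inr h
        · exact absurd h.1 ha8
      have hcard := Finset.card_le_card hsub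
      rcases norm_cases a haS.1 haS.2 with h | h | h | h
      · rw [h, neg_zero] at hcard
        have : ({0, 0} : Finset (GolayPt → ℤ)).card = 1 := by simp
        rw [h, sqNorm_zero]
        have hw : wq 0 = 48 := rfl
        rw [hw]; omega
      · have := Finset.card_le_two (a := a) (b := -a)
        have hw : wq (sqNorm a) = 24 := by rw [h]; rfl
        rw [hw]; omega
      · have := Finset.card_le_two (a := a) (b := -a)
        have hw : wq (sqNorm a) = 24 := by rw [h]; rfl
        rw [hw]; omega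
      · exact absurd h ha8
  exact fiber_count Short cls (fun v => wq (sqNorm v)) 16777216 hK hN hwt hfib

/-- S1570: every class modulo twice the lattice has a representative of norm at most 64 -/
theorem exists_short (x : GolayPt → ℤ) (hx : x ∈ leechLattice) :
    ∃ y ∈ leechLattice, sqNorm y ≤ 64 ∧ ∃ z ∈ leechLattice, x - y = 2 • z := by
  obtain ⟨y, hy, hcls⟩ := main.2 (cls x)
  rw [mem_Short] at hy
  obtain ⟨z, hz, hxy⟩ := (cls_eq_iff x y hx hy.1).mp hcls
  exact ⟨y, hy.1, hy.2, z, hz, by rw [two_nsmul]; exact hxy⟩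

/-- S1569: the cross of a vector of norm 64 has 48 members -/
theorem ncard_cross (x : GolayPt → ℤ) (hx : x ∈ leechLattice) (hxn : sqNorm x = 64) :
    (cross x).ncard = 48 := by
  classical
  have hxS : x ∈ Short := (mem_Short x).mpr ⟨hx, by rw [hxn]⟩
  have h48 := main.1 x hxS
  have hw : wq (sqNorm x) = 1 := by rw [hxn]; rfl
  rw [hw, mul_one] at h48
  rw [← h48, ← Set.ncard_coe_finset]
  congr 1
  ext y
  unfold cross
  rw [Finset.coe_filter]
  simp only [Set.mem_ofPred_eq, mem_Short]
  constructor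
  · rintro ⟨hy, hyn, z, hz, hxy⟩
    refine ⟨⟨hy, by rw [hyn, hxn]⟩, ?_⟩
    exact (cls_eq_iff x y hx hy).mpr ⟨z, hz, by rw [← two_nsmul]; exact hxy⟩
  · rintro ⟨⟨hy, hyn⟩, hcls⟩
    obtain ⟨z, hz, hxy⟩ := (cls_eq_iff x y hx hy).mp hcls
    refine ⟨hy, ?_, z, hz, by rw [two_nsmul]; exact hxy⟩
    exact norm_eq_of_cls x y hx hy (by rw [hxn]) hyn hcls

end Cfsg.Agent.Lib.Helper14.LeechCross
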