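import Mathlib
import Cfsg.Prelude.Def_Sporadic_a
import Cfsg.Agent.Lib.Helper14.Golay
import Cfsg.Agent.Lib.Helper14.Leech
import Cfsg.Agent.Lib.Helper14.LeechShort
import Cfsg.Agent.Lib.Helper14.LeechGen
import Cfsg.Agent.Lib.Helper3.Golay.Bits
import Cfsg.Agent.Lib.Helper3.Golay.Code

set_option autoImplicit false

/-! A non-monomial automorphism `ξ` of the Leech lattice attached to the sextet of the tetrad
`{∞, 0, 1, 2}`. -/

namespace Cfsg.Agent.Lib.Helper14.LeechXi

open Cfsg
open Cfsg.Agent.Lib.Helper14.Golay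
open Cfsg.Agent.Lib.Helper14.Leech
open Cfsg.Agent.Lib.Helper14.LeechCount
open Cfsg.Agent.Lib.Helper3.Golay

/-- the tetrad index of a point (tetrads of the sextet of `{∞, 0, 1, 2}`) -/
def tetL : List ℕ := [0,0,0,1,2,1,3,3,4,5,5,4,4,2,1,5,2,1,4,3,5,3,2,0]

def tet (p : GolayPt) : ℕ := tetL.getD (idx p) 0

theorem card_tet : ∀ j : GolayPt, (Finset.univ.filter (fun k => tet k = tet j)).card = 4 := by
  decide

/-- the sum of the coordinates over the tetrad of `j` -/
def tetSum (x : GolayPt → ℤ) (j : GolayPt) : ℤ := ∑ k, if tet k = tet j then x k else 0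

def sgn (j : GolayPt) : ℤ := if tet j = 0 then -1 else 1

theorem sgn_sq (j : GolayPt) : sgn j * sgn j = 1 := by
  unfold sgn; split_ifs <;> norm_num

theorem sgn_congr {j k : GolayPt} (h : tet k = tet j) : sgn k = sgn j := by
  unfold sgn; rw [h]

/-- the map `ξ` -/
def xi (x : GolayPt → ℤ) : GolayPt → ℤ := fun j => sgn j * (x j - tetSum x j / 2)

/-- all tetrad sums are even -/
def TE (x : GolayPt → ℤ) : Prop := ∀ j, (2 : ℤ) ∣ tetSum x j

theorem tetSum_congr (x : GolayPt → ℤ) {j k : GolayPt} (h : tet k = tet j) :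
    tetSum x k = tetSum x j := by
  unfold tetSum; rw [h]

theorem tetSum_add (x y : GolayPt → ℤ) (j : GolayPt) :
    tetSum (x + y) j = tetSum x j + tetSum y j := by
  unfold tetSum
  rw [← Finset.sum_add_distrib]
  refine Finset.sum_congr rfl fun k _ => ?_
  rw [Pi.add_apply]; split_ifs <;> ring

theorem tetSum_neg (x : GolayPt → ℤ) (j : GolayPt) : tetSum (-x) j = -tetSum x j := by
  unfold tetSum
  rw [← Finset.sum_neg_distrib]
  refine Finset.sum_congr rfl fun k _ => ?_
  rw [Pi.neg_apply]; split_ifs <;> ring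

theorem tetSum_smul (c : ℤ) (x : GolayPt → ℤ) (j : GolayPt) :
    tetSum (fun k => c * x k) j = c * tetSum x j := by
  unfold tetSum
  rw [Finset.mul_sum]
  refine Finset.sum_congr rfl fun k _ => ?_
  split_ifs <;> ring

/-- a function constant on the tetrad of `j` -/
theorem tetSum_const (f : GolayPt → ℤ) (j : GolayPt) (h : ∀ k, tet k = tet j → f k = f j) :
    tetSum f j = 4 * f j := by
  unfold tetSum
  have : ∀ k, (if tet k = tet j then f k else 0) = if tet k = tet j then f j else 0 := by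
    intro k; split_ifs with hk
    · exact h k hk
    · rfl
  rw [Finset.sum_congr rfl (fun k _ => this k), ← Finset.sum_filter, Finset.sum_const, card_tet]
  simp

theorem sum_ite_tet (c : ℤ) (j : GolayPt) : ∑ k, (if tet k = tet j then c else 0) = 4 * c := by
  rw [← Finset.sum_filter, Finset.sum_const, card_tet]
  simp

/-- adjointness of the tetrad sum -/
theorem sum_mul_tetSum (a b : GolayPt → ℤ) : ∑ j, a j * tetSum b j = ∑ j, tetSum a j * b j := by
  unfold tetSum
  simp only [Finset.mul_sum, Finset.sum_mul]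
  rw [Finset.sum_comm]
  refine Finset.sum_congr rfl fun k _ => Finset.sum_congr rfl fun j _ => ?_
  by_cases h : tet k = tet j
  · rw [if_pos h, if_pos h.symm]
  · rw [if_neg h, if_neg (fun h' => h h'.symm)]; ring

theorem TE_add {x y : GolayPt → ℤ} (hx : TE x) (hy : TE y) : TE (x + y) := by
  intro j; rw [tetSum_add]; exact dvd_add (hx j) (hy j)

theorem TE_neg {x : GolayPt → ℤ} (hx : TE x) : TE (-x) := by
  intro j; rw [tetSum_neg]; exact (dvd_neg).mpr (hx j)

theorem TE_zero : TE 0 := by
  intro j; unfold tetSum; simp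

theorem xi_add {x y : GolayPt → ℤ} (hx : TE x) (hy : TE y) : xi (x + y) = xi x + xi y := by
  funext j
  unfold xi
  rw [Pi.add_apply, tetSum_add, Pi.add_apply]
  obtain ⟨a, ha⟩ := hx j
  obtain ⟨b, hb⟩ := hy j
  rw [ha, hb]
  have e1 : (2 * a + 2 * b) / 2 = a + b := by omega
  have e2 : 2 * a / 2 = a := by omega
  have e3 : 2 * b / 2 = b := by omega
  rw [e1, e2, e3]; ring

theorem xi_neg {x : GolayPt → ℤ} (hx : TE x) : xi (-x) = -xi x := by
  funext j
  unfold xi
  rw [Pi.neg_apply, tetSum_neg, Pi.neg_apply]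
  obtain ⟨a, ha⟩ := hx j
  rw [ha]
  have e1 : -(2 * a) / 2 = -a := by omega
  have e2 : 2 * a / 2 = a := by omega
  rw [e1, e2]; ring

theorem xi_zero : xi 0 = 0 := by
  funext j; unfold xi tetSum; simp

/-- half the tetrad sum -/
def hs (x : GolayPt → ℤ) (j : GolayPt) : ℤ := tetSum x j / 2

theorem hs_congr (x : GolayPt → ℤ) {j k : GolayPt} (h : tet k = tet j) : hs x k = hs x j := by
  unfold hs; rw [tetSum_congr x h]

theorem two_hs {x : GolayPt → ℤ} (hx : TE x) (j : GolayPt) : 2 * hs x j = tetSum x j := by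
  obtain ⟨a, ha⟩ := hx j
  unfold hs; rw [ha]; omega

theorem xi_apply (x : GolayPt → ℤ) (j : GolayPt) : xi x j = sgn j * (x j - hs x j) := rfl

theorem tetSum_xi {x : GolayPt → ℤ} (hx : TE x) (j : GolayPt) :
    tetSum (xi x) j = -(sgn j * tetSum x j) := by
  have h1 : tetSum (xi x) j = ∑ k, if tet k = tet j then sgn j * (x k - hs x j) else 0 := by
    unfold tetSum
    refine Finset.sum_congr rfl fun k _ => ?_
    split_ifs with hk
    · rw [xi_apply, sgn_congr hk, hs_congr x hk]
    · rfl
  have h2 : ∀ k, (if tet k = tet j then sgn j * (x k - hs x j) else 0)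
      = sgn j * (if tet k = tet j then x k else 0) - (if tet k = tet j then sgn j * hs x j else 0) := by
    intro k; split_ifs <;> ring
  rw [h1, Finset.sum_congr rfl (fun k _ => h2 k), Finset.sum_sub_distrib, ← Finset.mul_sum,
    sum_ite_tet]
  have := two_hs hx j
  show sgn j * tetSum x j - 4 * (sgn j * hs x j) = _
  rw [← this]; ring

theorem TE_xi {x : GolayPt → ℤ} (hx : TE x) : TE (xi x) := by
  intro j
  rw [tetSum_xi hx]
  exact (dvd_neg).mpr (Dvd.dvd.mul_left (hx j) _)

theorem xi_xi {x : GolayPt → ℤ} (hx : TE x) : xi (xi x) = x := by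
  funext j
  have h1 : hs (xi x) j = -(sgn j * hs x j) := by
    unfold hs
    rw [tetSum_xi hx]
    obtain ⟨a, ha⟩ := hx j
    rw [ha]
    have e2 : 2 * a / 2 = a := by omega
    rw [e2]
    have : -(sgn j * (2 * a)) = 2 * (-(sgn j * a)) := by ring
    rw [this]
    omega
  rw [xi_apply, h1, xi_apply]
  have := sgn_sq j
  calc sgn j * (sgn j * (x j - hs x j) - -(sgn j * hs x j))
      = (sgn j * sgn j) * x j := by ring
    _ = x j := by rw [this, one_mul]

theorem sqNorm_xi {x : GolayPt → ℤ} (hx : TE x) : sqNorm (xi x) = sqNorm x := by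
  have h1 : ∀ j, xi x j ^ 2 = x j ^ 2 - 2 * (x j * hs x j) + hs x j * hs x j := by
    intro j
    rw [xi_apply]
    have := sgn_sq j
    calc (sgn j * (x j - hs x j)) ^ 2 = (sgn j * sgn j) * (x j - hs x j) ^ 2 := by ring
      _ = x j ^ 2 - 2 * (x j * hs x j) + hs x j * hs x j := by rw [this]; ring
  have h2 : ∑ j, hs x j * tetSum x j = ∑ j, tetSum (hs x) j * x j := sum_mul_tetSum (hs x) x
  have h3 : ∀ j, tetSum (hs x) j = 4 * hs x j := fun j =>
    tetSum_const (hs x) j (fun k hk => hs_congr x hk)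
  have h4 : ∑ j, hs x j * tetSum x j = 2 * ∑ j, hs x j * hs x j := by
    rw [Finset.mul_sum]
    refine Finset.sum_congr rfl fun j _ => ?_
    rw [← two_hs hx j]; ring
  have h5 : ∑ j, tetSum (hs x) j * x j = 4 * ∑ j, x j * hs x j := by
    rw [Finset.mul_sum]
    refine Finset.sum_congr rfl fun j _ => ?_
    rw [h3 j]; ring
  unfold sqNorm
  rw [Finset.sum_congr rfl (fun j _ => h1 j), Finset.sum_add_distrib, Finset.sum_sub_distrib,
    ← Finset.mul_sum]
  rw [h4, h5] at h2
  linarith

/-! ### generators of the lattice -/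

/-- a subgroup containing the standard generators contains the lattice -/
theorem le_of_gens (M : AddSubgroup (GolayPt → ℤ))
    (h1 : ∀ i : GolayPt, (Pi.single i 4 - Pi.single none 4 : GolayPt → ℤ) ∈ M)
    (h2 : (Pi.single none 8 : GolayPt → ℤ) ∈ M)
    (h3 : ∀ k : Fin 12, (fun i => 2 * ((bvec k i).val : ℤ)) ∈ M)
    (h4 : (fun i : GolayPt => if i = none then (-3 : ℤ) else 1) ∈ M) : leechLattice ≤ M := by
  unfold leechLattice
  rw [AddSubgroup.closure_le]
  intro x hx
  obtain ⟨m, w, t, hw, hx1, hpar⟩ := exists_decomp x hx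
  have hw' := hw
  rw [golayCode_eq_span, Submodule.mem_span_range_iff_exists_fun] at hw'
  obtain ⟨a, ha⟩ := hw'
  set n : GolayPt → ℤ := fun i => ∑ k, ((a k).val : ℤ) * ((bvec k i).val : ℤ) with hn
  have hcast : ∀ i, ((n i : ℤ) : ZMod 2) = w i := by
    intro i
    rw [hn]
    push_cast
    rw [← ha]
    simp only [Finset.sum_apply, Pi.smul_apply, smul_eq_mul]
    apply Finset.sum_congr rfl
    intro k _
    rw [ZMod.natCast_zmod_val, ZMod.natCast_zmod_val]
  have hdvd : ∀ i, (2 : ℤ) ∣ n i - ((w i).val : ℤ) := by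
    intro i
    have : ((n i - ((w i).val : ℤ) : ℤ) : ZMod 2) = 0 := by
      push_cast
      rw [hcast i, ZMod.natCast_zmod_val, sub_self]
    exact (ZMod.intCast_zmod_eq_zero_iff_dvd _ 2).mp this
  choose s hs using hdvd
  have hy : (fun i => 2 * n i) ∈ M := by
    have : (fun i => 2 * n i) = ∑ k, ((a k).val : ℤ) • (fun i => 2 * ((bvec k i).val : ℤ)) := by
      funext i
      simp only [hn, Finset.sum_apply, Pi.smul_apply, smul_eq_mul, Finset.mul_sum]
      apply Finset.sum_congr rfl
      intro k _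
      ring
    rw [this]
    exact M.sum_mem (fun k _ => M.zsmul_mem (h3 k) _)
  have hsum_n : ∑ i, n i = 8 * ∑ k, ((a k).val : ℤ) := by
    simp only [hn]
    rw [Finset.sum_comm, Finset.mul_sum]
    apply Finset.sum_congr rfl
    intro k _
    rw [← Finset.mul_sum, sum_val_eq_card, bvec_weight k]
    push_cast
    ring
  obtain ⟨q, hq⟩ := four_dvd_card w hw
  have hsum_s : 2 * ∑ i, s i = ∑ i, n i - ∑ i, ((w i).val : ℤ) := by
    rw [Finset.mul_sum, ← Finset.sum_sub_distrib]
    apply Finset.sum_congr rfl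
    intro i _
    rw [hs i]
  rw [hsum_n, sum_val_eq_card, hq] at hsum_s
  push_cast at hsum_s
  set u : GolayPt → ℤ := fun i => t i - s i + (if i = none then m else 0) with hu
  have hu_sum : (2 : ℤ) ∣ ∑ i, u i := by
    have : ∑ i, u i = ∑ i, t i - ∑ i, s i + m := by
      simp only [hu]
      rw [Finset.sum_add_distrib, Finset.sum_sub_distrib, Finset.sum_ite_eq' Finset.univ none,
        if_pos (Finset.mem_univ _)]
    rw [this]
    omega
  have h4u : (fun i => 4 * u i) ∈ M := by
    obtain ⟨k, hk⟩ := hu_sum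
    have h1' : ∀ i, u i • (Pi.single i 4 - Pi.single none 4 : GolayPt → ℤ) ∈ M :=
      fun i => M.zsmul_mem (h1 i) _
    have h2' : k • (Pi.single none 8 : GolayPt → ℤ) ∈ M := M.zsmul_mem h2 _
    have h3' := M.add_mem (M.sum_mem (fun i (_ : i ∈ Finset.univ) => h1' i)) h2'
    convert h3' using 1
    funext c
    simp only [Pi.add_apply, Finset.sum_apply, Pi.smul_apply, Pi.sub_apply, Pi.single_apply,
      smul_eq_mul]
    have e1 : ∀ i, u i * ((if c = i then (4 : ℤ) else 0) - (if c = none then 4 else 0))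
        = (if c = i then 4 * u i else 0) - u i * (if c = none then 4 else 0) := by
      intro i
      split_ifs <;> ring
    rw [Finset.sum_congr rfl (fun i _ => e1 i), Finset.sum_sub_distrib,
      Finset.sum_ite_eq Finset.univ c, if_pos (Finset.mem_univ c), ← Finset.sum_mul, hk]
    split_ifs <;> ring
  have hmv := M.zsmul_mem h4 m
  have hfin := M.add_mem (M.add_mem hmv hy) h4u
  have hxe : x = m • (fun i : GolayPt => if i = none then (-3 : ℤ) else 1) + (fun i => 2 * n i)
      + (fun i => 4 * u i) := by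
    funext i
    simp only [Pi.add_apply, Pi.smul_apply, smul_eq_mul, hu]
    rw [hx1 i]
    have := hs i
    split_ifs <;> linarith
  show x ∈ M
  rw [hxe]
  exact hfin

/-! ### a membership checker -/

/-- the set of coordinates congruent to `m + 2` modulo 4 -/
def twoSet (y : GolayPt → ℤ) (m : ℤ) : Finset GolayPt :=
  Finset.univ.filter (fun j => (y j - m) % 4 = 2)

/-- a boolean test for membership in the lattice -/
def chk (y : GolayPt → ℤ) : Bool :=
  decide (∀ j, (y j - y none % 2) % 2 = 0) &&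
    Nat.beq (codeMask (maskOf (twoSet y (y none % 2)) % 4096)) (maskOf (twoSet y (y none % 2))) &&
    decide ((∑ j, y j - 4 * (y none % 2)) % 8 = 0)

theorem chk_sound (y : GolayPt → ℤ) (h : chk y = true) : y ∈ leechLattice := by
  unfold chk at h
  rw [Bool.and_eq_true, Bool.and_eq_true, decide_eq_true_eq, decide_eq_true_eq] at h
  obtain ⟨⟨h1, h2⟩, h3⟩ := h
  have h2' := Nat.eq_of_beq_eq_true h2
  set m := y none % 2 with hm
  set s := twoSet y m with hs
  rw [mem_leechLattice_iff, mem_leechSet_iff]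
  refine ⟨m, wordOf (maskOf s), ?_, ?_, by omega⟩
  · rw [mem_golayCode_iff]
    exact ⟨maskOf s % 4096, Nat.mod_lt _ (by norm_num), by rw [h2']⟩
  · intro i
    rw [wordOf_apply, testBit_maskOf]
    have hi := h1 i
    by_cases his : i ∈ s
    · have h4 : (y i - m) % 4 = 2 := by
        rw [hs] at his
        unfold twoSet at his
        exact (Finset.mem_filter.mp his).2
      simp only [his, decide_true, if_true]
      rw [show ((1 : ZMod 2).val : ℤ) = 1 from rfl]
      omega
    · have h4 : ¬ (y i - m) % 4 = 2 := by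
        intro hh
        apply his
        rw [hs]
        unfold twoSet
        exact Finset.mem_filter.mpr ⟨Finset.mem_univ _, hh⟩
      simp only [his, decide_false]
      rw [show (((if false = true then (1 : ZMod 2) else 0)).val : ℤ) = 0 from rfl]
      omega

/-! ### `ξ` preserves the lattice -/

theorem TE_of_mem (x : GolayPt → ℤ) (hx : x ∈ leechLattice) : TE x := by
  rw [mem_leechLattice_iff] at hx
  obtain ⟨m, w, t, -, hx1, -⟩ := exists_decomp x hx
  intro j
  have hx' : x = (fun _ => m) + (fun k => 2 * (((w k).val : ℤ) + 2 * t k)) := by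
    funext k; rw [Pi.add_apply, hx1 k]; ring
  rw [hx', tetSum_add, tetSum_smul, tetSum_const (fun _ => m) j (fun _ _ => rfl)]
  exact ⟨2 * m + tetSum (fun k => ((w k).val : ℤ) + 2 * t k) j, by ring⟩

/-- the subgroup of vectors with even tetrad sums mapped into the lattice by `ξ` -/
def Mxi : AddSubgroup (GolayPt → ℤ) where
  carrier := {x | TE x ∧ xi x ∈ leechLattice}
  zero_mem' := ⟨TE_zero, by rw [xi_zero]; exact leechLattice.zero_mem⟩
  add_mem' := by
    rintro x y ⟨hx1, hx2⟩ ⟨hy1, hy2⟩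
    exact ⟨TE_add hx1 hy1, by rw [xi_add hx1 hy1]; exact leechLattice.add_mem hx2 hy2⟩
  neg_mem' := by
    rintro x ⟨hx1, hx2⟩
    exact ⟨TE_neg hx1, by rw [xi_neg hx1]; exact leechLattice.neg_mem hx2⟩

set_option maxRecDepth 100000 in
theorem gen1_TE : ∀ i j : GolayPt,
    (2 : ℤ) ∣ tetSum (Pi.single i 4 - Pi.single none 4 : GolayPt → ℤ) j := by
  decide +kernel

set_option maxRecDepth 100000 in
theorem gen1_chk : ∀ i : GolayPt,
    chk (xi (Pi.single i 4 - Pi.single none 4 : GolayPt → ℤ)) = true := by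
  decide +kernel

set_option maxRecDepth 100000 in
theorem gen2_TE : ∀ j : GolayPt, (2 : ℤ) ∣ tetSum (Pi.single none 8 : GolayPt → ℤ) j := by
  decide +kernel

set_option maxRecDepth 100000 in
theorem gen2_chk : chk (xi (Pi.single none 8 : GolayPt → ℤ)) = true := by
  decide +kernel

set_option maxRecDepth 100000 in
theorem gen3_TE : ∀ (k : Fin 12) (j : GolayPt),
    (2 : ℤ) ∣ tetSum (fun i => 2 * ((bvec k i).val : ℤ)) j := by
  decide +kernel

set_option maxRecDepth 100000 in
theorem gen3_chk : ∀ k : Fin 12, chk (xi (fun i => 2 * ((bvec k i).val : ℤ))) = true := by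
  decide +kernel

set_option maxRecDepth 100000 in
theorem gen4_TE : ∀ j : GolayPt,
    (2 : ℤ) ∣ tetSum (fun i : GolayPt => if i = none then (-3 : ℤ) else 1) j := by
  decide +kernel

set_option maxRecDepth 100000 in
theorem gen4_chk : chk (xi (fun i : GolayPt => if i = none then (-3 : ℤ) else 1)) = true := by
  decide +kernel

theorem le_Mxi : leechLattice ≤ Mxi :=
  le_of_gens Mxi (fun i => ⟨gen1_TE i, chk_sound _ (gen1_chk i)⟩)
    ⟨gen2_TE, chk_sound _ gen2_chk⟩ (fun k => ⟨gen3_TE k, chk_sound _ (gen3_chk k)⟩)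
    ⟨gen4_TE, chk_sound _ gen4_chk⟩

theorem xi_mem (x : GolayPt → ℤ) (hx : x ∈ leechLattice) : xi x ∈ leechLattice :=
  (le_Mxi hx).2

/-- `ξ` as a permutation of the lattice -/
noncomputable def xiPerm : Equiv.Perm ↥leechLattice where
  toFun v := ⟨xi v.1, xi_mem v.1 v.2⟩
  invFun v := ⟨xi v.1, xi_mem v.1 v.2⟩
  left_inv v := Subtype.ext (xi_xi (TE_of_mem v.1 v.2))
  right_inv v := Subtype.ext (xi_xi (TE_of_mem v.1 v.2))

theorem xiPerm_apply (v : ↥leechLattice) :
    ((xiPerm v : ↥leechLattice) : GolayPt → ℤ) = xi (v : GolayPt → ℤ) := rfl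

theorem xiPerm_mem : xiPerm ∈ Co0 := by
  refine ⟨fun v u => Subtype.ext ?_, fun v => ?_⟩
  · exact xi_add (TE_of_mem v.1 v.2) (TE_of_mem u.1 u.2)
  · exact sqNorm_xi (TE_of_mem v.1 v.2)

end Cfsg.Agent.Lib.Helper14.LeechXi
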