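import Mathlib
import Cfsg.Prelude.Def_Sporadic_a
import Cfsg.Prelude.Def_SporadicCombinatorics
import Cfsg.Agent.Lib.Helper14.LeechMono
import Cfsg.Agent.Lib.Helper14.LeechXi
import Cfsg.Agent.Lib.Helper14.LeechCount48
import Cfsg.Agent.Lib.Helper3.Golay.M24Trans
import Cfsg.Agent.Lib.Helper3.Golay.M24Chain
import Cfsg.Agent.Lib.Helper3.Golay.Dodecad

set_option autoImplicit false

/-! Orbits of `Co0` on short vectors of the Leech lattice. -/

namespace Cfsg.Agent.Lib.Helper14.LeechOrbit

open Cfsg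
open Cfsg.Agent.Lib.Helper14.Golay
open Cfsg.Agent.Lib.Helper14.Leech
open Cfsg.Agent.Lib.Helper14.LeechCount
open Cfsg.Agent.Lib.Helper14.LeechMono
open Cfsg.Agent.Lib.Helper14.LeechXi
open Cfsg.Agent.Lib.Helper3.Golay
open scoped Pointwise

/-! ### the orbit relation -/

/-- equivalence of lattice vectors under `Co0` -/
def Eqv (x y : GolayPt → ℤ) : Prop :=
  ∃ (hx : x ∈ leechLattice) (g : Equiv.Perm ↥leechLattice), g ∈ Co0 ∧
    ((g ⟨x, hx⟩ : ↥leechLattice) : GolayPt → ℤ) = y

theorem Eqv.mem_left {x y : GolayPt → ℤ} (h : Eqv x y) : x ∈ leechLattice := h.1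

theorem Eqv.mem_right {x y : GolayPt → ℤ} (h : Eqv x y) : y ∈ leechLattice := by
  obtain ⟨hx, g, _, rfl⟩ := h
  exact (g ⟨x, hx⟩).2

theorem Eqv.refl {x : GolayPt → ℤ} (hx : x ∈ leechLattice) : Eqv x x :=
  ⟨hx, 1, Co0.one_mem, rfl⟩

theorem Eqv.trans {x y z : GolayPt → ℤ} (h1 : Eqv x y) (h2 : Eqv y z) : Eqv x z := by
  obtain ⟨hx, g1, hg1, rfl⟩ := h1
  obtain ⟨hy, g2, hg2, rfl⟩ := h2
  exact ⟨hx, g2 * g1, Co0.mul_mem hg2 hg1, rfl⟩

theorem Eqv.symm {x y : GolayPt → ℤ} (h : Eqv x y) : Eqv y x := by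
  obtain ⟨hx, g, hg, rfl⟩ := h
  refine ⟨(g ⟨x, hx⟩).2, g⁻¹, Co0.inv_mem hg, ?_⟩
  simp

theorem Eqv.sqNorm_eq {x y : GolayPt → ℤ} (h : Eqv x y) : sqNorm y = sqNorm x := by
  obtain ⟨hx, g, hg, rfl⟩ := h
  exact hg.2 ⟨x, hx⟩

theorem eqv_signedPerm {x : GolayPt → ℤ} (hx : x ∈ leechLattice) (σ : Equiv.Perm GolayPt)
    (hσ : σ ∈ M24) (c : Finset GolayPt)
    (hc : c ∈ supports (golayCode : Set (GolayPt → ZMod 2))) : Eqv x (signedPerm σ c x) := by
  obtain ⟨w, hw, rfl⟩ := hc
  exact ⟨hx, mono ⟨σ, hσ⟩ ⟨w, hw⟩, mono_mem_Co0 _ _, rfl⟩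

theorem eqv_perm {x : GolayPt → ℤ} (hx : x ∈ leechLattice) (σ : Equiv.Perm GolayPt)
    (hσ : σ ∈ M24) : Eqv x (fun i => x (σ.symm i)) := by
  have := eqv_signedPerm hx σ hσ ∅ supports_empty
  convert this using 1
  funext i
  rw [signedPerm_apply, if_neg (Finset.notMem_empty i)]

theorem eqv_xi {x : GolayPt → ℤ} (hx : x ∈ leechLattice) : Eqv x (xi x) :=
  ⟨hx, xiPerm, xiPerm_mem, rfl⟩

/-! ### moving pairs of small sets by `M24` -/

theorem exists_map_pair (P M P' M' : Finset GolayPt) (hPM : Disjoint P M)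
    (hPM' : Disjoint P' M') (hP : P.card = P'.card) (hM : M.card = M'.card)
    (h5 : P.card + M.card ≤ 5) : ∃ g ∈ M24, g • P = P' ∧ g • M = M' := by
  classical
  let eP := P.equivFinOfCardEq rfl
  let eM := M.equivFinOfCardEq rfl
  let eP' := P'.equivFinOfCardEq hP.symm
  let eM' := M'.equivFinOfCardEq hM.symm
  let x : ℕ → GolayPt := fun i =>
    if h : i < P.card then (eP.symm ⟨i, h⟩ : GolayPt)
    else if h' : i - P.card < M.card then (eM.symm ⟨i - P.card, h'⟩ : GolayPt) else none
  let y : ℕ → GolayPt := fun i =>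
    if h : i < P.card then (eP'.symm ⟨i, h⟩ : GolayPt)
    else if h' : i - P.card < M.card then (eM'.symm ⟨i - P.card, h'⟩ : GolayPt) else none
  have hxinj : ∀ i < P.card + M.card, ∀ j < P.card + M.card, x i = x j → i = j := by
    intro i hi j hj h
    simp only [x] at h
    by_cases h1 : i < P.card <;> by_cases h2 : j < P.card
    · simp only [h1, h2, dif_pos] at h
      have := eP.symm.injective (Subtype.ext h)
      simpa using this
    · have h2' : j - P.card < M.card := by omega
      simp only [h1, h2, h2', dif_pos, dif_neg, not_false_eq_true] at h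
      exfalso
      have hp := (eP.symm ⟨i, h1⟩).2
      have hm := (eM.symm ⟨j - P.card, h2'⟩).2
      rw [h] at hp
      exact Finset.disjoint_left.mp hPM hp hm
    · have h1' : i - P.card < M.card := by omega
      simp only [h1, h2, h1', dif_pos, dif_neg, not_false_eq_true] at h
      exfalso
      have hp := (eP.symm ⟨j, h2⟩).2
      have hm := (eM.symm ⟨i - P.card, h1'⟩).2
      rw [← h] at hp
      exact Finset.disjoint_left.mp hPM hp hm
    · have h1' : i - P.card < M.card := by omega
      have h2' : j - P.card < M.card := by omega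
      simp only [h1, h2, h1', h2', dif_pos, dif_neg, not_false_eq_true] at h
      have := eM.symm.injective (Subtype.ext h)
      have h3 : i - P.card = j - P.card := by simpa using this
      omega
  have hyinj : ∀ i < P.card + M.card, ∀ j < P.card + M.card, y i = y j → i = j := by
    intro i hi j hj h
    simp only [y] at h
    by_cases h1 : i < P.card <;> by_cases h2 : j < P.card
    · simp only [h1, h2, dif_pos] at h
      have := eP'.symm.injective (Subtype.ext h)
      simpa using this
    · have h2' : j - P.card < M.card := by omega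
      simp only [h1, h2, h2', dif_pos, dif_neg, not_false_eq_true] at h
      exfalso
      have hp := (eP'.symm ⟨i, h1⟩).2
      have hm := (eM'.symm ⟨j - P.card, h2'⟩).2
      rw [h] at hp
      exact Finset.disjoint_left.mp hPM' hp hm
    · have h1' : i - P.card < M.card := by omega
      simp only [h1, h2, h1', dif_pos, dif_neg, not_false_eq_true] at h
      exfalso
      have hp := (eP'.symm ⟨j, h2⟩).2
      have hm := (eM'.symm ⟨i - P.card, h1'⟩).2
      rw [← h] at hp
      exact Finset.disjoint_left.mp hPM' hp hm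
    · have h1' : i - P.card < M.card := by omega
      have h2' : j - P.card < M.card := by omega
      simp only [h1, h2, h1', h2', dif_pos, dif_neg, not_false_eq_true] at h
      have := eM'.symm.injective (Subtype.ext h)
      have h3 : i - P.card = j - P.card := by simpa using this
      omega
  obtain ⟨g, hg, hgxy⟩ := exists_map x y (P.card + M.card) h5 hxinj hyinj
  refine ⟨g, hg, ?_, ?_⟩
  · apply Finset.eq_of_subset_of_card_le
    · intro q hq
      obtain ⟨p, hp, rfl⟩ := Finset.mem_smul_finset.mp hq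
      have hi := (eP ⟨p, hp⟩).2
      have h1 := hgxy (eP ⟨p, hp⟩).1 (by omega)
      simp only [x, y, hi, dif_pos, Fin.eta, Equiv.symm_apply_apply] at h1
      rw [Equiv.Perm.smul_def, h1]
      exact (eP'.symm (eP ⟨p, hp⟩)).2
    · rw [Finset.card_smul_finset, hP]
  · apply Finset.eq_of_subset_of_card_le
    · intro q hq
      obtain ⟨p, hp, rfl⟩ := Finset.mem_smul_finset.mp hq
      have hi := (eM ⟨p, hp⟩).2
      have h1 := hgxy (P.card + (eM ⟨p, hp⟩).1) (by omega)
      have hn : ¬ (P.card + (eM ⟨p, hp⟩).1 < P.card) := by omega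
      have hs : P.card + (eM ⟨p, hp⟩).1 - P.card = (eM ⟨p, hp⟩).1 := by omega
      simp only [x, y, hn, dif_neg, not_false_eq_true, hs, hi, dif_pos, Fin.eta,
        Equiv.symm_apply_apply] at h1
      rw [Equiv.Perm.smul_def, h1]
      exact (eM'.symm (eM ⟨p, hp⟩)).2
    · rw [Finset.card_smul_finset, hM]

/-! ### odd vectors -/

/-- the shape vector: `1` on `P`, `-1` on `M` -/
def tauPM (P M : Finset GolayPt) : GolayPt → ℤ :=
  fun i => (if i ∈ P then 1 else 0) - (if i ∈ M then 1 else 0)

theorem odd_decomp (x : GolayPt → ℤ) (hx : x ∈ leechLattice) (hodd : x none % 2 = 1) :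
    ∃ w ∈ golayCode, ∃ τ : GolayPt → ℤ, x = PhiT w τ := by
  rw [mem_leechLattice_iff, mem_leechSet_iff01] at hx
  obtain ⟨m, hm, w, hw, h1, -⟩ := hx
  have hm1 : m = 1 := by
    rcases hm with rfl | rfl
    · exfalso
      have := h1 none
      have hv := val_cases (w none)
      omega
    · rfl
  subst hm1
  refine ⟨w, hw, fun i => ((1 - 2 * ((w i).val : ℤ)) * x i - 1) / 4, ?_⟩
  funext i
  rw [PhiT_apply]
  have := h1 i
  rcases val_cases (w i) with hv | hv
  · rw [hv] at this ⊢
    push_cast at this ⊢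
    have e : (1 : ℤ) * x i = x i := by ring
    rw [e]
    have h4 : 4 * ((x i - 1) / 4) = x i - 1 := by omega
    linarith
  · rw [hv] at this ⊢
    push_cast at this ⊢
    have e : (-1 : ℤ) * x i = -x i := by ring
    rw [e]
    have h4 : 4 * ((-x i - 1) / 4) = -x i - 1 := by omega
    linarith

theorem tau_term_nonneg (t : ℤ) : 0 ≤ t + 2 * t ^ 2 := by
  rcases le_or_gt 0 t with h | h
  · positivity
  · nlinarith

theorem tau_small (t : ℤ) (h : t + 2 * t ^ 2 ≤ 5) : t = -1 ∨ t = 0 ∨ t = 1 := by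
  have h1 : -2 < t := by nlinarith
  have h2 : t < 2 := by nlinarith
  omega

theorem sqNorm_PhiT' (w : GolayPt → ZMod 2) (τ : GolayPt → ℤ) :
    sqNorm (PhiT w τ) = 24 + 8 * ∑ i, (τ i + 2 * τ i ^ 2) := by
  rw [sqNorm_PhiT, Finset.mul_sum]
  have : ∀ i, (1 + 4 * τ i) ^ 2 = 1 + 8 * (τ i + 2 * τ i ^ 2) := fun i => by ring
  rw [Finset.sum_congr rfl (fun i _ => this i), Finset.sum_add_distrib, Finset.sum_const,
    Finset.card_univ, card_golayPt]
  simp

/-- classification of the `τ` of an odd vector of small norm -/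
theorem tau_classify (τ : GolayPt → ℤ) (k : ℤ) (hk : k ≤ 5)
    (hsum : ∑ i, (τ i + 2 * τ i ^ 2) = k) :
    ∃ P M : Finset GolayPt, Disjoint P M ∧ τ = tauPM P M ∧
      3 * (P.card : ℤ) + (M.card : ℤ) = k := by
  classical
  have hsmall : ∀ i, τ i = -1 ∨ τ i = 0 ∨ τ i = 1 := by
    intro i
    apply tau_small
    have := Finset.single_le_sum (f := fun i => τ i + 2 * τ i ^ 2)
      (fun j _ => tau_term_nonneg (τ j)) (Finset.mem_univ i)
    rw [hsum] at this
    exact le_trans this hk
  refine ⟨Finset.univ.filter (fun i => τ i = 1), Finset.univ.filter (fun i => τ i = -1), ?_, ?_, ?_⟩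
  · rw [Finset.disjoint_left]
    intro i h1 h2
    rw [Finset.mem_filter] at h1 h2
    omega
  · funext i
    unfold tauPM
    simp only [Finset.mem_filter, Finset.mem_univ, true_and]
    rcases hsmall i with h | h | h <;> rw [h] <;> norm_num
  · rw [← hsum]
    have : ∀ i, τ i + 2 * τ i ^ 2 = 3 * (if τ i = 1 then 1 else 0) + (if τ i = -1 then 1 else 0) := by
      intro i
      rcases hsmall i with h | h | h <;> rw [h] <;> norm_num
    rw [Finset.sum_congr rfl (fun i _ => this i), Finset.sum_add_distrib, ← Finset.mul_sum,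
      Finset.sum_boole, Finset.sum_boole]

/-- classification of odd lattice vectors of norm `24 + 8k`, `k ≤ 5` -/
theorem odd_classify (x : GolayPt → ℤ) (hx : x ∈ leechLattice) (hodd : x none % 2 = 1) (k : ℤ)
    (hk : k ≤ 5) (hn : sqNorm x = 24 + 8 * k) :
    ∃ w ∈ golayCode, ∃ P M : Finset GolayPt, Disjoint P M ∧ x = PhiT w (tauPM P M) ∧
      3 * (P.card : ℤ) + (M.card : ℤ) = k := by
  obtain ⟨w, hw, τ, rfl⟩ := odd_decomp x hx hodd
  rw [sqNorm_PhiT'] at hn
  obtain ⟨P, M, hd, rfl, hc⟩ := tau_classify τ k hk (by omega)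
  exact ⟨w, hw, P, M, hd, rfl, hc⟩

theorem mem_smul_iff (σ : Equiv.Perm GolayPt) (s : Finset GolayPt) (i : GolayPt) :
    i ∈ σ • s ↔ σ.symm i ∈ s := by
  rw [← Finset.inv_smul_mem_iff]
  rfl

/-- the monomial group is transitive on odd vectors of a given shape -/
theorem eqv_PhiT (w : GolayPt → ZMod 2) (hw : w ∈ golayCode) (P M P' M' : Finset GolayPt)
    (hx : PhiT w (tauPM P M) ∈ leechLattice) (hPM : Disjoint P M) (hPM' : Disjoint P' M')
    (hP : P.card = P'.card) (hM : M.card = M'.card) (h5 : P.card + M.card ≤ 5) :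
    Eqv (PhiT w (tauPM P M)) (PhiT 0 (tauPM P' M')) := by
  obtain ⟨σ, hσ, hσP, hσM⟩ := exists_map_pair P M P' M' hPM hPM' hP hM h5
  have hw' : permWord σ w ∈ golayCode := (mem_M24_iff σ).mp hσ w hw
  have h := eqv_signedPerm hx σ hσ (support₂ (permWord σ w)) ⟨_, hw', rfl⟩
  convert h using 1
  funext i
  rw [signedPerm_apply, PhiT_apply, PhiT_apply]
  have ht : tauPM P' M' i = tauPM P M (σ.symm i) := by
    unfold tauPM
    rw [← hσP, ← hσM]
    simp only [mem_smul_iff]
  rw [ht]
  simp only [Pi.zero_apply, ZMod.val_zero, Nat.cast_zero, mul_zero, sub_zero, one_mul]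
  by_cases hi : i ∈ support₂ (permWord σ w)
  · rw [if_pos hi]
    have hv := (mem_support₂_iff _ _).mp hi
    rw [permWord_apply] at hv
    rw [hv]; push_cast; ring
  · rw [if_neg hi]
    have hv := (notMem_support₂_iff _ _).mp hi
    rw [permWord_apply] at hv
    rw [hv]; push_cast; ring

/-! ### transitivity on odd vectors -/

/-- standard sets -/
def M1 : Finset GolayPt := {none}
def M3 : Finset GolayPt := {none, some 0, some 1}
def M5 : Finset GolayPt := {none, some 0, some 1, some 2, some 3}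
def M2 : Finset GolayPt := {some 3, some 5}

theorem card_M1 : M1.card = 1 := by decide
theorem card_M3 : M3.card = 3 := by decide
theorem card_M5 : M5.card = 5 := by decide
theorem card_M2 : M2.card = 2 := by decide

/-- the targets -/
def T32 : GolayPt → ℤ := PhiT 0 (tauPM ∅ M1)
def T48 : GolayPt → ℤ := PhiT 0 (tauPM ∅ M3)
def T64 : GolayPt → ℤ := PhiT 0 (tauPM ∅ M5)
def S48 : GolayPt → ℤ := PhiT 0 (tauPM M1 ∅)
def S64 : GolayPt → ℤ := PhiT 0 (tauPM M1 M2)

theorem PhiT_P_entry (w : GolayPt → ZMod 2) (P M : Finset GolayPt) (hd : Disjoint P M)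
    (j : GolayPt) (hj : j ∈ P) : PhiT w (tauPM P M) j = 5 ∨ PhiT w (tauPM P M) j = -5 := by
  rw [PhiT_apply]
  unfold tauPM
  rw [if_pos hj, if_neg (Finset.disjoint_left.mp hd hj)]
  rcases val_cases (w j) with hv | hv <;> rw [hv] <;> norm_num

theorem odd32 (x : GolayPt → ℤ) (hx : x ∈ leechLattice) (hodd : x none % 2 = 1)
    (hn : sqNorm x = 32) : Eqv x T32 := by
  obtain ⟨w, hw, P, M, hd, rfl, hc⟩ := odd_classify x hx hodd 1 (by norm_num) (by rw [hn]; norm_num)
  have hc' : 3 * P.card + M.card = 1 := by exact_mod_cast hc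
  have hP : P.card = 0 := by omega
  have hM : M.card = 1 := by omega
  exact eqv_PhiT w hw P M ∅ M1 hx hd (Finset.disjoint_empty_left _) (by rw [hP]; rfl)
    (by rw [hM, card_M1]) (by omega)

set_option maxRecDepth 100000 in
theorem xi_S48_facts : xi S48 none % 2 = 1 ∧ ∀ j : GolayPt, xi S48 j ≠ 5 ∧ xi S48 j ≠ -5 := by
  decide +kernel

set_option maxRecDepth 100000 in
theorem xi_S64_facts : xi S64 none % 2 = 1 ∧ ∀ j : GolayPt, xi S64 j ≠ 5 ∧ xi S64 j ≠ -5 := by
  decide +kernel

theorem odd48_aux (x : GolayPt → ℤ) (hx : x ∈ leechLattice) (hodd : x none % 2 = 1)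
    (hn : sqNorm x = 48) : Eqv x T48 ∨ Eqv x S48 := by
  obtain ⟨w, hw, P, M, hd, rfl, hc⟩ := odd_classify x hx hodd 3 (by norm_num) (by rw [hn]; norm_num)
  have hc' : 3 * P.card + M.card = 3 := by exact_mod_cast hc
  have hcases : (P.card = 0 ∧ M.card = 3) ∨ (P.card = 1 ∧ M.card = 0) := by omega
  rcases hcases with ⟨hP, hM⟩ | ⟨hP, hM⟩
  · left
    exact eqv_PhiT w hw P M ∅ M3 hx hd (Finset.disjoint_empty_left _) (by rw [hP]; rfl)
      (by rw [hM, card_M3]) (by omega)
  · right
    exact eqv_PhiT w hw P M M1 ∅ hx hd (Finset.disjoint_empty_right _) (by rw [hP, card_M1])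
      (by rw [hM]; rfl) (by omega)

theorem odd48 (x : GolayPt → ℤ) (hx : x ∈ leechLattice) (hodd : x none % 2 = 1)
    (hn : sqNorm x = 48) : Eqv x T48 := by
  rcases odd48_aux x hx hodd hn with h | h
  · exact h
  · have hS : S48 ∈ leechLattice := h.mem_right
    have h2 := eqv_xi hS
    have hn2 : sqNorm (xi S48) = 48 := by rw [h2.sqNorm_eq, h.sqNorm_eq, hn]
    have hy := h2.mem_right
    obtain ⟨w, hw, P, M, hd, he, hc⟩ := odd_classify (xi S48) hy xi_S48_facts.1 3 (by norm_num)
      (by rw [hn2]; norm_num)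
    have hc' : 3 * P.card + M.card = 3 := by exact_mod_cast hc
    have hP : P.card = 0 := by
      by_contra hne
      obtain ⟨j, hj⟩ : P.Nonempty := Finset.card_pos.mp (Nat.pos_of_ne_zero hne)
      have := PhiT_P_entry w P M hd j hj
      rw [← he] at this
      have h5 := xi_S48_facts.2 j
      tauto
    have hM : M.card = 3 := by omega
    rw [he] at hy h2
    have h3 := eqv_PhiT w hw P M ∅ M3 hy hd (Finset.disjoint_empty_left _) (by rw [hP]; rfl)
      (by rw [hM, card_M3]) (by omega)
    exact (h.trans h2).trans h3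

theorem odd64_aux (x : GolayPt → ℤ) (hx : x ∈ leechLattice) (hodd : x none % 2 = 1)
    (hn : sqNorm x = 64) : Eqv x T64 ∨ Eqv x S64 := by
  obtain ⟨w, hw, P, M, hd, rfl, hc⟩ := odd_classify x hx hodd 5 (by norm_num) (by rw [hn]; norm_num)
  have hc' : 3 * P.card + M.card = 5 := by exact_mod_cast hc
  have hcases : (P.card = 0 ∧ M.card = 5) ∨ (P.card = 1 ∧ M.card = 2) := by omega
  rcases hcases with ⟨hP, hM⟩ | ⟨hP, hM⟩
  · left
    exact eqv_PhiT w hw P M ∅ M5 hx hd (Finset.disjoint_empty_left _) (by rw [hP]; rfl)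
      (by rw [hM, card_M5]) (by omega)
  · right
    exact eqv_PhiT w hw P M M1 M2 hx hd (by decide) (by rw [hP, card_M1])
      (by rw [hM, card_M2]) (by omega)

theorem odd64 (x : GolayPt → ℤ) (hx : x ∈ leechLattice) (hodd : x none % 2 = 1)
    (hn : sqNorm x = 64) : Eqv x T64 := by
  rcases odd64_aux x hx hodd hn with h | h
  · exact h
  · have hS : S64 ∈ leechLattice := h.mem_right
    have h2 := eqv_xi hS
    have hn2 : sqNorm (xi S64) = 64 := by rw [h2.sqNorm_eq, h.sqNorm_eq, hn]
    have hy := h2.mem_right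
    obtain ⟨w, hw, P, M, hd, he, hc⟩ := odd_classify (xi S64) hy xi_S64_facts.1 5 (by norm_num)
      (by rw [hn2]; norm_num)
    have hc' : 3 * P.card + M.card = 5 := by exact_mod_cast hc
    have hP : P.card = 0 := by
      by_contra hne
      obtain ⟨j, hj⟩ : P.Nonempty := Finset.card_pos.mp (Nat.pos_of_ne_zero hne)
      have := PhiT_P_entry w P M hd j hj
      rw [← he] at this
      have h5 := xi_S64_facts.2 j
      tauto
    have hM : M.card = 5 := by omega
    rw [he] at hy h2
    have h3 := eqv_PhiT w hw P M ∅ M5 hy hd (Finset.disjoint_empty_left _) (by rw [hP]; rfl)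
      (by rw [hM, card_M5]) (by omega)
    exact (h.trans h2).trans h3

/-! ### from even vectors to odd vectors -/

/-- a set meeting every tetrad in an odd number of points -/
def Good (G : Finset GolayPt) : Prop :=
  ∀ i : GolayPt, (Finset.univ.filter (fun k => tet k = tet i ∧ k ∈ G)).card % 2 = 1

instance (G : Finset GolayPt) : Decidable (Good G) := by unfold Good; infer_instance

def O3m : ℕ := 9347075
def D3m : ℕ := 15130653

theorem good_O3 : Good (bitSet O3m) := by decide +kernel
theorem good_O3c : Good (bitSet O3m)ᶜ := by decide +kernel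
theorem good_D3 : Good (bitSet D3m) := by decide +kernel

theorem O3_mem : bitSet O3m ∈ octads := isOct_mem (by decide +kernel)

theorem D3_mem : bitSet D3m ∈ dodecads := by
  have h : codeMask (D3m % 4096) = D3m := by decide +kernel
  rw [← h]
  refine ⟨(Cfsg.Agent.Lib.Helper3.Golay.mem_supports_iff _).mpr ⟨D3m % 4096, by decide, rfl⟩, ?_⟩
  rw [card_bitSet']
  decide +kernel

theorem xi_odd_of_good (x : GolayPt → ℤ) (G : Finset GolayPt) (hG : Good G)
    (h2 : ∀ k ∈ G, x k % 4 = 2) (h0 : ∀ k ∉ G, x k % 4 = 0) : ∀ i, xi x i % 2 = 1 := by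
  intro i
  have hq : ∀ k, ∃ q : ℤ, x k = 2 * (if k ∈ G then 1 else 0) + 4 * q := by
    intro k
    by_cases hk : k ∈ G
    · have := h2 k hk
      exact ⟨(x k - 2) / 4, by rw [if_pos hk]; omega⟩
    · have := h0 k hk
      exact ⟨x k / 4, by rw [if_neg hk]; omega⟩
  choose q hq using hq
  have hx : x = (fun k => 2 * (if k ∈ G then (1 : ℤ) else 0)) + (fun k => 4 * q k) := by
    funext k; rw [Pi.add_apply]; exact hq k
  have hts : tetSum x i = 2 * ((Finset.univ.filter (fun k => tet k = tet i ∧ k ∈ G)).card : ℤ)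
      + 4 * tetSum q i := by
    rw [hx, tetSum_add, tetSum_smul, tetSum_smul]
    congr 2
    unfold tetSum
    rw [Finset.card_filter]
    push_cast
    refine Finset.sum_congr rfl fun k _ => ?_
    by_cases h1 : tet k = tet i <;> by_cases h2' : k ∈ G <;> simp [h1, h2']
  have hodd := hG i
  rw [xi_apply]
  unfold hs
  rw [hts]
  have hxi : x i % 2 = 0 := by
    by_cases hk : i ∈ G
    · have := h2 i hk; omega
    · have := h0 i hk; omega
  have hc : ((Finset.univ.filter (fun k => tet k = tet i ∧ k ∈ G)).card : ℤ) % 2 = 1 := by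
    exact_mod_cast hodd
  unfold sgn
  split_ifs <;> omega

/-- an even lattice vector of norm at most 64 with an entry `≡ 2 (mod 4)` is equivalent to an odd
vector -/
theorem even_to_odd (x : GolayPt → ℤ) (hx : x ∈ leechLattice) (i0 : GolayPt)
    (hi0 : x i0 % 4 = 2) (hn : sqNorm x ≤ 64) : ∃ y, Eqv x y ∧ y none % 2 = 1 := by
  have hx' := hx
  rw [mem_leechLattice_iff, mem_leechSet_iff01] at hx'
  obtain ⟨m, hm, w, hw, h1, -⟩ := hx'
  have hm0 : m = 0 := by
    rcases hm with rfl | rfl
    · rfl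
    · exfalso
      have := h1 i0
      have hv := val_cases (w i0)
      omega
  subst hm0
  have hin : ∀ k, k ∈ support₂ w → x k % 4 = 2 := by
    intro k hk
    have := h1 k
    rw [(mem_support₂_iff w k).mp hk] at this
    omega
  have hout : ∀ k, k ∉ support₂ w → x k % 4 = 0 := by
    intro k hk
    have := h1 k
    rw [(notMem_support₂_iff w k).mp hk] at this
    omega
  -- weight of `w`
  have hwt := weight_mem hw
  have hnorm : hammingNorm w = (support₂ w).card := rfl
  rw [hnorm] at hwt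
  have hlow : ∀ k ∈ support₂ w, (4 : ℤ) ≤ x k ^ 2 := by
    intro k hk
    have := hin k hk
    have h' : 2 ≤ x k ∨ x k ≤ -2 := by omega
    rcases h' with h' | h' <;> nlinarith
  have hcard := card_le_of_sq x (support₂ w) 4 hlow
  have hi0s : i0 ∈ support₂ w := by
    by_contra hcon
    have := hout i0 hcon
    omega
  -- find a suitable permutation
  have key : ∃ σ ∈ M24, Good (σ • support₂ w) := by
    rcases hwt with h | h | h | h | h
    · exfalso
      rw [Finset.card_eq_zero] at h
      rw [h] at hi0s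
      exact Finset.notMem_empty _ hi0s
    · obtain ⟨σ, hσ, hσs⟩ := exists_map_octad (o := support₂ w) ⟨⟨w, hw, rfl⟩, h⟩ O3_mem
      exact ⟨σ, hσ, by rw [hσs]; exact good_O3⟩
    · obtain ⟨σ, hσ, hσs⟩ := exists_map_dodecad (d := support₂ w) ⟨⟨w, hw, rfl⟩, h⟩ D3_mem
      exact ⟨σ, hσ, by rw [hσs]; exact good_D3⟩
    · have hc : (support₂ w)ᶜ ∈ octads := by
        refine ⟨⟨w + 1, Submodule.add_mem _ hw one_mem_golay, ?_⟩, ?_⟩
        · ext k
          rw [Finset.mem_compl]
          unfold support₂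
          simp only [Finset.mem_filter, Finset.mem_univ, true_and, Pi.add_apply, Pi.one_apply]
          rw [add_one_ne_zero_iff_val, ne_zero_iff_val]
          have := val_cases (w k)
          omega
        · rw [Finset.card_compl, card_golayPt, h]
      obtain ⟨σ, hσ, hσs⟩ := exists_map_octad hc O3_mem
      refine ⟨σ, hσ, ?_⟩
      have : σ • support₂ w = (bitSet O3m)ᶜ := by
        rw [← hσs]
        ext k
        rw [Finset.mem_compl, mem_smul_iff, mem_smul_iff, Finset.mem_compl, not_not]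
      rw [this]; exact good_O3c
    · exfalso
      rw [h] at hcard
      push_cast at hcard
      omega
  obtain ⟨σ, hσ, hgood⟩ := key
  have h1' := eqv_perm hx σ hσ
  have hx1 := h1'.mem_right
  have h2' := eqv_xi hx1
  refine ⟨_, h1'.trans h2', ?_⟩
  apply xi_odd_of_good _ _ hgood
  · intro k hk
    rw [mem_smul_iff] at hk
    exact hin _ hk
  · intro k hk
    rw [mem_smul_iff] at hk
    exact hout _ hk

/-! ### vectors divisible by 4 -/

theorem tet0_eq : Finset.univ.filter (fun k : GolayPt => tet k = tet none)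
    = {none, some 0, some 1, some 2} := by decide

theorem tetSum_none (x : GolayPt → ℤ) :
    tetSum x none = x none + x (some 0) + x (some 1) + x (some 2) := by
  unfold tetSum
  rw [← Finset.sum_filter, tet0_eq, Finset.sum_insert (by decide), Finset.sum_insert (by decide),
    Finset.sum_insert (by decide), Finset.sum_singleton]
  ring

def Base3 : Finset GolayPt := {some 3, some 4, some 6}

theorem card_Base3 : Base3.card = 3 := by decide

theorem base3_facts : (none : GolayPt) ∉ Base3 ∧ (some 0 : GolayPt) ∉ Base3 ∧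
    (some 1 : GolayPt) ∉ Base3 ∧ (some 2 : GolayPt) ∉ Base3 := by decide

theorem sgn_some0 : sgn (some 0) = -1 := by decide
theorem tet_some0 : tet (some 0) = tet none := by decide

/-- a vector divisible by 4 with between one and four entries `≡ 4 (mod 8)` is equivalent to a
vector with an entry `≡ 2 (mod 4)` -/
theorem four_to_two (x : GolayPt → ℤ) (hx : x ∈ leechLattice) (h4 : ∀ i, x i % 4 = 0)
    (hne : (Finset.univ.filter (fun i => x i % 8 = 4)).Nonempty)
    (hcard : (Finset.univ.filter (fun i => x i % 8 = 4)).card ≤ 4) :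
    ∃ y, Eqv x y ∧ ∃ i1, y i1 % 4 = 2 := by
  classical
  set A := Finset.univ.filter (fun i => x i % 8 = 4) with hA
  obtain ⟨a, ha⟩ := hne
  have hMc : (A.erase a).card ≤ Base3.card := by
    rw [Finset.card_erase_of_mem ha, card_Base3]; omega
  obtain ⟨M', hM'sub, hM'card⟩ := Finset.exists_subset_card_eq hMc
  have hnoneM' : (none : GolayPt) ∉ M' := fun h => base3_facts.1 (hM'sub h)
  obtain ⟨σ, hσ, hσa, hσM⟩ := exists_map_pair {a} (A.erase a) {none} M'
    (by rw [Finset.disjoint_singleton_left]; exact Finset.notMem_erase a A)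
    (by rw [Finset.disjoint_singleton_left]; exact hnoneM')
    (by simp) hM'card.symm
    (by rw [Finset.card_singleton, Finset.card_erase_of_mem ha]; omega)
  have hσa' : σ.symm none = a := by
    have : (none : GolayPt) ∈ σ • ({a} : Finset GolayPt) := by rw [hσa]; simp
    rw [mem_smul_iff, Finset.mem_singleton] at this
    exact this
  have h1 := eqv_perm hx σ hσ
  have hx1 := h1.mem_right
  have h2 := eqv_xi hx1
  refine ⟨_, h1.trans h2, some 0, ?_⟩
  set x' : GolayPt → ℤ := fun i => x (σ.symm i) with hx'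
  have hout : ∀ k : GolayPt, k ≠ none → k ∉ Base3 → x' k % 8 = 0 := by
    intro k hk1 hk2
    have hnA : σ.symm k ∉ A := by
      intro hmem
      by_cases hka : σ.symm k = a
      · apply hk1
        rw [← hσa'] at hka
        exact σ.symm.injective hka
      · have : σ.symm k ∈ A.erase a := Finset.mem_erase.mpr ⟨hka, hmem⟩
        have : k ∈ σ • (A.erase a) := (mem_smul_iff σ _ k).mpr this
        rw [hσM] at this
        exact hk2 (hM'sub this)
    have h8 : ¬ x (σ.symm k) % 8 = 4 := by
      intro h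
      exact hnA (Finset.mem_filter.mpr ⟨Finset.mem_univ _, h⟩)
    have := h4 (σ.symm k)
    show x (σ.symm k) % 8 = 0
    omega
  have hnone : x' none % 8 = 4 := by
    show x (σ.symm none) % 8 = 4
    rw [hσa']
    exact (Finset.mem_filter.mp ha).2
  have h0 := hout (some 0) (by simp) base3_facts.2.1
  have h1' := hout (some 1) (by simp) base3_facts.2.2.1
  have h2' := hout (some 2) (by simp) base3_facts.2.2.2
  have hts := tetSum_none x'
  rw [xi_apply, sgn_some0, hs_congr x' tet_some0]
  unfold hs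
  omega

set_option maxRecDepth 100000 in
theorem xi_single8 : ∀ s : ℤ, s = 8 ∨ s = -8 →
    (∀ i, xi (Pi.single none s : GolayPt → ℤ) i % 4 = 0) ∧
    (Finset.univ.filter (fun i => xi (Pi.single none s : GolayPt → ℤ) i % 8 = 4)).card = 4 := by
  intro s hs
  rcases hs with rfl | rfl <;> decide +kernel

theorem eight_to_four (a : GolayPt) (s : ℤ) (hs : s = 8 ∨ s = -8)
    (hx : (Pi.single a s : GolayPt → ℤ) ∈ leechLattice) :
    ∃ y, Eqv (Pi.single a s) y ∧ (∀ i, y i % 4 = 0) ∧
      (Finset.univ.filter (fun i => y i % 8 = 4)).card = 4 := by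
  obtain ⟨σ, hσ, hσa⟩ := exists_map_one a none
  have h1 := eqv_perm hx σ hσ
  have he : (fun i => (Pi.single a s : GolayPt → ℤ) (σ.symm i)) = Pi.single none s := by
    funext i
    by_cases hi : i = none
    · subst hi
      have : σ.symm none = a := by rw [← hσa]; simp
      rw [this]; simp
    · have : σ.symm i ≠ a := by
        intro h
        apply hi
        rw [← hσa, ← h]; simp
      rw [Pi.single_eq_of_ne this, Pi.single_eq_of_ne hi]
  rw [he] at h1
  have h2 := eqv_xi h1.mem_right
  exact ⟨_, h1.trans h2, (xi_single8 s hs).1, (xi_single8 s hs).2⟩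

/-! ### assembling -/

theorem trans_of_odd (n : ℤ) (hn0 : 0 < n) (hn64 : n ≤ 64) (T : GolayPt → ℤ)
    (hodd : ∀ y, y ∈ leechLattice → y none % 2 = 1 → sqNorm y = n → Eqv y T)
    (x : GolayPt → ℤ) (hx : x ∈ leechLattice) (hn : sqNorm x = n) : Eqv x T := by
  classical
  -- step 1: vectors with an entry `≡ 2 (mod 4)`
  have step2 : ∀ z, z ∈ leechLattice → (∃ i0, z i0 % 4 = 2) → sqNorm z = n → Eqv z T := by
    intro z hz ⟨i0, hi0⟩ hzn
    obtain ⟨y, hzy, hyodd⟩ := even_to_odd z hz i0 hi0 (by rw [hzn]; exact hn64)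
    exact hzy.trans (hodd y hzy.mem_right hyodd (by rw [hzy.sqNorm_eq, hzn]))
  -- step 2: vectors divisible by 4 with an entry `≡ 4 (mod 8)`
  have step4 : ∀ z, z ∈ leechLattice → (∀ i, z i % 4 = 0) →
      (Finset.univ.filter (fun i => z i % 8 = 4)).Nonempty → sqNorm z = n → Eqv z T := by
    intro z hz h4 hne hzn
    have hlow : ∀ i ∈ Finset.univ.filter (fun i => z i % 8 = 4), (16 : ℤ) ≤ z i ^ 2 := by
      intro i hi
      have := (Finset.mem_filter.mp hi).2
      have h' : 4 ≤ z i ∨ z i ≤ -4 := by omega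
      rcases h' with h' | h' <;> nlinarith
    have hc := card_le_of_sq z _ 16 hlow
    rw [hzn] at hc
    have hcard : (Finset.univ.filter (fun i => z i % 8 = 4)).card ≤ 4 := by
      have : ((Finset.univ.filter (fun i => z i % 8 = 4)).card : ℤ) ≤ 4 := by omega
      exact_mod_cast this
    obtain ⟨y, hzy, hy2⟩ := four_to_two z hz h4 hne hcard
    exact hzy.trans (step2 y hzy.mem_right hy2 (by rw [hzy.sqNorm_eq, hzn]))
  -- the general case
  by_cases hodd' : x none % 2 = 1
  · exact hodd x hx hodd' hn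
  have heven : ∀ i, x i % 2 = 0 := by
    have hx' := hx
    rw [mem_leechLattice_iff, mem_leechSet_iff01] at hx'
    obtain ⟨m, hm, w, hw, h1, -⟩ := hx'
    have hm0 : m = 0 := by
      rcases hm with rfl | rfl
      · rfl
      · exfalso
        have := h1 none
        have hv := val_cases (w none)
        omega
    subst hm0
    intro i
    have := h1 i
    have hv := val_cases (w i)
    omega
  by_cases h2 : ∃ i0, x i0 % 4 = 2
  · exact step2 x hx h2 hn
  have h4 : ∀ i, x i % 4 = 0 := by
    intro i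
    have := heven i
    by_contra hcon
    exact h2 ⟨i, by omega⟩
  by_cases hne : (Finset.univ.filter (fun i => x i % 8 = 4)).Nonempty
  · exact step4 x hx h4 hne hn
  -- all entries divisible by 8
  have h8 : ∀ i, x i % 8 = 0 := by
    intro i
    have := h4 i
    by_contra hcon
    apply hne
    exact ⟨i, Finset.mem_filter.mpr ⟨Finset.mem_univ _, by omega⟩⟩
  have hex : ∃ a, x a ≠ 0 := by
    by_contra hcon
    push Not at hcon
    have : sqNorm x = 0 := by
      unfold sqNorm
      apply Finset.sum_eq_zero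
      intro i _
      rw [hcon i]; ring
    omega
  obtain ⟨a, ha⟩ := hex
  have hsplit : x a ^ 2 + ∑ i ∈ Finset.univ.erase a, x i ^ 2 = sqNorm x :=
    Finset.add_sum_erase Finset.univ (fun i => x i ^ 2) (Finset.mem_univ a)
  have hrest : 0 ≤ ∑ i ∈ Finset.univ.erase a, x i ^ 2 :=
    Finset.sum_nonneg (fun i _ => sq_nonneg (x i))
  have ha64 : 64 ≤ x a ^ 2 := by
    have := h8 a
    have h' : 8 ≤ x a ∨ x a ≤ -8 := by omega
    rcases h' with h' | h' <;> nlinarith
  have hrest0 : ∑ i ∈ Finset.univ.erase a, x i ^ 2 = 0 := by omega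
  have hothers : ∀ i, i ≠ a → x i = 0 := by
    intro i hi
    have := (Finset.sum_eq_zero_iff_of_nonneg (fun i _ => sq_nonneg (x i))).mp hrest0 i
      (Finset.mem_erase.mpr ⟨hi, Finset.mem_univ _⟩)
    exact pow_eq_zero_iff (two_ne_zero) |>.mp this
  have hxa : x a = 8 ∨ x a = -8 := by
    have h64 : x a ^ 2 = 64 := by omega
    have : (x a - 8) * (x a + 8) = 0 := by ring_nf; omega
    rcases mul_eq_zero.mp this with h | h
    · left; omega
    · right; omega
  have hxe : x = Pi.single a (x a) := by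
    funext i
    by_cases hi : i = a
    · subst hi; simp
    · rw [Pi.single_eq_of_ne hi]; exact hothers i hi
  rw [hxe] at hx
  obtain ⟨y, hxy, hy4, hyc⟩ := eight_to_four a (x a) hxa hx
  rw [← hxe] at hxy
  have hyne : (Finset.univ.filter (fun i => y i % 8 = 4)).Nonempty := by
    rw [← Finset.card_pos, hyc]; norm_num
  exact hxy.trans (step4 y hxy.mem_right hy4 hyne (by rw [hxy.sqNorm_eq, hn]))

/-- `Co0` is transitive on the vectors of norm 32 -/
theorem trans32 (x : GolayPt → ℤ) (hx : x ∈ leechLattice) (hn : sqNorm x = 32) : Eqv x T32 :=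
  trans_of_odd 32 (by norm_num) (by norm_num) T32 odd32 x hx hn

/-- `Co0` is transitive on the vectors of norm 48 -/
theorem trans48 (x : GolayPt → ℤ) (hx : x ∈ leechLattice) (hn : sqNorm x = 48) : Eqv x T48 :=
  trans_of_odd 48 (by norm_num) (by norm_num) T48 odd48 x hx hn

/-- `Co0` is transitive on the vectors of norm 64 -/
theorem trans64 (x : GolayPt → ℤ) (hx : x ∈ leechLattice) (hn : sqNorm x = 64) : Eqv x T64 :=
  trans_of_odd 64 (by norm_num) (by norm_num) T64 odd64 x hx hn

theorem exists_smul_of_eqv (v w : ↥leechLattice)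
    (h : Eqv (v : GolayPt → ℤ) (w : GolayPt → ℤ)) : ∃ g : ↥Co0, g • v = w := by
  obtain ⟨hx, g, hg, he⟩ := h
  exact ⟨⟨g, hg⟩, Subtype.ext he⟩

theorem co0_trans32 (v w : ↥leechLattice) (hv : sqNorm (v : GolayPt → ℤ) = 32)
    (hw : sqNorm (w : GolayPt → ℤ) = 32) : ∃ g : ↥Co0, g • v = w :=
  exists_smul_of_eqv v w ((trans32 v.1 v.2 hv).trans (trans32 w.1 w.2 hw).symm)

theorem co0_trans48 (v w : ↥leechLattice) (hv : sqNorm (v : GolayPt → ℤ) = 48)
    (hw : sqNorm (w : GolayPt → ℤ) = 48) : ∃ g : ↥Co0, g • v = w :=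
  exists_smul_of_eqv v w ((trans48 v.1 v.2 hv).trans (trans48 w.1 w.2 hw).symm)

theorem co0_trans64 (v w : ↥leechLattice) (hv : sqNorm (v : GolayPt → ℤ) = 64)
    (hw : sqNorm (w : GolayPt → ℤ) = 64) : ∃ g : ↥Co0, g • v = w :=
  exists_smul_of_eqv v w ((trans64 v.1 v.2 hv).trans (trans64 w.1 w.2 hw).symm)

end Cfsg.Agent.Lib.Helper14.LeechOrbit
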