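import Mathlib
import Cfsg.Prelude.Def_Sporadic_a
import Cfsg.Prelude.Def_SporadicCombinatorics
import Cfsg.Agent.Lib.Helper14.LeechMono
import Cfsg.Agent.Lib.Helper14.LeechOrbit
import Cfsg.Agent.Lib.Helper14.LeechCross
import Cfsg.Agent.Lib.Helper14.LeechCount64
import Cfsg.Agent.Lib.Helper14.Co0Center
import Cfsg.Agent.Lib.Helper3.Golay.M24Trans

set_option autoImplicit false

/-! The order of the automorphism group of the Leech lattice. -/

namespace Cfsg.Agent.Lib.Helper14.Co0Order

open Cfsg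
open Cfsg.Agent.Lib.Helper14.Golay
open Cfsg.Agent.Lib.Helper14.Leech
open Cfsg.Agent.Lib.Helper14.LeechCount
open Cfsg.Agent.Lib.Helper14.LeechMono
open Cfsg.Agent.Lib.Helper14.LeechOrbit
open Cfsg.Agent.Lib.Helper14.LeechCross
open Cfsg.Agent.Lib.Helper14.Co0Center
open Cfsg.Agent.Lib.Helper3.Golay
open scoped Pointwise

/-- the vector `8 e_∞` -/
noncomputable def v8 : ↥leechLattice := E none

theorem v8_coe : (v8 : GolayPt → ℤ) = Pi.single none 8 := rfl

theorem sqNorm_v8 : sqNorm (v8 : GolayPt → ℤ) = 64 := by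
  rw [v8_coe, sqNorm_single]; norm_num

/-! ### the orbit -/

theorem orbit_eq : MulAction.orbit ↥Co0 v8 = {v : ↥leechLattice | sqNorm (v : GolayPt → ℤ) = 64} := by
  ext v
  constructor
  · rintro ⟨g, rfl⟩
    show sqNorm ((g • v8 : ↥leechLattice) : GolayPt → ℤ) = 64
    rw [smul_coe, g.2.2, sqNorm_v8]
  · intro hv
    obtain ⟨g, hg⟩ := co0_trans64 v8 v sqNorm_v8 hv
    exact ⟨g, hg⟩

theorem card_orbit : Nat.card ↥(MulAction.orbit ↥Co0 v8) = 398034000 := by
  rw [orbit_eq, Nat.card_coe_set_eq, ← ncard64,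
    ← Set.ncard_image_of_injective _ Subtype.val_injective]
  congr 1
  ext x
  simp only [Set.mem_image, Set.mem_ofPred_eq, Subtype.exists, exists_and_right, exists_eq_right]
  constructor
  · rintro ⟨hx, h⟩; exact ⟨hx, h⟩
  · rintro ⟨hx, h⟩; exact ⟨hx, h⟩

/-! ### the standard cross -/

theorem stdCross_eq : stdCross = (fun p : GolayPt × Bool => (Pi.single p.1 (if p.2 then 8 else -8) :
    GolayPt → ℤ)) '' Set.univ := by
  ext y
  simp only [stdCross, Set.mem_ofPred_eq, Set.image_univ, Set.mem_range, Prod.exists, Bool.exists_bool]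
  constructor
  · rintro ⟨i, s, hs | hs, rfl⟩
    · exact ⟨i, Or.inr (by simp [hs])⟩
    · exact ⟨i, Or.inl (by simp [hs])⟩
  · rintro ⟨i, h | h⟩
    · exact ⟨i, -8, Or.inr rfl, by rw [← h]; simp⟩
    · exact ⟨i, 8, Or.inl rfl, by rw [← h]; simp⟩

theorem ncard_stdCross : stdCross.ncard = 48 := by
  rw [stdCross_eq, Set.ncard_image_of_injective, Set.ncard_univ]
  · simp [Nat.card_eq_fintype_card, card_golayPt]
  · rintro ⟨i, b⟩ ⟨j, c⟩ h
    simp only at h
    have hij : i = j := by
      apply single_inj i j _ _ _ h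
      split_ifs <;> norm_num
    subst hij
    have := congrFun h i
    simp only [Pi.single_eq_same] at this
    cases b <;> cases c <;> simp_all

theorem stdCross_subset : stdCross ⊆ cross (v8 : GolayPt → ℤ) := by
  rintro y ⟨i, s, hs, rfl⟩
  have hmem : (Pi.single i s : GolayPt → ℤ) ∈ leechLattice := by
    rcases hs with rfl | rfl
    · exact (E i).2
    · have : (Pi.single i (-8) : GolayPt → ℤ) = -(E i : GolayPt → ℤ) := by
        rw [E_coe]; funext k
        by_cases hk : k = i
        · subst hk; simp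
        · simp [Pi.single_eq_of_ne hk]
      rw [this]; exact leechLattice.neg_mem (E i).2
  refine ⟨hmem, ?_, ?_⟩
  · rw [sqNorm_v8, sqNorm_single]
    rcases hs with rfl | rfl <;> norm_num
  · -- `8 e_∞ - s e_i = 2 (4 e_∞ - (s/2) e_i)`
    refine ⟨Pi.single none 4 - Pi.single i (s / 2), ?_, ?_⟩
    · rw [mem_leechLattice_iff, mem_leechSet_iff]
      refine ⟨0, 0, Submodule.zero_mem _, ?_, ?_⟩
      · intro k
        simp only [Pi.sub_apply, Pi.single_apply, Pi.zero_apply, ZMod.val_zero]
        rcases hs with rfl | rfl <;> split_ifs <;> norm_num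
      · have : ∑ k, (Pi.single none 4 - Pi.single i (s / 2) : GolayPt → ℤ) k = 4 - s / 2 := by
          simp only [Pi.sub_apply, Finset.sum_sub_distrib, Finset.sum_pi_single', Finset.mem_univ,
            if_true]
        rw [this]
        rcases hs with rfl | rfl <;> norm_num
    · rw [v8_coe, two_nsmul]
      funext k
      simp only [Pi.sub_apply, Pi.add_apply, Pi.single_apply]
      rcases hs with rfl | rfl <;> split_ifs <;> norm_num

theorem cross_v8 : cross (v8 : GolayPt → ℤ) = stdCross := by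
  have hc := ncard_cross (v8 : GolayPt → ℤ) v8.2 sqNorm_v8
  have hfin : (cross (v8 : GolayPt → ℤ)).Finite := Set.finite_of_ncard_ne_zero (by rw [hc]; norm_num)
  exact (Set.eq_of_subset_of_ncard_le stdCross_subset (by rw [hc, ncard_stdCross]) hfin).symm

/-! ### the stabiliser -/

theorem co0_map_sub (g : Equiv.Perm ↥leechLattice) (hg : g ∈ Co0) (a b : ↥leechLattice) :
    g (a - b) = g a - g b := by
  rw [sub_eq_add_neg, hg.1, co0_map_neg g hg, ← sub_eq_add_neg]

/-- an element fixing `8 e_∞` preserves the standard cross -/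
theorem stab_std (g : ↥Co0) (hg : g • v8 = v8) (v : ↥leechLattice)
    (hv : (v : GolayPt → ℤ) ∈ stdCross) : ((g • v : ↥leechLattice) : GolayPt → ℤ) ∈ stdCross := by
  rw [← cross_v8] at hv ⊢
  obtain ⟨-, hn, z, hz, hvz⟩ := hv
  refine ⟨(g • v).2, ?_, ((g : Equiv.Perm ↥leechLattice) ⟨z, hz⟩ : ↥leechLattice).1,
    ((g : Equiv.Perm ↥leechLattice) ⟨z, hz⟩ : ↥leechLattice).2, ?_⟩
  · rw [smul_coe, g.2.2, hn]
  · have h1 : v8 - v = (⟨z, hz⟩ : ↥leechLattice) + ⟨z, hz⟩ := by
      apply Subtype.ext
      rw [AddSubgroup.coe_sub, AddSubgroup.coe_add, hvz, two_nsmul]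
    have h2 := congrArg (g : Equiv.Perm ↥leechLattice) h1
    rw [co0_map_sub _ g.2, g.2.1] at h2
    have hg' : (g : Equiv.Perm ↥leechLattice) v8 = v8 := hg
    rw [hg'] at h2
    have h3 := congrArg (fun u : ↥leechLattice => (u : GolayPt → ℤ)) h2
    simp only [AddSubgroup.coe_sub, AddSubgroup.coe_add] at h3
    rw [two_nsmul, smul_coe]
    exact h3

/-- the parameters of the stabiliser -/
def StabParam : Type :=
  {p : ↥M24 × ↥golayCode // (p.1 : Equiv.Perm GolayPt) none = none ∧ (p.2 : GolayPt → ZMod 2) none = 0}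

theorem mono_v8 (p : ↥M24 × ↥golayCode) :
    ((mono p.1 p.2 v8 : ↥leechLattice) : GolayPt → ℤ)
      = Pi.single ((p.1 : Equiv.Perm GolayPt) none)
          (if (p.1 : Equiv.Perm GolayPt) none ∈ support₂ (p.2 : GolayPt → ZMod 2) then -8 else 8) := by
  rw [mono_apply]
  show signedPerm _ _ (Pi.single none 8) = _
  rw [signedPerm_single]

theorem mono_fix_iff (p : ↥M24 × ↥golayCode) :
    mono p.1 p.2 v8 = v8 ↔
      ((p.1 : Equiv.Perm GolayPt) none = none ∧ (p.2 : GolayPt → ZMod 2) none = 0) := by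
  constructor
  · intro h
    have h1 := congrArg (fun u : ↥leechLattice => (u : GolayPt → ℤ)) h
    simp only [mono_v8, v8_coe] at h1
    have h2 : (p.1 : Equiv.Perm GolayPt) none = none := by
      apply single_inj _ _ _ _ _ h1
      split_ifs <;> norm_num
    refine ⟨h2, ?_⟩
    rw [h2] at h1
    have h3 := congrFun h1 none
    simp only [Pi.single_eq_same] at h3
    by_contra hne
    have : (none : GolayPt) ∈ support₂ (p.2 : GolayPt → ZMod 2) := by
      unfold support₂
      simp [hne]
    rw [if_pos this] at h3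
    norm_num at h3
  · rintro ⟨h1, h2⟩
    apply Subtype.ext
    rw [mono_v8, v8_coe, h1]
    have : (none : GolayPt) ∉ support₂ (p.2 : GolayPt → ZMod 2) := by
      unfold support₂
      simp [h2]
    rw [if_neg this]

/-- the parametrisation of the stabiliser of `8 e_∞` -/
noncomputable def Psi8 (p : StabParam) : ↥(MulAction.stabilizer ↥Co0 v8) :=
  ⟨⟨mono p.1.1 p.1.2, mono_mem_Co0 _ _⟩, by
    rw [MulAction.mem_stabilizer_iff]
    exact (mono_fix_iff p.1).mpr p.2⟩

theorem Psi8_bijective : Function.Bijective Psi8 := by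
  constructor
  · rintro ⟨p, hp⟩ ⟨q, hq⟩ h
    have h1 : Phi p = Phi q := by
      apply Subtype.ext
      have := congrArg (fun u : ↥(MulAction.stabilizer ↥Co0 v8) => (u : ↥Co0)) h
      exact this
    exact Subtype.ext (Phi_injective h1)
  · rintro ⟨g, hg⟩
    rw [MulAction.mem_stabilizer_iff] at hg
    obtain ⟨p, hp⟩ := Phi_surjective ⟨g, stab_std g hg⟩
    have hpg : (⟨mono p.1 p.2, mono_mem_Co0 _ _⟩ : ↥Co0) = g := congrArg Subtype.val hp
    have hfix : mono p.1 p.2 v8 = v8 := by
      have : (g : Equiv.Perm ↥leechLattice) v8 = v8 := hg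
      rw [← hpg] at this
      exact this
    refine ⟨⟨p, (mono_fix_iff p).mp hfix⟩, ?_⟩
    apply Subtype.ext
    exact hpg

/-- code words vanishing at `∞` -/
theorem card_code0 : Nat.card {w : ↥golayCode // (w : GolayPt → ZMod 2) none = 0} = 2048 := by
  classical
  have h1 : Nat.card {w : ↥golayCode // (w : GolayPt → ZMod 2) none = 0}
      = Nat.card {w : ↥golayCode // ¬ (w : GolayPt → ZMod 2) none = 0} := by
    apply Nat.card_congr
    refine ⟨fun w => ⟨⟨w.1.1 + 1, Submodule.add_mem _ w.1.2 one_mem_golay⟩, ?_⟩,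
      fun w => ⟨⟨w.1.1 + 1, Submodule.add_mem _ w.1.2 one_mem_golay⟩, ?_⟩, ?_, ?_⟩
    · show ¬ (w.1.1 + 1) none = 0
      rw [Pi.add_apply, w.2]; decide
    · show (w.1.1 + 1) none = 0
      have := w.2
      rw [Pi.add_apply, Pi.one_apply]
      revert this
      generalize (w.1.1 none) = a
      revert a; decide
    · intro w
      apply Subtype.ext; apply Subtype.ext
      show w.1.1 + 1 + 1 = w.1.1
      rw [add_assoc]
      have : (1 : GolayPt → ZMod 2) + 1 = 0 := by
        funext i
        show (1 : ZMod 2) + 1 = 0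
        decide
      rw [this, add_zero]
    · intro w
      apply Subtype.ext; apply Subtype.ext
      show w.1.1 + 1 + 1 = w.1.1
      rw [add_assoc]
      have : (1 : GolayPt → ZMod 2) + 1 = 0 := by
        funext i
        show (1 : ZMod 2) + 1 = 0
        decide
      rw [this, add_zero]
  have h2 : Nat.card {w : ↥golayCode // (w : GolayPt → ZMod 2) none = 0}
      + Nat.card {w : ↥golayCode // ¬ (w : GolayPt → ZMod 2) none = 0} = Nat.card ↥golayCode := by
    haveI : Finite ↥golayCode := Nat.finite_of_card_ne_zero (by rw [card_golayCode]; norm_num)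
    haveI := Fintype.ofFinite ↥golayCode
    rw [Nat.card_eq_fintype_card, Nat.card_eq_fintype_card, Nat.card_eq_fintype_card]
    have hc := Fintype.card_subtype_compl (fun w : ↥golayCode => (w : GolayPt → ZMod 2) none = 0)
    have hle := Fintype.card_subtype_le (fun w : ↥golayCode => (w : GolayPt → ZMod 2) none = 0)
    omega
  rw [card_golayCode] at h2
  omega

theorem card_M24_none :
    Nat.card {σ : ↥M24 // (σ : Equiv.Perm GolayPt) none = none} = 10200960 := by
  rw [← card_stab_point none]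
  apply Nat.card_congr
  refine ⟨fun σ => ⟨σ.1.1, ⟨σ.1.2, ?_⟩⟩, fun σ => ⟨⟨σ.1, σ.2.1⟩, ?_⟩, ?_, ?_⟩
  · show (σ.1.1 : Equiv.Perm GolayPt) ∈ MulAction.stabilizer (Equiv.Perm GolayPt) none
    rw [MulAction.mem_stabilizer_iff, Equiv.Perm.smul_def]; exact σ.2
  · have : (σ.1 : Equiv.Perm GolayPt) ∈ MulAction.stabilizer (Equiv.Perm GolayPt) none := σ.2.2
    rw [MulAction.mem_stabilizer_iff, Equiv.Perm.smul_def] at this
    exact this
  · intro σ; rfl
  · intro σ; rfl

theorem card_StabParam : Nat.card StabParam = 10200960 * 2048 := by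
  unfold StabParam
  rw [Nat.card_congr (Equiv.subtypeProdEquivProd
    (p := fun σ : ↥M24 => (σ : Equiv.Perm GolayPt) none = none)
    (q := fun w : ↥golayCode => (w : GolayPt → ZMod 2) none = 0)), Nat.card_prod,
    card_M24_none, card_code0]

theorem card_stabilizer : Nat.card ↥(MulAction.stabilizer ↥Co0 v8) = 10200960 * 2048 := by
  rw [← card_StabParam]
  exact (Nat.card_congr (Equiv.ofBijective Psi8 Psi8_bijective)).symm

theorem card_Co0 : Nat.card ↥Co0 = 8315553613086720000 := by
  rw [Subgroup.card_eq_card_quotient_mul_card_subgroup (MulAction.stabilizer ↥Co0 v8),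
    ← Nat.card_congr (MulAction.orbitEquivQuotientStabilizer ↥Co0 v8), card_orbit, card_stabilizer]

end Cfsg.Agent.Lib.Helper14.Co0Order
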