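import Mathlib

set_option autoImplicit false

/-! Subsets invariant under a point stabiliser are unions of its orbits; elements of a given
order in a regular normal subgroup. -/

namespace Cfsg.Agent.Lib.Helper14.RegularCount

open MulAction

variable {G : Type*} [Group G] {Ω : Type*} [MulAction G Ω]

/-- a subset invariant under the stabiliser of `x0` is a union of fibres of a function whose
fibres are the orbits of the stabiliser -/
theorem ncard_invariant_fibers [Finite Ω] {ι : Type*} [Fintype ι] [DecidableEq ι]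
    (x0 : Ω) (f : Ω → ι)
    (hft : ∀ y y', f y = f y' → ∃ g : G, g • x0 = x0 ∧ g • y = y')
    (O : Set Ω) (hinv : ∀ g : G, g • x0 = x0 → ∀ y ∈ O, g • y ∈ O) :
    ∃ J : Finset ι, (∀ y, y ∈ O ↔ f y ∈ J) ∧ (∀ i ∈ J, ∃ y ∈ O, f y = i) ∧
      O.ncard = ∑ i ∈ J, {y | f y = i}.ncard := by
  classical
  haveI := Fintype.ofFinite Ω
  set J : Finset ι := Finset.univ.filter (fun i => ∃ y ∈ O, f y = i) with hJ
  have hOJ : ∀ y, y ∈ O ↔ f y ∈ J := by
    intro y
    rw [hJ, Finset.mem_filter]
    constructor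
    · intro hy
      exact ⟨Finset.mem_univ _, y, hy, rfl⟩
    · rintro ⟨-, y', hy', hff⟩
      obtain ⟨g, hg, rfl⟩ := hft y' y hff
      exact hinv g hg y' hy'
  refine ⟨J, hOJ, fun i hi => (Finset.mem_filter.mp hi).2, ?_⟩
  have e1 : O.ncard = (Finset.univ.filter (fun y => f y ∈ J)).card := by
    rw [← Set.ncard_coe_finset]
    congr 1
    ext y
    simp [hOJ]
  have e2 : ∀ i, {y | f y = i}.ncard = (Finset.univ.filter (fun y => f y = i)).card := by
    intro i
    rw [← Set.ncard_coe_finset]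
    congr 1
    ext y
    simp
  rw [e1, Finset.card_eq_sum_card_fiberwise (f := f)
    (s := Finset.univ.filter (fun y => f y ∈ J)) (t := J)
    (fun y hy => (Finset.mem_filter.mp (Finset.mem_coe.mp hy)).2)]
  refine Finset.sum_congr rfl fun i hi => ?_
  rw [e2, Finset.filter_filter]
  congr 1
  ext y
  simp only [Finset.mem_filter, Finset.mem_univ, true_and]
  constructor
  · rintro ⟨-, h⟩; exact h
  · intro h; exact ⟨h ▸ hi, h⟩

/-- the elements of a given order in a regular normal subgroup correspond to a union of orbits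
of the point stabiliser -/
theorem regular_normal_count [Finite Ω] {ι : Type*} [Fintype ι] [DecidableEq ι]
    (x0 : Ω) (f : Ω → ι)
    (hft : ∀ y y', f y = f y' → ∃ g : G, g • x0 = x0 ∧ g • y = y')
    (N : Subgroup G) [hN : N.Normal] (hreg : ∀ n ∈ N, n • x0 = x0 → n = 1) (p : ℕ) :
    ∃ J : Finset ι, (∀ i ∈ J, ∃ n ∈ N, orderOf n = p ∧ f (n • x0) = i) ∧
      Nat.card {n : ↥N // orderOf n = p} = ∑ i ∈ J, {y | f y = i}.ncard := by
  classical
  set O : Set Ω := {y | ∃ n ∈ N, orderOf n = p ∧ n • x0 = y} with hO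
  have hinv : ∀ g : G, g • x0 = x0 → ∀ y ∈ O, g • y ∈ O := by
    rintro g hg y ⟨n, hn, ho, rfl⟩
    refine ⟨g * n * g⁻¹, hN.conj_mem n hn g, ?_, ?_⟩
    · rw [← ho]
      exact orderOf_injective (MulAut.conj g).toMonoidHom (MulAut.conj g).injective n
    · rw [mul_smul, mul_smul]
      congr 2
      rw [inv_smul_eq_iff, hg]
  obtain ⟨J, hJ, hJw, hcard⟩ := ncard_invariant_fibers x0 f hft O hinv
  refine ⟨J, ?_, ?_⟩
  · intro i hi
    obtain ⟨y, ⟨n, hn, ho, hny⟩, hy⟩ := hJw i hi
    exact ⟨n, hn, ho, by rw [hny, hy]⟩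
  · rw [← hcard]
    have : O = (fun n : {n : ↥N // orderOf n = p} => (n.1.1 : G) • x0) '' Set.univ := by
      ext y
      simp only [Set.image_univ, Set.mem_range]
      constructor
      · rintro ⟨n, hn, ho, rfl⟩
        exact ⟨⟨⟨n, hn⟩, by rw [← ho]; exact Subgroup.orderOf_mk n hn⟩, rfl⟩
      · rintro ⟨⟨n, ho⟩, rfl⟩
        exact ⟨n.1, n.2, by rw [← ho]; exact Subgroup.orderOf_coe n, rfl⟩
    rw [this, Set.ncard_image_of_injective, Set.ncard_univ]
    intro a b hab
    have h1 : (b.1.1⁻¹ * a.1.1) • x0 = x0 := by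
      rw [mul_smul, inv_smul_eq_iff]
      exact hab
    have h2 := hreg _ (N.mul_mem (N.inv_mem b.1.2) a.1.2) h1
    apply Subtype.ext
    apply Subtype.ext
    have := inv_mul_eq_one.mp h2
    exact this.symm

end Cfsg.Agent.Lib.Helper14.RegularCount
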