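import Mathlib
import Cfsg.Prelude.Def_Sporadic_a
import Cfsg.Agent.Lib.Helper14.LeechCount
import Cfsg.Agent.Lib.Helper14.LeechCount2
import Cfsg.Agent.Lib.Helper14.LeechMono
import Cfsg.Agent.Lib.Helper3.Golay.Weights

set_option autoImplicit false

/-! Counting minimal vectors of the Leech lattice subject to a condition on a few coordinates. -/

namespace Cfsg.Agent.Lib.Helper14.LeechMinCount

open Cfsg Cfsg.Agent.Lib.Helper14.Golay Cfsg.Agent.Lib.Helper14.Leech
  Cfsg.Agent.Lib.Helper14.LeechCount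
open Cfsg.Agent.Lib.Helper3.Golay (wordOf codeMask pc24 bitSet)

/-! ### the three families are disjoint -/

theorem disj1 : Disjoint (PO.image PhiO) (P2.image f2) := by
  rw [Finset.disjoint_left]
  intro x hx hx'
  obtain ⟨p, _, rfl⟩ := Finset.mem_image.mp hx
  obtain ⟨q, _, hq⟩ := Finset.mem_image.mp hx'
  have h1 := PhiO_odd p none
  rw [← hq] at h1
  rcases Psi2_cases ⟨support₂ q.1, q.2⟩ none with ⟨_, h2⟩ | ⟨_, h2⟩
  · change f2 q none % 4 = 2 at h2
    omega
  · change f2 q none = 0 at h2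
    omega

theorem disj2 : Disjoint (PO.image PhiO ∪ P2.image f2) (P4.image (Psi 4)) := by
  rw [Finset.disjoint_union_left]
  constructor
  · rw [Finset.disjoint_left]
    intro x hx hx'
    obtain ⟨p, _, rfl⟩ := Finset.mem_image.mp hx
    obtain ⟨q, _, hq⟩ := Finset.mem_image.mp hx'
    have h1 := PhiO_odd p none
    rw [← hq] at h1
    have h2 := Psi4_mod q none
    omega
  · rw [Finset.disjoint_left]
    intro x hx hx'
    obtain ⟨p, hp, rfl⟩ := Finset.mem_image.mp hx
    obtain ⟨q, _, hq⟩ := Finset.mem_image.mp hx'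
    rw [mem_P2] at hp
    obtain ⟨i, hi⟩ : (support₂ p.1).Nonempty := by
      rw [← Finset.card_pos, hp.1.2]; norm_num
    have h2 := Psi4_mod q i
    rw [hq] at h2
    rcases Psi2_cases ⟨support₂ p.1, p.2⟩ i with ⟨_, h3⟩ | ⟨h3, _⟩
    · change f2 p i % 4 = 2 at h3
      omega
    · exact h3 hi

/-- the number of minimal vectors satisfying `p`, family by family -/
theorem ncard_min_filter (p : (GolayPt → ℤ) → Prop) [DecidablePred p] :
    {x : GolayPt → ℤ | x ∈ leechLattice ∧ sqNorm x = 32 ∧ p x}.ncard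
      = (PO.filter (fun q => p (PhiO q))).card + (P2.filter (fun q => p (f2 q))).card
        + (P4.filter (fun q => p (Psi 4 q))).card := by
  have hset : {x : GolayPt → ℤ | x ∈ leechLattice ∧ sqNorm x = 32 ∧ p x}
      = ↑((PO.image PhiO ∪ P2.image f2 ∪ P4.image (Psi 4)).filter p) := by
    ext x
    have h := Set.ext_iff.mp min_eq x
    rw [Set.mem_ofPred_eq, Finset.mem_coe] at h
    rw [Set.mem_ofPred_eq, Finset.mem_coe, Finset.mem_filter, ← h]
    tauto
  rw [hset, Set.ncard_coe_finset, Finset.filter_union, Finset.filter_union,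
    Finset.card_union_of_disjoint (by
      rw [← Finset.filter_union]; exact Finset.disjoint_filter_filter disj2),
    Finset.card_union_of_disjoint (Finset.disjoint_filter_filter disj1),
    Finset.filter_image, Finset.filter_image, Finset.filter_image,
    Finset.card_image_of_injective _ PhiO_injective,
    Finset.card_image_of_injOn (f2_injOn.mono (Finset.coe_subset.mpr (Finset.filter_subset _ _))),
    Finset.card_image_of_injOn (Psi4_injOn.mono (Finset.coe_subset.mpr (Finset.filter_subset _ _)))]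

/-! ### sums over the code -/

/-- a fast summing loop -/
def sumBelow (n : ℕ) (f : ℕ → ℕ) : ℕ := Nat.rec 0 (fun k ih => ih + f k) n

theorem sumBelow_eq (n : ℕ) (f : ℕ → ℕ) : sumBelow n f = ∑ k ∈ Finset.range n, f k := by
  induction n with
  | zero => rfl
  | succ n ih =>
    have : sumBelow (n + 1) f = sumBelow n f + f n := rfl
    rw [this, ih, Finset.sum_range_succ]

theorem sum_Cf (F : (GolayPt → ZMod 2) → ℕ) :
    ∑ w ∈ Cf, F w = sumBelow 4096 (fun c => F (wordOf (codeMask c))) := by
  rw [sumBelow_eq]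
  symm
  refine Finset.sum_bij (fun c _ => wordOf (codeMask c)) ?_ ?_ ?_ ?_
  · intro c _
    rw [mem_Cf]
    exact Cfsg.Agent.Lib.Helper3.Golay.wordOf_codeMask_mem c
  · intro c hc d hd h
    rw [Finset.mem_range] at hc hd
    apply Cfsg.Agent.Lib.Helper3.Golay.codeMask_injOn hc hd
    rw [← Cfsg.Agent.Lib.Helper3.Golay.support_wordOf, ← Cfsg.Agent.Lib.Helper3.Golay.support_wordOf]
    exact congrArg support₂ h
  · intro w hw
    rw [mem_Cf] at hw
    obtain ⟨c, hc, rfl⟩ := (Cfsg.Agent.Lib.Helper3.Golay.mem_golayCode_iff w).mp hw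
    exact ⟨c, Finset.mem_range.mpr hc, rfl⟩
  · intro c _
    rfl

theorem card_Cf_filter (Q : (GolayPt → ZMod 2) → Prop) [DecidablePred Q] :
    (Cf.filter Q).card = sumBelow 4096 (fun c => if Q (wordOf (codeMask c)) then 1 else 0) := by
  rw [Finset.card_filter, sum_Cf]

theorem sum_Oct8 (F : (GolayPt → ZMod 2) → ℕ) :
    ∑ w ∈ Oct8, F w
      = sumBelow 4096 (fun c => if pc24 (codeMask c) = 8 then F (wordOf (codeMask c)) else 0) := by
  classical
  have h1 : ∑ w ∈ Oct8, F w = ∑ w ∈ Cf, if (support₂ w).card = 8 then F w else 0 := by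
    unfold Oct8
    rw [Finset.sum_filter]
  rw [h1, sum_Cf]
  congr 1
  funext c
  rw [Cfsg.Agent.Lib.Helper3.Golay.support_wordOf, Cfsg.Agent.Lib.Helper3.Golay.card_bitSet']

/-! ### the odd family -/

/-- the value of the odd vector `(w, j)` at `a`, as a function of `w a` -/
def phi (j a : GolayPt) (α : ZMod 2) : ℤ := (1 - 2 * ((α.val : ℕ) : ℤ)) * (if a = j then -3 else 1)

theorem PhiO_eq_phi (w : GolayPt → ZMod 2) (j a : GolayPt) : PhiO (w, j) a = phi j a (w a) := rfl

theorem sum_Cf_pair (a b : GolayPt) (N : ℕ)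
    (hN : ∀ α β : ZMod 2, (Cf.filter (fun w => w a = α ∧ w b = β)).card = N)
    (g : ZMod 2 → ZMod 2 → ℕ) :
    ∑ w ∈ Cf, g (w a) (w b) = ∑ α : ZMod 2, ∑ β : ZMod 2, g α β * N := by
  have h1 : ∀ w : GolayPt → ZMod 2, g (w a) (w b)
      = ∑ α : ZMod 2, ∑ β : ZMod 2, if w a = α ∧ w b = β then g α β else 0 := by
    intro w
    rw [Finset.sum_eq_single (w a), Finset.sum_eq_single (w b)]
    · simp
    · intro β _ hβ
      rw [if_neg]
      intro h
      exact hβ h.2.symm
    · intro h; exact absurd (Finset.mem_univ _) h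
    · intro α _ hα
      apply Finset.sum_eq_zero
      intro β _
      rw [if_neg]
      intro h
      exact hα h.1.symm
    · intro h; exact absurd (Finset.mem_univ _) h
  rw [Finset.sum_congr rfl (fun w _ => h1 w), Finset.sum_comm]
  refine Finset.sum_congr rfl fun α _ => ?_
  rw [Finset.sum_comm]
  refine Finset.sum_congr rfl fun β _ => ?_
  rw [← Finset.sum_filter, Finset.sum_const, hN, smul_eq_mul, mul_comm]

theorem card_PO_filter (a b : GolayPt) (N : ℕ)
    (hN : ∀ α β : ZMod 2, (Cf.filter (fun w => w a = α ∧ w b = β)).card = N)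
    (R : ℤ → ℤ → Prop) [∀ x y, Decidable (R x y)] :
    (PO.filter (fun q => R (PhiO q a) (PhiO q b))).card
      = ∑ j : GolayPt, ∑ α : ZMod 2, ∑ β : ZMod 2,
          (if R (phi j a α) (phi j b β) then 1 else 0) * N := by
  classical
  rw [Finset.card_filter]
  unfold PO
  rw [Finset.sum_product_right]
  refine Finset.sum_congr rfl fun j _ => ?_
  exact sum_Cf_pair a b N hN (fun α β => if R (phi j a α) (phi j b β) then 1 else 0)

/-! ### the octad family -/

theorem card_even_trace {α : Type*} [DecidableEq α] (T A B : Finset α) (hB : B ⊆ T ∩ A)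
    (h : (T ∩ A).card < T.card) :
    ((T.powerset.filter (fun U => Even U.card)).filter (fun U => U ∩ A = B)).card
      = 2 ^ (T.card - 1 - (T ∩ A).card) := by
  obtain ⟨t0, ht0T, ht0A⟩ : ∃ t0 ∈ T, t0 ∉ A := by
    by_contra hcon
    push Not at hcon
    have : T ∩ A = T := Finset.inter_eq_left.mpr hcon
    rw [this] at h
    exact lt_irrefl _ h
  have hBT : B ⊆ T := fun x hx => (Finset.mem_inter.mp (hB hx)).1
  have hBA : B ⊆ A := fun x hx => (Finset.mem_inter.mp (hB hx)).2
  have ht0B : t0 ∉ B := fun hx => ht0A (hBA hx)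
  have hR : ((T \ A).erase t0).card = T.card - 1 - (T ∩ A).card := by
    rw [Finset.card_erase_of_mem (Finset.mem_sdiff.mpr ⟨ht0T, ht0A⟩)]
    have := Finset.card_sdiff_add_card_inter T A
    omega
  rw [← hR, ← Finset.card_powerset]
  refine Finset.card_bij' (fun U _ => (U \ A).erase t0)
    (fun W _ => if Even (W ∪ B).card then W ∪ B else insert t0 (W ∪ B)) ?_ ?_ ?_ ?_
  · intro U hU
    rw [Finset.mem_filter, Finset.mem_filter, Finset.mem_powerset] at hU
    rw [Finset.mem_powerset]
    intro x hx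
    rw [Finset.mem_erase, Finset.mem_sdiff] at hx
    rw [Finset.mem_erase, Finset.mem_sdiff]
    exact ⟨hx.1, hU.1.1 hx.2.1, hx.2.2⟩
  · intro W hW
    rw [Finset.mem_powerset] at hW
    have hWT : W ⊆ T := fun x hx => (Finset.mem_sdiff.mp (Finset.mem_of_mem_erase (hW hx))).1
    have hWA : ∀ x ∈ W, x ∉ A := fun x hx => (Finset.mem_sdiff.mp (Finset.mem_of_mem_erase (hW hx))).2
    have ht0W : t0 ∉ W := fun hx => (Finset.mem_erase.mp (hW hx)).1 rfl
    have hint : (W ∪ B) ∩ A = B := by
      ext x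
      rw [Finset.mem_inter, Finset.mem_union]
      constructor
      · rintro ⟨hx | hx, hxA⟩
        · exact absurd hxA (hWA x hx)
        · exact hx
      · intro hx
        exact ⟨Or.inr hx, hBA hx⟩
    rw [Finset.mem_filter, Finset.mem_filter, Finset.mem_powerset]
    split_ifs with hev
    · exact ⟨⟨Finset.union_subset hWT hBT, hev⟩, hint⟩
    · refine ⟨⟨Finset.insert_subset ht0T (Finset.union_subset hWT hBT), ?_⟩, ?_⟩
      · rw [Finset.card_insert_of_notMem (by
          rw [Finset.mem_union]; push Not; exact ⟨ht0W, ht0B⟩)]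
        rw [Nat.even_add_one]
        exact hev
      · rw [Finset.insert_inter_of_notMem ht0A, hint]
  · intro U hU
    rw [Finset.mem_filter, Finset.mem_filter, Finset.mem_powerset] at hU
    obtain ⟨⟨hUT, hev⟩, hUA⟩ := hU
    have hunion : (U \ A).erase t0 ∪ B = U.erase t0 := by
      ext x
      rw [Finset.mem_union, Finset.mem_erase, Finset.mem_erase, Finset.mem_sdiff, ← hUA,
        Finset.mem_inter]
      constructor
      · rintro (⟨hne, hxU, _⟩ | ⟨hxU, hxA⟩)
        · exact ⟨hne, hxU⟩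
        · exact ⟨fun h => ht0A (h ▸ hxA), hxU⟩
      · rintro ⟨hne, hxU⟩
        by_cases hxA : x ∈ A
        · exact Or.inr ⟨hxU, hxA⟩
        · exact Or.inl ⟨hne, hxU, hxA⟩
    show (if Even ((U \ A).erase t0 ∪ B).card then (U \ A).erase t0 ∪ B
      else insert t0 ((U \ A).erase t0 ∪ B)) = U
    rw [hunion]
    by_cases ht0U : t0 ∈ U
    · have hc := Finset.card_erase_of_mem ht0U
      have hpos : 0 < U.card := Finset.card_pos.mpr ⟨t0, ht0U⟩
      have hodd : ¬ Even (U.erase t0).card := by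
        rw [hc]
        intro h'
        have := Nat.even_add_one.mp (by rwa [Nat.sub_add_cancel hpos] : Even (U.card - 1 + 1))
        exact this h'
      rw [if_neg hodd, Finset.insert_erase ht0U]
    · rw [Finset.erase_eq_of_notMem ht0U, if_pos hev]
  · intro W hW
    rw [Finset.mem_powerset] at hW
    have hWA : ∀ x ∈ W, x ∉ A := fun x hx => (Finset.mem_sdiff.mp (Finset.mem_of_mem_erase (hW hx))).2
    have ht0W : t0 ∉ W := fun hx => (Finset.mem_erase.mp (hW hx)).1 rfl
    show ((if Even (W ∪ B).card then W ∪ B else insert t0 (W ∪ B)) \ A).erase t0 = W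
    have key : ((W ∪ B) \ A).erase t0 = W := by
      ext x
      rw [Finset.mem_erase, Finset.mem_sdiff, Finset.mem_union]
      constructor
      · rintro ⟨_, hx | hx, hxA⟩
        · exact hx
        · exact absurd (hBA hx) hxA
      · intro hx
        exact ⟨fun h => ht0W (h ▸ hx), Or.inl hx, hWA x hx⟩
    split_ifs
    · exact key
    · rw [Finset.insert_sdiff_of_notMem _ ht0A, Finset.erase_insert_eq_erase, key]

theorem card_P2_filter (A : Finset GolayPt) (hA : A.card < 8) (p : (GolayPt → ℤ) → Prop)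
    [DecidablePred p]
    (hp : ∀ T U : Finset GolayPt, p (Psi 2 ⟨T, U⟩) ↔ p (Psi 2 ⟨T, U ∩ A⟩)) :
    (P2.filter (fun q => p (f2 q))).card
      = sumBelow 4096 (fun c => if pc24 (codeMask c) = 8 then
          ∑ B ∈ (bitSet (codeMask c) ∩ A).powerset,
            (if p (Psi 2 ⟨bitSet (codeMask c), B⟩) then
              2 ^ (7 - (bitSet (codeMask c) ∩ A).card) else 0)
          else 0) := by
  classical
  have h1 : (P2.filter (fun q => p (f2 q))).card
      = ∑ w ∈ Oct8, ∑ B ∈ (support₂ w ∩ A).powerset,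
          (if p (Psi 2 ⟨support₂ w, B⟩) then 2 ^ (7 - (support₂ w ∩ A).card) else 0) := by
    rw [Finset.card_filter]
    unfold P2
    rw [Finset.sum_sigma]
    refine Finset.sum_congr rfl fun w hw => ?_
    have h8 := ((mem_Oct8 w).mp hw).2
    have hlt : (support₂ w ∩ A).card < (support₂ w).card := by
      rw [h8]
      exact lt_of_le_of_lt (Finset.card_le_card Finset.inter_subset_right) hA
    rw [← Finset.sum_fiberwise_of_maps_to (g := fun U => U ∩ A) (t := (support₂ w ∩ A).powerset)]
    · refine Finset.sum_congr rfl fun B hB => ?_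
      rw [Finset.mem_powerset] at hB
      have hcard := card_even_trace (support₂ w) A B hB hlt
      rw [h8] at hcard
      have hval : ∀ U ∈ ((support₂ w).powerset.filter (fun U => Even U.card)).filter
          (fun U => U ∩ A = B),
          (if p (f2 ⟨w, U⟩) then 1 else 0) = if p (Psi 2 ⟨support₂ w, B⟩) then 1 else 0 := by
        intro U hU
        have hUB := (Finset.mem_filter.mp hU).2
        have : p (f2 ⟨w, U⟩) ↔ p (Psi 2 ⟨support₂ w, B⟩) := by
          rw [← hUB]
          exact hp (support₂ w) U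
        simp only [this]
      have hfin : (∑ U ∈ ((support₂ w).powerset.filter (fun U => Even U.card)).filter
          (fun U => U ∩ A = B), (if p (f2 ⟨w, U⟩) then 1 else 0))
          = if p (Psi 2 ⟨support₂ w, B⟩) then 2 ^ (7 - (support₂ w ∩ A).card) else 0 := by
        rw [Finset.sum_congr rfl hval, Finset.sum_const, hcard, smul_eq_mul]
        split_ifs <;> simp
      convert hfin using 2
    · intro U hU
      rw [Finset.mem_filter, Finset.mem_powerset] at hU
      rw [Finset.mem_powerset]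
      exact Finset.inter_subset_inter_right hU.1
  rw [h1, sum_Oct8]
  congr 1
  funext c
  rw [Cfsg.Agent.Lib.Helper3.Golay.support_wordOf]

/-! ### explicit lattice vectors -/

/-- vectors all of whose coordinates are `0` modulo 4 -/
theorem mem_even (x : GolayPt → ℤ) (h : ∀ i, x i % 4 = 0) (hs : (∑ i, x i) % 8 = 0) :
    x ∈ leechLattice := by
  rw [mem_leechLattice_iff, mem_leechSet_iff]
  refine ⟨0, 0, Submodule.zero_mem _, fun i => ?_, by rw [hs]; rfl⟩
  rw [h i]; simp

/-- vectors all of whose coordinates are `1` modulo 4 -/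
theorem mem_odd (x : GolayPt → ℤ) (h : ∀ i, x i % 4 = 1) (hs : (∑ i, x i) % 8 = 4) :
    x ∈ leechLattice := by
  rw [mem_leechLattice_iff, mem_leechSet_iff]
  refine ⟨1, 0, Submodule.zero_mem _, fun i => ?_, by rw [hs]; rfl⟩
  rw [h i]; simp

/-- the inner product with a vector supported on two coordinates -/
theorem dot_two (a b : GolayPt) (s t : ℤ) (x : GolayPt → ℤ) :
    dotInt (fun i => (if i = a then s else 0) + (if i = b then t else 0)) x = s * x a + t * x b := by
  unfold dotInt
  simp only [add_mul, ite_mul, zero_mul, Finset.sum_add_distrib, Finset.sum_ite_eq',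
    Finset.mem_univ, if_true]

/-! ### transport along an automorphism -/

theorem ncard_dot_congr (v v0 : ↥leechLattice) (g : ↥Co0) (hg : g • v0 = v) (n c : ℤ) :
    {w : GolayPt → ℤ | w ∈ leechLattice ∧ sqNorm w = n ∧ dotInt (v : GolayPt → ℤ) w = c}.ncard
      = {w : GolayPt → ℤ | w ∈ leechLattice ∧ sqNorm w = n
          ∧ dotInt (v0 : GolayPt → ℤ) w = c}.ncard := by
  symm
  refine Set.ncard_congr (fun w hw => ((g • (⟨w, hw.1⟩ : ↥leechLattice) : ↥leechLattice) :
    GolayPt → ℤ)) ?_ ?_ ?_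
  · rintro w ⟨hw, hn, hd⟩
    refine ⟨(g • (⟨w, hw⟩ : ↥leechLattice)).2, ?_, ?_⟩
    · rw [Cfsg.Agent.Lib.Helper14.LeechMono.smul_coe, g.2.2]
      exact hn
    · rw [← hg, Cfsg.Agent.Lib.Helper14.LeechMono.smul_coe,
        Cfsg.Agent.Lib.Helper14.LeechMono.smul_coe,
        Cfsg.Agent.Lib.Helper14.LeechMono.dot_pres g.1 g.2]
      exact hd
  · intro w w' hw hw' h
    have h2 : g • (⟨w, hw.1⟩ : ↥leechLattice) = g • (⟨w', hw'.1⟩ : ↥leechLattice) := Subtype.ext h
    have h3 := smul_left_cancel g h2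
    exact congrArg Subtype.val h3
  · rintro w ⟨hw, hn, hd⟩
    refine ⟨((g⁻¹ • (⟨w, hw⟩ : ↥leechLattice) : ↥leechLattice) : GolayPt → ℤ),
      ⟨(g⁻¹ • (⟨w, hw⟩ : ↥leechLattice)).2, ?_, ?_⟩, ?_⟩
    · rw [Cfsg.Agent.Lib.Helper14.LeechMono.smul_coe, (g⁻¹).2.2]
      exact hn
    · have hv0 : v0 = g⁻¹ • v := by rw [← hg, inv_smul_smul]
      rw [hv0, Cfsg.Agent.Lib.Helper14.LeechMono.smul_coe,
        Cfsg.Agent.Lib.Helper14.LeechMono.smul_coe,
        Cfsg.Agent.Lib.Helper14.LeechMono.dot_pres (g⁻¹).1 (g⁻¹).2]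
      exact hd
    · show ((g • (⟨_, _⟩ : ↥leechLattice) : ↥leechLattice) : GolayPt → ℤ) = w
      have : (⟨((g⁻¹ • (⟨w, hw⟩ : ↥leechLattice) : ↥leechLattice) : GolayPt → ℤ),
          (g⁻¹ • (⟨w, hw⟩ : ↥leechLattice)).2⟩ : ↥leechLattice) = g⁻¹ • ⟨w, hw⟩ := rfl
      rw [this, smul_inv_smul]

end Cfsg.Agent.Lib.Helper14.LeechMinCount
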