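import Mathlib
import Cfsg.Prelude.Def_Sporadic_a
import Cfsg.Agent.Lib.Helper14.LeechCount
import Cfsg.Agent.Lib.Helper14.LeechCount2
import Cfsg.Agent.Lib.Helper14.LeechOrbit
import Cfsg.Agent.Lib.Helper14.LeechShort
import Cfsg.Agent.Lib.Helper14.LeechMono
import Cfsg.Agent.Lib.Helper14.LeechCross
import Cfsg.Agent.Lib.Helper14.LeechMinCount
import Cfsg.Agent.Lib.Helper14.Co0Center
import Cfsg.Agent.Lib.Helper14.Co0Order
import Cfsg.Agent.Lib.Helper3.Golay.M24Trans

set_option autoImplicit false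

/-! Transitivity of the automorphism group of the Leech lattice on pairs of minimal vectors with
prescribed inner product, by means of an auxiliary orthogonal minimal vector. -/

namespace Cfsg.Agent.Lib.Helper14.LeechPairs

open Cfsg Cfsg.Agent.Lib.Helper14.Golay Cfsg.Agent.Lib.Helper14.Leech
  Cfsg.Agent.Lib.Helper14.LeechCount Cfsg.Agent.Lib.Helper14.LeechOrbit
  Cfsg.Agent.Lib.Helper14.LeechMono Cfsg.Agent.Lib.Helper14.Co0Center
  Cfsg.Agent.Lib.Helper14.Co0Order Cfsg.Agent.Lib.Helper14.LeechCross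
  Cfsg.Agent.Lib.Helper14.LeechMinCount

/-- an orthogonal pair of minimal vectors can be moved to `4 e_∞ ± 4 e_j` -/
theorem normal_form (v w : ↥leechLattice) (hv : sqNorm (v : GolayPt → ℤ) = 32)
    (hw : sqNorm (w : GolayPt → ℤ) = 32)
    (hd : dotInt (v : GolayPt → ℤ) (w : GolayPt → ℤ) = 0) :
    ∃ (g : ↥Co0) (j : GolayPt) (s : ℤ), j ≠ none ∧ (s = 1 ∨ s = -1) ∧
      ((g • v : ↥leechLattice) : GolayPt → ℤ) = Pi.single none 4 + Pi.single j (4 * s) ∧
      ((g • w : ↥leechLattice) : GolayPt → ℤ) = Pi.single none 4 + Pi.single j (-(4 * s)) := by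
  have hx : sqNorm ((v + w : ↥leechLattice) : GolayPt → ℤ) = 64 := by
    rw [AddSubgroup.coe_add, Cfsg.Agent.Lib.Helper14.Leech.sqNorm_add, hv, hw, hd]; norm_num
  have hy : sqNorm ((v - w : ↥leechLattice) : GolayPt → ℤ) = 64 := by
    rw [AddSubgroup.coe_sub, Cfsg.Agent.Lib.Helper14.Leech.sqNorm_sub, hv, hw, hd]; norm_num
  obtain ⟨g, hg⟩ := co0_trans64 (v + w) v8 hx sqNorm_v8
  -- additivity of `g`
  have hadd : g • (v + w) = g • v + g • w := g.2.1 v w
  have hsub : g • (v - w) = g • v - g • w := co0_map_sub g.1 g.2 v w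
  -- the image of `v - w` lies in the standard cross
  have hcross : ((g • (v - w) : ↥leechLattice) : GolayPt → ℤ) ∈ cross (v8 : GolayPt → ℤ) := by
    refine ⟨(g • (v - w)).2, ?_, ((g • w : ↥leechLattice) : GolayPt → ℤ), (g • w).2, ?_⟩
    · rw [smul_coe, g.2.2, hy, sqNorm_v8]
    · rw [← hg, hadd, hsub, AddSubgroup.coe_add, AddSubgroup.coe_sub, two_nsmul]
      abel
  rw [cross_v8] at hcross
  obtain ⟨j, s8, hs8, hj⟩ := hcross
  -- orthogonality
  have hdot : dotInt ((g • (v + w) : ↥leechLattice) : GolayPt → ℤ)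
      ((g • (v - w) : ↥leechLattice) : GolayPt → ℤ) = 0 := by
    rw [smul_coe, smul_coe, dot_pres g.1 g.2]
    have h1 := Cfsg.Agent.Lib.Helper14.Leech.sqNorm_add
      ((v + w : ↥leechLattice) : GolayPt → ℤ) ((v - w : ↥leechLattice) : GolayPt → ℤ)
    have h2 : ((v + w : ↥leechLattice) : GolayPt → ℤ) + ((v - w : ↥leechLattice) : GolayPt → ℤ)
        = (v : GolayPt → ℤ) + (v : GolayPt → ℤ) := by
      rw [AddSubgroup.coe_add, AddSubgroup.coe_sub]; abel
    rw [h2, Cfsg.Agent.Lib.Helper14.Leech.sqNorm_add_self, hx, hy, hv] at h1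
    linarith
  rw [hg, hj, v8_coe, dotInt_single] at hdot
  have hjn : j ≠ none := by
    intro h
    rw [h, Pi.single_eq_same] at hdot
    rcases hs8 with rfl | rfl <;> norm_num at hdot
  -- solve for the images of `v` and `w`
  have e1 : ((g • v : ↥leechLattice) : GolayPt → ℤ) + ((g • w : ↥leechLattice) : GolayPt → ℤ)
      = Pi.single none 8 := by
    rw [← AddSubgroup.coe_add, ← hadd, hg, v8_coe]
  have e2 : ((g • v : ↥leechLattice) : GolayPt → ℤ) - ((g • w : ↥leechLattice) : GolayPt → ℤ)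
      = Pi.single j s8 := by
    rw [← AddSubgroup.coe_sub, ← hsub, hj]
  refine ⟨g, j, s8 / 8, hjn, by rcases hs8 with rfl | rfl <;> norm_num, ?_, ?_⟩
  · funext k
    have a1 := congrFun e1 k
    have a2 := congrFun e2 k
    rw [Pi.add_apply] at a1
    rw [Pi.sub_apply] at a2
    rw [Pi.add_apply]
    by_cases hk1 : k = none
    · have hk2 : k ≠ j := fun h => hjn (h ▸ hk1)
      rw [hk1] at a1 a2 ⊢
      rw [Pi.single_eq_same] at a1 ⊢
      rw [Pi.single_eq_of_ne (Ne.symm hjn)] at a2 ⊢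
      omega
    · rw [Pi.single_eq_of_ne hk1] at a1 ⊢
      by_cases hk2 : k = j
      · rw [hk2] at a1 a2 ⊢
        rw [Pi.single_eq_same] at a2 ⊢
        rcases hs8 with rfl | rfl <;> omega
      · rw [Pi.single_eq_of_ne hk2] at a2 ⊢
        omega
  · funext k
    have a1 := congrFun e1 k
    have a2 := congrFun e2 k
    rw [Pi.add_apply] at a1
    rw [Pi.sub_apply] at a2
    rw [Pi.add_apply]
    by_cases hk1 : k = none
    · have hk2 : k ≠ j := fun h => hjn (h ▸ hk1)
      rw [hk1] at a1 a2 ⊢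
      rw [Pi.single_eq_same] at a1 ⊢
      rw [Pi.single_eq_of_ne (Ne.symm hjn)] at a2 ⊢
      omega
    · rw [Pi.single_eq_of_ne hk1] at a1 ⊢
      by_cases hk2 : k = j
      · rw [hk2] at a1 a2 ⊢
        rw [Pi.single_eq_same] at a2 ⊢
        rcases hs8 with rfl | rfl <;> omega
      · rw [Pi.single_eq_of_ne hk2] at a2 ⊢
        omega

/-- a monomial element fixing `e_∞` and moving `s e_j` to `s' e_j'` -/
theorem exists_mono (j j' : GolayPt) (hj : j ≠ none) (hj' : j' ≠ none) (s s' : ℤ)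
    (hs : s = 1 ∨ s = -1) (hs' : s' = 1 ∨ s' = -1) :
    ∃ n : ↥Co0, ∀ (a : ℤ) (x : ↥leechLattice),
      (x : GolayPt → ℤ) = Pi.single none 4 + Pi.single j (a * s) →
      ((n • x : ↥leechLattice) : GolayPt → ℤ) = Pi.single none 4 + Pi.single j' (a * s') := by
  obtain ⟨σ, hσ, hσ1, hσ2⟩ := Cfsg.Agent.Lib.Helper3.Golay.exists_map_two
    (p := none) (p' := j) (q := none) (q' := j') (Ne.symm hj) (Ne.symm hj')
  -- the sign word
  obtain ⟨c, hc, hc1, hc2⟩ : ∃ c ∈ golayCode, (j' ∈ support₂ c ↔ s ≠ s') ∧ none ∉ support₂ c := by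
    by_cases hss : s = s'
    · refine ⟨0, Submodule.zero_mem _, ?_, ?_⟩
      · simp [support₂, hss]
      · simp [support₂]
    · obtain ⟨c, hc, h1, h2⟩ := exists_sep j' none hj'
      refine ⟨c, hc, ?_, ?_⟩
      · simp [support₂, h1, hss]
      · simp [support₂, h2]
  refine ⟨⟨mono ⟨σ, hσ⟩ ⟨c, hc⟩, mono_mem_Co0 _ _⟩, ?_⟩
  intro a x hx
  rw [smul_coe]
  show ((mono ⟨σ, hσ⟩ ⟨c, hc⟩ x : ↥leechLattice) : GolayPt → ℤ) = _
  rw [mono_apply, hx, signedPerm_add, signedPerm_single, signedPerm_single]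
  show (Pi.single (σ none) (if σ none ∈ support₂ c then (-4 : ℤ) else 4) : GolayPt → ℤ)
    + (Pi.single (σ j) (if σ j ∈ support₂ c then -(a * s) else a * s) : GolayPt → ℤ) = _
  rw [hσ1, hσ2, if_neg hc2]
  congr 2
  by_cases hss : s = s'
  · rw [if_neg (fun h => (hc1.mp h) hss), hss]
  · rw [if_pos (hc1.mpr hss)]
    rcases hs with rfl | rfl <;> rcases hs' with rfl | rfl <;> first | exact absurd rfl hss | ring

/-! ### the reference pair -/

/-- `4 e_∞ + 4 e_0` -/
def v0 : GolayPt → ℤ := Pi.single none 4 + Pi.single (some 0) 4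

/-- `4 e_∞ - 4 e_0` -/
def t0 : GolayPt → ℤ := Pi.single none 4 + Pi.single (some 0) (-4)

theorem dot_single_left (j : GolayPt) (a : ℤ) (x : GolayPt → ℤ) :
    dotInt (Pi.single j a) x = a * x j := by
  rw [dotInt_comm, dotInt_single, mul_comm]

theorem dot_v0 (x : GolayPt → ℤ) : dotInt v0 x = 4 * x none + 4 * x (some 0) := by
  unfold v0
  rw [dotInt_add_left, dot_single_left, dot_single_left]

theorem dot_t0 (x : GolayPt → ℤ) : dotInt t0 x = 4 * x none - 4 * x (some 0) := by
  unfold t0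
  rw [dotInt_add_left, dot_single_left, dot_single_left]
  ring

/-- vectors of shape `(±4, ±4, 0, …)` -/
theorem pair_mem (i j : GolayPt) (h : i ≠ j) (s t : ℤ) (hs : s = 1 ∨ s = -1)
    (ht : t = 1 ∨ t = -1) :
    (Pi.single i (4 * s) + Pi.single j (4 * t) : GolayPt → ℤ) ∈ leechLattice ∧
      sqNorm (Pi.single i (4 * s) + Pi.single j (4 * t) : GolayPt → ℤ) = 32 := by
  constructor
  · apply mem_even
    · intro k
      rw [Pi.add_apply, Pi.single_apply, Pi.single_apply]
      split_ifs <;> omega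
    · simp only [Pi.add_apply]
      rw [Finset.sum_add_distrib, Finset.sum_pi_single', Finset.sum_pi_single']
      simp only [Finset.mem_univ, if_true]
      rcases hs with rfl | rfl <;> rcases ht with rfl | rfl <;> norm_num
  · rw [Cfsg.Agent.Lib.Helper14.Leech.sqNorm_add, sqNorm_single, sqNorm_single, dotInt_single,
      Pi.single_eq_of_ne (Ne.symm h)]
    rcases hs with rfl | rfl <;> rcases ht with rfl | rfl <;> norm_num

theorem v0_mem : v0 ∈ leechLattice := by
  have := (pair_mem none (some 0) (by decide) 1 1 (Or.inl rfl) (Or.inl rfl)).1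
  simpa [v0] using this

theorem v0_norm : sqNorm v0 = 32 := by
  have := (pair_mem none (some 0) (by decide) 1 1 (Or.inl rfl) (Or.inl rfl)).2
  simpa [v0] using this

/-- an orthogonal pair of minimal vectors can be moved to the reference pair -/
theorem orth_normal (v t : ↥leechLattice) (hv : sqNorm (v : GolayPt → ℤ) = 32)
    (ht : sqNorm (t : GolayPt → ℤ) = 32)
    (hd : dotInt (v : GolayPt → ℤ) (t : GolayPt → ℤ) = 0) :
    ∃ g : ↥Co0, ((g • v : ↥leechLattice) : GolayPt → ℤ) = v0 ∧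
      ((g • t : ↥leechLattice) : GolayPt → ℤ) = t0 := by
  obtain ⟨g, j, s, hj, hs, hgv, hgt⟩ := normal_form v t hv ht hd
  obtain ⟨n, hn⟩ := exists_mono j (some 0) hj (by decide) s 1 hs (Or.inl rfl)
  refine ⟨n * g, ?_, ?_⟩
  · rw [mul_smul, hn 4 (g • v) hgv]
    unfold v0; norm_num
  · have h1 : ((g • t : ↥leechLattice) : GolayPt → ℤ)
        = Pi.single none 4 + Pi.single j ((-4) * s) := by
      rw [hgt]; congr 2; ring
    rw [mul_smul, hn (-4) (g • t) h1]
    unfold t0; norm_num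

/-- moving `(v, t)` to the reference pair, the image of a third vector has prescribed
coordinates at `∞` and `0` -/
theorem reduce (v w t : ↥leechLattice) (hv : sqNorm (v : GolayPt → ℤ) = 32)
    (ht : sqNorm (t : GolayPt → ℤ) = 32)
    (hd : dotInt (v : GolayPt → ℤ) (t : GolayPt → ℤ) = 0) :
    ∃ g : ↥Co0, ((g • v : ↥leechLattice) : GolayPt → ℤ) = v0 ∧
      4 * ((g • w : ↥leechLattice) : GolayPt → ℤ) none
        + 4 * ((g • w : ↥leechLattice) : GolayPt → ℤ) (some 0)
        = dotInt (v : GolayPt → ℤ) (w : GolayPt → ℤ) ∧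
      4 * ((g • w : ↥leechLattice) : GolayPt → ℤ) none
        - 4 * ((g • w : ↥leechLattice) : GolayPt → ℤ) (some 0)
        = dotInt (t : GolayPt → ℤ) (w : GolayPt → ℤ) := by
  obtain ⟨g, hgv, hgt⟩ := orth_normal v t hv ht hd
  refine ⟨g, hgv, ?_, ?_⟩
  · rw [← dot_v0, ← hgv, smul_coe, smul_coe, dot_pres g.1 g.2]
  · rw [← dot_t0, ← hgt, smul_coe, smul_coe, dot_pres g.1 g.2]

/-! ### minimal vectors with an entry `-4` at `∞` and `0` at `0` -/

theorem classify_m4 (x : GolayPt → ℤ) (hx : x ∈ leechLattice) (hn : sqNorm x = 32)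
    (h1 : x none = -4) (h2 : x (some 0) = 0) :
    ∃ (k : GolayPt) (s : ℤ), k ≠ none ∧ k ≠ some 0 ∧ (s = 1 ∨ s = -1) ∧
      x = Pi.single none (-4) + Pi.single k (4 * s) := by
  classical
  rcases classify x ((mem_leechLattice_iff x).mp hx) hn with
    ⟨c, hc, j, rfl⟩ | ⟨c, hc, h8, U, hU, hev, rfl⟩ | ⟨T, hT, U, hU, rfl⟩
  · exfalso
    have := PhiO_odd (c, j) none
    rw [h1] at this
    omega
  · exfalso
    rcases Psi2_cases ⟨support₂ c, U⟩ none with ⟨_, h⟩ | ⟨_, h⟩
    · rw [h1] at h; omega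
    · rw [h1] at h; omega
  · have hnT : none ∈ T := by
      by_contra h
      rw [Psi_apply, if_neg h] at h1
      omega
    have hnU : none ∈ U := by
      by_contra h
      rw [Psi_apply, if_pos hnT, if_neg h] at h1
      omega
    obtain ⟨a, b, hab, rfl⟩ := Finset.card_eq_two.mp hT
    -- the other element of `T`
    obtain ⟨k, hk, hTk⟩ : ∃ k, k ≠ none ∧ ({a, b} : Finset GolayPt) = {none, k} := by
      rw [Finset.mem_insert, Finset.mem_singleton] at hnT
      rcases hnT with h | h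
      · exact ⟨b, fun hb => hab (h.symm ▸ hb.symm), by rw [← h]⟩
      · exact ⟨a, fun ha => hab (ha.trans h), by rw [← h, Finset.pair_comm]⟩
    rw [hTk] at h2 hU ⊢
    have hk0 : k ≠ some 0 := by
      intro h
      rw [Psi_apply, h] at h2
      simp only [Finset.mem_insert, Finset.mem_singleton, or_true, if_true] at h2
      split_ifs at h2 <;> omega
    refine ⟨k, if k ∈ U then -1 else 1, hk, hk0, by split_ifs <;> simp, ?_⟩
    funext i
    rw [Psi_apply, Pi.add_apply, Pi.single_apply, Pi.single_apply]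
    by_cases hi1 : i = none
    · subst hi1
      simp [hnU, Ne.symm hk]
    · by_cases hi2 : i = k
      · subst hi2
        simp [hi1]
      · simp [hi1, hi2]

/-! ### monomial elements fixing `e_∞` and `e_0` -/

/-- a code word separating a point from `∞` and `0` -/
theorem sep3_aux : ∃ t1 t2 : ZMod 23, (qrWord t1 + qrWord t2) (some 1) ≠ 0 ∧
    (qrWord t1 + qrWord t2) none = 0 ∧ (qrWord t1 + qrWord t2) (some 0) = 0 := by
  decide

theorem exists_sep3 : ∃ c ∈ golayCode, c (some 1) ≠ 0 ∧ c none = 0 ∧ c (some 0) = 0 := by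
  obtain ⟨t1, t2, h⟩ := sep3_aux
  have hq : ∀ t, qrWord t ∈ golayCode := by
    intro t
    unfold golayCode
    exact Submodule.subset_span (Or.inl ⟨t, rfl⟩)
  exact ⟨qrWord t1 + qrWord t2, Submodule.add_mem _ (hq t1) (hq t2), h⟩

theorem inj3 (a b c : GolayPt) (hab : a ≠ b) (hac : a ≠ c) (hbc : b ≠ c) :
    ∀ i < 3, ∀ j < 3, (fun i : ℕ => if i = 0 then a else if i = 1 then b else c) i
      = (fun i : ℕ => if i = 0 then a else if i = 1 then b else c) j → i = j := by
  intro i hi j hj h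
  interval_cases i <;> interval_cases j <;> simp only [] at h <;> norm_num at h <;>
    first
    | rfl
    | exact absurd h hab
    | exact absurd h.symm hab
    | exact absurd h hac
    | exact absurd h.symm hac
    | exact absurd h hbc
    | exact absurd h.symm hbc

/-- a monomial element fixing `e_∞`, `e_0` and moving `s e_k` to `s' e_1` -/
theorem exists_mono3 (k : GolayPt) (hk1 : k ≠ none) (hk2 : k ≠ some 0) (s s' : ℤ)
    (hs : s = 1 ∨ s = -1) (hs' : s' = 1 ∨ s' = -1) :
    ∃ n : ↥Co0, ∀ (a b c : ℤ) (x : ↥leechLattice),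
      (x : GolayPt → ℤ) = Pi.single none a + Pi.single (some 0) b + Pi.single k (c * s) →
      ((n • x : ↥leechLattice) : GolayPt → ℤ)
        = Pi.single none a + Pi.single (some 0) b + Pi.single (some 1) (c * s') := by
  obtain ⟨σ, hσ, hσm⟩ := Cfsg.Agent.Lib.Helper3.Golay.exists_map
    (fun i => if i = 0 then none else if i = 1 then some 0 else k)
    (fun i => if i = 0 then none else if i = 1 then some 0 else some 1) 3 (by norm_num)
    (inj3 none (some 0) k (by decide) (Ne.symm hk1) (Ne.symm hk2))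
    (inj3 none (some 0) (some 1) (by decide) (by decide) (by decide))
  have hσ1 : σ none = none := by simpa using hσm 0 (by norm_num)
  have hσ2 : σ (some 0) = some 0 := by simpa using hσm 1 (by norm_num)
  have hσ3 : σ k = some 1 := by simpa using hσm 2 (by norm_num)
  obtain ⟨c, hc, hc1, hc2, hc3⟩ : ∃ c ∈ golayCode, ((some 1 : GolayPt) ∈ support₂ c ↔ s ≠ s') ∧
      none ∉ support₂ c ∧ (some 0 : GolayPt) ∉ support₂ c := by
    by_cases hss : s = s'
    · refine ⟨0, Submodule.zero_mem _, ?_, ?_, ?_⟩ <;> simp [support₂, hss]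
    · obtain ⟨c, hc, h1, h2, h3⟩ := exists_sep3
      refine ⟨c, hc, ?_, ?_, ?_⟩
      · simp [support₂, h1, hss]
      · simp [support₂, h2]
      · simp [support₂, h3]
  refine ⟨⟨mono ⟨σ, hσ⟩ ⟨c, hc⟩, mono_mem_Co0 _ _⟩, ?_⟩
  intro a b d x hx
  rw [smul_coe]
  show ((mono ⟨σ, hσ⟩ ⟨c, hc⟩ x : ↥leechLattice) : GolayPt → ℤ) = _
  rw [mono_apply, hx, signedPerm_add, signedPerm_add, signedPerm_single, signedPerm_single,
    signedPerm_single]
  show (Pi.single (σ none) (if σ none ∈ support₂ c then -a else a) : GolayPt → ℤ)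
    + (Pi.single (σ (some 0)) (if σ (some 0) ∈ support₂ c then -b else b) : GolayPt → ℤ)
    + (Pi.single (σ k) (if σ k ∈ support₂ c then -(d * s) else d * s) : GolayPt → ℤ) = _
  rw [hσ1, hσ2, hσ3, if_neg hc2, if_neg hc3]
  congr 2
  by_cases hss : s = s'
  · rw [if_neg (fun h => (hc1.mp h) hss), hss]
  · rw [if_pos (hc1.mpr hss)]
    rcases hs with rfl | rfl <;> rcases hs' with rfl | rfl <;> first | exact absurd rfl hss | ring

end Cfsg.Agent.Lib.Helper14.LeechPairs
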