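import Mathlib
import Cfsg.Prelude.Def_Sporadic_a
import Cfsg.Agent.Lib.Helper14.LeechPairs

set_option autoImplicit false

/-! Transitivity on pairs of minimal vectors with inner product `-16`. -/

namespace Cfsg.Agent.Lib.Helper14.LeechPairs

open Cfsg Cfsg.Agent.Lib.Helper14.Golay Cfsg.Agent.Lib.Helper14.Leech
  Cfsg.Agent.Lib.Helper14.LeechCount Cfsg.Agent.Lib.Helper14.LeechOrbit
  Cfsg.Agent.Lib.Helper14.LeechMono Cfsg.Agent.Lib.Helper14.Co0Center
  Cfsg.Agent.Lib.Helper14.Co0Order Cfsg.Agent.Lib.Helper14.LeechCross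
  Cfsg.Agent.Lib.Helper14.LeechMinCount

theorem dotInt_add_right (u x y : GolayPt → ℤ) : dotInt u (x + y) = dotInt u x + dotInt u y := by
  rw [dotInt_comm, dotInt_add_left, dotInt_comm x, dotInt_comm y]

theorem dotInt_sub_right (u x y : GolayPt → ℤ) : dotInt u (x - y) = dotInt u x - dotInt u y := by
  unfold dotInt
  rw [← Finset.sum_sub_distrib]
  refine Finset.sum_congr rfl fun i _ => ?_
  rw [Pi.sub_apply]; ring

theorem dotInt_sub_left (x y u : GolayPt → ℤ) : dotInt (x - y) u = dotInt x u - dotInt y u := by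
  rw [dotInt_comm, dotInt_sub_right, dotInt_comm u x, dotInt_comm u y]

/-- the auxiliary vector `-4 e_q + 4 s e_p` -/
theorem aux_m (q p : GolayPt) (hq : q = none ∨ q = some 0) (hp1 : p ≠ none) (hp2 : p ≠ some 0)
    (s : ℤ) (hs : s = 1 ∨ s = -1) (w : GolayPt → ℤ) :
    (Pi.single q (4 * (-1)) + Pi.single p (4 * s) : GolayPt → ℤ) ∈ leechLattice ∧
    sqNorm (Pi.single q (4 * (-1)) + Pi.single p (4 * s) : GolayPt → ℤ) = 32 ∧
    dotInt v0 (Pi.single q (4 * (-1)) + Pi.single p (4 * s) : GolayPt → ℤ) = -16 ∧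
    dotInt w (Pi.single q (4 * (-1)) + Pi.single p (4 * s) : GolayPt → ℤ)
      = -4 * w q + 4 * s * w p := by
  have hqp : q ≠ p := by
    rcases hq with rfl | rfl
    · exact Ne.symm hp1
    · exact Ne.symm hp2
  obtain ⟨h1, h2⟩ := pair_mem q p hqp (-1) s (Or.inr rfl) hs
  refine ⟨h1, h2, ?_, ?_⟩
  · rw [dot_v0, Pi.add_apply, Pi.add_apply, Pi.single_eq_of_ne (Ne.symm hp1),
      Pi.single_eq_of_ne (Ne.symm hp2)]
    rcases hq with rfl | rfl
    · rw [Pi.single_eq_same, Pi.single_eq_of_ne (by decide)]; norm_num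
    · rw [Pi.single_eq_same, Pi.single_eq_of_ne (by decide)]; norm_num
  · rw [dotInt_add_right, dotInt_single, dotInt_single]; ring

theorem PhiO_vals (c : GolayPt → ZMod 2) (k i : GolayPt) :
    (i = k ∧ (PhiO (c, k) i = 3 ∨ PhiO (c, k) i = -3)) ∨
    (i ≠ k ∧ (PhiO (c, k) i = 1 ∨ PhiO (c, k) i = -1)) := by
  rw [PhiO_apply]
  by_cases h : i = k
  · left
    refine ⟨h, ?_⟩
    rw [if_pos h]
    rcases val_cases (c i) with hv | hv <;> rw [hv] <;> norm_num
  · right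
    refine ⟨h, ?_⟩
    rw [if_neg h]
    rcases val_cases (c i) with hv | hv <;> rw [hv] <;> norm_num

theorem Psi_vals (a : ℤ) (T U : Finset GolayPt) (i : GolayPt) :
    (i ∈ T ∧ i ∈ U ∧ Psi a ⟨T, U⟩ i = -a) ∨ (i ∈ T ∧ i ∉ U ∧ Psi a ⟨T, U⟩ i = a) ∨
      (i ∉ T ∧ Psi a ⟨T, U⟩ i = 0) := by
  rw [Psi_apply]
  by_cases h : i ∈ T
  · by_cases h' : i ∈ U
    · left; exact ⟨h, h', by rw [if_pos h, if_pos h']⟩
    · right; left; exact ⟨h, h', by rw [if_pos h, if_neg h']⟩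
  · right; right; exact ⟨h, by rw [if_neg h]⟩

/-- the choice of `q`, `p`, `s` -/
theorem exists_qps (w : GolayPt → ℤ) (hw : w ∈ leechLattice) (hn : sqNorm w = 32)
    (hd : 4 * w none + 4 * w (some 0) = -16) :
    ∃ (q p : GolayPt) (s : ℤ), (q = none ∨ q = some 0) ∧ p ≠ none ∧ p ≠ some 0 ∧
      (s = 1 ∨ s = -1) ∧ -4 * w q + 4 * s * w p = 16 := by
  classical
  rcases classify w ((mem_leechLattice_iff w).mp hw) hn with
    ⟨c, hc, k, rfl⟩ | ⟨c, hc, h8, U, hU, hev, rfl⟩ | ⟨T, hT, U, hU, rfl⟩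
  · -- odd type
    have h1 : (some 1 : GolayPt) ≠ none := by decide
    have h2 : (some 1 : GolayPt) ≠ some 0 := by decide
    rcases PhiO_vals c k none with ⟨hk, ha⟩ | ⟨hk, ha⟩
    · -- `k = ∞`
      have hk0 : (some 0 : GolayPt) ≠ k := by rw [← hk]; decide
      have hk1 : (some 1 : GolayPt) ≠ k := by rw [← hk]; decide
      rcases PhiO_vals c k (some 0) with ⟨hk', _⟩ | ⟨_, hb⟩
      · exact absurd hk' hk0
      rcases PhiO_vals c k (some 1) with ⟨hk', _⟩ | ⟨_, hc1⟩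
      · exact absurd hk' hk1
      have ha' : PhiO (c, k) none = -3 := by rcases ha with h | h <;> rcases hb with h' | h' <;> omega
      refine ⟨none, some 1, PhiO (c, k) (some 1), Or.inl rfl, h1, h2, hc1, ?_⟩
      rw [ha']
      rcases hc1 with h | h <;> rw [h] <;> norm_num
    · rcases PhiO_vals c k (some 0) with ⟨hk', hb⟩ | ⟨_, hb⟩
      · -- `k = 0`
        have hk1 : (some 1 : GolayPt) ≠ k := by rw [← hk']; decide
        rcases PhiO_vals c k (some 1) with ⟨hk'', _⟩ | ⟨_, hc1⟩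
        · exact absurd hk'' hk1
        have hb' : PhiO (c, k) (some 0) = -3 := by
          rcases ha with h | h <;> rcases hb with h' | h' <;> omega
        refine ⟨some 0, some 1, PhiO (c, k) (some 1), Or.inr rfl, h1, h2, hc1, ?_⟩
        rw [hb']
        rcases hc1 with h | h <;> rw [h] <;> norm_num
      · exfalso
        rcases ha with h | h <;> rcases hb with h' | h' <;> omega
  · -- octad type
    have ha : none ∈ support₂ c ∧ none ∈ U ∧ Psi 2 ⟨support₂ c, U⟩ none = -2 := by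
      rcases Psi_vals 2 (support₂ c) U none with h | ⟨_, _, h⟩ | ⟨_, h⟩
      · exact h
      · rcases Psi_vals 2 (support₂ c) U (some 0) with ⟨_, _, h'⟩ | ⟨_, _, h'⟩ | ⟨_, h'⟩ <;> omega
      · rcases Psi_vals 2 (support₂ c) U (some 0) with ⟨_, _, h'⟩ | ⟨_, _, h'⟩ | ⟨_, h'⟩ <;> omega
    obtain ⟨p, hp⟩ : (((support₂ c).erase none).erase (some 0)).Nonempty := by
      rw [← Finset.card_pos]
      have e1 := Finset.card_erase_of_mem ha.1
      have e2 := Finset.pred_card_le_card_erase (s := (support₂ c).erase none) (a := some 0)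
      omega
    rw [Finset.mem_erase, Finset.mem_erase] at hp
    obtain ⟨hp2, hp1, hpT⟩ := hp
    rcases Psi_vals 2 (support₂ c) U p with ⟨_, _, h⟩ | ⟨_, _, h⟩ | ⟨h, _⟩
    · refine ⟨none, p, -1, Or.inl rfl, hp1, hp2, Or.inr rfl, ?_⟩
      rw [ha.2.2, h]; norm_num
    · refine ⟨none, p, 1, Or.inl rfl, hp1, hp2, Or.inl rfl, ?_⟩
      rw [ha.2.2, h]; norm_num
    · exact absurd hpT h
  · -- type `(4, 4, 0, …)`
    obtain ⟨p, hp⟩ : (Finset.univ \ (T ∪ {none, some 0})).Nonempty := by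
      rw [← Finset.card_pos, Finset.card_sdiff_of_subset (Finset.subset_univ _), Finset.card_univ,
        card_golayPt]
      have e1 := Finset.card_union_le T {none, some 0}
      have e2 : ({none, some 0} : Finset GolayPt).card = 2 := by decide
      omega
    rw [Finset.mem_sdiff, Finset.mem_union, Finset.mem_insert, Finset.mem_singleton] at hp
    have hpT : p ∉ T := fun h => hp.2 (Or.inl h)
    have hp1 : p ≠ none := fun h => hp.2 (Or.inr (Or.inl h))
    have hp2 : p ≠ some 0 := fun h => hp.2 (Or.inr (Or.inr h))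
    have hp0 : Psi 4 ⟨T, U⟩ p = 0 := by rw [Psi_apply, if_neg hpT]
    rcases Psi_vals 4 T U none with ⟨_, _, h⟩ | ⟨_, _, h⟩ | ⟨_, h⟩
    · refine ⟨none, p, 1, Or.inl rfl, hp1, hp2, Or.inl rfl, ?_⟩
      rw [h, hp0]; norm_num
    · rcases Psi_vals 4 T U (some 0) with ⟨_, _, h'⟩ | ⟨_, _, h'⟩ | ⟨_, h'⟩ <;> omega
    · rcases Psi_vals 4 T U (some 0) with ⟨_, _, h'⟩ | ⟨_, _, h'⟩ | ⟨_, h'⟩
      · refine ⟨some 0, p, 1, Or.inr rfl, hp1, hp2, Or.inl rfl, ?_⟩
        rw [h', hp0]; norm_num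
      · omega
      · omega

/-- the reference vector `-4 e_∞ + 4 e_1` -/
def w16 : GolayPt → ℤ := Pi.single none (-4) + Pi.single (some 1) 4

/-- every pair of minimal vectors with inner product `-16` can be moved to `(v0, w16)` -/
theorem pair16 (v w : ↥leechLattice) (hv : sqNorm (v : GolayPt → ℤ) = 32)
    (hw : sqNorm (w : GolayPt → ℤ) = 32)
    (hd : dotInt (v : GolayPt → ℤ) (w : GolayPt → ℤ) = -16) :
    ∃ g : ↥Co0, ((g • v : ↥leechLattice) : GolayPt → ℤ) = v0 ∧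
      ((g • w : ↥leechLattice) : GolayPt → ℤ) = w16 := by
  -- step 1: move `v` to `v0`
  obtain ⟨g1, hg1⟩ := co0_trans32 v ⟨v0, v0_mem⟩ hv v0_norm
  set w1 : ↥leechLattice := g1 • w with hw1
  have hw1n : sqNorm (w1 : GolayPt → ℤ) = 32 := by rw [hw1, smul_coe, g1.2.2, hw]
  have hd1 : dotInt v0 (w1 : GolayPt → ℤ) = -16 := by
    have : ((g1 • v : ↥leechLattice) : GolayPt → ℤ) = v0 := by rw [hg1]
    rw [← this, hw1, smul_coe, smul_coe, dot_pres g1.1 g1.2, hd]
  -- step 2: the auxiliary orthogonal vector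
  have hd1' := hd1
  rw [dot_v0] at hd1'
  obtain ⟨q, p, s, hq, hp1, hp2, hs, hqps⟩ := exists_qps w1.1 w1.2 hw1n hd1'
  obtain ⟨hm, hmn, hmv, hmw⟩ := aux_m q p hq hp1 hp2 s hs (w1 : GolayPt → ℤ)
  rw [hqps] at hmw
  set m : ↥leechLattice := ⟨_, hm⟩ with hmdef
  set t : ↥leechLattice := m - w1 with htdef
  have htn : sqNorm (t : GolayPt → ℤ) = 32 := by
    rw [htdef, AddSubgroup.coe_sub, Cfsg.Agent.Lib.Helper14.Leech.sqNorm_sub, hw1n]
    show sqNorm (m : GolayPt → ℤ) + 32 - 2 * dotInt (m : GolayPt → ℤ) (w1 : GolayPt → ℤ) = 32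
    rw [dotInt_comm, hmw]
    show sqNorm (Pi.single q (4 * (-1)) + Pi.single p (4 * s) : GolayPt → ℤ) + 32 - 2 * 16 = 32
    rw [hmn]; norm_num
  have htv : dotInt v0 (t : GolayPt → ℤ) = 0 := by
    rw [htdef, AddSubgroup.coe_sub, dotInt_sub_right, hd1]
    show dotInt v0 (Pi.single q (4 * (-1)) + Pi.single p (4 * s) : GolayPt → ℤ) - -16 = 0
    rw [hmv]; norm_num
  have htw : dotInt (t : GolayPt → ℤ) (w1 : GolayPt → ℤ) = -16 := by
    rw [htdef, AddSubgroup.coe_sub, dotInt_sub_left, dotInt_self, hw1n]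
    show dotInt (m : GolayPt → ℤ) (w1 : GolayPt → ℤ) - 32 = -16
    rw [dotInt_comm, hmw]; norm_num
  -- step 3: move `(v0, t)` to the reference pair
  obtain ⟨g2, hg2v, hg2a, hg2b⟩ := reduce ⟨v0, v0_mem⟩ w1 t v0_norm htn htv
  rw [hd1] at hg2a
  rw [htw] at hg2b
  have hx1 : ((g2 • w1 : ↥leechLattice) : GolayPt → ℤ) none = -4 := by omega
  have hx2 : ((g2 • w1 : ↥leechLattice) : GolayPt → ℤ) (some 0) = 0 := by omega
  obtain ⟨k, s', hk1, hk2, hs', hform⟩ := classify_m4 _ (g2 • w1).2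
    (by rw [smul_coe, g2.2.2, hw1n]) hx1 hx2
  -- step 4: a monomial element
  obtain ⟨n, hn⟩ := exists_mono3 k hk1 hk2 s' 1 hs' (Or.inl rfl)
  refine ⟨n * g2 * g1, ?_, ?_⟩
  · rw [mul_smul, mul_smul, hg1]
    have h0 : ((g2 • (⟨v0, v0_mem⟩ : ↥leechLattice) : ↥leechLattice) : GolayPt → ℤ)
        = Pi.single none 4 + Pi.single (some 0) 4 + Pi.single k (0 * s') := by
      rw [hg2v]; unfold v0; simp
    rw [hn 4 4 0 _ h0]
    unfold v0; simp
  · rw [mul_smul, mul_smul]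
    have h0 : ((g2 • w1 : ↥leechLattice) : GolayPt → ℤ)
        = Pi.single none (-4) + Pi.single (some 0) 0 + Pi.single k (4 * s') := by
      rw [hform]; simp
    rw [← hw1, hn (-4) 0 4 _ h0]
    unfold w16; simp

end Cfsg.Agent.Lib.Helper14.LeechPairs
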