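import Mathlib
import Cfsg.Prelude.Def_Sporadic_a
import Cfsg.Agent.Lib.Helper14.LeechPairs
import Cfsg.Agent.Lib.Helper14.LeechPairs16

set_option autoImplicit false

/-! Transitivity on pairs of minimal vectors with inner product `-8`. -/

namespace Cfsg.Agent.Lib.Helper14.LeechPairs

open Cfsg Cfsg.Agent.Lib.Helper14.Golay Cfsg.Agent.Lib.Helper14.Leech
  Cfsg.Agent.Lib.Helper14.LeechCount Cfsg.Agent.Lib.Helper14.LeechOrbit
  Cfsg.Agent.Lib.Helper14.LeechMono Cfsg.Agent.Lib.Helper14.Co0Center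
  Cfsg.Agent.Lib.Helper14.Co0Order Cfsg.Agent.Lib.Helper14.LeechCross
  Cfsg.Agent.Lib.Helper14.LeechMinCount

/-- the auxiliary vector `4 s1 e_i + 4 s2 e_j` away from `∞` and `0` -/
theorem aux_t (i j : GolayPt) (hi1 : i ≠ none) (hi2 : i ≠ some 0) (hj1 : j ≠ none)
    (hj2 : j ≠ some 0) (hij : i ≠ j) (s1 s2 : ℤ) (hs1 : s1 = 1 ∨ s1 = -1)
    (hs2 : s2 = 1 ∨ s2 = -1) (w : GolayPt → ℤ) :
    (Pi.single i (4 * s1) + Pi.single j (4 * s2) : GolayPt → ℤ) ∈ leechLattice ∧
    sqNorm (Pi.single i (4 * s1) + Pi.single j (4 * s2) : GolayPt → ℤ) = 32 ∧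
    dotInt v0 (Pi.single i (4 * s1) + Pi.single j (4 * s2) : GolayPt → ℤ) = 0 ∧
    dotInt (Pi.single i (4 * s1) + Pi.single j (4 * s2) : GolayPt → ℤ) w
      = 4 * s1 * w i + 4 * s2 * w j := by
  obtain ⟨h1, h2⟩ := pair_mem i j hij s1 s2 hs1 hs2
  refine ⟨h1, h2, ?_, ?_⟩
  · rw [dot_v0, Pi.add_apply, Pi.add_apply, Pi.single_eq_of_ne (Ne.symm hi1),
      Pi.single_eq_of_ne (Ne.symm hi2), Pi.single_eq_of_ne (Ne.symm hj1),
      Pi.single_eq_of_ne (Ne.symm hj2)]
    norm_num
  · rw [dotInt_add_left, dot_single_left, dot_single_left]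

theorem t0_facts (w : GolayPt → ℤ) :
    t0 ∈ leechLattice ∧ sqNorm t0 = 32 ∧ dotInt v0 t0 = 0 ∧
      dotInt t0 w = 4 * w none - 4 * w (some 0) := by
  obtain ⟨h1, h2⟩ := pair_mem none (some 0) (by decide) 1 (-1) (Or.inl rfl) (Or.inr rfl)
  have e : (Pi.single none (4 * 1) + Pi.single (some 0) (4 * (-1)) : GolayPt → ℤ) = t0 := by
    unfold t0; norm_num
  rw [e] at h1 h2
  refine ⟨h1, h2, ?_, dot_t0 w⟩
  rw [dot_v0]
  unfold t0
  rw [Pi.add_apply, Pi.add_apply, Pi.single_eq_same, Pi.single_eq_same,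
    Pi.single_eq_of_ne (by decide), Pi.single_eq_of_ne (by decide)]
  norm_num

/-- an orthogonal auxiliary vector -/
theorem exists_t8 (w : GolayPt → ℤ) (hw : w ∈ leechLattice) (hn : sqNorm w = 32)
    (hd : 4 * w none + 4 * w (some 0) = -8) :
    ∃ t ∈ leechLattice, sqNorm t = 32 ∧ dotInt v0 t = 0 ∧ dotInt t w = 0 := by
  classical
  have h11 : (some 1 : GolayPt) ≠ none := by decide
  have h12 : (some 1 : GolayPt) ≠ some 0 := by decide
  have h21 : (some 2 : GolayPt) ≠ none := by decide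
  have h22 : (some 2 : GolayPt) ≠ some 0 := by decide
  have h1221 : (some 1 : GolayPt) ≠ some 2 := by decide
  rcases classify w ((mem_leechLattice_iff w).mp hw) hn with
    ⟨c, hc, k, rfl⟩ | ⟨c, hc, h8, U, hU, hev, rfl⟩ | ⟨T, hT, U, hU, rfl⟩
  · -- odd type
    -- the case where both coordinates are `-1`
    by_cases hboth : PhiO (c, k) none = PhiO (c, k) (some 0)
    · obtain ⟨e1, e2, e3, e4⟩ := t0_facts (PhiO (c, k))
      exact ⟨t0, e1, e2, e3, by rw [e4, hboth]; ring⟩
    -- otherwise `k ∈ {∞, 0}` and the points `1`, `2` carry `±1`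
    have hk : k = none ∨ k = some 0 := by
      rcases PhiO_vals c k none with ⟨hk, _⟩ | ⟨_, ha⟩
      · exact Or.inl hk.symm
      · rcases PhiO_vals c k (some 0) with ⟨hk, _⟩ | ⟨_, hb⟩
        · exact Or.inr hk.symm
        · exfalso
          apply hboth
          rcases ha with h | h <;> rcases hb with h' | h' <;> omega
    have hk1 : (some 1 : GolayPt) ≠ k := by rcases hk with rfl | rfl <;> decide
    have hk2 : (some 2 : GolayPt) ≠ k := by rcases hk with rfl | rfl <;> decide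
    have hv1 : PhiO (c, k) (some 1) = 1 ∨ PhiO (c, k) (some 1) = -1 := by
      rcases PhiO_vals c k (some 1) with ⟨h, _⟩ | ⟨_, h⟩
      · exact absurd h hk1
      · exact h
    have hv2 : PhiO (c, k) (some 2) = 1 ∨ PhiO (c, k) (some 2) = -1 := by
      rcases PhiO_vals c k (some 2) with ⟨h, _⟩ | ⟨_, h⟩
      · exact absurd h hk2
      · exact h
    have hs2 : -(PhiO (c, k) (some 1) * PhiO (c, k) (some 2)) = 1 ∨
        -(PhiO (c, k) (some 1) * PhiO (c, k) (some 2)) = -1 := by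
      rcases hv1 with h | h <;> rcases hv2 with h' | h' <;> rw [h, h'] <;> norm_num
    obtain ⟨e1, e2, e3, e4⟩ := aux_t (some 1) (some 2) h11 h12 h21 h22 h1221 1
      (-(PhiO (c, k) (some 1) * PhiO (c, k) (some 2))) (Or.inl rfl) hs2 (PhiO (c, k))
    refine ⟨_, e1, e2, e3, ?_⟩
    rw [e4]
    rcases hv1 with h | h <;> rcases hv2 with h' | h' <;> rw [h, h'] <;> norm_num
  · -- octad type: two points off the octad
    obtain ⟨i, hi, j, hj, hij⟩ : ∃ i ∈ Finset.univ \ (support₂ c ∪ {none, some 0}),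
        ∃ j ∈ Finset.univ \ (support₂ c ∪ {none, some 0}), i ≠ j := by
      rw [← Finset.one_lt_card]
      rw [Finset.card_sdiff_of_subset (Finset.subset_univ _), Finset.card_univ, card_golayPt]
      have e1 := Finset.card_union_le (support₂ c) {none, some 0}
      have e2 : ({none, some 0} : Finset GolayPt).card = 2 := by decide
      omega
    rw [Finset.mem_sdiff, Finset.mem_union, Finset.mem_insert, Finset.mem_singleton] at hi hj
    have hiT : i ∉ support₂ c := fun h => hi.2 (Or.inl h)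
    have hi1 : i ≠ none := fun h => hi.2 (Or.inr (Or.inl h))
    have hi2 : i ≠ some 0 := fun h => hi.2 (Or.inr (Or.inr h))
    have hjT : j ∉ support₂ c := fun h => hj.2 (Or.inl h)
    have hj1 : j ≠ none := fun h => hj.2 (Or.inr (Or.inl h))
    have hj2 : j ≠ some 0 := fun h => hj.2 (Or.inr (Or.inr h))
    obtain ⟨e1, e2, e3, e4⟩ := aux_t i j hi1 hi2 hj1 hj2 hij 1 1 (Or.inl rfl) (Or.inl rfl)
      (Psi 2 ⟨support₂ c, U⟩)
    refine ⟨_, e1, e2, e3, ?_⟩
    rw [e4, Psi_apply, Psi_apply, if_neg hiT, if_neg hjT]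
    norm_num
  · -- type `(4, 4, 0, …)` is impossible
    exfalso
    rcases Psi_vals 4 T U none with ⟨_, _, h⟩ | ⟨_, _, h⟩ | ⟨_, h⟩ <;>
      rcases Psi_vals 4 T U (some 0) with ⟨_, _, h'⟩ | ⟨_, _, h'⟩ | ⟨_, h'⟩ <;> omega

/-- minimal vectors with entries `-1` at `∞` and at `0` -/
theorem classify_m1 (x : GolayPt → ℤ) (hx : x ∈ leechLattice) (hn : sqNorm x = 32)
    (h1 : x none = -1) (h2 : x (some 0) = -1) :
    ∃ c ∈ golayCode, ∃ k : GolayPt, k ≠ none ∧ k ≠ some 0 ∧ (c none).val = 1 ∧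
      (c (some 0)).val = 1 ∧ x = PhiO (c, k) := by
  classical
  rcases classify x ((mem_leechLattice_iff x).mp hx) hn with
    ⟨c, hc, k, rfl⟩ | ⟨c, hc, h8, U, hU, hev, rfl⟩ | ⟨T, hT, U, hU, rfl⟩
  · have hk1 : k ≠ none := by
      rintro rfl
      rcases PhiO_vals c none none with ⟨_, h⟩ | ⟨h, _⟩
      · omega
      · exact h rfl
    have hk2 : k ≠ some 0 := by
      rintro rfl
      rcases PhiO_vals c (some 0) (some 0) with ⟨_, h⟩ | ⟨h, _⟩
      · omega
      · exact h rfl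
    refine ⟨c, hc, k, hk1, hk2, ?_, ?_, rfl⟩
    · rw [PhiO_apply, if_neg (Ne.symm hk1)] at h1
      rcases val_cases (c none) with h | h
      · rw [h] at h1; norm_num at h1
      · exact h
    · rw [PhiO_apply, if_neg (Ne.symm hk2)] at h2
      rcases val_cases (c (some 0)) with h | h
      · rw [h] at h2; norm_num at h2
      · exact h
  · exfalso
    rcases Psi_vals 2 (support₂ c) U none with ⟨_, _, h⟩ | ⟨_, _, h⟩ | ⟨_, h⟩ <;> omega
  · exfalso
    rcases Psi_vals 4 T U none with ⟨_, _, h⟩ | ⟨_, _, h⟩ | ⟨_, h⟩ <;> omega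

/-- the reference vector `(-1, …, -1, 3, -1, …)` with `3` at the point `1` -/
def w8 : GolayPt → ℤ := fun i => if i = some 1 then 3 else -1

theorem PhiO_one (k : GolayPt) (i : GolayPt) :
    PhiO (1, k) i = if i = k then 3 else -1 := by
  rw [PhiO_apply]
  have : (((1 : GolayPt → ZMod 2) i).val : ℤ) = 1 := by
    show (((1 : ZMod 2)).val : ℤ) = 1
    rfl
  rw [this]
  split_ifs <;> norm_num

/-- the sign change by `c + 1` followed by a permutation -/
theorem exists_mono8 (c : GolayPt → ZMod 2) (hc : c ∈ golayCode) (k : GolayPt) (hk1 : k ≠ none)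
    (hk2 : k ≠ some 0) (hc1 : (c none).val = 1) (hc2 : (c (some 0)).val = 1) :
    ∃ n : ↥Co0, (∀ x : ↥leechLattice, (x : GolayPt → ℤ) = v0 →
        ((n • x : ↥leechLattice) : GolayPt → ℤ) = v0) ∧
      ∀ x : ↥leechLattice, (x : GolayPt → ℤ) = PhiO (c, k) →
        ((n • x : ↥leechLattice) : GolayPt → ℤ) = w8 := by
  obtain ⟨σ, hσ, hσm⟩ := Cfsg.Agent.Lib.Helper3.Golay.exists_map
    (fun i => if i = 0 then none else if i = 1 then some 0 else k)
    (fun i => if i = 0 then none else if i = 1 then some 0 else some 1) 3 (by norm_num)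
    (inj3 none (some 0) k (by decide) (Ne.symm hk1) (Ne.symm hk2))
    (inj3 none (some 0) (some 1) (by decide) (by decide) (by decide))
  have hσ1 : σ none = none := by simpa using hσm 0 (by norm_num)
  have hσ2 : σ (some 0) = some 0 := by simpa using hσm 1 (by norm_num)
  have hσ3 : σ k = some 1 := by simpa using hσm 2 (by norm_num)
  have hC : c + 1 ∈ golayCode := Submodule.add_mem _ hc one_mem_golay
  have hCn : none ∉ support₂ (c + 1) := by
    rw [notMem_support₂_iff]
    have := val_add_one (c none)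
    rw [hc1] at this
    have h' : (((c + 1) none).val : ℤ) = 0 := by
      show (((c none + 1 : ZMod 2)).val : ℤ) = 0
      rw [this]; norm_num
    exact_mod_cast h'
  have hC0 : (some 0 : GolayPt) ∉ support₂ (c + 1) := by
    rw [notMem_support₂_iff]
    have := val_add_one (c (some 0))
    rw [hc2] at this
    have h' : (((c + 1) (some 0)).val : ℤ) = 0 := by
      show (((c (some 0) + 1 : ZMod 2)).val : ℤ) = 0
      rw [this]; norm_num
    exact_mod_cast h'
  -- the sign change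
  let n1 : ↥Co0 := ⟨mono 1 ⟨c + 1, hC⟩, mono_mem_Co0 _ _⟩
  -- the permutation
  let n2 : ↥Co0 := ⟨mono ⟨σ, hσ⟩ ⟨0, Submodule.zero_mem _⟩, mono_mem_Co0 _ _⟩
  have hn1 : ∀ x : ↥leechLattice, ∀ i, ((n1 • x : ↥leechLattice) : GolayPt → ℤ) i
      = if i ∈ support₂ (c + 1) then -(x : GolayPt → ℤ) i else (x : GolayPt → ℤ) i := by
    intro x i
    rw [smul_coe]
    show ((mono 1 ⟨c + 1, hC⟩ x : ↥leechLattice) : GolayPt → ℤ) i = _
    rw [mono_apply, signedPerm_apply]
    rfl
  have hn2 : ∀ x : ↥leechLattice, ∀ i, ((n2 • x : ↥leechLattice) : GolayPt → ℤ) i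
      = (x : GolayPt → ℤ) (σ.symm i) := by
    intro x i
    rw [smul_coe]
    show ((mono ⟨σ, hσ⟩ ⟨0, Submodule.zero_mem _⟩ x : ↥leechLattice) : GolayPt → ℤ) i = _
    rw [mono_apply, signedPerm_apply]
    have : i ∉ support₂ (0 : GolayPt → ZMod 2) := by simp [support₂]
    rw [if_neg this]
  have hσs1 : σ.symm none = none := by rw [Equiv.symm_apply_eq, hσ1]
  have hσs2 : σ.symm (some 0) = some 0 := by rw [Equiv.symm_apply_eq, hσ2]
  refine ⟨n2 * n1, ?_, ?_⟩
  · intro x hx
    funext i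
    rw [mul_smul, hn2, hn1, hx]
    by_cases hi : σ.symm i ∈ support₂ (c + 1)
    · rw [if_pos hi]
      have h1 : σ.symm i ≠ none := fun h => hCn (h ▸ hi)
      have h2 : σ.symm i ≠ some 0 := fun h => hC0 (h ▸ hi)
      have h3 : i ≠ none := fun h => h1 (by rw [h, hσs1])
      have h4 : i ≠ some 0 := fun h => h2 (by rw [h, hσs2])
      unfold v0
      simp [Pi.single_apply, h1, h2, h3, h4]
    · rw [if_neg hi]
      unfold v0
      by_cases h3 : i = none
      · rw [h3, hσs1]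
      · by_cases h4 : i = some 0
        · rw [h4, hσs2]
        · have h1 : σ.symm i ≠ none := fun h => h3 (by rw [← hσ1, ← h]; simp)
          have h2 : σ.symm i ≠ some 0 := fun h => h4 (by rw [← hσ2, ← h]; simp)
          simp [Pi.single_apply, h1, h2, h3, h4]
  · intro x hx
    funext i
    rw [mul_smul, hn2, hn1, hx]
    have key : ∀ j, (if j ∈ support₂ (c + 1) then -PhiO (c, k) j else PhiO (c, k) j)
        = if j = k then 3 else -1 := by
      intro j
      rw [PhiO_apply]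
      by_cases hj : j ∈ support₂ (c + 1)
      · rw [if_pos hj]
        have h1 := (mem_support₂_iff (c + 1) j).mp hj
        have h2 := val_add_one (c j)
        have h3 : (((c + 1) j).val : ℤ) = 1 := by exact_mod_cast h1
        have h4 : (((c j + 1 : ZMod 2)).val : ℤ) = 1 := h3
        rw [h2] at h4
        have h5 : (((c j).val : ℕ) : ℤ) = 0 := by omega
        rw [h5]
        split_ifs <;> norm_num
      · rw [if_neg hj]
        have h1 := (notMem_support₂_iff (c + 1) j).mp hj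
        have h2 := val_add_one (c j)
        have h3 : (((c + 1) j).val : ℤ) = 0 := by exact_mod_cast h1
        have h4 : (((c j + 1 : ZMod 2)).val : ℤ) = 0 := h3
        rw [h2] at h4
        have h5 : (((c j).val : ℕ) : ℤ) = 1 := by omega
        rw [h5]
        split_ifs <;> norm_num
    rw [key]
    unfold w8
    by_cases hi : i = some 1
    · rw [if_pos hi, if_pos]
      rw [Equiv.symm_apply_eq, hσ3, hi]
    · rw [if_neg hi, if_neg]
      intro h
      apply hi
      rw [← hσ3, ← h]; simp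

/-- every pair of minimal vectors with inner product `-8` can be moved to `(v0, w8)` -/
theorem pair8 (v w : ↥leechLattice) (hv : sqNorm (v : GolayPt → ℤ) = 32)
    (hw : sqNorm (w : GolayPt → ℤ) = 32)
    (hd : dotInt (v : GolayPt → ℤ) (w : GolayPt → ℤ) = -8) :
    ∃ g : ↥Co0, ((g • v : ↥leechLattice) : GolayPt → ℤ) = v0 ∧
      ((g • w : ↥leechLattice) : GolayPt → ℤ) = w8 := by
  -- step 1: move `v` to `v0`
  obtain ⟨g1, hg1⟩ := co0_trans32 v ⟨v0, v0_mem⟩ hv v0_norm
  set w1 : ↥leechLattice := g1 • w with hw1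
  have hw1n : sqNorm (w1 : GolayPt → ℤ) = 32 := by rw [hw1, smul_coe, g1.2.2, hw]
  have hd1 : dotInt v0 (w1 : GolayPt → ℤ) = -8 := by
    have : ((g1 • v : ↥leechLattice) : GolayPt → ℤ) = v0 := by rw [hg1]
    rw [← this, hw1, smul_coe, smul_coe, dot_pres g1.1 g1.2, hd]
  -- step 2: the auxiliary orthogonal vector
  have hd1' := hd1
  rw [dot_v0] at hd1'
  obtain ⟨t, ht, htn, htv, htw⟩ := exists_t8 w1.1 w1.2 hw1n hd1'
  -- step 3: move `(v0, t)` to the reference pair
  obtain ⟨g2, hg2v, hg2a, hg2b⟩ := reduce ⟨v0, v0_mem⟩ w1 ⟨t, ht⟩ v0_norm htn htv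
  rw [hd1] at hg2a
  rw [htw] at hg2b
  have hx1 : ((g2 • w1 : ↥leechLattice) : GolayPt → ℤ) none = -1 := by omega
  have hx2 : ((g2 • w1 : ↥leechLattice) : GolayPt → ℤ) (some 0) = -1 := by omega
  obtain ⟨c, hc, k, hk1, hk2, hc1, hc2, hform⟩ := classify_m1 _ (g2 • w1).2
    (by rw [smul_coe, g2.2.2, hw1n]) hx1 hx2
  -- step 4: a monomial element
  obtain ⟨n, hnv, hnw⟩ := exists_mono8 c hc k hk1 hk2 hc1 hc2
  refine ⟨n * g2 * g1, ?_, ?_⟩
  · rw [mul_smul, mul_smul, hg1]
    exact hnv _ hg2v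
  · rw [mul_smul, mul_smul, ← hw1]
    exact hnw _ hform

end Cfsg.Agent.Lib.Helper14.LeechPairs
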