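import Mathlib
import Cfsg.Prelude.Def_Sporadic_a
import Cfsg.Agent.Lib.Helper14.LeechPairs
import Cfsg.Agent.Lib.Helper14.LeechPairs16
import Cfsg.Agent.Lib.Helper14.LeechPairs8
import Cfsg.Agent.Lib.Helper14.LeechCount48
import Cfsg.Agent.Lib.Helper3.Golay.Perm

set_option autoImplicit false

/-! Transitivity on pairs (vector of norm 48, minimal vector) with inner product `-16`. -/

namespace Cfsg.Agent.Lib.Helper14.LeechPairs

open Cfsg Cfsg.Agent.Lib.Helper14.Golay Cfsg.Agent.Lib.Helper14.Leech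
  Cfsg.Agent.Lib.Helper14.LeechCount Cfsg.Agent.Lib.Helper14.LeechOrbit
  Cfsg.Agent.Lib.Helper14.LeechMono Cfsg.Agent.Lib.Helper14.Co0Center
  Cfsg.Agent.Lib.Helper14.Co0Order Cfsg.Agent.Lib.Helper14.LeechCross
  Cfsg.Agent.Lib.Helper14.LeechMinCount

/-! ### choosing points -/

/-- a point of a large set away from `∞` and `0` -/
theorem exists_in (S : Finset GolayPt) (hS : 3 ≤ S.card) :
    ∃ i ∈ S, i ≠ none ∧ i ≠ some 0 := by
  classical
  obtain ⟨i, hi⟩ : ((S.erase none).erase (some 0)).Nonempty := by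
    rw [← Finset.card_pos]
    have e1 := Finset.pred_card_le_card_erase (s := S) (a := none)
    have e2 := Finset.pred_card_le_card_erase (s := S.erase none) (a := some 0)
    omega
  rw [Finset.mem_erase, Finset.mem_erase] at hi
  exact ⟨i, hi.2.2, hi.2.1, hi.1⟩

/-- two points outside a small set and away from `∞` and `0` -/
theorem exists_out2 (S : Finset GolayPt) (hS : S.card ≤ 20) :
    ∃ i j : GolayPt, i ∉ S ∧ j ∉ S ∧ i ≠ none ∧ i ≠ some 0 ∧ j ≠ none ∧ j ≠ some 0 ∧ i ≠ j := by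
  classical
  obtain ⟨i, hi, j, hj, hij⟩ : ∃ i ∈ Finset.univ \ (S ∪ {none, some 0}),
      ∃ j ∈ Finset.univ \ (S ∪ {none, some 0}), i ≠ j := by
    rw [← Finset.one_lt_card]
    rw [Finset.card_sdiff_of_subset (Finset.subset_univ _), Finset.card_univ, card_golayPt]
    have e1 := Finset.card_union_le S {none, some 0}
    have e2 : ({none, some 0} : Finset GolayPt).card = 2 := by decide
    omega
  rw [Finset.mem_sdiff, Finset.mem_union, Finset.mem_insert, Finset.mem_singleton] at hi hj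
  exact ⟨i, j, fun h => hi.2 (Or.inl h), fun h => hj.2 (Or.inl h),
    fun h => hi.2 (Or.inr (Or.inl h)), fun h => hi.2 (Or.inr (Or.inr h)),
    fun h => hj.2 (Or.inr (Or.inl h)), fun h => hj.2 (Or.inr (Or.inr h)), hij⟩

/-! ### the auxiliary vector -/

theorem PhiT_unit (w : GolayPt → ZMod 2) (τ : GolayPt → ℤ) (i : GolayPt) (h : τ i = 0) :
    PhiT w τ i = 1 ∨ PhiT w τ i = -1 := by
  rw [PhiT_apply, h]
  rcases val_cases (w i) with hv | hv <;> rw [hv] <;> norm_num

/-- the odd case: two coordinates `±1` away from `∞`, `0` -/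
theorem exists_t48_odd (u : GolayPt → ℤ) (i j : GolayPt) (hi1 : i ≠ none) (hi2 : i ≠ some 0)
    (hj1 : j ≠ none) (hj2 : j ≠ some 0) (hij : i ≠ j) (hui : u i = 1 ∨ u i = -1)
    (huj : u j = 1 ∨ u j = -1) :
    ∃ t ∈ leechLattice, sqNorm t = 32 ∧ dotInt v0 t = 0 ∧ dotInt t u = -8 := by
  have hs1 : -u i = 1 ∨ -u i = -1 := by rcases hui with h | h <;> rw [h] <;> norm_num
  have hs2 : -u j = 1 ∨ -u j = -1 := by rcases huj with h | h <;> rw [h] <;> norm_num
  obtain ⟨e1, e2, e3, e4⟩ := aux_t i j hi1 hi2 hj1 hj2 hij (-u i) (-u j) hs1 hs2 u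
  refine ⟨_, e1, e2, e3, ?_⟩
  rw [e4]
  rcases hui with h | h <;> rcases huj with h' | h' <;> rw [h, h'] <;> norm_num

/-- the even case: a coordinate `±2` and a coordinate `0` away from `∞`, `0` -/
theorem exists_t48_even (u : GolayPt → ℤ) (i j : GolayPt) (hi1 : i ≠ none) (hi2 : i ≠ some 0)
    (hj1 : j ≠ none) (hj2 : j ≠ some 0) (hij : i ≠ j) (hui : u i = 2 ∨ u i = -2)
    (huj : u j = 0) :
    ∃ t ∈ leechLattice, sqNorm t = 32 ∧ dotInt v0 t = 0 ∧ dotInt t u = -8 := by
  have hs1 : -(u i / 2) = 1 ∨ -(u i / 2) = -1 := by rcases hui with h | h <;> rw [h] <;> norm_num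
  obtain ⟨e1, e2, e3, e4⟩ := aux_t i j hi1 hi2 hj1 hj2 hij (-(u i / 2)) 1 hs1 (Or.inl rfl) u
  refine ⟨_, e1, e2, e3, ?_⟩
  rw [e4, huj]
  rcases hui with h | h <;> rw [h] <;> norm_num

theorem exists_t48 (u : GolayPt → ℤ) (hu : u ∈ leechLattice) (hn : sqNorm u = 48) :
    ∃ t ∈ leechLattice, sqNorm t = 32 ∧ dotInt v0 t = 0 ∧ dotInt t u = -8 := by
  classical
  rcases classify48 u ((mem_leechLattice_iff u).mp hu) hn with
    ⟨w, hw, h12, U, hU, hev, rfl⟩ | ⟨w, hw, J, hJ, rfl⟩ |
    ⟨w, hw, h8, U, hU, hodd, a, ha, ε, rfl⟩ | ⟨w, hw, j0, rfl⟩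
  · -- dodecad type
    obtain ⟨i, hiD, hi1, hi2⟩ := exists_in (support₂ w) (by rw [h12]; norm_num)
    obtain ⟨j, -, hjD, -, hj1, hj2, -, -, -⟩ := exists_out2 (support₂ w) (by rw [h12]; norm_num)
    have hij : i ≠ j := fun h => hjD (h ▸ hiD)
    apply exists_t48_even _ i j hi1 hi2 hj1 hj2 hij
    · rcases Psi_vals 2 (support₂ w) U i with ⟨_, _, h⟩ | ⟨_, _, h⟩ | ⟨h, _⟩
      · right; exact h
      · left; exact h
      · exact absurd hiD h
    · rw [Psi_apply, if_neg hjD]
  · -- shape `(3, 3, 3, 1, …)`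
    obtain ⟨i, j, hiJ, hjJ, hi1, hi2, hj1, hj2, hij⟩ := exists_out2 J (by rw [hJ]; norm_num)
    apply exists_t48_odd _ i j hi1 hi2 hj1 hj2 hij
    · exact PhiT_unit w _ i (by unfold tau2; rw [if_neg hiJ])
    · exact PhiT_unit w _ j (by unfold tau2; rw [if_neg hjJ])
  · -- shape `(4, 2, …, 2, 0, …)`
    obtain ⟨i, hiO, hi1, hi2⟩ := exists_in (support₂ w) (by rw [h8]; norm_num)
    obtain ⟨j, -, hjS, -, hj1, hj2, -, -, -⟩ := exists_out2 (insert a (support₂ w)) (by
      have := Finset.card_insert_le a (support₂ w)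
      omega)
    have hjO : j ∉ support₂ w := fun h => hjS (Finset.mem_insert_of_mem h)
    have hja : j ≠ a := fun h => hjS (h ▸ Finset.mem_insert_self _ _)
    have hij : i ≠ j := fun h => hjO (h ▸ hiO)
    apply exists_t48_even _ i j hi1 hi2 hj1 hj2 hij
    · rw [Psi3_of_mem _ _ _ _ ha i hiO]
      split_ifs
      · right; rfl
      · left; rfl
    · rw [Psi3_of_notMem _ _ _ _ j hjO, if_neg hja]
  · -- shape `(5, 1, …, 1)`
    obtain ⟨i, j, hiJ, hjJ, hi1, hi2, hj1, hj2, hij⟩ := exists_out2 {j0} (by simp)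
    rw [Finset.mem_singleton] at hiJ hjJ
    apply exists_t48_odd _ i j hi1 hi2 hj1 hj2 hij
    · exact PhiT_unit w _ i (by unfold tau4; rw [if_neg hiJ])
    · exact PhiT_unit w _ j (by unfold tau4; rw [if_neg hjJ])

/-! ### vectors of norm 48 with entries `-3` at `∞` and `-1` at `0` -/

theorem classify_m31 (x : GolayPt → ℤ) (hx : x ∈ leechLattice) (hn : sqNorm x = 48)
    (h1 : x none = -3) (h2 : x (some 0) = -1) :
    ∃ w ∈ golayCode, ∃ J : Finset GolayPt, J.card = 3 ∧ none ∈ J ∧ (some 0 : GolayPt) ∉ J ∧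
      (w none).val = 0 ∧ (w (some 0)).val = 1 ∧ x = PhiT w (tau2 J) := by
  classical
  rcases classify48 x ((mem_leechLattice_iff x).mp hx) hn with
    ⟨w, hw, h12, U, hU, hev, rfl⟩ | ⟨w, hw, J, hJ, rfl⟩ |
    ⟨w, hw, h8, U, hU, hodd, a, ha, ε, rfl⟩ | ⟨w, hw, j0, rfl⟩
  · exfalso
    rcases Psi_vals 2 (support₂ w) U none with ⟨_, _, h⟩ | ⟨_, _, h⟩ | ⟨_, h⟩ <;> omega
  · refine ⟨w, hw, J, hJ, ?_, ?_, ?_, ?_, rfl⟩
    · by_contra h
      rw [PhiT_apply] at h1
      unfold tau2 at h1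
      rw [if_neg h] at h1
      rcases val_cases (w none) with hv | hv <;> rw [hv] at h1 <;> norm_num at h1
    · intro h
      rw [PhiT_apply] at h2
      unfold tau2 at h2
      rw [if_pos h] at h2
      rcases val_cases (w (some 0)) with hv | hv <;> rw [hv] at h2 <;> norm_num at h2
    · rw [PhiT_apply] at h1
      unfold tau2 at h1
      rcases val_cases (w none) with hv | hv
      · exact hv
      · rw [hv] at h1
        split_ifs at h1 <;> norm_num at h1
    · rw [PhiT_apply] at h2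
      unfold tau2 at h2
      rcases val_cases (w (some 0)) with hv | hv
      · rw [hv] at h2
        split_ifs at h2 <;> norm_num at h2
      · exact hv
  · exfalso
    by_cases hnO : none ∈ support₂ w
    · rw [Psi3_of_mem _ _ _ _ ha none hnO] at h1
      split_ifs at h1 <;> omega
    · rw [Psi3_of_notMem _ _ _ _ none hnO] at h1
      split_ifs at h1 <;> omega
  · exfalso
    rw [PhiT_apply] at h1
    unfold tau4 at h1
    rcases val_cases (w none) with hv | hv <;> rw [hv] at h1 <;> split_ifs at h1 <;>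
      norm_num at h1

/-! ### the monomial step -/

/-- a monomial element fixing `e_∞` and `e_0` fixes `v0` -/
theorem mono_v0 (σ : Equiv.Perm GolayPt) (hσ : σ ∈ M24) (C : GolayPt → ZMod 2)
    (hC : C ∈ golayCode) (h1 : σ none = none) (h2 : σ (some 0) = some 0)
    (h3 : none ∉ support₂ C) (h4 : (some 0 : GolayPt) ∉ support₂ C) (x : ↥leechLattice)
    (hx : (x : GolayPt → ℤ) = v0) :
    (((⟨mono ⟨σ, hσ⟩ ⟨C, hC⟩, mono_mem_Co0 _ _⟩ : ↥Co0) • x : ↥leechLattice) : GolayPt → ℤ)
      = v0 := by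
  rw [smul_coe]
  show ((mono ⟨σ, hσ⟩ ⟨C, hC⟩ x : ↥leechLattice) : GolayPt → ℤ) = _
  rw [mono_apply, hx]
  unfold v0
  rw [signedPerm_add, signedPerm_single, signedPerm_single]
  show (Pi.single (σ none) (if σ none ∈ support₂ C then (-4 : ℤ) else 4) : GolayPt → ℤ)
    + (Pi.single (σ (some 0)) (if σ (some 0) ∈ support₂ C then (-4 : ℤ) else 4) : GolayPt → ℤ) = _
  rw [h1, h2, if_neg h3, if_neg h4]

/-- the reference sign word: `0` at `∞`, `1` at `0` -/
noncomputable def wref : GolayPt → ZMod 2 := (exists_sep (some 0) none (by decide)).choose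

theorem wref_mem : wref ∈ golayCode := (exists_sep (some 0) none (by decide)).choose_spec.1

theorem wref_zero : (wref (some 0)).val = 1 :=
  (ne_zero_iff_val _).mp (exists_sep (some 0) none (by decide)).choose_spec.2.1

theorem wref_none : (wref none).val = 0 := by
  have := (exists_sep (some 0) none (by decide)).choose_spec.2.2
  show ((exists_sep (some 0) none (by decide)).choose none).val = 0
  rw [this]; rfl

/-- the reference vector of norm 48 -/
noncomputable def u48 : GolayPt → ℤ := PhiT wref (tau2 {none, some 1, some 2})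

theorem inj4 (a b c d : GolayPt) (hab : a ≠ b) (hac : a ≠ c) (had : a ≠ d) (hbc : b ≠ c)
    (hbd : b ≠ d) (hcd : c ≠ d) :
    ∀ i < 4, ∀ j < 4,
      (fun i : ℕ => if i = 0 then a else if i = 1 then b else if i = 2 then c else d) i
      = (fun i : ℕ => if i = 0 then a else if i = 1 then b else if i = 2 then c else d) j →
      i = j := by
  intro i hi j hj h
  interval_cases i <;> interval_cases j <;> simp only [] at h <;> norm_num at h <;>
    first
    | rfl
    | exact absurd h hab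
    | exact absurd h.symm hab
    | exact absurd h hac
    | exact absurd h.symm hac
    | exact absurd h had
    | exact absurd h.symm had
    | exact absurd h hbc
    | exact absurd h.symm hbc
    | exact absurd h hbd
    | exact absurd h.symm hbd
    | exact absurd h hcd
    | exact absurd h.symm hcd

theorem zmod2_add_self (a : ZMod 2) : a + a = 0 := by
  revert a; decide

theorem val_add_cases : ∀ a b : ZMod 2, (1 - 2 * (((a + b).val : ℕ) : ℤ))
    = (1 - 2 * ((a.val : ℕ) : ℤ)) * (1 - 2 * ((b.val : ℕ) : ℤ)) := by decide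

theorem exists_mono48 (w : GolayPt → ZMod 2) (hw : w ∈ golayCode) (J : Finset GolayPt)
    (hJ : J.card = 3) (hJ1 : none ∈ J) (hJ2 : (some 0 : GolayPt) ∉ J) (hw1 : (w none).val = 0)
    (hw2 : (w (some 0)).val = 1) :
    ∃ n : ↥Co0, (∀ x : ↥leechLattice, (x : GolayPt → ℤ) = v0 →
        ((n • x : ↥leechLattice) : GolayPt → ℤ) = v0) ∧
      ∀ x : ↥leechLattice, (x : GolayPt → ℤ) = PhiT w (tau2 J) →
        ((n • x : ↥leechLattice) : GolayPt → ℤ) = u48 := by
  classical
  -- the other two points of `J`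
  have hc2 : (J.erase none).card = 2 := by rw [Finset.card_erase_of_mem hJ1, hJ]
  obtain ⟨k, l, hkl, hJkl⟩ := Finset.card_eq_two.mp hc2
  have hkJ : k ∈ J.erase none := by rw [hJkl]; simp
  have hlJ : l ∈ J.erase none := by rw [hJkl]; simp
  rw [Finset.mem_erase] at hkJ hlJ
  have hk0 : k ≠ some 0 := fun h => hJ2 (h ▸ hkJ.2)
  have hl0 : l ≠ some 0 := fun h => hJ2 (h ▸ hlJ.2)
  have hJeq : ∀ i, i ∈ J ↔ i = none ∨ i = k ∨ i = l := by
    intro i
    by_cases hi : i = none
    · simp [hi, hJ1]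
    · have : i ∈ J ↔ i ∈ J.erase none := by rw [Finset.mem_erase]; simp [hi]
      rw [this, hJkl]
      simp [hi]
  obtain ⟨σ, hσ, hσm⟩ := Cfsg.Agent.Lib.Helper3.Golay.exists_map
    (fun i => if i = 0 then none else if i = 1 then some 0 else if i = 2 then k else l)
    (fun i => if i = 0 then none else if i = 1 then some 0 else if i = 2 then some 1 else some 2)
    4 (by norm_num)
    (inj4 none (some 0) k l (by decide) (Ne.symm hkJ.1) (Ne.symm hlJ.1) (Ne.symm hk0)
      (Ne.symm hl0) hkl)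
    (inj4 none (some 0) (some 1) (some 2) (by decide) (by decide) (by decide) (by decide)
      (by decide) (by decide))
  have hσ1 : σ none = none := by simpa using hσm 0 (by norm_num)
  have hσ2 : σ (some 0) = some 0 := by simpa using hσm 1 (by norm_num)
  have hσ3 : σ k = some 1 := by simpa using hσm 2 (by norm_num)
  have hσ4 : σ l = some 2 := by simpa using hσm 3 (by norm_num)
  have hσs1 : σ.symm none = none := by rw [Equiv.symm_apply_eq, hσ1]
  have hσs2 : σ.symm (some 0) = some 0 := by rw [Equiv.symm_apply_eq, hσ2]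
  -- the permuted sign word
  set w' : GolayPt → ZMod 2 := Cfsg.Agent.Lib.Helper3.Golay.permWord σ w with hw'
  have hw'mem : w' ∈ golayCode := (Cfsg.Agent.Lib.Helper3.Golay.mem_M24_iff σ).mp hσ w hw
  have hw'app : ∀ i, w' i = w (σ.symm i) := fun i => rfl
  have hC : w' + wref ∈ golayCode := Submodule.add_mem _ hw'mem wref_mem
  have hCn : none ∉ support₂ (w' + wref) := by
    rw [notMem_support₂_iff]
    show ((w' none + wref none : ZMod 2)).val = 0
    rw [hw'app, hσs1]
    have e1 : w none = 0 := (ZMod.val_eq_zero _).mp hw1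
    have e2 : wref none = 0 := (ZMod.val_eq_zero _).mp wref_none
    rw [e1, e2]; rfl
  have hC0 : (some 0 : GolayPt) ∉ support₂ (w' + wref) := by
    rw [notMem_support₂_iff]
    show ((w' (some 0) + wref (some 0) : ZMod 2)).val = 0
    rw [hw'app, hσs2]
    have e1 : w (some 0) = 1 := by
      apply ZMod.val_injective 2; rw [hw2]; rfl
    have e2 : wref (some 0) = 1 := by
      apply ZMod.val_injective 2; rw [wref_zero]; rfl
    rw [e1, e2]; rfl
  refine ⟨⟨mono ⟨σ, hσ⟩ ⟨w' + wref, hC⟩, mono_mem_Co0 _ _⟩, ?_, ?_⟩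
  · intro x hx
    exact mono_v0 σ hσ _ hC hσ1 hσ2 hCn hC0 x hx
  · intro x hx
    rw [smul_coe]
    show ((mono ⟨σ, hσ⟩ ⟨w' + wref, hC⟩ x : ↥leechLattice) : GolayPt → ℤ) = _
    rw [mono_apply, hx]
    funext i
    rw [signedPerm_apply]
    unfold u48
    rw [PhiT_apply, PhiT_apply]
    -- the `τ` part
    have hτ : tau2 J (σ.symm i) = tau2 {none, some 1, some 2} i := by
      unfold tau2
      have : σ.symm i ∈ J ↔ i ∈ ({none, some 1, some 2} : Finset GolayPt) := by
        rw [hJeq, Finset.mem_insert, Finset.mem_insert, Finset.mem_singleton,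
          Equiv.symm_apply_eq, Equiv.symm_apply_eq, Equiv.symm_apply_eq, hσ1, hσ3, hσ4]
      by_cases h : σ.symm i ∈ J
      · rw [if_pos h, if_pos (this.mp h)]
      · rw [if_neg h, if_neg (fun h' => h (this.mpr h'))]
    rw [hτ]
    -- the sign part
    have hsign : (1 - 2 * (((wref i).val : ℕ) : ℤ))
        = (1 - 2 * (((w (σ.symm i)).val : ℕ) : ℤ)) * (1 - 2 * ((((w' + wref) i).val : ℕ) : ℤ)) := by
      have e1 : (w' + wref) i = w (σ.symm i) + wref i := rfl
      rw [e1, val_add_cases, ← mul_assoc, ← val_add_cases, zmod2_add_self]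
      simp
    by_cases hi : i ∈ support₂ (w' + wref)
    · rw [if_pos hi, hsign]
      have := (mem_support₂_iff (w' + wref) i).mp hi
      rw [this]
      ring
    · rw [if_neg hi, hsign]
      have := (notMem_support₂_iff (w' + wref) i).mp hi
      rw [this]
      ring

/-- every pair (norm 48, minimal) with inner product `-16` can be moved to `(u48, v0)` -/
theorem pair48 (u x : ↥leechLattice) (hu : sqNorm (u : GolayPt → ℤ) = 48)
    (hx : sqNorm (x : GolayPt → ℤ) = 32)
    (hd : dotInt (u : GolayPt → ℤ) (x : GolayPt → ℤ) = -16) :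
    ∃ g : ↥Co0, ((g • x : ↥leechLattice) : GolayPt → ℤ) = v0 ∧
      ((g • u : ↥leechLattice) : GolayPt → ℤ) = u48 := by
  -- step 1: move `x` to `v0`
  obtain ⟨g1, hg1⟩ := co0_trans32 x ⟨v0, v0_mem⟩ hx v0_norm
  set u1 : ↥leechLattice := g1 • u with hu1
  have hu1n : sqNorm (u1 : GolayPt → ℤ) = 48 := by rw [hu1, smul_coe, g1.2.2, hu]
  have hd1 : dotInt v0 (u1 : GolayPt → ℤ) = -16 := by
    have : ((g1 • x : ↥leechLattice) : GolayPt → ℤ) = v0 := by rw [hg1]
    rw [← this, hu1, smul_coe, smul_coe, dot_pres g1.1 g1.2, dotInt_comm, hd]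
  -- step 2: the auxiliary vector
  obtain ⟨t, ht, htn, htv, htu⟩ := exists_t48 u1.1 u1.2 hu1n
  -- step 3: move `(v0, t)` to the reference pair
  obtain ⟨g2, hg2v, hg2a, hg2b⟩ := reduce ⟨v0, v0_mem⟩ u1 ⟨t, ht⟩ v0_norm htn htv
  rw [hd1] at hg2a
  rw [htu] at hg2b
  have hx1 : ((g2 • u1 : ↥leechLattice) : GolayPt → ℤ) none = -3 := by omega
  have hx2 : ((g2 • u1 : ↥leechLattice) : GolayPt → ℤ) (some 0) = -1 := by omega
  obtain ⟨w, hw, J, hJ, hJ1, hJ2, hw1, hw2, hform⟩ := classify_m31 _ (g2 • u1).2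
    (by rw [smul_coe, g2.2.2, hu1n]) hx1 hx2
  -- step 4: a monomial element
  obtain ⟨n, hnv, hnu⟩ := exists_mono48 w hw J hJ hJ1 hJ2 hw1 hw2
  refine ⟨n * g2 * g1, ?_, ?_⟩
  · rw [mul_smul, mul_smul, hg1]
    exact hnv _ hg2v
  · rw [mul_smul, mul_smul, ← hu1]
    exact hnu _ hform

end Cfsg.Agent.Lib.Helper14.LeechPairs
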