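import Mathlib
import Cfsg.Prelude.Def_Sporadic_a
import Cfsg.Agent.Lib.Helper14.LeechPairs48
import Cfsg.Agent.Lib.Helper14.LeechMinCount
import Cfsg.Agent.S1578

set_option autoImplicit false

/-! The Higman–Sims configuration in the Leech lattice: two vectors `v`, `w` of norm 48 with
inner product `-32` and the 100 minimal vectors `x` with `v · x = 24`, `w · x = -24`. -/

namespace Cfsg.Agent.Lib.Helper14.LeechHS

open Cfsg Cfsg.Agent.Lib.Helper14.Golay Cfsg.Agent.Lib.Helper14.Leech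
  Cfsg.Agent.Lib.Helper14.LeechCount Cfsg.Agent.Lib.Helper14.LeechOrbit
  Cfsg.Agent.Lib.Helper14.LeechMono Cfsg.Agent.Lib.Helper14.Co0Center
  Cfsg.Agent.Lib.Helper14.Co0Order Cfsg.Agent.Lib.Helper14.LeechCross
  Cfsg.Agent.Lib.Helper14.LeechMinCount Cfsg.Agent.Lib.Helper14.LeechPairs
open Cfsg.Agent.Lib.Helper3.Golay (wordOf codeMask pc24 bitSet idx)
open Cfsg.Agent.S1578 (u0 u0_mem u0_norm dot_u0 sum_PhiO val_wordOf card_PO_gen)

/-! ### sign changes -/

/-- changing signs along `c + c'` turns the sign word `c` into `c'` -/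
theorem sign_PhiT (c c' : GolayPt → ZMod 2) (τ : GolayPt → ℤ) (i : GolayPt) :
    (if i ∈ support₂ (c + c') then -PhiT c τ i else PhiT c τ i) = PhiT c' τ i := by
  rw [PhiT_apply, PhiT_apply]
  have hsign : (1 - 2 * (((c' i).val : ℕ) : ℤ))
      = (1 - 2 * (((c i).val : ℕ) : ℤ)) * (1 - 2 * ((((c + c') i).val : ℕ) : ℤ)) := by
    have e1 : (c + c') i = c i + c' i := rfl
    rw [e1, val_add_cases, ← mul_assoc, ← val_add_cases, zmod2_add_self]
    simp
  by_cases hi : i ∈ support₂ (c + c')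
  · rw [if_pos hi, hsign]
    have := (mem_support₂_iff (c + c') i).mp hi
    rw [this]
    ring
  · rw [if_neg hi, hsign]
    have := (notMem_support₂_iff (c + c') i).mp hi
    rw [this]
    ring

/-- the sign change along a code word -/
noncomputable def signCh (C : GolayPt → ZMod 2) (hC : C ∈ golayCode) : ↥Co0 :=
  ⟨mono 1 ⟨C, hC⟩, mono_mem_Co0 _ _⟩

theorem signCh_apply (C : GolayPt → ZMod 2) (hC : C ∈ golayCode) (x : ↥leechLattice)
    (i : GolayPt) :
    ((signCh C hC • x : ↥leechLattice) : GolayPt → ℤ) i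
      = if i ∈ support₂ C then -(x : GolayPt → ℤ) i else (x : GolayPt → ℤ) i := by
  rw [smul_coe]
  show ((mono 1 ⟨C, hC⟩ x : ↥leechLattice) : GolayPt → ℤ) i = _
  rw [mono_apply, signedPerm_apply]
  rfl

/-- a sign change away from `∞`, `0` fixes the vectors supported on `{∞, 0}` -/
theorem signCh_fix (C : GolayPt → ZMod 2) (hC : C ∈ golayCode) (h3 : none ∉ support₂ C)
    (h4 : (some 0 : GolayPt) ∉ support₂ C) (x : ↥leechLattice) (y : GolayPt → ℤ)
    (hx : (x : GolayPt → ℤ) = y) (hy : ∀ i, i ≠ none → i ≠ some 0 → y i = 0) :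
    ((signCh C hC • x : ↥leechLattice) : GolayPt → ℤ) = y := by
  funext i
  rw [signCh_apply, hx]
  by_cases hi : i ∈ support₂ C
  · have h1 : i ≠ none := fun h => h3 (h ▸ hi)
    have h2 : i ≠ some 0 := fun h => h4 (h ▸ hi)
    rw [if_pos hi, hy i h1 h2, neg_zero]
  · rw [if_neg hi]

theorem v0_supp (i : GolayPt) (h1 : i ≠ none) (h2 : i ≠ some 0) : v0 i = 0 := by
  unfold v0
  rw [Pi.add_apply, Pi.single_eq_of_ne h1, Pi.single_eq_of_ne h2, add_zero]

theorem t0_supp (i : GolayPt) (h1 : i ≠ none) (h2 : i ≠ some 0) : t0 i = 0 := by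
  unfold t0
  rw [Pi.add_apply, Pi.single_eq_of_ne h1, Pi.single_eq_of_ne h2, add_zero]

theorem add_wref_supp (c : GolayPt → ZMod 2) (h1 : (c none).val = 0) (h2 : (c (some 0)).val = 1) :
    none ∉ support₂ (c + wref) ∧ (some 0 : GolayPt) ∉ support₂ (c + wref) := by
  constructor
  · rw [notMem_support₂_iff]
    show ((c none + wref none : ZMod 2)).val = 0
    have e1 : c none = 0 := (ZMod.val_eq_zero _).mp h1
    have e2 : wref none = 0 := (ZMod.val_eq_zero _).mp wref_none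
    rw [e1, e2]; rfl
  · rw [notMem_support₂_iff]
    show ((c (some 0) + wref (some 0) : ZMod 2)).val = 0
    have e1 : c (some 0) = 1 := by
      apply ZMod.val_injective 2; rw [h2]; rfl
    have e2 : wref (some 0) = 1 := by
      apply ZMod.val_injective 2; rw [wref_zero]; rfl
    rw [e1, e2]; rfl

/-! ### vectors of norm 48 with entries `5` at `∞` and `-1` at `0` -/

theorem classify_m5 (x : GolayPt → ℤ) (hx : x ∈ leechLattice) (hn : sqNorm x = 48)
    (h1 : x none = 5) (h2 : x (some 0) = -1) :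
    ∃ c ∈ golayCode, (c none).val = 0 ∧ (c (some 0)).val = 1 ∧ x = PhiT c (tau4 none) := by
  classical
  rcases classify48 x ((mem_leechLattice_iff x).mp hx) hn with
    ⟨w, hw, h12, U, hU, hev, rfl⟩ | ⟨w, hw, J, hJ, rfl⟩ |
    ⟨w, hw, h8, U, hU, hodd, a, ha, ε, rfl⟩ | ⟨w, hw, j0, rfl⟩
  · exfalso
    rcases Psi_vals 2 (support₂ w) U none with ⟨_, _, h⟩ | ⟨_, _, h⟩ | ⟨_, h⟩ <;> omega
  · exfalso
    rw [PhiT_apply] at h1
    unfold tau2 at h1
    rcases val_cases (w none) with hv | hv <;> rw [hv] at h1 <;> split_ifs at h1 <;>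
      norm_num at h1
  · exfalso
    by_cases hnO : none ∈ support₂ w
    · rw [Psi3_of_mem _ _ _ _ ha none hnO] at h1
      split_ifs at h1 <;> omega
    · rw [Psi3_of_notMem _ _ _ _ none hnO] at h1
      split_ifs at h1 <;> omega
  · have hj0 : j0 = none := by
      by_contra h
      rw [PhiT_apply] at h1
      unfold tau4 at h1
      rw [if_neg (fun h' => h h'.symm)] at h1
      rcases val_cases (w none) with hv | hv <;> rw [hv] at h1 <;> norm_num at h1
    subst hj0
    refine ⟨w, hw, ?_, ?_, rfl⟩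
    · rw [PhiT_apply] at h1
      unfold tau4 at h1
      rw [if_pos rfl] at h1
      rcases val_cases (w none) with hv | hv
      · exact hv
      · rw [hv] at h1; norm_num at h1
    · rw [PhiT_apply] at h2
      unfold tau4 at h2
      rw [if_neg (by decide)] at h2
      rcases val_cases (w (some 0)) with hv | hv
      · rw [hv] at h2; norm_num at h2
      · exact hv

/-- the reference vector `(5, -1, ±1, …)` -/
noncomputable def vHS : GolayPt → ℤ := PhiT wref (tau4 none)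

/-! ### the normal form of a triple -/

theorem triple_normal (v w x : ↥leechLattice) (hv : sqNorm (v : GolayPt → ℤ) = 48)
    (hw : sqNorm (w : GolayPt → ℤ) = 48)
    (hvw : dotInt (v : GolayPt → ℤ) (w : GolayPt → ℤ) = -32)
    (hx : sqNorm (x : GolayPt → ℤ) = 32)
    (hvx : dotInt (v : GolayPt → ℤ) (x : GolayPt → ℤ) = 24)
    (hwx : dotInt (w : GolayPt → ℤ) (x : GolayPt → ℤ) = -24) :
    ∃ g : ↥Co0, ((g • (v + w) : ↥leechLattice) : GolayPt → ℤ) = v0 ∧
      ((g • x : ↥leechLattice) : GolayPt → ℤ) = t0 ∧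
      ((g • v : ↥leechLattice) : GolayPt → ℤ) = vHS := by
  have hz : sqNorm ((v + w : ↥leechLattice) : GolayPt → ℤ) = 32 := by
    rw [AddSubgroup.coe_add, Cfsg.Agent.Lib.Helper14.Leech.sqNorm_add, hv, hw, hvw]; norm_num
  have hzx : dotInt ((v + w : ↥leechLattice) : GolayPt → ℤ) (x : GolayPt → ℤ) = 0 := by
    rw [AddSubgroup.coe_add, dotInt_add_left, hvx, hwx]; norm_num
  obtain ⟨g1, hg1z, hg1x⟩ := orth_normal (v + w) x hz hx hzx
  have e1 : dotInt ((v + w : ↥leechLattice) : GolayPt → ℤ) (v : GolayPt → ℤ) = 16 := by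
    rw [AddSubgroup.coe_add, dotInt_add_left, dotInt_self, hv, dotInt_comm, hvw]; norm_num
  have e2 : dotInt (x : GolayPt → ℤ) (v : GolayPt → ℤ) = 24 := by rw [dotInt_comm, hvx]
  have hg1a : 4 * ((g1 • v : ↥leechLattice) : GolayPt → ℤ) none
      + 4 * ((g1 • v : ↥leechLattice) : GolayPt → ℤ) (some 0) = 16 := by
    rw [← dot_v0, ← hg1z, smul_coe, smul_coe, dot_pres g1.1 g1.2, e1]
  have hg1b : 4 * ((g1 • v : ↥leechLattice) : GolayPt → ℤ) none
      - 4 * ((g1 • v : ↥leechLattice) : GolayPt → ℤ) (some 0) = 24 := by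
    rw [← dot_t0, ← hg1x, smul_coe, smul_coe, dot_pres g1.1 g1.2, e2]
  have hx1 : ((g1 • v : ↥leechLattice) : GolayPt → ℤ) none = 5 := by omega
  have hx2 : ((g1 • v : ↥leechLattice) : GolayPt → ℤ) (some 0) = -1 := by omega
  obtain ⟨c, hc, hc1, hc2, hform⟩ := classify_m5 _ (g1 • v).2
    (by rw [smul_coe, g1.2.2, hv]) hx1 hx2
  obtain ⟨hs1, hs2⟩ := add_wref_supp c hc1 hc2
  have hC : c + wref ∈ golayCode := Submodule.add_mem _ hc wref_mem
  refine ⟨signCh (c + wref) hC * g1, ?_, ?_, ?_⟩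
  · rw [mul_smul]
    exact signCh_fix _ hC hs1 hs2 _ v0 hg1z v0_supp
  · rw [mul_smul]
    exact signCh_fix _ hC hs1 hs2 _ t0 hg1x t0_supp
  · rw [mul_smul]
    funext i
    rw [signCh_apply, hform]
    exact sign_PhiT c wref (tau4 none) i


/-! ### moving pairs of norm-48 vectors with inner product `-32` -/

theorem dotInt_neg_right (x y : GolayPt → ℤ) : dotInt x (-y) = -dotInt x y := by
  unfold dotInt
  rw [← Finset.sum_neg_distrib]
  refine Finset.sum_congr rfl fun i _ => ?_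
  rw [Pi.neg_apply]; ring

theorem pair_move (v w v' w' : ↥leechLattice) (hv : sqNorm (v : GolayPt → ℤ) = 48)
    (hw : sqNorm (w : GolayPt → ℤ) = 48)
    (hvw : dotInt (v : GolayPt → ℤ) (w : GolayPt → ℤ) = -32)
    (hv' : sqNorm (v' : GolayPt → ℤ) = 48) (hw' : sqNorm (w' : GolayPt → ℤ) = 48)
    (hvw' : dotInt (v' : GolayPt → ℤ) (w' : GolayPt → ℤ) = -32) :
    ∃ g : ↥Co0, g • v = v' ∧ g • w = w' := by
  have key : ∀ (a b : ↥leechLattice), sqNorm (a : GolayPt → ℤ) = 48 →
      sqNorm (b : GolayPt → ℤ) = 48 → dotInt (a : GolayPt → ℤ) (b : GolayPt → ℤ) = -32 →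
      sqNorm ((-(a + b) : ↥leechLattice) : GolayPt → ℤ) = 32 ∧
      dotInt (a : GolayPt → ℤ) ((-(a + b) : ↥leechLattice) : GolayPt → ℤ) = -16 := by
    intro a b ha hb hab
    have hc : ((-(a + b) : ↥leechLattice) : GolayPt → ℤ)
        = -((a : GolayPt → ℤ) + (b : GolayPt → ℤ)) := rfl
    constructor
    · rw [hc, Cfsg.Agent.Lib.Helper14.Leech.sqNorm_neg,
        Cfsg.Agent.Lib.Helper14.Leech.sqNorm_add, ha, hb, hab]
      norm_num
    · rw [hc, dotInt_neg_right, dotInt_add_right, dotInt_self, ha, hab]; norm_num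
  obtain ⟨hx, hvx⟩ := key v w hv hw hvw
  obtain ⟨hx', hvx'⟩ := key v' w' hv' hw' hvw'
  obtain ⟨g1, h1x, h1v⟩ := pair48 v (-(v + w)) hv hx hvx
  obtain ⟨g2, h2x, h2v⟩ := pair48 v' (-(v' + w')) hv' hx' hvx'
  have e1 : (g2⁻¹ * g1) • v = v' := by
    rw [mul_smul, inv_smul_eq_iff]
    exact Subtype.ext (h1v.trans h2v.symm)
  have e2 : (g2⁻¹ * g1) • (-(v + w)) = -(v' + w') := by
    rw [mul_smul, inv_smul_eq_iff]
    exact Subtype.ext (h1x.trans h2x.symm)
  refine ⟨g2⁻¹ * g1, e1, ?_⟩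
  have hw1 : w = -(-(v + w)) - v := by abel
  have hw2 : w' = -(-(v' + w')) - v' := by abel
  have e3 : (g2⁻¹ * g1) • (-(-(v + w)) - v)
      = (g2⁻¹ * g1) • (-(-(v + w))) - (g2⁻¹ * g1) • v :=
    co0_map_sub (g2⁻¹ * g1).1 (g2⁻¹ * g1).2 _ _
  have e4 : (g2⁻¹ * g1) • (-(-(v + w))) = -((g2⁻¹ * g1) • (-(v + w))) :=
    co0_map_neg (g2⁻¹ * g1).1 (g2⁻¹ * g1).2 _
  rw [hw1, e3, e4, e2, e1, ← hw2]

/-- transport of the set of `x` with prescribed inner products with `v` and `w` -/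
theorem ncard_dot2_congr (v w v' w' : ↥leechLattice) (g : ↥Co0) (hgv : g • v = v')
    (hgw : g • w = w') (n a b : ℤ) :
    {x : ↥leechLattice | sqNorm (x : GolayPt → ℤ) = n ∧
      dotInt (v : GolayPt → ℤ) (x : GolayPt → ℤ) = a ∧
      dotInt (w : GolayPt → ℤ) (x : GolayPt → ℤ) = b}.ncard
    = {x : ↥leechLattice | sqNorm (x : GolayPt → ℤ) = n ∧
      dotInt (v' : GolayPt → ℤ) (x : GolayPt → ℤ) = a ∧
      dotInt (w' : GolayPt → ℤ) (x : GolayPt → ℤ) = b}.ncard := by
  refine Set.ncard_congr (fun x _ => g • x) ?_ ?_ ?_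
  · rintro x ⟨hn, h1, h2⟩
    refine ⟨?_, ?_, ?_⟩
    · rw [smul_coe, g.2.2, hn]
    · rw [← hgv, smul_coe, smul_coe, dot_pres g.1 g.2, h1]
    · rw [← hgw, smul_coe, smul_coe, dot_pres g.1 g.2, h2]
  · intro x y _ _ h
    exact smul_left_cancel g h
  · rintro y ⟨hn, h1, h2⟩
    refine ⟨g⁻¹ • y, ⟨?_, ?_, ?_⟩, smul_inv_smul g y⟩
    · rw [smul_coe, (g⁻¹).2.2, hn]
    · have : v = g⁻¹ • v' := by rw [← hgv, inv_smul_smul]
      rw [this, smul_coe, smul_coe, dot_pres (g⁻¹).1 (g⁻¹).2, h1]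
    · have : w = g⁻¹ • w' := by rw [← hgw, inv_smul_smul]
      rw [this, smul_coe, smul_coe, dot_pres (g⁻¹).1 (g⁻¹).2, h2]

/-! ### counting in the octad family when the sign set must be empty -/

theorem count2_empty (P : (GolayPt → ℤ) → Prop) [DecidablePred P]
    (Q : Finset GolayPt → Prop) [DecidablePred Q]
    (h : ∀ (w : GolayPt → ZMod 2), (support₂ w).card = 8 → ∀ U : Finset GolayPt,
      U ⊆ support₂ w → (P (f2 ⟨w, U⟩) ↔ (U = ∅ ∧ Q (support₂ w)))) :
    (P2.filter (fun q => P (f2 q))).card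
      = sumBelow 4096 (fun c => if pc24 (codeMask c) = 8 then
          (if Q (bitSet (codeMask c)) then 1 else 0) else 0) := by
  classical
  have h1 : (P2.filter (fun q => P (f2 q))).card
      = ∑ w ∈ Oct8, if Q (support₂ w) then 1 else 0 := by
    rw [Finset.card_filter]
    unfold P2
    rw [Finset.sum_sigma]
    refine Finset.sum_congr rfl fun w hw => ?_
    have h8 := ((mem_Oct8 w).mp hw).2
    have hval : ∀ U ∈ (support₂ w).powerset.filter (fun U => Even U.card),
        (if P (f2 ⟨w, U⟩) then 1 else 0)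
          = if U = ∅ then (if Q (support₂ w) then 1 else 0) else 0 := by
      intro U hU
      rw [Finset.mem_filter, Finset.mem_powerset] at hU
      have := h w h8 U hU.1
      by_cases hUe : U = ∅
      · rw [if_pos hUe]
        by_cases hT : Q (support₂ w)
        · rw [if_pos hT, if_pos (this.mpr ⟨hUe, hT⟩)]
        · rw [if_neg hT, if_neg (fun h => hT (this.mp h).2)]
      · rw [if_neg hUe, if_neg (fun h => hUe (this.mp h).1)]
    have hfin : (∑ U ∈ (support₂ w).powerset.filter (fun U => Even U.card),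
        (if P (f2 ⟨w, U⟩) then 1 else 0))
        = if Q (support₂ w) then 1 else 0 := by
      rw [Finset.sum_congr rfl hval, Finset.sum_ite_eq']
      rw [if_pos]
      rw [Finset.mem_filter, Finset.mem_powerset]
      exact ⟨Finset.empty_subset _, by simp⟩
    convert hfin using 2
  rw [h1, sum_Oct8]
  congr 1
  funext c
  rw [Cfsg.Agent.Lib.Helper3.Golay.support_wordOf]

end Cfsg.Agent.Lib.Helper14.LeechHS
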