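import Mathlib
import Cfsg.Prelude.Def_Sporadic_a
import Cfsg.Agent.S1584
import Cfsg.Agent.S1579
import Cfsg.Agent.Lib.Helper14.LeechPairs8

set_option autoImplicit false

/-! The McLaughlin configuration in the Leech lattice: a vector `u` of norm 48, a minimal vector
`v` with `u - v` minimal, and the 275 minimal vectors `x` with `u - x` minimal and `v · x = 16`. -/

namespace Cfsg.Agent.Lib.Helper14.LeechMcL

open Cfsg Cfsg.Agent.Lib.Helper14.Golay Cfsg.Agent.Lib.Helper14.Leech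
  Cfsg.Agent.Lib.Helper14.LeechCount Cfsg.Agent.Lib.Helper14.LeechOrbit
  Cfsg.Agent.Lib.Helper14.LeechMono Cfsg.Agent.Lib.Helper14.Co0Center
  Cfsg.Agent.Lib.Helper14.Co0Order Cfsg.Agent.Lib.Helper14.LeechCross
  Cfsg.Agent.Lib.Helper14.LeechMinCount Cfsg.Agent.Lib.Helper14.LeechPairs
  Cfsg.Agent.Lib.Helper14.LeechHS
open Cfsg.Agent.Lib.Helper3.Golay (wordOf codeMask pc24 bitSet idx)
open Cfsg.Agent.S1578 (u0 u0_mem u0_norm dot_u0 sum_PhiO val_wordOf)
open Cfsg.Agent.S1584 (U0 V0 permEl)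
open scoped Pointwise

/-! ### basics -/

theorem sub_norm_iff (u x : GolayPt → ℤ) (hu : sqNorm u = 48) (hx : sqNorm x = 32) :
    sqNorm (u - x) = 32 ↔ dotInt u x = 24 := by
  rw [Cfsg.Agent.Lib.Helper14.Leech.sqNorm_sub, hu, hx]
  constructor <;> intro h <;> omega

set_option maxRecDepth 100000 in
theorem dot_u0_v0 : dotInt u0 v0 = 24 := by decide +kernel

/-- every pair `(u, v)` can be moved to the standard pair -/
theorem pair24 (u v : ↥leechLattice) (hu : sqNorm (u : GolayPt → ℤ) = 48)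
    (hv : sqNorm (v : GolayPt → ℤ) = 32)
    (hd : dotInt (u : GolayPt → ℤ) (v : GolayPt → ℤ) = 24) :
    ∃ g : ↥Co0, g • u = U0 ∧ g • v = V0 := by
  obtain ⟨g1, hg1⟩ := co0_trans48 u U0 hu u0_norm
  have h1 : sqNorm ((g1 • v : ↥leechLattice) : GolayPt → ℤ) = 32 := by
    rw [smul_coe, g1.2.2, hv]
  have h2 : dotInt u0 ((g1 • v : ↥leechLattice) : GolayPt → ℤ) = 24 := by
    have : u0 = ((g1 • u : ↥leechLattice) : GolayPt → ℤ) := by rw [hg1]; rfl
    rw [this, smul_coe, smul_coe, dot_pres g1.1 g1.2, hd]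
  obtain ⟨h, hh1, hh2⟩ := Cfsg.Agent.S1579.result U0 (g1 • v) V0 u0_norm
    ⟨h1, (sub_norm_iff u0 _ u0_norm h1).mpr h2⟩
    ⟨v0_norm, (sub_norm_iff u0 v0 u0_norm v0_norm).mpr dot_u0_v0⟩
  exact ⟨h * g1, by rw [mul_smul, hg1, hh1], by rw [mul_smul, hh2]⟩

/-! ### classification of the 275 points of the standard configuration -/

theorem classify275 (y : GolayPt → ℤ) (hy : y ∈ leechLattice) (hn : sqNorm y = 32)
    (h1 : dotInt u0 y = 24) (h2 : dotInt v0 y = 16) :
    (∃ k, k ≠ none ∧ k ≠ some 0 ∧ y = Pi.single none 4 + Pi.single k 4) ∨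
    (∃ O ∈ octads, none ∈ O ∧ (some 0 : GolayPt) ∈ O ∧ y = Psi 2 ⟨O, ∅⟩) ∨
    (∃ w ∈ golayCode, (support₂ w).card = 8 ∧ (w none).val = 1 ∧ (w (some 0)).val = 0 ∧
      y = PhiO (w, none)) := by
  classical
  have hmem : y ∈ {x : GolayPt → ℤ | x ∈ leechLattice ∧ sqNorm x = 32} := ⟨hy, hn⟩
  rw [min_eq, Finset.mem_coe, Finset.mem_union, Finset.mem_union] at hmem
  rcases hmem with (hm | hm) | hm
  · right; right
    obtain ⟨⟨w, j⟩, hq, rfl⟩ := Finset.mem_image.mp hm
    rw [mem_PO] at hq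
    have hwt := Cfsg.Agent.Lib.Helper3.Golay.weight_mem hq
    have hnorm : hammingNorm w = (support₂ w).card := rfl
    rw [hnorm] at hwt
    rw [dot_u0, sum_PhiO, PhiO_apply] at h1
    rw [dot_v0, PhiO_apply, PhiO_apply] at h2
    have c1 := val_cases (w none)
    have c2 := val_cases (w (some 0))
    have c3 := val_cases (w j)
    have hcard : (support₂ w).card = 8 ∧ j = none ∧ (w none).val = 1 ∧ (w (some 0)).val = 0 := by
      by_cases hj1 : j = none
      · subst hj1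
        rw [if_pos rfl] at h1
        rw [if_pos rfl, if_neg (by decide)] at h2
        refine ⟨?_, rfl, ?_, ?_⟩ <;> omega
      · by_cases hj2 : j = some 0
        · subst hj2
          rw [if_neg (by decide)] at h1
          rw [if_neg (by decide), if_pos rfl] at h2
          omega
        · rw [if_neg (fun h => hj1 h.symm)] at h1
          rw [if_neg (fun h => hj1 h.symm), if_neg (fun h => hj2 h.symm)] at h2
          omega
    obtain ⟨h8, rfl, hv1, hv2⟩ := hcard
    exact ⟨w, hq, h8, hv1, hv2, rfl⟩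
  · right; left
    obtain ⟨⟨w, U⟩, hq, rfl⟩ := Finset.mem_image.mp hm
    rw [mem_P2] at hq
    obtain ⟨⟨hw, h8⟩, hU, -⟩ := hq
    obtain ⟨rfl, hn1⟩ := (Cfsg.Agent.S1578.cond2_iff w h8 U hU).mp h1
    refine ⟨support₂ w, ⟨⟨w, hw, rfl⟩, h8⟩, hn1, ?_, rfl⟩
    unfold f2 at h2
    rw [dot_v0, Psi_apply, Psi_apply, if_pos hn1, if_neg (Finset.notMem_empty _)] at h2
    by_contra h0
    rw [if_neg h0] at h2
    norm_num at h2
  · left
    obtain ⟨⟨T, U⟩, hq, rfl⟩ := Finset.mem_image.mp hm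
    rw [mem_P4] at hq
    obtain ⟨hT, hU⟩ := hq
    simp only at hT hU
    have hUc : U.card ≤ 2 := hT ▸ Finset.card_le_card hU
    rw [dot_u0, sum_Psi 4 _ _ hU, hT] at h1
    rw [dot_v0] at h2
    have hnT : none ∈ T ∧ U.card = 0 ∧ Psi 4 ⟨T, U⟩ none = 4 := by
      rcases Psi_vals 4 T U none with ⟨a1, a2, a3⟩ | ⟨a1, a2, a3⟩ | ⟨a1, a3⟩
      · rw [a3] at h1; push_cast at h1; omega
      · rw [a3] at h1; push_cast at h1; exact ⟨a1, by omega, a3⟩
      · rw [a3] at h1; push_cast at h1; omega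
    obtain ⟨hnT1, hU0, hval⟩ := hnT
    have hUe : U = ∅ := Finset.card_eq_zero.mp hU0
    subst hUe
    have h0T : (some 0 : GolayPt) ∉ T := by
      rcases Psi_vals 4 T ∅ (some 0) with ⟨a1, a2, a3⟩ | ⟨a1, a2, a3⟩ | ⟨a1, a3⟩
      · exact absurd a2 (Finset.notMem_empty _)
      · rw [hval, a3] at h2; norm_num at h2
      · exact a1
    obtain ⟨a, b, hab, rfl⟩ := Finset.card_eq_two.mp hT
    have key : ∀ k : GolayPt, k ≠ none → k ≠ some 0 → ({none, k} : Finset GolayPt) = {a, b} →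
        ∃ k, k ≠ none ∧ k ≠ some 0 ∧
          Psi 4 ⟨({a, b} : Finset GolayPt), ∅⟩ = Pi.single none 4 + Pi.single k 4 := by
      intro k hk1 hk2 he
      refine ⟨k, hk1, hk2, ?_⟩
      rw [← he]
      funext i
      rw [Psi_apply, if_neg (Finset.notMem_empty _), Pi.add_apply, Pi.single_apply,
        Pi.single_apply]
      by_cases hi1 : i = none
      · subst hi1
        rw [if_pos (Finset.mem_insert_self _ _), if_pos rfl, if_neg (fun h => hk1 h.symm)]
        norm_num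
      · by_cases hi2 : i = k
        · subst hi2
          rw [if_pos (Finset.mem_insert_of_mem (Finset.mem_singleton_self _)), if_neg hi1,
            if_pos rfl]
          norm_num
        · rw [if_neg, if_neg hi1, if_neg hi2]
          · norm_num
          · rw [Finset.mem_insert, Finset.mem_singleton]
            tauto
    rw [Finset.mem_insert, Finset.mem_singleton] at hnT1
    rw [Finset.mem_insert, Finset.mem_singleton] at h0T
    push Not at h0T
    rcases hnT1 with rfl | rfl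
    · exact key b (fun h => hab h.symm) (fun h => h0T.2 h.symm) rfl
    · exact key a hab (fun h => h0T.1 h.symm) (Finset.pair_comm _ _)


/-! ### auxiliary octads -/

/-- five octads avoiding `∞` and `0` -/
def F5 : List ℕ := [0x49f002, 0x360388, 0x152074, 0x8dc60, 0x540c16]

set_option maxRecDepth 100000 in
theorem F5_mem : ∀ m ∈ F5, m < 2 ^ 24 ∧ codeMask (m % 4096) = m ∧ pc24 m = 8 ∧
    m.testBit 23 = false ∧ m.testBit 0 = false := by
  decide +kernel

set_option maxRecDepth 100000 in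
theorem F5_a : ∀ k : GolayPt, ∃ m ∈ F5, m.testBit (idx k) = false := by
  decide +kernel

set_option maxRecDepth 100000 in
theorem F5_c : ∀ c < 4096, pc24 (codeMask c) = 8 → (codeMask c).testBit 23 = true →
    (codeMask c).testBit 0 = false → ∃ m ∈ F5, pc24 (m &&& codeMask c) = 4 := by
  decide +kernel

theorem dot_Psi2 (O : Finset GolayPt) (y : GolayPt → ℤ) :
    dotInt (Psi 2 ⟨O, ∅⟩) y = 2 * ∑ i ∈ O, y i := by
  classical
  unfold dotInt
  have : ∀ i : GolayPt, Psi 2 ⟨O, ∅⟩ i * y i = if i ∈ O then 2 * y i else 0 := by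
    intro i
    rw [Psi_apply, if_neg (Finset.notMem_empty _)]
    split_ifs <;> ring
  rw [Finset.sum_congr rfl (fun i _ => this i), Finset.sum_ite_mem, Finset.univ_inter,
    Finset.mul_sum]

/-- the vector `2 · 1_O` for `O` in the family -/
theorem tF_facts (m : ℕ) (hm : m ∈ F5) :
    Psi 2 ⟨bitSet m, ∅⟩ ∈ leechLattice ∧ sqNorm (Psi 2 ⟨bitSet m, ∅⟩) = 32 ∧
      dotInt v0 (Psi 2 ⟨bitSet m, ∅⟩) = 0 ∧ dotInt u0 (Psi 2 ⟨bitSet m, ∅⟩) = 16 ∧
      none ∉ bitSet m ∧ (bitSet m).card = 8 := by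
  obtain ⟨h1, h2, h3, h4, h5⟩ := F5_mem m hm
  have hw : wordOf m ∈ golayCode := (Cfsg.Agent.Lib.Helper3.Golay.wordOf_mem_iff h1).mpr h2
  have h8 : (bitSet m).card = 8 := by rw [Cfsg.Agent.Lib.Helper3.Golay.card_bitSet', h3]
  have hn : none ∉ bitSet m := by
    rw [Cfsg.Agent.Lib.Helper3.Golay.mem_bitSet]
    show ¬ m.testBit 23 = true
    rw [h4]; simp
  have h0 : (some 0 : GolayPt) ∉ bitSet m := by
    rw [Cfsg.Agent.Lib.Helper3.Golay.mem_bitSet]
    show ¬ m.testBit 0 = true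
    rw [h5]; simp
  have hP := Psi2_mem (wordOf m) hw
    (by rw [Cfsg.Agent.Lib.Helper3.Golay.support_wordOf]; exact h8) ∅ (Finset.empty_subset _)
    (by simp)
  rw [Cfsg.Agent.Lib.Helper3.Golay.support_wordOf] at hP
  refine ⟨AddSubgroup.subset_closure hP.1, hP.2, ?_, ?_, hn, h8⟩
  · rw [dot_v0, Psi_apply, Psi_apply, if_neg hn, if_neg h0]; norm_num
  · rw [dot_u0, sum_Psi 2 _ _ (Finset.empty_subset _), h8, Psi_apply, if_neg hn]
    norm_num

/-- the auxiliary vector: orthogonal to `v0` and to the point, with `u0 · t = 16` -/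
theorem exists_t_std (y : GolayPt → ℤ) (hy : y ∈ leechLattice) (hn : sqNorm y = 32)
    (h1 : dotInt u0 y = 24) (h2 : dotInt v0 y = 16) :
    ∃ t ∈ leechLattice, sqNorm t = 32 ∧ dotInt v0 t = 0 ∧ dotInt t y = 0 ∧ dotInt u0 t = 16 := by
  classical
  rcases classify275 y hy hn h1 h2 with ⟨k, hk1, hk2, rfl⟩ | ⟨O, hO, hO1, hO2, rfl⟩ |
    ⟨w, hw, h8, hv1, hv2, rfl⟩
  · obtain ⟨m, hm, hmk⟩ := F5_a k
    obtain ⟨e1, e2, e3, e4, e5, -⟩ := tF_facts m hm
    refine ⟨_, e1, e2, e3, ?_, e4⟩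
    have hk : k ∉ bitSet m := by
      rw [Cfsg.Agent.Lib.Helper3.Golay.mem_bitSet, hmk]; simp
    rw [dotInt_comm, dotInt_add_left, dot_single_left, dot_single_left, Psi_apply, Psi_apply,
      if_neg e5, if_neg hk]
    norm_num
  · obtain ⟨e1, e2, e3, e4⟩ := t0_facts (Psi 2 ⟨O, ∅⟩)
    refine ⟨t0, e1, e2, e3, ?_, ?_⟩
    · rw [e4, Psi_apply, Psi_apply, if_pos hO1, if_pos hO2, if_neg (Finset.notMem_empty _)]
      norm_num
    · rw [dotInt_comm, (t0_facts u0).2.2.2]
      have a1 : u0 none = 5 := rfl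
      have a2 : u0 (some 0) = 1 := rfl
      rw [a1, a2]; norm_num
  · obtain ⟨c, hc, rfl⟩ := (Cfsg.Agent.Lib.Helper3.Golay.mem_golayCode_iff w).mp hw
    rw [Cfsg.Agent.Lib.Helper3.Golay.support_wordOf,
      Cfsg.Agent.Lib.Helper3.Golay.card_bitSet'] at h8
    rw [val_wordOf] at hv1 hv2
    have hb23 : (codeMask c).testBit 23 = true := by
      have : idx none = 23 := rfl
      rw [this] at hv1
      cases h : (codeMask c).testBit 23
      · rw [h] at hv1; simp at hv1
      · rfl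
    have hb0 : (codeMask c).testBit 0 = false := by
      have : idx (some 0) = 0 := rfl
      rw [this] at hv2
      cases h : (codeMask c).testBit 0
      · rfl
      · rw [h] at hv2; simp at hv2
    obtain ⟨m, hm, hmc⟩ := F5_c c hc h8 hb23 hb0
    obtain ⟨e1, e2, e3, e4, e5, e6⟩ := tF_facts m hm
    refine ⟨_, e1, e2, e3, ?_, e4⟩
    rw [dot_Psi2]
    have hterm : ∀ i ∈ bitSet m, PhiO (wordOf (codeMask c), none) i
        = 1 - 2 * (((wordOf (codeMask c) i).val : ℕ) : ℤ) := by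
      intro i hi
      have hin : i ≠ none := fun h => e5 (h ▸ hi)
      rw [PhiO_apply, if_neg hin, mul_one]
    rw [Finset.sum_congr rfl hterm, Finset.sum_sub_distrib, ← Finset.mul_sum, sum_val_on,
      Cfsg.Agent.Lib.Helper3.Golay.support_wordOf, ← Cfsg.Agent.Lib.Helper3.Golay.bitSet_and,
      Cfsg.Agent.Lib.Helper3.Golay.card_bitSet', hmc, Finset.sum_const, e6]
    norm_num


/-! ### vectors of norm 48 with entries `5` at `∞` and `1` at `0` -/

theorem classify_p5 (x : GolayPt → ℤ) (hx : x ∈ leechLattice) (hn : sqNorm x = 48)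
    (h1 : x none = 5) (h2 : x (some 0) = 1) :
    ∃ c ∈ golayCode, (c none).val = 0 ∧ (c (some 0)).val = 0 ∧ x = PhiT c (tau4 none) := by
  classical
  rcases classify48 x ((mem_leechLattice_iff x).mp hx) hn with
    ⟨w, hw, h12, U, hU, hev, rfl⟩ | ⟨w, hw, J, hJ, rfl⟩ |
    ⟨w, hw, h8, U, hU, hodd, a, ha, ε, rfl⟩ | ⟨w, hw, j0, rfl⟩
  · exfalso
    rcases Psi_vals 2 (support₂ w) U none with ⟨_, _, h⟩ | ⟨_, _, h⟩ | ⟨_, h⟩ <;> omega
  · exfalso
    rw [PhiT_apply] at h1
    unfold tau2 at h1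
    rcases val_cases (w none) with hv | hv <;> rw [hv] at h1 <;> split_ifs at h1 <;>
      norm_num at h1
  · exfalso
    by_cases hnO : none ∈ support₂ w
    · rw [Psi3_of_mem _ _ _ _ ha none hnO] at h1
      split_ifs at h1 <;> omega
    · rw [Psi3_of_notMem _ _ _ _ none hnO] at h1
      split_ifs at h1 <;> omega
  · have hj0 : j0 = none := by
      by_contra h
      rw [PhiT_apply] at h1
      unfold tau4 at h1
      rw [if_neg (fun h' => h h'.symm)] at h1
      rcases val_cases (w none) with hv | hv <;> rw [hv] at h1 <;> norm_num at h1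
    subst hj0
    refine ⟨w, hw, ?_, ?_, rfl⟩
    · rw [PhiT_apply] at h1
      unfold tau4 at h1
      rw [if_pos rfl] at h1
      rcases val_cases (w none) with hv | hv
      · exact hv
      · rw [hv] at h1; norm_num at h1
    · rw [PhiT_apply] at h2
      unfold tau4 at h2
      rw [if_neg (by decide)] at h2
      rcases val_cases (w (some 0)) with hv | hv
      · exact hv
      · rw [hv] at h2; norm_num at h2

theorem PhiT_zero : PhiT 0 (tau4 none) = u0 := by
  funext i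
  rw [PhiT_apply]
  unfold tau4 u0
  split_ifs <;> simp

/-! ### the normal form of a triple -/

theorem dot_smul (g : ↥Co0) (a b : ↥leechLattice) :
    dotInt ((g • a : ↥leechLattice) : GolayPt → ℤ) ((g • b : ↥leechLattice) : GolayPt → ℤ)
      = dotInt (a : GolayPt → ℤ) (b : GolayPt → ℤ) := dot_pres g.1 g.2 a b

/-- the reference octad, containing `∞` and `0` -/
def mRef : ℕ := 0xc75001

theorem mRef_mem : bitSet mRef ∈ octads ∧ none ∈ bitSet mRef ∧ (some 0 : GolayPt) ∈ bitSet mRef := by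
  have hw : wordOf mRef ∈ golayCode :=
    (Cfsg.Agent.Lib.Helper3.Golay.wordOf_mem_iff (by norm_num [mRef])).mpr (by decide +kernel)
  refine ⟨⟨⟨wordOf mRef, hw, Cfsg.Agent.Lib.Helper3.Golay.support_wordOf mRef⟩, ?_⟩, ?_, ?_⟩
  · rw [Cfsg.Agent.Lib.Helper3.Golay.card_bitSet']; decide +kernel
  · rw [Cfsg.Agent.Lib.Helper3.Golay.mem_bitSet]; decide +kernel
  · rw [Cfsg.Agent.Lib.Helper3.Golay.mem_bitSet]; decide +kernel

/-- the reference point `2 · 1_O` -/
def xRef : GolayPt → ℤ := Psi 2 ⟨bitSet mRef, ∅⟩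

theorem triple_normal275 (u v x : ↥leechLattice) (hu : sqNorm (u : GolayPt → ℤ) = 48)
    (hv : sqNorm (v : GolayPt → ℤ) = 32) (hx : sqNorm (x : GolayPt → ℤ) = 32)
    (huv : dotInt (u : GolayPt → ℤ) (v : GolayPt → ℤ) = 24)
    (hux : dotInt (u : GolayPt → ℤ) (x : GolayPt → ℤ) = 24)
    (hvx : dotInt (v : GolayPt → ℤ) (x : GolayPt → ℤ) = 16) :
    ∃ g : ↥Co0, g • u = U0 ∧ g • v = V0 ∧ ((g • x : ↥leechLattice) : GolayPt → ℤ) = xRef := by
  -- step 1: the standard pair and the auxiliary vector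
  obtain ⟨g1, hg1u, hg1v⟩ := pair24 u v hu hv huv
  set x1 : ↥leechLattice := g1 • x with hx1
  have hx1n : sqNorm (x1 : GolayPt → ℤ) = 32 := by rw [hx1, smul_coe, g1.2.2, hx]
  have hx1u : dotInt u0 (x1 : GolayPt → ℤ) = 24 := by
    have : u0 = ((g1 • u : ↥leechLattice) : GolayPt → ℤ) := by rw [hg1u]; rfl
    rw [this, hx1, smul_coe, smul_coe, dot_pres g1.1 g1.2, hux]
  have hx1v : dotInt v0 (x1 : GolayPt → ℤ) = 16 := by
    have : v0 = ((g1 • v : ↥leechLattice) : GolayPt → ℤ) := by rw [hg1v]; rfl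
    rw [this, hx1, smul_coe, smul_coe, dot_pres g1.1 g1.2, hvx]
  obtain ⟨t1, ht1m, ht1n, ht1v, ht1x, ht1u⟩ := exists_t_std x1.1 x1.2 hx1n hx1u hx1v
  set T1 : ↥leechLattice := ⟨t1, ht1m⟩ with hT1
  -- step 2: move `(V0, T1)` to `(v0, t0)`
  obtain ⟨g2, hg2v, hg2t⟩ := orth_normal V0 T1 v0_norm ht1n ht1v
  have ha : 4 * ((g2 • U0 : ↥leechLattice) : GolayPt → ℤ) none
      + 4 * ((g2 • U0 : ↥leechLattice) : GolayPt → ℤ) (some 0) = 24 := by
    rw [← dot_v0, ← hg2v, smul_coe, smul_coe, dot_pres g2.1 g2.2]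
    show dotInt v0 u0 = 24
    rw [dotInt_comm, dot_u0_v0]
  have hb : 4 * ((g2 • U0 : ↥leechLattice) : GolayPt → ℤ) none
      - 4 * ((g2 • U0 : ↥leechLattice) : GolayPt → ℤ) (some 0) = 16 := by
    rw [← dot_t0, ← hg2t, smul_coe, smul_coe, dot_pres g2.1 g2.2]
    show dotInt t1 u0 = 16
    rw [dotInt_comm, ht1u]
  have hu1 : ((g2 • U0 : ↥leechLattice) : GolayPt → ℤ) none = 5 := by omega
  have hu2 : ((g2 • U0 : ↥leechLattice) : GolayPt → ℤ) (some 0) = 1 := by omega
  obtain ⟨c, hc, hc1, hc2, hform⟩ := classify_p5 _ (g2 • U0).2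
    (by rw [smul_coe, g2.2.2]; exact u0_norm) hu1 hu2
  -- step 3: the sign change
  have hs1 : none ∉ support₂ c := (notMem_support₂_iff c none).mpr hc1
  have hs2 : (some 0 : GolayPt) ∉ support₂ c := (notMem_support₂_iff c (some 0)).mpr hc2
  have e3v : signCh c hc • (g2 • V0) = V0 :=
    Subtype.ext (signCh_fix c hc hs1 hs2 _ v0 hg2v v0_supp)
  have e3t : ((signCh c hc • (g2 • T1) : ↥leechLattice) : GolayPt → ℤ) = t0 :=
    signCh_fix c hc hs1 hs2 _ t0 hg2t t0_supp
  have e3u : signCh c hc • (g2 • U0) = U0 := by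
    apply Subtype.ext
    funext i
    rw [signCh_apply, hform]
    have := sign_PhiT c 0 (tau4 none) i
    rw [add_zero] at this
    rw [this, PhiT_zero]
    rfl
  -- the image of the point
  set x3 : ↥leechLattice := signCh c hc • (g2 • x1) with hx3
  have hx3n : sqNorm (x3 : GolayPt → ℤ) = 32 := by
    rw [hx3, smul_coe, (signCh c hc).2.2, smul_coe, g2.2.2, hx1n]
  have hx3u : dotInt u0 (x3 : GolayPt → ℤ) = 24 := by
    have : u0 = ((signCh c hc • (g2 • U0) : ↥leechLattice) : GolayPt → ℤ) := by rw [e3u]; rfl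
    rw [this, hx3, dot_smul, dot_smul]
    exact hx1u
  have hx3v : dotInt v0 (x3 : GolayPt → ℤ) = 16 := by
    have : v0 = ((signCh c hc • (g2 • V0) : ↥leechLattice) : GolayPt → ℤ) := by rw [e3v]; rfl
    rw [this, hx3, dot_smul, dot_smul]
    exact hx1v
  have hx3t : dotInt t0 (x3 : GolayPt → ℤ) = 0 := by
    rw [← e3t, hx3, dot_smul, dot_smul]
    exact ht1x
  rw [dot_t0] at hx3t
  rcases classify275 x3.1 x3.2 hx3n hx3u hx3v with ⟨k, hk1, hk2, e⟩ | ⟨O, hO, hO1, hO2, e⟩ |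
    ⟨w, hw, h8, hv1, hv2, e⟩
  · exfalso
    have a1 : (Pi.single none 4 + Pi.single k 4 : GolayPt → ℤ) none = 4 := by
      simp [Pi.single_apply, Ne.symm hk1]
    have a2 : (Pi.single none 4 + Pi.single k 4 : GolayPt → ℤ) (some 0) = 0 := by
      simp [Pi.single_apply, Ne.symm hk2]
    rw [e, a1, a2] at hx3t
    norm_num at hx3t
  · -- step 4: a permutation
    obtain ⟨π, hπ, hOO, hmap⟩ := Cfsg.Agent.Lib.Helper3.Golay.exists_map_octad_list hO mRef_mem.1
      [none, some 0] [none, some 0]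
      (List.nodup_cons.mpr ⟨by simp, List.nodup_singleton _⟩)
      (List.nodup_cons.mpr ⟨by simp, List.nodup_singleton _⟩) rfl (by norm_num)
      (by
        intro p hp
        simp only [List.mem_cons, List.not_mem_nil, or_false] at hp
        rcases hp with rfl | rfl
        · exact hO1
        · exact hO2)
      (by
        intro p hp
        simp only [List.mem_cons, List.not_mem_nil, or_false] at hp
        rcases hp with rfl | rfl
        · exact mRef_mem.2.1
        · exact mRef_mem.2.2)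
    simp only [List.map_cons, List.map_nil, List.cons.injEq, and_true] at hmap
    obtain ⟨m1, m2⟩ := hmap
    refine ⟨permEl π hπ * signCh c hc * g2 * g1, ?_, ?_, ?_⟩
    · rw [mul_smul, mul_smul, mul_smul, hg1u, e3u]
      exact Cfsg.Agent.S1584.permEl_eq π hπ _ _ (Cfsg.Agent.S1584.u0_perm π m1)
    · rw [mul_smul, mul_smul, mul_smul, hg1v, e3v]
      exact Cfsg.Agent.S1584.permEl_eq π hπ _ _ (Cfsg.Agent.S1584.v0_perm π m1 m2)
    · rw [mul_smul, mul_smul, mul_smul]
      funext i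
      rw [Cfsg.Agent.S1584.permEl_apply]
      show (x3 : GolayPt → ℤ) (π.symm i) = xRef i
      rw [e, Cfsg.Agent.S1584.Psi_perm, hOO]
      rfl
  · exfalso
    rw [e, PhiO_apply, PhiO_apply, if_pos rfl, if_neg (by decide), hv1, hv2] at hx3t
    norm_num at hx3t

end Cfsg.Agent.Lib.Helper14.LeechMcL
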