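import Mathlib
import Cfsg.Prelude.Def_Sporadic_a
import Cfsg.Agent.Lib.Helper14.LeechMcL

set_option autoImplicit false

/-! The McLaughlin configuration: normal form of a pair of points. -/

namespace Cfsg.Agent.Lib.Helper14.LeechMcL

open Cfsg Cfsg.Agent.Lib.Helper14.Golay Cfsg.Agent.Lib.Helper14.Leech
  Cfsg.Agent.Lib.Helper14.LeechCount Cfsg.Agent.Lib.Helper14.LeechOrbit
  Cfsg.Agent.Lib.Helper14.LeechMono Cfsg.Agent.Lib.Helper14.Co0Center
  Cfsg.Agent.Lib.Helper14.Co0Order Cfsg.Agent.Lib.Helper14.LeechCross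
  Cfsg.Agent.Lib.Helper14.LeechMinCount Cfsg.Agent.Lib.Helper14.LeechPairs
  Cfsg.Agent.Lib.Helper14.LeechHS
open Cfsg.Agent.Lib.Helper3.Golay (wordOf codeMask pc24 bitSet idx)
open Cfsg.Agent.S1578 (u0 u0_mem u0_norm dot_u0 sum_PhiO val_wordOf)
open Cfsg.Agent.S1584 (U0 V0 permEl)
open scoped Pointwise

/-! ### auxiliary octads -/

/-- thirty octads avoiding `∞` and `0` and meeting the reference octad in four points -/
def F30 : List ℕ := [0x49f002, 0x56404c, 0x2d5030, 0x461584, 0x3da10, 0x572082, 0x265640,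
  0x45102e, 0x745102, 0x4d4188, 0x7b420, 0x27c00a, 0x62d024, 0x436038, 0x539108, 0x6e3008,
  0x4f8014, 0x67016, 0x135062, 0x515094, 0x710d8, 0x4470e0, 0x5d144, 0x4a5150, 0x7b4200,
  0x433244, 0x454252, 0x659280, 0x742a4, 0x46e300]

set_option maxRecDepth 100000 in
theorem F30_mem : ∀ m ∈ F30, m < 2 ^ 24 ∧ codeMask (m % 4096) = m ∧ pc24 m = 8 ∧
    m.testBit 23 = false ∧ m.testBit 0 = false ∧ pc24 (m &&& mRef) = 4 := by
  decide +kernel

set_option maxRecDepth 100000 in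
theorem F30_a : ∀ k : GolayPt, ∃ m ∈ F30, m.testBit (idx k) = false := by
  decide +kernel

set_option maxRecDepth 100000 in
theorem F30_b : ∀ c < 4096, (pc24 (codeMask c) = 8 ∧ (codeMask c).testBit 23 = true ∧
    (codeMask c).testBit 0 = true ∧ codeMask c ≠ mRef) → ∃ m ∈ F30, m &&& codeMask c = 0 := by
  decide +kernel

set_option maxRecDepth 100000 in
theorem F30_c : ∀ c < 4096, pc24 (codeMask c) = 8 → (codeMask c).testBit 23 = true →
    (codeMask c).testBit 0 = false → ∃ m ∈ F30, pc24 (m &&& codeMask c) = 4 := by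
  decide +kernel

theorem sum_Psi2_on (A O : Finset GolayPt) :
    ∑ i ∈ A, Psi 2 ⟨O, ∅⟩ i = 2 * ((A ∩ O).card : ℤ) := by
  classical
  have : ∀ i : GolayPt, Psi 2 ⟨O, ∅⟩ i = if i ∈ O then 2 else 0 := by
    intro i
    rw [Psi_apply, if_neg (Finset.notMem_empty _)]
  rw [Finset.sum_congr rfl (fun i _ => this i), Finset.sum_ite_mem, Finset.sum_const,
    nsmul_eq_mul, mul_comm]

theorem dot_Psi2_Psi2 (A O : Finset GolayPt) :
    dotInt (Psi 2 ⟨A, ∅⟩) (Psi 2 ⟨O, ∅⟩) = 4 * ((A ∩ O).card : ℤ) := by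
  rw [dot_Psi2, sum_Psi2_on]; ring

/-- the vector `2 · 1_O` for an octad `O` avoiding `∞` and `0` -/
theorem tO_facts (m : ℕ) (h1 : m < 2 ^ 24) (h2 : codeMask (m % 4096) = m) (h3 : pc24 m = 8)
    (h4 : m.testBit 23 = false) (h5 : m.testBit 0 = false) :
    Psi 2 ⟨bitSet m, ∅⟩ ∈ leechLattice ∧ sqNorm (Psi 2 ⟨bitSet m, ∅⟩) = 32 ∧
      dotInt v0 (Psi 2 ⟨bitSet m, ∅⟩) = 0 ∧ dotInt u0 (Psi 2 ⟨bitSet m, ∅⟩) = 16 ∧
      none ∉ bitSet m ∧ (bitSet m).card = 8 := by
  have hw : wordOf m ∈ golayCode := (Cfsg.Agent.Lib.Helper3.Golay.wordOf_mem_iff h1).mpr h2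
  have h8 : (bitSet m).card = 8 := by rw [Cfsg.Agent.Lib.Helper3.Golay.card_bitSet', h3]
  have hn : none ∉ bitSet m := by
    rw [Cfsg.Agent.Lib.Helper3.Golay.mem_bitSet]
    show ¬ m.testBit 23 = true
    rw [h4]; simp
  have h0 : (some 0 : GolayPt) ∉ bitSet m := by
    rw [Cfsg.Agent.Lib.Helper3.Golay.mem_bitSet]
    show ¬ m.testBit 0 = true
    rw [h5]; simp
  have hP := Psi2_mem (wordOf m) hw
    (by rw [Cfsg.Agent.Lib.Helper3.Golay.support_wordOf]; exact h8) ∅ (Finset.empty_subset _)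
    (by simp)
  rw [Cfsg.Agent.Lib.Helper3.Golay.support_wordOf] at hP
  refine ⟨AddSubgroup.subset_closure hP.1, hP.2, ?_, ?_, hn, h8⟩
  · rw [dot_v0, Psi_apply, Psi_apply, if_neg hn, if_neg h0]; norm_num
  · rw [dot_u0, sum_Psi 2 _ _ (Finset.empty_subset _), h8, Psi_apply, if_neg hn]
    norm_num

/-- the auxiliary vector for a pair of points -/
theorem exists_t_quad (y : GolayPt → ℤ) (hy : y ∈ leechLattice) (hn : sqNorm y = 32)
    (h1 : dotInt u0 y = 24) (h2 : dotInt v0 y = 16) (hne : y ≠ xRef) :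
    ∃ t ∈ leechLattice, sqNorm t = 32 ∧ dotInt v0 t = 0 ∧ dotInt u0 t = 16 ∧
      dotInt t xRef = 16 ∧ dotInt t y = 0 := by
  classical
  have hx : ∀ m ∈ F30, dotInt (Psi 2 ⟨bitSet m, ∅⟩) xRef = 16 := by
    intro m hm
    unfold xRef
    rw [dot_Psi2_Psi2, ← Cfsg.Agent.Lib.Helper3.Golay.bitSet_and,
      Cfsg.Agent.Lib.Helper3.Golay.card_bitSet', (F30_mem m hm).2.2.2.2.2]
    norm_num
  rcases classify275 y hy hn h1 h2 with ⟨k, hk1, hk2, rfl⟩ | ⟨O, hO, hO1, hO2, rfl⟩ |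
    ⟨w, hw, h8, hv1, hv2, rfl⟩
  · obtain ⟨m, hm, hmk⟩ := F30_a k
    obtain ⟨f1, f2, f3, f4, f5, -⟩ := F30_mem m hm
    obtain ⟨e1, e2, e3, e4, e5, -⟩ := tO_facts m f1 f2 f3 f4 f5
    refine ⟨_, e1, e2, e3, e4, hx m hm, ?_⟩
    have hk : k ∉ bitSet m := by
      rw [Cfsg.Agent.Lib.Helper3.Golay.mem_bitSet, hmk]; simp
    rw [dotInt_comm, dotInt_add_left, dot_single_left, dot_single_left, Psi_apply, Psi_apply,
      if_neg e5, if_neg hk]
    norm_num
  · obtain ⟨⟨w, hw, rfl⟩, h8⟩ := hO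
    obtain ⟨c, hc, rfl⟩ := (Cfsg.Agent.Lib.Helper3.Golay.mem_golayCode_iff w).mp hw
    rw [Cfsg.Agent.Lib.Helper3.Golay.support_wordOf] at h8 hO1 hO2 hne ⊢
    rw [Cfsg.Agent.Lib.Helper3.Golay.card_bitSet'] at h8
    rw [Cfsg.Agent.Lib.Helper3.Golay.mem_bitSet] at hO1 hO2
    have hcne : codeMask c ≠ mRef := by
      intro h
      apply hne
      rw [h]
      rfl
    obtain ⟨m, hm, hmc⟩ := F30_b c hc ⟨h8, hO1, hO2, hcne⟩
    obtain ⟨f1, f2, f3, f4, f5, -⟩ := F30_mem m hm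
    obtain ⟨e1, e2, e3, e4, e5, -⟩ := tO_facts m f1 f2 f3 f4 f5
    refine ⟨_, e1, e2, e3, e4, hx m hm, ?_⟩
    rw [dot_Psi2_Psi2, ← Cfsg.Agent.Lib.Helper3.Golay.bitSet_and, hmc,
      Cfsg.Agent.Lib.Helper3.Golay.bitSet_zero]
    simp
  · obtain ⟨c, hc, rfl⟩ := (Cfsg.Agent.Lib.Helper3.Golay.mem_golayCode_iff w).mp hw
    rw [Cfsg.Agent.Lib.Helper3.Golay.support_wordOf,
      Cfsg.Agent.Lib.Helper3.Golay.card_bitSet'] at h8
    rw [val_wordOf] at hv1 hv2
    have hb23 : (codeMask c).testBit 23 = true := by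
      have : idx none = 23 := rfl
      rw [this] at hv1
      cases h : (codeMask c).testBit 23
      · rw [h] at hv1; simp at hv1
      · rfl
    have hb0 : (codeMask c).testBit 0 = false := by
      have : idx (some 0) = 0 := rfl
      rw [this] at hv2
      cases h : (codeMask c).testBit 0
      · rfl
      · rw [h] at hv2; simp at hv2
    obtain ⟨m, hm, hmc⟩ := F30_c c hc h8 hb23 hb0
    obtain ⟨f1, f2, f3, f4, f5, -⟩ := F30_mem m hm
    obtain ⟨e1, e2, e3, e4, e5, e6⟩ := tO_facts m f1 f2 f3 f4 f5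
    refine ⟨_, e1, e2, e3, e4, hx m hm, ?_⟩
    rw [dot_Psi2]
    have hterm : ∀ i ∈ bitSet m, PhiO (wordOf (codeMask c), none) i
        = 1 - 2 * (((wordOf (codeMask c) i).val : ℕ) : ℤ) := by
      intro i hi
      have hin : i ≠ none := fun h => e5 (h ▸ hi)
      rw [PhiO_apply, if_neg hin, mul_one]
    rw [Finset.sum_congr rfl hterm, Finset.sum_sub_distrib, ← Finset.mul_sum, sum_val_on,
      Cfsg.Agent.Lib.Helper3.Golay.support_wordOf, ← Cfsg.Agent.Lib.Helper3.Golay.bitSet_and,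
      Cfsg.Agent.Lib.Helper3.Golay.card_bitSet', hmc, Finset.sum_const, e6]
    norm_num


/-! ### renormalisation along an auxiliary vector -/

theorem renorm (T : ↥leechLattice) (hn : sqNorm (T : GolayPt → ℤ) = 32)
    (hv : dotInt v0 (T : GolayPt → ℤ) = 0) (hu : dotInt u0 (T : GolayPt → ℤ) = 16) :
    ∃ h : ↥Co0, h • U0 = U0 ∧ h • V0 = V0 ∧ ((h • T : ↥leechLattice) : GolayPt → ℤ) = t0 := by
  obtain ⟨g2, hg2v, hg2t⟩ := orth_normal V0 T v0_norm hn hv
  have ha : 4 * ((g2 • U0 : ↥leechLattice) : GolayPt → ℤ) none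
      + 4 * ((g2 • U0 : ↥leechLattice) : GolayPt → ℤ) (some 0) = 24 := by
    rw [← dot_v0, ← hg2v, dot_smul]
    show dotInt v0 u0 = 24
    rw [dotInt_comm, dot_u0_v0]
  have hb : 4 * ((g2 • U0 : ↥leechLattice) : GolayPt → ℤ) none
      - 4 * ((g2 • U0 : ↥leechLattice) : GolayPt → ℤ) (some 0) = 16 := by
    rw [← dot_t0, ← hg2t, dot_smul]
    show dotInt (T : GolayPt → ℤ) u0 = 16
    rw [dotInt_comm, hu]
  have hu1 : ((g2 • U0 : ↥leechLattice) : GolayPt → ℤ) none = 5 := by omega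
  have hu2 : ((g2 • U0 : ↥leechLattice) : GolayPt → ℤ) (some 0) = 1 := by omega
  obtain ⟨c, hc, hc1, hc2, hform⟩ := classify_p5 _ (g2 • U0).2
    (by rw [smul_coe, g2.2.2]; exact u0_norm) hu1 hu2
  have hs1 : none ∉ support₂ c := (notMem_support₂_iff c none).mpr hc1
  have hs2 : (some 0 : GolayPt) ∉ support₂ c := (notMem_support₂_iff c (some 0)).mpr hc2
  refine ⟨signCh c hc * g2, ?_, ?_, ?_⟩
  · rw [mul_smul]
    apply Subtype.ext
    funext i
    rw [signCh_apply, hform]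
    have := sign_PhiT c 0 (tau4 none) i
    rw [add_zero] at this
    rw [this, PhiT_zero]
    rfl
  · rw [mul_smul]
    exact Subtype.ext (signCh_fix c hc hs1 hs2 _ v0 hg2v v0_supp)
  · rw [mul_smul]
    exact signCh_fix c hc hs1 hs2 _ t0 hg2t t0_supp

/-! ### the normal form of a pair of points -/

open Cfsg.Agent.Lib.Helper3.Golay (O0 O0_mem pt)

/-- the reference point of the second kind -/
def yRef : GolayPt → ℤ := Psi 2 ⟨bitSet O0, ∅⟩

/-- the points of the first kind -/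
def xA (k : GolayPt) : GolayPt → ℤ := Pi.single none 4 + Pi.single k 4

set_option maxRecDepth 100000 in
theorem O0_pts : none ∈ bitSet O0 ∧ (some 0 : GolayPt) ∈ bitSet O0 ∧ (some 1 : GolayPt) ∈ bitSet O0 ∧
    pt 4 ∉ bitSet O0 := by
  decide +kernel

theorem dot_xA_Psi (k : GolayPt) (O : Finset GolayPt) (h1 : none ∈ O) :
    dotInt (xA k) (Psi 2 ⟨O, ∅⟩) = 8 + if k ∈ O then 8 else 0 := by
  unfold xA
  rw [dotInt_add_left, dot_single_left, dot_single_left, Psi_apply, Psi_apply, if_pos h1,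
    if_neg (Finset.notMem_empty _), if_neg (Finset.notMem_empty _)]
  split_ifs <;> norm_num

theorem xA_perm (π : Equiv.Perm GolayPt) (h1 : π none = none) (k : GolayPt) (i : GolayPt) :
    xA k (π.symm i) = xA (π k) i := by
  unfold xA
  simp only [Pi.add_apply, Pi.single_apply, Equiv.symm_apply_eq, h1]

theorem quad_normal (u v x y : ↥leechLattice) (hu : sqNorm (u : GolayPt → ℤ) = 48)
    (hv : sqNorm (v : GolayPt → ℤ) = 32) (hx : sqNorm (x : GolayPt → ℤ) = 32)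
    (hy : sqNorm (y : GolayPt → ℤ) = 32)
    (huv : dotInt (u : GolayPt → ℤ) (v : GolayPt → ℤ) = 24)
    (hux : dotInt (u : GolayPt → ℤ) (x : GolayPt → ℤ) = 24)
    (huy : dotInt (u : GolayPt → ℤ) (y : GolayPt → ℤ) = 24)
    (hvx : dotInt (v : GolayPt → ℤ) (x : GolayPt → ℤ) = 16)
    (hvy : dotInt (v : GolayPt → ℤ) (y : GolayPt → ℤ) = 16) (hxy : y ≠ x) :
    ∃ g : ↥Co0, g • u = U0 ∧ g • v = V0 ∧ ((g • y : ↥leechLattice) : GolayPt → ℤ) = yRef ∧
      ((dotInt (x : GolayPt → ℤ) (y : GolayPt → ℤ) = 16 ∧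
          ((g • x : ↥leechLattice) : GolayPt → ℤ) = xA (some 1)) ∨
        (dotInt (x : GolayPt → ℤ) (y : GolayPt → ℤ) = 8 ∧
          ((g • x : ↥leechLattice) : GolayPt → ℤ) = xA (pt 4))) := by
  -- step 1: normalise `(u, v, x)`
  obtain ⟨g1, hg1u, hg1v, hg1x⟩ := triple_normal275 u v x hu hv hx huv hux hvx
  set y1 : ↥leechLattice := g1 • y with hy1
  have hy1n : sqNorm (y1 : GolayPt → ℤ) = 32 := by rw [hy1, smul_coe, g1.2.2, hy]
  have hy1u : dotInt u0 (y1 : GolayPt → ℤ) = 24 := by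
    have : u0 = ((g1 • u : ↥leechLattice) : GolayPt → ℤ) := by rw [hg1u]; rfl
    rw [this, hy1, dot_smul, huy]
  have hy1v : dotInt v0 (y1 : GolayPt → ℤ) = 16 := by
    have : v0 = ((g1 • v : ↥leechLattice) : GolayPt → ℤ) := by rw [hg1v]; rfl
    rw [this, hy1, dot_smul, hvy]
  have hy1ne : (y1 : GolayPt → ℤ) ≠ xRef := by
    intro h
    apply hxy
    have : g1 • y = g1 • x := Subtype.ext (h.trans hg1x.symm)
    exact smul_left_cancel g1 this
  -- step 2: the auxiliary vector and the renormalisation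
  obtain ⟨t1, ht1m, ht1n, ht1v, ht1u, ht1x, ht1y⟩ :=
    exists_t_quad y1.1 y1.2 hy1n hy1u hy1v hy1ne
  set T1 : ↥leechLattice := ⟨t1, ht1m⟩ with hT1
  obtain ⟨h, hhu, hhv, hht⟩ := renorm T1 ht1n ht1v ht1u
  -- the images of the two points
  set x3 : ↥leechLattice := h • (g1 • x) with hx3
  set y3 : ↥leechLattice := h • y1 with hy3
  have hx3n : sqNorm (x3 : GolayPt → ℤ) = 32 := by
    rw [hx3, smul_coe, h.2.2, smul_coe, g1.2.2, hx]
  have hy3n : sqNorm (y3 : GolayPt → ℤ) = 32 := by rw [hy3, smul_coe, h.2.2, hy1n]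
  have hx3u : dotInt u0 (x3 : GolayPt → ℤ) = 24 := by
    have : u0 = ((h • (g1 • u) : ↥leechLattice) : GolayPt → ℤ) := by rw [hg1u, hhu]; rfl
    rw [this, hx3, dot_smul, dot_smul, hux]
  have hx3v : dotInt v0 (x3 : GolayPt → ℤ) = 16 := by
    have : v0 = ((h • (g1 • v) : ↥leechLattice) : GolayPt → ℤ) := by rw [hg1v, hhv]; rfl
    rw [this, hx3, dot_smul, dot_smul, hvx]
  have hy3u : dotInt u0 (y3 : GolayPt → ℤ) = 24 := by
    have : u0 = ((h • U0 : ↥leechLattice) : GolayPt → ℤ) := by rw [hhu]; rfl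
    rw [this, hy3, dot_smul]
    exact hy1u
  have hy3v : dotInt v0 (y3 : GolayPt → ℤ) = 16 := by
    have : v0 = ((h • V0 : ↥leechLattice) : GolayPt → ℤ) := by rw [hhv]; rfl
    rw [this, hy3, dot_smul]
    exact hy1v
  have hx3t : dotInt t0 (x3 : GolayPt → ℤ) = 16 := by
    rw [← hht, hx3, dot_smul, hg1x]
    exact ht1x
  have hy3t : dotInt t0 (y3 : GolayPt → ℤ) = 0 := by
    rw [← hht, hy3, dot_smul]
    exact ht1y
  have hx3y3 : dotInt (x3 : GolayPt → ℤ) (y3 : GolayPt → ℤ)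
      = dotInt (x : GolayPt → ℤ) (y : GolayPt → ℤ) := by
    rw [hx3, hy3, dot_smul, hy1, dot_smul]
  rw [dot_t0] at hx3t hy3t
  -- the first point is of the first kind
  obtain ⟨k, hk1, hk2, ex⟩ : ∃ k, k ≠ none ∧ k ≠ some 0 ∧ (x3 : GolayPt → ℤ) = xA k := by
    rcases classify275 x3.1 x3.2 hx3n hx3u hx3v with ⟨k, hk1, hk2, e⟩ | ⟨O, hO, hO1, hO2, e⟩ |
      ⟨w, hw, h8, hv1, hv2, e⟩
    · exact ⟨k, hk1, hk2, e⟩
    · exfalso
      rw [e, Psi_apply, Psi_apply, if_pos hO1, if_pos hO2, if_neg (Finset.notMem_empty _)] at hx3t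
      norm_num at hx3t
    · exfalso
      rw [e, PhiO_apply, PhiO_apply, if_pos rfl, if_neg (by decide), hv1, hv2] at hx3t
      norm_num at hx3t
  -- the second point is of the second kind
  obtain ⟨O, hO, hO1, hO2, ey⟩ : ∃ O ∈ octads, none ∈ O ∧ (some 0 : GolayPt) ∈ O ∧
      (y3 : GolayPt → ℤ) = Psi 2 ⟨O, ∅⟩ := by
    rcases classify275 y3.1 y3.2 hy3n hy3u hy3v with ⟨k', hk1', hk2', e⟩ | ⟨O, hO, hO1, hO2, e⟩ |
      ⟨w, hw, h8, hv1, hv2, e⟩
    · exfalso
      have a1 : (Pi.single none 4 + Pi.single k' 4 : GolayPt → ℤ) none = 4 := by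
        simp [Pi.single_apply, Ne.symm hk1']
      have a2 : (Pi.single none 4 + Pi.single k' 4 : GolayPt → ℤ) (some 0) = 0 := by
        simp [Pi.single_apply, Ne.symm hk2']
      rw [e, a1, a2] at hy3t
      norm_num at hy3t
    · exact ⟨O, hO, hO1, hO2, e⟩
    · exfalso
      rw [e, PhiO_apply, PhiO_apply, if_pos rfl, if_neg (by decide), hv1, hv2] at hy3t
      norm_num at hy3t
  rw [ex, ey, dot_xA_Psi k O hO1] at hx3y3
  by_cases hkO : k ∈ O
  · -- inner product 16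
    rw [if_pos hkO] at hx3y3
    obtain ⟨π, hπ, hOO, hmap⟩ := Cfsg.Agent.Lib.Helper3.Golay.exists_map_octad_list hO O0_mem
      [none, some 0, k] [none, some 0, some 1]
      (List.nodup_cons.mpr ⟨by simp [hk1.symm], List.nodup_cons.mpr
        ⟨by simp [hk2.symm], List.nodup_singleton _⟩⟩)
      (by decide) rfl (by norm_num)
      (by
        intro p hp
        simp only [List.mem_cons, List.not_mem_nil, or_false] at hp
        rcases hp with rfl | rfl | rfl
        · exact hO1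
        · exact hO2
        · exact hkO)
      (by
        intro p hp
        simp only [List.mem_cons, List.not_mem_nil, or_false] at hp
        rcases hp with rfl | rfl | rfl
        · exact O0_pts.1
        · exact O0_pts.2.1
        · exact O0_pts.2.2.1)
    simp only [List.map_cons, List.map_nil, List.cons.injEq, and_true] at hmap
    obtain ⟨m1, m2, m3⟩ := hmap
    refine ⟨permEl π hπ * h * g1, ?_, ?_, ?_, Or.inl ⟨by omega, ?_⟩⟩
    · rw [mul_smul, mul_smul, hg1u, hhu]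
      exact Cfsg.Agent.S1584.permEl_eq π hπ _ _ (Cfsg.Agent.S1584.u0_perm π m1)
    · rw [mul_smul, mul_smul, hg1v, hhv]
      exact Cfsg.Agent.S1584.permEl_eq π hπ _ _ (Cfsg.Agent.S1584.v0_perm π m1 m2)
    · rw [mul_smul, mul_smul]
      funext i
      rw [Cfsg.Agent.S1584.permEl_apply]
      show (y3 : GolayPt → ℤ) (π.symm i) = yRef i
      rw [ey, Cfsg.Agent.S1584.Psi_perm, hOO]
      rfl
    · rw [mul_smul, mul_smul]
      funext i
      rw [Cfsg.Agent.S1584.permEl_apply]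
      show (x3 : GolayPt → ℤ) (π.symm i) = xA (some 1) i
      rw [ex, xA_perm π m1, m3]
  · -- inner product 8
    rw [if_neg hkO] at hx3y3
    obtain ⟨τ, hτ, hOO, hmap, hτk⟩ := Cfsg.Agent.Lib.Helper3.Golay.exists_map_octad_list_out hO
      [none, some 0] [none, some 0] (by decide) (by decide) rfl (by norm_num)
      (by
        intro p hp
        simp only [List.mem_cons, List.not_mem_nil, or_false] at hp
        rcases hp with rfl | rfl
        · exact O0_pts.1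
        · exact O0_pts.2.1)
      (by
        intro p hp
        simp only [List.mem_cons, List.not_mem_nil, or_false] at hp
        rcases hp with rfl | rfl
        · exact hO1
        · exact hO2) hkO
    simp only [List.map_cons, List.map_nil, List.cons.injEq, and_true] at hmap
    obtain ⟨m1, m2⟩ := hmap
    have hπ : τ⁻¹ ∈ M24 := M24.inv_mem hτ
    have n1 : τ⁻¹ none = none := by
      rw [Equiv.Perm.inv_def, Equiv.symm_apply_eq, m1]
    have n2 : τ⁻¹ (some 0) = some 0 := by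
      rw [Equiv.Perm.inv_def, Equiv.symm_apply_eq, m2]
    have n3 : τ⁻¹ k = pt 4 := by
      rw [Equiv.Perm.inv_def, Equiv.symm_apply_eq, hτk]
    have n4 : τ⁻¹ • O = bitSet O0 := by
      rw [← hOO, inv_smul_smul]
    refine ⟨permEl τ⁻¹ hπ * h * g1, ?_, ?_, ?_, Or.inr ⟨by omega, ?_⟩⟩
    · rw [mul_smul, mul_smul, hg1u, hhu]
      exact Cfsg.Agent.S1584.permEl_eq _ hπ _ _ (Cfsg.Agent.S1584.u0_perm _ n1)
    · rw [mul_smul, mul_smul, hg1v, hhv]
      exact Cfsg.Agent.S1584.permEl_eq _ hπ _ _ (Cfsg.Agent.S1584.v0_perm _ n1 n2)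
    · rw [mul_smul, mul_smul]
      funext i
      rw [Cfsg.Agent.S1584.permEl_apply]
      show (y3 : GolayPt → ℤ) ((τ⁻¹).symm i) = yRef i
      rw [ey, Cfsg.Agent.S1584.Psi_perm, n4]
      rfl
    · rw [mul_smul, mul_smul]
      funext i
      rw [Cfsg.Agent.S1584.permEl_apply]
      show (x3 : GolayPt → ℤ) ((τ⁻¹).symm i) = xA (pt 4) i
      rw [ex, xA_perm _ n1, n3]

end Cfsg.Agent.Lib.Helper14.LeechMcL
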