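import Mathlib
import Cfsg.Prelude.Def_Sporadic_a
import Cfsg.Agent.Lib.Helper3.Golay.M24List

set_option autoImplicit false

/-! Transitivity of the stabiliser of two points in `M24` on three kinds of marked octads. -/

namespace Cfsg.Agent.Lib.Helper14.M22Trans

open Cfsg Cfsg.Agent.Lib.Helper3.Golay
open scoped Pointwise

/-- two octads meet in an even number of points -/
theorem octad_inter_even {a b : Finset GolayPt} (ha : a ∈ octads) (hb : b ∈ octads) :
    (a ∩ b).card = 0 ∨ (a ∩ b).card = 2 ∨ (a ∩ b).card = 4 ∨ (a ∩ b).card = 8 := by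
  have hs := symmDiff_mem_supports ha.1 hb.1
  have hc := card_mem_supports hs
  have h1 := card_symmDiff_add a b
  rw [ha.2, hb.2] at h1
  omega

/-- two octads sharing five points are equal -/
theorem octad_eq_of_five {a b : Finset GolayPt} (ha : a ∈ octads) (hb : b ∈ octads)
    (s : Finset GolayPt) (hs : 5 ≤ s.card) (hsa : s ⊆ a) (hsb : s ⊆ b) : a = b := by
  by_contra hne
  have h1 := octad_inter_le ha hb hne
  have h2 : s.card ≤ (a ∩ b).card := Finset.card_le_card (Finset.subset_inter hsa hsb)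
  omega

theorem mem_smul_perm (σ : Equiv.Perm GolayPt) (s : Finset GolayPt) (x : GolayPt) (hx : x ∈ s) :
    σ x ∈ σ • s := by
  have : σ • x ∈ σ • s := Finset.smul_mem_smul_finset hx
  rwa [Equiv.Perm.smul_def] at this

theorem mem_smul_perm_iff (σ : Equiv.Perm GolayPt) (s : Finset GolayPt) (x : GolayPt) :
    σ x ∈ σ • s ↔ x ∈ s := by
  have : σ • x ∈ σ • s ↔ x ∈ s := Finset.smul_mem_smul_finset_iff σ
  rwa [Equiv.Perm.smul_def] at this

set_option maxRecDepth 100000 in
theorem base_facts : β 0 ∈ bitSet O0 ∧ β 1 ∈ bitSet O0 ∧ β 2 ∈ bitSet O0 ∧ β 3 ∈ bitSet O0 ∧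
    β 4 ∈ bitSet O0 ∧ ({β 2, β 3, β 4} : Finset GolayPt).card = 3 ∧ β 0 = none ∧ β 1 = some 0 := by
  decide +kernel

/-- an octad through the last three of the five base points, avoiding the first two: a fourth
point on the base octad and a point off it -/
theorem aux_pts {o : Finset GolayPt} (ho : o ∈ octads)
    (h0 : β 0 ∉ o) (h1 : β 1 ∉ o) (h2 : β 2 ∈ o) (h3 : β 3 ∈ o) (h4 : β 4 ∈ o) :
    (∃ p4 ∈ o, p4 ∈ bitSet O0 ∧ p4 ∉ base5 ∧ p4 ∉ ({β 2, β 3, β 4} : Finset GolayPt)) ∧
      ∃ y ∈ o, y ∉ bitSet O0 := by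
  obtain ⟨b0, b1, b2, b3, b4, hc3, -, -⟩ := base_facts
  have hne : o ≠ bitSet O0 := fun h => h0 (h ▸ b0)
  have hle := octad_inter_le ho O0_mem hne
  have hsub : ({β 2, β 3, β 4} : Finset GolayPt) ⊆ o ∩ bitSet O0 := by
    intro x hx
    simp only [Finset.mem_insert, Finset.mem_singleton] at hx
    rcases hx with rfl | rfl | rfl
    · exact Finset.mem_inter.mpr ⟨h2, b2⟩
    · exact Finset.mem_inter.mpr ⟨h3, b3⟩
    · exact Finset.mem_inter.mpr ⟨h4, b4⟩
  have hge : 3 ≤ (o ∩ bitSet O0).card := hc3 ▸ Finset.card_le_card hsub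
  have h4c : (o ∩ bitSet O0).card = 4 := by
    rcases octad_inter_even ho O0_mem with h | h | h | h <;> omega
  constructor
  · obtain ⟨p4, hp4, hp4n⟩ := Finset.exists_mem_notMem_of_card_lt_card
      (show ({β 2, β 3, β 4} : Finset GolayPt).card < (o ∩ bitSet O0).card by omega)
    rw [Finset.mem_inter] at hp4
    refine ⟨p4, hp4.1, hp4.2, ?_, hp4n⟩
    intro hb
    simp only [base5, List.mem_cons, List.not_mem_nil, or_false] at hb
    simp only [Finset.mem_insert, Finset.mem_singleton] at hp4n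
    rcases hb with rfl | rfl | rfl | rfl | rfl
    · exact h0 hp4.1
    · exact h1 hp4.1
    · exact hp4n (Or.inl rfl)
    · exact hp4n (Or.inr (Or.inl rfl))
    · exact hp4n (Or.inr (Or.inr rfl))
  · have hcard := Finset.card_sdiff_add_card_inter o (bitSet O0)
    rw [ho.2, h4c] at hcard
    have hpos : 0 < (o \ bitSet O0).card := by omega
    obtain ⟨y, hy⟩ := Finset.card_pos.mp hpos
    rw [Finset.mem_sdiff] at hy
    exact ⟨y, hy.1, hy.2⟩

/-- the pointwise stabiliser of the five base points is transitive on the octads through the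
last three of them which avoid the first two -/
theorem exists_fix5_octad {o o' : Finset GolayPt} (ho : o ∈ octads) (ho' : o' ∈ octads)
    (h0 : β 0 ∉ o) (h1 : β 1 ∉ o) (h2 : β 2 ∈ o) (h3 : β 3 ∈ o) (h4 : β 4 ∈ o)
    (h0' : β 0 ∉ o') (h1' : β 1 ∉ o') (h2' : β 2 ∈ o') (h3' : β 3 ∈ o') (h4' : β 4 ∈ o') :
    ∃ σ ∈ M24, (∀ p ∈ base5, σ p = p) ∧ σ • o = o' := by
  obtain ⟨b0, b1, b2, b3, b4, hc3, -, -⟩ := base_facts
  obtain ⟨⟨p4, hp4o, hp4O, hp4b, hp4n⟩, ⟨y, hyo, hyO⟩⟩ := aux_pts ho h0 h1 h2 h3 h4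
  obtain ⟨⟨p4', hp4o', hp4O', hp4b', hp4n'⟩, ⟨y', hyo', hyO'⟩⟩ := aux_pts ho' h0' h1' h2' h3' h4'
  obtain ⟨σ1, hσ1, hfix1, hmap1⟩ := exists_fix5_map hp4b hp4b' ⟨fun _ => hp4O', fun _ => hp4O⟩
  -- `σ1` stabilises the base octad
  have hσ1O : σ1 • bitSet O0 = bitSet O0 := by
    apply smul_octad_eq hσ1 O0_mem base5.toFinset
    · intro p hp
      exact hfix1 p (List.mem_toFinset.mp hp)
    · have hsub : base5.toFinset ⊆ bitSet O0 ∩ base5.toFinset := by
        intro x hx
        exact Finset.mem_inter.mpr ⟨base5_mem_O0 x (List.mem_toFinset.mp hx), hx⟩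
      have : base5.toFinset.card = 5 := by
        rw [List.toFinset_card_of_nodup base5_nodup]; rfl
      exact this ▸ Finset.card_le_card hsub
  have hy1 : σ1 y ∉ bitSet O0 := by
    intro h
    rw [← hσ1O, mem_smul_perm_iff] at h
    exact hyO h
  obtain ⟨τ1, hτ1, hτ1fix, -, hτ1y⟩ := exists_fix_O0_map hy1
  obtain ⟨τ2, hτ2, hτ2fix, -, hτ2y⟩ := exists_fix_O0_map hyO'
  have hτfix : ∀ p ∈ bitSet O0, (τ2 * τ1⁻¹) p = p := by
    intro p hp
    rw [Equiv.Perm.mul_apply, Equiv.Perm.inv_eq_iff_eq.mpr (hτ1fix p hp).symm, hτ2fix p hp]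
  have hτy : (τ2 * τ1⁻¹) (σ1 y) = y' := by
    rw [Equiv.Perm.mul_apply, Equiv.Perm.inv_eq_iff_eq.mpr hτ1y.symm, hτ2y]
  have hτ : τ2 * τ1⁻¹ ∈ M24 := M24.mul_mem hτ2 (M24.inv_mem hτ1)
  refine ⟨τ2 * τ1⁻¹ * σ1, M24.mul_mem hτ hσ1, ?_, ?_⟩
  · intro p hp
    rw [Equiv.Perm.mul_apply, hfix1 p hp, hτfix p (base5_mem_O0 p hp)]
  · have hfixb : ∀ p ∈ base5, (τ2 * τ1⁻¹ * σ1) p = p := by
      intro p hp
      rw [Equiv.Perm.mul_apply, hfix1 p hp, hτfix p (base5_mem_O0 p hp)]
    have m2 : β 2 ∈ base5 := by simp [base5]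
    have m3 : β 3 ∈ base5 := by simp [base5]
    have m4 : β 4 ∈ base5 := by simp [base5]
    set σ := τ2 * τ1⁻¹ * σ1 with hσdef
    have hσM : σ ∈ M24 := M24.mul_mem hτ hσ1
    have e2 : β 2 ∈ σ • o := by
      have := mem_smul_perm σ o _ h2
      rwa [hfixb _ m2] at this
    have e3 : β 3 ∈ σ • o := by
      have := mem_smul_perm σ o _ h3
      rwa [hfixb _ m3] at this
    have e4 : β 4 ∈ σ • o := by
      have := mem_smul_perm σ o _ h4
      rwa [hfixb _ m4] at this
    have e5 : p4' ∈ σ • o := by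
      have := mem_smul_perm σ o _ hp4o
      rwa [hσdef, Equiv.Perm.mul_apply, hmap1, hτfix p4' hp4O'] at this
    have e6 : y' ∈ σ • o := by
      have := mem_smul_perm σ o _ hyo
      rwa [hσdef, Equiv.Perm.mul_apply, hτy] at this
    apply octad_eq_of_five (smul_mem_octads hσM ho) ho'
      (insert y' (insert p4' ({β 2, β 3, β 4} : Finset GolayPt)))
    · rw [Finset.card_insert_of_notMem, Finset.card_insert_of_notMem hp4n', hc3]
      intro h
      simp only [Finset.mem_insert, Finset.mem_singleton] at h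
      rcases h with rfl | rfl | rfl | rfl
      · exact hyO' hp4O'
      · exact hyO' b2
      · exact hyO' b3
      · exact hyO' b4
    · intro x hx
      simp only [Finset.mem_insert, Finset.mem_singleton] at hx
      rcases hx with rfl | rfl | rfl | rfl | rfl
      · exact e6
      · exact e5
      · exact e2
      · exact e3
      · exact e4
    · intro x hx
      simp only [Finset.mem_insert, Finset.mem_singleton] at hx
      rcases hx with rfl | rfl | rfl | rfl | rfl
      · exact hyo'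
      · exact hp4o'
      · exact h2'
      · exact h3'
      · exact h4'

/-- an octad avoiding two points can be moved so that the two points become the first two base
points and the octad passes through the next three -/
theorem exists_to_base {o : Finset GolayPt} (ho : o ∈ octads) {p q : GolayPt} (hpq : p ≠ q)
    (hp : p ∉ o) (hq : q ∉ o) :
    ∃ g ∈ M24, g p = β 0 ∧ g q = β 1 ∧ β 0 ∉ g • o ∧ β 1 ∉ g • o ∧ β 2 ∈ g • o ∧ β 3 ∈ g • o ∧
      β 4 ∈ g • o := by
  obtain ⟨s, hs, hscard⟩ := Finset.exists_subset_card_eq (show 3 ≤ o.card by rw [ho.2]; norm_num)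
  obtain ⟨x, y, z, hxy, hxz, hyz, rfl⟩ := Finset.card_eq_three.mp hscard
  have hx : x ∈ o := hs (by simp)
  have hy : y ∈ o := hs (by simp)
  have hz : z ∈ o := hs (by simp)
  have hnd : [p, q, x, y, z].Nodup := by
    simp only [List.nodup_cons, List.mem_cons, List.not_mem_nil, or_false, not_or,
      List.nodup_nil, and_true, not_false_eq_true]
    refine ⟨⟨hpq, ?_, ?_, ?_⟩, ⟨?_, ?_, ?_⟩, ⟨hxy, hxz⟩, hyz⟩
    · rintro rfl; exact hp hx
    · rintro rfl; exact hp hy
    · rintro rfl; exact hp hz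
    · rintro rfl; exact hq hx
    · rintro rfl; exact hq hy
    · rintro rfl; exact hq hz
  obtain ⟨g, hg, hmap⟩ := exists_map_list [p, q, x, y, z] base5 hnd base5_nodup rfl (by norm_num)
  simp only [base5, List.map_cons, List.map_nil, List.cons.injEq, and_true] at hmap
  obtain ⟨m0, m1, m2, m3, m4⟩ := hmap
  refine ⟨g, hg, m0, m1, ?_, ?_, ?_, ?_, ?_⟩
  · rw [← m0, mem_smul_perm_iff]; exact hp
  · rw [← m1, mem_smul_perm_iff]; exact hq
  · rw [← m2]; exact mem_smul_perm g o x hx
  · rw [← m3]; exact mem_smul_perm g o y hy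
  · rw [← m4]; exact mem_smul_perm g o z hz

/-- the stabiliser of two points is transitive on the octads avoiding both -/
theorem exists_map_avoid {o o' : Finset GolayPt} (ho : o ∈ octads) (ho' : o' ∈ octads)
    {p q : GolayPt} (hpq : p ≠ q) (hp : p ∉ o) (hq : q ∉ o) (hp' : p ∉ o') (hq' : q ∉ o') :
    ∃ g ∈ M24, g p = p ∧ g q = q ∧ g • o = o' := by
  obtain ⟨g, hg, g0, g1, a0, a1, a2, a3, a4⟩ := exists_to_base ho hpq hp hq
  obtain ⟨g', hg', g0', g1', a0', a1', a2', a3', a4'⟩ := exists_to_base ho' hpq hp' hq'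
  obtain ⟨σ, hσ, hfix, hmap⟩ := exists_fix5_octad (smul_mem_octads hg ho) (smul_mem_octads hg' ho')
    a0 a1 a2 a3 a4 a0' a1' a2' a3' a4'
  have m0 : β 0 ∈ base5 := by simp [base5]
  have m1 : β 1 ∈ base5 := by simp [base5]
  refine ⟨g'⁻¹ * σ * g, M24.mul_mem (M24.mul_mem (M24.inv_mem hg') hσ) hg, ?_, ?_, ?_⟩
  · rw [Equiv.Perm.mul_apply, Equiv.Perm.mul_apply, g0, hfix _ m0, Equiv.Perm.inv_eq_iff_eq, g0']
  · rw [Equiv.Perm.mul_apply, Equiv.Perm.mul_apply, g1, hfix _ m1, Equiv.Perm.inv_eq_iff_eq, g1']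
  · rw [mul_smul, mul_smul, hmap, inv_smul_smul]

/-- the stabiliser of two points is transitive on the pairs of an octad through both and a
further point of it -/
theorem exists_map_in {o o' : Finset GolayPt} (ho : o ∈ octads) (ho' : o' ∈ octads)
    {p q k k' : GolayPt} (hpq : p ≠ q) (hp : p ∈ o) (hq : q ∈ o) (hp' : p ∈ o') (hq' : q ∈ o')
    (hk : k ∈ o) (hkp : k ≠ p) (hkq : k ≠ q) (hk' : k' ∈ o') (hkp' : k' ≠ p) (hkq' : k' ≠ q) :
    ∃ g ∈ M24, g p = p ∧ g q = q ∧ g • o = o' ∧ g k = k' := by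
  obtain ⟨g, hg, hgo, hmap⟩ := exists_map_octad_list ho ho' [p, q, k] [p, q, k']
    (by
      simp only [List.nodup_cons, List.mem_cons, List.not_mem_nil, or_false, not_or,
        List.nodup_nil, and_true, not_false_eq_true]
      exact ⟨⟨hpq, hkp.symm⟩, hkq.symm⟩)
    (by
      simp only [List.nodup_cons, List.mem_cons, List.not_mem_nil, or_false, not_or,
        List.nodup_nil, and_true, not_false_eq_true]
      exact ⟨⟨hpq, hkp'.symm⟩, hkq'.symm⟩) rfl (by norm_num)
    (by
      intro x hx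
      simp only [List.mem_cons, List.not_mem_nil, or_false] at hx
      rcases hx with rfl | rfl | rfl
      · exact hp
      · exact hq
      · exact hk)
    (by
      intro x hx
      simp only [List.mem_cons, List.not_mem_nil, or_false] at hx
      rcases hx with rfl | rfl | rfl
      · exact hp'
      · exact hq'
      · exact hk')
  simp only [List.map_cons, List.map_nil, List.cons.injEq, and_true] at hmap
  exact ⟨g, hg, hmap.1, hmap.2.1, hgo, hmap.2.2⟩

/-- the stabiliser of two points is transitive on the pairs of an octad through the second point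
but not the first, and a further point of it -/
theorem exists_map_out {o o' : Finset GolayPt} (ho : o ∈ octads) (ho' : o' ∈ octads)
    {p q j j' : GolayPt} (hp : p ∉ o) (hq : q ∈ o) (hp' : p ∉ o') (hq' : q ∈ o')
    (hj : j ∈ o) (hjq : j ≠ q) (hj' : j' ∈ o') (hjq' : j' ≠ q) :
    ∃ g ∈ M24, g p = p ∧ g q = q ∧ g • o = o' ∧ g j = j' := by
  obtain ⟨b0, b1, -, -, -, -, e0, e1⟩ := base_facts
  have hnd : [β 0, β 1].Nodup := by
    rw [e0, e1]; decide
  have hmem : ∀ x ∈ [β 0, β 1], x ∈ bitSet O0 := by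
    intro x hx
    simp only [List.mem_cons, List.not_mem_nil, or_false] at hx
    rcases hx with rfl | rfl
    · exact b0
    · exact b1
  obtain ⟨t, ht, hto, hmap, htp⟩ := exists_map_octad_list_out ho [β 0, β 1] [q, j] hnd
    (by
      simp only [List.nodup_cons, List.mem_cons, List.not_mem_nil, or_false,
        List.nodup_nil, and_true, not_false_eq_true]
      exact hjq.symm) rfl (by norm_num) hmem
    (by
      intro x hx
      simp only [List.mem_cons, List.not_mem_nil, or_false] at hx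
      rcases hx with rfl | rfl
      · exact hq
      · exact hj) hp
  obtain ⟨t', ht', hto', hmap', htp'⟩ := exists_map_octad_list_out ho' [β 0, β 1] [q, j'] hnd
    (by
      simp only [List.nodup_cons, List.mem_cons, List.not_mem_nil, or_false,
        List.nodup_nil, and_true, not_false_eq_true]
      exact hjq'.symm) rfl (by norm_num) hmem
    (by
      intro x hx
      simp only [List.mem_cons, List.not_mem_nil, or_false] at hx
      rcases hx with rfl | rfl
      · exact hq'
      · exact hj') hp'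
  simp only [List.map_cons, List.map_nil, List.cons.injEq, and_true] at hmap hmap'
  refine ⟨t' * t⁻¹, M24.mul_mem ht' (M24.inv_mem ht), ?_, ?_, ?_, ?_⟩
  · rw [Equiv.Perm.mul_apply, Equiv.Perm.inv_eq_iff_eq.mpr htp.symm, htp']
  · rw [Equiv.Perm.mul_apply, Equiv.Perm.inv_eq_iff_eq.mpr hmap.1.symm, hmap'.1]
  · rw [mul_smul, ← hto, inv_smul_smul, hto']
  · rw [Equiv.Perm.mul_apply, Equiv.Perm.inv_eq_iff_eq.mpr hmap.2.symm, hmap'.2]

end Cfsg.Agent.Lib.Helper14.M22Trans
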