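import Mathlib
import Cfsg.Prelude.Def_Sporadic_a
import Cfsg.Agent.Lib.Helper14.LeechMcL2
import Cfsg.Agent.Lib.Helper14.M22Trans

set_option autoImplicit false

/-! The McLaughlin configuration: the 2025 minimal vectors `x` with `v · x = 0`, `u · x = 16`. -/

namespace Cfsg.Agent.Lib.Helper14.LeechMcL

open Cfsg Cfsg.Agent.Lib.Helper14.Golay Cfsg.Agent.Lib.Helper14.Leech
  Cfsg.Agent.Lib.Helper14.LeechCount Cfsg.Agent.Lib.Helper14.LeechOrbit
  Cfsg.Agent.Lib.Helper14.LeechMono Cfsg.Agent.Lib.Helper14.Co0Center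
  Cfsg.Agent.Lib.Helper14.Co0Order Cfsg.Agent.Lib.Helper14.LeechCross
  Cfsg.Agent.Lib.Helper14.LeechMinCount Cfsg.Agent.Lib.Helper14.LeechPairs
  Cfsg.Agent.Lib.Helper14.LeechHS
open Cfsg.Agent.Lib.Helper3.Golay (wordOf codeMask pc24 bitSet idx)
open Cfsg.Agent.S1578 (u0 u0_mem u0_norm dot_u0 sum_PhiO val_wordOf card_PO_gen)
open Cfsg.Agent.S1584 (U0 V0 permEl)
open scoped Pointwise

/-! ### the defining conditions -/

/-- the conditions defining the 2025 points, in the standard configuration -/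
def pX (x : GolayPt → ℤ) : Prop := dotInt v0 x = 0 ∧ dotInt u0 x = 16

instance : DecidablePred pX := fun x => by unfold pX; infer_instance

/-! ### the odd family -/

/-- the coordinates of an odd vector, in terms of bit masks -/
def valO (m : ℕ) (j i : GolayPt) : ℤ :=
  (1 - 2 * (((m.testBit (idx i)).toNat : ℕ) : ℤ)) * (if i = j then -3 else 1)

/-- the coordinate sum of an odd vector, in terms of bit masks -/
def sumO (m : ℕ) (j : GolayPt) : ℤ :=
  20 - 2 * ((pc24 m : ℕ) : ℤ) + 8 * (((m.testBit (idx j)).toNat : ℕ) : ℤ)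

theorem PhiO_wordOf (m : ℕ) (j i : GolayPt) : PhiO (wordOf m, j) i = valO m j i := by
  rw [PhiO_apply, val_wordOf]
  rfl

theorem sum_PhiO_wordOf (m : ℕ) (j : GolayPt) : ∑ i, PhiO (wordOf m, j) i = sumO m j := by
  rw [sum_PhiO, Cfsg.Agent.Lib.Helper3.Golay.support_wordOf,
    Cfsg.Agent.Lib.Helper3.Golay.card_bitSet', val_wordOf]
  rfl

/-- the conditions for the odd family, in terms of bit masks: `c` is the inner product with
`t0` -/
def condXO (m : ℕ) (j : GolayPt) : Prop :=
  4 * valO m j none + 4 * valO m j (some 0) = 0 ∧ sumO m j + 4 * valO m j none = 16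

instance (m : ℕ) (j : GolayPt) : Decidable (condXO m j) := by
  unfold condXO; infer_instance

theorem condXO_iff (m : ℕ) (j : GolayPt) : pX (PhiO (wordOf m, j)) ↔ condXO m j := by
  unfold pX condXO
  rw [dot_v0, dot_u0, sum_PhiO_wordOf, PhiO_wordOf, PhiO_wordOf]

def condTO (c : ℤ) (m : ℕ) (j : GolayPt) : Prop :=
  4 * valO m j none - 4 * valO m j (some 0) = c

instance (c : ℤ) (m : ℕ) (j : GolayPt) : Decidable (condTO c m j) := by
  unfold condTO; infer_instance

theorem condTO_iff (c : ℤ) (m : ℕ) (j : GolayPt) :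
    dotInt t0 (PhiO (wordOf m, j)) = c ↔ condTO c m j := by
  unfold condTO
  rw [dot_t0, PhiO_wordOf, PhiO_wordOf]

set_option maxRecDepth 100000 in
theorem countXO_aux : (∑ j : GolayPt, sumBelow 4096 (fun c =>
    if condXO (codeMask c) j then 1 else 0)) = 1232 := by
  decide +kernel

theorem countXO : (PO.filter (fun q => pX (PhiO q))).card = 1232 := by
  rw [card_PO_gen]
  refine Eq.trans ?_ countXO_aux
  refine Finset.sum_congr rfl fun j _ => ?_
  congr 1
  funext c
  simp only [condXO_iff]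

set_option maxRecDepth 100000 in
theorem countXO8_aux : (∑ j : GolayPt, sumBelow 4096 (fun c =>
    if condXO (codeMask c) j ∧ condTO 8 (codeMask c) j then 1 else 0)) = 1232 := by
  decide +kernel

theorem countXO8 : (PO.filter (fun q => pX (PhiO q) ∧ dotInt t0 (PhiO q) = 8)).card = 1232 := by
  rw [card_PO_gen]
  refine Eq.trans ?_ countXO8_aux
  refine Finset.sum_congr rfl fun j _ => ?_
  congr 1
  funext c
  simp only [condXO_iff, condTO_iff]

set_option maxRecDepth 100000 in
theorem countXO0_aux : (∑ j : GolayPt, sumBelow 4096 (fun c =>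
    if condXO (codeMask c) j ∧ condTO 0 (codeMask c) j then 1 else 0)) = 0 := by
  decide +kernel

theorem countXO0 : (PO.filter (fun q => pX (PhiO q) ∧ dotInt t0 (PhiO q) = 0)).card = 0 := by
  rw [card_PO_gen]
  refine Eq.trans ?_ countXO0_aux
  refine Finset.sum_congr rfl fun j _ => ?_
  congr 1
  funext c
  simp only [condXO_iff, condTO_iff]


/-! ### the octad family -/

theorem cond2X_iff (w : GolayPt → ZMod 2) (h8 : (support₂ w).card = 8) (U : Finset GolayPt)
    (hU : U ⊆ support₂ w) :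
    pX (f2 ⟨w, U⟩) ↔
      ((U = ∅ ∧ none ∉ support₂ w ∧ (some 0 : GolayPt) ∉ support₂ w) ∨
        (none ∈ support₂ w ∧ (some 0 : GolayPt) ∈ support₂ w ∧
          ∃ k ∈ support₂ w, k ≠ none ∧ k ≠ some 0 ∧ U = {some 0, k})) := by
  unfold f2 pX
  rw [dot_v0, dot_u0, sum_Psi 2 _ _ hU, h8, Psi_apply, Psi_apply]
  have hc : U.card ≤ 8 := h8 ▸ Finset.card_le_card hU
  constructor
  · rintro ⟨e1, e2⟩
    by_cases hT : none ∈ support₂ w
    · by_cases hnU : none ∈ U
      · simp only [hT, hnU, if_true] at e1 e2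
        omega
      · simp only [hT, hnU, if_true, if_false] at e1 e2
        right
        by_cases h0T : (some 0 : GolayPt) ∈ support₂ w
        · by_cases h0U : (some 0 : GolayPt) ∈ U
          · have hc2 : U.card = 2 := by omega
            obtain ⟨x, y, hxy, rfl⟩ := Finset.card_eq_two.mp hc2
            simp only [Finset.mem_insert, Finset.mem_singleton] at h0U hnU
            push Not at hnU
            rcases h0U with rfl | rfl
            · refine ⟨hT, h0T, y, hU (by simp), hnU.2.symm, hxy.symm, rfl⟩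
            · refine ⟨hT, h0T, x, hU (by simp), hnU.1.symm, hxy, ?_⟩
              exact Finset.pair_comm _ _
          · simp only [h0T, h0U, if_true, if_false] at e1
            omega
        · simp only [h0T, if_false] at e1
          omega
    · simp only [hT, if_false] at e1 e2
      left
      have hc0 : U.card = 0 := by omega
      refine ⟨Finset.card_eq_zero.mp hc0, hT, ?_⟩
      intro h0T
      by_cases h0U : (some 0 : GolayPt) ∈ U
      · simp only [h0T, h0U, if_true] at e1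
        omega
      · simp only [h0T, h0U, if_true, if_false] at e1
        omega
  · rintro (⟨rfl, hT, h0T⟩ | ⟨hT, h0T, k, hk, hk1, hk2, rfl⟩)
    · simp [hT, h0T]
    · have hnU : (none : GolayPt) ∉ ({some 0, k} : Finset GolayPt) := by
        simp only [Finset.mem_insert, Finset.mem_singleton, not_or]
        exact ⟨by decide, hk1.symm⟩
      have h0U : (some 0 : GolayPt) ∈ ({some 0, k} : Finset GolayPt) := by simp
      have hc2 : ({some 0, k} : Finset GolayPt).card = 2 := Finset.card_pair hk2.symm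
      simp only [hT, h0T, hnU, h0U, if_true, if_false, hc2]
      norm_num

/-- counting in the octad family, fibre by fibre -/
theorem count2_fiber (P : (GolayPt → ℤ) → Prop) [DecidablePred P] (N : Finset GolayPt → ℕ)
    (h : ∀ (w : GolayPt → ZMod 2), (support₂ w).card = 8 →
      (((support₂ w).powerset.filter (fun U => Even U.card)).filter
        (fun U => P (f2 ⟨w, U⟩))).card = N (support₂ w)) :
    (P2.filter (fun q => P (f2 q))).card
      = sumBelow 4096 (fun c => if pc24 (codeMask c) = 8 then N (bitSet (codeMask c)) else 0) := by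
  classical
  have h1 : (P2.filter (fun q => P (f2 q))).card = ∑ w ∈ Oct8, N (support₂ w) := by
    rw [Finset.card_filter]
    unfold P2
    rw [Finset.sum_sigma]
    refine Finset.sum_congr rfl fun w hw => ?_
    have h8 := ((mem_Oct8 w).mp hw).2
    rw [← h w h8, Finset.card_filter]
  rw [h1, sum_Oct8]
  congr 1
  funext c
  rw [Cfsg.Agent.Lib.Helper3.Golay.support_wordOf]

/-- the number of sign sets on an octad giving a point of the configuration -/
def NX (T : Finset GolayPt) : ℕ :=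
  if none ∉ T ∧ (some 0 : GolayPt) ∉ T then 1
  else if none ∈ T ∧ (some 0 : GolayPt) ∈ T then 6 else 0

theorem fiberX (w : GolayPt → ZMod 2) (h8 : (support₂ w).card = 8) :
    (((support₂ w).powerset.filter (fun U => Even U.card)).filter
      (fun U => pX (f2 ⟨w, U⟩))).card = NX (support₂ w) := by
  classical
  unfold NX
  by_cases hA : none ∉ support₂ w ∧ (some 0 : GolayPt) ∉ support₂ w
  · rw [if_pos hA]
    have : ((support₂ w).powerset.filter (fun U => Even U.card)).filter
        (fun U => pX (f2 ⟨w, U⟩)) = {∅} := by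
      ext U
      simp only [Finset.mem_filter, Finset.mem_powerset, Finset.mem_singleton]
      constructor
      · rintro ⟨⟨hU, -⟩, hp⟩
        rcases (cond2X_iff w h8 U hU).mp hp with ⟨h, -, -⟩ | ⟨h, -⟩
        · exact h
        · exact absurd h hA.1
      · rintro rfl
        refine ⟨⟨Finset.empty_subset _, by simp⟩, ?_⟩
        exact (cond2X_iff w h8 ∅ (Finset.empty_subset _)).mpr (Or.inl ⟨rfl, hA.1, hA.2⟩)
    rw [this, Finset.card_singleton]
  · rw [if_neg hA]
    by_cases hB : none ∈ support₂ w ∧ (some 0 : GolayPt) ∈ support₂ w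
    · rw [if_pos hB]
      have : ((support₂ w).powerset.filter (fun U => Even U.card)).filter
          (fun U => pX (f2 ⟨w, U⟩))
          = (((support₂ w).erase none).erase (some 0)).image (fun k => {some 0, k}) := by
        ext U
        simp only [Finset.mem_filter, Finset.mem_powerset, Finset.mem_image, Finset.mem_erase]
        constructor
        · rintro ⟨⟨hU, -⟩, hp⟩
          rcases (cond2X_iff w h8 U hU).mp hp with ⟨-, h, -⟩ | ⟨-, -, k, hk, hk1, hk2, rfl⟩
          · exact absurd hB.1 h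
          · exact ⟨k, ⟨hk2, hk1, hk⟩, rfl⟩
        · rintro ⟨k, ⟨hk2, hk1, hk⟩, rfl⟩
          have hU : ({some 0, k} : Finset GolayPt) ⊆ support₂ w := by
            intro x hx
            simp only [Finset.mem_insert, Finset.mem_singleton] at hx
            rcases hx with rfl | rfl
            · exact hB.2
            · exact hk
          refine ⟨⟨hU, ?_⟩, ?_⟩
          · rw [Finset.card_pair hk2.symm]; decide
          · exact (cond2X_iff w h8 _ hU).mpr (Or.inr ⟨hB.1, hB.2, k, hk, hk1, hk2, rfl⟩)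
      rw [this, Finset.card_image_of_injOn]
      · rw [Finset.card_erase_of_mem, Finset.card_erase_of_mem hB.1, h8]
        rw [Finset.mem_erase]
        exact ⟨by decide, hB.2⟩
      · intro k hk k' hk' hkk
        simp only [Finset.coe_erase, Set.mem_diff, Finset.mem_coe, Set.mem_singleton_iff] at hk hk'
        have hmem : k ∈ ({some 0, k'} : Finset GolayPt) := by
          have : k ∈ ({some 0, k} : Finset GolayPt) := by simp
          have hkk' : ({some 0, k} : Finset GolayPt) = {some 0, k'} := hkk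
          rwa [hkk'] at this
        simp only [Finset.mem_insert, Finset.mem_singleton] at hmem
        rcases hmem with h | h
        · exact absurd h hk.2
        · exact h
    · rw [if_neg hB]
      rw [Finset.card_eq_zero, Finset.filter_eq_empty_iff]
      intro U hU hp
      rw [Finset.mem_filter, Finset.mem_powerset] at hU
      rcases (cond2X_iff w h8 U hU.1).mp hp with ⟨-, h1, h2⟩ | ⟨h1, h2, -⟩
      · exact hA ⟨h1, h2⟩
      · exact hB ⟨h1, h2⟩

set_option maxRecDepth 100000 in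
theorem countX2_aux : sumBelow 4096 (fun c => if pc24 (codeMask c) = 8 then
    (if ¬ ((codeMask c).testBit 23 = true) ∧ ¬ ((codeMask c).testBit 0 = true) then 1
      else if (codeMask c).testBit 23 = true ∧ (codeMask c).testBit 0 = true then 6 else 0)
    else 0) = 792 := by
  decide +kernel

theorem countX2 : (P2.filter (fun q => pX (f2 q))).card = 792 := by
  rw [count2_fiber pX NX fiberX]
  refine Eq.trans ?_ countX2_aux
  congr 1
  funext c
  congr 1
  unfold NX
  simp only [Cfsg.Agent.Lib.Helper3.Golay.mem_bitSet]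
  rfl

set_option maxRecDepth 100000 in
theorem countX4 : (P4.filter (fun q => pX (Psi 4 q))).card = 1 := by
  decide +kernel

/-- counting minimal lattice elements, family by family -/
theorem ncard_sub_filter (p : (GolayPt → ℤ) → Prop) [DecidablePred p] :
    {x : ↥leechLattice | sqNorm (x : GolayPt → ℤ) = 32 ∧ p (x : GolayPt → ℤ)}.ncard
      = (PO.filter (fun q => p (PhiO q))).card + (P2.filter (fun q => p (f2 q))).card
        + (P4.filter (fun q => p (Psi 4 q))).card := by
  rw [← ncard_min_filter p, ← Set.ncard_image_of_injective _ Subtype.val_injective]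
  congr 1
  ext w
  simp only [Set.mem_ofPred_eq, Set.mem_image]
  constructor
  · rintro ⟨v, ⟨hn, hd⟩, rfl⟩
    exact ⟨v.2, hn, hd⟩
  · rintro ⟨hw, hn, hd⟩
    exact ⟨⟨w, hw⟩, ⟨hn, hd⟩, rfl⟩

theorem countX : {x : ↥leechLattice | sqNorm (x : GolayPt → ℤ) = 32 ∧
    pX (x : GolayPt → ℤ)}.ncard = 2025 := by
  rw [ncard_sub_filter, countXO, countX2, countX4]

/-! ### the classes -/

theorem condA_iff (w : GolayPt → ZMod 2) (h8 : (support₂ w).card = 8) (U : Finset GolayPt)
    (hU : U ⊆ support₂ w) :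
    (pX (f2 ⟨w, U⟩) ∧ dotInt t0 (f2 ⟨w, U⟩) = 0) ↔
      (U = ∅ ∧ (none ∉ support₂ w ∧ (some 0 : GolayPt) ∉ support₂ w)) := by
  rw [cond2X_iff w h8 U hU]
  constructor
  · rintro ⟨h | ⟨hT, h0T, k, hk, hk1, hk2, rfl⟩, ht⟩
    · exact h
    · exfalso
      have hnU : (none : GolayPt) ∉ ({some 0, k} : Finset GolayPt) := by
        simp only [Finset.mem_insert, Finset.mem_singleton, not_or]
        exact ⟨by decide, hk1.symm⟩
      have h0U : (some 0 : GolayPt) ∈ ({some 0, k} : Finset GolayPt) := by simp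
      have h16 : dotInt t0 (Psi 2 ⟨support₂ w, {some 0, k}⟩) = 16 := by
        rw [dot_t0, Psi_apply, Psi_apply, if_pos hT, if_pos h0T, if_neg hnU, if_pos h0U]
        norm_num
      have ht' : dotInt t0 (Psi 2 ⟨support₂ w, {some 0, k}⟩) = 0 := ht
      rw [h16] at ht'
      norm_num at ht'
  · rintro ⟨rfl, hT, h0T⟩
    refine ⟨Or.inl ⟨rfl, hT, h0T⟩, ?_⟩
    unfold f2
    rw [dot_t0, Psi_apply, Psi_apply, if_neg hT, if_neg h0T]
    norm_num

set_option maxRecDepth 100000 in
theorem countA2_aux : sumBelow 4096 (fun c => if pc24 (codeMask c) = 8 then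
    (if ¬ ((codeMask c).testBit 23 = true) ∧ ¬ ((codeMask c).testBit 0 = true) then 1 else 0)
    else 0) = 330 := by
  decide +kernel

theorem countA2 : (P2.filter (fun q => pX (f2 q) ∧ dotInt t0 (f2 q) = 0)).card = 330 := by
  rw [count2_empty (fun x => pX x ∧ dotInt t0 x = 0)
    (fun O => none ∉ O ∧ (some 0 : GolayPt) ∉ O) condA_iff]
  refine Eq.trans ?_ countA2_aux
  congr 1
  funext c
  congr 1
  simp only [Cfsg.Agent.Lib.Helper3.Golay.mem_bitSet]
  rfl

set_option maxRecDepth 100000 in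
theorem countA4 : (P4.filter (fun q => pX (Psi 4 q) ∧ dotInt t0 (Psi 4 q) = 0)).card = 0 := by
  decide +kernel

theorem countA : {x : ↥leechLattice | sqNorm (x : GolayPt → ℤ) = 32 ∧
    (pX (x : GolayPt → ℤ) ∧ dotInt t0 (x : GolayPt → ℤ) = 0)}.ncard = 330 := by
  rw [ncard_sub_filter (fun x => pX x ∧ dotInt t0 x = 0), countXO0, countA2, countA4]

theorem countC2 : (P2.filter (fun q => pX (f2 q) ∧ dotInt t0 (f2 q) = 8)).card = 0 := by
  rw [Finset.card_eq_zero, Finset.filter_eq_empty_iff]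
  rintro ⟨w, U⟩ - ⟨⟨h1, -⟩, h2⟩
  unfold f2 at h1 h2
  rw [dot_v0, Psi_apply, Psi_apply] at h1
  rw [dot_t0, Psi_apply, Psi_apply] at h2
  split_ifs at h1 h2 <;> omega

set_option maxRecDepth 100000 in
theorem countC4 : (P4.filter (fun q => pX (Psi 4 q) ∧ dotInt t0 (Psi 4 q) = 8)).card = 0 := by
  decide +kernel

theorem countC : {x : ↥leechLattice | sqNorm (x : GolayPt → ℤ) = 32 ∧
    (pX (x : GolayPt → ℤ) ∧ dotInt t0 (x : GolayPt → ℤ) = 8)}.ncard = 1232 := by
  rw [ncard_sub_filter (fun x => pX x ∧ dotInt t0 x = 8), countXO8, countC2, countC4]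


/-! ### the third class, by subtraction -/

theorem dot_t0_formA (O : Finset GolayPt) (h1 : none ∉ O) (h2 : (some 0 : GolayPt) ∉ O) :
    dotInt t0 (Psi 2 ⟨O, ∅⟩) = 0 := by
  rw [dot_t0, Psi_apply, Psi_apply, if_neg h1, if_neg h2]
  norm_num

theorem dot_t0_formB (O : Finset GolayPt) (h1 : none ∈ O) (h2 : (some 0 : GolayPt) ∈ O)
    (k : GolayPt) (hk1 : k ≠ none) : dotInt t0 (Psi 2 ⟨O, {some 0, k}⟩) = 16 := by
  have hnU : (none : GolayPt) ∉ ({some 0, k} : Finset GolayPt) := by
    simp only [Finset.mem_insert, Finset.mem_singleton, not_or]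
    exact ⟨by decide, hk1.symm⟩
  have h0U : (some 0 : GolayPt) ∈ ({some 0, k} : Finset GolayPt) := by simp
  rw [dot_t0, Psi_apply, Psi_apply, if_pos h1, if_pos h2, if_neg hnU, if_pos h0U]
  norm_num

set_option maxRecDepth 100000 in
theorem countXO16_aux : (∑ j : GolayPt, sumBelow 4096 (fun c =>
    if condXO (codeMask c) j ∧ condTO 16 (codeMask c) j then 1 else 0)) = 0 := by
  decide +kernel

theorem countXO16 : (PO.filter (fun q => pX (PhiO q) ∧ dotInt t0 (PhiO q) = 16)).card = 0 := by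
  rw [card_PO_gen]
  refine Eq.trans ?_ countXO16_aux
  refine Finset.sum_congr rfl fun j _ => ?_
  congr 1
  funext c
  simp only [condXO_iff, condTO_iff]

theorem countB2 : (P2.filter (fun q => pX (f2 q) ∧ dotInt t0 (f2 q) = 16)).card = 462 := by
  classical
  have h := Finset.card_filter_add_card_filter_not (s := P2.filter (fun q => pX (f2 q)))
    (fun q => dotInt t0 (f2 q) = 0)
  rw [Finset.filter_filter, Finset.filter_filter, countX2, countA2] at h
  have e : P2.filter (fun q => pX (f2 q) ∧ ¬ dotInt t0 (f2 q) = 0)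
      = P2.filter (fun q => pX (f2 q) ∧ dotInt t0 (f2 q) = 16) := by
    apply Finset.filter_congr
    rintro ⟨w, U⟩ hq
    rw [mem_P2] at hq
    obtain ⟨⟨-, h8⟩, hU, -⟩ := hq
    constructor
    · rintro ⟨hp, hne⟩
      refine ⟨hp, ?_⟩
      rcases (cond2X_iff w h8 U hU).mp hp with ⟨rfl, hT, h0T⟩ | ⟨hT, h0T, k, hk, hk1, hk2, rfl⟩
      · exact absurd (dot_t0_formA _ hT h0T) hne
      · exact dot_t0_formB _ hT h0T k hk1
    · rintro ⟨hp, h16⟩
      refine ⟨hp, ?_⟩
      rw [h16]; norm_num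
  rw [e] at h
  omega

set_option maxRecDepth 100000 in
theorem countB4 : (P4.filter (fun q => pX (Psi 4 q) ∧ dotInt t0 (Psi 4 q) = 16)).card = 0 := by
  decide +kernel

theorem countB : {x : ↥leechLattice | sqNorm (x : GolayPt → ℤ) = 32 ∧
    (pX (x : GolayPt → ℤ) ∧ dotInt t0 (x : GolayPt → ℤ) = 16)}.ncard = 462 := by
  rw [ncard_sub_filter (fun x => pX x ∧ dotInt t0 x = 16), countXO16, countB2, countB4]

/-! ### classification of the points -/

theorem t0_mem : t0 ∈ leechLattice := by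
  have := (pair_mem none (some 0) (by decide) 1 (-1) (Or.inl rfl) (Or.inr rfl)).1
  simpa [t0] using this

theorem t0_norm : sqNorm t0 = 32 := by
  have := (pair_mem none (some 0) (by decide) 1 (-1) (Or.inl rfl) (Or.inr rfl)).2
  simpa [t0] using this

/-- the base point -/
noncomputable def T0 : ↥leechLattice := ⟨t0, t0_mem⟩

set_option maxRecDepth 100000 in
theorem Psi4_t0 : Psi 4 ⟨{none, some 0}, {some 0}⟩ = t0 := by
  funext i
  revert i
  decide +kernel

set_option maxRecDepth 100000 in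
theorem pX_t0 : pX t0 := by
  decide +kernel

/-- the odd vectors in terms of supports -/
def PhiS (O : Finset GolayPt) (j : GolayPt) : GolayPt → ℤ :=
  fun i => (if i ∈ O then -1 else 1) * (if i = j then -3 else 1)

theorem PhiO_eq_PhiS (w : GolayPt → ZMod 2) (j : GolayPt) : PhiO (w, j) = PhiS (support₂ w) j := by
  funext i
  rw [PhiO_apply]
  unfold PhiS
  by_cases h : i ∈ support₂ w
  · rw [if_pos h, (mem_support₂_iff w i).mp h]; norm_num
  · rw [if_neg h, (notMem_support₂_iff w i).mp h]; norm_num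

theorem classifyX (y : GolayPt → ℤ) (hy : y ∈ leechLattice) (hn : sqNorm y = 32) (hp : pX y) :
    (∃ O ∈ octads, none ∉ O ∧ (some 0 : GolayPt) ∉ O ∧ y = Psi 2 ⟨O, ∅⟩) ∨
    (∃ O ∈ octads, none ∈ O ∧ (some 0 : GolayPt) ∈ O ∧ ∃ k ∈ O, k ≠ none ∧ k ≠ some 0 ∧
        y = Psi 2 ⟨O, {some 0, k}⟩) ∨
    (∃ O ∈ octads, none ∉ O ∧ (some 0 : GolayPt) ∈ O ∧ ∃ j ∈ O, j ≠ some 0 ∧ y = PhiS O j) ∨
    y = t0 := by
  classical
  have hmem : y ∈ {x : GolayPt → ℤ | x ∈ leechLattice ∧ sqNorm x = 32} := ⟨hy, hn⟩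
  rw [min_eq, Finset.mem_coe, Finset.mem_union, Finset.mem_union] at hmem
  rcases hmem with (hm | hm) | hm
  · right; right; left
    obtain ⟨⟨w, j⟩, hq, rfl⟩ := Finset.mem_image.mp hm
    rw [mem_PO] at hq
    have hwt := Cfsg.Agent.Lib.Helper3.Golay.weight_mem hq
    have hnorm : hammingNorm w = (support₂ w).card := rfl
    rw [hnorm] at hwt
    obtain ⟨h1, h2⟩ := hp
    rw [dot_v0, PhiO_apply, PhiO_apply] at h1
    rw [dot_u0, sum_PhiO, PhiO_apply] at h2
    have c1 := val_cases (w none)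
    have c2 := val_cases (w (some 0))
    have c3 := val_cases (w j)
    have hle : (w none).val ≤ (support₂ w).card := by
      rcases c1 with h | h
      · rw [h]; exact Nat.zero_le _
      · rw [h]
        exact Finset.card_pos.mpr ⟨none, (mem_support₂_iff w none).mpr h⟩
    have hfacts : (support₂ w).card = 8 ∧ j ≠ none ∧ j ≠ some 0 ∧ (w none).val = 0 ∧
        (w (some 0)).val = 1 ∧ (w j).val = 1 := by
      by_cases hj1 : j = none
      · subst hj1
        rw [if_pos rfl, if_neg (by decide)] at h1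
        omega
      · by_cases hj2 : j = some 0
        · subst hj2
          rw [if_neg (by decide), if_pos rfl] at h1
          omega
        · rw [if_neg (fun h => hj1 h.symm), if_neg (fun h => hj2 h.symm)] at h1
          rw [if_neg (fun h => hj1 h.symm)] at h2
          refine ⟨?_, hj1, hj2, ?_, ?_, ?_⟩ <;> omega
    obtain ⟨h8, hj1, hj2, e1, e2, e3⟩ := hfacts
    refine ⟨support₂ w, ⟨⟨w, hq, rfl⟩, h8⟩, (notMem_support₂_iff w none).mpr e1,
      (mem_support₂_iff w _).mpr e2, j, (mem_support₂_iff w j).mpr e3, hj2, PhiO_eq_PhiS w j⟩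
  · obtain ⟨⟨w, U⟩, hq, rfl⟩ := Finset.mem_image.mp hm
    rw [mem_P2] at hq
    obtain ⟨⟨hw, h8⟩, hU, -⟩ := hq
    rcases (cond2X_iff w h8 U hU).mp hp with ⟨rfl, hT, h0T⟩ | ⟨hT, h0T, k, hk, hk1, hk2, rfl⟩
    · left
      exact ⟨support₂ w, ⟨⟨w, hw, rfl⟩, h8⟩, hT, h0T, rfl⟩
    · right; left
      exact ⟨support₂ w, ⟨⟨w, hw, rfl⟩, h8⟩, hT, h0T, k, hk, hk1, hk2, rfl⟩
  · right; right; right
    obtain ⟨q, hq, rfl⟩ := Finset.mem_image.mp hm
    obtain ⟨a, ha⟩ := Finset.card_eq_one.mp countX4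
    have m1 : q ∈ P4.filter (fun q => pX (Psi 4 q)) := Finset.mem_filter.mpr ⟨hq, hp⟩
    have m2 : (⟨{none, some 0}, {some 0}⟩ : (_ : Finset GolayPt) × Finset GolayPt)
        ∈ P4.filter (fun q => pX (Psi 4 q)) := by
      refine Finset.mem_filter.mpr ⟨(mem_P4 _).mpr ⟨by decide, by decide⟩, ?_⟩
      rw [Psi4_t0]
      exact pX_t0
    rw [ha, Finset.mem_singleton] at m1 m2
    rw [m1, ← m2, Psi4_t0]

theorem dot_t0_formC (O : Finset GolayPt) (h1 : none ∉ O) (h2 : (some 0 : GolayPt) ∈ O)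
    (j : GolayPt) (hj : j ∈ O) (hj2 : j ≠ some 0) : dotInt t0 (PhiS O j) = 8 := by
  have hj1 : j ≠ none := fun h => h1 (h ▸ hj)
  rw [dot_t0]
  unfold PhiS
  rw [if_neg h1, if_pos h2, if_neg (fun h => hj1 h.symm), if_neg (fun h => hj2 h.symm)]
  norm_num

theorem dot_t0_t0 : dotInt t0 t0 = 32 := by rw [dotInt_self, t0_norm]

/-- classification together with the inner product with the base point -/
theorem classifyXc (y : GolayPt → ℤ) (hy : y ∈ leechLattice) (hn : sqNorm y = 32) (hp : pX y)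
    (c : ℤ) (hc : dotInt t0 y = c) :
    (c = 0 ∧ ∃ O ∈ octads, none ∉ O ∧ (some 0 : GolayPt) ∉ O ∧ y = Psi 2 ⟨O, ∅⟩) ∨
    (c = 16 ∧ ∃ O ∈ octads, none ∈ O ∧ (some 0 : GolayPt) ∈ O ∧ ∃ k ∈ O, k ≠ none ∧ k ≠ some 0 ∧
        y = Psi 2 ⟨O, {some 0, k}⟩) ∨
    (c = 8 ∧ ∃ O ∈ octads, none ∉ O ∧ (some 0 : GolayPt) ∈ O ∧ ∃ j ∈ O, j ≠ some 0 ∧
        y = PhiS O j) ∨
    (c = 32 ∧ y = t0) := by
  rcases classifyX y hy hn hp with ⟨O, hO, h1, h2, e⟩ | ⟨O, hO, h1, h2, k, hk, hk1, hk2, e⟩ |
    ⟨O, hO, h1, h2, j, hj, hj2, e⟩ | e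
  · left
    refine ⟨?_, O, hO, h1, h2, e⟩
    rw [← hc, e, dot_t0_formA O h1 h2]
  · right; left
    refine ⟨?_, O, hO, h1, h2, k, hk, hk1, hk2, e⟩
    rw [← hc, e, dot_t0_formB O h1 h2 k hk1]
  · right; right; left
    refine ⟨?_, O, hO, h1, h2, j, hj, hj2, e⟩
    rw [← hc, e, dot_t0_formC O h1 h2 j hj hj2]
  · right; right; right
    refine ⟨?_, e⟩
    rw [← hc, e, dot_t0_t0]

/-! ### the point stabiliser is transitive on each class -/

theorem t0_perm (π : Equiv.Perm GolayPt) (h1 : π none = none) (h2 : π (some 0) = some 0)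
    (i : GolayPt) : t0 (π.symm i) = t0 i := by
  unfold t0
  simp only [Pi.add_apply, Pi.single_apply, Equiv.symm_apply_eq, h1, h2]

theorem symm_mem_iff (π : Equiv.Perm GolayPt) (S : Finset GolayPt) (i : GolayPt) :
    π.symm i ∈ S ↔ i ∈ π • S := by
  show π⁻¹ • i ∈ S ↔ _
  exact Finset.inv_smul_mem_iff

theorem Psi_perm2 (π : Equiv.Perm GolayPt) (O U : Finset GolayPt) (i : GolayPt) :
    Psi 2 ⟨O, U⟩ (π.symm i) = Psi 2 ⟨π • O, π • U⟩ i := by
  rw [Psi_apply, Psi_apply]
  simp only [symm_mem_iff]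

theorem PhiS_perm (π : Equiv.Perm GolayPt) (O : Finset GolayPt) (j i : GolayPt) :
    PhiS O j (π.symm i) = PhiS (π • O) (π j) i := by
  unfold PhiS
  simp only [symm_mem_iff, Equiv.symm_apply_eq]

theorem transX (y y' : ↥leechLattice) (c : ℤ)
    (hy : sqNorm (y : GolayPt → ℤ) = 32 ∧ pX (y : GolayPt → ℤ) ∧
      dotInt t0 (y : GolayPt → ℤ) = c)
    (hy' : sqNorm (y' : GolayPt → ℤ) = 32 ∧ pX (y' : GolayPt → ℤ) ∧
      dotInt t0 (y' : GolayPt → ℤ) = c) :
    ∃ h : ↥Co0, h • U0 = U0 ∧ h • V0 = V0 ∧ h • T0 = T0 ∧ h • y = y' := by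
  have hne : (none : GolayPt) ≠ some 0 := by decide
  rcases classifyXc y.1 y.2 hy.1 hy.2.1 c hy.2.2 with
    ⟨hc, O, hO, h1, h2, e⟩ | ⟨hc, O, hO, h1, h2, k, hk, hk1, hk2, e⟩ |
    ⟨hc, O, hO, h1, h2, j, hj, hj2, e⟩ | ⟨hc, e⟩ <;>
  rcases classifyXc y'.1 y'.2 hy'.1 hy'.2.1 c hy'.2.2 with
    ⟨hc', O', hO', h1', h2', e'⟩ | ⟨hc', O', hO', h1', h2', k', hk', hk1', hk2', e'⟩ |
    ⟨hc', O', hO', h1', h2', j', hj', hj2', e'⟩ | ⟨hc', e'⟩
  all_goals first | (exfalso; omega) | skip
  · -- both in the first class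
    obtain ⟨π, hπ, m1, m2, hOO⟩ :=
      Cfsg.Agent.Lib.Helper14.M22Trans.exists_map_avoid hO hO' hne h1 h2 h1' h2'
    refine ⟨permEl π hπ, Cfsg.Agent.S1584.permEl_eq π hπ _ _ (Cfsg.Agent.S1584.u0_perm π m1),
      Cfsg.Agent.S1584.permEl_eq π hπ _ _ (Cfsg.Agent.S1584.v0_perm π m1 m2),
      Cfsg.Agent.S1584.permEl_eq π hπ _ _ (t0_perm π m1 m2),
      Cfsg.Agent.S1584.permEl_eq π hπ _ _ ?_⟩
    intro i
    rw [e, e', Psi_perm2, hOO, Finset.smul_finset_empty]
  · -- both in the second class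
    obtain ⟨π, hπ, m1, m2, hOO, hkk⟩ :=
      Cfsg.Agent.Lib.Helper14.M22Trans.exists_map_in hO hO' hne h1 h2 h1' h2' hk hk1 hk2
        hk' hk1' hk2'
    refine ⟨permEl π hπ, Cfsg.Agent.S1584.permEl_eq π hπ _ _ (Cfsg.Agent.S1584.u0_perm π m1),
      Cfsg.Agent.S1584.permEl_eq π hπ _ _ (Cfsg.Agent.S1584.v0_perm π m1 m2),
      Cfsg.Agent.S1584.permEl_eq π hπ _ _ (t0_perm π m1 m2),
      Cfsg.Agent.S1584.permEl_eq π hπ _ _ ?_⟩
    intro i
    have hU : π • ({some 0, k} : Finset GolayPt) = {some 0, k'} := by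
      rw [Finset.smul_finset_insert, Finset.smul_finset_singleton, Equiv.Perm.smul_def,
        Equiv.Perm.smul_def, m2, hkk]
    rw [e, e', Psi_perm2, hOO, hU]
  · -- both in the third class
    obtain ⟨π, hπ, m1, m2, hOO, hjj⟩ :=
      Cfsg.Agent.Lib.Helper14.M22Trans.exists_map_out hO hO' h1 h2 h1' h2' hj hj2 hj' hj2'
    refine ⟨permEl π hπ, Cfsg.Agent.S1584.permEl_eq π hπ _ _ (Cfsg.Agent.S1584.u0_perm π m1),
      Cfsg.Agent.S1584.permEl_eq π hπ _ _ (Cfsg.Agent.S1584.v0_perm π m1 m2),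
      Cfsg.Agent.S1584.permEl_eq π hπ _ _ (t0_perm π m1 m2),
      Cfsg.Agent.S1584.permEl_eq π hπ _ _ ?_⟩
    intro i
    rw [e, e', PhiS_perm, hOO, hjj]
  · -- both the base point
    refine ⟨1, one_smul _ _, one_smul _ _, one_smul _ _, ?_⟩
    rw [one_smul]
    exact Subtype.ext (e.trans e'.symm)

end Cfsg.Agent.Lib.Helper14.LeechMcL
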