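import Mathlib
import Cfsg.Prelude.Def_Sporadic_a
import Cfsg.Agent.Lib.Helper14.LeechMcL3
import Cfsg.Agent.S1581

set_option autoImplicit false

/-! Computations with bit masks for the second Conway group: auxiliary octads avoiding `∞` and
`0` with prescribed inner products. -/

namespace Cfsg.Agent.Lib.Helper14.LeechCo2

open Cfsg Cfsg.Agent.Lib.Helper14.Golay Cfsg.Agent.Lib.Helper14.Leech
  Cfsg.Agent.Lib.Helper14.LeechCount Cfsg.Agent.Lib.Helper14.LeechMinCount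
  Cfsg.Agent.Lib.Helper14.LeechMcL
open Cfsg.Agent.Lib.Helper3.Golay (wordOf codeMask pc24 bitSet idx)

/-- the octads avoiding `∞` and `0` -/
def F330 : List ℕ := [
  0x49f002, 0x6e3008, 0x27c00a, 0x4f8014, 0x67016, 0x21b01c, 0x68401e, 0x62d024, 0x2b2026,
  0xce02c, 0x45102e, 0x2d5030, 0x64a032, 0x436038, 0xa903a, 0x387044, 0x718046, 0x56404c,
  0x3e0052, 0x19c058, 0x50305a, 0x5aa060, 0x135062, 0x349068, 0x152074, 0x1ed080, 0x572082,
  0x70e088, 0x39108a, 0x515094, 0x18a096, 0x7c00a4, 0x1230ac, 0x3380b0, 0x1440ba, 0x26a0c4,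
  0x4890cc, 0x160ce, 0x6920d0, 0x20d0d2, 0x710d8, 0x4470e0, 0xd80e2, 0x2a40e8, 0x4200f6,
  0x3da100, 0x745102, 0x539108, 0x1a610a, 0x722114, 0x1c111c, 0x168126, 0x31412c, 0x10f130,
  0x590132, 0x5d144, 0x4c2146, 0x22114e, 0x4a5150, 0x3a152, 0x246158, 0x670160, 0x93168,
  0x40c16a, 0x288174, 0x237180, 0x6a8182, 0x4d4188, 0x4b18a, 0x250196, 0x2c19c, 0x41a1a4,
  0x851a6, 0xe21b0, 0x6011b8, 0x1b01c4, 0x5481d0, 0x3021e2, 0x7b4200, 0x32b202, 0x157208,
  0x5c820a, 0x34c214, 0x13021e, 0x199224, 0x506226, 0x561230, 0x382238, 0x433244, 0xac246,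
  0x2d024c, 0xcb250, 0x454252, 0x628258, 0x21e260, 0x681262, 0x6226a, 0x527c, 0x659280, 0x2c6282,
  0xba288, 0x42528a, 0x2a1294, 0x44229c, 0x742a4, 0x2082ae, 0x48c2b0, 0x132b2, 0x1412c6,
  0x1262d0, 0x5102e8, 0x46e300, 0xf1302, 0x28d308, 0x61230a, 0x96314, 0x409316, 0x243324,
  0x4a032c, 0x224332, 0x58338, 0x10a34c, 0x311350, 0x1c4360, 0x583380, 0x11c382, 0x360388,
  0x6043c4, 0x803da, 0x293e0, 0x656404, 0x2c9406, 0xb540c, 0x42a40e, 0x2ae410, 0x631412,
  0x44d418, 0xd241a, 0x7b420, 0x4e4422, 0x698428, 0x20742a, 0x483434, 0x1c436, 0x26043c,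
  0x5d1440, 0x14e442, 0x332448, 0x129454, 0x18046e, 0x704470, 0x324486, 0x15848c, 0x343490,
  0x5a0498, 0x1964a0, 0x5094a2, 0x43c4c0, 0xa34c2, 0x6404ca, 0xc44d4, 0x2114e4, 0xa4f8, 0x58c504,
  0x113506, 0x174510, 0x30851a, 0x3a1520, 0x542528, 0x60b540, 0x294542, 0xe8548, 0x41055c,
  0x26564, 0x41572, 0x461584, 0x28258c, 0x99590, 0x406592, 0x24c5a0, 0x305aa, 0x1055c8, 0x1e2604,
  0x70160c, 0x51a610, 0x185612, 0x350622, 0x12c628, 0x265640, 0x486648, 0x1964a, 0x202656,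
  0x448664, 0xb0670, 0xf684, 0x490686, 0x68692, 0x214698, 0x6226a0, 0xc16a8, 0x3886c0, 0x238704,
  0x4470e, 0x6c0710, 0x23718, 0x415720, 0x8a722, 0x520742, 0x1007b4, 0x527c0, 0x371804, 0x59280c,
  0x10d80e, 0x789810, 0x316812, 0x16a818, 0x55c820, 0x1c3822, 0x72082a, 0x1a4834, 0xf6840,
  0x469842, 0x615848, 0x28a84a, 0x40e854, 0x91856, 0x244866, 0x3886c, 0x223870, 0x4c0878,
  0x29c884, 0x603886, 0xe088e, 0x664890, 0x87898, 0x41889a, 0x4b18a0, 0x2e8a2, 0x2528a8, 0x498b4,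
  0x11b8c0, 0x5848c2, 0x3008dc, 0xab904, 0x434906, 0x64890c, 0x453910, 0xcc912, 0x2b0918,
  0x686920, 0x219922, 0x65928, 0x293e, 0x32c940, 0x15094a, 0x501964, 0x146984, 0x121992,
  0x1889a8, 0x2c19c0, 0x4229c8, 0x149f0, 0x4c5a04, 0x5aa06, 0x226a0c, 0x3da10, 0x4a2a12,
  0x241a1a, 0x2e8a20, 0x40ba28, 0x94a2a, 0x610a34, 0x742a40, 0x1a1a48, 0x108a72, 0x528a84,
  0x1d0a90, 0x305aa0, 0x230ac2, 0x4cac8, 0x82ae4, 0x380b06, 0x504b18, 0x132b20, 0x498b40, 0x7b42,
  0x60b54, 0x11b8c, 0x20ab90, 0x440ba2, 0x527c00, 0x1b8c02, 0x3c4c08, 0x540c16, 0x30ac24,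
  0x111c38, 0x6a0c44, 0x43c4c, 0x258c50, 0x24c5a, 0x8dc60, 0x412c62, 0x4cac80, 0x55c82, 0x229c88,
  0x32c94, 0x404cac, 0x280cb2, 0x160ce0, 0x262d02, 0x1ed08, 0x481d0a, 0x205d14, 0xd0d24,
  0x428d30, 0x182d50, 0x710d80, 0x8dc6, 0x293e00, 0x60ce02, 0x470e08, 0x88e1c, 0x21e26, 0x46e30,
  0x114e44, 0x102e8a, 0x401ed0, 0x149f00, 0x200f68, 0xa4f80]

/-- the mask of an octad avoiding `∞` and `0` -/
def okO (m : ℕ) : Bool :=
  Nat.blt m 16777216 && Nat.beq (codeMask (m % 4096)) m && Nat.beq (pc24 m) 8 &&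
    !(m.testBit 23) && !(m.testBit 0)

set_option maxRecDepth 100000 in
theorem F330_ok : ∀ m ∈ F330, okO m = true := by
  decide +kernel

/-- the inner product of `2 · 1_m` (for an octad `m`) with the odd vector given by `M` and the
position `jx`, shifted by `24`, equals `tgt` -/
def okA (tgt m M jx : ℕ) : Bool :=
  Nat.beq (40 + 16 * (((m >>> jx) &&& 1) * ((M >>> jx) &&& 1)) - 4 * pc24 (m &&& M)
    - 8 * ((m >>> jx) &&& 1)) tgt

/-- the conditions for the odd family, in terms of bit masks -/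
def condO (a b : ℤ) (m : ℕ) (j : GolayPt) : Prop :=
  4 * valO m j none + 4 * valO m j (some 0) = a ∧ sumO m j + 4 * valO m j none = b

instance (a b : ℤ) (m : ℕ) (j : GolayPt) : Decidable (condO a b m j) := by
  unfold condO; infer_instance

def G0 : List ℕ := [
  0x49f002, 0x360388, 0x152074, 0x6a0c44, 0xa4f8, 0x205d14, 0x94a2a, 0x539108, 0x1412c6,
  0x6c0710, 0x2e8a2, 0xa903a, 0x243324, 0x664890, 0x520742, 0x15848c, 0x1964a0, 0x28a84a,
  0x3da10, 0x6043c4, 0x59280c, 0x250196, 0x1055c8, 0x448664, 0x4b18a0, 0xcc912, 0x32b202,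
  0x436038, 0x43c4c, 0x182d50, 0x72082a, 0x48c2b0, 0x265640, 0x238704, 0x132b2, 0x1e2604,
  0x288174, 0x540c16, 0x70e088, 0x311350, 0x40c16a, 0xba288, 0x4c2146, 0x2114e4, 0x55c820,
  0x262d02, 0x87898, 0x3e0052, 0x42528a, 0x8dc6, 0x10f130, 0x60b54, 0xb540c, 0x40ba28, 0x6404ca,
  0x1007b4, 0x258c50, 0x2c19c0, 0x19c058, 0x3a1520, 0x202656, 0x41889a, 0xce02c, 0x135062,
  0x461584, 0x350622, 0x1a610a, 0x527c0, 0x742a40, 0x789810, 0x1b01c4, 0x70160c, 0x114e44,
  0x722114, 0x1889a8, 0x62d024, 0x27c00a, 0x111c38, 0x280cb2, 0x2d5030, 0x4b18a, 0x21b01c]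

def G16 : List ℕ := [
  0x49f002, 0x360388, 0x152074, 0x6a0c44, 0x2c19c, 0x280cb2, 0x415720, 0x40ba28, 0x15094a,
  0x1ed080, 0x202656, 0x572082, 0x93168, 0x21e260, 0x185612, 0x8dc6, 0x2a1294, 0x3c4c08,
  0x428d30, 0x24c5a, 0x3da100, 0x55c82, 0x506226, 0x515094]

set_option maxRecDepth 100000 in
theorem G0_ok : ∀ m ∈ G0, okO m = true := by
  decide +kernel

set_option maxRecDepth 100000 in
theorem G16_ok : ∀ m ∈ G16, okO m = true := by
  decide +kernel

/-- the conditions for the odd family with `a = -8` and `b = -β`, as a boolean function of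
bit masks and the index of the special position -/
def condB (β M jx : ℕ) : Bool :=
  Nat.beq ((if jx = 23 then 6 * ((M >>> 23) &&& 1) else 4 - 2 * ((M >>> 23) &&& 1))
      + (if jx = 0 then 6 * ((M >>> 0) &&& 1) else 4 - 2 * ((M >>> 0) &&& 1))) 4 &&
    Nat.beq (8 + 8 * ((M >>> jx) &&& 1)
      + 4 * (if jx = 23 then 6 * ((M >>> 23) &&& 1) else 4 - 2 * ((M >>> 23) &&& 1)) + β)
      (2 * pc24 M)

open Cfsg.Agent.Lib.Helper3.Golay (allBelow allBelow_iff)

set_option maxRecDepth 100000 in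
theorem po_b0_aux : allBelow 4096 (fun c => allBelow 24 (fun jx =>
    !condB 0 (codeMask c) jx || G0.any (fun m => okA 16 m (codeMask c) jx))) = true := by
  decide +kernel

set_option maxRecDepth 100000 in
theorem po_b16_aux : allBelow 4096 (fun c => allBelow 24 (fun jx =>
    !condB 16 (codeMask c) jx ||
      ((16777215 ^^^ codeMask c) :: G16).any
        (fun m => okO m && okA 32 m (codeMask c) jx))) = true := by
  decide +kernel

set_option maxRecDepth 100000 in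
theorem pair_oct_aux : allBelow 4096 (fun c =>
    !(Nat.beq (pc24 (codeMask c)) 8 && ((codeMask c).testBit 23 != (codeMask c).testBit 0)) ||
    allBelow 24 (fun px => allBelow 24 (fun qx =>
      !(Nat.blt px qx && (codeMask c).testBit px && (codeMask c).testBit qx &&
        !(Nat.beq px 0) && !(Nat.beq qx 23)) ||
      F330.any (fun m => Nat.beq (m &&& codeMask c) ((1 <<< px) ||| (1 <<< qx)))))) = true := by
  decide +kernel

/-! ### the statements in terms of propositions -/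

theorem shift_and_one (M k : ℕ) : (M >>> k) &&& 1 = (M.testBit k).toNat :=
  Cfsg.Agent.Lib.Helper3.Golay.bit_eq M k

theorem idx_none : idx none = 23 := rfl

theorem idx_zero : idx (some 0) = 0 := rfl

theorem idx_eq_23 (j : GolayPt) : idx j = 23 ↔ j = none := by
  constructor
  · intro h
    exact Cfsg.Agent.Lib.Helper3.Golay.idx_injective (h.trans idx_none.symm)
  · rintro rfl; rfl

theorem idx_eq_0 (j : GolayPt) : idx j = 0 ↔ j = some 0 := by
  constructor
  · intro h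
    exact Cfsg.Agent.Lib.Helper3.Golay.idx_injective (h.trans idx_zero.symm)
  · rintro rfl; rfl

theorem condB_iff (β M : ℕ) (j : GolayPt) :
    condB β M (idx j) = true ↔ condO (-8) (-(β : ℤ)) M j := by
  unfold condB condO valO sumO
  rw [Bool.and_eq_true, Nat.beq_eq, Nat.beq_eq, shift_and_one, shift_and_one,
    shift_and_one, idx_none, idx_zero]
  by_cases h1 : j = none
  · subst h1
    rw [idx_none, if_pos rfl, if_neg (by decide), if_pos rfl, if_neg (by decide)]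
    cases (M.testBit 23) <;> cases (M.testBit 0) <;> simp <;> omega
  · by_cases h2 : j = some 0
    · subst h2
      rw [idx_zero, if_neg (by decide), if_pos rfl, if_neg (by decide), if_pos rfl]
      cases (M.testBit 23) <;> cases (M.testBit 0) <;> simp <;> omega
    · have e1 : ¬ idx j = 23 := fun h => h1 ((idx_eq_23 j).mp h)
      have e2 : ¬ idx j = 0 := fun h => h2 ((idx_eq_0 j).mp h)
      rw [if_neg e1, if_neg e2, if_neg (fun h => h1 h.symm), if_neg (fun h => h2 h.symm)]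
      cases (M.testBit 23) <;> cases (M.testBit 0) <;> cases (M.testBit (idx j)) <;> simp <;>
        omega

theorem okO_spec (m : ℕ) (h : okO m = true) :
    m < 2 ^ 24 ∧ codeMask (m % 4096) = m ∧ pc24 m = 8 ∧ m.testBit 23 = false ∧
      m.testBit 0 = false := by
  unfold okO at h
  simp only [Bool.and_eq_true, Nat.blt_eq, Nat.beq_eq, Bool.not_eq_true'] at h
  obtain ⟨⟨⟨⟨h1, h2⟩, h3⟩, h4⟩, h5⟩ := h
  exact ⟨by norm_num; exact h1, h2, h3, h4, h5⟩

open Cfsg.Agent.S1578 (val_wordOf)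

theorem okA_spec (tgt m M : ℕ) (j : GolayPt) (h8 : pc24 m = 8)
    (h : okA tgt m M (idx j) = true) :
    dotInt (Psi 2 ⟨bitSet m, ∅⟩) (PhiO (wordOf M, j)) = (tgt : ℤ) - 24 := by
  unfold okA at h
  rw [Nat.beq_eq, shift_and_one, shift_and_one] at h
  rw [dot_Psi2, Cfsg.Agent.S1581.sum_PhiO_on, Cfsg.Agent.Lib.Helper3.Golay.card_bitSet', h8,
    Cfsg.Agent.Lib.Helper3.Golay.support_wordOf, ← Cfsg.Agent.Lib.Helper3.Golay.bitSet_and,
    Cfsg.Agent.Lib.Helper3.Golay.card_bitSet', val_wordOf]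
  have hle : pc24 (m &&& M) ≤ 8 := by
    rw [← Cfsg.Agent.Lib.Helper3.Golay.card_bitSet', Cfsg.Agent.Lib.Helper3.Golay.bitSet_and,
      ← h8, ← Cfsg.Agent.Lib.Helper3.Golay.card_bitSet']
    exact Finset.card_le_card Finset.inter_subset_left
  by_cases hj : m.testBit (idx j) = true
  · rw [if_pos (Cfsg.Agent.Lib.Helper3.Golay.mem_bitSet.mpr hj)]
    rw [hj] at h
    cases hM : M.testBit (idx j) <;> rw [hM] at h <;> simp at h ⊢ <;> omega
  · rw [if_neg (fun h' => hj (Cfsg.Agent.Lib.Helper3.Golay.mem_bitSet.mp h'))]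
    have hj' : m.testBit (idx j) = false := by simpa using hj
    rw [hj'] at h
    simp at h ⊢
    omega

theorem po_b0 (c : ℕ) (hc : c < 4096) (j : GolayPt) (h : condO (-8) 0 (codeMask c) j) :
    ∃ m ∈ G0, okA 16 m (codeMask c) (idx j) = true := by
  have h1 := (allBelow_iff _ _).mp ((allBelow_iff _ _).mp po_b0_aux c hc) (idx j)
    (Cfsg.Agent.Lib.Helper3.Golay.idx_lt j)
  have h2 : condB 0 (codeMask c) (idx j) = true := (condB_iff 0 _ j).mpr (by simpa using h)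
  rw [h2] at h1
  simpa using h1

theorem po_b16 (c : ℕ) (hc : c < 4096) (j : GolayPt) (h : condO (-8) (-16) (codeMask c) j) :
    ∃ m, okO m = true ∧ okA 32 m (codeMask c) (idx j) = true := by
  have h1 := (allBelow_iff _ _).mp ((allBelow_iff _ _).mp po_b16_aux c hc) (idx j)
    (Cfsg.Agent.Lib.Helper3.Golay.idx_lt j)
  have h2 : condB 16 (codeMask c) (idx j) = true := (condB_iff 16 _ j).mpr (by simpa using h)
  rw [h2] at h1
  simp only [Bool.not_true, Bool.false_or, List.any_eq_true, Bool.and_eq_true] at h1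
  obtain ⟨m, -, hm⟩ := h1
  exact ⟨m, hm⟩

theorem bitSet_pair (p q : GolayPt) : bitSet ((1 <<< idx p) ||| (1 <<< idx q)) = {p, q} := by
  ext i
  rw [Cfsg.Agent.Lib.Helper3.Golay.bitSet_or, Finset.mem_union,
    Cfsg.Agent.Lib.Helper3.Golay.mem_bitSet_shift, Cfsg.Agent.Lib.Helper3.Golay.mem_bitSet_shift,
    Finset.mem_insert, Finset.mem_singleton]
  constructor
  · rintro (h | h)
    · exact Or.inl (Cfsg.Agent.Lib.Helper3.Golay.idx_injective h)
    · exact Or.inr (Cfsg.Agent.Lib.Helper3.Golay.idx_injective h)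
  · rintro (rfl | rfl)
    · exact Or.inl rfl
    · exact Or.inr rfl

/-- an octad avoiding `∞` and `0` meeting a given octad exactly in a given pair -/
theorem pair_oct (c : ℕ) (hc : c < 4096) (h8 : pc24 (codeMask c) = 8)
    (hx : (codeMask c).testBit 23 ≠ (codeMask c).testBit 0) (p q : GolayPt)
    (hp : (codeMask c).testBit (idx p) = true) (hq : (codeMask c).testBit (idx q) = true)
    (hpq : p ≠ q) (hp1 : p ≠ none) (hp2 : p ≠ some 0) (hq1 : q ≠ none) (hq2 : q ≠ some 0) :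
    ∃ m ∈ F330, bitSet m ∩ bitSet (codeMask c) = {p, q} := by
  have h1 := (allBelow_iff _ _).mp pair_oct_aux c hc
  have hpre : (Nat.beq (pc24 (codeMask c)) 8 &&
      ((codeMask c).testBit 23 != (codeMask c).testBit 0)) = true := by
    rw [Bool.and_eq_true, Nat.beq_eq]
    exact ⟨h8, by simpa using hx⟩
  rw [hpre] at h1
  simp only [Bool.not_true, Bool.false_or] at h1
  have key : ∀ a b : GolayPt, (codeMask c).testBit (idx a) = true →
      (codeMask c).testBit (idx b) = true → idx a < idx b → a ≠ some 0 → b ≠ none →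
      ∃ m ∈ F330, bitSet m ∩ bitSet (codeMask c) = {a, b} := by
    intro a b ha hb hab ha2 hb1
    have h2 := (allBelow_iff _ _).mp ((allBelow_iff _ _).mp h1 (idx a)
      (Cfsg.Agent.Lib.Helper3.Golay.idx_lt a)) (idx b) (Cfsg.Agent.Lib.Helper3.Golay.idx_lt b)
    have hpre2 : (Nat.blt (idx a) (idx b) && (codeMask c).testBit (idx a) &&
        (codeMask c).testBit (idx b) && !(Nat.beq (idx a) 0) && !(Nat.beq (idx b) 23)) = true := by
      simp only [Bool.and_eq_true, Nat.blt_eq, Bool.not_eq_true', ha, hb, hab, true_and]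
      refine ⟨?_, ?_⟩
      · rw [← Bool.not_eq_true, Nat.beq_eq]
        exact fun h => ha2 ((idx_eq_0 a).mp h)
      · rw [← Bool.not_eq_true, Nat.beq_eq]
        exact fun h => hb1 ((idx_eq_23 b).mp h)
    rw [hpre2] at h2
    simp only [Bool.not_true, Bool.false_or, List.any_eq_true, Nat.beq_eq] at h2
    obtain ⟨m, hm, hmc⟩ := h2
    refine ⟨m, hm, ?_⟩
    rw [← Cfsg.Agent.Lib.Helper3.Golay.bitSet_and, hmc, bitSet_pair]
  rcases Nat.lt_or_gt_of_ne (fun h => hpq (Cfsg.Agent.Lib.Helper3.Golay.idx_injective h)) with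
    hlt | hgt
  · exact key p q hp hq hlt hp2 hq1
  · obtain ⟨m, hm, hmc⟩ := key q p hq hp hgt hq2 hp1
    exact ⟨m, hm, by rw [hmc, Finset.pair_comm]⟩

end Cfsg.Agent.Lib.Helper14.LeechCo2
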