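import Mathlib
import Cfsg.Prelude.Def_Sporadic_a
import Cfsg.Agent.Lib.Helper14.LeechCo2Data

set_option autoImplicit false

/-! Counting the minimal vectors `x` with `v0 · x = -8` and a given value of `u0 · x`. -/

namespace Cfsg.Agent.Lib.Helper14.LeechCo2

open Cfsg Cfsg.Agent.Lib.Helper14.Golay Cfsg.Agent.Lib.Helper14.Leech
  Cfsg.Agent.Lib.Helper14.LeechCount Cfsg.Agent.Lib.Helper14.LeechMinCount
  Cfsg.Agent.Lib.Helper14.LeechPairs Cfsg.Agent.Lib.Helper14.LeechMcL
open Cfsg.Agent.Lib.Helper3.Golay (wordOf codeMask pc24 bitSet idx allBelow allBelow_iff)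
open Cfsg.Agent.S1578 (u0 u0_mem u0_norm dot_u0 sum_PhiO val_wordOf card_PO_gen)

/-- the conditions defining the classes -/
def pXb (b : ℤ) (x : GolayPt → ℤ) : Prop := dotInt v0 x = -8 ∧ dotInt u0 x = b

instance (b : ℤ) : DecidablePred (pXb b) := fun x => by unfold pXb; infer_instance

/-! ### the odd family -/

theorem condO_iff (b : ℤ) (m : ℕ) (j : GolayPt) :
    pXb b (PhiO (wordOf m, j)) ↔ condO (-8) b m j := by
  unfold pXb condO
  rw [dot_v0, dot_u0, sum_PhiO_wordOf, PhiO_wordOf, PhiO_wordOf]

theorem sum_idx (g : ℕ → ℕ) : ∑ j : GolayPt, g (idx j) = sumBelow 24 g := by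
  rw [sumBelow_eq, ← Fin.sum_univ_eq_sum_range]
  exact Fintype.sum_equiv Cfsg.Agent.Lib.Helper3.Golay.ptEquiv _ _ (fun j => rfl)

theorem sumBelow_congr (n : ℕ) (f g : ℕ → ℕ) (h : ∀ k < n, f k = g k) :
    sumBelow n f = sumBelow n g := by
  rw [sumBelow_eq, sumBelow_eq]
  exact Finset.sum_congr rfl fun k hk => h k (Finset.mem_range.mp hk)

/-- counting in the odd family with a boolean test on bit masks -/
theorem card_PO_fast (P : (GolayPt → ZMod 2) × GolayPt → Prop) [DecidablePred P]
    (f : ℕ → ℕ → Bool)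
    (hf : ∀ c < 4096, ∀ j : GolayPt, f (codeMask c) (idx j) = true ↔ P (wordOf (codeMask c), j)) :
    (PO.filter P).card
      = sumBelow 4096 (fun c => sumBelow 24 (fun jx => if f (codeMask c) jx = true then 1 else 0)) := by
  rw [card_PO_gen]
  have h1 : ∀ j : GolayPt, sumBelow 4096 (fun c => if P (wordOf (codeMask c), j) then 1 else 0)
      = ∑ c ∈ Finset.range 4096, if f (codeMask c) (idx j) = true then 1 else 0 := by
    intro j
    rw [sumBelow_eq]
    refine Finset.sum_congr rfl fun c hc => ?_
    have := hf c (Finset.mem_range.mp hc) j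
    by_cases hP : P (wordOf (codeMask c), j)
    · rw [if_pos hP, if_pos (this.mpr hP)]
    · rw [if_neg hP, if_neg (fun h => hP (this.mp h))]
  rw [Finset.sum_congr rfl (fun j _ => h1 j), Finset.sum_comm, sumBelow_eq]
  refine Finset.sum_congr rfl fun c _ => ?_
  exact sum_idx (fun jx => if f (codeMask c) jx = true then 1 else 0)

set_option maxRecDepth 100000 in
theorem countO0_aux : sumBelow 4096 (fun c => sumBelow 24 (fun jx =>
    if condB 0 (codeMask c) jx = true then 1 else 0)) = 8008 := by
  decide +kernel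

set_option maxRecDepth 100000 in
theorem countO8_aux : sumBelow 4096 (fun c => sumBelow 24 (fun jx =>
    if condB 8 (codeMask c) jx = true then 1 else 0)) = 12419 := by
  decide +kernel

set_option maxRecDepth 100000 in
theorem countO16_aux : sumBelow 4096 (fun c => sumBelow 24 (fun jx =>
    if condB 16 (codeMask c) jx = true then 1 else 0)) = 3256 := by
  decide +kernel

theorem countO_gen (β : ℕ) :
    (PO.filter (fun q => pXb (-(β : ℤ)) (PhiO q))).card
      = sumBelow 4096 (fun c => sumBelow 24 (fun jx =>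
          if condB β (codeMask c) jx = true then 1 else 0)) := by
  refine card_PO_fast _ (condB β) (fun c _ j => ?_)
  rw [condB_iff, condO_iff]

theorem countO0 : (PO.filter (fun q => pXb 0 (PhiO q))).card = 8008 := by
  have := countO_gen 0
  rw [countO0_aux] at this
  simpa using this

theorem countO8 : (PO.filter (fun q => pXb (-8) (PhiO q))).card = 12419 := by
  have := countO_gen 8
  rw [countO8_aux] at this
  simpa using this

theorem countO16 : (PO.filter (fun q => pXb (-16) (PhiO q))).card = 3256 := by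
  have := countO_gen 16
  rw [countO16_aux] at this
  simpa using this

/-! ### the octad family -/

theorem cond2b_iff (b : ℤ) (w : GolayPt → ZMod 2) (h8 : (support₂ w).card = 8)
    (U : Finset GolayPt) (hU : U ⊆ support₂ w) :
    pXb b (f2 ⟨w, U⟩) ↔
      ((none ∈ support₂ w ∧ (some 0 : GolayPt) ∉ support₂ w ∧ none ∈ U ∧
          8 - 4 * (U.card : ℤ) = b) ∨
        ((some 0 : GolayPt) ∈ support₂ w ∧ none ∉ support₂ w ∧ (some 0 : GolayPt) ∈ U ∧
          16 - 4 * (U.card : ℤ) = b)) := by
  unfold f2 pXb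
  rw [dot_v0, dot_u0, sum_Psi 2 _ _ hU, h8, Psi_apply, Psi_apply]
  by_cases hT : none ∈ support₂ w
  · by_cases h0T : (some 0 : GolayPt) ∈ support₂ w
    · simp only [hT, h0T, if_true, not_true, false_and, and_false, or_false]
      constructor
      · rintro ⟨e1, -⟩
        split_ifs at e1 <;> omega
      · exact fun h => h.elim
    · have h0U : (some 0 : GolayPt) ∉ U := fun h => h0T (hU h)
      simp only [hT, h0T, h0U, if_true, if_false, not_true, not_false_eq_true, true_and,
        false_and, or_false]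
      by_cases hnU : none ∈ U
      · simp only [hnU, if_true, true_and]
        constructor
        · rintro ⟨-, e2⟩; omega
        · intro e; exact ⟨by norm_num, by omega⟩
      · simp only [hnU, if_false, false_and, iff_false]
        rintro ⟨e1, -⟩; omega
  · have hnU : none ∉ U := fun h => hT (hU h)
    simp only [hT, if_false, not_false_eq_true, false_and, false_or, true_and]
    by_cases h0T : (some 0 : GolayPt) ∈ support₂ w
    · simp only [h0T, if_true, true_and]
      by_cases h0U : (some 0 : GolayPt) ∈ U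
      · simp only [h0U, if_true, true_and]
        constructor
        · rintro ⟨-, e2⟩; omega
        · intro e; exact ⟨by norm_num, by omega⟩
      · simp only [h0U, if_false, false_and, iff_false]
        rintro ⟨e1, -⟩; omega
    · simp only [h0T, if_false, false_and, iff_false]
      rintro ⟨e1, -⟩; omega

/-- the number of subsets of an `8`-set of a given even size through a given point -/
theorem card_through (O : Finset GolayPt) (h8 : O.card = 8) (p : GolayPt) (hp : p ∈ O) (k : ℕ)
    (hk : 1 ≤ k) (hev : Even k) :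
    ((O.powerset.filter (fun U => Even U.card)).filter (fun U => p ∈ U ∧ U.card = k)).card
      = Nat.choose 7 (k - 1) := by
  classical
  have h7 : (O.erase p).card = 7 := by rw [Finset.card_erase_of_mem hp, h8]
  rw [← h7, ← Finset.card_powersetCard]
  symm
  refine Finset.card_bij (fun V _ => insert p V) ?_ ?_ ?_
  · intro V hV
    rw [Finset.mem_powersetCard] at hV
    have hpV : p ∉ V := fun h => (Finset.mem_erase.mp (hV.1 h)).1 rfl
    have hc : (insert p V).card = k := by rw [Finset.card_insert_of_notMem hpV, hV.2]; omega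
    simp only [Finset.mem_filter, Finset.mem_powerset]
    refine ⟨⟨?_, hc ▸ hev⟩, Finset.mem_insert_self _ _, hc⟩
    intro x hx
    rcases Finset.mem_insert.mp hx with rfl | hx
    · exact hp
    · exact Finset.mem_of_mem_erase (hV.1 hx)
  · intro V hV V' hV' h
    rw [Finset.mem_powersetCard] at hV hV'
    have hpV : p ∉ V := fun h => (Finset.mem_erase.mp (hV.1 h)).1 rfl
    have hpV' : p ∉ V' := fun h => (Finset.mem_erase.mp (hV'.1 h)).1 rfl
    have := congrArg (fun S => S.erase p) h
    simpa [Finset.erase_insert hpV, Finset.erase_insert hpV'] using this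
  · intro U hU
    simp only [Finset.mem_filter, Finset.mem_powerset] at hU
    obtain ⟨⟨hUO, -⟩, hpU, hc⟩ := hU
    refine ⟨U.erase p, ?_, Finset.insert_erase hpU⟩
    rw [Finset.mem_powersetCard]
    refine ⟨Finset.erase_subset_erase p hUO, ?_⟩
    rw [Finset.card_erase_of_mem hpU, hc]

/-- the number of sign sets on an octad giving a point of the class -/
def NXb (k1 k2 : ℕ) (T : Finset GolayPt) : ℕ :=
  if none ∈ T ∧ (some 0 : GolayPt) ∉ T then Nat.choose 7 (k1 - 1)
  else if (some 0 : GolayPt) ∈ T ∧ none ∉ T then Nat.choose 7 (k2 - 1) else 0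

theorem fiberXb (b : ℤ) (k1 k2 : ℕ) (h1 : 8 - 4 * (k1 : ℤ) = b) (h2 : 16 - 4 * (k2 : ℤ) = b)
    (hk1 : 1 ≤ k1) (hk2 : 1 ≤ k2) (he1 : Even k1) (he2 : Even k2)
    (w : GolayPt → ZMod 2) (h8 : (support₂ w).card = 8) :
    (((support₂ w).powerset.filter (fun U => Even U.card)).filter
      (fun U => pXb b (f2 ⟨w, U⟩))).card = NXb k1 k2 (support₂ w) := by
  classical
  unfold NXb
  by_cases hA : none ∈ support₂ w ∧ (some 0 : GolayPt) ∉ support₂ w
  · rw [if_pos hA, ← card_through (support₂ w) h8 none hA.1 k1 hk1 he1]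
    congr 1
    ext U
    simp only [Finset.mem_filter, Finset.mem_powerset]
    constructor
    · rintro ⟨⟨hU, hev⟩, hp⟩
      rcases (cond2b_iff b w h8 U hU).mp hp with ⟨-, -, hn, e⟩ | ⟨-, h, -⟩
      · exact ⟨⟨hU, hev⟩, hn, by omega⟩
      · exact absurd hA.1 h
    · rintro ⟨⟨hU, hev⟩, hn, hc⟩
      exact ⟨⟨hU, hev⟩, (cond2b_iff b w h8 U hU).mpr (Or.inl ⟨hA.1, hA.2, hn, by rw [hc]; exact h1⟩)⟩
  · rw [if_neg hA]
    by_cases hB : (some 0 : GolayPt) ∈ support₂ w ∧ none ∉ support₂ w
    · rw [if_pos hB, ← card_through (support₂ w) h8 (some 0) hB.1 k2 hk2 he2]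
      congr 1
      ext U
      simp only [Finset.mem_filter, Finset.mem_powerset]
      constructor
      · rintro ⟨⟨hU, hev⟩, hp⟩
        rcases (cond2b_iff b w h8 U hU).mp hp with ⟨h, h', -, -⟩ | ⟨-, -, hn, e⟩
        · exact absurd ⟨h, h'⟩ hA
        · exact ⟨⟨hU, hev⟩, hn, by omega⟩
      · rintro ⟨⟨hU, hev⟩, hn, hc⟩
        exact ⟨⟨hU, hev⟩,
          (cond2b_iff b w h8 U hU).mpr (Or.inr ⟨hB.1, hB.2, hn, by rw [hc]; exact h2⟩)⟩
    · rw [if_neg hB, Finset.card_eq_zero, Finset.filter_eq_empty_iff]
      intro U hU hp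
      rw [Finset.mem_filter, Finset.mem_powerset] at hU
      rcases (cond2b_iff b w h8 U hU.1).mp hp with ⟨h, h', -, -⟩ | ⟨h, h', -, -⟩
      · exact hA ⟨h, h'⟩
      · exact hB ⟨h, h'⟩

theorem count2_gen (b : ℤ) (k1 k2 : ℕ) (h1 : 8 - 4 * (k1 : ℤ) = b) (h2 : 16 - 4 * (k2 : ℤ) = b)
    (hk1 : 1 ≤ k1) (hk2 : 1 ≤ k2) (he1 : Even k1) (he2 : Even k2) :
    (P2.filter (fun q => pXb b (f2 q))).card
      = sumBelow 4096 (fun c => if pc24 (codeMask c) = 8 then
          (if (codeMask c).testBit 23 = true ∧ ¬ ((codeMask c).testBit 0 = true)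
            then Nat.choose 7 (k1 - 1)
          else if (codeMask c).testBit 0 = true ∧ ¬ ((codeMask c).testBit 23 = true)
            then Nat.choose 7 (k2 - 1) else 0) else 0) := by
  rw [count2_fiber (pXb b) (NXb k1 k2) (fiberXb b k1 k2 h1 h2 hk1 hk2 he1 he2)]
  congr 1
  funext c
  congr 1
  unfold NXb
  simp only [Cfsg.Agent.Lib.Helper3.Golay.mem_bitSet]
  rfl

set_option maxRecDepth 100000 in
theorem count2_0_aux : sumBelow 4096 (fun c => if pc24 (codeMask c) = 8 then
    (if (codeMask c).testBit 23 = true ∧ ¬ ((codeMask c).testBit 0 = true)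
      then Nat.choose 7 (2 - 1)
    else if (codeMask c).testBit 0 = true ∧ ¬ ((codeMask c).testBit 23 = true)
      then Nat.choose 7 (4 - 1) else 0) else 0) = 7392 := by
  decide +kernel

set_option maxRecDepth 100000 in
theorem count2_8_aux : sumBelow 4096 (fun c => if pc24 (codeMask c) = 8 then
    (if (codeMask c).testBit 23 = true ∧ ¬ ((codeMask c).testBit 0 = true)
      then Nat.choose 7 (4 - 1)
    else if (codeMask c).testBit 0 = true ∧ ¬ ((codeMask c).testBit 23 = true)
      then Nat.choose 7 (6 - 1) else 0) else 0) = 9856 := by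
  decide +kernel

set_option maxRecDepth 100000 in
theorem count2_16_aux : sumBelow 4096 (fun c => if pc24 (codeMask c) = 8 then
    (if (codeMask c).testBit 23 = true ∧ ¬ ((codeMask c).testBit 0 = true)
      then Nat.choose 7 (6 - 1)
    else if (codeMask c).testBit 0 = true ∧ ¬ ((codeMask c).testBit 23 = true)
      then Nat.choose 7 (8 - 1) else 0) else 0) = 3872 := by
  decide +kernel

theorem count2_0 : (P2.filter (fun q => pXb 0 (f2 q))).card = 7392 := by
  rw [count2_gen 0 2 4 (by norm_num) (by norm_num) (by norm_num) (by norm_num) (by decide)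
    (by decide)]
  exact count2_0_aux

theorem count2_8 : (P2.filter (fun q => pXb (-8) (f2 q))).card = 9856 := by
  rw [count2_gen (-8) 4 6 (by norm_num) (by norm_num) (by norm_num) (by norm_num) (by decide)
    (by decide)]
  exact count2_8_aux

theorem count2_16 : (P2.filter (fun q => pXb (-16) (f2 q))).card = 3872 := by
  rw [count2_gen (-16) 6 8 (by norm_num) (by norm_num) (by norm_num) (by norm_num) (by decide)
    (by decide)]
  exact count2_16_aux

/-! ### the third family and the totals -/

set_option maxRecDepth 100000 in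
theorem count4_0 : (P4.filter (fun q => pXb 0 (Psi 4 q))).card = 0 := by
  decide +kernel

set_option maxRecDepth 100000 in
theorem count4_8 : (P4.filter (fun q => pXb (-8) (Psi 4 q))).card = 0 := by
  decide +kernel

set_option maxRecDepth 100000 in
theorem count4_16 : (P4.filter (fun q => pXb (-16) (Psi 4 q))).card = 0 := by
  decide +kernel

theorem countXb0 : {x : ↥leechLattice | sqNorm (x : GolayPt → ℤ) = 32 ∧
    pXb 0 (x : GolayPt → ℤ)}.ncard = 15400 := by
  rw [ncard_sub_filter, countO0, count2_0, count4_0]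

theorem countXb8 : {x : ↥leechLattice | sqNorm (x : GolayPt → ℤ) = 32 ∧
    pXb (-8) (x : GolayPt → ℤ)}.ncard = 22275 := by
  rw [ncard_sub_filter, countO8, count2_8, count4_8]

theorem countXb16 : {x : ↥leechLattice | sqNorm (x : GolayPt → ℤ) = 32 ∧
    pXb (-16) (x : GolayPt → ℤ)}.ncard = 7128 := by
  rw [ncard_sub_filter, countO16, count2_16, count4_16]

end Cfsg.Agent.Lib.Helper14.LeechCo2
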