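import Mathlib

set_option autoImplicit false

/-! A simplicity criterion: a finite group acting faithfully and transitively on 100 points, with
a simple point stabiliser having orbits of lengths 1, 22, 77, is simple. -/

namespace Cfsg.Agent.Lib.Helper14.Rank3Simple

open MulAction

variable {G Ω : Type*} [Group G] [MulAction G Ω]

/-- a normal subgroup fixing a point of a faithful transitive action is trivial -/
theorem eq_bot_of_fix (hfaith : ∀ g : G, (∀ x : Ω, g • x = x) → g = 1)
    (htrans : ∀ x y : Ω, ∃ g : G, g • x = y) (x0 : Ω)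
    (N : Subgroup G) [hN : N.Normal] (hfix : ∀ n ∈ N, n • x0 = x0) : N = ⊥ := by
  rw [Subgroup.eq_bot_iff_forall]
  intro n hn
  apply hfaith
  intro y
  obtain ⟨g, rfl⟩ := htrans x0 y
  have h1 : g⁻¹ * n * g ∈ N := by
    have := hN.conj_mem n hn g⁻¹
    rwa [inv_inv] at this
  have h2 := hfix _ h1
  rw [mul_smul, mul_smul, inv_smul_eq_iff] at h2
  exact h2

/-- a nontrivial normal subgroup is transitive -/
theorem normal_transitive [Finite Ω]
    (hfaith : ∀ g : G, (∀ x : Ω, g • x = x) → g = 1)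
    (htrans : ∀ x y : Ω, ∃ g : G, g • x = y)
    (x0 : Ω) (A B : Set Ω) (hΩ : Nat.card Ω = 100)
    (hcover : ∀ y, y = x0 ∨ y ∈ A ∨ y ∈ B)
    (hx0A : x0 ∉ A) (hx0B : x0 ∉ B)
    (hA : A.ncard = 22) (hB : B.ncard = 77)
    (hAt : ∀ a ∈ A, ∀ a' ∈ A, ∃ g : G, g • x0 = x0 ∧ g • a = a')
    (hBt : ∀ b ∈ B, ∀ b' ∈ B, ∃ g : G, g • x0 = x0 ∧ g • b = b')
    (N : Subgroup G) [hN : N.Normal] (hne : N ≠ ⊥) : ∀ y : Ω, ∃ n ∈ N, n • x0 = y := by
  classical
  haveI : IsPretransitive G Ω := ⟨htrans⟩
  set O : Set Ω := orbit N x0 with hO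
  have hmemO : ∀ y, y ∈ O ↔ ∃ n ∈ N, n • x0 = y := by
    intro y
    constructor
    · rintro ⟨n, rfl⟩
      exact ⟨n.1, n.2, rfl⟩
    · rintro ⟨n, hn, rfl⟩
      exact ⟨⟨n, hn⟩, rfl⟩
  have hx0O : x0 ∈ O := mem_orbit_self x0
  have hblock : IsBlock G O := IsBlock.orbit_of_normal x0
  have hdvd : O.ncard ∣ 100 := hΩ ▸ hblock.ncard_dvd_card ⟨x0, hx0O⟩
  -- invariance under the point stabiliser
  have hinv : ∀ g : G, g • x0 = x0 → ∀ y ∈ O, g • y ∈ O := by
    intro g hg y hy
    obtain ⟨n, hn, rfl⟩ := (hmemO y).mp hy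
    rw [hmemO]
    refine ⟨g * n * g⁻¹, hN.conj_mem n hn g, ?_⟩
    rw [mul_smul, mul_smul]
    congr 2
    rw [inv_smul_eq_iff, hg]
  have hAO : (∃ a ∈ A, a ∈ O) → A ⊆ O := by
    rintro ⟨a, ha, haO⟩ a' ha'
    obtain ⟨g, hg, rfl⟩ := hAt a ha a' ha'
    exact hinv g hg a haO
  have hBO : (∃ b ∈ B, b ∈ O) → B ⊆ O := by
    rintro ⟨b, hb, hbO⟩ b' hb'
    obtain ⟨g, hg, rfl⟩ := hBt b hb b' hb'
    exact hinv g hg b hbO
  by_cases hA' : ∃ a ∈ A, a ∈ O
  · by_cases hB' : ∃ b ∈ B, b ∈ O
    · -- everything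
      intro y
      rw [← hmemO]
      rcases hcover y with rfl | hy | hy
      · exact hx0O
      · exact hAO hA' hy
      · exact hBO hB' hy
    · exfalso
      have hOeq : O = insert x0 A := by
        ext y
        constructor
        · intro hy
          rcases hcover y with rfl | hy' | hy'
          · exact Set.mem_insert _ _
          · exact Set.mem_insert_of_mem _ hy'
          · exact absurd ⟨y, hy', hy⟩ hB'
        · rintro (rfl | hy)
          · exact hx0O
          · exact hAO hA' hy
      have hAfin : A.Finite := Set.toFinite A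
      rw [hOeq, Set.ncard_insert_of_notMem hx0A hAfin, hA] at hdvd
      norm_num at hdvd
  · by_cases hB' : ∃ b ∈ B, b ∈ O
    · exfalso
      have hOeq : O = insert x0 B := by
        ext y
        constructor
        · intro hy
          rcases hcover y with rfl | hy' | hy'
          · exact Set.mem_insert _ _
          · exact absurd ⟨y, hy', hy⟩ hA'
          · exact Set.mem_insert_of_mem _ hy'
        · rintro (rfl | hy)
          · exact hx0O
          · exact hBO hB' hy
      have hBfin : B.Finite := Set.toFinite B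
      rw [hOeq, Set.ncard_insert_of_notMem hx0B hBfin, hB] at hdvd
      norm_num at hdvd
    · exfalso
      apply hne
      apply eq_bot_of_fix hfaith htrans x0 N
      intro n hn
      have hy : n • x0 ∈ O := (hmemO _).mpr ⟨n, hn, rfl⟩
      rcases hcover (n • x0) with h | h | h
      · exact h
      · exact absurd ⟨_, h, hy⟩ hA'
      · exact absurd ⟨_, h, hy⟩ hB'

/-- the order of a transitive subgroup is a multiple of the degree -/
theorem card_dvd_of_transitive [Finite G] [Finite Ω] (x0 : Ω) (N : Subgroup G)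
    (h : ∀ y : Ω, ∃ n ∈ N, n • x0 = y) : Nat.card Ω ∣ Nat.card N := by
  have h1 : orbit N x0 = Set.univ := by
    ext y
    simp only [Set.mem_univ, iff_true]
    obtain ⟨n, hn, rfl⟩ := h y
    exact ⟨⟨n, hn⟩, rfl⟩
  have h2 : Nat.card (orbit N x0) = Nat.card Ω := by
    rw [h1]; exact Nat.card_congr (Equiv.Set.univ Ω)
  rw [← h2, Nat.card_congr (orbitEquivQuotientStabilizer N x0)]
  exact ⟨_, Subgroup.card_eq_card_quotient_mul_card_subgroup (stabilizer N x0)⟩

theorem simple_of_rank3 [Finite G] [Finite Ω]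
    (hfaith : ∀ g : G, (∀ x : Ω, g • x = x) → g = 1)
    (htrans : ∀ x y : Ω, ∃ g : G, g • x = y)
    (x0 : Ω) (A B : Set Ω) (hΩ : Nat.card Ω = 100)
    (hcover : ∀ y, y = x0 ∨ y ∈ A ∨ y ∈ B)
    (hx0A : x0 ∉ A) (hx0B : x0 ∉ B)
    (hA : A.ncard = 22) (hB : B.ncard = 77)
    (hAt : ∀ a ∈ A, ∀ a' ∈ A, ∃ g : G, g • x0 = x0 ∧ g • a = a')
    (hBt : ∀ b ∈ B, ∀ b' ∈ B, ∃ g : G, g • x0 = x0 ∧ g • b = b')
    (hs : IsSimpleGroup (stabilizer G x0)) : IsSimpleGroup G := by
  classical
  have hNT : ∀ (N : Subgroup G) [N.Normal], N ≠ ⊥ → ∀ y : Ω, ∃ n ∈ N, n • x0 = y :=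
    fun N _ hne => normal_transitive hfaith htrans x0 A B hΩ hcover hx0A hx0B hA hB hAt hBt N hne
  have hnontriv : Nontrivial G := by
    obtain ⟨a, b, hab⟩ := hs.toNontrivial.exists_pair_ne
    exact ⟨⟨a.1, b.1, fun h => hab (Subtype.ext h)⟩⟩
  refine ⟨fun N hN => ?_⟩
  by_contra hcon
  push Not at hcon
  obtain ⟨hne, hntop⟩ := hcon
  have hNtr := hNT N hne
  -- the intersection with the point stabiliser
  set H := stabilizer G x0 with hH
  have hnorm : (N.subgroupOf H).Normal := inferInstance
  rcases hs.eq_bot_or_eq_top_of_normal (N.subgroupOf H) hnorm with hbot | htop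
  · -- regular case
    have hreg : ∀ n ∈ N, n • x0 = x0 → n = 1 := by
      intro n hn hfix
      have hmem : (⟨n, hfix⟩ : H) ∈ N.subgroupOf H := by
        rw [Subgroup.mem_subgroupOf]; exact hn
      rw [hbot, Subgroup.mem_bot] at hmem
      exact congrArg Subtype.val hmem
    have hcardN : Nat.card N = 100 := by
      have hstab : stabilizer N x0 = ⊥ := by
        rw [Subgroup.eq_bot_iff_forall]
        intro n hn
        exact Subtype.ext (hreg n.1 n.2 hn)
      have h1 : orbit N x0 = Set.univ := by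
        ext y
        simp only [Set.mem_univ, iff_true]
        obtain ⟨n, hn, rfl⟩ := hNtr y
        exact ⟨⟨n, hn⟩, rfl⟩
      have h2 : Nat.card (orbit N x0) = Nat.card Ω := by
        rw [h1]; exact Nat.card_congr (Equiv.Set.univ Ω)
      rw [Subgroup.card_eq_card_quotient_mul_card_subgroup (stabilizer N x0),
        ← Nat.card_congr (orbitEquivQuotientStabilizer N x0), h2, hΩ, hstab,
        Subgroup.card_bot, mul_one]
    haveI : Fact (Nat.Prime 5) := ⟨by norm_num⟩
    obtain ⟨P⟩ : Nonempty (Sylow 5 N) := Sylow.nonempty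
    have hPcard : Nat.card P = 25 := by
      rw [Sylow.card_eq_multiplicity, hcardN]
      have : (100 : ℕ).factorization 5 = 2 := by
        have h100 : (100 : ℕ) = 5 ^ 2 * 4 := by norm_num
        rw [h100, Nat.factorization_mul (by norm_num) (by norm_num), Nat.Prime.factorization_pow
          (by norm_num)]
        simp [Nat.factorization_eq_zero_of_not_dvd (show ¬ 5 ∣ 4 by norm_num)]
      rw [this]; norm_num
    have hidx : (P : Subgroup N).index = 4 := by
      have := (P : Subgroup N).card_mul_index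
      rw [hcardN] at this
      have h25 : Nat.card (P : Subgroup N) = 25 := hPcard
      rw [h25] at this
      omega
    have hn5 : Nat.card (Sylow 5 N) = 1 := by
      have h1 := card_sylow_modEq_one 5 N
      have h2 := Sylow.card_dvd_index P
      rw [hidx] at h2
      have h3 : Nat.card (Sylow 5 N) ≤ 4 := Nat.le_of_dvd (by norm_num) h2
      have h4 : Nat.card (Sylow 5 N) % 5 = 1 := h1
      omega
    have : Subsingleton (Sylow 5 N) := (Nat.card_eq_one_iff_unique.mp hn5).1
    have hPn : (P : Subgroup N).Normal := Sylow.normal_of_subsingleton P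
    have hPc : (P : Subgroup N).Characteristic := Sylow.characteristic_of_normal P hPn
    set Q : Subgroup G := (P : Subgroup N).map N.subtype with hQ
    have hQn : Q.Normal := ConjAct.normal_of_characteristic_of_normal
    have hQcard : Nat.card Q = 25 := by
      rw [hQ, Subgroup.card_map_of_injective (Subgroup.subtype_injective N)]
      exact hPcard
    have hQne : Q ≠ ⊥ := by
      intro h
      rw [h, Subgroup.card_bot] at hQcard
      norm_num at hQcard
    have := card_dvd_of_transitive x0 Q (hNT Q hQne)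
    rw [hΩ, hQcard] at this
    norm_num at this
  · -- the point stabiliser lies in `N`
    apply hntop
    rw [eq_top_iff]
    intro g _
    obtain ⟨n, hn, hng⟩ := hNtr (g • x0)
    have hfix : (n⁻¹ * g) • x0 = x0 := by
      rw [mul_smul, ← hng, inv_smul_smul]
    have hmem : (⟨n⁻¹ * g, hfix⟩ : H) ∈ N.subgroupOf H := by
      rw [htop]; exact Subgroup.mem_top _
    rw [Subgroup.mem_subgroupOf] at hmem
    have := N.mul_mem hn hmem
    rwa [mul_inv_cancel_left] at this

end Cfsg.Agent.Lib.Helper14.Rank3Simple
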