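import Mathlib
import Cfsg.Agent.Lib.Helper14.Rank3Simple

set_option autoImplicit false

/-! A simplicity criterion: a finite group acting faithfully and transitively, with a simple point
stabiliser whose orbits have lengths excluding any nontrivial block, and whose degree excludes a
regular normal subgroup, is simple. -/

namespace Cfsg.Agent.Lib.Helper14.PrimSimple

open MulAction Cfsg.Agent.Lib.Helper14.Rank3Simple

variable {G Ω : Type*} [Group G] [MulAction G Ω]

/-- the orbit of a normal subgroup through `x0` is a union of orbits of the stabiliser of `x0` -/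
theorem orbit_normal_fibers [Finite Ω] {ι : Type*} [Fintype ι] [DecidableEq ι]
    (htrans : ∀ x y : Ω, ∃ g : G, g • x = y) (x0 : Ω) (f : Ω → ι)
    (hft : ∀ y y', f y = f y' → ∃ g : G, g • x0 = x0 ∧ g • y = y')
    (N : Subgroup G) [hN : N.Normal] :
    ∃ J : Finset ι, f x0 ∈ J ∧ (∀ y, (∃ n ∈ N, n • x0 = y) ↔ f y ∈ J) ∧
      (∑ i ∈ J, {y | f y = i}.ncard) ∣ Nat.card Ω := by
  classical
  haveI : IsPretransitive G Ω := ⟨htrans⟩
  haveI := Fintype.ofFinite Ω
  set O : Set Ω := orbit N x0 with hO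
  have hmemO : ∀ y, y ∈ O ↔ ∃ n ∈ N, n • x0 = y := by
    intro y
    constructor
    · rintro ⟨n, rfl⟩
      exact ⟨n.1, n.2, rfl⟩
    · rintro ⟨n, hn, rfl⟩
      exact ⟨⟨n, hn⟩, rfl⟩
  have hx0O : x0 ∈ O := mem_orbit_self x0
  have hblock : IsBlock G O := IsBlock.orbit_of_normal x0
  have hdvd : O.ncard ∣ Nat.card Ω := hblock.ncard_dvd_card ⟨x0, hx0O⟩
  have hinv : ∀ g : G, g • x0 = x0 → ∀ y ∈ O, g • y ∈ O := by
    intro g hg y hy
    obtain ⟨n, hn, rfl⟩ := (hmemO y).mp hy
    rw [hmemO]
    refine ⟨g * n * g⁻¹, hN.conj_mem n hn g, ?_⟩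
    rw [mul_smul, mul_smul]
    congr 2
    rw [inv_smul_eq_iff, hg]
  set J : Finset ι := Finset.univ.filter (fun i => ∃ y ∈ O, f y = i) with hJ
  have hOJ : ∀ y, y ∈ O ↔ f y ∈ J := by
    intro y
    rw [hJ, Finset.mem_filter]
    constructor
    · intro hy
      exact ⟨Finset.mem_univ _, y, hy, rfl⟩
    · rintro ⟨-, y', hy', hff⟩
      obtain ⟨g, hg, rfl⟩ := hft y' y hff
      exact hinv g hg y' hy'
  refine ⟨J, (hOJ x0).mp hx0O, fun y => by rw [← hmemO, hOJ], ?_⟩
  have e1 : O.ncard = (Finset.univ.filter (fun y => f y ∈ J)).card := by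
    rw [← Set.ncard_coe_finset]
    congr 1
    ext y
    simp [hOJ]
  have e2 : ∀ i, {y | f y = i}.ncard = (Finset.univ.filter (fun y => f y = i)).card := by
    intro i
    rw [← Set.ncard_coe_finset]
    congr 1
    ext y
    simp
  have h1 : O.ncard = ∑ i ∈ J, {y | f y = i}.ncard := by
    rw [e1, Finset.card_eq_sum_card_fiberwise (f := f)
      (s := Finset.univ.filter (fun y => f y ∈ J)) (t := J)
      (fun y hy => (Finset.mem_filter.mp (Finset.mem_coe.mp hy)).2)]
    refine Finset.sum_congr rfl fun i hi => ?_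
    rw [e2, Finset.filter_filter]
    congr 1
    ext y
    simp only [Finset.mem_filter, Finset.mem_univ, true_and]
    constructor
    · rintro ⟨-, h⟩; exact h
    · intro h; exact ⟨h ▸ hi, h⟩
  rw [← h1]
  exact hdvd

/-- a nontrivial normal subgroup is transitive, when the lengths of the orbits of a point
stabiliser exclude nontrivial blocks -/
theorem normal_transitive_of_fibers [Finite Ω] {ι : Type*} [Fintype ι] [DecidableEq ι]
    (hfaith : ∀ g : G, (∀ x : Ω, g • x = x) → g = 1)
    (htrans : ∀ x y : Ω, ∃ g : G, g • x = y) (x0 : Ω) (f : Ω → ι) (m : ι → ℕ)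
    (hm : ∀ i, {y | f y = i}.ncard = m i) (h0 : ∀ y, f y = f x0 → y = x0)
    (hft : ∀ y y', f y = f y' → ∃ g : G, g • x0 = x0 ∧ g • y = y')
    (harith : ∀ J : Finset ι, f x0 ∈ J → (∑ i ∈ J, m i) ∣ Nat.card Ω →
      J = {f x0} ∨ J = Finset.univ)
    (N : Subgroup G) [hN : N.Normal] (hne : N ≠ ⊥) : ∀ y : Ω, ∃ n ∈ N, n • x0 = y := by
  obtain ⟨J, hJ0, hJ, hdvd⟩ := orbit_normal_fibers htrans x0 f hft N
  rw [Finset.sum_congr rfl (fun i _ => hm i)] at hdvd
  rcases harith J hJ0 hdvd with h | h
  · exfalso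
    apply hne
    apply eq_bot_of_fix hfaith htrans x0 N
    intro n hn
    have : f (n • x0) ∈ J := (hJ _).mp ⟨n, hn, rfl⟩
    rw [h, Finset.mem_singleton] at this
    exact h0 _ this
  · intro y
    rw [hJ, h]
    exact Finset.mem_univ _

/-- the simplicity criterion -/
theorem simple_of_primitive [Finite G] [Finite Ω]
    (x0 : Ω)
    (hNT : ∀ (N : Subgroup G) [N.Normal], N ≠ ⊥ → ∀ y : Ω, ∃ n ∈ N, n • x0 = y)
    (hs : IsSimpleGroup (stabilizer G x0))
    (hchar : ∀ N : Subgroup G, Nat.card N = Nat.card Ω →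
      ∃ K : Subgroup N, K.Characteristic ∧ K ≠ ⊥ ∧ K ≠ ⊤) : IsSimpleGroup G := by
  classical
  have hnontriv : Nontrivial G := by
    obtain ⟨a, b, hab⟩ := hs.toNontrivial.exists_pair_ne
    exact ⟨⟨a.1, b.1, fun h => hab (Subtype.ext h)⟩⟩
  refine ⟨fun N hN => ?_⟩
  by_contra hcon
  push Not at hcon
  obtain ⟨hne, hntop⟩ := hcon
  have hNtr := hNT N hne
  set H := stabilizer G x0 with hH
  have hnorm : (N.subgroupOf H).Normal := inferInstance
  rcases hs.eq_bot_or_eq_top_of_normal (N.subgroupOf H) hnorm with hbot | htop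
  · -- regular case
    have hreg : ∀ n ∈ N, n • x0 = x0 → n = 1 := by
      intro n hn hfix
      have hmem : (⟨n, hfix⟩ : H) ∈ N.subgroupOf H := by
        rw [Subgroup.mem_subgroupOf]; exact hn
      rw [hbot, Subgroup.mem_bot] at hmem
      exact congrArg Subtype.val hmem
    have hcardN : Nat.card N = Nat.card Ω := by
      have hstab : stabilizer N x0 = ⊥ := by
        rw [Subgroup.eq_bot_iff_forall]
        intro n hn
        exact Subtype.ext (hreg n.1 n.2 hn)
      have h1 : orbit N x0 = Set.univ := by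
        ext y
        simp only [Set.mem_univ, iff_true]
        obtain ⟨n, hn, rfl⟩ := hNtr y
        exact ⟨⟨n, hn⟩, rfl⟩
      have h2 : Nat.card (orbit N x0) = Nat.card Ω := by
        rw [h1]; exact Nat.card_congr (Equiv.Set.univ Ω)
      rw [Subgroup.card_eq_card_quotient_mul_card_subgroup (stabilizer N x0),
        ← Nat.card_congr (orbitEquivQuotientStabilizer N x0), h2, hstab,
        Subgroup.card_bot, mul_one]
    obtain ⟨K, hKc, hKbot, hKtop⟩ := hchar N hcardN
    set Q : Subgroup G := K.map N.subtype with hQ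
    have hQn : Q.Normal := ConjAct.normal_of_characteristic_of_normal
    have hQcard : Nat.card Q = Nat.card K := by
      rw [hQ, Subgroup.card_map_of_injective (Subgroup.subtype_injective N)]
    have hQne : Q ≠ ⊥ := by
      intro h
      apply hKbot
      rw [hQ, Subgroup.map_eq_bot_iff_of_injective _ (Subgroup.subtype_injective N)] at h
      exact h
    have hdvd := card_dvd_of_transitive x0 Q (hNT Q hQne)
    rw [hQcard, ← hcardN] at hdvd
    have hlt : Nat.card K < Nat.card N := by
      have hle := Subgroup.card_le_card_group K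
      rcases Nat.lt_or_ge (Nat.card K) (Nat.card N) with h | h
      · exact h
      · exact absurd (Subgroup.card_eq_iff_eq_top K |>.mp (le_antisymm hle h)) hKtop
    have hpos : 0 < Nat.card K := Nat.card_pos
    exact absurd (Nat.le_of_dvd hpos hdvd) (not_le.mpr hlt)
  · -- the point stabiliser lies in `N`
    apply hntop
    rw [eq_top_iff]
    intro g _
    obtain ⟨n, hn, hng⟩ := hNtr (g • x0)
    have hfix : (n⁻¹ * g) • x0 = x0 := by
      rw [mul_smul, ← hng, inv_smul_smul]
    have hmem : (⟨n⁻¹ * g, hfix⟩ : H) ∈ N.subgroupOf H := by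
      rw [htop]; exact Subgroup.mem_top _
    rw [Subgroup.mem_subgroupOf] at hmem
    have := N.mul_mem hn hmem
    rwa [mul_inv_cancel_left] at this

end Cfsg.Agent.Lib.Helper14.PrimSimple
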