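import Mathlib
import Cfsg.Prelude.Def_Sporadic_a
import Cfsg.Agent.S1634
import Cfsg.Agent.S0403
import Cfsg.Agent.Lib.Helper14.LeechCo2Count

set_option autoImplicit false

/-! The second Conway group: the joint stabiliser of two minimal vectors `v`, `x0` with
`v · x0 = -8` acts transitively on the minimal vectors `x` with `v · x = -8` and a prescribed
value of `x0 · x`. -/

namespace Cfsg.Agent.Lib.Helper14.LeechCo2

open Cfsg Cfsg.Agent.Lib.Helper14.Golay Cfsg.Agent.Lib.Helper14.Leech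
  Cfsg.Agent.Lib.Helper14.LeechCount Cfsg.Agent.Lib.Helper14.LeechOrbit
  Cfsg.Agent.Lib.Helper14.LeechMono Cfsg.Agent.Lib.Helper14.Co0Center
  Cfsg.Agent.Lib.Helper14.Co0Order Cfsg.Agent.Lib.Helper14.LeechCross
  Cfsg.Agent.Lib.Helper14.LeechMinCount Cfsg.Agent.Lib.Helper14.LeechPairs
  Cfsg.Agent.Lib.Helper14.LeechHS Cfsg.Agent.Lib.Helper14.LeechMcL
open Cfsg.Agent.Lib.Helper3.Golay (wordOf codeMask pc24 bitSet idx)
open Cfsg.Agent.S1578 (u0 u0_mem u0_norm dot_u0 sum_PhiO val_wordOf card_PO_gen)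
open Cfsg.Agent.S1584 (U0 V0 permEl)
open Cfsg.Agent.S1634 (smul_add' coe_add' fix_w exists_std exists_std_pt trans_class)
open Cfsg.Agent.S0403 (smul_sub' coe_sub')
open scoped Pointwise

/-! ### the stabiliser of the reference triple on the 275 points -/

theorem dot_t0_u0 : dotInt t0 u0 = 16 := by decide +kernel

/-- the stabiliser of `U0`, `V0`, `T0` is transitive on the points of the 275-set with a
given inner product `0` or `8` with `T0` -/
theorem trans275 (z z' : ↥leechLattice) (a : ℤ) (ha : a = 0 ∨ a = 8)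
    (hz : sqNorm (z : GolayPt → ℤ) = 32 ∧ dotInt u0 (z : GolayPt → ℤ) = 24 ∧
      dotInt v0 (z : GolayPt → ℤ) = 16 ∧ dotInt t0 (z : GolayPt → ℤ) = a)
    (hz' : sqNorm (z' : GolayPt → ℤ) = 32 ∧ dotInt u0 (z' : GolayPt → ℤ) = 24 ∧
      dotInt v0 (z' : GolayPt → ℤ) = 16 ∧ dotInt t0 (z' : GolayPt → ℤ) = a) :
    ∃ h : ↥Co0, h • U0 = U0 ∧ h • V0 = V0 ∧ h • T0 = T0 ∧ h • z = z' := by
  classical
  have hne : (none : GolayPt) ≠ some 0 := by decide
  -- the value of the inner product with `t0` on the three families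
  have valA : ∀ k : GolayPt, k ≠ none → k ≠ some 0 →
      dotInt t0 (Pi.single none 4 + Pi.single k 4) = 16 := by
    intro k hk1 hk2
    rw [dot_t0]
    simp only [Pi.add_apply, Pi.single_apply]
    rw [if_pos trivial, if_neg (fun h => hk1 h.symm), if_neg (by decide),
      if_neg (fun h => hk2 h.symm)]
    norm_num
  have valB : ∀ O : Finset GolayPt, none ∈ O → (some 0 : GolayPt) ∈ O →
      dotInt t0 (Psi 2 ⟨O, ∅⟩) = 0 := by
    intro O h1 h2
    rw [dot_t0, Psi_apply, Psi_apply, if_pos h1, if_pos h2, if_neg (Finset.notMem_empty _)]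
    norm_num
  have valC : ∀ w : GolayPt → ZMod 2, (w none).val = 1 → (w (some 0)).val = 0 →
      dotInt t0 (PhiO (w, none)) = 8 := by
    intro w h1 h2
    rw [dot_t0, PhiO_apply, PhiO_apply, if_pos rfl, if_neg (by decide), h1, h2]
    norm_num
  obtain ⟨hn, hu, hv, ht⟩ := hz
  obtain ⟨hn', hu', hv', ht'⟩ := hz'
  rcases classify275 z.1 z.2 hn hu hv with ⟨k, hk1, hk2, e⟩ | ⟨O, hO, hO1, hO2, e⟩ |
    ⟨w, hw, h8, hv1, hv2, e⟩
  · exfalso
    rw [e, valA k hk1 hk2] at ht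
    omega
  · have ha0 : a = 0 := by rw [← ht, e, valB O hO1 hO2]
    rcases classify275 z'.1 z'.2 hn' hu' hv' with ⟨k', hk1', hk2', e'⟩ |
      ⟨O', hO', hO1', hO2', e'⟩ | ⟨w', hw', h8', hv1', hv2', e'⟩
    · exfalso
      rw [e', valA k' hk1' hk2'] at ht'
      omega
    · -- both of the octad kind
      have hex : ∀ Q : Finset GolayPt, Q ∈ octads → none ∈ Q → (some 0 : GolayPt) ∈ Q →
          ∃ k ∈ Q, k ≠ none ∧ k ≠ some 0 := by
        intro Q hQ q1 q2
        have hcard : 2 < Q.card := by rw [hQ.2]; norm_num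
        have hsub : ({none, some 0} : Finset GolayPt).card < Q.card := by
          rw [Finset.card_pair hne]; exact hcard
        obtain ⟨k, hkQ, hk⟩ := Finset.exists_mem_notMem_of_card_lt_card hsub
        simp only [Finset.mem_insert, Finset.mem_singleton, not_or] at hk
        exact ⟨k, hkQ, hk.1, hk.2⟩
      obtain ⟨k, hk, hk1, hk2⟩ := hex O hO hO1 hO2
      obtain ⟨k', hk', hk1', hk2'⟩ := hex O' hO' hO1' hO2'
      obtain ⟨π, hπ, m1, m2, hOO, -⟩ :=
        Cfsg.Agent.Lib.Helper14.M22Trans.exists_map_in hO hO' hne hO1 hO2 hO1' hO2' hk hk1 hk2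
          hk' hk1' hk2'
      refine ⟨permEl π hπ, Cfsg.Agent.S1584.permEl_eq π hπ _ _ (Cfsg.Agent.S1584.u0_perm π m1),
        Cfsg.Agent.S1584.permEl_eq π hπ _ _ (Cfsg.Agent.S1584.v0_perm π m1 m2),
        Cfsg.Agent.S1584.permEl_eq π hπ _ _ (t0_perm π m1 m2),
        Cfsg.Agent.S1584.permEl_eq π hπ _ _ ?_⟩
      intro i
      rw [e, e', Psi_perm2, hOO, Finset.smul_finset_empty]
    · exfalso
      rw [e', valC w' hv1' hv2'] at ht'
      omega
  · have ha8 : a = 8 := by rw [← ht, e, valC w hv1 hv2]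
    rcases classify275 z'.1 z'.2 hn' hu' hv' with ⟨k', hk1', hk2', e'⟩ |
      ⟨O', hO', hO1', hO2', e'⟩ | ⟨w', hw', h8', hv1', hv2', e'⟩
    · exfalso
      rw [e', valA k' hk1' hk2'] at ht'
      omega
    · exfalso
      rw [e', valB O' hO1' hO2'] at ht'
      omega
    · -- both of the odd kind
      have hmemO : ∀ w : GolayPt → ZMod 2, w ∈ golayCode → (support₂ w).card = 8 →
          (w none).val = 1 → (w (some 0)).val = 0 →
          support₂ w ∈ octads ∧ none ∈ support₂ w ∧ (some 0 : GolayPt) ∉ support₂ w ∧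
            ∃ j ∈ support₂ w, j ≠ none := by
        intro w hw h8 h1 h2
        have q1 : none ∈ support₂ w := by
          rw [mem_support₂_iff]; exact h1
        have q2 : (some 0 : GolayPt) ∉ support₂ w := (notMem_support₂_iff w (some 0)).mpr h2
        refine ⟨⟨⟨w, hw, rfl⟩, h8⟩, q1, q2, ?_⟩
        have hsub : ({none} : Finset GolayPt).card < (support₂ w).card := by
          rw [Finset.card_singleton, h8]; norm_num
        obtain ⟨j, hjQ, hj⟩ := Finset.exists_mem_notMem_of_card_lt_card hsub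
        exact ⟨j, hjQ, by simpa using hj⟩
      obtain ⟨hO, q1, q2, j, hj, hj1⟩ := hmemO w hw h8 hv1 hv2
      obtain ⟨hO', q1', q2', j', hj', hj1'⟩ := hmemO w' hw' h8' hv1' hv2'
      obtain ⟨π, hπ, m2, m1, hOO, -⟩ :=
        Cfsg.Agent.Lib.Helper14.M22Trans.exists_map_out hO hO' q2 q1 q2' q1' hj hj1 hj' hj1'
      refine ⟨permEl π hπ, Cfsg.Agent.S1584.permEl_eq π hπ _ _ (Cfsg.Agent.S1584.u0_perm π m1),
        Cfsg.Agent.S1584.permEl_eq π hπ _ _ (Cfsg.Agent.S1584.v0_perm π m1 m2),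
        Cfsg.Agent.S1584.permEl_eq π hπ _ _ (t0_perm π m1 m2),
        Cfsg.Agent.S1584.permEl_eq π hπ _ _ ?_⟩
      intro i
      rw [e, e', PhiO_eq_PhiS, PhiO_eq_PhiS, PhiS_perm, hOO, m1]

/-! ### inner products of lattice elements -/

/-- the inner product of two lattice elements -/
def ip (a b : ↥leechLattice) : ℤ := dotInt (a : GolayPt → ℤ) (b : GolayPt → ℤ)

/-- the norm of a lattice element -/
def nrm (a : ↥leechLattice) : ℤ := sqNorm (a : GolayPt → ℤ)

theorem ip_comm (a b : ↥leechLattice) : ip a b = ip b a := dotInt_comm _ _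

theorem ip_self (a : ↥leechLattice) : ip a a = nrm a := dotInt_self _

theorem ip_sub_left (a b c : ↥leechLattice) : ip (a - b) c = ip a c - ip b c := by
  unfold ip; rw [coe_sub', dotInt_sub_left]

theorem ip_sub_right (a b c : ↥leechLattice) : ip a (b - c) = ip a b - ip a c := by
  unfold ip; rw [coe_sub', dotInt_sub_right]

theorem ip_add_left (a b c : ↥leechLattice) : ip (a + b) c = ip a c + ip b c := by
  unfold ip; rw [coe_add', dotInt_add_left]

theorem ip_add_right (a b c : ↥leechLattice) : ip a (b + c) = ip a b + ip a c := by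
  unfold ip; rw [coe_add', dotInt_add_right]

theorem ip_smul (g : ↥Co0) (a b : ↥leechLattice) : ip (g • a) (g • b) = ip a b := dot_smul g a b

theorem ip_inv_smul (g : ↥Co0) (a b : ↥leechLattice) : ip (g⁻¹ • a) b = ip a (g • b) := by
  rw [← ip_smul g (g⁻¹ • a) b, smul_inv_smul]

theorem nrm_smul (g : ↥Co0) (a : ↥leechLattice) : nrm (g • a) = nrm a := by
  unfold nrm; rw [smul_coe, g.2.2]

theorem nrm_sub (a b : ↥leechLattice) : nrm (a - b) = nrm a + nrm b - 2 * ip a b := by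
  unfold nrm ip; rw [coe_sub', sqNorm_sub]

theorem nrm_add (a b : ↥leechLattice) : nrm (a + b) = nrm a + nrm b + 2 * ip a b := by
  unfold nrm ip; rw [coe_add', sqNorm_add]

theorem ip_of_eq (a : ↥leechLattice) (f : GolayPt → ℤ) (b : ↥leechLattice)
    (h : (a : GolayPt → ℤ) = f) : ip a b = dotInt f (b : GolayPt → ℤ) := by
  unfold ip; rw [h]

/-! ### transitivity of the joint stabiliser along a common neighbour -/

/-- two points with the same inner products, both at inner product `16` with a common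
neighbour `y` of the base point -/
theorem trans_pos (v x0 y x x' : ↥leechLattice) (c : ℤ)
    (hv : nrm v = 32) (hx0 : nrm x0 = 32) (hy : nrm y = 32) (hx : nrm x = 32) (hx' : nrm x' = 32)
    (hvx0 : ip v x0 = -8) (hvy : ip v y = -8) (hvx : ip v x = -8) (hvx' : ip v x' = -8)
    (hx0y : ip x0 y = 16) (hyx : ip y x = 16) (hyx' : ip y x' = 16)
    (hc : ip x0 x = c) (hc' : ip x0 x' = c) :
    ∃ a : ↥Co0, a • v = v ∧ a • x0 = x0 ∧ a • x = x' := by
  have hyx0 : ip y x0 = 16 := by rw [ip_comm]; exact hx0y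
  have m0 : nrm (y - x0) = 32 ∧ ip v (y - x0) = 0 ∧ ip y (y - x0) = 16 := by
    refine ⟨?_, ?_, ?_⟩
    · rw [nrm_sub, hy, hx0, hyx0]; norm_num
    · rw [ip_sub_right, hvy, hvx0]; norm_num
    · rw [ip_sub_right, ip_self, hy, hyx0]; norm_num
  have m1 : (nrm (y - x) = 32 ∧ ip v (y - x) = 0 ∧ ip y (y - x) = 16) ∧
      ip (y - x0) (y - x) = c := by
    refine ⟨⟨?_, ?_, ?_⟩, ?_⟩
    · rw [nrm_sub, hy, hx, hyx]; norm_num
    · rw [ip_sub_right, hvy, hvx]; norm_num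
    · rw [ip_sub_right, ip_self, hy, hyx]; norm_num
    · rw [ip_sub_left, ip_sub_right, ip_sub_right, ip_self, hy, hyx, ip_comm x0 y, hyx0, hc]
      ring
  have m2 : (nrm (y - x') = 32 ∧ ip v (y - x') = 0 ∧ ip y (y - x') = 16) ∧
      ip (y - x0) (y - x') = c := by
    refine ⟨⟨?_, ?_, ?_⟩, ?_⟩
    · rw [nrm_sub, hy, hx', hyx']; norm_num
    · rw [ip_sub_right, hvy, hvx']; norm_num
    · rw [ip_sub_right, ip_self, hy, hyx']; norm_num
    · rw [ip_sub_left, ip_sub_right, ip_sub_right, ip_self, hy, hyx', ip_comm x0 y, hyx0, hc']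
      ring
  obtain ⟨k, hkv, hku, hkx⟩ := exists_std_pt v y (y - x0) hv hy hvy m0
  obtain ⟨a, a1, a2, a3, a4⟩ := trans_class v y (y - x0) k hkv hku hkx c (y - x) (y - x') m1 m2
  refine ⟨a, a1, ?_, ?_⟩
  · rw [smul_sub', a2] at a3
    exact sub_right_injective a3
  · rw [smul_sub', a2] at a4
    exact sub_right_injective a4

/-- two points with the same inner products, both at inner product `-16` with a common
neighbour `y` of the base point -/
theorem trans_neg (v x0 y x x' : ↥leechLattice) (c : ℤ) (hcc : c = 0 ∨ c = -8)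
    (hv : nrm v = 32) (hx0 : nrm x0 = 32) (hy : nrm y = 32) (hx : nrm x = 32) (hx' : nrm x' = 32)
    (hvx0 : ip v x0 = -8) (hvy : ip v y = -8) (hvx : ip v x = -8) (hvx' : ip v x' = -8)
    (hx0y : ip x0 y = 16) (hyx : ip y x = -16) (hyx' : ip y x' = -16)
    (hc : ip x0 x = c) (hc' : ip x0 x' = c) :
    ∃ a : ↥Co0, a • v = v ∧ a • x0 = x0 ∧ a • x = x' := by
  have hyx0 : ip y x0 = 16 := by rw [ip_comm]; exact hx0y
  have m0 : nrm (y - x0) = 32 ∧ ip v (y - x0) = 0 ∧ ip y (y - x0) = 16 := by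
    refine ⟨?_, ?_, ?_⟩
    · rw [nrm_sub, hy, hx0, hyx0]; norm_num
    · rw [ip_sub_right, hvy, hvx0]; norm_num
    · rw [ip_sub_right, ip_self, hy, hyx0]; norm_num
  obtain ⟨k, hkv, hku, hkx⟩ := exists_std_pt v y (y - x0) hv hy hvy m0
  -- inner products with the reference vectors after the transport
  have eV : ∀ q : ↥leechLattice, ip V0 (k • q) = ip v q := by
    intro q; rw [← hkv, ip_smul]
  have eU : ∀ q : ↥leechLattice, ip U0 (k • q) = ip v q + ip y q := by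
    intro q; rw [← hku, ip_smul, ip_add_left]
  have eT : ∀ q : ↥leechLattice, ip T0 (k • q) = ip y q - ip x0 q := by
    intro q; rw [← hkx, ip_smul, ip_sub_left]
  have hUU : nrm U0 = 48 := u0_norm
  have hTU : ip T0 U0 = 16 := dot_t0_u0
  have hVU : ip V0 U0 = 24 := by rw [ip_comm]; exact dot_u0_v0
  have key : ∀ q : ↥leechLattice, nrm q = 32 → ip v q = -8 → ip y q = -16 → ip x0 q = c →
      nrm (U0 + k • q) = 32 ∧ ip U0 (U0 + k • q) = 24 ∧ ip V0 (U0 + k • q) = 16 ∧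
        ip T0 (U0 + k • q) = -c := by
    intro q h1 h2 h3 h4
    refine ⟨?_, ?_, ?_, ?_⟩
    · rw [nrm_add, hUU, nrm_smul, h1, eU, h2, h3]; norm_num
    · rw [ip_add_right, ip_self, hUU, eU, h2, h3]; norm_num
    · rw [ip_add_right, hVU, eV, h2]; norm_num
    · rw [ip_add_right, hTU, eT, h3, h4]; ring
  obtain ⟨b, hbu, hbv, hbt, hbz⟩ := trans275 (U0 + k • x) (U0 + k • x') (-c)
    (by rcases hcc with rfl | rfl <;> norm_num) (key x hx hvx hyx hc) (key x' hx' hvx' hyx' hc')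
  rw [smul_add', hbu] at hbz
  have hbz' : b • (k • x) = k • x' := add_left_cancel hbz
  have hav : (k⁻¹ * b * k) • v = v := by
    rw [mul_smul, mul_smul, hkv, hbv, inv_smul_eq_iff, hkv]
  have hau : (k⁻¹ * b * k) • (v + y) = v + y := by
    rw [mul_smul, mul_smul, hku, hbu, inv_smul_eq_iff, hku]
  have hay : (k⁻¹ * b * k) • y = y := fix_w _ v y hav hau
  have hat : (k⁻¹ * b * k) • (y - x0) = y - x0 := by
    rw [mul_smul, mul_smul, hkx, hbt, inv_smul_eq_iff, hkx]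
  refine ⟨k⁻¹ * b * k, hav, ?_, ?_⟩
  · rw [smul_sub', hay] at hat
    exact sub_right_injective hat
  · rw [mul_smul, mul_smul, hbz', inv_smul_smul]

theorem ip_fix (g : ↥Co0) (f q : ↥leechLattice) (hf : g • f = f) : ip f (g • q) = ip f q := by
  have h := ip_smul g f q
  rwa [hf] at h

/-- transitivity on the points with given inner products, granted common neighbours -/
theorem trans_cls (v x0 x x' : ↥leechLattice) (c s : ℤ)
    (hs : s = 16 ∨ (s = -16 ∧ (c = 0 ∨ c = -8)))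
    (hv : nrm v = 32) (hx0 : nrm x0 = 32) (hx : nrm x = 32) (hx' : nrm x' = 32)
    (hvx0 : ip v x0 = -8) (hvx : ip v x = -8) (hvx' : ip v x' = -8)
    (hc : ip x0 x = c) (hc' : ip x0 x' = c)
    (hy : ∃ y : ↥leechLattice, nrm y = 32 ∧ ip v y = -8 ∧ ip x0 y = 16 ∧ ip y x = s)
    (hy' : ∃ y : ↥leechLattice, nrm y = 32 ∧ ip v y = -8 ∧ ip x0 y = 16 ∧ ip y x' = s) :
    ∃ a : ↥Co0, a • v = v ∧ a • x0 = x0 ∧ a • x = x' := by
  obtain ⟨y, y1, y2, y3, y4⟩ := hy
  obtain ⟨y', y1', y2', y3', y4'⟩ := hy'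
  have mem : ∀ q : ↥leechLattice, nrm q = 32 → ip v q = -8 → ip x0 q = 16 →
      nrm (x0 - q) = 32 ∧ ip v (x0 - q) = 0 ∧ ip x0 (x0 - q) = 16 := by
    intro q h1 h2 h3
    refine ⟨?_, ?_, ?_⟩
    · rw [nrm_sub, hx0, h1, h3]; norm_num
    · rw [ip_sub_right, hvx0, h2]; norm_num
    · rw [ip_sub_right, ip_self, hx0, h3]; norm_num
  obtain ⟨g, hgv, hgx0, hgy⟩ := (Cfsg.Agent.S1634.result v x0 hv hx0 hvx0).2.1
    (x0 - y) (mem y y1 y2 y3) (x0 - y') (mem y' y1' y2' y3')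
  rw [smul_sub', hgx0] at hgy
  have hgy' : g • y = y' := sub_right_injective hgy
  have e1 : nrm (g • x) = 32 := by rw [nrm_smul, hx]
  have e2 : ip v (g • x) = -8 := by rw [ip_fix g v x hgv, hvx]
  have e3 : ip x0 (g • x) = c := by rw [ip_fix g x0 x hgx0, hc]
  have e4 : ip y' (g • x) = s := by rw [← hgy', ip_smul, y4]
  have fin : ∃ a : ↥Co0, a • v = v ∧ a • x0 = x0 ∧ a • (g • x) = x' := by
    rcases hs with rfl | ⟨rfl, hcc⟩
    · exact trans_pos v x0 y' (g • x) x' c hv hx0 y1' e1 hx' hvx0 y2' e2 hvx' y3' e4 y4' e3 hc'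
    · exact trans_neg v x0 y' (g • x) x' c hcc hv hx0 y1' e1 hx' hvx0 y2' e2 hvx' y3' e4 y4' e3 hc'
  obtain ⟨a, a1, a2, a3⟩ := fin
  refine ⟨a * g, ?_, ?_, ?_⟩
  · rw [mul_smul, hgv, a1]
  · rw [mul_smul, hgx0, a2]
  · rw [mul_smul, a3]

/-! ### auxiliary vectors in the standard configuration -/

/-- the facts on `2 · 1_m`, from the boolean test -/
theorem tO_facts' (m : ℕ) (h : okO m = true) :
    Psi 2 ⟨bitSet m, ∅⟩ ∈ leechLattice ∧ sqNorm (Psi 2 ⟨bitSet m, ∅⟩) = 32 ∧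
      dotInt v0 (Psi 2 ⟨bitSet m, ∅⟩) = 0 ∧ dotInt u0 (Psi 2 ⟨bitSet m, ∅⟩) = 16 ∧
      pc24 m = 8 := by
  obtain ⟨f1, f2, f3, f4, f5⟩ := okO_spec m h
  obtain ⟨e1, e2, e3, e4, -, -⟩ := tO_facts m f1 f2 f3 f4 f5
  exact ⟨e1, e2, e3, e4, f3⟩

/-- the inner product of `2 · 1_A` with a vector supported on `O`, when `A ∩ O` is a pair -/
theorem dot_pair (A O U : Finset GolayPt) (p q : GolayPt) (hpq : p ≠ q)
    (h : A ∩ O = {p, q}) :
    dotInt (Psi 2 ⟨A, ∅⟩) (Psi 2 ⟨O, U⟩) = 2 * (Psi 2 ⟨O, U⟩ p + Psi 2 ⟨O, U⟩ q) := by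
  classical
  rw [dot_Psi2]
  congr 1
  rw [← Finset.sum_pair hpq, ← h]
  symm
  refine Finset.sum_subset Finset.inter_subset_left ?_
  intro i hi hni
  have hiO : i ∉ O := fun hO => hni (Finset.mem_inter.mpr ⟨hi, hO⟩)
  rw [Psi_apply, if_neg hiO]

/-- the mask data of an octad word -/
theorem mask_data (w : GolayPt → ZMod 2) (hw : w ∈ golayCode) (h8 : (support₂ w).card = 8) :
    ∃ c < 4096, w = wordOf (codeMask c) ∧ support₂ w = bitSet (codeMask c) ∧
      pc24 (codeMask c) = 8 := by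
  obtain ⟨c, hc, rfl⟩ := (Cfsg.Agent.Lib.Helper3.Golay.mem_golayCode_iff w).mp hw
  refine ⟨c, hc, rfl, Cfsg.Agent.Lib.Helper3.Golay.support_wordOf _, ?_⟩
  rw [Cfsg.Agent.Lib.Helper3.Golay.support_wordOf,
    Cfsg.Agent.Lib.Helper3.Golay.card_bitSet'] at h8
  exact h8

theorem testBit_ne (M : ℕ) (h1 : (none : GolayPt) ∈ bitSet M ↔ ¬ ((some 0 : GolayPt) ∈ bitSet M)) :
    M.testBit 23 ≠ M.testBit 0 := by
  rw [Cfsg.Agent.Lib.Helper3.Golay.mem_bitSet, Cfsg.Agent.Lib.Helper3.Golay.mem_bitSet] at h1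
  change (M.testBit 23 = true ↔ ¬ M.testBit 0 = true) at h1
  intro h
  rw [h] at h1
  exact (iff_not_self h1)

/-- an octad of the family meeting a given octad in a given pair -/
theorem exists_pair_oct (w : GolayPt → ZMod 2) (hw : w ∈ golayCode) (h8 : (support₂ w).card = 8)
    (hx : (none : GolayPt) ∈ support₂ w ↔ ¬ ((some 0 : GolayPt) ∈ support₂ w))
    (p q : GolayPt) (hp : p ∈ support₂ w) (hq : q ∈ support₂ w) (hpq : p ≠ q) (hp1 : p ≠ none)
    (hp2 : p ≠ some 0) (hq1 : q ≠ none) (hq2 : q ≠ some 0) :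
    ∃ m, okO m = true ∧ bitSet m ∩ support₂ w = {p, q} := by
  obtain ⟨c, hc, -, hs, h8'⟩ := mask_data w hw h8
  rw [hs] at hx hp hq ⊢
  obtain ⟨m, hm, hmc⟩ := pair_oct c hc h8' (testBit_ne _ hx) p q
    (Cfsg.Agent.Lib.Helper3.Golay.mem_bitSet.mp hp) (Cfsg.Agent.Lib.Helper3.Golay.mem_bitSet.mp hq)
    hpq hp1 hp2 hq1 hq2
  exact ⟨m, F330_ok m hm, hmc⟩

theorem dot_t0_Psi2 (O U : Finset GolayPt) :
    dotInt t0 (Psi 2 ⟨O, U⟩) = 4 * Psi 2 ⟨O, U⟩ none - 4 * Psi 2 ⟨O, U⟩ (some 0) := dot_t0 _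

/-- the third family does not occur -/
theorem no_P4 (T U : Finset GolayPt) (h : dotInt v0 (Psi 4 ⟨T, U⟩) = -8) : False := by
  rw [dot_v0] at h
  rcases Psi_vals 4 T U none with ⟨-, -, a⟩ | ⟨-, -, a⟩ | ⟨-, a⟩ <;>
  rcases Psi_vals 4 T U (some 0) with ⟨-, -, b⟩ | ⟨-, -, b⟩ | ⟨-, b⟩ <;>
  rw [a, b] at h <;> omega

/-- an auxiliary vector for the class `u0 · x = 0` -/
theorem exists_T_b0 (x : GolayPt → ℤ) (hx : x ∈ leechLattice) (hn : sqNorm x = 32)
    (hv : dotInt v0 x = -8) (hu : dotInt u0 x = 0) :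
    ∃ t ∈ leechLattice, sqNorm t = 32 ∧ dotInt v0 t = 0 ∧ dotInt u0 t = 16 ∧
      dotInt t x = -8 := by
  classical
  rcases classify x ((mem_leechLattice_iff x).mp hx) hn with
    ⟨w, hw, j, rfl⟩ | ⟨w, hw, h8, U, hU, hev, rfl⟩ | ⟨T, hT, U, hU, rfl⟩
  · obtain ⟨c, hc, rfl⟩ := (Cfsg.Agent.Lib.Helper3.Golay.mem_golayCode_iff w).mp hw
    have hcond : condO (-8) 0 (codeMask c) j := (condO_iff 0 _ j).mp ⟨hv, hu⟩
    obtain ⟨m, hm, hok⟩ := po_b0 c hc j hcond
    obtain ⟨e1, e2, e3, e4, e5⟩ := tO_facts' m (G0_ok m hm)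
    refine ⟨_, e1, e2, e3, e4, ?_⟩
    rw [okA_spec 16 m _ j e5 hok]
    norm_num
  · have hp : pXb 0 (f2 ⟨w, U⟩) := ⟨hv, hu⟩
    rcases (cond2b_iff 0 w h8 U hU).mp hp with ⟨h1, h2, h3, h4⟩ | ⟨h1, h2, h3, h4⟩
    · -- the vector `t0`
      refine ⟨t0, t0_mem, t0_norm, pX_t0.1, pX_t0.2, ?_⟩
      rw [dot_t0_Psi2, Psi_apply, Psi_apply, if_pos h1, if_pos h3, if_neg h2]
      norm_num
    · have hc4 : U.card = 4 := by omega
      have hc3 : 1 < (U.erase (some 0)).card := by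
        rw [Finset.card_erase_of_mem h3, hc4]; norm_num
      obtain ⟨p, hp, q, hq, hpq⟩ := Finset.one_lt_card.mp hc3
      rw [Finset.mem_erase] at hp hq
      have hpO : p ∈ support₂ w := hU hp.2
      have hqO : q ∈ support₂ w := hU hq.2
      obtain ⟨m, hm, hmc⟩ := exists_pair_oct w hw h8
        ⟨fun h => absurd h h2, fun _ => absurd h1 (by tauto)⟩ p q hpO hqO hpq
        (fun h => h2 (h ▸ hpO)) hp.1 (fun h => h2 (h ▸ hqO)) hq.1
      obtain ⟨e1, e2, e3, e4, -⟩ := tO_facts' m hm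
      refine ⟨_, e1, e2, e3, e4, ?_⟩
      rw [dot_pair _ _ _ p q hpq hmc, Psi_apply, Psi_apply, if_pos hpO, if_pos hp.2, if_pos hqO,
        if_pos hq.2]
      norm_num
  · exact (no_P4 T U hv).elim

/-- an auxiliary vector for the class `u0 · x = -16` -/
theorem exists_T_b16 (x : GolayPt → ℤ) (hx : x ∈ leechLattice) (hn : sqNorm x = 32)
    (hv : dotInt v0 x = -8) (hu : dotInt u0 x = -16) :
    ∃ t ∈ leechLattice, sqNorm t = 32 ∧ dotInt v0 t = 0 ∧ dotInt u0 t = 16 ∧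
      dotInt t x = 8 := by
  classical
  rcases classify x ((mem_leechLattice_iff x).mp hx) hn with
    ⟨w, hw, j, rfl⟩ | ⟨w, hw, h8, U, hU, hev, rfl⟩ | ⟨T, hT, U, hU, rfl⟩
  · obtain ⟨c, hc, rfl⟩ := (Cfsg.Agent.Lib.Helper3.Golay.mem_golayCode_iff w).mp hw
    have hcond : condO (-8) (-16) (codeMask c) j := (condO_iff (-16) _ j).mp ⟨hv, hu⟩
    obtain ⟨m, hm, hok⟩ := po_b16 c hc j hcond
    obtain ⟨e1, e2, e3, e4, e5⟩ := tO_facts' m hm
    refine ⟨_, e1, e2, e3, e4, ?_⟩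
    rw [okA_spec 32 m _ j e5 hok]
    norm_num
  · have hp : pXb (-16) (f2 ⟨w, U⟩) := ⟨hv, hu⟩
    rcases (cond2b_iff (-16) w h8 U hU).mp hp with ⟨h1, h2, h3, h4⟩ | ⟨h1, h2, h3, h4⟩
    · have hc6 : U.card = 6 := by omega
      have hc2 : (support₂ w \ U).card = 2 := by
        rw [Finset.card_sdiff_of_subset hU, h8, hc6]
      obtain ⟨p, q, hpq, hpqe⟩ := Finset.card_eq_two.mp hc2
      have hp : p ∈ support₂ w \ U := by rw [hpqe]; simp
      have hq : q ∈ support₂ w \ U := by rw [hpqe]; simp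
      rw [Finset.mem_sdiff] at hp hq
      obtain ⟨m, hm, hmc⟩ := exists_pair_oct w hw h8
        ⟨fun _ => h2, fun _ => h1⟩ p q hp.1 hq.1 hpq
        (fun h => hp.2 (h ▸ h3)) (fun h => h2 (h ▸ hp.1)) (fun h => hq.2 (h ▸ h3))
        (fun h => h2 (h ▸ hq.1))
      obtain ⟨e1, e2, e3, e4, -⟩ := tO_facts' m hm
      refine ⟨_, e1, e2, e3, e4, ?_⟩
      rw [dot_pair _ _ _ p q hpq hmc, Psi_apply, Psi_apply, if_pos hp.1, if_neg hp.2,
        if_pos hq.1, if_neg hq.2]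
      norm_num
    · -- the vector `t0`
      refine ⟨t0, t0_mem, t0_norm, pX_t0.1, pX_t0.2, ?_⟩
      rw [dot_t0_Psi2, Psi_apply, Psi_apply, if_neg h2, if_pos h1, if_pos h3]
      norm_num
  · exact (no_P4 T U hv).elim

/-! ### common neighbours -/

/-- a common neighbour, from an auxiliary vector in the standard configuration -/
theorem exists_nb_of_T (v x0 x : ↥leechLattice) (hx0 : nrm x0 = 32) (hvx0 : ip v x0 = -8)
    (k : ↥Co0) (hkv : k • v = V0) (hku : k • (v + x0) = U0) (T : ↥leechLattice)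
    (hT : nrm T = 32) (hTv : ip V0 T = 0) (hTu : ip U0 T = 16) (a : ℤ) (hTa : ip T (k • x) = a) :
    ∃ y : ↥leechLattice, nrm y = 32 ∧ ip v y = -8 ∧ ip x0 y = 16 ∧ ip y x = ip x0 x - a := by
  have hkx0 : ip x0 (k⁻¹ • T) = 16 := by
    rw [ip_comm, ip_inv_smul]
    have : k • x0 = U0 - V0 := by
      rw [smul_add', hkv] at hku
      rw [← hku]; abel
    rw [this, ip_sub_right, ip_comm T U0, ip_comm T V0, hTu, hTv]; norm_num
  have hkv' : ip v (k⁻¹ • T) = 0 := by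
    rw [ip_comm, ip_inv_smul, hkv, ip_comm, hTv]
  refine ⟨x0 - k⁻¹ • T, ?_, ?_, ?_, ?_⟩
  · rw [nrm_sub, hx0, nrm_smul, hT, hkx0]; norm_num
  · rw [ip_sub_right, hvx0, hkv']; norm_num
  · rw [ip_sub_right, ip_self, hx0, hkx0]; norm_num
  · rw [ip_sub_left, ip_inv_smul, hTa]

/-- a common neighbour for the points at inner product `8` -/
theorem exists_nb8 (v x0 x : ↥leechLattice) (hv : nrm v = 32) (hx0 : nrm x0 = 32)
    (hx : nrm x = 32) (hvx0 : ip v x0 = -8) (hvx : ip v x = -8) (hc : ip x0 x = 8) :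
    ∃ y : ↥leechLattice, nrm y = 32 ∧ ip v y = -8 ∧ ip x0 y = 16 ∧ ip y x = 16 := by
  obtain ⟨k, hkv, hku⟩ := exists_std v x0 hv hx0 hvx0
  have h1 : dotInt v0 ((k • x : ↥leechLattice) : GolayPt → ℤ) = -8 := by
    have : ip V0 (k • x) = -8 := by rw [← hkv, ip_smul, hvx]
    exact this
  have h2 : dotInt u0 ((k • x : ↥leechLattice) : GolayPt → ℤ) = 0 := by
    have : ip U0 (k • x) = 0 := by rw [← hku, ip_smul, ip_add_left, hvx, hc]; norm_num
    exact this
  obtain ⟨t, ht, t1, t2, t3, t4⟩ := exists_T_b0 _ (k • x).2 (by rw [smul_coe, k.2.2]; exact hx) h1 h2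
  obtain ⟨y, y1, y2, y3, y4⟩ := exists_nb_of_T v x0 x hx0 hvx0 k hkv hku ⟨t, ht⟩ t1 t2 t3 (-8) t4
  refine ⟨y, y1, y2, y3, ?_⟩
  rw [y4, hc]; norm_num

/-- a common neighbour for the points at inner product `-8` -/
theorem exists_nbm8 (v x0 x : ↥leechLattice) (hv : nrm v = 32) (hx0 : nrm x0 = 32)
    (hx : nrm x = 32) (hvx0 : ip v x0 = -8) (hvx : ip v x = -8) (hc : ip x0 x = -8) :
    ∃ y : ↥leechLattice, nrm y = 32 ∧ ip v y = -8 ∧ ip x0 y = 16 ∧ ip y x = -16 := by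
  obtain ⟨k, hkv, hku⟩ := exists_std v x0 hv hx0 hvx0
  have h1 : dotInt v0 ((k • x : ↥leechLattice) : GolayPt → ℤ) = -8 := by
    have : ip V0 (k • x) = -8 := by rw [← hkv, ip_smul, hvx]
    exact this
  have h2 : dotInt u0 ((k • x : ↥leechLattice) : GolayPt → ℤ) = -16 := by
    have : ip U0 (k • x) = -16 := by rw [← hku, ip_smul, ip_add_left, hvx, hc]; norm_num
    exact this
  obtain ⟨t, ht, t1, t2, t3, t4⟩ := exists_T_b16 _ (k • x).2 (by rw [smul_coe, k.2.2]; exact hx) h1 h2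
  obtain ⟨y, y1, y2, y3, y4⟩ := exists_nb_of_T v x0 x hx0 hvx0 k hkv hku ⟨t, ht⟩ t1 t2 t3 8 t4
  refine ⟨y, y1, y2, y3, ?_⟩
  rw [y4, hc]; norm_num

/-- a minimal vector with the entry `-2` at `∞` and `0` at `0` has a further entry `±2` -/
theorem exists_coord2 (w : GolayPt → ℤ) (hw : w ∈ leechLattice) (hn : sqNorm w = 32)
    (h1 : w none = -2) (h2 : w (some 0) = 0) :
    ∃ k : GolayPt, k ≠ none ∧ k ≠ some 0 ∧ (w k = 2 ∨ w k = -2) := by
  classical
  rcases classify w ((mem_leechLattice_iff w).mp hw) hn with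
    ⟨c, hc, j, rfl⟩ | ⟨c, hc, h8, U, hU, hev, rfl⟩ | ⟨T, hT, U, hU, rfl⟩
  · exfalso
    have := PhiO_odd (c, j) none
    rw [h1] at this
    omega
  · have hnT : none ∈ support₂ c := by
      by_contra h
      rw [Psi_apply, if_neg h] at h1
      omega
    have h0T : (some 0 : GolayPt) ∉ support₂ c := by
      intro h
      rw [Psi_apply, if_pos h] at h2
      split_ifs at h2 <;> omega
    have hsub : ({none} : Finset GolayPt).card < (support₂ c).card := by
      rw [Finset.card_singleton, h8]; norm_num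
    obtain ⟨k, hkT, hk⟩ := Finset.exists_mem_notMem_of_card_lt_card hsub
    refine ⟨k, by simpa using hk, fun h => h0T (h ▸ hkT), ?_⟩
    rw [Psi_apply, if_pos hkT]
    split_ifs
    · right; rfl
    · left; rfl
  · exfalso
    rcases Psi_vals 4 T U none with ⟨-, -, a⟩ | ⟨-, -, a⟩ | ⟨-, a⟩ <;> rw [a] at h1 <;> omega

/-- a common neighbour for the points at inner product `0` -/
theorem exists_nb0 (v x0 x : ↥leechLattice) (hv : nrm v = 32) (hx0 : nrm x0 = 32)
    (hx : nrm x = 32) (hvx0 : ip v x0 = -8) (hvx : ip v x = -8) (hc : ip x0 x = 0) :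
    ∃ y : ↥leechLattice, nrm y = 32 ∧ ip v y = -8 ∧ ip x0 y = 16 ∧ ip y x = -16 := by
  obtain ⟨g, hg0, hgx⟩ := orth_normal x0 x hx0 hx hc
  -- the coordinates of the image of `v`
  have e1 : dotInt v0 ((g • v : ↥leechLattice) : GolayPt → ℤ) = -8 := by
    rw [← hg0]
    have : ip (g • x0) (g • v) = -8 := by rw [ip_smul, ip_comm, hvx0]
    exact this
  have e2 : dotInt t0 ((g • v : ↥leechLattice) : GolayPt → ℤ) = -8 := by
    rw [← hgx]
    have : ip (g • x) (g • v) = -8 := by rw [ip_smul, ip_comm, hvx]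
    exact this
  rw [dot_v0] at e1
  rw [dot_t0] at e2
  have c1 : ((g • v : ↥leechLattice) : GolayPt → ℤ) none = -2 := by omega
  have c2 : ((g • v : ↥leechLattice) : GolayPt → ℤ) (some 0) = 0 := by omega
  obtain ⟨k, hk1, hk2, hk⟩ := exists_coord2 _ (g • v).2 (by rw [smul_coe, g.2.2]; exact hv) c1 c2
  -- the neighbour in the new coordinates
  obtain ⟨s, hs, hsk⟩ : ∃ s : ℤ, (s = 1 ∨ s = -1) ∧
      s * ((g • v : ↥leechLattice) : GolayPt → ℤ) k = -2 := by
    rcases hk with h | h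
    · exact ⟨-1, Or.inr rfl, by rw [h]; norm_num⟩
    · exact ⟨1, Or.inl rfl, by rw [h]; norm_num⟩
  obtain ⟨m1, m2⟩ := pair_mem (some 0) k (fun h => hk2 h.symm) 1 s (Or.inl rfl) hs
  set Y : ↥leechLattice := ⟨_, m1⟩ with hY
  have dY : ∀ q : GolayPt → ℤ, dotInt (Y : GolayPt → ℤ) q = 4 * q (some 0) + 4 * s * q k := by
    intro q
    show dotInt (Pi.single (some 0) (4 * 1) + Pi.single k (4 * s)) q = _
    rw [dotInt_add_left, dot_single_left, dot_single_left]
    ring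
  refine ⟨g⁻¹ • Y, ?_, ?_, ?_, ?_⟩
  · rw [nrm_smul]; exact m2
  · rw [ip_comm, ip_inv_smul]
    show dotInt (Y : GolayPt → ℤ) ((g • v : ↥leechLattice) : GolayPt → ℤ) = -8
    rw [dY, c2]
    linarith
  · rw [ip_comm, ip_inv_smul]
    show dotInt (Y : GolayPt → ℤ) ((g • x0 : ↥leechLattice) : GolayPt → ℤ) = 16
    rw [dY, hg0]
    unfold v0
    have hne : ¬ ((some 0 : GolayPt) = none) := by decide
    simp only [Pi.add_apply, Pi.single_apply, hk1, hk2, hne, if_true, if_false]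
    norm_num
  · rw [ip_inv_smul]
    show dotInt (Y : GolayPt → ℤ) ((g • x : ↥leechLattice) : GolayPt → ℤ) = -16
    rw [dY, hgx]
    unfold t0
    have hne : ¬ ((some 0 : GolayPt) = none) := by decide
    simp only [Pi.add_apply, Pi.single_apply, hk1, hk2, hne, if_true, if_false]
    norm_num

/-! ### the classes -/

/-- the possible inner products -/
theorem ip_cases (v x0 x : ↥leechLattice) (hx0 : nrm x0 = 32) (hx : nrm x = 32)
    (hvx0 : ip v x0 = -8) (hvx : ip v x = -8) :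
    (ip x0 x = 32 ∧ x = x0) ∨ ip x0 x = 16 ∨ ip x0 x = 8 ∨ ip x0 x = 0 ∨ ip x0 x = -8 ∨
      ip x0 x = -16 := by
  obtain ⟨h8, hle⟩ := Cfsg.Agent.S0403.dot_bound x0 x hx0 hx
  change (8 : ℤ) ∣ ip x0 x at h8
  change x0 = x ∨ ip x0 x ≤ 16 at hle
  have hlow : -16 ≤ ip x0 x := by
    have hne : ((x0 + x : ↥leechLattice) : GolayPt → ℤ) ≠ 0 := by
      intro h
      have h0 : ip v (x0 + x) = 0 := by
        unfold ip; rw [h]
        unfold dotInt; simp
      rw [ip_add_right, hvx0, hvx] at h0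
      norm_num at h0
    have h32 := Cfsg.Agent.Lib.Helper14.Leech.thirtytwo_le_sqNorm_lattice _ (x0 + x).2 hne
    change 32 ≤ nrm (x0 + x) at h32
    rw [nrm_add, hx0, hx] at h32
    omega
  rcases hle with rfl | hle
  · left
    exact ⟨by rw [ip_self, hx0], rfl⟩
  · right
    obtain ⟨t, ht⟩ := h8
    have h1 : -2 ≤ t := by omega
    have h2 : t ≤ 2 := by omega
    interval_cases t <;> omega

/-- the joint stabiliser of `v` and `x0` is transitive on the minimal vectors `x` with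
`v · x = -8` and a given value of `x0 · x` -/
theorem trans_all (v x0 x x' : ↥leechLattice) (hv : nrm v = 32) (hx0 : nrm x0 = 32)
    (hx : nrm x = 32) (hx' : nrm x' = 32) (hvx0 : ip v x0 = -8) (hvx : ip v x = -8)
    (hvx' : ip v x' = -8) (hcc : ip x0 x = ip x0 x') :
    ∃ a : ↥Co0, a • v = v ∧ a • x0 = x0 ∧ a • x = x' := by
  rcases ip_cases v x0 x hx0 hx hvx0 hvx with ⟨hc, rfl⟩ | hc | hc | hc | hc | hc
  · -- the base point
    have : x' = x := by
      rcases ip_cases v x x' hx0 hx' hvx0 hvx' with ⟨-, e⟩ | h | h | h | h | h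
      · exact e
      all_goals (rw [hc] at hcc; omega)
    exact ⟨1, one_smul _ _, one_smul _ _, by rw [one_smul, this]⟩
  · -- the 2025 points
    have mem : ∀ q : ↥leechLattice, nrm q = 32 → ip v q = -8 → ip x0 q = 16 →
        nrm (x0 - q) = 32 ∧ ip v (x0 - q) = 0 ∧ ip x0 (x0 - q) = 16 := by
      intro q h1 h2 h3
      refine ⟨?_, ?_, ?_⟩
      · rw [nrm_sub, hx0, h1, h3]; norm_num
      · rw [ip_sub_right, hvx0, h2]; norm_num
      · rw [ip_sub_right, ip_self, hx0, h3]; norm_num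
    obtain ⟨g, hgv, hgx0, hgy⟩ := (Cfsg.Agent.S1634.result v x0 hv hx0 hvx0).2.1
      (x0 - x) (mem x hx hvx hc) (x0 - x') (mem x' hx' hvx' (by rw [← hcc, hc]))
    rw [smul_sub', hgx0] at hgy
    exact ⟨g, hgv, hgx0, sub_right_injective hgy⟩
  · obtain hy := exists_nb8 v x0 x hv hx0 hx hvx0 hvx hc
    obtain hy' := exists_nb8 v x0 x' hv hx0 hx' hvx0 hvx' (by rw [← hcc, hc])
    exact trans_cls v x0 x x' 8 16 (Or.inl rfl) hv hx0 hx hx' hvx0 hvx hvx' hc
      (by rw [← hcc, hc]) hy hy'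
  · obtain hy := exists_nb0 v x0 x hv hx0 hx hvx0 hvx hc
    obtain hy' := exists_nb0 v x0 x' hv hx0 hx' hvx0 hvx' (by rw [← hcc, hc])
    exact trans_cls v x0 x x' 0 (-16) (Or.inr ⟨rfl, Or.inl rfl⟩) hv hx0 hx hx' hvx0 hvx hvx' hc
      (by rw [← hcc, hc]) hy hy'
  · obtain hy := exists_nbm8 v x0 x hv hx0 hx hvx0 hvx hc
    obtain hy' := exists_nbm8 v x0 x' hv hx0 hx' hvx0 hvx' (by rw [← hcc, hc])
    exact trans_cls v x0 x x' (-8) (-16) (Or.inr ⟨rfl, Or.inr rfl⟩) hv hx0 hx hx' hvx0 hvx hvx' hc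
      (by rw [← hcc, hc]) hy hy'
  · -- the 275 points
    have hu : nrm (v + x0) = 48 := by rw [nrm_add, hv, hx0, hvx0]; norm_num
    have huv : ip (v + x0) v = 24 := by rw [ip_add_left, ip_self, hv, ip_comm, hvx0]; norm_num
    have mem : ∀ q : ↥leechLattice, nrm q = 32 → ip v q = -8 → ip x0 q = -16 →
        nrm (v + x0 + q) = 32 ∧ ip (v + x0) (v + x0 + q) = 24 ∧ ip v (v + x0 + q) = 16 := by
      intro q h1 h2 h3
      have e : ip (v + x0) q = -24 := by rw [ip_add_left, h2, h3]; norm_num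
      refine ⟨?_, ?_, ?_⟩
      · rw [nrm_add, hu, h1, e]; norm_num
      · rw [ip_add_right, ip_self, hu, e]; norm_num
      · rw [ip_add_right, ip_comm, huv, h2]; norm_num
    have hvv : sqNorm ((v : ↥leechLattice) : GolayPt → ℤ) = 32 ∧
        sqNorm (((v + x0 : ↥leechLattice) : GolayPt → ℤ) - ((v : ↥leechLattice) : GolayPt → ℤ))
          = 32 := ⟨hv, (sub_norm_iff _ _ hu hv).mpr huv⟩
    obtain ⟨g, hgu, hgv, hgz⟩ := (Cfsg.Agent.S1580.result (v + x0) v hu hvv).2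
      (v + x0 + x) ((Cfsg.Agent.S1580.mem_iff (v + x0) v _ hu).mpr (mem x hx hvx hc))
      (v + x0 + x') ((Cfsg.Agent.S1580.mem_iff (v + x0) v _ hu).mpr
        (mem x' hx' hvx' (by rw [← hcc, hc])))
    rw [smul_add', hgu] at hgz
    exact ⟨g, hgv, fix_w g v x0 hgv hgu, add_left_cancel hgz⟩

end Cfsg.Agent.Lib.Helper14.LeechCo2
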