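/-
helper14: S3613 TW market, leaf TW676: S0676 for an abstract faithful action (transport to the
range of `MulAction.toPermHom`).
-/
import Mathlib
import Cfsg.Agent.Lib.Helper8.PD2T
import Cfsg.Agent.S0676

set_option autoImplicit false

namespace Cfsg.Agent.Lib.Helper14.TW676

open MulAction

/-- the normalizer of the image of a subgroup under an isomorphism has the same order -/
theorem card_normalizer_map_equiv {K L : Type*} [Group K] [Group L] (e : K ≃* L) (P : Subgroup K) :
    Nat.card ↥(Subgroup.normalizer ((P.map e.toMonoidHom : Subgroup L) : Set L)) =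
      Nat.card ↥(Subgroup.normalizer ((P : Subgroup K) : Set K)) := by
  rw [← Subgroup.map_equiv_normalizer_eq]
  exact Nat.card_congr (e.subgroupMap _).symm.toEquiv

set_option linter.dupNamespace false in
/-- **TW676**. -/
theorem TW676 {K X : Type*} [Group K] [Finite K] [MulAction K X] [FaithfulSMul K X] [Fintype X]
    [DecidableEq X] {q : ℕ} [Fact q.Prime] (hX : Fintype.card X = q)
    (htr : MulAction.IsPretransitive K X) (hins : ¬ Group.IsSolvable K) (P : Sylow q K)
    (heven : Even (Nat.card ↥(Subgroup.normalizer ((P : Subgroup K) : Set K)))) :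
    MulAction.IsMultiplyPretransitive K X 3 := by
  classical
  have := Cfsg.Agent.Lib.Helper8.PD2T.range_isPretransitive htr
  let e := Cfsg.Agent.Lib.Helper8.PD2T.equivRange K X
  have hins' : ¬ Group.IsSolvable ↥(MulAction.toPermHom K X).range := by
    intro hsol
    apply hins
    exact Group.isSolvable_of_isSolvable_injective (f := e.toMonoidHom) e.injective
  let P' : Sylow q ↥(MulAction.toPermHom K X).range :=
    P.mapSurjective (f := e.toMonoidHom) e.surjective
  have heven' : Even (Nat.card ↥(Subgroup.normalizer
      ((P' : Subgroup ↥(MulAction.toPermHom K X).range) : Set ↥(MulAction.toPermHom K X).range))) := by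
    have h1 : (P' : Subgroup ↥(MulAction.toPermHom K X).range) =
        (P : Subgroup K).map e.toMonoidHom := rfl
    rw [h1, card_normalizer_map_equiv]
    exact heven
  have h3 := Cfsg.Agent.S0676.result hX (MulAction.toPermHom K X).range hins' P' heven'
  -- transport 3-transitivity back along `K → range`
  refine ⟨fun x y => ?_⟩
  obtain ⟨⟨h, ⟨g, rfl⟩⟩, hg⟩ := h3.exists_smul_eq x y
  refine ⟨g, ?_⟩
  rw [← hg]
  rfl

end Cfsg.Agent.Lib.Helper14.TW676
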