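import Mathlib
import Cfsg.Agent.Lib.Helper8.TW.Defs
import Cfsg.Agent.Lib.Helper6.TWT1
import Cfsg.Agent.Lib.Helper26.TWFibA
import Cfsg.Agent.Lib.Helper22.TWExtBasic
import Cfsg.Agent.Lib.Helper22.TWExtMore
import Cfsg.Agent.Lib.Helper22.TWQK
import Cfsg.Agent.Lib.Helper14.TWIIDefs

/-!
S5672 Stage II (Case B), leaf R7 `theta_scalar_of_G` (exact signature of `notes/S5672_II_leaves.lean`):
an element `1 + θ ⊗ y ηᵀ` of `G` (`η ≠ 0`, `η y = 0`) has scalar `θ`.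
-/

set_option autoImplicit false
set_option linter.unusedSectionVars false
set_option linter.unusedVariables false

namespace Cfsg.Agent.Lib.Helper14.TWUIILeaf
open Matrix Cfsg.Geo Cfsg.Agent.Lib.Helper18.AschA89 Cfsg.Agent.Lib.Helper8.TW
  Cfsg.Agent.Lib.Helper14.TWII
open Cfsg.Agent.Lib.Helper22.TWLeaf Cfsg.Agent.Lib.Helper22.TWQLeaf

variable {F : Type*} [Field F] [Fintype F] {t k : ℕ}

lemma tens_zero_right14 (i : Fin (t + 1)) (b : Idx t k → F) : tens i b (0 : Fin k → F) = 0 := by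
  funext x
  simp only [tens, Pi.zero_apply, mul_zero]

theorem theta_scalar_of_G (hk : 2 ≤ k) (i : Fin (t + 1)) (y η : Fin k → F) (hy0 : y ≠ 0) (hη0 : η ≠ 0)
    (hηy : η ⬝ᵥ y = 0) (θ : Matrix (Idx t k) (Idx t k) F) (u : GL (Idx (t + 1) k) F)
    (hu : u ∈ Gstd (t + 1) k F)
    (hval : (u : Matrix (Idx (t + 1) k) (Idx (t + 1) k) F) = 1 + ext i θ * rootN i y η) :
    ∃ c : F, θ = c • (1 : Matrix (Idx t k) (Idx t k) F) := by
  classical
  have hcomm : ext i θ * rootN i y η = rootN i y η * ext i θ := ext_comm_slot i θ _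
  have h1 : ∀ v ∈ Wf i y, mv u v = v := by
    intro v hv
    obtain ⟨b, rfl⟩ := (mem_Wf_iff_tens i y hy0 v).1 hv
    unfold mv
    rw [hval, Matrix.add_mulVec, Matrix.one_mulVec, ← Matrix.mulVec_mulVec]
    unfold rootN
    rw [slot_mulVec_tens, Cfsg.Agent.Lib.Helper6.TWLeaf.vecMulVec_mulVec', hηy, zero_smul,
      tens_zero_right14, Matrix.mulVec_zero, add_zero]
  have h2 : ∀ v, mv u v - v ∈ Wf i y := by
    intro v
    unfold mv
    rw [hval, Matrix.add_mulVec, Matrix.one_mulVec, add_sub_cancel_left, hcomm, ← Matrix.mulVec_mulVec]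
    intro x
    rw [Cfsg.Agent.Lib.Helper26.TWLeaf.rootN_mulVec_slice26]
    exact Submodule.smul_mem _ _ (Submodule.mem_span_singleton_self y)
  obtain ⟨ξ, hξy, hK⟩ := K_lemma hk u hu i y hy0 h1 h2
  have hE : ext i θ * rootN i y η = rootN i y ξ := by
    have := hval.symm.trans hK
    exact add_left_cancel this
  obtain ⟨a, ha⟩ := Cfsg.Agent.Lib.Helper26.TWLeaf.exists_dot_one26 η hη0
  obtain ⟨ψ, hψ⟩ := Cfsg.Agent.Lib.Helper26.TWLeaf.exists_dot_one26 y hy0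
  rw [dotProduct_comm] at hψ
  refine ⟨ξ ⬝ᵥ a, ?_⟩
  apply eq_smul_one_of_mulVec
  intro b
  have e : (ext i θ * rootN i y η) *ᵥ tens i b a = rootN i y ξ *ᵥ tens i b a := by rw [hE]
  rw [← Matrix.mulVec_mulVec] at e
  unfold rootN at e
  rw [slot_mulVec_tens, slot_mulVec_tens, Cfsg.Agent.Lib.Helper6.TWLeaf.vecMulVec_mulVec',
    Cfsg.Agent.Lib.Helper6.TWLeaf.vecMulVec_mulVec', ha, one_smul, ext_mulVec_tens] at e
  have e2 := congrArg (ctr i ψ) e
  rw [ctr_tens, ctr_tens, dotProduct_smul, hψ, smul_eq_mul, mul_one, one_smul] at e2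
  exact e2

end Cfsg.Agent.Lib.Helper14.TWUIILeaf
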