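import Mathlib

set_option autoImplicit false

/-!
An Iwasawa structure from the centres of the point stabilisers: if these centres generate the
group, the action is quasiprimitive and faithful and the group is perfect, the group is simple.
-/

namespace Cfsg.Agent.Lib.Helper14.IwaCenter

open MulAction
open scoped Pointwise

variable {M α : Type*} [Group M] [MulAction M α]

/-- the centre of the stabiliser of a point, as a subgroup of the group -/
def centerStab (x : α) : Subgroup M where
  carrier := {z | z • x = x ∧ ∀ k : M, k • x = x → k * z = z * k}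
  one_mem' := ⟨one_smul _ _, fun k _ => by rw [mul_one, one_mul]⟩
  mul_mem' := by
    rintro a b ⟨ha, ha'⟩ ⟨hb, hb'⟩
    refine ⟨by rw [mul_smul, hb, ha], fun k hk => ?_⟩
    rw [← mul_assoc, ha' k hk, mul_assoc, hb' k hk, mul_assoc]
  inv_mem' := by
    rintro a ⟨ha, ha'⟩
    refine ⟨by rw [inv_smul_eq_iff, ha], fun k hk => ?_⟩
    have := ha' k hk
    calc k * a⁻¹ = a⁻¹ * (a * k) * a⁻¹ := by group
      _ = a⁻¹ * (k * a) * a⁻¹ := by rw [this]
      _ = a⁻¹ * k := by group

theorem mem_centerStab {x : α} {z : M} :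
    z ∈ centerStab x ↔ z • x = x ∧ ∀ k : M, k • x = x → k * z = z * k := Iff.rfl

theorem centerStab_smul (g : M) (x : α) :
    centerStab (g • x) = MulAut.conj g • (centerStab x : Subgroup M) := by
  ext z
  rw [Subgroup.mem_pointwise_smul_iff_inv_smul_mem, mem_centerStab, mem_centerStab]
  have e : (MulAut.conj g)⁻¹ • z = g⁻¹ * z * g := by
    rw [← map_inv, MulAut.smul_def, MulAut.conj_apply, inv_inv]
  rw [e]
  constructor
  · rintro ⟨h1, h2⟩
    refine ⟨?_, fun k hk => ?_⟩
    · rw [mul_smul, mul_smul, h1, inv_smul_smul]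
    · have hk' : (g * k * g⁻¹) • (g • x) = g • x := by
        rw [mul_smul, mul_smul, inv_smul_smul, hk]
      have := h2 _ hk'
      calc k * (g⁻¹ * z * g) = g⁻¹ * ((g * k * g⁻¹) * z) * g := by group
        _ = g⁻¹ * (z * (g * k * g⁻¹)) * g := by rw [this]
        _ = g⁻¹ * z * g * k := by group
  · rintro ⟨h1, h2⟩
    refine ⟨?_, fun k hk => ?_⟩
    · have : z • g • x = g • ((g⁻¹ * z * g) • x) := by
        rw [mul_smul, mul_smul, smul_inv_smul]
      rw [this, h1]
    · have hk' : (g⁻¹ * k * g) • x = x := by
        rw [mul_smul, mul_smul, hk, inv_smul_smul]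
      have := h2 _ hk'
      calc k * z = g * ((g⁻¹ * k * g) * (g⁻¹ * z * g)) * g⁻¹ := by group
        _ = g * ((g⁻¹ * z * g) * (g⁻¹ * k * g)) * g⁻¹ := by rw [this]
        _ = z * k := by group

/-- the Iwasawa structure given by the centres of the stabilisers -/
def iwasawa (hgen : iSup (fun x : α => (centerStab x : Subgroup M)) = ⊤) :
    IwasawaStructure M α where
  T := centerStab
  is_comm := by
    intro x
    refine ⟨⟨fun a b => ?_⟩⟩
    apply Subtype.ext
    exact (a.2.2 b.1 b.2.1).symm
  is_conj := centerStab_smul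
  is_generator := hgen

/-- the simplicity criterion -/
theorem isSimpleGroup [Nontrivial M] (hperf : commutator M = ⊤) [IsQuasiPreprimitive M α]
    [FaithfulSMul M α] (hgen : iSup (fun x : α => (centerStab x : Subgroup M)) = ⊤) :
    IsSimpleGroup M :=
  IwasawaStructure.isSimpleGroup hperf (iwasawa hgen) inferInstance

end Cfsg.Agent.Lib.Helper14.IwaCenter
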