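import Mathlib

set_option autoImplicit false

namespace Cfsg.Agent.Lib.Helper14

/-- A `p`-group acting linearly on a nontrivial finite vector space over a field of
characteristic `p` fixes a nonzero vector. -/
theorem exists_ne_zero_fixed_of_isPGroup {F : Type*} [Field F] (p : ℕ) [Fact p.Prime] [CharP F p]
    {G : Type*} [Group G] (hG : IsPGroup p G) {V : Type*} [AddCommGroup V] [Module F V]
    [Finite V] [Nontrivial V] (ρ : Representation F G V) :
    ∃ v : V, v ≠ 0 ∧ ∀ g : G, ρ g v = v := by
  classical
  letI : MulAction G V := MulAction.compHom V (ρ : G →* Module.End F V)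
  have hsmul : ∀ (g : G) (v : V), g • v = ρ g v := fun g v => rfl
  have hp : p ∣ Nat.card V := by
    obtain ⟨v, hv⟩ := exists_ne (0 : V)
    have h1 : p • v = 0 := by
      rw [← Nat.cast_smul_eq_nsmul F p v, CharP.cast_eq_zero F p, zero_smul]
    have h2 : addOrderOf v ∣ p := addOrderOf_dvd_of_nsmul_eq_zero h1
    have h3 : addOrderOf v ≠ 1 := by
      rw [Ne, AddMonoid.addOrderOf_eq_one_iff]
      exact hv
    have h4 : addOrderOf v = p := by
      rcases (Nat.dvd_prime (Fact.out : p.Prime)).mp h2 with h | h
      · exact absurd h h3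
      · exact h
    rw [← h4]
    exact addOrderOf_dvd_natCard v
  have h0 : (0 : V) ∈ MulAction.fixedPoints G V := by
    intro g
    rw [hsmul]
    simp
  obtain ⟨b, hb, hne⟩ := hG.exists_fixed_point_of_prime_dvd_card_of_fixed_point V hp h0
  exact ⟨b, hne.symm, fun g => by rw [← hsmul]; exact hb g⟩

end Cfsg.Agent.Lib.Helper14
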