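/-
helper14: S2524 leaf (F2) in `_of` form over (F1): the elementary transvections of the Levi factor act trivially on
the zero weight space.  `wt 0 ≤ Ysp`, (F1) gives `LvG (1 + c E_{0j'})` trivial on `Ysp`, and
`(1 + c E_{ij}) P = P (1 + c E_{σ i, σ j})` for the permutation matrix `P` of `σ = (0 i)`; `LvG P` preserves `wt 0`.
-/
import Mathlib
import Cfsg.Agent.Lib.Helper10.WGDefs
import Cfsg.Agent.Lib.Helper29.WGLVH
import Cfsg.Agent.Lib.Helper23.WGLVW

set_option autoImplicit false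

namespace Cfsg.Agent.Lib.Helper14.WGF2

open Matrix Cfsg.Agent.Lib.Helper11.LS Cfsg.Agent.Lib.Helper10.WG

universe u

variable {F : Type*} [Field F]

section mat

variable {n : ℕ}

theorem tvG_val (i j : Fin n) (hij : i ≠ j) (c : F) :
    ((tvG i j hij c : GL (Fin n) F) : Matrix (Fin n) (Fin n) F) = transvection i j c := rfl

theorem pmG_val (σ : Equiv.Perm (Fin n)) :
    ((pmG σ : GL (Fin n) F) : Matrix (Fin n) (Fin n) F) = σ.permMatrix F := rfl

theorem single_mul_permMatrix (σ : Equiv.Perm (Fin n)) (i j : Fin n) (c : F) :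
    single i j c * σ.permMatrix F = σ.permMatrix F * single (σ i) (σ j) c := by
  unfold Equiv.Perm.permMatrix
  rw [PEquiv.toMatrix_toPEquiv_mul, PEquiv.mul_toMatrix_toPEquiv]
  ext a b
  simp only [submatrix_apply, id_eq, single_apply]
  have h1 : (σ i = σ a) ↔ (i = a) := σ.injective.eq_iff
  have h2 : (j = σ.symm b) ↔ (σ j = b) := by
    constructor
    · intro h; rw [h, Equiv.apply_symm_apply]
    · intro h; rw [← h, Equiv.symm_apply_apply]
  simp only [h1, h2]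

/-- `(1 + c E_{ij}) P_σ = P_σ (1 + c E_{σ i, σ j})` -/
theorem tvG_mul_pmG (σ : Equiv.Perm (Fin n)) (i j : Fin n) (hij : i ≠ j) (c : F)
    (i' j' : Fin n) (hi' : σ i = i') (hj' : σ j = j') (h : i' ≠ j') :
    (tvG i j hij c : GL (Fin n) F) * pmG σ = pmG σ * tvG i' j' h c := by
  subst hi' hj'
  apply Units.ext
  rw [Units.val_mul, Units.val_mul, tvG_val, tvG_val, pmG_val]
  unfold transvection
  rw [Matrix.add_mul, Matrix.mul_add, Matrix.one_mul, Matrix.mul_one, single_mul_permMatrix]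

end mat

section main

variable [Fintype F] [DecidableEq F] {k : ℕ} {V : Type u} [AddCommGroup V] [Module ℂ V]

theorem wt_zero_le_Ysp (ψ : AddChar F ℂ) (ρ : Representation ℂ (SpG F (k + 1)) V) :
    wt ψ ρ 0 ≤ Ysp ρ := by
  intro v hv c
  have := hv (single 0 0 c) (by simp)
  rw [Matrix.zero_mul, trace_zero, AddChar.map_zero_eq_one, one_smul] at this
  exact this

theorem LvG_mem_wt_zero (ψ : AddChar F ℂ) (ρ : Representation ℂ (SpG F (k + 1)) V)
    (g : GL (Fin (k + 1)) F) (v : V) (hv : v ∈ wt ψ ρ 0) : ρ (LvG g) v ∈ wt ψ ρ 0 := by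
  have := Cfsg.Agent.Lib.Helper23.WGLVW.LvG_mem_wt ψ ρ g 0 v hv
  rwa [Matrix.mul_zero, Matrix.zero_mul] at this

theorem LvG_inv_apply (ρ : Representation ℂ (SpG F (k + 1)) V) (g : GL (Fin (k + 1)) F) (v : V) :
    ρ (LvG g) (ρ (LvG g⁻¹) v) = v := by
  rw [← Module.End.mul_apply, ← map_mul, ← Cfsg.Agent.Lib.Helper29.WGLVH.LvG_mul, mul_inv_cancel,
    Cfsg.Agent.Lib.Helper29.WGLVH.LvG_one, map_one]
  rfl

/-- (F2) in `_of` form over (F1) -/
theorem tv_fixed_wt_zero_of (ψ : AddChar F ℂ) (ρ : Representation ℂ (SpG F (k + 1)) V)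
    (hF1 : ∀ v ∈ Ysp ρ, ∀ (j : Fin k) (c : F), ρ (uP j c) v = v)
    (v : V) (hv : v ∈ wt ψ ρ 0)
    (i j : Fin (k + 1)) (hij : i ≠ j) (c : F) : ρ (LvG (tvG i j hij c)) v = v := by
  set σ : Equiv.Perm (Fin (k + 1)) := Equiv.swap 0 i with hσ
  have hσi : σ i = 0 := Equiv.swap_apply_right 0 i
  have hσj : σ j ≠ 0 := by
    intro h
    apply hij
    apply σ.injective
    rw [hσi, h]
  obtain ⟨j', hj'⟩ := Fin.exists_succ_eq.2 hσj
  have key := tvG_mul_pmG (F := F) σ i j hij c 0 j'.succ hσi hj'.symm (Fin.succ_ne_zero j').symm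
  have key' : (tvG i j hij c : GL (Fin (k + 1)) F) =
      pmG σ * tvG 0 j'.succ (Fin.succ_ne_zero j').symm c * (pmG σ)⁻¹ := by
    rw [← key, mul_inv_cancel_right]
  rw [key', Cfsg.Agent.Lib.Helper29.WGLVH.LvG_mul, Cfsg.Agent.Lib.Helper29.WGLVH.LvG_mul, map_mul,
    map_mul]
  show ρ (LvG (pmG σ)) (ρ (LvG (tvG 0 j'.succ (Fin.succ_ne_zero j').symm c))
    (ρ (LvG (pmG σ)⁻¹) v)) = v
  have hw : ρ (LvG (pmG σ)⁻¹) v ∈ wt ψ ρ 0 := LvG_mem_wt_zero ψ ρ _ v hv
  have := hF1 _ (wt_zero_le_Ysp ψ ρ hw) j' c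
  unfold uP at this
  rw [this]
  exact LvG_inv_apply ρ (pmG σ) v

end main

end Cfsg.Agent.Lib.Helper14.WGF2
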