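/-
helper14: S2524 leaf (A0) in `_of` form over (F2): a map `V'_0 → V_0` commuting with `T_1` and with the Levi factor of
`C` commutes with the whole Levi factor.  The elements `g` of `GL_{k+1}` with which `b` commutes on `V'_0` form a
subgroup (the Levi factor preserves `wt 0`); it contains the transvections ((F2): trivial on both sides) and the
diagonal matrices `dgG d = t1G (d 0) * upG (dgG (d ∘ succ))`, hence everything (`closure_tv_dg`).
-/
import Mathlib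
import Cfsg.Agent.Lib.Helper10.WGDefs
import Cfsg.Agent.Lib.Helper29.WGLVH
import Cfsg.Agent.Lib.Helper23.WGLVW
import Cfsg.Agent.Lib.Helper24.WGPIV
import Cfsg.Agent.Lib.Helper14.WGF2

set_option autoImplicit false

namespace Cfsg.Agent.Lib.Helper14.WGA0

open Matrix Cfsg.Agent.Lib.Helper11.LS Cfsg.Agent.Lib.Helper10.WG Cfsg.Agent.Lib.Helper14.WGF2

universe u

variable {F : Type*} [Field F]

theorem dgG_eq {k : ℕ} (d : Fin (k + 1) → Fˣ) :
    (dgG d : GL (Fin (k + 1)) F) = t1G (d 0) * upG (dgG fun i => d i.succ) := by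
  apply Units.ext
  rw [Units.val_mul]
  show diagonal (fun i => (d i : F)) =
    diagonal (fun i => ((Fin.cons (d 0) (fun _ => 1) : Fin (k + 1) → Fˣ) i : F)) *
      bd 1 (diagonal fun i => (d i.succ : F))
  ext a b
  rw [Matrix.diagonal_mul]
  refine Fin.cases ?_ (fun a' => ?_) a <;> refine Fin.cases ?_ (fun b' => ?_) b
  · simp
  · simp [diagonal_apply, (Fin.succ_ne_zero _).symm]
  · simp [diagonal_apply, Fin.succ_ne_zero]
  · simp [diagonal_apply]

variable [Fintype F] [DecidableEq F] {k : ℕ} {V V' : Type u} [AddCommGroup V] [Module ℂ V]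
  [AddCommGroup V'] [Module ℂ V']

/-- the elements of the Levi factor with which `b` commutes on the zero weight space -/
def commSub (ψ : AddChar F ℂ) (ρ' : Representation ℂ (SpG F (k + 1)) V')
    (ρ : Representation ℂ (SpG F (k + 1)) V) (b : V' →ₗ[ℂ] V) : Subgroup (GL (Fin (k + 1)) F) where
  carrier := {g | ∀ v ∈ wt ψ ρ' 0, b (ρ' (LvG g) v) = ρ (LvG g) (b v)}
  one_mem' := by
    intro v _
    rw [Cfsg.Agent.Lib.Helper29.WGLVH.LvG_one, map_one, map_one]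
    rfl
  mul_mem' := by
    intro g h hg hh v hv
    rw [Cfsg.Agent.Lib.Helper29.WGLVH.LvG_mul, map_mul, map_mul]
    show b (ρ' (LvG g) (ρ' (LvG h) v)) = ρ (LvG g) (ρ (LvG h) (b v))
    rw [hg _ (LvG_mem_wt_zero ψ ρ' h v hv), hh v hv]
  inv_mem' := by
    intro g hg v hv
    have hw := LvG_mem_wt_zero ψ ρ' g⁻¹ v hv
    have h1 := hg _ hw
    rw [LvG_inv_apply] at h1
    rw [h1]
    have := LvG_inv_apply ρ g⁻¹ (b (ρ' (LvG g⁻¹) v))
    rw [inv_inv] at this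
    exact this.symm

/-- (A0) in `_of` form over (F2) -/
theorem isStabMap_zero_of (ψ : AddChar F ℂ)
    (ρ' : Representation ℂ (SpG F (k + 1)) V') (ρ : Representation ℂ (SpG F (k + 1)) V)
    (hF2' : ∀ v ∈ wt ψ ρ' 0, ∀ (i j : Fin (k + 1)) (hij : i ≠ j) (c : F),
      ρ' (LvG (tvG i j hij c)) v = v)
    (hF2 : ∀ v ∈ wt ψ ρ 0, ∀ (i j : Fin (k + 1)) (hij : i ≠ j) (c : F),
      ρ (LvG (tvG i j hij c)) v = v)
    (b : V' →ₗ[ℂ] V)
    (hb0 : ∀ v ∈ wt ψ ρ' 0, b v ∈ wt ψ ρ 0)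
    (hbT : ∀ (t : Fˣ), ∀ v ∈ wt ψ ρ' 0, b (ρ' (LvG (t1G t)) v) = ρ (LvG (t1G t)) (b v))
    (hbL : ∀ (h : GL (Fin k) F), ∀ v ∈ wt ψ ρ' 0, b (ρ' (LvG (upG h)) v) = ρ (LvG (upG h)) (b v)) :
    IsStabMap ψ ρ' ρ 0 b := by
  refine ⟨hb0, fun g _ v hv => ?_⟩
  have htop : commSub ψ ρ' ρ b = ⊤ := by
    rw [eq_top_iff, ← Cfsg.Agent.Lib.Helper24.WGPIV.closure_tv_dg (F := F) (k + 1),
      Subgroup.closure_le]
    rintro g (⟨i, j, hij, c, rfl⟩ | ⟨d, rfl⟩)
    · intro v hv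
      rw [hF2' v hv i j hij c, hF2 (b v) (hb0 v hv) i j hij c]
    · rw [dgG_eq d]
      exact (commSub ψ ρ' ρ b).mul_mem (fun v hv => hbT (d 0) v hv) (fun v hv => hbL _ v hv)
  have hg : g ∈ commSub ψ ρ' ρ b := by rw [htop]; trivial
  exact hg v hv

end Cfsg.Agent.Lib.Helper14.WGA0
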