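/-
helper14: S2524 leaves (F2) `tv_fixed_wt_zero` and (A0) `isStabMap_zero`, exact names
(= `WGF2` / `WGA0` `_of` forms + helper23's (F1) `Ysp_fixed`).
-/
import Mathlib
import Cfsg.Agent.Lib.Helper10.WGDefs
import Cfsg.Agent.Lib.Helper14.WGF2
import Cfsg.Agent.Lib.Helper14.WGA0
import Cfsg.Agent.Lib.Helper23.WGF1

set_option autoImplicit false

namespace Cfsg.Agent.Lib.Helper14.WGF2X

open Matrix Cfsg.Agent.Lib.Helper11.LS Cfsg.Agent.Lib.Helper10.WG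

universe u

variable {F : Type*} [Field F] [Fintype F] [DecidableEq F]

variable {k : ℕ} {V V' : Type u} [AddCommGroup V] [Module ℂ V] [AddCommGroup V'] [Module ℂ V']

/-- (F2) the elementary transvections of the Levi factor act trivially on the zero weight space
(`wt 0 ≤ Ysp`, (F1), and conjugation by permutation matrices, which preserve `wt 0`). -/
theorem tv_fixed_wt_zero (h2 : (2 : F) ≠ 0) (ψ : AddChar F ℂ) (hψ : ψ.IsPrimitive)
    (ρ : Representation ℂ (SpG F (k + 1)) V) (hW : IsW ψ ρ) (v : V) (hv : v ∈ wt ψ ρ 0)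
    (i j : Fin (k + 1)) (hij : i ≠ j) (c : F) : ρ (LvG (tvG i j hij c)) v = v :=
  Cfsg.Agent.Lib.Helper14.WGF2.tv_fixed_wt_zero_of ψ ρ
    (fun v hv => (Cfsg.Agent.Lib.Helper23.WGF1.Ysp_fixed h2 ψ hψ ρ hW v hv).2) v hv i j hij c

/-- (A0) a map `V'_0 -> V_0` commuting with `T_1` and with the Levi factor of `C` commutes with the whole
Levi factor ((F2): the transvections act trivially on both sides; `closure_tv_dg`;
`dgG d = t1G (d 0) * upG (dgG (d ∘ succ))`). -/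
theorem isStabMap_zero (h2 : (2 : F) ≠ 0) (ψ : AddChar F ℂ) (hψ : ψ.IsPrimitive)
    (ρ' : Representation ℂ (SpG F (k + 1)) V') (ρ : Representation ℂ (SpG F (k + 1)) V)
    (hW' : IsW ψ ρ') (hW : IsW ψ ρ) (b : V' →ₗ[ℂ] V)
    (hb0 : ∀ v ∈ wt ψ ρ' 0, b v ∈ wt ψ ρ 0)
    (hbT : ∀ (t : Fˣ), ∀ v ∈ wt ψ ρ' 0, b (ρ' (LvG (t1G t)) v) = ρ (LvG (t1G t)) (b v))
    (hbL : ∀ (h : GL (Fin k) F), ∀ v ∈ wt ψ ρ' 0, b (ρ' (LvG (upG h)) v) = ρ (LvG (upG h)) (b v)) :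
    IsStabMap ψ ρ' ρ 0 b :=
  Cfsg.Agent.Lib.Helper14.WGA0.isStabMap_zero_of ψ ρ' ρ
    (fun v hv i j hij c => tv_fixed_wt_zero h2 ψ hψ ρ' hW' v hv i j hij c)
    (fun v hv i j hij c => tv_fixed_wt_zero h2 ψ hψ ρ hW v hv i j hij c) b hb0 hbT hbL

end Cfsg.Agent.Lib.Helper14.WGF2X
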