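/-
helper14: S2524 leaf (F6) in `_of` form: the weights of `Q' = iota (Siegel radical)` on `Ysp = C_V(Z)`, and `Ysp` is a
(W)-module for `Sp_{2k}`.  Hypotheses = the (WD) leaf statements `wtProj_mem`, `sum_wtProj`, `wtProj_comm` for `ρ`.
-/
import Mathlib
import Cfsg.Agent.Lib.Helper10.WGDefs

set_option autoImplicit false

namespace Cfsg.Agent.Lib.Helper14.WGF6

open Matrix Cfsg.Agent.Lib.Helper11.LS Cfsg.Agent.Lib.Helper10.WG

universe u

variable {F : Type*} [Field F]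

section mat

variable {k : ℕ}

theorem bd_zero (k : ℕ) : bd (0 : F) (0 : Matrix (Fin k) (Fin k) F) = 0 := by
  ext i j
  refine Fin.cases ?_ (fun i' => ?_) i <;> refine Fin.cases ?_ (fun j' => ?_) j <;> simp

theorem iotaMat_Xs (S : Matrix (Fin k) (Fin k) F) :
    iotaMat (fromBlocks (1 : Matrix (Fin k) (Fin k) F) S 0 1) = fromBlocks 1 (bd 0 S) 0 1 := by
  unfold iotaMat
  rw [toBlocks_fromBlocks₁₁, toBlocks_fromBlocks₁₂, toBlocks_fromBlocks₂₁, toBlocks_fromBlocks₂₂, bd_one,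
    bd_zero]

theorem iota_Xs (ι : SpG F k →* SpG F (k + 1)) (hι : IsIota ι) (S : Matrix (Fin k) (Fin k) F)
    (hS : Sᵀ = S) : ι (Xs S hS) = Xs (bd 0 S) (by rw [bd_transpose, hS]) := by
  apply Subtype.ext
  rw [hι]
  exact iotaMat_Xs S

theorem trace_bd (c : F) (A : Matrix (Fin k) (Fin k) F) : trace (bd c A) = c + trace A := by
  unfold trace
  rw [Fin.sum_univ_succ]
  simp

theorem trace_mul_bd (B : Matrix (Fin (k + 1)) (Fin (k + 1)) F) (S' : Matrix (Fin k) (Fin k) F) :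
    trace (B * bd 0 S') = trace (B.submatrix Fin.succ Fin.succ * S') := by
  unfold trace
  rw [Fin.sum_univ_succ]
  simp only [diag_apply, Matrix.mul_apply, Fin.sum_univ_succ, bd_zero_zero, bd_succ_zero, bd_zero_succ,
    bd_succ_succ, mul_zero, zero_add, Finset.sum_const_zero, submatrix_apply]

theorem trace_mul_single_zero (B : Matrix (Fin (k + 1)) (Fin (k + 1)) F) (c : F) :
    trace (B * single 0 0 c) = B 0 0 * c := by
  unfold trace
  rw [Finset.sum_eq_single 0]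
  · simp [Matrix.mul_apply, single_apply, Finset.sum_ite_eq']
  · intro i _ hi
    simp [Matrix.mul_apply, single_apply, hi, Ne.symm hi]
  · intro h
    exact absurd (Finset.mem_univ _) h

theorem Xs_comm {n : ℕ} (S T : Matrix (Fin n) (Fin n) F) (hS : Sᵀ = S) (hT : Tᵀ = T) :
    (Xs S hS : SpG F n) * Xs T hT = Xs T hT * Xs S hS := by
  apply Subtype.ext
  show fromBlocks 1 S 0 1 * fromBlocks 1 T 0 1 = fromBlocks 1 T 0 1 * fromBlocks 1 S 0 1
  rw [fromBlocks_multiply, fromBlocks_multiply]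
  simp [add_comm]

/-- the symmetric matrix `t (E_ij + E_ji)` -/
theorem trace_mul_sym (C : Matrix (Fin k) (Fin k) F) (hC : Cᵀ = C) (i j : Fin k) (t : F) :
    trace (C * (single i j t + single j i t)) = (2 * C i j) * t := by
  rw [Matrix.mul_add, trace_add, trace_mul_comm, trace_single_mul, trace_mul_comm C, trace_single_mul]
  have : C j i = C i j := by
    conv_lhs => rw [← hC]
    rfl
  rw [this]
  ring

end mat

section prim

variable [Fintype F]

theorem exists_ne_one_of_primitive (ψ : AddChar F ℂ) (hψ : ψ.IsPrimitive) (l : F) (hl : l ≠ 0) :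
    ∃ c : F, ψ (l * c) ≠ 1 := by
  have h := hψ hl
  rw [AddChar.ne_one_iff] at h
  obtain ⟨c, hc⟩ := h
  exact ⟨c, by rwa [AddChar.mulShift_apply] at hc⟩

/-- a symmetric matrix is determined by the character `S ↦ ψ (tr (C S))` of the symmetric matrices -/
theorem eq_zero_of_forall_sym {k : ℕ} (h2 : (2 : F) ≠ 0) (ψ : AddChar F ℂ) (hψ : ψ.IsPrimitive)
    (C : Matrix (Fin k) (Fin k) F) (hC : Cᵀ = C)
    (h : ∀ S : Matrix (Fin k) (Fin k) F, Sᵀ = S → ψ (trace (C * S)) = 1) : C = 0 := by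
  ext i j
  by_contra hij
  have hne : 2 * C i j ≠ 0 := mul_ne_zero h2 hij
  obtain ⟨t, ht⟩ := exists_ne_one_of_primitive ψ hψ _ hne
  apply ht
  rw [← trace_mul_sym C hC i j t]
  apply h
  rw [transpose_add, transpose_single, transpose_single]
  exact add_comm _ _

end prim

section main

variable [Fintype F] [DecidableEq F] {k : ℕ} {V : Type u} [AddCommGroup V] [Module ℂ V]

/-- the (WD) leaf statements for one representation -/
structure WDHyp (ψ : AddChar F ℂ) (ρ : Representation ℂ (SpG F (k + 1)) V) : Prop where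
  mem : ∀ (B : Matrix (Fin (k + 1)) (Fin (k + 1)) F) (v : V), wtProj ψ ρ B v ∈ wt ψ ρ B
  sum : ∀ v : V, ∑ B : SymM F (k + 1), wtProj ψ ρ B.1 v = v
  comm : ∀ (φ : V →ₗ[ℂ] V),
    (∀ (S : Matrix (Fin (k + 1)) (Fin (k + 1)) F) (hS : Sᵀ = S), Comm ρ ρ φ (Xs S hS)) →
    ∀ (B : Matrix (Fin (k + 1)) (Fin (k + 1)) F) (v : V), φ (wtProj ψ ρ B v) = wtProj ψ ρ B (φ v)

theorem comm_Xs (ρ : Representation ℂ (SpG F (k + 1)) V) (T : Matrix (Fin (k + 1)) (Fin (k + 1)) F)
    (hT : Tᵀ = T) (S : Matrix (Fin (k + 1)) (Fin (k + 1)) F) (hS : Sᵀ = S) :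
    Comm ρ ρ (ρ (Xs T hT)) (Xs S hS) := by
  intro v
  show ρ (Xs T hT) (ρ (Xs S hS) v) = ρ (Xs S hS) (ρ (Xs T hT) v)
  rw [← Module.End.mul_apply, ← Module.End.mul_apply, ← map_mul, ← map_mul, Xs_comm]

/-- a non-zero weight component of a vector of `Ysp` of `Q'`-weight `B'` has weight `bd 0 B'` -/
theorem weight_eq_of_component (h2 : (2 : F) ≠ 0) (ψ : AddChar F ℂ) (hψ : ψ.IsPrimitive)
    (ρ : Representation ℂ (SpG F (k + 1)) V) (hW : IsW ψ ρ) (hWD : WDHyp ψ ρ)
    (B' : Matrix (Fin k) (Fin k) F) (hB' : B'ᵀ = B') (y : V) (hy0 : y ∈ Ysp ρ)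
    (hy1 : ∀ (S' : Matrix (Fin k) (Fin k) F) (hS' : S'ᵀ = S'),
      ρ (Xs (bd 0 S') (by rw [bd_transpose, hS'])) y = ψ (trace (B' * S')) • y)
    (B : SymM F (k + 1)) (hne : wtProj ψ ρ B.1 y ≠ 0) : B.1 = bd 0 B' := by
  set yB := wtProj ψ ρ B.1 y with hyB
  have hmem : yB ∈ wt ψ ρ B.1 := hWD.mem B.1 y
  -- rank one
  have hbot : wt ψ ρ B.1 ≠ ⊥ := fun h => hne (by rw [h] at hmem; exact (Submodule.mem_bot ℂ).1 hmem)
  obtain ⟨a, v, hav⟩ := hW B.1 B.2 hbot
  -- `B 0 0 = 0`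
  have h00 : B.1 0 0 = 0 := by
    by_contra hl
    obtain ⟨c, hc⟩ := exists_ne_one_of_primitive ψ hψ _ hl
    have e1 : ρ (xZ c) yB = yB := by
      have := hWD.comm (ρ (xZ c)) (fun S hS => comm_Xs ρ _ _ S hS) B.1 y
      rw [hy0 c] at this
      exact this
    have e2 : ρ (xZ c) yB = ψ (B.1 0 0 * c) • yB := by
      have := hmem (single 0 0 c) (by simp)
      rw [trace_mul_single_zero] at this
      exact this
    rw [e1] at e2
    have e3 : (ψ (B.1 0 0 * c) - 1) • yB = 0 := by rw [sub_smul, one_smul, ← e2, sub_self]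
    rcases smul_eq_zero.1 e3 with h | h
    · exact hc (sub_eq_zero.1 h)
    · exact hne h
  -- the lower right block
  have h22 : B.1.submatrix Fin.succ Fin.succ = B' := by
    have hsym : (B.1.submatrix Fin.succ Fin.succ - B')ᵀ = B.1.submatrix Fin.succ Fin.succ - B' := by
      rw [transpose_sub, hB', transpose_submatrix, B.2]
    have := eq_zero_of_forall_sym h2 ψ hψ _ hsym (fun S' hS' => ?_)
    · exact sub_eq_zero.1 this
    have e1 : ρ (Xs (bd 0 S') (by rw [bd_transpose, hS'])) yB = ψ (trace (B' * S')) • yB := by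
      have := hWD.comm (ρ (Xs (bd 0 S') (by rw [bd_transpose, hS'])))
        (fun S hS => comm_Xs ρ _ _ S hS) B.1 y
      rw [hy1 S' hS', map_smul] at this
      exact this
    have e2 : ρ (Xs (bd 0 S') (by rw [bd_transpose, hS'])) yB =
        ψ (trace (B.1.submatrix Fin.succ Fin.succ * S')) • yB := by
      have := hmem (bd 0 S') (by rw [bd_transpose, hS'])
      rw [trace_mul_bd] at this
      exact this
    rw [e1] at e2
    have e3 : (ψ (trace (B' * S')) - ψ (trace (B.1.submatrix Fin.succ Fin.succ * S'))) • yB = 0 := by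
      rw [sub_smul, ← e2, sub_self]
    rcases smul_eq_zero.1 e3 with h | h
    · rw [Matrix.sub_mul, trace_sub, sub_eq_add_neg, AddChar.map_add_eq_mul, ← sub_eq_zero.1 h,
        ← AddChar.map_add_eq_mul, add_neg_cancel, AddChar.map_zero_eq_one]
    · exact absurd h hne
  -- first row and column
  have hav0 : a * v 0 = 0 := by
    have : B.1 0 0 = a * (v 0 * v 0) := by rw [hav]; simp [vecMulVec_apply]
    rw [h00] at this
    rcases mul_eq_zero.1 this.symm with h | h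
    · rw [h, zero_mul]
    · rcases mul_eq_zero.1 h with h | h <;> rw [h, mul_zero]
  ext i j
  refine Fin.cases ?_ (fun i' => ?_) i <;> refine Fin.cases ?_ (fun j' => ?_) j
  · rw [h00, bd_zero_zero]
  · rw [bd_zero_succ, hav]
    simp only [Matrix.smul_apply, vecMulVec_apply, smul_eq_mul]
    rw [← mul_assoc, hav0, zero_mul]
  · rw [bd_succ_zero, hav]
    simp only [Matrix.smul_apply, vecMulVec_apply, smul_eq_mul]
    rw [mul_comm (v i'.succ), ← mul_assoc, hav0, zero_mul]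
  · rw [bd_succ_succ, ← h22]
    rfl

/-- (F6) in `_of` form -/
theorem wt_resY_iff_of (h2 : (2 : F) ≠ 0) (ψ : AddChar F ℂ) (hψ : ψ.IsPrimitive)
    (ι : SpG F k →* SpG F (k + 1)) (hι : IsIota ι) (ρ : Representation ℂ (SpG F (k + 1)) V)
    (hW : IsW ψ ρ) (hWD : WDHyp ψ ρ) (hinv : ∀ g, ∀ v ∈ Ysp ρ, ρ (ι g) v ∈ Ysp ρ)
    (B' : Matrix (Fin k) (Fin k) F) (hB' : B'ᵀ = B') (y : ↥(Ysp ρ)) :
    y ∈ wt ψ (resY ρ ι hinv) B' ↔ (y : V) ∈ wt ψ ρ (bd 0 B') := by
  have hbdT : (bd (0 : F) B')ᵀ = bd 0 B' := by rw [bd_transpose, hB']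
  constructor
  · intro hy
    have hy1 : ∀ (S' : Matrix (Fin k) (Fin k) F) (hS' : S'ᵀ = S'),
        ρ (Xs (bd 0 S') (by rw [bd_transpose, hS'])) (y : V) = ψ (trace (B' * S')) • (y : V) := by
      intro S' hS'
      have := congrArg (Subtype.val) (hy S' hS')
      rw [resY_apply, iota_Xs ι hι S' hS'] at this
      exact this
    have key : ∀ B : SymM F (k + 1), B ≠ ⟨bd 0 B', hbdT⟩ → wtProj ψ ρ B.1 (y : V) = 0 := by
      intro B hB
      by_contra hne
      exact hB (Subtype.ext (weight_eq_of_component h2 ψ hψ ρ hW hWD B' hB' y y.2 hy1 B hne))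
    have hsum := hWD.sum (y : V)
    rw [Finset.sum_eq_single (⟨bd 0 B', hbdT⟩ : SymM F (k + 1)) (fun B _ hB => key B hB)
      (fun h => absurd (Finset.mem_univ _) h)] at hsum
    rw [← hsum]
    exact hWD.mem _ _
  · intro hy S' hS'
    apply Subtype.ext
    rw [resY_apply, iota_Xs ι hι S' hS']
    have := hy (bd 0 S') (by rw [bd_transpose, hS'])
    rw [bd_mul, trace_bd, mul_zero, zero_add] at this
    exact this

/-- (F6) `Ysp` is a (W)-module for `Sp_{2k}`, `_of` form -/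
theorem isW_resY_of (h2 : (2 : F) ≠ 0) (ψ : AddChar F ℂ) (hψ : ψ.IsPrimitive)
    (ι : SpG F k →* SpG F (k + 1)) (hι : IsIota ι) (ρ : Representation ℂ (SpG F (k + 1)) V)
    (hW : IsW ψ ρ) (hWD : WDHyp ψ ρ) (hinv : ∀ g, ∀ v ∈ Ysp ρ, ρ (ι g) v ∈ Ysp ρ) :
    IsW ψ (resY ρ ι hinv) := by
  intro B' hB' hbot
  obtain ⟨y, hy, hy0⟩ := (Submodule.ne_bot_iff _).1 hbot
  have h1 := (wt_resY_iff_of h2 ψ hψ ι hι ρ hW hWD hinv B' hB' y).1 hy
  have hbot' : wt ψ ρ (bd 0 B') ≠ ⊥ := by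
    intro h
    rw [h] at h1
    exact hy0 (Subtype.ext ((Submodule.mem_bot ℂ).1 h1))
  obtain ⟨a, v, hav⟩ := hW (bd 0 B') (by rw [bd_transpose, hB']) hbot'
  refine ⟨a, fun i => v i.succ, ?_⟩
  ext i j
  have := congrFun (congrFun hav i.succ) j.succ
  rw [bd_succ_succ] at this
  rw [this]
  simp [vecMulVec_apply]

end main

end Cfsg.Agent.Lib.Helper14.WGF6
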