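/-
helper14: S2524 leaf (F6), exact names: `wt_resY_iff`, `isW_resY` (= `WGF6` `_of` forms + helper17's (WD) leaves).
-/
import Mathlib
import Cfsg.Agent.Lib.Helper10.WGDefs
import Cfsg.Agent.Lib.Helper14.WGF6
import Cfsg.Agent.Lib.Helper17.WGWD

set_option autoImplicit false

namespace Cfsg.Agent.Lib.Helper14.WGF6X

open Matrix Cfsg.Agent.Lib.Helper11.LS Cfsg.Agent.Lib.Helper10.WG

universe u

variable {F : Type*} [Field F] [Fintype F] [DecidableEq F]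

variable {k : ℕ} {V V' : Type u} [AddCommGroup V] [Module ℂ V] [AddCommGroup V'] [Module ℂ V']

theorem wdHyp (h2 : (2 : F) ≠ 0) (ψ : AddChar F ℂ) (hψ : ψ.IsPrimitive)
    (ρ : Representation ℂ (SpG F (k + 1)) V) : Cfsg.Agent.Lib.Helper14.WGF6.WDHyp ψ ρ where
  mem := Cfsg.Agent.Lib.Helper17.WGWD.wtProj_mem ψ ρ
  sum := Cfsg.Agent.Lib.Helper17.WGWD.sum_wtProj h2 ψ hψ ρ
  comm := fun φ hφ B v => Cfsg.Agent.Lib.Helper17.WGWD.wtProj_comm ψ ρ ρ φ hφ B v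

/-- (F6) the weights of `Q' = iota (Siegel radical)` on `Ysp`: a vector of `Ysp` of `Q'`-weight `B'` has
`Q`-weight `bd 0 B'` (by (W): `B_00 = 0` and rank at most one force the first row of `B` to vanish). -/
theorem wt_resY_iff (h2 : (2 : F) ≠ 0) (ψ : AddChar F ℂ) (hψ : ψ.IsPrimitive)
    (ι : SpG F k →* SpG F (k + 1)) (hι : IsIota ι) (ρ : Representation ℂ (SpG F (k + 1)) V)
    (hW : IsW ψ ρ) (hinv : ∀ g, ∀ v ∈ Ysp ρ, ρ (ι g) v ∈ Ysp ρ)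
    (B' : Matrix (Fin k) (Fin k) F) (hB' : B'ᵀ = B') (y : ↥(Ysp ρ)) :
    y ∈ wt ψ (resY ρ ι hinv) B' ↔ (y : V) ∈ wt ψ ρ (bd 0 B') :=
  Cfsg.Agent.Lib.Helper14.WGF6.wt_resY_iff_of h2 ψ hψ ι hι ρ hW (wdHyp h2 ψ hψ ρ) hinv B' hB' y

/-- (F6) `Ysp` is a (W)-module for `Sp_{2k}`. -/
theorem isW_resY (h2 : (2 : F) ≠ 0) (ψ : AddChar F ℂ) (hψ : ψ.IsPrimitive)
    (ι : SpG F k →* SpG F (k + 1)) (hι : IsIota ι) (ρ : Representation ℂ (SpG F (k + 1)) V)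
    (hW : IsW ψ ρ) (hinv : ∀ g, ∀ v ∈ Ysp ρ, ρ (ι g) v ∈ Ysp ρ) :
    IsW ψ (resY ρ ι hinv) :=
  Cfsg.Agent.Lib.Helper14.WGF6.isW_resY_of h2 ψ hψ ι hι ρ hW (wdHyp h2 ψ hψ ρ) hinv

end Cfsg.Agent.Lib.Helper14.WGF6X
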