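import Mathlib
import Cfsg.Prelude.Def_Classical
import Cfsg.Agent.Lib.Helper11.Om2Defs
import Cfsg.Agent.Lib.Helper25.Siegel2
import Cfsg.Agent.Lib.Helper25.MaxTSPlus
import Cfsg.Agent.Lib.Helper14.OrthPlus

/-!
helper14: Om2INST (S2146 market, planner helper11): `Ω⁺_2m(2) = ↥(Cfsg.Omega F ⇑(plusQ m))`, `|F| = 2`, `m ≥ 4`,
acting on `Fin m ⊕ Fin m → F`, is an instance of helper11's abstract `Om2.Setting`; plus the numerical
hypotheses `hV`, `hs`.
-/

set_option autoImplicit false

namespace Cfsg.Agent.Lib.Helper14.Om2Leaf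

open Module QuadraticMap Matrix Cfsg.Agent.Lib.Helper11.Om2 Cfsg.Agent.Lib.Helper25.CD
  Cfsg.Agent.Lib.Helper25.Spin Cfsg.Agent.Lib.Helper25.Siegel Cfsg.Agent.Lib.Helper25.MaxTS

variable {F : Type*} [Field F] (m : ℕ)

/-- `Ω(plusQ m)` acts on column vectors (through `toOG`). -/
@[reducible] noncomputable def omAct (F : Type*) [Field F] (m : ℕ) :
    DistribMulAction ↥(Cfsg.Omega F ⇑(plusQ (F := F) m)) (Fin m ⊕ Fin m → F) where
  smul g x := toOG (plusQ (F := F) m) (g : ↥(Cfsg.isometryGroup F ⇑(plusQ (F := F) m))) x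
  one_smul x := by
    show toOG (plusQ (F := F) m) ((1 : ↥(Cfsg.Omega F ⇑(plusQ (F := F) m))) :
      ↥(Cfsg.isometryGroup F ⇑(plusQ (F := F) m))) x = x
    rw [Subgroup.coe_one, map_one]; rfl
  mul_smul g h x := by
    show toOG (plusQ (F := F) m) ((g * h : ↥(Cfsg.Omega F ⇑(plusQ (F := F) m))) :
      ↥(Cfsg.isometryGroup F ⇑(plusQ (F := F) m))) x =
      toOG (plusQ (F := F) m) g (toOG (plusQ (F := F) m) h x)
    rw [Subgroup.coe_mul, map_mul]; rfl
  smul_zero g := map_zero _
  smul_add g x y := map_add _ x y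

theorem omAct_smul (g : ↥(Cfsg.Omega F ⇑(plusQ (F := F) m))) (x : Fin m ⊕ Fin m → F) :
    @HSMul.hSMul _ _ _ (@instHSMul _ _ (omAct F m).toSMul) g x =
      toOG (plusQ (F := F) m) (g : ↥(Cfsg.isometryGroup F ⇑(plusQ (F := F) m))) x := rfl

/-- a field with two elements -/
theorem zero_or_one_of_card [Fintype F] (hF : Fintype.card F = 2) (a : F) : a = 0 ∨ a = 1 := by
  classical
  by_contra h
  push Not at h
  have h3 : ({0, 1, a} : Finset F).card = 3 := by
    rw [Finset.card_insert_of_notMem, Finset.card_insert_of_notMem, Finset.card_singleton]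
    · simp only [Finset.mem_singleton]; exact fun h1 => h.2 h1.symm
    · simp only [Finset.mem_insert, Finset.mem_singleton, not_or]
      exact ⟨zero_ne_one, fun h0 => h.1 h0.symm⟩
  have := Finset.card_le_univ ({0, 1, a} : Finset F)
  omega

theorem two_eq_zero_of_card [Fintype F] (hF : Fintype.card F = 2) : (2 : F) = 0 := by
  rcases zero_or_one_of_card hF (2 : F) with h | h
  · exact h
  · exfalso
    have : (1 : F) = 0 := by
      have h2 : (1 : F) + 1 = 1 := by rw [one_add_one_eq_two]; exact h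
      exact add_eq_right.mp h2
    exact one_ne_zero this

section formulas

variable {V : Type*} [AddCommGroup V] [Module F V] (Q : QuadraticForm F V)

theorem two_smul_eq_zero (h2 : (2 : F) = 0) (v : V) : (2 : F) • v = 0 := by rw [h2, zero_smul]

/-- the singular Siegel element has helper11's formula -/
theorem siegF_formula (h2 : (2 : F) = 0) {x w : V} (hw : Q w = 0) (z : V) :
    siegF Q x w 1 z = z + polar Q z w • x + polar Q z x • w + (Q w * polar Q z x) • x := by
  unfold siegF
  rw [hw, zero_mul, zero_smul, add_zero, one_smul, polar_comm Q x z, polar_comm Q w z]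
  have h := two_smul_eq_zero h2 (polar Q z w • x)
  linear_combination (norm := module) (-1 : F) • h

/-- the product of two reflections `r_w r_{w+x}` has helper11's formula when `Q w = 1` -/
theorem refl_pair_formula (h2 : (2 : F) = 0) {x w : V} (hx : Q x = 0) (hw : Q w = 1)
    (hxw : polar Q x w = 0) (z : V) :
    reflE Q w (reflE Q (w + x) z) =
      z + polar Q z w • x + polar Q z x • w + (Q w * polar Q z x) • x := by
  have hwx : Q (w + x) = 1 := by
    rw [QuadraticMap.map_add (⇑Q), polar_comm Q w x, hx, hw, hxw, add_zero, add_zero]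
  have hww : polar Q w w = 0 := by rw [polar_self'', h2, zero_mul]
  rw [reflE_apply, reflE_apply, hw, hwx, inv_one, one_mul, one_mul]
  simp only [polar_sub_right, polar_add_left, polar_add_right, polar_smul_right, smul_eq_mul,
    hww, polar_comm Q w x, hxw, polar_comm Q w z, polar_comm Q x z]
  have h1 := two_smul_eq_zero h2 (polar Q z w • w)
  have h3 := two_smul_eq_zero h2 (polar Q z w • x)
  have h4 := two_smul_eq_zero h2 (polar Q z x • w)
  have h5 := two_smul_eq_zero h2 (polar Q z x • x)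
  linear_combination (norm := module) (-1 : F) • h1 + (-1 : F) • h3 + (-1 : F) • h4 + (-1 : F) • h5

end formulas

section inst

variable [Fintype F]

theorem card_idx (hm : 4 ≤ m) : 7 ≤ Fintype.card (Fin m ⊕ Fin m) := by
  rw [Fintype.card_sum, Fintype.card_fin]; omega

theorem refl_pair_mem (hF : Fintype.card F = 2) (hm : 4 ≤ m) {a b : Fin m ⊕ Fin m → F}
    (ha : plusQ m a = 1) (hb : plusQ m b = 1) :
    reflM (plusQ m) a * reflM (plusQ m) b ∈ Cfsg.Omega F ⇑(plusQ (F := F) m) := by
  rw [omega_eq_root' (plusQ m) (plusQ_nondegenerate m) (card_idx m hm)]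
  exact pair_same_norm_even (plusQ m) (two_eq_zero_of_card hF) (plusQ_nondegenerate m)
    (by have := card_idx m hm; omega) one_ne_zero ha hb

theorem Q_eq_one_of_ne (hF : Fintype.card F = 2) {w : Fin m ⊕ Fin m → F} (hw : ¬ plusQ m w = 0) :
    plusQ m w = 1 := (zero_or_one_of_card hF _).resolve_left hw

theorem Q_add_eq_one (hF : Fintype.card F = 2) {x w : Fin m ⊕ Fin m → F} (hx : plusQ m x = 0)
    (hxw : polar (plusQ (F := F) m) x w = 0) (hw : ¬ plusQ m w = 0) : plusQ m (w + x) = 1 := by
  rw [QuadraticMap.map_add (⇑(plusQ (F := F) m)), polar_comm (plusQ (F := F) m) w x, hx, hxw,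
    Q_eq_one_of_ne m hF hw, add_zero, add_zero]

open Classical in
/-- the Siegel element `ρ_{x,w}` (`x` singular, `w ⊥ x`) as an element of `Ω`; `1` for junk arguments -/
noncomputable def omSg (hF : Fintype.card F = 2) (hm : 4 ≤ m) (x w : Fin m ⊕ Fin m → F) :
    ↥(Cfsg.Omega F ⇑(plusQ (F := F) m)) :=
  if h : plusQ m x = 0 ∧ polar (plusQ (F := F) m) x w = 0 then
    if hw : plusQ m w = 0 then
      ⟨siegG (plusQ m) x w 1 h.1 hw h.2,
        siegG_mem_omega (plusQ m) (plusQ_nondegenerate m) (card_idx m hm) x w 1 h.1 hw h.2⟩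
    else
      ⟨reflM (plusQ m) w * reflM (plusQ m) (w + x),
        refl_pair_mem m hF hm (Q_eq_one_of_ne m hF hw) (Q_add_eq_one m hF h.1 h.2 hw)⟩
  else 1

theorem omSg_of_sing (hF : Fintype.card F = 2) (hm : 4 ≤ m) {x w : Fin m ⊕ Fin m → F}
    (hx : plusQ m x = 0) (hw : plusQ m w = 0) (hxw : polar (plusQ (F := F) m) x w = 0) :
    (omSg m hF hm x w : ↥(Cfsg.isometryGroup F ⇑(plusQ (F := F) m))) =
      siegG (plusQ m) x w 1 hx hw hxw := by
  unfold omSg
  rw [dif_pos ⟨hx, hxw⟩, dif_pos hw]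

theorem omSg_of_nonsing (hF : Fintype.card F = 2) (hm : 4 ≤ m) {x w : Fin m ⊕ Fin m → F}
    (hx : plusQ m x = 0) (hw : ¬ plusQ m w = 0) (hxw : polar (plusQ (F := F) m) x w = 0) :
    (omSg m hF hm x w : ↥(Cfsg.isometryGroup F ⇑(plusQ (F := F) m))) =
      reflM (plusQ m) w * reflM (plusQ m) (w + x) := by
  unfold omSg
  rw [dif_pos ⟨hx, hxw⟩, dif_neg hw]

/-- the formula for the action of `omSg` -/
theorem toOG_omSg (hF : Fintype.card F = 2) (hm : 4 ≤ m) {x w : Fin m ⊕ Fin m → F}
    (hx : plusQ m x = 0) (hxw : polar (plusQ (F := F) m) x w = 0) (z : Fin m ⊕ Fin m → F) :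
    toOG (plusQ (F := F) m) (omSg m hF hm x w : ↥(Cfsg.isometryGroup F ⇑(plusQ (F := F) m))) z =
      z + polar (plusQ (F := F) m) z w • x + polar (plusQ (F := F) m) z x • w +
        (plusQ m w * polar (plusQ (F := F) m) z x) • x := by
  by_cases hw : plusQ m w = 0
  · rw [omSg_of_sing m hF hm hx hw hxw]
    rw [toOG_siegG]
    have := siegF_formula (plusQ (F := F) m) (two_eq_zero_of_card hF) (x := x) hw z
    exact this
  · rw [omSg_of_nonsing m hF hm hx hw hxw]
    rw [map_mul, LinearEquiv.mul_apply, toOG_reflM, toOG_reflM]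
    have := refl_pair_formula (plusQ (F := F) m) (two_eq_zero_of_card hF) (x := x) (w := w) hx
      (Q_eq_one_of_ne m hF hw) hxw z
    exact this

/-- the setting -/
noncomputable def omSetting (hF : Fintype.card F = 2) (hm : 4 ≤ m) :
    @Setting F (Fin m ⊕ Fin m → F) ↥(Cfsg.Omega F ⇑(plusQ (F := F) m)) _ _ _ _ (omAct F m) :=
  letI := omAct F m
  { B := polarBilin (plusQ (F := F) m)
    Q := fun v => plusQ m v
    sg := omSg m hF hm
    h01 := zero_or_one_of_card hF
    Q_add := fun x y => by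
      rw [polarBilin_apply_apply]
      unfold polar
      ring
    nondeg := fun x hx => by
      have h := plusQ_nondegenerate (F := F) m
      rw [isRefl.nondegenerate_iff_separatingLeft] at h
      exact h x hx
    isoQ := fun g x => toOG_mem_OG (plusQ (F := F) m) (g : ↥(Cfsg.isometryGroup F ⇑(plusQ (F := F) m))) x
    sg_smul := fun x w hx hxw z => by
      rw [polarBilin_apply_apply] at hxw
      simp only [polarBilin_apply_apply]
      exact toOG_omSg m hF hm hx hxw z
    gen := fun H hH => by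
      rw [eq_top_iff]
      intro g _
      have hg : (g : ↥(Cfsg.isometryGroup F ⇑(plusQ (F := F) m))) ∈
          Subgroup.closure (rootSet (plusQ (F := F) m)) := by
        rw [← omega_eq_root' (plusQ m) (plusQ_nondegenerate m) (card_idx m hm)]
        exact g.2
      have hle : Subgroup.closure (rootSet (plusQ (F := F) m)) ≤
          H.map (Cfsg.Omega F ⇑(plusQ (F := F) m)).subtype := by
        rw [Subgroup.closure_le]
        rintro r ⟨u, v, c, hu, hv, huv, hr⟩
        rcases zero_or_one_of_card hF c with rfl | rfl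
        · have : r = 1 := by
            apply Subtype.ext
            apply Units.ext
            rw [hr, siegelMatrix_zero]
            rfl
          rw [this]
          exact Subgroup.one_mem _
        · refine ⟨omSg m hF hm u v, hH u v hu hv (by rw [polarBilin_apply_apply]; exact huv), ?_⟩
          rw [Subgroup.coe_subtype, omSg_of_sing m hF hm hu hv huv]
          exact (eq_siegG_of_coe (plusQ m) hu hv huv hr).symm
      obtain ⟨g', hg', hgg'⟩ := hle hg
      have e : g' = g := Subtype.ext hgg'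
      rw [← e]
      exact hg'
    faithful := fun g hg => by
      apply Subtype.ext
      apply toOG_injective (plusQ (F := F) m)
      ext1 z
      rw [Subgroup.coe_one, map_one]
      exact hg z }

omit [Fintype F] in
theorem coe_plusQ : ⇑(plusQ (F := F) m) = Cfsg.quadFormPlus m F := funext (plusQ_apply m)

theorem omSetting_Q (hF : Fintype.card F = 2) (hm : 4 ≤ m) (v : Fin m ⊕ Fin m → F) :
    (omSetting m hF hm).Q v = Cfsg.quadFormPlus m F v := plusQ_apply m v

theorem omSetting_B (hF : Fintype.card F = 2) (hm : 4 ≤ m) (u v : Fin m ⊕ Fin m → F) :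
    (omSetting m hF hm).B u v = polar (plusQ (F := F) m) u v := rfl

theorem omSetting_sg (hF : Fintype.card F = 2) (hm : 4 ≤ m) (x w : Fin m ⊕ Fin m → F) :
    (omSetting m hF hm).sg x w = omSg m hF hm x w := rfl

/-- `hV` -/
theorem card_V (hF : Fintype.card F = 2) : Nat.card (Fin m ⊕ Fin m → F) = 2 ^ (2 * m) := by
  classical
  rw [Nat.card_eq_fintype_card, Fintype.card_fun, Fintype.card_sum, Fintype.card_fin, hF, two_mul]

/-- `hs` (plus type) -/
theorem card_sing (hF : Fintype.card F = 2) (hm : 4 ≤ m) :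
    Nat.card {v : Fin m ⊕ Fin m → F // (omSetting m hF hm).Q v = 0} =
      2 ^ (2 * m - 1) + 2 ^ (m - 1) := by
  classical
  have h1 : Nat.card {v : Fin m ⊕ Fin m → F // (omSetting m hF hm).Q v = 0} =
      Nat.card {v : Fin m ⊕ Fin m → F // Cfsg.quadFormPlus m F v = 0} := by
    apply Nat.card_congr
    exact Equiv.subtypeEquivRight (fun v => by rw [omSetting_Q])
  rw [h1, Cfsg.Agent.Lib.Helper14.plus_card_zero, hF]
  obtain ⟨k, rfl⟩ : ∃ k, m = k + 1 := ⟨m - 1, by omega⟩
  have e1 : 2 * (k + 1) - 1 = 2 * k + 1 := by omega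
  have e2 : k + 1 - 1 = k := by omega
  rw [e1, e2]
  have h3 : 2 ^ (k + 1) = 2 * 2 ^ k := by rw [pow_succ]; ring
  have h5 : 2 ^ (2 * k + 1) = 2 * (2 ^ k * 2 ^ k) := by rw [pow_succ, two_mul, pow_add]; ring
  rw [h3, h5]
  have h2 : 1 ≤ 2 ^ k := Nat.one_le_two_pow
  obtain ⟨a, ha⟩ : ∃ a, 2 * 2 ^ k = a + 1 := ⟨2 * 2 ^ k - 1, by omega⟩
  rw [ha, Nat.add_sub_cancel]
  nlinarith [ha]

end inst

end Cfsg.Agent.Lib.Helper14.Om2Leaf
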