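/-
helper14: leaf OLk (`relIndex_ge_of_mid`) of helper11's S2144 market OM3 (`notes/S2144_leaves.lean`),
in `_of` form: the statements of COV (`covering`), GCc (`card_class_ge`) and GC0' (`card_class_zero`)
for this `S`, `x` enter as hypotheses; DI, C2a, QR are cited from main.
-/
import Mathlib
import Cfsg.Agent.Lib.Helper11.Om3Tools
import Cfsg.Agent.Lib.Helper5.Om3DI
import Cfsg.Agent.Lib.Helper5.Om3C2a
import Cfsg.Agent.Lib.Helper15.Om3QR
import Cfsg.Agent.Lib.Helper27.Om3GC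

set_option autoImplicit false

open Cfsg.Agent.Lib.Helper11.Om3 MulAction
open scoped Pointwise

namespace Cfsg.Agent.Lib.Helper14.Om3OLkOf

variable {F V G : Type*} [Field F] [AddCommGroup V] [Module F V] [Group G] [DistribMulAction G V]
  (S : Setting F V G)

include S in
/-- the three multiples of a nonzero vector -/
theorem ncard_line {x : V} (hx0 : x ≠ 0) : ({0, x, -x} : Set V).ncard = 3 := by
  have h1 : x ≠ -x := by
    intro h
    apply hx0
    have h2 : (2 : F) • x = 0 := by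
      rw [two_smul]
      nth_rw 1 [h]
      exact neg_add_cancel x
    rw [S.two_smul_v] at h2
    exact neg_eq_zero.1 h2
  rw [Set.ncard_insert_of_notMem, Set.ncard_pair h1]
  simp only [Set.mem_insert_iff, Set.mem_singleton_iff, not_or]
  exact ⟨hx0.symm, fun h => hx0 (neg_eq_zero.1 h.symm)⟩

/-- two different `Q`-classes of `U ∖ <x>` together have at most `|U| - 3` elements -/
theorem card_two_classes_le [Finite V] (U : Submodule F V) {x : V} (hx0 : x ≠ 0) (hxU : x ∈ U)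
    {c c' : F} (hcc' : c ≠ c') :
    Nat.card {w : V // w ∈ U ∧ (¬ ∃ a : F, w = a • x) ∧ S.Q w = c} +
      Nat.card {w : V // w ∈ U ∧ (¬ ∃ a : F, w = a • x) ∧ S.Q w = c'} + 3 ≤ Nat.card U := by
  classical
  change Nat.card ↥{w : V | w ∈ U ∧ (¬ ∃ a : F, w = a • x) ∧ S.Q w = c} +
    Nat.card ↥{w : V | w ∈ U ∧ (¬ ∃ a : F, w = a • x) ∧ S.Q w = c'} + 3 ≤ Nat.card ↥(U : Set V)
  rw [Nat.card_coe_set_eq, Nat.card_coe_set_eq, Nat.card_coe_set_eq, ← ncard_line S hx0]
  have hd1 : Disjoint {w : V | w ∈ U ∧ (¬ ∃ a : F, w = a • x) ∧ S.Q w = c}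
      {w : V | w ∈ U ∧ (¬ ∃ a : F, w = a • x) ∧ S.Q w = c'} := by
    rw [Set.disjoint_left]
    intro w h h'
    exact hcc' (h.2.2.symm.trans h'.2.2)
  have hd2 : Disjoint ({w : V | w ∈ U ∧ (¬ ∃ a : F, w = a • x) ∧ S.Q w = c} ∪
      {w : V | w ∈ U ∧ (¬ ∃ a : F, w = a • x) ∧ S.Q w = c'}) ({0, x, -x} : Set V) := by
    rw [Set.disjoint_left]
    rintro w (h | h) hw
    all_goals
      apply h.2.1
      rcases hw with rfl | rfl | hw
      · exact ⟨0, (zero_smul _ _).symm⟩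
      · exact ⟨1, (one_smul _ _).symm⟩
      · rw [Set.mem_singleton_iff] at hw
        exact ⟨-1, by rw [hw, neg_one_smul]⟩
  rw [← Set.ncard_union_eq hd1 (Set.toFinite _) (Set.toFinite _),
    ← Set.ncard_union_eq hd2 (Set.toFinite _) (Set.toFinite _)]
  apply Set.ncard_le_ncard _ (Set.toFinite _)
  rintro w ((h | h) | hw)
  · exact h.1
  · exact h.1
  · rcases hw with rfl | rfl | hw
    · exact U.zero_mem
    · exact hxU
    · rw [Set.mem_singleton_iff] at hw
      rw [hw]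
      exact U.neg_mem hxU

/-- one `Q`-class of `U ∖ <x>` has at most `|U| - 3` elements -/
theorem card_class_le [Finite V] (U : Submodule F V) {x : V} (hx0 : x ≠ 0) (hxU : x ∈ U) (c : F) :
    Nat.card {w : V // w ∈ U ∧ (¬ ∃ a : F, w = a • x) ∧ S.Q w = c} + 3 ≤ Nat.card U := by
  classical
  change Nat.card ↥{w : V | w ∈ U ∧ (¬ ∃ a : F, w = a • x) ∧ S.Q w = c} + 3 ≤
    Nat.card ↥(U : Set V)
  rw [Nat.card_coe_set_eq, Nat.card_coe_set_eq, ← ncard_line S hx0]
  have hd2 : Disjoint {w : V | w ∈ U ∧ (¬ ∃ a : F, w = a • x) ∧ S.Q w = c}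
      ({0, x, -x} : Set V) := by
    rw [Set.disjoint_left]
    rintro w h hw
    apply h.2.1
    rcases hw with rfl | rfl | hw
    · exact ⟨0, (zero_smul _ _).symm⟩
    · exact ⟨1, (one_smul _ _).symm⟩
    · rw [Set.mem_singleton_iff] at hw
      exact ⟨-1, by rw [hw, neg_one_smul]⟩
  rw [← Set.ncard_union_eq hd2 (Set.toFinite _) (Set.toFinite _)]
  apply Set.ncard_le_ncard _ (Set.toFinite _)
  rintro w (h | hw)
  · exact h.1
  · rcases hw with rfl | rfl | hw
    · exact U.zero_mem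
    · exact hxU
    · rw [Set.mem_singleton_iff] at hw
      rw [hw]
      exact U.neg_mem hxU

include S in
/-- a subspace with more than three elements has a vector outside `<x>` -/
theorem exists_not_mem_line [Finite V] (U : Submodule F V) {x : V} (hx0 : x ≠ 0)
    (hc : 4 ≤ Nat.card U) : ∃ u ∈ U, ¬ ∃ a : F, u = a • x := by
  classical
  by_contra hcon
  push Not at hcon
  have hsub : (U : Set V) ⊆ ({0, x, -x} : Set V) := by
    intro u hu
    obtain ⟨a, rfl⟩ := hcon u hu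
    rcases S.h3 a with rfl | rfl | rfl
    · left; exact zero_smul _ _
    · right; left; exact one_smul _ _
    · right; right; rw [Set.mem_singleton_iff, neg_one_smul]
  have := Set.ncard_le_ncard hsub (Set.toFinite _)
  rw [ncard_line S hx0] at this
  have h2 : Nat.card ↥(U : Set V) = (U : Set V).ncard := Nat.card_coe_set_eq _
  have h3 : Nat.card ↥(U : Set V) = Nat.card U := rfl
  omega

/-- OLk, with the statement of COV (for `U = D̃_x`) as a hypothesis -/
theorem relIndex_ge_of_mid_of [Finite V] [Finite G] {m : ℕ} (hV : Nat.card V = 3 ^ (2 * m + 1))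
    (hs : Nat.card {v : V // S.Q v = 0} = 3 ^ (2 * m))
    (h1 : Nat.card {v : V // S.Q v = 1} = 3 ^ (2 * m) + 3 ^ m) (hm : 3 ≤ m)
    (H : Subgroup G) {x : V} (hx0 : x ≠ 0) (hx : S.Q x = 0)
    (h : Nat.card (S.Dt H hx) = 3 ^ m)
    (hCOV : ∀ (ι : Type) [Finite ι] (g : ι → G), (∀ i, g i • x = x) → ∀ {u0 : V},
      (∀ i, u0 ∈ g i • ((S.Dt H hx : Submodule F V) : Set V)) → (¬ ∃ a : F, u0 = a • x) →
      Function.Injective (fun i => g i • ((S.Dt H hx : Submodule F V) : Set V)) →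
      Nat.card ι * Nat.card {w : V // S.B x w = 0 ∧ (¬ ∃ a : F, w = a • x) ∧ S.Q w = S.Q u0} ≤
        Nat.card {w : V // w ∈ S.Dt H hx ∧ (¬ ∃ a : F, w = a • x) ∧ S.Q w = S.Q u0} *
          (stabilizer G ((S.Dt H hx : Submodule F V) : Set V)).relIndex (stabilizer G x)) :
    3 ^ m * (3 ^ m - 1) ≤ 2 * H.relIndex (stabilizer G x) := by
  classical
  -- notation
  obtain ⟨k, rfl⟩ : ∃ k, m = k + 1 := ⟨m - 1, by omega⟩
  set a : ℕ := 3 ^ k with ha
  have ha9 : 9 ≤ a := by
    have : 3 ^ 2 ≤ 3 ^ k := Nat.pow_le_pow_right (by norm_num) (by omega)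
    omega
  have e1 : 3 ^ (k + 1) = 3 * a := by rw [pow_succ]; omega
  have e2 : 3 ^ (2 * (k + 1) + 1) = 27 * (a * a) := by
    have : 2 * (k + 1) + 1 = k + k + 3 := by ring
    rw [this, pow_add, pow_add]
    ring
  have e3 : 3 ^ (2 * (k + 1) - 1) = 3 * (a * a) := by
    have : 2 * (k + 1) - 1 = k + k + 1 := by omega
    rw [this, pow_add, pow_add]
    ring
  rw [e1]
  rw [e1] at h
  clear_value a
  set U := S.Dt H hx with hUdef
  have hxU : x ∈ U := S.self_mem_Dt H hx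
  have hU : ∀ u ∈ U, S.B x u = 0 := S.Dt_le_perp hx
  have hinv : ∀ p ∈ H, p • x = x → ∀ u ∈ U, p • u ∈ U := fun p hp hpx u hu =>
    S.smul_mem_Dt hx hp hpx hu
  -- the stabiliser bound
  have hSB := S.stab_bound H hx U hxU hU hinv
  have hQR := Cfsg.Agent.Lib.Helper15.Om3Leaf.relIndex_Qs S H hx0 hx
  rw [hV, e2, h] at hQR
  have hr : H.relIndex (S.Qs hx) = 3 * a := by
    have h1' : (9 * a) * H.relIndex (S.Qs hx) = (9 * a) * (3 * a) := by nlinarith
    exact Nat.eq_of_mul_eq_mul_left (by omega) h1'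
  rw [hr] at hSB
  set t := (stabilizer G (U : Set V)).relIndex (stabilizer G x) with ht
  -- it suffices to show `3 a - 1 ≤ 2 t`
  suffices hsuff : 3 * a - 1 ≤ 2 * t by
    calc 3 * a * (3 * a - 1) ≤ 3 * a * (2 * t) := Nat.mul_le_mul_left _ hsuff
      _ = 2 * (t * (3 * a)) := by ring
      _ ≤ _ := Nat.mul_le_mul_left _ hSB
  have hc27 : 27 ≤ Nat.card U := by rw [h]; omega
  rcases Cfsg.Agent.Lib.Helper5.Om3Leaf.ts_or_two_classes S hx U hxU hU hc27 with hts | htwo
  · -- totally singular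
    obtain ⟨u0, hu0U, hu0x⟩ := exists_not_mem_line S U hx0 (by omega)
    obtain ⟨g, hgx, hgu, hginj⟩ := Cfsg.Agent.Lib.Helper5.Om3Leaf.exists_moves_two S hV hs hm hx0 hx U
      hxU hts hc27 hu0U hu0x
    have hc0 := hCOV (Fin 2) g hgx (u0 := u0)
      (fun i => ⟨u0, hu0U, hgu i⟩) hu0x hginj
    have hN0 := Cfsg.Agent.Lib.Helper27.Om3Leaf.card_class_zero S hV hs (by omega) hx0 hx
    rw [hts u0 hu0U, hN0, e3, Nat.card_fin] at hc0
    have hle := card_class_le S U hx0 hxU (0 : F)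
    rw [h] at hle
    set n0 := Nat.card {w : V // w ∈ U ∧ (¬ ∃ a : F, w = a • x) ∧ S.Q w = 0} with hn0
    have h3 : 2 * (3 * (a * a) - 3) ≤ (3 * a - 3) * t :=
      le_trans hc0 (Nat.mul_le_mul_right _ (by omega))
    -- `6 (a - 1) (a + 1) ≤ 3 (a - 1) t`
    obtain ⟨b, rfl⟩ : ∃ b, a = b + 1 := ⟨a - 1, by omega⟩
    have h4 : 3 * ((b + 1) * (b + 1)) - 3 = 3 * b * (b + 2) := by
      have : 3 ≤ 3 * ((b + 1) * (b + 1)) := by nlinarith
      zify [this]
      ring
    have h5 : 3 * (b + 1) - 3 = 3 * b := by omega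
    rw [h4, h5] at h3
    have h6 : (3 * b) * (2 * (b + 2)) ≤ (3 * b) * t := by
      calc (3 * b) * (2 * (b + 2)) = 2 * (3 * b * (b + 2)) := by ring
        _ ≤ 3 * b * t := h3
    have := Nat.le_of_mul_le_mul_left h6 (by omega)
    omega
  · -- two classes
    obtain ⟨u, huU, u', hu'U, hux, hu'x, hne⟩ := htwo
    have hg1 : ∀ i : Unit, (fun _ : Unit => (1 : G)) i • x = x := fun _ => one_smul _ _
    have hinj1 : Function.Injective
        (fun i : Unit => (fun _ : Unit => (1 : G)) i • ((U : Submodule F V) : Set V)) :=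
      fun i j _ => Subsingleton.elim i j
    have hcu := hCOV Unit (fun _ => (1 : G)) hg1 (u0 := u)
      (fun i => ⟨u, huU, one_smul _ _⟩) hux hinj1
    have hcu' := hCOV Unit (fun _ => (1 : G)) hg1 (u0 := u')
      (fun i => ⟨u', hu'U, one_smul _ _⟩) hu'x hinj1
    have hNu := Cfsg.Agent.Lib.Helper27.Om3Leaf.card_class_ge S hV hs h1 (by omega) hx0 hx (S.Q u)
    have hNu' := Cfsg.Agent.Lib.Helper27.Om3Leaf.card_class_ge S hV hs h1 (by omega) hx0 hx (S.Q u')
    rw [e3, e1] at hNu hNu'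
    have hle := card_two_classes_le S U hx0 hxU hne
    rw [h] at hle
    rw [Nat.card_unique, one_mul] at hcu hcu'
    set nu := Nat.card {w : V // w ∈ U ∧ (¬ ∃ a : F, w = a • x) ∧ S.Q w = S.Q u} with hnu
    set nu' := Nat.card {w : V // w ∈ U ∧ (¬ ∃ a : F, w = a • x) ∧ S.Q w = S.Q u'} with hnu'
    have h3 : 2 * (3 * (a * a) - 3 * a) ≤ (3 * a - 3) * t := by
      calc 2 * (3 * (a * a) - 3 * a) ≤ nu * t + nu' * t := by omega
        _ = (nu + nu') * t := by ring
        _ ≤ (3 * a - 3) * t := Nat.mul_le_mul_right _ (by omega)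
    obtain ⟨b, rfl⟩ : ∃ b, a = b + 1 := ⟨a - 1, by omega⟩
    have h4 : 3 * ((b + 1) * (b + 1)) - 3 * (b + 1) = 3 * b * (b + 1) := by
      have : 3 * (b + 1) ≤ 3 * ((b + 1) * (b + 1)) := by nlinarith
      zify [this]
      ring
    have h5 : 3 * (b + 1) - 3 = 3 * b := by omega
    rw [h4, h5] at h3
    have h6 : (3 * b) * (2 * (b + 1)) ≤ (3 * b) * t := by
      calc (3 * b) * (2 * (b + 1)) = 2 * (3 * b * (b + 1)) := by ring
        _ ≤ 3 * b * t := h3
    have := Nat.le_of_mul_le_mul_left h6 (by omega)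
    omega

end Cfsg.Agent.Lib.Helper14.Om3OLkOf
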