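import Mathlib
import Cfsg.Agent.Lib.Helper11.Su2Tools

/-!
helper14: leaf GEO of the S2153 market "SU2" (planner helper11): geometric existence statements in the
abstract `SU_n(2)` setting: vectors with prescribed hermitian products with an independent family, and
isotropic vectors with prescribed products with two or three independent vectors (`n ≥ 6`).
-/

set_option autoImplicit false

namespace Cfsg.Agent.Lib.Helper14.Su2Leaf

open MulAction Pointwise Cfsg.Agent.Lib.Helper11.Su2

variable {F V G : Type*} [Field F] [AddCommGroup V] [Module F V] [Group G] [DistribMulAction G V]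
variable (S : Setting F V G)

/-- the linear functional `u ↦ h u y` -/
def geoHL (y : V) : V →ₗ[F] F where
  toFun u := S.h u y
  map_add' a b := S.h_add_left a b y
  map_smul' a u := by
    rw [S.h_smul_left]; rfl

theorem geoHL_apply (y u : V) : geoHL S y u = S.h u y := rfl

/-- the map `u ↦ (h u (v i))_i` -/
def geoPhi {ι : Type*} (v : ι → V) : V →ₗ[F] (ι → F) := LinearMap.pi (fun i => geoHL S (v i))

theorem geoPhi_apply {ι : Type*} (v : ι → V) (u : V) (i : ι) : geoPhi S v u i = S.h u (v i) := rfl

theorem geo_h_sum_right {ι : Type*} (s : Finset ι) (a : ι → F) (v : ι → V) (u : V) :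
    S.h u (∑ i ∈ s, a i • v i) = ∑ i ∈ s, a i * a i * S.h u (v i) := by
  classical
  induction s using Finset.induction_on with
  | empty => simp [S.h_zero_right]
  | insert i s hi ih =>
    rw [Finset.sum_insert hi, Finset.sum_insert hi, S.h_add_right, S.h_smul_right, ih]

theorem exists_h_eq {ι : Type*} [Fintype ι] (v : ι → V) (hv : LinearIndependent F v) (c : ι → F) :
    ∃ u, ∀ i, S.h u (v i) = c i := by
  classical
  have hsurj : LinearMap.range (geoPhi S v) = ⊤ := by
    by_contra hne
    obtain ⟨f, hf0, hf⟩ := Submodule.exists_le_ker_of_lt_top _ (lt_top_iff_ne_top.2 hne)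
    apply hf0
    set lam : ι → F := fun i => f (fun j => if i = j then 1 else 0) with hlam
    have hfx : ∀ x : ι → F, f x = ∑ i, x i * lam i := by
      intro x
      rw [LinearMap.pi_apply_eq_sum_univ f x]
      rfl
    have hsum : ∀ u, ∑ i, lam i * S.h u (v i) = 0 := by
      intro u
      have h1 : f (geoPhi S v u) = 0 := hf ⟨u, rfl⟩
      rw [hfx] at h1
      rw [← h1]
      apply Finset.sum_congr rfl
      intro i _
      rw [geoPhi_apply, mul_comm]
    have hw : ∑ i, (lam i * lam i) • v i = 0 := by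
      apply S.nondeg'
      intro u
      rw [geo_h_sum_right, ← hsum u]
      apply Finset.sum_congr rfl
      intro i _
      rw [S.frob]
    have h0 : ∀ i, lam i = 0 := by
      intro i
      have := Fintype.linearIndependent_iff.1 hv (fun i => lam i * lam i) hw i
      exact mul_self_eq_zero.1 this
    apply LinearMap.ext
    intro x
    rw [hfx]
    simp [h0]
  have hc : c ∈ LinearMap.range (geoPhi S v) := by rw [hsurj]; trivial
  obtain ⟨u, hu⟩ := hc
  exact ⟨u, fun i => by rw [← hu]; rfl⟩

theorem geo_mem_ker {ι : Type*} (v : ι → V) (t : V) :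
    t ∈ LinearMap.ker (geoPhi S v) ↔ ∀ i, S.h t (v i) = 0 := by
  rw [LinearMap.mem_ker]
  constructor
  · intro h i
    exact congrFun h i
  · intro h
    funext i
    exact h i

/-- polarisation: a subspace all of whose vectors are isotropic is totally isotropic -/
theorem geo_polar (W : Submodule F V) (hW : ∀ t ∈ W, S.h t t = 0) :
    ∀ t ∈ W, ∀ t' ∈ W, S.h t t' = 0 := by
  intro t ht t' ht'
  have h1 := hW _ (W.add_mem ht ht')
  rw [S.h_self_add, hW t ht, hW t' ht', zero_add, zero_add] at h1
  have h2 := hW _ (W.add_mem (W.smul_mem S.om ht) ht')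
  rw [S.h_self_add, hW _ (W.smul_mem S.om ht), hW t' ht', zero_add, zero_add, S.h_smul_left] at h2
  exact S.eq_zero_of_tr_mul h1 h2

/-- scaling: if `h t t + tr (h u0 t)` vanishes on a subspace, the subspace is totally isotropic and
perpendicular to `u0` -/
theorem geo_scale (W : Submodule F V) (u0 : V)
    (hW : ∀ t ∈ W, S.h t t + (S.h u0 t + S.h u0 t * S.h u0 t) = 0) :
    (∀ t ∈ W, S.h t t = 0) ∧ (∀ t ∈ W, S.h u0 t = 0) := by
  have key : ∀ t ∈ W, S.h t t = 0 ∧ S.h u0 t = 0 := by
    intro t ht
    have E1 := hW t ht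
    have E2 := hW _ (W.smul_mem S.om ht)
    have E3 := hW _ (W.smul_mem (S.om + 1) ht)
    rw [S.h_self_smul_of_ne S.om_ne_zero, S.h_smul_right] at E2
    rw [S.h_self_smul_of_ne S.om_add_one_ne_zero, S.h_smul_right] at E3
    set a := S.h t t with ha
    set c := S.h u0 t with hc
    have ha0 : a = 0 := by
      linear_combination E1 + E2 + E3 -
        (a + c * (1 + S.om + S.om * S.om) + c * c * (S.om * S.om + S.om + 1) ^ 2) * S.two
    refine ⟨ha0, ?_⟩
    have h1 : c + c * c = 0 := by linear_combination E1 - ha0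
    have h2 : S.om * c + S.om * c * (S.om * c) = 0 := by
      linear_combination E3 - ha0 -
        (c + c * c * (2 * S.om + (S.om * S.om + S.om + 1))) * S.hom
    exact S.eq_zero_of_tr_mul h1 h2
  exact ⟨fun t ht => (key t ht).1, fun t ht => (key t ht).2⟩

/-- if the common perp of an independent family is totally isotropic, it lies in the span -/
theorem geo_ker_le_span {ι : Type*} [Fintype ι] (v : ι → V) (hv : LinearIndependent F v)
    (hiso : ∀ t ∈ LinearMap.ker (geoPhi S v), S.h t t = 0) :
    LinearMap.ker (geoPhi S v) ≤ Submodule.span F (Set.range v) := by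
  intro t ht
  by_contra hts
  have hind := LinearIndependent.option hv hts
  obtain ⟨u, hu⟩ := exists_h_eq S _ hind (fun o => Option.casesOn' o 1 (fun _ => 0))
  have hut : S.h u t = 1 := hu none
  have huk : u ∈ LinearMap.ker (geoPhi S v) := by
    rw [geo_mem_ker]
    intro i
    exact hu (some i)
  have := geo_polar S _ hiso u huk t ht
  rw [hut] at this
  exact one_ne_zero this

include S in
theorem geo_finrank [Finite V] {n : ℕ} (hV : Nat.card V = 4 ^ n) : Module.finrank F V = n := by
  have : Finite F := S.finite_F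
  have h1 := Module.natCard_eq_pow_finrank (K := F) (V := V)
  rw [hV, S.natCard_F] at h1
  exact (Nat.pow_right_injective (by norm_num : 2 ≤ 4) h1).symm

theorem geo_finrank_ker [Finite V] {n : ℕ} (hV : Nat.card V = 4 ^ n) {ι : Type*} [Fintype ι]
    (v : ι → V) (hv : LinearIndependent F v) :
    Module.finrank F (LinearMap.ker (geoPhi S v)) + Fintype.card ι = n := by
  have hsurj : LinearMap.range (geoPhi S v) = ⊤ := by
    rw [LinearMap.range_eq_top]
    intro c
    obtain ⟨u, hu⟩ := exists_h_eq S v hv c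
    exact ⟨u, funext hu⟩
  have h1 := LinearMap.finrank_range_add_finrank_ker (geoPhi S v)
  rw [hsurj, finrank_top, Module.finrank_fintype_fun_eq_card, geo_finrank S hV] at h1
  omega

/-- the core dichotomy -/
theorem geo_core {ι : Type*} [Fintype ι] (v : ι → V) (hv : LinearIndependent F v) (c : ι → F) :
    (∃ u, S.h u u = 0 ∧ ∀ i, S.h u (v i) = c i) ∨
      ((∀ t ∈ LinearMap.ker (geoPhi S v), S.h t t = 0) ∧
        ∃ u0, (∀ i, S.h u0 (v i) = c i) ∧ ∀ t ∈ LinearMap.ker (geoPhi S v), S.h u0 t = 0) := by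
  obtain ⟨u0, hu0⟩ := exists_h_eq S v hv c
  rcases S.h_self_mem u0 with h0 | h1
  · exact Or.inl ⟨u0, h0, hu0⟩
  by_cases hex : ∃ t ∈ LinearMap.ker (geoPhi S v),
      S.h t t + (S.h u0 t + S.h u0 t * S.h u0 t) = 1
  · obtain ⟨t, ht, hft⟩ := hex
    left
    refine ⟨u0 + t, ?_, ?_⟩
    · rw [S.h_self_add, h1]
      linear_combination hft + S.two
    · intro i
      rw [S.h_add_left, hu0 i, (geo_mem_ker S v t).1 ht i, add_zero]
  · right
    push Not at hex
    have hall : ∀ t ∈ LinearMap.ker (geoPhi S v),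
        S.h t t + (S.h u0 t + S.h u0 t * S.h u0 t) = 0 := by
      intro t ht
      have hne := hex t ht
      rcases S.h_self_mem t with e1 | e1 <;> rcases S.tr_mem (S.h u0 t) with e2 | e2
      · rw [e1, e2, add_zero]
      · rw [e1, e2, zero_add] at hne; exact absurd rfl hne
      · rw [e1, e2, add_zero] at hne; exact absurd rfl hne
      · rw [e1, e2]; exact S.add_self 1
    obtain ⟨hA, hB⟩ := geo_scale S _ u0 hall
    exact ⟨hA, u0, hu0, hB⟩

theorem exists_iso_h_eq_two [Finite V] {n : ℕ} (hV : Nat.card V = 4 ^ n) (hn : 6 ≤ n) {a b : V}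
    (hab : ∀ α β : F, α • a + β • b = 0 → α = 0 ∧ β = 0) (α β : F) :
    ∃ u, S.h u u = 0 ∧ S.h u a = α ∧ S.h u b = β := by
  have hv : LinearIndependent F ![a, b] := LinearIndependent.pair_iff.2 hab
  rcases geo_core S ![a, b] hv ![α, β] with ⟨u, hu0, hu⟩ | ⟨hiso, -⟩
  · exact ⟨u, hu0, hu 0, hu 1⟩
  · exfalso
    have hle := geo_ker_le_span S _ hv hiso
    have h1 := Submodule.finrank_mono hle
    rw [finrank_span_eq_card hv] at h1
    have h2 := geo_finrank_ker S hV _ hv
    rw [Fintype.card_fin] at h1 h2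
    omega

theorem exists_iso_h_eq_three [Finite V] {n : ℕ} (hV : Nat.card V = 4 ^ n) (hn : 6 ≤ n) {a b c : V}
    (habc : ∀ α β γ : F, α • a + β • b + γ • c = 0 → α = 0 ∧ β = 0 ∧ γ = 0) (α β γ : F) :
    ∃ u, S.h u u = 0 ∧ S.h u a = α ∧ S.h u b = β ∧ S.h u c = γ := by
  have hv : LinearIndependent F ![a, b, c] := by
    rw [Fintype.linearIndependent_iff]
    intro g hg
    rw [Fin.sum_univ_three] at hg
    obtain ⟨h0, h1, h2⟩ := habc (g 0) (g 1) (g 2) hg
    intro i
    fin_cases i
    · exact h0
    · exact h1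
    · exact h2
  rcases geo_core S ![a, b, c] hv ![α, β, γ] with ⟨u, hu0, hu⟩ | ⟨hiso, u0, hu0, hperp⟩
  · exact ⟨u, hu0, hu 0, hu 1, hu 2⟩
  · have hle := geo_ker_le_span S _ hv hiso
    have h2 := geo_finrank_ker S hV _ hv
    rw [Fintype.card_fin] at h2
    have heq : LinearMap.ker (geoPhi S ![a, b, c]) = Submodule.span F (Set.range ![a, b, c]) := by
      apply Submodule.eq_of_le_of_finrank_le hle
      rw [finrank_span_eq_card hv, Fintype.card_fin]
      omega
    have hmem : ∀ i, (![a, b, c] : Fin 3 → V) i ∈ LinearMap.ker (geoPhi S ![a, b, c]) := by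
      intro i
      rw [heq]
      exact Submodule.subset_span ⟨i, rfl⟩
    have hz : ∀ i, (![α, β, γ] : Fin 3 → F) i = 0 := by
      intro i
      rw [← hu0 i]
      exact hperp _ (hmem i)
    refine ⟨0, S.h_zero_left 0, ?_, ?_, ?_⟩
    · rw [S.h_zero_left]; exact (hz 0).symm
    · rw [S.h_zero_left]; exact (hz 1).symm
    · rw [S.h_zero_left]; exact (hz 2).symm

end Cfsg.Agent.Lib.Helper14.Su2Leaf
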