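import Mathlib
import Cfsg.Agent.Lib.Helper11.Su2Tools

/-!
helper14: leaf GC of the S2153 market "SU2" (planner helper11): the class counts in `x^⊥` for an
isotropic vector `x ≠ 0` in the abstract `SU_n(2)` setting: isotropic vectors, vectors of norm one, and
isotropic vectors outside `F x`.
-/

set_option autoImplicit false

namespace Cfsg.Agent.Lib.Helper14.Su2Leaf

open MulAction Pointwise Cfsg.Agent.Lib.Helper11.Su2

variable {F V G : Type*} [Field F] [AddCommGroup V] [Module F V] [Group G] [DistribMulAction G V]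
variable (S : Setting F V G)

/-- splitting a count along a predicate -/
theorem gc_split {α : Type*} [Finite α] (p q : α → Prop) :
    Nat.card {a // q a} = Nat.card {a // p a ∧ q a} + Nat.card {a // ¬ p a ∧ q a} := by
  classical
  have := Fintype.ofFinite α
  simp only [Nat.card_eq_fintype_card, Fintype.card_subtype]
  rw [← Finset.card_filter_add_card_filter_not (s := Finset.univ.filter q) p]
  simp only [Finset.filter_filter]
  congr 2 <;> (ext a; simp [and_comm])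

/-- the norm-flipping translation along `x` -/
def gcTau (x z : V) : V := z + (S.om * S.h z x) • x

theorem gcTau_h {x : V} (hx : S.h x x = 0) (z : V) : S.h (gcTau S x z) x = S.h z x := by
  unfold gcTau
  rw [S.h_add_left, S.h_smul_left, hx, mul_zero, add_zero]

theorem gcTau_tau {x : V} (hx : S.h x x = 0) (z : V) : gcTau S x (gcTau S x z) = z := by
  rw [gcTau, gcTau_h S hx]
  unfold gcTau
  exact S.vadd_add_cancel_right _ _

theorem gcTau_norm {x : V} (hx : S.h x x = 0) {z : V} (hz : S.h z x ≠ 0) :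
    S.h (gcTau S x z) (gcTau S x z) = S.h z z + 1 := by
  unfold gcTau
  rw [S.h_self_add, S.h_self_smul, hx, mul_zero, add_zero, S.h_smul_right]
  have h3 := S.cube_of_ne hz
  have e : S.om * S.h z x * (S.om * S.h z x) * S.h z x = S.om + 1 := by
    have : S.om * S.h z x * (S.om * S.h z x) * S.h z x
        = S.om * S.om * (S.h z x * S.h z x * S.h z x) := by ring
    rw [this, h3, mul_one, S.om_sq]
  rw [e, (S.tr_eq_one_iff _).2 (Or.inr rfl)]

theorem gc_counts [Finite V] {n : ℕ} (hV : Nat.card V = 4 ^ n)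
    (hI : Nat.card {v : V // S.h v v = 0} = 2 ^ (2 * n - 1) + 2 ^ (n - 1)) (hn : 6 ≤ n) {x : V}
    (hx0 : x ≠ 0) (hx : S.h x x = 0) :
    Nat.card {u : V // S.h u x = 0 ∧ S.h u u = 0} = 2 ^ (2 * n - 3) + 2 ^ (n - 1) ∧
    Nat.card {u : V // S.h u x = 0 ∧ S.h u u = 1} + 2 ^ (n - 1) = 2 ^ (2 * n - 3) := by
  classical
  have F1 := S.four_mul_card_perp hx0
  have F2 := gc_split (α := V) (fun z => S.h z x = 0) (fun _ => True)
  have F3 := gc_split (α := V) (fun z => S.h z x = 0) (fun z => S.h z z = 0)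
  have F4 := gc_split (α := V) (fun z => S.h z z = 0) (fun z => ¬ S.h z x = 0)
  have F6 := gc_split (α := V) (fun z => S.h z z = 0) (fun z => S.h z x = 0)
  -- the involution
  have F5 : Nat.card {z : V // ¬ S.h z x = 0 ∧ S.h z z = 0} =
      Nat.card {z : V // ¬ S.h z z = 0 ∧ ¬ S.h z x = 0} := by
    refine Nat.card_congr
      { toFun := fun z => ⟨gcTau S x z.1, ?_, ?_⟩
        invFun := fun z => ⟨gcTau S x z.1, ?_, ?_⟩
        left_inv := fun z => Subtype.ext (gcTau_tau S hx _)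
        right_inv := fun z => Subtype.ext (gcTau_tau S hx _) }
    · rw [gcTau_norm S hx z.2.1, z.2.2, zero_add]; exact one_ne_zero
    · rw [gcTau_h S hx]; exact z.2.1
    · rw [gcTau_h S hx]; exact z.2.2
    · rw [gcTau_norm S hx z.2.2, S.h_self_eq_one_of_ne z.2.1]; exact S.add_self 1
  have E1 : Nat.card {z : V // True} = Nat.card V :=
    Nat.card_congr (Equiv.subtypeUnivEquiv (fun _ => trivial))
  have E2 : Nat.card {z : V // S.h z x = 0 ∧ True} = Nat.card {z : V // S.h z x = 0} :=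
    Nat.card_congr (Equiv.subtypeEquivRight (fun z => Iff.of_eq (and_true _)))
  have E3 : Nat.card {z : V // ¬ S.h z x = 0 ∧ True} = Nat.card {z : V // ¬ S.h z x = 0} :=
    Nat.card_congr (Equiv.subtypeEquivRight (fun z => Iff.of_eq (and_true _)))
  have E4 : Nat.card {z : V // S.h z z = 0 ∧ ¬ S.h z x = 0} =
      Nat.card {z : V // ¬ S.h z x = 0 ∧ S.h z z = 0} :=
    Nat.card_congr (Equiv.subtypeEquivRight (fun z => and_comm))
  have E5 : Nat.card {z : V // S.h z z = 0 ∧ S.h z x = 0} =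
      Nat.card {z : V // S.h z x = 0 ∧ S.h z z = 0} :=
    Nat.card_congr (Equiv.subtypeEquivRight (fun z => and_comm))
  have E6 : Nat.card {z : V // ¬ S.h z z = 0 ∧ S.h z x = 0} =
      Nat.card {z : V // S.h z x = 0 ∧ S.h z z = 1} := by
    refine Nat.card_congr (Equiv.subtypeEquivRight (fun z => ?_))
    constructor
    · rintro ⟨h1, h2⟩
      exact ⟨h2, S.h_self_eq_one_of_ne h1⟩
    · rintro ⟨h1, h2⟩
      refine ⟨?_, h1⟩
      rw [h2]; exact one_ne_zero
  rw [E1, E2, E3] at F2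
  rw [E4] at F4
  rw [E5, E6] at F6
  obtain ⟨m, rfl⟩ : ∃ m, n = m + 2 := ⟨n - 2, by omega⟩
  have p1 : 2 ^ (2 * (m + 2) - 1) = 8 * (2 ^ m * 2 ^ m) := by
    rw [show 2 * (m + 2) - 1 = m + m + 3 by omega]; ring
  have p2 : 2 ^ (m + 2 - 1) = 2 * 2 ^ m := by
    rw [show m + 2 - 1 = m + 1 by omega]; ring
  have p3 : 2 ^ (2 * (m + 2) - 3) = 2 * (2 ^ m * 2 ^ m) := by
    rw [show 2 * (m + 2) - 3 = m + m + 1 by omega]; ring
  have p4 : 4 ^ (m + 2) = 16 * (2 ^ m * 2 ^ m) := by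
    rw [show (4 : ℕ) = 2 ^ 2 by norm_num, ← pow_mul]
    rw [show 2 * (m + 2) = m + m + 4 by omega]; ring
  rw [p1, p2] at hI
  rw [p4] at hV
  rw [p2, p3]
  generalize 2 ^ m * 2 ^ m = s at *
  generalize 2 ^ m = t at *
  omega

theorem card_iso_perp [Finite V] {n : ℕ} (hV : Nat.card V = 4 ^ n)
    (hI : Nat.card {v : V // S.h v v = 0} = 2 ^ (2 * n - 1) + 2 ^ (n - 1)) (hn : 6 ≤ n) {x : V}
    (hx0 : x ≠ 0) (hx : S.h x x = 0) :
    Nat.card {u : V // S.h u x = 0 ∧ S.h u u = 0} = 2 ^ (2 * n - 3) + 2 ^ (n - 1) :=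
  (gc_counts S hV hI hn hx0 hx).1

theorem card_one_perp [Finite V] {n : ℕ} (hV : Nat.card V = 4 ^ n)
    (hI : Nat.card {v : V // S.h v v = 0} = 2 ^ (2 * n - 1) + 2 ^ (n - 1)) (hn : 6 ≤ n) {x : V}
    (hx0 : x ≠ 0) (hx : S.h x x = 0) :
    Nat.card {u : V // S.h u x = 0 ∧ S.h u u = 1} + 2 ^ (n - 1) = 2 ^ (2 * n - 3) :=
  (gc_counts S hV hI hn hx0 hx).2

theorem card_S0 [Finite V] {n : ℕ} (hV : Nat.card V = 4 ^ n)
    (hI : Nat.card {v : V // S.h v v = 0} = 2 ^ (2 * n - 1) + 2 ^ (n - 1)) (hn : 6 ≤ n) {x : V}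
    (hx0 : x ≠ 0) (hx : S.h x x = 0) :
    Nat.card {u : V // S.h u x = 0 ∧ S.h u u = 0 ∧ ∀ a : F, u ≠ a • x} + 4 =
      2 ^ (2 * n - 3) + 2 ^ (n - 1) := by
  classical
  rw [← card_iso_perp S hV hI hn hx0 hx]
  have F7 := gc_split (α := V) (fun u => ∀ a : F, u ≠ a • x)
    (fun u => S.h u x = 0 ∧ S.h u u = 0)
  have E1 : Nat.card {u : V // (∀ a : F, u ≠ a • x) ∧ S.h u x = 0 ∧ S.h u u = 0} =
      Nat.card {u : V // S.h u x = 0 ∧ S.h u u = 0 ∧ ∀ a : F, u ≠ a • x} := by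
    refine Nat.card_congr (Equiv.subtypeEquivRight (fun u => ?_))
    tauto
  have E2 : Nat.card {u : V // ¬ (∀ a : F, u ≠ a • x) ∧ S.h u x = 0 ∧ S.h u u = 0} = 4 := by
    rw [← S.natCard_F]
    symm
    refine Nat.card_congr
      (Equiv.ofBijective (fun a : F => ⟨a • x, ?_, ?_, ?_⟩) ⟨?_, ?_⟩)
    · push Not
      exact ⟨a, rfl⟩
    · rw [S.h_smul_left, hx, mul_zero]
    · rw [S.h_self_smul, hx, mul_zero]
    · intro a b hab
      have h1 : a • x = b • x := congrArg Subtype.val hab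
      exact smul_left_injective F hx0 h1
    · rintro ⟨u, hu1, hu2, hu3⟩
      push Not at hu1
      obtain ⟨a, rfl⟩ := hu1
      exact ⟨a, rfl⟩
  rw [F7, E1, E2]

end Cfsg.Agent.Lib.Helper14.Su2Leaf
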