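/-
helper14: vocabulary for S4885 / S4886 (principal blocks for two primes, p- and q-solvable groups).
-/
import Mathlib
import Cfsg.Prelude.Def_Blocks
import Cfsg.Prelude.Def_Local
import Cfsg.Agent.Lib.Helper2.GlaubPRel

set_option autoImplicit false

namespace Cfsg.Agent.Lib.Helper14.TP

open Cfsg Cfsg.Agent.Lib.Helper2.Glaub

universe u

/-- Every irreducible character of `p'`-degree has `q'`-degree. -/
def PQDeg (p q : ℕ) (H : Type u) [Group H] : Prop :=
  ∀ χ : IrrCharacter H, ¬ p ∣ charDegree (χ : H → ℂ) → ¬ q ∣ charDegree (χ : H → ℂ)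

variable {Γ : Type u} [Group Γ]

/-- `Q` is a Sylow `q`-subgroup of the subgroup `K` (both inside `Γ`). -/
def IsSylowIn (q : ℕ) (Q K : Subgroup Γ) : Prop :=
  Q ≤ K ∧ IsPGroup q Q ∧ ¬ q ∣ Q.relIndex K

/-- Every `A`-invariant irreducible character of `K` has `q'`-degree. -/
def NavHyp (q : ℕ) (K A : Subgroup Γ) : Prop :=
  ∀ θ : IrrCharacter K, InvUnder K A (θ : K → ℂ) → ¬ q ∣ charDegree (θ : K → ℂ)

end Cfsg.Agent.Lib.Helper14.TP
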