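import Mathlib
import Cfsg.Prelude.Def_BlockRank
import Cfsg.Agent.Lib.Helper6.NormalPBlock
import Cfsg.Agent.Lib.Helper6.PComplementBlock
import Cfsg.Agent.Lib.Helper6.AbelianQuot
import Cfsg.Agent.Lib.Helper6.LinChar

/-!
# Defect-one cluster, Part O, leaf LOC2 (helper14): the abstract part

A finite group `Γ` with a central element `z` of prime order `p` such that `⟨z⟩` is a Sylow
`p`-subgroup: `Γ = ⟨z⟩ × K`; the block of an irreducible character `θ` with `z ∈ ker θ` is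
`{λ θ : λ a linear character of Γ / K}`.
-/

set_option autoImplicit false

namespace Cfsg.Agent.Lib.Helper14.DOLOC2a

open Cfsg Cfsg.Agent.CharLib Cfsg.Agent.Lib.Helper24 Cfsg.Agent.Lib.Helper6
open scoped ComplexConjugate commutatorElement

universe u

section structure_

variable {Γ : Type u} [Group Γ] [Finite Γ] {p : ℕ} [hpp : Fact p.Prime]

/-- the normal `p`-complement `K` of `Γ = ⟨z⟩ × K`, with the linear characters of `Γ / K` -/
theorem exists_complement (z : Γ) (hz : ∀ h : Γ, h * z = z * h) (hzo : orderOf z = p)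
    (hidx : ¬ p ∣ (Subgroup.zpowers z).index) :
    ∃ K : Subgroup Γ, K.Normal ∧ ¬ p ∣ Nat.card K ∧ K.index = p ∧
      (∀ x y : Γ, ⁅x, y⁆ ∈ K) ∧
      (∀ c : Γ, ∃ j : ℕ, ∃ k ∈ K, c = z ^ j * k) ∧
      (∀ ω : ℂˣ, ω ^ p = 1 → ∃ lam : Γ →* ℂˣ, lam z = ω ∧ ∀ k ∈ K, lam k = 1) := by
  classical
  have hcard : Nat.card (Subgroup.zpowers z) = p ^ 1 := by
    rw [Nat.card_zpowers, hzo, pow_one]
  have hPG : IsPGroup p (Subgroup.zpowers z) := IsPGroup.of_card hcard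
  let P' : Sylow p Γ := hPG.toSylow hidx
  have hP'coe : (P' : Subgroup Γ) = Subgroup.zpowers z := hPG.toSylow_coe hidx
  have hcent : ∀ x ∈ (P' : Subgroup Γ), ∀ g : Γ, g * x = x * g := by
    intro x hx g
    rw [hP'coe, Subgroup.mem_zpowers_iff] at hx
    obtain ⟨k, rfl⟩ := hx
    have : Commute g z := hz g
    exact (this.zpow_right k)
  have hP' : Subgroup.normalizer (P' : Set Γ) ≤ Subgroup.centralizer (P' : Set Γ) := by
    intro g _
    rw [Subgroup.mem_centralizer_iff]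
    intro x hx
    exact (hcent x hx g).symm
  set f := MonoidHom.transferSylow P' hP' with hf
  have hcompl : Subgroup.IsComplement' f.ker (P' : Subgroup Γ) :=
    MonoidHom.ker_transferSylow_isComplement' P' hP'
  have hcomm : ∀ a b : ↥(P' : Subgroup Γ), a * b = b * a := by
    intro a b
    apply Subtype.ext
    exact hcent b.1 b.2 a.1
  refine ⟨f.ker, MonoidHom.normal_ker f, MonoidHom.not_dvd_card_ker_transferSylow P' hP', ?_, ?_, ?_,
    ?_⟩
  · rw [hcompl.symm.index_eq_card, hP'coe, hcard, pow_one]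
  · intro x y
    rw [MonoidHom.mem_ker, map_commutatorElement, commutatorElement_eq_one_iff_commute]
    exact hcomm _ _
  · intro c
    obtain ⟨⟨k, h⟩, hkh⟩ := hcompl.2 c
    have hh : (h : Γ) ∈ Subgroup.zpowers z := by rw [← hP'coe]; exact h.2
    rw [← mem_powers_iff_mem_zpowers] at hh
    obtain ⟨j, hj⟩ := hh
    refine ⟨j, k, k.2, ?_⟩
    have hj' : z ^ j = (h : Γ) := hj
    rw [← hkh, hj']
    exact hcent h.1 h.2 k.1
  · intro ω hω
    have hzP : z ∈ (P' : Subgroup Γ) := by rw [hP'coe]; exact Subgroup.mem_zpowers z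
    let g0 : ↥(P' : Subgroup Γ) := ⟨z, hzP⟩
    have hg0 : ∀ x : ↥(P' : Subgroup Γ), x ∈ Subgroup.zpowers g0 := by
      intro x
      have hx : (x : Γ) ∈ Subgroup.zpowers z := by rw [← hP'coe]; exact x.2
      rw [Subgroup.mem_zpowers_iff] at hx ⊢
      obtain ⟨k, hk⟩ := hx
      exact ⟨k, Subtype.ext (by simpa using hk)⟩
    have hord : orderOf g0 = p := (Subgroup.orderOf_mk z hzP).trans hzo
    have hω' : orderOf ω ∣ orderOf g0 := by
      rw [hord]
      exact orderOf_dvd_of_pow_eq_one hω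
    let ψ : ↥(P' : Subgroup Γ) →* ℂˣ := monoidHomOfForallMemZpowers hg0 hω'
    have hψ : ψ g0 = ω := monoidHomOfForallMemZpowers_apply_gen hg0 hω'
    haveI : (f.ker).Normal := MonoidHom.normal_ker f
    let e : Γ ⧸ f.ker ≃* ↥(P' : Subgroup Γ) := hcompl.symm.QuotientMulEquiv
    have he : ∀ x : ↥(P' : Subgroup Γ), e ((x : Γ) : Γ ⧸ f.ker) = x := by
      intro x
      have : e.symm x = ((x : Γ) : Γ ⧸ f.ker) := rfl
      rw [← this, MulEquiv.apply_symm_apply]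
    refine ⟨ψ.comp (e.toMonoidHom.comp (QuotientGroup.mk' f.ker)), ?_, ?_⟩
    · simp only [MonoidHom.coe_comp, Function.comp_apply, QuotientGroup.mk'_apply,
        MulEquiv.toMonoidHom_eq_coe, MonoidHom.coe_coe]
      rw [show ((z : Γ) : Γ ⧸ f.ker) = ((g0 : Γ) : Γ ⧸ f.ker) from rfl, he g0, hψ]
    · intro k hk
      simp only [MonoidHom.coe_comp, Function.comp_apply, QuotientGroup.mk'_apply,
        MulEquiv.toMonoidHom_eq_coe, MonoidHom.coe_coe]
      rw [(QuotientGroup.eq_one_iff k).mpr hk, map_one, map_one]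

end structure_

section chars

variable {Γ : Type u} [Group Γ] [Fintype Γ] {p : ℕ} [hpp : Fact p.Prime] {M : Ideal AlgInt}

theorem conj_central (w a b : Γ) (hw : ∀ y : Γ, w * y = y * w) :
    w * a * b * (w * a)⁻¹ = a * b * a⁻¹ := by
  calc w * a * b * (w * a)⁻¹ = w * (a * b * a⁻¹) * w⁻¹ := by group
    _ = (a * b * a⁻¹) * w * w⁻¹ := by rw [hw]
    _ = a * b * a⁻¹ := by group

/-- a central element acts on an irreducible character by the scalar `centralChar φ z` -/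
theorem central_mul (φ : IrrCharacter Γ) (z : Γ) (hz : ∀ h : Γ, h * z = z * h) (c : Γ) :
    (φ : Γ → ℂ) (z * c) = centralChar (φ : Γ → ℂ) z * (φ : Γ → ℂ) c := by
  rw [← hz c]
  exact irr_mul_central φ z hz c

theorem pow_mul_of_scalar (φ : Γ → ℂ) (z : Γ) (ω : ℂ) (h : ∀ c : Γ, φ (z * c) = ω * φ c) (j : ℕ)
    (c : Γ) : φ (z ^ j * c) = ω ^ j * φ c := by
  induction j with
  | zero => simp
  | succ n ih => rw [pow_succ', mul_assoc, h, ih, pow_succ']; ring

/-- `z ∈ ker φ` for a central `z` with `φ z = φ 1` -/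
theorem mul_of_apply_eq (φ : IrrCharacter Γ) (z : Γ) (hz : ∀ h : Γ, h * z = z * h)
    (h1 : (φ : Γ → ℂ) z = (φ : Γ → ℂ) 1) (c : Γ) : (φ : Γ → ℂ) (z * c) = (φ : Γ → ℂ) c := by
  have h2 := central_mul φ z hz 1
  rw [mul_one, h1] at h2
  have h3 : centralChar (φ : Γ → ℂ) z = 1 := by
    have hne := Cfsg.Agent.Lib.Helper24.irr_apply_one_ne_zero φ
    have : (centralChar (φ : Γ → ℂ) z - 1) * (φ : Γ → ℂ) 1 = 0 := by
      rw [sub_mul, one_mul, ← h2, sub_self]
    rcases mul_eq_zero.mp this with h | h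
    · exact sub_eq_zero.mp h
    · exact absurd h hne
  rw [central_mul φ z hz c, h3, one_mul]

/-- members of the block of `θ` agree with `θ` on the normal `p`-complement -/
theorem apply_eq_of_mem_block (hM : IsPModular p M) (z : Γ) (hz : ∀ h : Γ, h * z = z * h)
    (K : Subgroup Γ) [hKn : K.Normal] (hKp : ¬ p ∣ Nat.card K) (hKi : K.index = p)
    (hab : ∀ x y : Γ, ⁅x, y⁆ ∈ K) (hdec : ∀ c : Γ, ∃ j : ℕ, ∃ k ∈ K, c = z ^ j * k)
    (θ φ : IrrCharacter Γ) (hφ : φ ∈ blockOf M (θ : Γ → ℂ)) (k : Γ) (hk : k ∈ K) :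
    (φ : Γ → ℂ) k = (θ : Γ → ℂ) k := by
  classical
  letI : Fintype K := Fintype.ofFinite K
  have hsb : SameBlock M (θ : Γ → ℂ) (φ : Γ → ℂ) := hφ
  obtain ⟨η, h1, h2⟩ := (sameBlock_iff_common_constituent hM K hKp ⟨1, by rw [hKi, pow_one]⟩ θ φ).mp hsb
  have hinv : ∀ g : Γ, conjFun K g (η : K → ℂ) = (η : K → ℂ) := by
    intro g
    funext n
    rw [conjFun_apply]
    obtain ⟨j, k0, hk0, rfl⟩ := hdec g
    have hcl := IsCharacter.isClassFunction (IsIrrCharacter.isCharacter η.2)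
    have h3 := hcl n ⟨k0, hk0⟩
    rw [← h3]
    refine congrArg _ (Subtype.ext ?_)
    simp only [Subgroup.coe_mul, InvMemClass.coe_inv]
    have hzc : ∀ y : Γ, z ^ j * y = y * z ^ j := by
      intro y
      have : Commute y z := hz y
      exact (this.pow_right j).symm
    exact conj_central (z ^ j) k0 n hzc
  have h4 := resFun_eq_of_abelian_quotient K hab η.2 hinv θ.2 φ.2 h1 h2
  have := congrFun h4 ⟨k, hk⟩
  rwa [resFun_apply, resFun_apply] at this

/-- **LOC2, abstract form** -/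
theorem abstract_main (hM : IsPModular p M) (z : Γ) (hz : ∀ h : Γ, h * z = z * h)
    (hzo : orderOf z = p) (hidx : ¬ p ∣ (Subgroup.zpowers z).index) (θ : IrrCharacter Γ)
    (hθ : (θ : Γ → ℂ) z = (θ : Γ → ℂ) 1) :
    (∀ ω : ℂ, ω ^ p = 1 → ∃! φ : IrrCharacter Γ, φ ∈ blockOf M (θ : Γ → ℂ) ∧
        ∀ c : Γ, (φ : Γ → ℂ) (z * c) = ω * (φ : Γ → ℂ) c) ∧
    (∀ φ ∈ blockOf M (θ : Γ → ℂ), ∀ y : Γ, ¬ p ∣ orderOf y →
      (φ : Γ → ℂ) y = (θ : Γ → ℂ) y) ∧
    (∀ φ ∈ blockOf M (θ : Γ → ℂ), (φ : Γ → ℂ) z = (φ : Γ → ℂ) 1 → φ = θ) := by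
  classical
  have hprime : M.IsPrime := isPrime_of_isPModular hM
  obtain ⟨K, hKn, hKp, hKi, hab, hdec, hlam⟩ := exists_complement z hz hzo hidx
  haveI := hKn
  have hK : ∀ φ ∈ blockOf M (θ : Γ → ℂ), ∀ k ∈ K, (φ : Γ → ℂ) k = (θ : Γ → ℂ) k :=
    fun φ hφ k hk => apply_eq_of_mem_block hM z hz K hKp hKi hab hdec θ φ hφ k hk
  have hreg : ∀ y : Γ, ¬ p ∣ orderOf y → y ∈ K := fun y hy =>
    mem_of_pRegular_of_index K ⟨1, by rw [hKi, pow_one]⟩ hy
  have hext : ∀ (φ φ' : IrrCharacter Γ) (ω : ℂ),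
      (∀ c : Γ, (φ : Γ → ℂ) (z * c) = ω * (φ : Γ → ℂ) c) →
      (∀ c : Γ, (φ' : Γ → ℂ) (z * c) = ω * (φ' : Γ → ℂ) c) →
      (∀ k ∈ K, (φ : Γ → ℂ) k = (φ' : Γ → ℂ) k) → φ = φ' := by
    intro φ φ' ω h1 h2 h3
    apply Subtype.ext
    funext c
    obtain ⟨j, k, hk, rfl⟩ := hdec c
    rw [pow_mul_of_scalar _ z ω h1, pow_mul_of_scalar _ z ω h2, h3 k hk]
  refine ⟨?_, ?_, ?_⟩
  · intro ω hω
    have hω0 : ω ≠ 0 := by
      intro h
      rw [h, zero_pow hpp.out.ne_zero] at hω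
      exact zero_ne_one hω
    obtain ⟨lam, hlamz, hlamK⟩ := hlam (Units.mk0 ω hω0) (by
      apply Units.ext
      simp [hω])
    set lamF : Γ → ℂ := fun g => ((lam g : ℂˣ) : ℂ) with hlamF
    have hlamC : IsCharacter Γ lamF := isCharacter_of_hom lam
    have hlam1 : lamF 1 = 1 := by simp [lamF]
    let φ : IrrCharacter Γ := ⟨lamF * (θ : Γ → ℂ), isIrrCharacter_linear_mul hlamC hlam1 θ.2⟩
    have hφK : ∀ k ∈ K, (φ : Γ → ℂ) k = (θ : Γ → ℂ) k := by
      intro k hk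
      show lamF k * (θ : Γ → ℂ) k = (θ : Γ → ℂ) k
      simp [lamF, hlamK k hk]
    have hφblock : φ ∈ blockOf M (θ : Γ → ℂ) := by
      show SameBlock M (θ : Γ → ℂ) (φ : Γ → ℂ)
      apply sameBlock_of_forall_pRegular hM θ φ
      intro g hg
      have : centralChar (θ : Γ → ℂ) g = centralChar (φ : Γ → ℂ) g := by
        unfold centralChar
        rw [hφK g (hreg g hg), hφK 1 K.one_mem]
      rw [this, sub_self]
      exact memLocalIdeal_zero hprime.one_notMem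
    have hφz : ∀ c : Γ, (φ : Γ → ℂ) (z * c) = ω * (φ : Γ → ℂ) c := by
      intro c
      show lamF (z * c) * (θ : Γ → ℂ) (z * c) = ω * (lamF c * (θ : Γ → ℂ) c)
      rw [mul_of_apply_eq θ z hz hθ c]
      simp only [lamF, map_mul, Units.val_mul, hlamz, Units.val_mk0]
      ring
    refine ⟨φ, ⟨hφblock, hφz⟩, ?_⟩
    rintro φ' ⟨h1, h2⟩
    exact hext φ' φ ω h2 hφz (fun k hk => by rw [hK φ' h1 k hk, hφK k hk])
  · intro φ hφ y hy
    exact hK φ hφ y (hreg y hy)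
  · intro φ hφ hφz
    exact hext φ θ 1 (fun c => by rw [one_mul]; exact mul_of_apply_eq φ z hz hφz c)
      (fun c => by rw [one_mul]; exact mul_of_apply_eq θ z hz hθ c) (hK φ hφ)

end chars

end Cfsg.Agent.Lib.Helper14.DOLOC2a
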