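import Mathlib
import Cfsg.Prelude.Def_BlockRank
import Cfsg.Agent.Lib.Helper27.DODefs
import Cfsg.Agent.Lib.Helper27.BlkAlgDefs2
import Cfsg.Agent.Lib.Helper14.DOLOC2a

/-!
# Defect-one cluster, Part O, leaf LOC2 (helper14): `block_of_pTriv`

The block of a `P`-trivial irreducible character `θ` of `C = C_G(P)` is `{λ_i × θ : i ∈ ℤ/p}`.
The group theory (`C = P × K`, Burnside transfer) and the character theory are in
`Helper14.DOLOC2a` (`exists_complement`, `abstract_main`); here: the transport to `Cz P`.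
-/

set_option autoImplicit false

namespace Cfsg.Agent.Lib.Helper14.DOLOC2

open Cfsg Cfsg.Agent.Lib.Helper8.DOM Cfsg.Agent.Lib.Helper27.DO Cfsg.Agent.Lib.Helper27.BlkAlg
open scoped ComplexConjugate

universe u

section setting

variable {G : Type u} [Group G]

theorem x0_mem_Cz (P : Subgroup G) (x0 : G) (hx0 : P = Subgroup.zpowers x0) : x0 ∈ Cz P := by
  rw [Subgroup.mem_centralizer_iff]
  intro y hy
  have hy' : y ∈ Subgroup.zpowers x0 := by rw [← hx0]; exact hy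
  rw [Subgroup.mem_zpowers_iff] at hy'
  obtain ⟨k, rfl⟩ := hy'
  exact (Commute.refl x0).zpow_left k

/-- the generator of `P` as an element of `C_G(P)` -/
def zC (P : Subgroup G) (x0 : G) (hx0 : P = Subgroup.zpowers x0) : Cz P :=
  ⟨x0, x0_mem_Cz P x0 hx0⟩

theorem zC_central (P : Subgroup G) (x0 : G) (hx0 : P = Subgroup.zpowers x0) (h : Cz P) :
    h * zC P x0 hx0 = zC P x0 hx0 * h := by
  apply Subtype.ext
  have h1 := Subgroup.mem_centralizer_iff.mp h.2 x0 (by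
    show x0 ∈ P
    rw [hx0]; exact Subgroup.mem_zpowers x0)
  exact h1.symm

theorem orderOf_x0 (P : Subgroup G) {p : ℕ} (hP : Nat.card P = p) (x0 : G)
    (hx0 : P = Subgroup.zpowers x0) : orderOf x0 = p := by
  rw [← Nat.card_zpowers, ← hx0, hP]

theorem orderOf_zC (P : Subgroup G) {p : ℕ} (hP : Nat.card P = p) (x0 : G)
    (hx0 : P = Subgroup.zpowers x0) : orderOf (zC P x0 hx0) = p :=
  (Subgroup.orderOf_mk x0 (x0_mem_Cz P x0 hx0)).trans (orderOf_x0 P hP x0 hx0)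

theorem not_dvd_index_zC [Finite G] (P : Subgroup G) {p : ℕ} (hp : p.Prime) (hP : Nat.card P = p)
    (hSyl : ¬ p ∣ P.index) (x0 : G) (hx0 : P = Subgroup.zpowers x0) :
    ¬ p ∣ (Subgroup.zpowers (zC P x0 hx0)).index := by
  intro hdvd
  apply hSyl
  have h1 : Nat.card (Subgroup.zpowers (zC P x0 hx0)) * (Subgroup.zpowers (zC P x0 hx0)).index =
      Nat.card (Cz P) := Subgroup.card_mul_index _
  rw [Nat.card_zpowers, orderOf_zC P hP x0 hx0] at h1
  have h2 : Nat.card (Cz P) ∣ Nat.card G := Subgroup.card_subgroup_dvd_card _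
  have h3 : Nat.card P * P.index = Nat.card G := Subgroup.card_mul_index _
  rw [hP] at h3
  obtain ⟨m, hm⟩ := hdvd
  have h4 : p * (p * m) ∣ p * P.index := by
    rw [h3, ← hm, h1]
    exact h2
  have h5 := Nat.dvd_of_mul_dvd_mul_left hp.pos h4
  exact Dvd.dvd.trans (Dvd.intro _ rfl) h5

theorem hasIdx_iff (P : Subgroup G) (p : ℕ) (x0 : G) (hx0 : P = Subgroup.zpowers x0)
    (φ : Cz P → ℂ) (i : ZMod p) :
    HasIdx p P x0 φ i ↔ ∀ c : Cz P, φ (zC P x0 hx0 * c) = zetaP p ^ i.val * φ c := by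
  constructor
  · intro h c
    exact h c (zC P x0 hx0 * c) rfl
  · intro h c c' hc'
    have : c' = zC P x0 hx0 * c := Subtype.ext hc'
    rw [this]
    exact h c

theorem zetaP_pow (p : ℕ) (hp : p ≠ 0) : zetaP p ^ p = 1 := by
  unfold zetaP
  rw [← Complex.exp_nat_mul]
  have : (p : ℂ) * (2 * Real.pi * Complex.I / p) = 2 * Real.pi * Complex.I := by
    have hp' : (p : ℂ) ≠ 0 := Nat.cast_ne_zero.mpr hp
    field_simp
  rw [this, Complex.exp_two_pi_mul_I]

end setting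

section main

variable {G : Type u} [Group G] [Finite G] {p : ℕ} [Fact p.Prime] {M : Ideal AlgInt}

/-- **LOC2** : the block of a `P`-trivial `θ` is `{λ_i × θ : i ∈ ℤ/p}`. -/
theorem block_of_pTriv (hM : IsPModular p M) (P : Subgroup G) (hP : Nat.card P = p)
    (hSyl : ¬ p ∣ P.index) (x0 : G) (hx0 : P = Subgroup.zpowers x0) (θ : IrrCharacter (Cz P))
    (hθP : PTriv P (θ : Cz P → ℂ)) :
    (∀ i : ZMod p, ∃! φ : IrrCharacter (Cz P),
      φ ∈ blockOf M (θ : Cz P → ℂ) ∧ HasIdx p P x0 (φ : Cz P → ℂ) i) ∧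
    (∀ φ ∈ blockOf M (θ : Cz P → ℂ), ∀ y : Cz P, ¬ p ∣ orderOf y →
      (φ : Cz P → ℂ) y = (θ : Cz P → ℂ) y) ∧
    (∀ φ ∈ blockOf M (θ : Cz P → ℂ), PTriv P (φ : Cz P → ℂ) → φ = θ) := by
  classical
  letI : Fintype ↥(Cz P) := Fintype.ofFinite _
  have hpp : p.Prime := Fact.out
  have hx0P : x0 ∈ P := by rw [hx0]; exact Subgroup.mem_zpowers x0
  obtain ⟨h1, h2, h3⟩ := Cfsg.Agent.Lib.Helper14.DOLOC2a.abstract_main hM (zC P x0 hx0)
    (zC_central P x0 hx0) (orderOf_zC P hP x0 hx0) (not_dvd_index_zC P hpp hP hSyl x0 hx0) θ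
    (hθP (zC P x0 hx0) hx0P)
  refine ⟨?_, h2, ?_⟩
  · intro i
    have hω : (zetaP p ^ i.val) ^ p = 1 := by
      rw [← pow_mul, mul_comm, pow_mul, zetaP_pow p hpp.ne_zero, one_pow]
    refine (existsUnique_congr fun φ => and_congr Iff.rfl ?_).mpr (h1 _ hω)
    exact hasIdx_iff P p x0 hx0 _ i
  · intro φ hφ hφP
    exact h3 φ hφ (hφP (zC P x0 hx0) hx0P)

end main

end Cfsg.Agent.Lib.Helper14.DOLOC2
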