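import Mathlib
import Cfsg.Prelude.Def_BlockRank
import Cfsg.Agent.Lib.Helper27.DODefs
import Cfsg.Agent.Lib.Helper27.BlkAlgDefs2
import Cfsg.Agent.Lib.Helper14.DOLOC2
import Cfsg.Agent.Lib.Helper10.KleinPILPROJ
import Cfsg.Agent.Lib.Helper6.Clifford

/-!
# Defect-one cluster, Part O, leaf MULT (helper14): `muC_eq_natCast`, `muZ_cast`
By LOC2.1 the finsum defining `muC` has exactly one term `mult χ φ_i = ⟨χ|_C, φ_i⟩ ∈ ℕ`.
-/

set_option autoImplicit false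

namespace Cfsg.Agent.Lib.Helper14.DOMULT

open Cfsg Cfsg.Agent.Lib.Helper8.DOM Cfsg.Agent.Lib.Helper27.DO Cfsg.Agent.Lib.Helper27.BlkAlg
open scoped ComplexConjugate

universe u

variable {G : Type u} [Group G] [Finite G] {p : ℕ} [Fact p.Prime] {M : Ideal AlgInt}

/-- `mult H χ φ` is the inner product `⟨χ|_H, φ⟩_H` -/
theorem mult_eq_classInner (H : Subgroup G) [Fintype H] (χ : G → ℂ) (φ : H → ℂ) :
    mult H χ φ = classInner (fun h : H => χ (h : G)) φ := by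
  unfold mult classInner
  rw [finsum_eq_sum_of_fintype]

/-- `muC` is the multiplicity of the unique member of the block of `θ` with central index `i` -/
theorem muC_eq_mult (hM : IsPModular p M) (P : Subgroup G) (hP : Nat.card P = p)
    (hSyl : ¬ p ∣ P.index) (x0 : G) (hx0 : P = Subgroup.zpowers x0) (θ : IrrCharacter (Cz P))
    (hθP : PTriv P (θ : Cz P → ℂ)) (χ : IrrCharacter G) (i : ZMod p) :
    ∃ φ : IrrCharacter (Cz P), φ ∈ blockOf M (θ : Cz P → ℂ) ∧ HasIdx p P x0 (φ : Cz P → ℂ) i ∧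
      muC p M P θ x0 χ i = mult (Cz P) (χ : G → ℂ) (φ : Cz P → ℂ) := by
  obtain ⟨φi, ⟨hφ1, hφ2⟩, huniq⟩ :=
    (Cfsg.Agent.Lib.Helper14.DOLOC2.block_of_pTriv hM P hP hSyl x0 hx0 θ hθP).1 i
  refine ⟨φi, hφ1, hφ2, ?_⟩
  have hset : {φ : IrrCharacter (Cz P) | φ ∈ blockOf M (θ : Cz P → ℂ) ∧
      HasIdx p P x0 (φ : Cz P → ℂ) i} = {φi} := by
    ext φ
    simp only [Set.mem_setOf_eq, Set.mem_singleton_iff]
    constructor
    · intro h
      exact huniq φ h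
    · rintro rfl
      exact ⟨hφ1, hφ2⟩
  unfold muC
  rw [hset, finsum_mem_singleton]

/-- **MULT a** -/
theorem muC_eq_natCast (hM : IsPModular p M) (P : Subgroup G) (hP : Nat.card P = p)
    (hSyl : ¬ p ∣ P.index) (x0 : G) (hx0 : P = Subgroup.zpowers x0) (θ : IrrCharacter (Cz P))
    (hθP : PTriv P (θ : Cz P → ℂ)) (χ : IrrCharacter G) (i : ZMod p) :
    ∃ m : ℕ, muC p M P θ x0 χ i = m := by
  classical
  letI : Fintype G := Fintype.ofFinite G
  letI : Fintype ↥(Cz P) := Fintype.ofFinite _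
  obtain ⟨φ, -, -, h⟩ := muC_eq_mult hM P hP hSyl x0 hx0 θ hθP χ i
  rw [h, mult_eq_classInner]
  exact Cfsg.Agent.Lib.Helper10.KleinPILPROJ.classInner_char_char
    (Cfsg.Agent.Lib.Helper6.isCharacter_resFun (Cz P)
      (Cfsg.Agent.CharLib.IsIrrCharacter.isCharacter χ.2))
    (Cfsg.Agent.CharLib.IsIrrCharacter.isCharacter φ.2)

/-- **MULT b** -/
theorem muZ_cast (hM : IsPModular p M) (P : Subgroup G) (hP : Nat.card P = p)
    (hSyl : ¬ p ∣ P.index) (x0 : G) (hx0 : P = Subgroup.zpowers x0) (θ : IrrCharacter (Cz P))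
    (hθP : PTriv P (θ : Cz P → ℂ)) (χ : IrrCharacter G) (i : ZMod p) :
    ((muZ p M P θ x0 χ i : ℤ) : ℂ) = muC p M P θ x0 χ i := by
  obtain ⟨m, hm⟩ := muC_eq_natCast hM P hP hSyl x0 hx0 θ hθP χ i
  unfold muZ
  rw [hm]
  simp

end Cfsg.Agent.Lib.Helper14.DOMULT
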