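import Cfsg.Agent.Lib.Helper17.SLMDefs

/-!
SLnMax market (helper17; rows S5775 ... S5862): toolkit for the block Q "lines" leaves (helper14):
a decomposition into lines gives a basis in which the stabiliser is monomial.  Any field.
-/

set_option autoImplicit false
set_option linter.unusedSectionVars false
set_option linter.unusedVariables false

namespace Cfsg.Agent.Lib.Helper14.SLMLeaf

open Cfsg.Geo Matrix Module Cfsg.Agent.Lib.Helper17.SLM

variable {n : ℕ} {F : Type*} [Field F]

/-- a decomposition into lines: a basis `b` with `D i = span {b i}` -/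
theorem exists_lines_basis {t : ℕ} {D : Fin t → Submodule F (Fin n → F)} (hD : IsMDecomposition 1 D) :
    ∃ b : Basis (Fin t) F (Fin n → F), ∀ i, D i = Submodule.span F {b i} := by
  classical
  have h1 : ∀ i, ∃ d : Fin n → F, d ≠ 0 ∧ D i = Submodule.span F {d} := by
    intro i
    obtain ⟨v, hv0, hv⟩ := (finrank_eq_one_iff' (K := F) (V := D i)).1 (hD.finrank_eq i)
    refine ⟨(v : Fin n → F), fun h => hv0 (Subtype.ext h), ?_⟩
    apply le_antisymm
    · intro w hw
      obtain ⟨c, hc⟩ := hv ⟨w, hw⟩
      rw [Submodule.mem_span_singleton]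
      exact ⟨c, congrArg Subtype.val hc⟩
    · rw [Submodule.span_singleton_le_iff_mem]
      exact v.2
  choose d hd0 hd using h1
  have hmem : ∀ i, d i ∈ D i := by
    intro i
    rw [hd i]
    exact Submodule.mem_span_singleton_self _
  have hli : LinearIndependent F d := hD.indep.linearIndependent D hmem hd0
  have hsp : ⊤ ≤ Submodule.span F (Set.range d) := by
    rw [Submodule.span_range_eq_iSup, ← hD.iSup_eq_top]
    apply iSup_mono
    intro i
    rw [hd i]
  refine ⟨Basis.mk hli hsp, fun i => ?_⟩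
  rw [Basis.mk_apply]
  exact hd i

/-- in such a basis the stabiliser is monomial -/
theorem stab_monomial {t : ℕ} {D : Fin t → Submodule F (Fin n → F)} (b : Basis (Fin t) F (Fin n → F))
    (hb : ∀ i, D i = Submodule.span F {b i}) {g : GL (Fin n) F} (hg : g ∈ decompositionStabilizer D) :
    ∃ (σ : Equiv.Perm (Fin t)) (c : Fin t → F), (∀ i, c i ≠ 0) ∧
      ∀ i, (g : Matrix (Fin n) (Fin n) F) *ᵥ b i = c i • b (σ i) := by
  classical
  obtain ⟨σ, hσ⟩ := hg
  have h1 : ∀ i, ∃ c : F, c • b (σ i) = (g : Matrix (Fin n) (Fin n) F) *ᵥ b i := by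
    intro i
    have hmem : (g : Matrix (Fin n) (Fin n) F) *ᵥ b i ∈ D (σ i) := by
      rw [← hσ i]
      refine ⟨b i, ?_, ?_⟩
      · rw [hb i]; exact Submodule.mem_span_singleton_self _
      · rw [Matrix.toLin'_apply]
    rw [hb (σ i), Submodule.mem_span_singleton] at hmem
    exact hmem
  choose c hc using h1
  refine ⟨σ, c, fun i hci => ?_, fun i => (hc i).symm⟩
  have h2 : (g : Matrix (Fin n) (Fin n) F) *ᵥ b i = 0 := by rw [← hc i, hci, zero_smul]
  have h3 := congrArg (fun v => ((g⁻¹ : GL (Fin n) F) : Matrix (Fin n) (Fin n) F) *ᵥ v) h2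
  simp only [Matrix.mulVec_mulVec, ← Units.val_mul, inv_mul_cancel, Units.val_one, Matrix.one_mulVec,
    Matrix.mulVec_zero] at h3
  exact b.ne_zero i h3

/-- coordinates of `g v` in the monomial situation -/
theorem repr_monomial {t : ℕ} (b : Basis (Fin t) F (Fin n → F)) (M : Matrix (Fin n) (Fin n) F)
    (σ : Equiv.Perm (Fin t)) (c : Fin t → F) (hM : ∀ i, M *ᵥ b i = c i • b (σ i)) (v : Fin n → F) (i : Fin t) :
    b.repr (M *ᵥ v) (σ i) = c i * b.repr v i := by
  classical
  have hv : v = ∑ j, b.repr v j • b j := (b.sum_repr v).symm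
  have h1 : M *ᵥ v = ∑ j, (c (σ.symm j) * b.repr v (σ.symm j)) • b j := by
    conv_lhs => rw [hv]
    rw [Matrix.mulVec_sum]
    simp only [Matrix.mulVec_smul, hM, smul_smul]
    rw [← Equiv.sum_comp σ (fun j => (c (σ.symm j) * b.repr v (σ.symm j)) • b j)]
    apply Finset.sum_congr rfl
    intro j _
    rw [Equiv.symm_apply_apply, mul_comm]
  rw [h1, Basis.repr_sum_self, Equiv.symm_apply_apply]

/-- the number of lines is the dimension -/
theorem lines_card {t : ℕ} (b : Basis (Fin t) F (Fin n → F)) : t = n := by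
  have h1 := Module.finrank_eq_card_basis b
  rw [Module.finrank_fin_fun, Fintype.card_fin] at h1
  exact h1.symm

end Cfsg.Agent.Lib.Helper14.SLMLeaf
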