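import Cfsg.Agent.Lib.Helper17.SLMDefs
import Cfsg.Agent.Lib.Helper14.SLMLines

/-!
SLnMax market (helper17; rows S5775 ... S5862): leaf Q1 `lines_two` (exact signature of notes/SLnMax_leaves.lean).
Taker: helper14.
-/

set_option autoImplicit false
set_option linter.unusedSectionVars false
set_option linter.unusedVariables false

namespace Cfsg.Agent.Lib.Helper14.SLMLeaf

open Cfsg.Geo Matrix Module Cfsg.Agent.Lib.Helper17.SLM

variable {n : ℕ} {F : Type*} [Field F] [Fintype F]

/-- in the field with two elements the only non-zero element is `1` -/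
theorem eq_one_of_card_two (hq : Fintype.card F = 2) {x : F} (hx : x ≠ 0) : x = 1 := by
  classical
  have h1 : Fintype.card Fˣ = 1 := by rw [Fintype.card_units, hq]
  have h2 : Subsingleton Fˣ := Fintype.card_le_one_iff_subsingleton.1 h1.le
  have h3 : Units.mk0 x hx = 1 := Subsingleton.elim _ _
  exact congrArg Units.val h3

/-- membership in `subspaceStabilizer` from invariance of all elements of a subgroup -/
theorem le_subspaceStabilizer_of_invariant (S : Subgroup (GL (Fin n) F)) (W : Submodule F (Fin n → F))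
    (h : ∀ g ∈ S, ∀ v ∈ W, (g : Matrix (Fin n) (Fin n) F) *ᵥ v ∈ W) : S ≤ subspaceStabilizer W := by
  intro g hg v
  change v ∈ W ↔ (g : Matrix (Fin n) (Fin n) F) *ᵥ v ∈ W
  constructor
  · exact h g hg v
  · intro hv
    have h2 := h g⁻¹ (S.inv_mem hg) _ hv
    simpa [Matrix.mulVec_mulVec, ← Units.val_mul] using h2

/-- Q1.  `q = 2`: each line `D i` has exactly one non-zero vector `d i`; the stabiliser permutes them, so it fixes
`w = Σ d i`; `W := span {w}` (`w ≠ 0` by independence, `W ≠ ⊤` as `n = t ≥ 2`). -/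
theorem lines_two (hq : Fintype.card F = 2) {t : ℕ} {D : Fin t → Submodule F (Fin n → F)}
    (hD : IsMDecomposition 1 D) :
    ∃ W : Submodule F (Fin n → F), W ≠ ⊥ ∧ W ≠ ⊤ ∧ decompositionStabilizer D ≤ subspaceStabilizer W := by
  classical
  obtain ⟨b, hb⟩ := exists_lines_basis hD
  have htn : t = n := lines_card b
  have ht2 : 2 ≤ t := hD.two_le
  set w : Fin n → F := ∑ i, b i with hw
  have hw0 : w ≠ 0 := by
    intro h0
    have h1 : b.repr w ⟨0, by omega⟩ = 1 := by
      have : w = ∑ i, (1 : F) • b i := by simp [hw]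
      rw [this, Basis.repr_sum_self]
    rw [h0] at h1
    simp at h1
  refine ⟨Submodule.span F {w}, ?_, ?_, ?_⟩
  · intro h
    have : w ∈ (⊥ : Submodule F (Fin n → F)) := h ▸ Submodule.mem_span_singleton_self w
    exact hw0 ((Submodule.mem_bot F).1 this)
  · intro h
    have h1 : Module.finrank F (Submodule.span F {w}) = 1 := finrank_span_singleton hw0
    rw [h, finrank_top, Module.finrank_fin_fun] at h1
    omega
  · apply le_subspaceStabilizer_of_invariant
    intro g hg v hv
    obtain ⟨σ, c, hc0, hc⟩ := stab_monomial b hb hg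
    have hgw : (g : Matrix (Fin n) (Fin n) F) *ᵥ w = w := by
      rw [hw, Matrix.mulVec_sum]
      simp only [hc]
      have : ∀ i, c i • b (σ i) = b (σ i) := fun i => by rw [eq_one_of_card_two hq (hc0 i), one_smul]
      simp only [this]
      exact Equiv.sum_comp σ (fun i => b i)
    rw [Submodule.mem_span_singleton] at hv ⊢
    obtain ⟨a, rfl⟩ := hv
    exact ⟨a, by rw [Matrix.mulVec_smul, hgw]⟩

end Cfsg.Agent.Lib.Helper14.SLMLeaf
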