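import Cfsg.Agent.Lib.Helper17.SLMDefs
import Cfsg.Agent.Lib.Helper14.SLMQ1

/-!
SLnMax market (helper17; rows S5775 ... S5862): leaf Q4 `planes_two` (exact signature of notes/SLnMax_leaves.lean).
Taker: helper14.
-/

set_option autoImplicit false
set_option linter.unusedSectionVars false
set_option linter.unusedVariables false

namespace Cfsg.Agent.Lib.Helper14.SLMLeaf

open Cfsg.Geo Matrix Module Cfsg.Agent.Lib.Helper17.SLM

variable {n : ℕ} {F : Type*} [Field F]

/-- the 2-dimensional alternating form on the `i`-th plane, in the coordinates of a basis indexed by `Σ _ : Fin t, Fin 2` -/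
noncomputable def omB {t : ℕ} (B : Basis (Σ _ : Fin t, Fin 2) F (Fin n → F)) (i : Fin t) (u w : Fin n → F) : F :=
  B.repr u ⟨i, 0⟩ * B.repr w ⟨i, 1⟩ - B.repr u ⟨i, 1⟩ * B.repr w ⟨i, 0⟩

/-- the orthogonal sum of the 2-dimensional alternating forms -/
noncomputable def symB {t : ℕ} (B : Basis (Σ _ : Fin t, Fin 2) F (Fin n → F)) (u w : Fin n → F) : F :=
  ∑ i, omB B i u w

section
variable {t : ℕ} (B : Basis (Σ _ : Fin t, Fin 2) F (Fin n → F))

theorem repr_self_apply (a c : Σ _ : Fin t, Fin 2) : B.repr (B a) c = if c = a then 1 else 0 := by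
  classical
  rw [Basis.repr_self, Finsupp.single_apply]
  by_cases h : a = c
  · subst h; simp
  · rw [if_neg h, if_neg (fun h' => h h'.symm)]

/-- coordinates of `M u` when `M` maps the `i`-th plane into the `τ i`-th plane -/
theorem repr_block (D : Fin t → Submodule F (Fin n → F)) (hB : ∀ a, B a ∈ D a.1)
    (hne : ∀ (x : Fin n → F) (i j : Fin t), i ≠ j → x ∈ D i → ∀ k, B.repr x ⟨j, k⟩ = 0)
    (M : Matrix (Fin n) (Fin n) F) (τ : Equiv.Perm (Fin t)) (hM : ∀ i, ∀ x ∈ D i, M *ᵥ x ∈ D (τ i))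
    (u : Fin n → F) (i : Fin t) (l : Fin 2) :
    B.repr (M *ᵥ u) ⟨τ i, l⟩ = B.repr u ⟨i, 0⟩ * B.repr (M *ᵥ B ⟨i, 0⟩) ⟨τ i, l⟩ +
      B.repr u ⟨i, 1⟩ * B.repr (M *ᵥ B ⟨i, 1⟩) ⟨τ i, l⟩ := by
  classical
  have hu : u = ∑ a, B.repr u a • B a := (B.sum_repr u).symm
  have h1 : B.repr (M *ᵥ u) ⟨τ i, l⟩ = ∑ a, B.repr u a * B.repr (M *ᵥ B a) ⟨τ i, l⟩ := by
    conv_lhs => rw [hu]
    rw [Matrix.mulVec_sum, map_sum, Finsupp.finset_sum_apply]
    apply Finset.sum_congr rfl
    intro a _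
    rw [Matrix.mulVec_smul, map_smul, Finsupp.smul_apply, smul_eq_mul]
  rw [h1, Fintype.sum_sigma, Finset.sum_eq_single i]
  · rw [Fin.sum_univ_two]
  · intro j _ hji
    apply Finset.sum_eq_zero
    intro k _
    have hmem : M *ᵥ B ⟨j, k⟩ ∈ D (τ j) := hM j _ (hB ⟨j, k⟩)
    have hτ : τ j ≠ τ i := fun h => hji (τ.injective h)
    rw [hne _ (τ j) (τ i) hτ hmem l, mul_zero]
  · intro h; exact absurd (Finset.mem_univ i) h

/-- the block determinant -/
noncomputable def detB (M : Matrix (Fin n) (Fin n) F) (τ : Equiv.Perm (Fin t)) (i : Fin t) : F :=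
  B.repr (M *ᵥ B ⟨i, 0⟩) ⟨τ i, 0⟩ * B.repr (M *ᵥ B ⟨i, 1⟩) ⟨τ i, 1⟩ -
    B.repr (M *ᵥ B ⟨i, 1⟩) ⟨τ i, 0⟩ * B.repr (M *ᵥ B ⟨i, 0⟩) ⟨τ i, 1⟩

theorem omB_map (D : Fin t → Submodule F (Fin n → F)) (hB : ∀ a, B a ∈ D a.1)
    (hne : ∀ (x : Fin n → F) (i j : Fin t), i ≠ j → x ∈ D i → ∀ k, B.repr x ⟨j, k⟩ = 0)
    (M : Matrix (Fin n) (Fin n) F) (τ : Equiv.Perm (Fin t)) (hM : ∀ i, ∀ x ∈ D i, M *ᵥ x ∈ D (τ i))
    (u w : Fin n → F) (i : Fin t) :
    omB B (τ i) (M *ᵥ u) (M *ᵥ w) = detB B M τ i * omB B i u w := by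
  unfold omB detB
  rw [repr_block B D hB hne M τ hM u i 0, repr_block B D hB hne M τ hM u i 1,
    repr_block B D hB hne M τ hM w i 0, repr_block B D hB hne M τ hM w i 1]
  ring

theorem omB_basis (i : Fin t) : omB B i (B ⟨i, 0⟩) (B ⟨i, 1⟩) = 1 := by
  unfold omB
  simp only [repr_self_apply]
  simp

end

variable [Fintype F]

/-- Q4.  `q = 2`, planes: bases `(a_i, b_i)` of the `D i`; `f` := the orthogonal sum of the forms with `f a_i b_i = 1`;
an element of the stabiliser maps `D i` onto `D (σ i)` by a map of determinant `1` (`F^× = 1`), which preserves the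
2-dimensional symplectic forms. -/
theorem planes_two (hq : Fintype.card F = 2) {t : ℕ} {D : Fin t → Submodule F (Fin n → F)}
    (hD : IsMDecomposition 2 D) :
    ∃ f : (Fin n → F) → (Fin n → F) → F, IsSymplecticForm f ∧
      decompositionStabilizer D ≤ similarityGroup f := by
  classical
  have hint : DirectSum.IsInternal D :=
    DirectSum.isInternal_submodule_of_iSupIndep_of_iSup_eq_top hD.indep hD.iSup_eq_top
  let v : ∀ i, Basis (Fin 2) F (D i) := fun i => Module.finBasisOfFinrankEq F (D i) (hD.finrank_eq i)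
  let B : Basis (Σ _ : Fin t, Fin 2) F (Fin n → F) := hint.collectedBasis v
  have hB : ∀ a, B a ∈ D a.1 := fun a => hint.collectedBasis_mem v a
  have hne : ∀ (x : Fin n → F) (i j : Fin t), i ≠ j → x ∈ D i → ∀ k, B.repr x ⟨j, k⟩ = 0 :=
    fun x i j hij hx k => hint.collectedBasis_repr_of_mem_ne v hij hx
  refine ⟨symB B, ⟨⟨?_, ?_, ?_, ?_⟩, ?_, ?_, ?_⟩, ?_⟩
  · intro x y w
    unfold symB omB
    rw [← Finset.sum_add_distrib]
    apply Finset.sum_congr rfl
    intro i _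
    simp only [map_add, Finsupp.add_apply]
    ring
  · intro c x w
    unfold symB omB
    rw [Finset.mul_sum]
    apply Finset.sum_congr rfl
    intro i _
    simp only [map_smul, Finsupp.smul_apply, smul_eq_mul]
    ring
  · intro w x y
    unfold symB omB
    rw [← Finset.sum_add_distrib]
    apply Finset.sum_congr rfl
    intro i _
    simp only [map_add, Finsupp.add_apply]
    ring
  · intro c w x
    unfold symB omB
    rw [Finset.mul_sum]
    apply Finset.sum_congr rfl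
    intro i _
    simp only [map_smul, Finsupp.smul_apply, smul_eq_mul]
    ring
  · -- skew
    intro u w
    unfold symB omB
    rw [← Finset.sum_neg_distrib]
    apply Finset.sum_congr rfl
    intro i _
    ring
  · -- alternating
    intro u
    unfold symB omB
    apply Finset.sum_eq_zero
    intro i _
    ring
  · -- nondegenerate
    intro u hu
    obtain ⟨a, ha⟩ : ∃ a, B.repr u a ≠ 0 := by
      by_contra hcon
      push Not at hcon
      apply hu
      have : B.repr u = 0 := Finsupp.ext hcon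
      exact (LinearEquiv.map_eq_zero_iff B.repr).1 this
    obtain ⟨i, k⟩ := a
    -- the partner index
    have hsum1 : ∀ (a' : Σ _ : Fin t, Fin 2) (w : Fin n → F),
        symB B (B a') w = B.repr (B a') ⟨a'.1, 0⟩ * B.repr w ⟨a'.1, 1⟩ -
          B.repr (B a') ⟨a'.1, 1⟩ * B.repr w ⟨a'.1, 0⟩ := by
      intro a' w
      unfold symB
      rw [Finset.sum_eq_single a'.1]
      · rfl
      · intro j _ hj
        unfold omB
        rw [hne (B a') a'.1 j (fun h => hj h.symm) (hB a') 0, hne (B a') a'.1 j (fun h => hj h.symm) (hB a') 1]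
        ring
      · intro h; exact absurd (Finset.mem_univ _) h
    have hsum2 : ∀ (a' : Σ _ : Fin t, Fin 2) (w : Fin n → F),
        symB B w (B a') = B.repr w ⟨a'.1, 0⟩ * B.repr (B a') ⟨a'.1, 1⟩ -
          B.repr w ⟨a'.1, 1⟩ * B.repr (B a') ⟨a'.1, 0⟩ := by
      intro a' w
      unfold symB
      rw [Finset.sum_eq_single a'.1]
      · rfl
      · intro j _ hj
        unfold omB
        rw [hne (B a') a'.1 j (fun h => hj h.symm) (hB a') 0, hne (B a') a'.1 j (fun h => hj h.symm) (hB a') 1]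
        ring
      · intro h; exact absurd (Finset.mem_univ _) h
    have h01 : (⟨i, (0 : Fin 2)⟩ : Σ _ : Fin t, Fin 2) ≠ ⟨i, 1⟩ := by
      intro h
      have := (Sigma.mk.inj_iff.1 h).2
      simp at this
    have r00 : B.repr (B ⟨i, 0⟩) ⟨i, 0⟩ = 1 := by rw [repr_self_apply, if_pos rfl]
    have r01 : B.repr (B ⟨i, 0⟩) ⟨i, 1⟩ = 0 := by rw [repr_self_apply, if_neg h01.symm]
    have r10 : B.repr (B ⟨i, 1⟩) ⟨i, 0⟩ = 0 := by rw [repr_self_apply, if_neg h01]
    have r11 : B.repr (B ⟨i, 1⟩) ⟨i, 1⟩ = 1 := by rw [repr_self_apply, if_pos rfl]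
    have hk : k = 0 ∨ k = 1 := by
      rcases k with ⟨k, hk⟩
      interval_cases k
      · left; rfl
      · right; rfl
    rcases hk with rfl | rfl
    · -- coordinate `(i, 0)` is non-zero: pair with `B (i, 1)`
      refine ⟨⟨B ⟨i, 1⟩, ?_⟩, ⟨B ⟨i, 1⟩, ?_⟩⟩
      · rw [hsum1 ⟨i, 1⟩ u, r10, r11, zero_mul, zero_sub, one_mul]
        exact neg_ne_zero.2 ha
      · rw [hsum2 ⟨i, 1⟩ u, r10, r11, mul_zero, sub_zero, mul_one]
        exact ha
    · refine ⟨⟨B ⟨i, 0⟩, ?_⟩, ⟨B ⟨i, 0⟩, ?_⟩⟩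
      · rw [hsum1 ⟨i, 0⟩ u, r00, r01, zero_mul, sub_zero, one_mul]
        exact ha
      · rw [hsum2 ⟨i, 0⟩ u, r00, r01, mul_zero, zero_sub, mul_one]
        exact neg_ne_zero.2 ha
  · -- invariance
    intro g hg
    obtain ⟨σ, hσ⟩ := hg
    refine ⟨1, fun u w => ?_⟩
    rw [Units.val_one, one_mul]
    set M : Matrix (Fin n) (Fin n) F := (g : Matrix (Fin n) (Fin n) F) with hMdef
    set M' : Matrix (Fin n) (Fin n) F := ((g⁻¹ : GL (Fin n) F) : Matrix (Fin n) (Fin n) F) with hM'def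
    have hM'M : ∀ x, M' *ᵥ (M *ᵥ x) = x := by
      intro x
      rw [Matrix.mulVec_mulVec, hM'def, hMdef, ← Units.val_mul, inv_mul_cancel, Units.val_one, Matrix.one_mulVec]
    have hM : ∀ i, ∀ x ∈ D i, M *ᵥ x ∈ D (σ i) := by
      intro i x hx
      rw [← hσ i]
      exact ⟨x, hx, by rw [Matrix.toLin'_apply]⟩
    have hM' : ∀ i, ∀ x ∈ D i, M' *ᵥ x ∈ D (σ.symm i) := by
      intro i x hx
      have h1 := hσ (σ.symm i)
      rw [Equiv.apply_symm_apply] at h1
      rw [← h1] at hx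
      obtain ⟨y, hy, hyx⟩ := hx
      rw [Matrix.toLin'_apply] at hyx
      rw [← hyx, hM'M]
      exact hy
    have hdet : ∀ i, detB B M σ i = 1 := by
      intro i
      apply eq_one_of_card_two hq
      intro h0
      have h1 := omB_map B D hB hne M σ hM (B ⟨i, 0⟩) (B ⟨i, 1⟩) i
      have h2 := omB_map B D hB hne M' σ.symm hM' (M *ᵥ B ⟨i, 0⟩) (M *ᵥ B ⟨i, 1⟩) (σ i)
      rw [hM'M, hM'M, Equiv.symm_apply_apply, omB_basis, h1, h0, zero_mul, mul_zero] at h2
      exact one_ne_zero h2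
    unfold symB
    rw [← Equiv.sum_comp σ (fun j => omB B j (M *ᵥ u) (M *ᵥ w))]
    apply Finset.sum_congr rfl
    intro i _
    rw [omB_map B D hB hne M σ hM u w i, hdet i, one_mul]

end Cfsg.Agent.Lib.Helper14.SLMLeaf
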