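import Mathlib
import Cfsg.Agent.Lib.Helper12.U3Defs
import Cfsg.Agent.Lib.Helper22.U3INVKOf

/-!
helper14: S2148 market "U3", leaf JPROPS: the element `j = diag(-1,1,-1)` of `LL` is an involution
(over helper22's `j_data`).
-/

set_option autoImplicit false

namespace Cfsg.Agent.Lib.Helper14.U3Leaf

open Cfsg.Agent.Lib.Helper18.PSUMod Cfsg.Agent.Lib.Helper5.HermBridge Cfsg.Agent.Lib.Helper12.U3
open Cfsg.Agent.Lib.Helper13

section borel

variable {F : Type*} [Field F] [Fintype F] {q : ℕ} (hF : Fintype.card F = q ^ 2)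

/-- B7b JPROPS -/
theorem j_props (hq : Odd q) (j : GG hF) (hj : j ∈ LL hF) (hca : ca j = -1) :
    j * j = 1 ∧ j ≠ 1 := by
  obtain ⟨hcb, hB⟩ := Cfsg.Agent.Lib.Helper22.U3Leaf.j_data hF hj hca
  have h2 : (2 : F) ≠ 0 := Cfsg.Agent.Lib.Helper22.U3Leaf.two_ne_zero_of_odd hF hq
  have he : av j ve = (-1 : F) • (ve : V F 1) := by
    rw [av_ve_of_mem_Pe hj.1, hca]
  have hf : av j vf = (-1 : F) • (vf : V F 1) := by
    rw [av_vf_of_mem_Pf hj.2, hcb]
  have hw : ∀ w : Fin 1 → F, av j (vw w) = vw w := by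
    intro w
    rw [av_vw_of_mem_Le hj, hB]
  refine ⟨?_, ?_⟩
  · apply av_ext3
    · rw [av_mul, he, av_smul, he, smul_smul, av_one]; simp
    · rw [av_mul, hf, av_smul, hf, smul_smul, av_one]; simp
    · intro w
      rw [av_mul, hw, hw, av_one]
  · intro h1
    rw [h1] at hca
    have : ca (1 : GG hF) = 1 := by simp [ca, ve]
    rw [this] at hca
    apply h2
    linear_combination hca

end borel

end Cfsg.Agent.Lib.Helper14.U3Leaf
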