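import Mathlib
import Cfsg.Prelude.Def_Classical
import Cfsg.Agent.Lib.Helper14.Om2INST

/-!
helper14: transfer of a lower bound for the index of proper subgroups from `Ω(⇑(plusQ m))` to
`Cfsg.POmega F (Cfsg.quadFormPlus m F)` (S2146 market, for helper11's MAIN).
-/

set_option autoImplicit false

namespace Cfsg.Agent.Lib.Helper14.Om2Leaf

open Cfsg.Agent.Lib.Helper25.MaxTS

/-- a lower bound for the index of proper subgroups passes to quotients -/
theorem quotient_index_ge {G : Type*} [Group G] (N : Subgroup G) [N.Normal] (M : ℕ)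
    (h : ∀ H : Subgroup G, H ≠ ⊤ → M ≤ H.index) (H : Subgroup (G ⧸ N)) (hH : H ≠ ⊤) :
    M ≤ H.index := by
  have hs : Function.Surjective (QuotientGroup.mk' N) := QuotientGroup.mk'_surjective N
  rw [← Subgroup.index_comap_of_surjective H hs]
  apply h
  intro h'
  apply hH
  apply Subgroup.comap_injective hs
  rw [h', Subgroup.comap_top]

/-- transfer along the equality of functions `Q = Q'` -/
theorem pomega_index_ge_of_eq {ι : Type} [Fintype ι] [DecidableEq ι] {F : Type*} [Field F]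
    (Q Q' : (ι → F) → F) (hQ : Q = Q') (M : ℕ)
    (h : ∀ H : Subgroup ↥(Cfsg.Omega F Q), H ≠ ⊤ → M ≤ H.index)
    (H : Subgroup (Cfsg.POmega F Q')) (hH : H ≠ ⊤) : M ≤ H.index := by
  subst hQ
  exact quotient_index_ge _ M h H hH

/-- from `Ω(⇑(plusQ m))` to `PΩ(quadFormPlus m F)` -/
theorem pomega_index_ge_of {F : Type*} [Field F] (m : ℕ) (M : ℕ)
    (h : ∀ H : Subgroup ↥(Cfsg.Omega F ⇑(plusQ (F := F) m)), H ≠ ⊤ → M ≤ H.index)
    (H : Subgroup (Cfsg.POmega F (Cfsg.quadFormPlus m F))) (hH : H ≠ ⊤) : M ≤ H.index :=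
  pomega_index_ge_of_eq _ _ (coe_plusQ m) M h H hH

end Cfsg.Agent.Lib.Helper14.Om2Leaf
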