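import Mathlib
import Cfsg.Prelude.Def_Classical
import Cfsg.Agent.Lib.Helper14.HermCount
import Cfsg.Agent.Lib.Helper14.Unitary3
import Cfsg.Agent.Lib.Helper5.SUGen

/-!
helper14: existence half of S2153 (market "SU2", planner helper11): `PSU_n(2)`, `n` even, `n ≥ 4`, has a subgroup of index
`2^(n-1) (2^n - 1) / 3` (the stabilizer of a non-isotropic point).
-/

set_option autoImplicit false

namespace Cfsg.Agent.Lib.Helper14.SU2EX

open Cfsg Cfsg.Agent.Lib.Helper14 Cfsg.Agent.Lib.Helper5.SUGen Cfsg.Agent.Lib.Helper5.HermBridge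
  Cfsg.Agent.Lib.Helper5.UForm

section general

variable {F : Type*} [Field F] {q n : ℕ}

/-- the non-isotropic points `⟨v⟩`, `h(v,v) = 1` -/
def NP (F : Type*) [Field F] (q n : ℕ) : Type _ :=
  {P : Submodule F (Fin n → F) // ∃ v : Fin n → F, Cfsg.hermForm n F q v v = 1 ∧ P = Submodule.span F {v}}

theorem map_span_av (A : ↥(Cfsg.SU n F q)) (v : Fin n → F) :
    (Submodule.span F {v}).map (Matrix.mulVecLin
      ((A : Matrix.SpecialLinearGroup (Fin n) F) : Matrix (Fin n) (Fin n) F)) =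
      Submodule.span F {av A v} := by
  rw [Submodule.map_span, Set.image_singleton]
  rfl

noncomputable instance : MulAction ↥(Cfsg.SU n F q) (NP F q n) where
  smul A P := ⟨P.1.map (Matrix.mulVecLin
      ((A : Matrix.SpecialLinearGroup (Fin n) F) : Matrix (Fin n) (Fin n) F)), by
    obtain ⟨v, hv, hP⟩ := P.2
    refine ⟨av A v, ?_, ?_⟩
    · rw [av_iso, hv]
    · rw [hP, map_span_av]⟩
  one_smul P := by
    apply Subtype.ext
    show P.1.map (Matrix.mulVecLin
      (((1 : ↥(Cfsg.SU n F q)) : Matrix.SpecialLinearGroup (Fin n) F) : Matrix (Fin n) (Fin n) F)) = P.1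
    rw [Subgroup.coe_one, Matrix.SpecialLinearGroup.coe_one, Matrix.mulVecLin_one]
    exact Submodule.map_id _
  mul_smul A B P := by
    apply Subtype.ext
    show P.1.map (Matrix.mulVecLin
      (((A * B : ↥(Cfsg.SU n F q)) : Matrix.SpecialLinearGroup (Fin n) F) : Matrix (Fin n) (Fin n) F)) =
      (P.1.map (Matrix.mulVecLin
        ((B : Matrix.SpecialLinearGroup (Fin n) F) : Matrix (Fin n) (Fin n) F))).map (Matrix.mulVecLin
        ((A : Matrix.SpecialLinearGroup (Fin n) F) : Matrix (Fin n) (Fin n) F))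
    rw [Subgroup.coe_mul, Matrix.SpecialLinearGroup.coe_mul, Matrix.mulVecLin_mul, Submodule.map_comp]

/-- the point of a vector of norm one -/
def NP.mk (v : Fin n → F) (hv : Cfsg.hermForm n F q v v = 1) : NP F q n :=
  ⟨Submodule.span F {v}, v, hv, rfl⟩

theorem NP.exists_rep (P : NP F q n) :
    ∃ (v : Fin n → F) (hv : Cfsg.hermForm n F q v v = 1), P = NP.mk v hv := by
  obtain ⟨v, hv, hP⟩ := P.2
  exact ⟨v, hv, Subtype.ext hP⟩

theorem NP.smul_mk (A : ↥(Cfsg.SU n F q)) (v : Fin n → F) (hv : Cfsg.hermForm n F q v v = 1) :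
    A • NP.mk v hv = NP.mk (av A v) (by rw [av_iso, hv]) := by
  apply Subtype.ext
  exact map_span_av A v

end general

section finite

variable {F : Type*} [Field F] [Fintype F] {q n : ℕ}

/-- `SU_n(q)` is transitive on the non-isotropic points (`n ≥ 4`) -/
theorem pretransitive_NP (hF : Fintype.card F = q ^ 2) (hn : 4 ≤ n) :
    MulAction.IsPretransitive ↥(Cfsg.SU n F q) (NP F q n) := by
  have hf := herm_unitary (n := n) hF
  have htop : Module.finrank F (⊤ : Submodule F (Fin n → F)) = n := by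
    rw [finrank_top, Module.finrank_fin_fun]
  constructor
  intro P P'
  obtain ⟨v, hv, rfl⟩ := NP.exists_rep P
  obtain ⟨v', hv', rfl⟩ := NP.exists_rep P'
  obtain ⟨t, -, ht⟩ := T1 hF (ND_top hf) (by omega) (Or.inr (by omega))
    (Submodule.mem_top : v ∈ ⊤) (Submodule.mem_top : v' ∈ ⊤) hv hv'
  refine ⟨t, ?_⟩
  rw [NP.smul_mk]
  apply Subtype.ext
  show Submodule.span F {av t v} = Submodule.span F {v'}
  rw [ht]

/-- the centre of `SU_n(q)` fixes every point -/
theorem center_smul_NP (hF : Fintype.card F = q ^ 2) (hn : 2 ≤ n) (z : ↥(Cfsg.SU n F q))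
    (hz : z ∈ Subgroup.center ↥(Cfsg.SU n F q)) (P : NP F q n) : z • P = P := by
  classical
  obtain ⟨m, rfl⟩ : ∃ m, n = m + 2 := ⟨n - 2, by omega⟩
  obtain ⟨v, hv, rfl⟩ := NP.exists_rep P
  have hsc := center_eq_scalar hF z hz
  obtain ⟨c, hc⟩ : ∃ c : F, c = ((z : Matrix.SpecialLinearGroup (Fin (m + 2)) F) :
      Matrix (Fin (m + 2)) (Fin (m + 2)) F) 0 0 := ⟨_, rfl⟩
  rw [← hc] at hsc
  have hav : av z v = c • v := by
    unfold av
    rw [hsc]
    ext i
    rw [Matrix.mulVec_diagonal]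
    rfl
  have hc0 : c ≠ 0 := by
    intro h0
    have h1 : av z v = 0 := by rw [hav, h0, zero_smul]
    have h2 := av_iso z v v
    rw [h1, hv] at h2
    rw [hermForm_zero_left] at h2
    exact zero_ne_one h2
  rw [NP.smul_mk]
  apply Subtype.ext
  show Submodule.span F {av z v} = Submodule.span F {v}
  rw [hav]
  exact Submodule.span_singleton_smul_eq (IsUnit.mk0 c hc0) v

end finite

section four

variable {F : Type*} [Field F] [Fintype F] {n : ℕ}

theorem unit_cube (hF : Fintype.card F = 4) (c : Fˣ) : (c : F) * (c : F) ^ 2 = 1 := by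
  have h := FiniteField.pow_card_sub_one_eq_one (c : F) c.ne_zero
  rw [hF] at h
  calc (c : F) * (c : F) ^ 2 = (c : F) ^ (4 - 1) := by ring
    _ = 1 := h

/-- over `F₄` a non-isotropic point carries exactly three vectors of norm one -/
theorem card_NP_mul (hF : Fintype.card F = 4) :
    Nat.card (NP F 2 n) * 3 = Nat.card {v : Fin n → F // Cfsg.hermForm n F 2 v v = 1} := by
  classical
  have hrep : ∀ P : NP F 2 n, ∃ v : Fin n → F, Cfsg.hermForm n F 2 v v = 1 ∧
      P.1 = Submodule.span F {v} := fun P => P.2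
  choose rep hrepQ hspan using hrep
  have hrep0 : ∀ P, rep P ≠ 0 := by
    intro P h
    have := hrepQ P
    rw [h, hermForm_zero_left] at this
    exact zero_ne_one this
  have hnorm : ∀ (c : Fˣ) (v : Fin n → F), Cfsg.hermForm n F 2 v v = 1 →
      Cfsg.hermForm n F 2 ((c : F) • v) ((c : F) • v) = 1 := by
    intro c v hv
    rw [hermForm_smul_left, hermForm_smul_right, hv, mul_one]
    exact unit_cube hF c
  let e : NP F 2 n × Fˣ → {v : Fin n → F // Cfsg.hermForm n F 2 v v = 1} :=
    fun x => ⟨(x.2 : F) • rep x.1, hnorm x.2 _ (hrepQ x.1)⟩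
  have hbij : Function.Bijective e := by
    constructor
    · rintro ⟨W, b⟩ ⟨W', b'⟩ h
      have h1 : (b : F) • rep W = (b' : F) • rep W' := congrArg Subtype.val h
      have hW : W = W' := by
        apply Subtype.ext
        rw [hspan W, hspan W', ← Submodule.span_singleton_smul_eq b.isUnit (rep W),
          ← Submodule.span_singleton_smul_eq b'.isUnit (rep W'), h1]
      subst hW
      have h3 : ((b : F) - (b' : F)) • rep W = 0 := by rw [sub_smul, h1, sub_self]
      have h4 : (b : F) - (b' : F) = 0 := by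
        rcases smul_eq_zero.1 h3 with h | h
        · exact h
        · exact absurd h (hrep0 W)
      have h5 : b = b' := Units.ext (sub_eq_zero.1 h4)
      rw [h5]
    · rintro ⟨v, hv⟩
      have h1 : rep (NP.mk v hv) ∈ Submodule.span F {v} := by
        have := hspan (NP.mk v hv)
        rw [show (NP.mk v hv : NP F 2 n).1 = Submodule.span F {v} from rfl] at this
        rw [this]
        exact Submodule.mem_span_singleton_self _
      obtain ⟨a, ha⟩ := Submodule.mem_span_singleton.1 h1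
      have ha0 : a ≠ 0 := by
        intro h0
        apply hrep0 (NP.mk v hv)
        rw [← ha, h0, zero_smul]
      refine ⟨⟨NP.mk v hv, (Units.mk0 a ha0)⁻¹⟩, ?_⟩
      apply Subtype.ext
      show (((Units.mk0 a ha0)⁻¹ : Fˣ) : F) • rep (NP.mk v hv) = v
      rw [← ha, smul_smul, Units.val_inv_eq_inv_val, Units.val_mk0, inv_mul_cancel₀ ha0, one_smul]
  rw [← Nat.card_congr (Equiv.ofBijective e hbij), Nat.card_prod]
  congr 1
  rw [Nat.card_eq_fintype_card, Fintype.card_units, hF]

/-- closed form of the counting sequences for `q = 2` -/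
theorem hermAB_two (n : ℕ) :
    (hermAB 2 n).1 + (hermAB 2 n).2 = 4 ^ n ∧
      ((hermAB 2 n).1 : ℤ) - ((hermAB 2 n).2 : ℤ) = (-2) ^ n := by
  induction n with
  | zero => simp [hermAB]
  | succ n ih =>
    obtain ⟨h1, h2⟩ := ih
    simp only [hermAB]
    constructor
    · rw [pow_succ, ← h1]; ring
    · rw [pow_succ, ← h2]; push_cast; ring

/-- the number of vectors of norm one in `F₄^n`, `n` even -/
theorem card_norm_one (hF : Fintype.card F = 4) (k : ℕ) :
    Nat.card {v : Fin (2 * k) → F // Cfsg.hermForm (2 * k) F 2 v v = 1} * 2 =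
      2 ^ (2 * k) * (2 ^ (2 * k) - 1) := by
  classical
  have hF' : Fintype.card F = 2 ^ 2 := by rw [hF]; norm_num
  have h1 : Nat.card {v : Fin (2 * k) → F // Cfsg.hermForm (2 * k) F 2 v v = 1} =
      hermCount F 2 (2 * k) 1 := rfl
  rw [h1, hermCount_eq hF', if_neg one_ne_zero, if_pos (one_pow 2)]
  obtain ⟨hs, hd⟩ := hermAB_two (2 * k)
  have hd' : ((hermAB 2 (2 * k)).1 : ℤ) - ((hermAB 2 (2 * k)).2 : ℤ) = 2 ^ (2 * k) := by
    rw [hd, pow_mul, pow_mul]; norm_num
  have hpow : (4 : ℕ) ^ (2 * k) = 2 ^ (2 * k) * 2 ^ (2 * k) := by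
    rw [← mul_pow]
    norm_num
  have hge : 1 ≤ 2 ^ (2 * k) := Nat.one_le_two_pow
  zify [hge]
  have hs' : ((hermAB 2 (2 * k)).1 : ℤ) + ((hermAB 2 (2 * k)).2 : ℤ) = 2 ^ (2 * k) * 2 ^ (2 * k) := by
    exact_mod_cast hs.trans hpow
  linear_combination hs' - hd'

/-- a transitive action in which the centre fixes a point gives a subgroup of the central quotient whose index
is the number of points -/
theorem exists_index_quot {G X : Type*} [Group G] [MulAction G X]
    (htr : MulAction.IsPretransitive G X) (x₀ : X)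
    (hc : ∀ z ∈ Subgroup.center G, z • x₀ = x₀) :
    ∃ H : Subgroup (G ⧸ Subgroup.center G), H.index = Nat.card X := by
  refine ⟨(MulAction.stabilizer G x₀).map (QuotientGroup.mk' (Subgroup.center G)), ?_⟩
  rw [Subgroup.index_map_eq _ (QuotientGroup.mk'_surjective _)]
  · exact MulAction.index_stabilizer_of_transitive _ _
  · rw [QuotientGroup.ker_mk']
    intro z hz
    rw [MulAction.mem_stabilizer_iff]
    exact hc z hz

/-- **Existence half of S2153**: `PSU_n(2)`, `6 ∣ n`, has a subgroup of index `2^(n-1) (2^n - 1) / 3`. -/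
theorem exists_index_su2 {F : Type*} [Field F] [Fintype F] (hF : Fintype.card F = 4) (n : ℕ)
    (hn : 6 ∣ n) (hpos : 6 ≤ n) :
    ∃ H : Subgroup (Cfsg.PSU n F 2), H.index = 2 ^ (n - 1) * (2 ^ n - 1) / 3 := by
  obtain ⟨k, rfl⟩ : ∃ k, n = 2 * k := by
    obtain ⟨j, rfl⟩ := hn
    exact ⟨3 * j, by ring⟩
  have hF' : Fintype.card F = 2 ^ 2 := by rw [hF]; norm_num
  have htr := pretransitive_NP (n := 2 * k) hF' (by omega)
  have hcount := card_norm_one hF k
  have hmul := card_NP_mul (n := 2 * k) hF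
  have hpow : (2 : ℕ) ^ (2 * k) = 2 * 2 ^ (2 * k - 1) := by
    obtain ⟨j, hj⟩ : ∃ j, 2 * k = j + 1 := ⟨2 * k - 1, by omega⟩
    rw [hj, Nat.add_sub_cancel, pow_succ, mul_comm]
  have hkey : Nat.card (NP F 2 (2 * k)) * 3 = 2 ^ (2 * k - 1) * (2 ^ (2 * k) - 1) := by
    rw [hmul]
    have h2 : Nat.card {v : Fin (2 * k) → F // Cfsg.hermForm (2 * k) F 2 v v = 1} * 2 =
        (2 ^ (2 * k - 1) * (2 ^ (2 * k) - 1)) * 2 := by
      rw [hcount]
      generalize 2 ^ (2 * k) = P at hpow ⊢
      generalize 2 ^ (2 * k - 1) = R at hpow ⊢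
      subst hpow
      ring
    exact Nat.eq_of_mul_eq_mul_right (by norm_num) h2
  have hne : Nonempty (NP F 2 (2 * k)) := by
    by_contra hcon
    rw [not_nonempty_iff] at hcon
    rw [Nat.card_of_isEmpty, zero_mul] at hkey
    have h1 : 0 < 2 ^ (2 * k - 1) := Nat.pos_of_ne_zero (by positivity)
    have h2 : 2 ≤ 2 ^ (2 * k) := by
      calc 2 = 2 ^ 1 := (pow_one _).symm
        _ ≤ 2 ^ (2 * k) := Nat.pow_le_pow_right (by norm_num) (by omega)
    have h3 : 0 < 2 ^ (2 * k - 1) * (2 ^ (2 * k) - 1) := Nat.mul_pos h1 (by omega)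
    omega
  obtain ⟨x₀⟩ := hne
  obtain ⟨H, hH⟩ := exists_index_quot htr x₀
    (fun z hz => center_smul_NP hF' (by omega) z hz _)
  refine ⟨H, ?_⟩
  rw [hH, ← hkey, Nat.mul_div_cancel _ (by norm_num)]

end four

end Cfsg.Agent.Lib.Helper14.SU2EX
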