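import Mathlib
import Cfsg.Agent.Lib.Helper14.SU2EX
import Cfsg.Agent.Lib.Helper14.Om2INST2

/-!
helper14: SU2INST2 (S2153 market "SU2", planner helper11): transfer of a lower bound for the index of proper subgroups
from `SU_n(2)` to `PSU_n(2)` and the frozen shape of S2153 from such a bound (passed as a hypothesis).
-/

set_option autoImplicit false

namespace Cfsg.Agent.Lib.Helper14.SU2Leaf

variable {F : Type*} [Field F]

/-- from `SU` to `PSU` -/
theorem psu_index_ge_of (n q M : ℕ)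
    (hidx : ∀ H : Subgroup ↥(Cfsg.SU n F q), H ≠ ⊤ → M ≤ H.index)
    (H : Subgroup (Cfsg.PSU n F q)) (hH : H ≠ ⊤) : M ≤ H.index :=
  Cfsg.Agent.Lib.Helper14.Om2Leaf.quotient_index_ge _ M hidx H hH

/-- from `SU` to `PSU`, only subgroups containing the centre are tested -/
theorem psu_index_ge_of_center (n q M : ℕ)
    (hidx : ∀ H : Subgroup ↥(Cfsg.SU n F q), Subgroup.center ↥(Cfsg.SU n F q) ≤ H → H ≠ ⊤ → M ≤ H.index)
    (H : Subgroup (Cfsg.PSU n F q)) (hH : H ≠ ⊤) : M ≤ H.index := by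
  have hs : Function.Surjective (QuotientGroup.mk' (Subgroup.center ↥(Cfsg.SU n F q))) :=
    QuotientGroup.mk'_surjective _
  rw [← Subgroup.index_comap_of_surjective H hs]
  apply hidx
  · intro z hz
    rw [Subgroup.mem_comap]
    have : (QuotientGroup.mk' (Subgroup.center ↥(Cfsg.SU n F q))) z = 1 := by
      rw [QuotientGroup.mk'_apply, QuotientGroup.eq_one_iff]
      exact hz
    rw [this]
    exact H.one_mem
  · intro h'
    apply hH
    apply Subgroup.comap_injective hs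
    rw [h', Subgroup.comap_top]

variable [Fintype F]

/-- the frozen shape of S2153 from a lower bound in `SU_n(2)` (subgroups containing the centre) -/
theorem S2153_of_index_ge (hF : Fintype.card F = 4) (n : ℕ) (hn : 6 ∣ n) (hpos : 6 ≤ n)
    (hidx : ∀ H : Subgroup ↥(Cfsg.SU n F 2), Subgroup.center ↥(Cfsg.SU n F 2) ≤ H → H ≠ ⊤ →
      2 ^ (n - 1) * (2 ^ n - 1) ≤ 3 * H.index) :
    (∀ H : Subgroup (Cfsg.PSU n F 2), H ≠ ⊤ → 2 ^ (n - 1) * (2 ^ n - 1) / 3 ≤ H.index) ∧
    (∃ H : Subgroup (Cfsg.PSU n F 2), H.index = 2 ^ (n - 1) * (2 ^ n - 1) / 3) := by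
  refine ⟨fun H hH => ?_, Cfsg.Agent.Lib.Helper14.SU2EX.exists_index_su2 hF n hn hpos⟩
  apply psu_index_ge_of_center n 2 _ _ H hH
  intro K hK hK'
  have := hidx K hK hK'
  exact Nat.div_le_of_le_mul this

end Cfsg.Agent.Lib.Helper14.SU2Leaf
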