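import Mathlib
import Cfsg.Agent.Lib.Helper12.U3Defs
import Cfsg.Agent.Lib.Helper14.SU2INST2

/-!
helper14: S2148 market "U3", leaf WRAP: from the model group `GG hF = SUm (frobHom hF) 1` of helper18 to
the frozen shape of S2148 (`Cfsg.PSU 3 F q`).
-/

set_option autoImplicit false

namespace Cfsg.Agent.Lib.Helper14.U3Leaf

open Cfsg.Agent.Lib.Helper18.PSUMod Cfsg.Agent.Lib.Helper5.HermBridge Cfsg.Agent.Lib.Helper12.U3
open Cfsg.Agent.Lib.Helper13

section wrapper

variable {F : Type*} [Field F] [Fintype F]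

/-- a group isomorphism maps the centre into the centre -/
theorem equiv_mem_center {G G' : Type*} [Group G] [Group G'] (e : G ≃* G') {z : G}
    (hz : z ∈ Subgroup.center G) : e z ∈ Subgroup.center G' := by
  rw [Subgroup.mem_center_iff] at hz ⊢
  intro y
  obtain ⟨y', rfl⟩ := e.surjective y
  rw [← map_mul, ← map_mul, hz y']

/-- W1: from the model group to the frozen statement. -/
theorem S2148_of_model (q : ℕ) (hF : Fintype.card F = q ^ 2) (hq : 3 ≤ q)
    (hidx : (PP hF).index = q ^ 3 + 1)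
    (hmodel : ∀ H : Subgroup (GG hF), Subgroup.center (GG hF) ≤ H → H.index ≤ q ^ 3 → H = ⊤) :
    (∀ H : Subgroup (Cfsg.PSU 3 F q), H ≠ ⊤ → q ^ 3 + 1 ≤ H.index) ∧
    (∃ H : Subgroup (Cfsg.PSU 3 F q), H.index = q ^ 3 + 1) := by
  obtain ⟨ζ, τ, hζ, hτ, hN⟩ := exists_consts hF
  let e : ↥(Cfsg.SU 3 F q) ≃* GG hF := PsiF (m := 1) hF hζ hτ hN
  refine ⟨fun H hH => ?_, ?_⟩
  · apply Cfsg.Agent.Lib.Helper14.SU2Leaf.psu_index_ge_of_center 3 q (q ^ 3 + 1) _ H hH
    intro K hK hKtop
    by_contra hlt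
    have hlt' : K.index ≤ q ^ 3 := by omega
    apply hKtop
    have hidxK : (K.map e.toMonoidHom).index = K.index := Subgroup.index_map_equiv K e
    have hc : Subgroup.center (GG hF) ≤ K.map e.toMonoidHom := by
      intro z hz
      refine ⟨e.symm z, hK (equiv_mem_center e.symm hz), ?_⟩
      simp
    have htop := hmodel (K.map e.toMonoidHom) hc (by rw [hidxK]; exact hlt')
    rw [← Subgroup.index_eq_one, ← hidxK, htop, Subgroup.index_top]
  · have hs : Function.Surjective e.toMonoidHom := e.surjective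
    have hidxP : ((PP hF).comap e.toMonoidHom).index = q ^ 3 + 1 := by
      rw [Subgroup.index_comap_of_surjective _ hs, hidx]
    have hcP : Subgroup.center ↥(Cfsg.SU 3 F q) ≤ (PP hF).comap e.toMonoidHom := by
      intro z hz
      rw [Subgroup.mem_comap]
      have h1 : e z ∈ Subgroup.center (GG hF) := equiv_mem_center e hz
      rw [center_eq_Zs (barOK_frob hF)] at h1
      obtain ⟨c, hc⟩ := h1
      exact ⟨c, hc ve⟩
    refine ⟨((PP hF).comap e.toMonoidHom).map
      (QuotientGroup.mk' (Subgroup.center ↥(Cfsg.SU 3 F q))), ?_⟩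
    rw [Subgroup.index_map_eq _ (QuotientGroup.mk'_surjective _)
      (by rw [QuotientGroup.ker_mk']; exact hcP), hidxP]

end wrapper

end Cfsg.Agent.Lib.Helper14.U3Leaf
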