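import Mathlib
import Cfsg.Agent.Lib.Helper20.AschDefs
import Cfsg.Agent.Lib.Helper24.AschA7Defs

/-!
S5630 (Aschbacher, helper20), block (A7) (sub-planner helper24): leaf L5 `realisable_of_mono`
(exact signature of notes/S5630_A7_leaves.lean).  Taker: helper14.
-/

set_option autoImplicit false
set_option linter.unusedSectionVars false
set_option linter.unusedVariables false

namespace Cfsg.Agent.Lib.Helper14.AschA7Leaf
open Matrix Cfsg.Geo Cfsg.Agent.Lib.Helper20.Asch Cfsg.Agent.Lib.Helper24.AschA7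
open scoped Kronecker commutatorElement

variable {F : Type*} [Field F] [Fintype F] {n : ℕ} {H N : Subgroup (GL (Fin n) F)}

/-- L5.  The entries of `B x B⁻¹` are `0` or `z`-th roots of unity. -/
theorem realisable_of_mono {z : ℕ} (B : GL (Fin n) F)
    (hB : ∀ x ∈ N, MonoZ z ((B : Matrix (Fin n) (Fin n) F) * (x : Matrix (Fin n) (Fin n) F) *
      ((B⁻¹ : GL (Fin n) F) : Matrix (Fin n) (Fin n) F)))
    (F₀ : Subfield F) (hμ : ∀ c : F, c ^ z = 1 → c ∈ F₀) : RealisableOver F₀ (matrixSet N) := by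
  refine ⟨B, ?_⟩
  rintro _ ⟨x, hx, rfl⟩ i j
  obtain ⟨π, d, hd, hM⟩ := hB x hx
  rw [hM i j]
  split_ifs
  · exact hμ _ (hd i)
  · exact F₀.zero_mem

end Cfsg.Agent.Lib.Helper14.AschA7Leaf
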