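import Mathlib
import Cfsg.Agent.Lib.Helper20.AschDefs
import Cfsg.Agent.Lib.Helper24.AschA7Defs

/-!
S5630 (Aschbacher, helper20), block (A7) (sub-planner helper24): leaf L6 `unitary_of_mono`
(exact signature of notes/S5630_A7_leaves.lean).  Taker: helper14.
-/

set_option autoImplicit false
set_option linter.unusedSectionVars false
set_option linter.unusedVariables false

namespace Cfsg.Agent.Lib.Helper14.AschA7Leaf
open Matrix Cfsg.Geo Cfsg.Agent.Lib.Helper20.Asch Cfsg.Agent.Lib.Helper24.AschA7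
open scoped Kronecker commutatorElement

variable {F : Type*} [Field F] [Fintype F] {n : ℕ} {H N : Subgroup (GL (Fin n) F)}

/-- the standard `σ`-sesquilinear form transported by `B` (any field) -/
def sesqB {K : Type*} [Field K] (σ : K ≃+* K) (B : GL (Fin n) K) (u w : Fin n → K) : K :=
  ∑ i, ((B : Matrix (Fin n) (Fin n) K) *ᵥ u) i * σ (((B : Matrix (Fin n) (Fin n) K) *ᵥ w) i)

/-- L6.  `f u w = Σ_i (B u)_i σ((B w)_i)`: monomial matrices with entries `d`, `σ d * d = 1`, preserve `Σ u_i σ(w_i)`. -/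
theorem unitary_of_mono {z : ℕ} (B : GL (Fin n) F)
    (hB : ∀ x ∈ N, MonoZ z ((B : Matrix (Fin n) (Fin n) F) * (x : Matrix (Fin n) (Fin n) F) *
      ((B⁻¹ : GL (Fin n) F) : Matrix (Fin n) (Fin n) F)))
    (σ : F ≃+* F) (hσ1 : σ ≠ RingEquiv.refl F) (hσ2 : ∀ a : F, σ (σ a) = a)
    (hinv : ∀ c : F, c ^ z = 1 → σ c * c = 1) :
    ∃ f : (Fin n → F) → (Fin n → F) → F, IsUnitaryForm σ f ∧ FixesForm (matrixSet N) f := by
  classical
  have hBinv : ((B⁻¹ : GL (Fin n) F) : Matrix (Fin n) (Fin n) F) * (B : Matrix (Fin n) (Fin n) F) = 1 := by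
    rw [← Units.val_mul, inv_mul_cancel, Units.val_one]
  have hBinv' : (B : Matrix (Fin n) (Fin n) F) * ((B⁻¹ : GL (Fin n) F) : Matrix (Fin n) (Fin n) F) = 1 := by
    rw [← Units.val_mul, mul_inv_cancel, Units.val_one]
  refine ⟨sesqB σ B, ⟨hσ1, hσ2, ?_, ?_, ?_, ?_⟩, ?_⟩
  · -- add_left
    intro x y v
    unfold sesqB
    rw [Matrix.mulVec_add, ← Finset.sum_add_distrib]
    apply Finset.sum_congr rfl
    intro i _
    rw [Pi.add_apply, add_mul]
  · -- smul_left
    intro c x v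
    unfold sesqB
    rw [Matrix.mulVec_smul, Finset.mul_sum]
    apply Finset.sum_congr rfl
    intro i _
    rw [Pi.smul_apply, smul_eq_mul, mul_assoc]
  · -- herm
    intro v w
    unfold sesqB
    rw [map_sum]
    apply Finset.sum_congr rfl
    intro i _
    rw [map_mul, hσ2, mul_comm]
  · -- nondegenerate
    intro v hv
    have hBv : (B : Matrix (Fin n) (Fin n) F) *ᵥ v ≠ 0 := by
      intro h
      apply hv
      have := congrArg (fun u => ((B⁻¹ : GL (Fin n) F) : Matrix (Fin n) (Fin n) F) *ᵥ u) h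
      simpa [Matrix.mulVec_mulVec, hBinv] using this
    obtain ⟨i, hi⟩ : ∃ i, ((B : Matrix (Fin n) (Fin n) F) *ᵥ v) i ≠ 0 := by
      by_contra hcon
      push Not at hcon
      exact hBv (funext hcon)
    have hx : (B : Matrix (Fin n) (Fin n) F) *ᵥ
        (((B⁻¹ : GL (Fin n) F) : Matrix (Fin n) (Fin n) F) *ᵥ (Pi.single i (1 : F))) = Pi.single i 1 := by
      rw [Matrix.mulVec_mulVec, hBinv', Matrix.one_mulVec]
    refine ⟨⟨((B⁻¹ : GL (Fin n) F) : Matrix (Fin n) (Fin n) F) *ᵥ (Pi.single i (1 : F)), ?_⟩,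
      ⟨((B⁻¹ : GL (Fin n) F) : Matrix (Fin n) (Fin n) F) *ᵥ (Pi.single i (1 : F)), ?_⟩⟩
    · unfold sesqB
      rw [hx, Finset.sum_eq_single i]
      · rw [Pi.single_eq_same, one_mul]
        intro h
        apply hi
        have := congrArg σ h
        rwa [hσ2, map_zero] at this
      · intro j _ hji
        rw [Pi.single_eq_of_ne hji, zero_mul]
      · intro h; exact absurd (Finset.mem_univ i) h
    · unfold sesqB
      rw [hx, Finset.sum_eq_single i]
      · rw [Pi.single_eq_same, map_one, mul_one]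
        exact hi
      · intro j _ hji
        rw [Pi.single_eq_of_ne hji, map_zero, mul_zero]
      · intro h; exact absurd (Finset.mem_univ i) h
  · -- invariance
    rintro _ ⟨x, hx, rfl⟩ u v
    obtain ⟨π, d, hd, hM⟩ := hB x hx
    set M : Matrix (Fin n) (Fin n) F := (B : Matrix (Fin n) (Fin n) F) * (x : Matrix (Fin n) (Fin n) F) *
      ((B⁻¹ : GL (Fin n) F) : Matrix (Fin n) (Fin n) F) with hMdef
    have hconj : ∀ y : Fin n → F, (B : Matrix (Fin n) (Fin n) F) *ᵥ ((x : Matrix (Fin n) (Fin n) F) *ᵥ y) =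
        M *ᵥ ((B : Matrix (Fin n) (Fin n) F) *ᵥ y) := by
      intro y
      rw [hMdef, Matrix.mulVec_mulVec, Matrix.mulVec_mulVec, mul_assoc, mul_assoc, hBinv, mul_one]
    have hMv : ∀ (y : Fin n → F) (i : Fin n), (M *ᵥ y) i = d i * y (π i) := by
      intro y i
      rw [Matrix.mulVec, dotProduct, Finset.sum_eq_single (π i)]
      · rw [hM i (π i), if_pos rfl]
      · intro j _ hj
        rw [hM i j, if_neg hj, zero_mul]
      · intro h; exact absurd (Finset.mem_univ _) h
    unfold sesqB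
    rw [hconj, hconj]
    have : ∀ i, (M *ᵥ ((B : Matrix (Fin n) (Fin n) F) *ᵥ u)) i *
        σ ((M *ᵥ ((B : Matrix (Fin n) (Fin n) F) *ᵥ v)) i) =
        ((B : Matrix (Fin n) (Fin n) F) *ᵥ u) (π i) * σ (((B : Matrix (Fin n) (Fin n) F) *ᵥ v) (π i)) := by
      intro i
      rw [hMv, hMv, map_mul]
      have h1 := hinv (d i) (hd i)
      calc d i * ((B : Matrix (Fin n) (Fin n) F) *ᵥ u) (π i) *
            (σ (d i) * σ (((B : Matrix (Fin n) (Fin n) F) *ᵥ v) (π i)))
          = (σ (d i) * d i) * (((B : Matrix (Fin n) (Fin n) F) *ᵥ u) (π i) *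
              σ (((B : Matrix (Fin n) (Fin n) F) *ᵥ v) (π i))) := by ring
        _ = _ := by rw [h1, one_mul]
    simp only [this]
    exact Equiv.sum_comp π (fun i => ((B : Matrix (Fin n) (Fin n) F) *ᵥ u) i *
      σ (((B : Matrix (Fin n) (Fin n) F) *ᵥ v) i))

end Cfsg.Agent.Lib.Helper14.AschA7Leaf
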