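import Mathlib
import Cfsg.Agent.Lib.Helper20.AschDefs
import Cfsg.Agent.Lib.Helper24.AschA7Defs

/-!
S5630 (Aschbacher, helper20), block (A7) (sub-planner helper24): leaf L4a `exists_common_eigenvector`
(exact signature of notes/S5630_A7_leaves.lean).  Taker: helper14.
-/

set_option autoImplicit false
set_option linter.unusedSectionVars false
set_option linter.unusedVariables false

namespace Cfsg.Agent.Lib.Helper14.AschA7Leaf
open Matrix Cfsg.Geo Cfsg.Agent.Lib.Helper20.Asch Cfsg.Agent.Lib.Helper24.AschA7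
open scoped Kronecker commutatorElement

variable {F : Type*} [Field F] [Fintype F] {n : ℕ} {H N : Subgroup (GL (Fin n) F)}

/-- an endomorphism of finite order `z` of a non-zero finite-dimensional space over a field containing a primitive
`z`-th root of unity has an eigenvalue (any field `K`) -/
theorem exists_hasEigenvalue_of_pow_eq_one {K : Type*} [Field K] {W : Type*} [AddCommGroup W] [Module K W]
    [FiniteDimensional K W] [Nontrivial W] (g : Module.End K W) {z : ℕ} (hz : 0 < z) (hg : g ^ z = 1)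
    {ζ : K} (hζ : IsPrimitiveRoot ζ z) : ∃ μ : K, g.HasEigenvalue μ := by
  have hdvd : minpoly K g ∣ Polynomial.X ^ z - Polynomial.C (1 : K) :=
    minpoly.dvd K g (by simp [hg])
  have hne : (Polynomial.X ^ z - Polynomial.C (1 : K)) ≠ 0 :=
    (Polynomial.monic_X_pow_sub_C (1 : K) hz.ne').ne_zero
  have hs := (Polynomial.X_pow_sub_one_splits hζ).of_dvd hne hdvd
  have hint : IsIntegral K g := Algebra.IsIntegral.isIntegral g
  have hdeg : (minpoly K g).degree ≠ 0 := (minpoly.degree_pos hint).ne'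
  obtain ⟨μ, hμ⟩ := hs.exists_eval_eq_zero hdeg
  exact ⟨μ, Module.End.hasEigenvalue_of_isRoot hμ⟩

/-- L4a.  A minimal non-zero `A`-invariant subspace `W`: for `a ∈ A` the polynomial `X^z - 1 = ∏ (X - ζ^k)` kills `a`, so some
`a - ζ^k` is not injective on `W`; its kernel in `W` is `A`-invariant (`A` abelian), so it is `W`: `a` is scalar on `W`. -/
theorem exists_common_eigenvector (hn : 0 < n) (A : Subgroup (GL (Fin n) F))
    (hab : ∀ a ∈ A, ∀ b ∈ A, a * b = b * a) {z : ℕ} (hz : 0 < z) (hexp : ∀ a ∈ A, a ^ z = 1) {ζ : F}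
    (hζ : IsPrimitiveRoot ζ z) :
    ∃ v : Fin n → F, v ≠ 0 ∧ ∀ a ∈ A, ∃ c : F, (a : Matrix (Fin n) (Fin n) F) *ᵥ v = c • v := by
  classical
  have : Nonempty (Fin n) := ⟨⟨0, hn⟩⟩
  -- the invariant subspaces
  let S : Set (Submodule F (Fin n → F)) :=
    {W | W ≠ ⊥ ∧ ∀ a ∈ A, ∀ w ∈ W, (a : Matrix (Fin n) (Fin n) F) *ᵥ w ∈ W}
  have hS : S.Nonempty := ⟨⊤, top_ne_bot, fun _ _ _ _ => Submodule.mem_top⟩
  obtain ⟨W, hWS, hWmin⟩ := (wellFounded_lt (α := Submodule F (Fin n → F))).has_min S hS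
  obtain ⟨hW0, hWinv⟩ := hWS
  -- every `a ∈ A` is scalar on `W`
  have hscal : ∀ a ∈ A, ∃ μ : F, ∀ w ∈ W, (a : Matrix (Fin n) (Fin n) F) *ᵥ w = μ • w := by
    intro a ha
    set M : Matrix (Fin n) (Fin n) F := (a : Matrix (Fin n) (Fin n) F) with hM
    have hMz : M ^ z = 1 := by
      have := congrArg (fun g : GL (Fin n) F => (g : Matrix (Fin n) (Fin n) F)) (hexp a ha)
      simpa using this
    have hfW : ∀ w ∈ W, Matrix.toLin' M w ∈ W := by
      intro w hw
      rw [Matrix.toLin'_apply]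
      exact hWinv a ha w hw
    let g : Module.End F W := (Matrix.toLin' M).restrict hfW
    have : Nontrivial W := (Submodule.nontrivial_iff_ne_bot).2 hW0
    have hgz : g ^ z = 1 := by
      change ((Matrix.toLin' M).restrict hfW) ^ z = 1
      rw [Module.End.pow_restrict z hfW]
      apply LinearMap.ext
      intro w
      apply Subtype.ext
      rw [LinearMap.coe_restrict_apply]
      have : (Matrix.toLin' M) ^ z = Matrix.toLin' (M ^ z) := by
        rw [Matrix.toLin'_pow]
      rw [this, hMz]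
      simp
    obtain ⟨μ, hμ⟩ := exists_hasEigenvalue_of_pow_eq_one g hz hgz hζ
    obtain ⟨w₀, hw₀⟩ := hμ.exists_hasEigenvector
    have hw₀eig : M *ᵥ (w₀ : Fin n → F) = μ • (w₀ : Fin n → F) := by
      have := hw₀.apply_eq_smul
      have h2 := congrArg (fun x : W => (x : Fin n → F)) this
      simpa [g, LinearMap.coe_restrict_apply, Matrix.toLin'_apply] using h2
    have hw₀ne : (w₀ : Fin n → F) ≠ 0 := fun h => hw₀.2 (Subtype.ext h)
    -- the eigenspace inside `W`
    let K : Submodule F (Fin n → F) := W ⊓ LinearMap.ker (Matrix.toLin' M - μ • LinearMap.id)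
    have hKmem : ∀ v, v ∈ K ↔ v ∈ W ∧ M *ᵥ v = μ • v := by
      intro v
      simp only [K, Submodule.mem_inf, LinearMap.mem_ker, LinearMap.sub_apply, Matrix.toLin'_apply,
        LinearMap.smul_apply, LinearMap.id_apply, sub_eq_zero]
    have hKS : K ∈ S := by
      refine ⟨?_, ?_⟩
      · intro h
        have : (w₀ : Fin n → F) ∈ K := (hKmem _).2 ⟨w₀.2, hw₀eig⟩
        rw [h, Submodule.mem_bot] at this
        exact hw₀ne this
      · intro b hb v hv
        rw [hKmem] at hv ⊢
        refine ⟨hWinv b hb v hv.1, ?_⟩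
        have hcomm : M * (b : Matrix (Fin n) (Fin n) F) = (b : Matrix (Fin n) (Fin n) F) * M := by
          have := congrArg (fun g : GL (Fin n) F => (g : Matrix (Fin n) (Fin n) F)) (hab a ha b hb)
          simpa using this
        rw [Matrix.mulVec_mulVec, hcomm, ← Matrix.mulVec_mulVec, hv.2, Matrix.mulVec_smul]
    have hKW : K = W := by
      have hle : K ≤ W := inf_le_left
      by_contra hne
      exact hWmin K hKS (lt_of_le_of_ne hle hne)
    refine ⟨μ, fun w hw => ?_⟩
    have : w ∈ K := hKW ▸ hw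
    exact ((hKmem w).1 this).2
  obtain ⟨v, hvW, hv0⟩ := Submodule.exists_mem_ne_zero_of_ne_bot hW0
  refine ⟨v, hv0, fun a ha => ?_⟩
  obtain ⟨μ, hμ⟩ := hscal a ha
  exact ⟨μ, hμ v hvW⟩

end Cfsg.Agent.Lib.Helper14.AschA7Leaf
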