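import Mathlib
import Cfsg.Agent.Lib.Helper20.AschDefs
import Cfsg.Agent.Lib.Helper24.AschA7Defs

/-!
S5630 (Aschbacher, helper20), block (A7) (sub-planner helper24): leaf L4b `linearIndependent_of_characters`
(exact signature of notes/S5630_A7_leaves.lean).  Taker: helper14.
-/

set_option autoImplicit false
set_option linter.unusedSectionVars false
set_option linter.unusedVariables false

namespace Cfsg.Agent.Lib.Helper14.AschA7Leaf
open Matrix Cfsg.Geo Cfsg.Agent.Lib.Helper20.Asch Cfsg.Agent.Lib.Helper24.AschA7
open scoped Kronecker commutatorElement

variable {F : Type*} [Field F] [Fintype F] {n : ℕ} {H N : Subgroup (GL (Fin n) F)}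

/-- L4b.  Eigenvectors of a group for pairwise distinct characters are linearly independent (shortest relation). -/
theorem linearIndependent_of_characters {ι : Type*} (A : Subgroup (GL (Fin n) F)) (w : ι → Fin n → F)
    (χ : ι → A → F) (hw : ∀ i, w i ≠ 0)
    (heig : ∀ i (a : A), ((a : GL (Fin n) F) : Matrix (Fin n) (Fin n) F) *ᵥ w i = χ i a • w i)
    (hχ : Function.Injective χ) : LinearIndependent F w := by
  classical
  rw [linearIndependent_iff']
  intro s
  induction s using Finset.induction_on with
  | empty => intro g _ i hi; simp at hi
  | insert j s hj ih =>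
    intro g hg
    -- all coefficients on `s` vanish
    have hs : ∀ i ∈ s, g i = 0 := by
      intro i hi
      have hij : i ≠ j := fun h => hj (h ▸ hi)
      have hne : χ i ≠ χ j := fun h => hij (hχ h)
      obtain ⟨a, ha⟩ : ∃ a, χ i a ≠ χ j a := by
        by_contra hcon
        push Not at hcon
        exact hne (funext hcon)
      -- apply `a` to the relation and subtract `χ j a` times the relation
      have h1 : ∑ k ∈ insert j s, (g k * χ k a) • w k = 0 := by
        have := congrArg (fun v => ((a : GL (Fin n) F) : Matrix (Fin n) (Fin n) F) *ᵥ v) hg
        simp only [Matrix.mulVec_zero, Matrix.mulVec_sum, Matrix.mulVec_smul, heig, smul_smul] at this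
        exact this
      have h2 : ∑ k ∈ insert j s, (g k * χ j a) • w k = 0 := by
        have := congrArg (fun v => χ j a • v) hg
        simp only [smul_zero, Finset.smul_sum, smul_smul] at this
        rw [← this]
        apply Finset.sum_congr rfl
        intro k _
        rw [mul_comm]
      have h3 : ∑ k ∈ s, (g k * (χ k a - χ j a)) • w k = 0 := by
        have h4 : ∑ k ∈ insert j s, (g k * (χ k a - χ j a)) • w k = 0 := by
          have : ∀ k, (g k * (χ k a - χ j a)) • w k = (g k * χ k a) • w k - (g k * χ j a) • w k := by
            intro k; rw [mul_sub, sub_smul]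
          simp only [this, Finset.sum_sub_distrib, h1, h2, sub_zero]
        rw [Finset.sum_insert hj] at h4
        simpa using h4
      have h5 := ih (fun k => g k * (χ k a - χ j a)) h3 i hi
      rcases mul_eq_zero.1 h5 with h | h
      · exact h
      · exact absurd (sub_eq_zero.1 h) ha
    intro i hi
    rcases Finset.mem_insert.1 hi with rfl | hi'
    · rw [Finset.sum_insert hj] at hg
      have h0 : ∑ k ∈ s, g k • w k = 0 := by
        apply Finset.sum_eq_zero
        intro k hk
        rw [hs k hk, zero_smul]
      rw [h0, add_zero] at hg
      rcases smul_eq_zero.1 hg with h | h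
      · exact h
      · exact absurd h (hw i)
    · exact hs i hi'

end Cfsg.Agent.Lib.Helper14.AschA7Leaf
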