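/-
helper14: S4504 PART R, group-theoretic pieces: the action on the `p + 1` Sylow `p`-subgroups (`|P| = p`):
the centralizer of `P` acts like `P`; the kernel of the action centralizes the normal closure of `P`;
Frattini: the normal closure of `P` is generated by its own conjugates of `P`.
-/
import Mathlib

set_option autoImplicit false

namespace Cfsg.Agent.Lib.Helper14.BRR4c

universe u

open scoped Pointwise

variable {G : Type u} [Group G] [Finite G] {p : ℕ} [hp : Fact p.Prime]

/-- an element of `P` (of order `p`) normalizing another Sylow `p`-subgroup is trivial -/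
theorem eq_one_of_mem_normalizer (P Q : Sylow p G) (hP : Nat.card (P : Subgroup G) = p) (hQP : Q ≠ P)
    (x : G) (hx : x ∈ (P : Subgroup G)) (hxQ : x ∈ Subgroup.normalizer ((Q : Subgroup G) : Set G)) :
    x = 1 := by
  by_contra hx1
  have h0 := IsPGroup.inf_normalizer_sylow P.isPGroup' Q
  have h1 : x ∈ (P : Subgroup G) ⊓ (Q : Subgroup G) := by
    rw [← h0]
    exact ⟨hx, hxQ⟩
  have hxQ' : x ∈ (Q : Subgroup G) := h1.2
  have hne : (⟨x, hx⟩ : (P : Subgroup G)) ≠ 1 := by
    intro h
    exact hx1 (congrArg Subtype.val h)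
  have htop : Subgroup.zpowers (⟨x, hx⟩ : (P : Subgroup G)) = ⊤ :=
    zpowers_eq_top_of_prime_card hP hne
  have hle : (P : Subgroup G) ≤ (Q : Subgroup G) := by
    intro y hy
    have hy' : (⟨y, hy⟩ : (P : Subgroup G)) ∈ Subgroup.zpowers (⟨x, hx⟩ : (P : Subgroup G)) := by
      rw [htop]; trivial
    obtain ⟨k, hk⟩ := Subgroup.mem_zpowers_iff.mp hy'
    have hk' : x ^ k = y := by
      have := congrArg Subtype.val hk
      simpa using this
    rw [← hk']
    exact (Q : Subgroup G).zpow_mem hxQ' k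
  exact hQP (Sylow.ext (P.is_maximal' Q.isPGroup' hle))

/-- if `P` is not normal there is another Sylow subgroup -/
theorem exists_ne_of_not_normal (P : Sylow p G) (hnn : ¬ (P : Subgroup G).Normal) :
    ∃ Q : Sylow p G, Q ≠ P := by
  by_contra hcon
  push Not at hcon
  apply hnn
  rw [← Subgroup.normalizer_eq_top_iff, eq_top_iff]
  intro g _
  exact Sylow.smul_eq_iff_mem_normalizer.mp (hcon (g • P))

/-- KM : with `p + 1` Sylow `p`-subgroups, every element centralizing `P = ⟨x0⟩` acts on them as a power of `x0`. -/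
theorem exists_pow_smul_eq (P : Sylow p G) (hP : Nat.card (P : Subgroup G) = p)
    (hcard : Nat.card (Sylow p G) = p + 1) (x0 : G) (hx0 : (P : Subgroup G) = Subgroup.zpowers x0)
    (c : G) (hc : c ∈ Subgroup.centralizer ((P : Subgroup G) : Set G)) :
    ∃ k : ℕ, ∀ Q : Sylow p G, c • Q = x0 ^ k • Q := by
  classical
  let _ : Fintype (Sylow p G) := Fintype.ofFinite _
  have hx0P : x0 ∈ (P : Subgroup G) := by rw [hx0]; exact Subgroup.mem_zpowers x0
  have hord : orderOf x0 = p := by rw [← hP, hx0, Nat.card_zpowers]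
  have hpowP : ∀ j : ℕ, x0 ^ j ∈ (P : Subgroup G) := fun j => (P : Subgroup G).pow_mem hx0P j
  have hcomm : ∀ j : ℕ, c * x0 ^ j = x0 ^ j * c := by
    intro j
    exact (Subgroup.mem_centralizer_iff.mp hc (x0 ^ j) (hpowP j)).symm
  have hPfix : ∀ g ∈ (P : Subgroup G), g • P = P := by
    intro g hg
    rw [Sylow.smul_eq_iff_mem_normalizer]
    exact Subgroup.le_normalizer hg
  have hcP : c • P = P := by
    rw [Sylow.smul_eq_iff_mem_normalizer]
    exact Subgroup.centralizer_le_normalizer _ hc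
  -- another Sylow subgroup
  have hnt : Nontrivial (Sylow p G) := by
    rw [← Finite.one_lt_card_iff_nontrivial, hcard]
    have := hp.out.pos
    omega
  obtain ⟨Q0, hQ0⟩ := exists_ne P
  -- the orbit of `Q0` under `⟨x0⟩`
  set S : Finset (Sylow p G) := (Finset.univ : Finset (Fin p)).image (fun j : Fin p => x0 ^ (j : ℕ) • Q0) with hS
  have hinj : Function.Injective (fun j : Fin p => x0 ^ (j : ℕ) • Q0) := by
    intro a b hab
    have h1 : ((x0 ^ (b : ℕ))⁻¹ * x0 ^ (a : ℕ)) • Q0 = Q0 := by
      rw [mul_smul]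
      have : x0 ^ (a : ℕ) • Q0 = x0 ^ (b : ℕ) • Q0 := hab
      rw [this, inv_smul_smul]
    have h2 : (x0 ^ (b : ℕ))⁻¹ * x0 ^ (a : ℕ) = 1 := by
      apply eq_one_of_mem_normalizer P Q0 hP hQ0
      · exact (P : Subgroup G).mul_mem ((P : Subgroup G).inv_mem (hpowP _)) (hpowP _)
      · exact Sylow.smul_eq_iff_mem_normalizer.mp h1
    have h3 : x0 ^ (a : ℕ) = x0 ^ (b : ℕ) := by
      have := inv_mul_eq_one.mp h2
      exact this.symm
    have h4 : (a : ℕ) = (b : ℕ) := by
      apply pow_injOn_Iio_orderOf _ _ h3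
      · rw [Set.mem_Iio, hord]; exact a.2
      · rw [Set.mem_Iio, hord]; exact b.2
    exact Fin.ext h4
  have hScard : S.card = p := by
    rw [hS, Finset.card_image_of_injective _ hinj, Finset.card_univ, Fintype.card_fin]
  have hSsub : S ⊆ Finset.univ.erase P := by
    intro Q hQ
    rw [hS, Finset.mem_image] at hQ
    obtain ⟨j, _, rfl⟩ := hQ
    rw [Finset.mem_erase]
    refine ⟨?_, Finset.mem_univ _⟩
    intro h
    apply hQ0
    have h1 : Q0 = (x0 ^ (j : ℕ))⁻¹ • P := by
      rw [← h, inv_smul_smul]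
    rw [h1]
    exact hPfix _ ((P : Subgroup G).inv_mem (hpowP _))
  have hSeq : S = Finset.univ.erase P := by
    apply Finset.eq_of_subset_of_card_le hSsub
    rw [Finset.card_erase_of_mem (Finset.mem_univ _), Finset.card_univ, ← Nat.card_eq_fintype_card,
      hcard, hScard]
    omega
  have hmemS : ∀ Q : Sylow p G, Q ≠ P → ∃ j : ℕ, Q = x0 ^ j • Q0 := by
    intro Q hQ
    have : Q ∈ S := by
      rw [hSeq, Finset.mem_erase]
      exact ⟨hQ, Finset.mem_univ _⟩
    rw [hS, Finset.mem_image] at this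
    obtain ⟨j, _, hj⟩ := this
    exact ⟨(j : ℕ), hj.symm⟩
  have hcQ0 : c • Q0 ≠ P := by
    intro h
    apply hQ0
    have h1 : Q0 = c⁻¹ • P := by rw [← h, inv_smul_smul]
    rw [h1]
    have : c⁻¹ • (c • P) = c⁻¹ • P := by rw [hcP]
    rw [inv_smul_smul] at this
    exact this.symm
  obtain ⟨k, hk⟩ := hmemS (c • Q0) hcQ0
  refine ⟨k, ?_⟩
  intro Q
  by_cases hQ : Q = P
  · rw [hQ, hcP, hPfix _ (hpowP k)]
  · obtain ⟨j, rfl⟩ := hmemS Q hQ
    rw [← mul_smul, hcomm j, mul_smul, hk, ← mul_smul, ← mul_smul, ← pow_add, ← pow_add, add_comm]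

/-- the centralizer of `P` lies in `P` times the kernel of the action on the Sylow subgroups -/
theorem exists_mul_mem_ker (P : Sylow p G) (hP : Nat.card (P : Subgroup G) = p)
    (hcard : Nat.card (Sylow p G) = p + 1) (x0 : G) (hx0 : (P : Subgroup G) = Subgroup.zpowers x0)
    (c : G) (hc : c ∈ Subgroup.centralizer ((P : Subgroup G) : Set G)) :
    ∃ k : ℕ, ∃ m : G, (∀ Q : Sylow p G, m • Q = Q) ∧ c = x0 ^ k * m := by
  obtain ⟨k, hk⟩ := exists_pow_smul_eq P hP hcard x0 hx0 c hc
  refine ⟨k, (x0 ^ k)⁻¹ * c, ?_, ?_⟩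
  · intro Q
    rw [mul_smul, hk Q, inv_smul_smul]
  · rw [mul_inv_cancel_left]

/-- M : an element fixing every Sylow `p`-subgroup centralizes the normal closure of `P` (`|P| = p`, `P` not normal) -/
theorem mem_centralizer_normalClosure (P : Sylow p G) (hP : Nat.card (P : Subgroup G) = p)
    (hnn : ¬ (P : Subgroup G).Normal) (m : G) (hm : ∀ Q : Sylow p G, m • Q = Q) :
    m ∈ Subgroup.centralizer ((Subgroup.normalClosure ((P : Subgroup G) : Set G) : Subgroup G) : Set G) := by
  set M : Subgroup G := (MulAction.toPermHom G (Sylow p G)).ker with hM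
  have hMn : M.Normal := MonoidHom.normal_ker _
  have hmemM : ∀ g : G, g ∈ M ↔ ∀ Q : Sylow p G, g • Q = Q := by
    intro g
    rw [hM, MonoidHom.mem_ker]
    constructor
    · intro h Q
      have := congrArg (fun σ : Equiv.Perm (Sylow p G) => σ Q) h
      simpa using this
    · intro h
      apply Equiv.ext
      intro Q
      exact h Q
  obtain ⟨Q0, hQ0⟩ := exists_ne_of_not_normal P hnn
  have hPle : (P : Subgroup G) ≤ Subgroup.centralizer (M : Set G) := by
    intro x hx
    rw [Subgroup.mem_centralizer_iff]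
    intro g hg
    have hgN : g ∈ Subgroup.normalizer ((P : Subgroup G) : Set G) :=
      Sylow.smul_eq_iff_mem_normalizer.mp ((hmemM g).mp hg P)
    have h1 : g * x * g⁻¹ ∈ (P : Subgroup G) := (Subgroup.mem_normalizer_iff.mp hgN x).mp hx
    have h2 : g * x * g⁻¹ * x⁻¹ ∈ (P : Subgroup G) :=
      (P : Subgroup G).mul_mem h1 ((P : Subgroup G).inv_mem hx)
    have h3 : g * x * g⁻¹ * x⁻¹ ∈ M := by
      have : g * x * g⁻¹ * x⁻¹ = g * (x * g⁻¹ * x⁻¹) := by group
      rw [this]
      exact M.mul_mem hg (hMn.conj_mem _ (M.inv_mem hg) x)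
    have h4 : g * x * g⁻¹ * x⁻¹ = 1 :=
      eq_one_of_mem_normalizer P Q0 hP hQ0 _ h2
        (Sylow.smul_eq_iff_mem_normalizer.mp ((hmemM _).mp h3 Q0))
    have h5 : g * x * g⁻¹ = x := by
      have := mul_inv_eq_one.mp h4
      exact this
    calc g * x = g * x * g⁻¹ * g := by group
      _ = x * g := by rw [h5]
  have hcn : (Subgroup.centralizer (M : Set G)).Normal := Subgroup.normal_centralizer
  have hle : Subgroup.normalClosure ((P : Subgroup G) : Set G) ≤ Subgroup.centralizer (M : Set G) :=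
    Subgroup.normalClosure_le_normal hPle
  have hle' := Subgroup.le_centralizer_iff.mp hle
  exact hle' ((hmemM m).mpr hm)

/-- Frattini: `G = ⟨P^G⟩ N_G(P)`. -/
theorem exists_mul_eq (P : Sylow p G) (g : G) :
    ∃ h ∈ Subgroup.normalClosure ((P : Subgroup G) : Set G),
      ∃ n ∈ Subgroup.normalizer ((P : Subgroup G) : Set G), g = h * n := by
  set H : Subgroup G := Subgroup.normalClosure ((P : Subgroup G) : Set G) with hH
  have hHn : H.Normal := Subgroup.normalClosure_normal
  have hle : (P : Subgroup G) ≤ H := Subgroup.le_normalClosure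
  have hfr := Sylow.normalizer_sup_eq_top (P.subtype hle)
  have hmap : Subgroup.map H.subtype ((P.subtype hle : Sylow p H) : Subgroup H) = (P : Subgroup G) := by
    rw [Sylow.coe_subtype, Subgroup.subgroupOf_map_subtype, inf_eq_left.mpr hle]
  rw [hmap] at hfr
  have hg : g ∈ (H ⊔ Subgroup.normalizer ((P : Subgroup G) : Set G) : Subgroup G) := by
    rw [sup_comm, hfr]; trivial
  have hset : ((H ⊔ Subgroup.normalizer ((P : Subgroup G) : Set G) : Subgroup G) : Set G) =
      (H : Set G) * (Subgroup.normalizer ((P : Subgroup G) : Set G) : Set G) := Subgroup.normal_mul H _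
  have hg' : g ∈ (H : Set G) * (Subgroup.normalizer ((P : Subgroup G) : Set G) : Set G) := by
    rw [← hset]; exact hg
  obtain ⟨h, hh, n, hn, rfl⟩ := Set.mem_mul.mp hg'
  exact ⟨h, hh, n, hn, rfl⟩

/-- Frattini: the normal closure `H` of `P` is generated by the `H`-conjugates of `P`. -/
theorem normalClosure_subtype_eq_top (P : Sylow p G)
    (hle : (P : Subgroup G) ≤ Subgroup.normalClosure ((P : Subgroup G) : Set G)) :
    Subgroup.normalClosure (((P.subtype hle : Sylow p (Subgroup.normalClosure ((P : Subgroup G) : Set G))) :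
      Subgroup (Subgroup.normalClosure ((P : Subgroup G) : Set G))) :
        Set (Subgroup.normalClosure ((P : Subgroup G) : Set G))) = ⊤ := by
  set H : Subgroup G := Subgroup.normalClosure ((P : Subgroup G) : Set G) with hH
  set L' : Subgroup H := Subgroup.normalClosure (((P.subtype hle : Sylow p H) : Subgroup H) : Set H) with hL'
  have hL'n : L'.Normal := Subgroup.normalClosure_normal
  have hPL' : ((P.subtype hle : Sylow p H) : Subgroup H) ≤ L' := Subgroup.le_normalClosure
  have hsub : Group.conjugatesOfSet ((P : Subgroup G) : Set G) ⊆ (L'.map H.subtype : Subgroup G) := by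
    intro y hy
    obtain ⟨x, hx, hconj⟩ := Group.mem_conjugatesOfSet_iff.mp hy
    obtain ⟨g, hg⟩ := isConj_iff.mp hconj
    obtain ⟨h, hh, n, hn, rfl⟩ := exists_mul_eq P g
    have hx' : n * x * n⁻¹ ∈ (P : Subgroup G) := (Subgroup.mem_normalizer_iff.mp hn x).mp hx
    have hxH : n * x * n⁻¹ ∈ H := hle hx'
    have hmem : (⟨n * x * n⁻¹, hxH⟩ : H) ∈ ((P.subtype hle : Sylow p H) : Subgroup H) := by
      rw [Sylow.coe_subtype, Subgroup.mem_subgroupOf]
      exact hx'
    have h1 : (⟨h, hh⟩ : H) * ⟨n * x * n⁻¹, hxH⟩ * (⟨h, hh⟩ : H)⁻¹ ∈ L' :=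
      hL'n.conj_mem _ (hPL' hmem) _
    refine ⟨_, h1, ?_⟩
    rw [← hg]
    simp only [Subgroup.coe_subtype, Subgroup.coe_mul, Subgroup.coe_inv]
    group
  have hHle : H ≤ (L'.map H.subtype : Subgroup G) := by
    show Subgroup.closure (Group.conjugatesOfSet ((P : Subgroup G) : Set G)) ≤ _
    exact (Subgroup.closure_le _).mpr hsub
  rw [eq_top_iff]
  intro y _
  obtain ⟨l, hl, hly⟩ := hHle y.2
  have : l = y := Subtype.ext hly
  rw [← this]
  exact hl

/-- the Sylow `p`-subgroups of `G` and of a normal subgroup containing one of them correspond -/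
theorem card_sylow_eq_of_normal (P : Sylow p G) (H : Subgroup G) [hHn : H.Normal]
    (hle : (P : Subgroup G) ≤ H) : Nat.card (Sylow p G) = Nat.card (Sylow p H) := by
  have hall : ∀ Q : Sylow p G, (Q : Subgroup G) ≤ H := by
    intro Q
    obtain ⟨g, rfl⟩ := MulAction.exists_smul_eq G P Q
    intro y hy
    rw [Sylow.smul_def, Sylow.pointwise_smul_def] at hy
    obtain ⟨x, hx, rfl⟩ := hy
    exact hHn.conj_mem x (hle hx) g
  refine Nat.card_congr (Equiv.ofBijective (fun Q : Sylow p G => Q.subtype (hall Q)) ⟨?_, ?_⟩)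
  · intro Q Q' h
    exact Sylow.subtype_injective h
  · intro R
    obtain ⟨h, rfl⟩ := MulAction.exists_smul_eq H (P.subtype hle) R
    refine ⟨h • P, ?_⟩
    show (h • P).subtype _ = h • P.subtype hle
    rw [Sylow.smul_subtype]

end Cfsg.Agent.Lib.Helper14.BRR4c
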