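import Mathlib
import Cfsg.Prelude.Def_Blocks

/-!
# S4937 (helper14): relative central characters

For a subgroup `N` of `G` and `x : G`, the `N`-class of `x` is `{n x n⁻¹ | n ∈ N}`; it has
`kN N x = |N : C_N(x)|` elements.  If `ψ ∈ Irr(G)` restricts irreducibly to `N`, the `N`-class sum of
`x` acts as the scalar `relCC N ψ x = |x^N| ψ(x) / ψ(1)` (Schur's lemma for `ρ|_N`).
-/

set_option autoImplicit false

namespace Cfsg.Agent.Lib.Helper14.PBExt

open Cfsg

universe u

variable {G : Type u} [Group G]

/-- `|N : C_N(x)|`: the size of the `N`-conjugacy class of `x`. -/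
noncomputable def kN (N : Subgroup G) (x : G) : ℕ :=
  (Subgroup.centralizer ({x} : Set G)).relIndex N

/-- The relative central character `|x^N| ψ(x) / ψ(1)`. -/
noncomputable def relCC (N : Subgroup G) (ψ : G → ℂ) (x : G) : ℂ :=
  (kN N x : ℂ) * ψ x / ψ 1

/-- `a` is constant on `N`-conjugacy classes. -/
def InvN (N : Subgroup G) (a : G → ℂ) : Prop :=
  ∀ g : G, ∀ n ∈ N, a (n * g * n⁻¹) = a g

/-- Indicator function of the `N`-class of `x`. -/
noncomputable def indN (N : Subgroup G) (x : G) : G → ℂ :=
  fun g => by classical exact if ∃ n ∈ N, n * x * n⁻¹ = g then 1 else 0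

end Cfsg.Agent.Lib.Helper14.PBExt
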