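import Mathlib
import Cfsg.Agent.Lib.Helper14.PBExtDefs

/-!
# S4937, leaves ORB1-ORB3 (helper14): `N` acting on `G` by conjugation

`kN N x` is the size of the `N`-class of `x`; an `N`-invariant sum over `G` collapses to a sum over a
transversal of the `N`-classes.
-/

set_option autoImplicit false
set_option linter.style.haveILetI false

namespace Cfsg.Agent.Lib.Helper14.PBExt

open Cfsg

universe u

variable {G : Type u} [Group G]

/-- the conjugation action of a subgroup `N` on `G` -/
@[reducible] noncomputable def conjActN (N : Subgroup G) : MulAction ↥N G :=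
  MulAction.compHom G ((MulAut.conj : G →* MulAut G).comp N.subtype)

theorem conjActN_smul (N : Subgroup G) (n : ↥N) (g : G) :
    (letI := conjActN N; n • g) = (n : G) * g * (n : G)⁻¹ := rfl

theorem mem_orbit_conjActN (N : Subgroup G) (x g : G) :
    (letI := conjActN N; g ∈ MulAction.orbit ↥N x) ↔ ∃ n ∈ N, n * x * n⁻¹ = g := by
  letI := conjActN N
  rw [MulAction.mem_orbit_iff]
  constructor
  · rintro ⟨n, hn⟩
    exact ⟨n, n.2, hn⟩
  · rintro ⟨n, hnN, hn⟩
    exact ⟨⟨n, hnN⟩, hn⟩

theorem stabilizer_conjActN (N : Subgroup G) (x : G) :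
    (letI := conjActN N; MulAction.stabilizer ↥N x) =
      (Subgroup.centralizer ({x} : Set G)).subgroupOf N := by
  letI := conjActN N
  ext n
  rw [MulAction.mem_stabilizer_iff, Subgroup.mem_subgroupOf, Subgroup.mem_centralizer_iff]
  constructor
  · intro h y hy
    rw [Set.mem_singleton_iff] at hy
    subst hy
    have h1 : (n : G) * y * (n : G)⁻¹ = y := h
    calc y * (n : G) = ((n : G) * y * (n : G)⁻¹) * (n : G) := by rw [h1]
      _ = (n : G) * y := by group
  · intro h
    have h1 := h x (Set.mem_singleton x)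
    show (n : G) * x * (n : G)⁻¹ = x
    rw [← h1]
    group

/-- `kN N x` is the cardinality of the `N`-class of `x`. -/
theorem kN_eq_ncard_orbit (N : Subgroup G) (x : G) :
    kN N x = (letI := conjActN N; (MulAction.orbit ↥N x).ncard) := by
  letI := conjActN N
  rw [← MulAction.index_stabilizer, stabilizer_conjActN]
  rfl

theorem kN_eq_ncard (N : Subgroup G) (x : G) :
    kN N x = {g : G | ∃ n ∈ N, n * x * n⁻¹ = g}.ncard := by
  rw [kN_eq_ncard_orbit]
  letI := conjActN N
  congr 1
  ext g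
  exact mem_orbit_conjActN N x g

/-- ORB1 -/
theorem indN_invN (N : Subgroup G) (x : G) : InvN N (indN N x) := by
  intro g n hn
  unfold indN
  have hiff : (∃ m ∈ N, m * x * m⁻¹ = n * g * n⁻¹) ↔ (∃ m ∈ N, m * x * m⁻¹ = g) := by
    constructor
    · rintro ⟨m, hm, h⟩
      refine ⟨n⁻¹ * m, N.mul_mem (N.inv_mem hn) hm, ?_⟩
      calc n⁻¹ * m * x * (n⁻¹ * m)⁻¹ = n⁻¹ * (m * x * m⁻¹) * n := by group
        _ = n⁻¹ * (n * g * n⁻¹) * n := by rw [h]
        _ = g := by group
    · rintro ⟨m, hm, h⟩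
      refine ⟨n * m, N.mul_mem hn hm, ?_⟩
      calc n * m * x * (n * m)⁻¹ = n * (m * x * m⁻¹) * n⁻¹ := by group
        _ = n * g * n⁻¹ := by rw [h]
  by_cases h : ∃ m ∈ N, m * x * m⁻¹ = g
  · rw [if_pos h, if_pos (hiff.mpr h)]
  · rw [if_neg h, if_neg (fun h' => h (hiff.mp h'))]

theorem indN_of_mem {N : Subgroup G} {x g : G} (h : ∃ n ∈ N, n * x * n⁻¹ = g) : indN N x g = 1 := by
  unfold indN
  exact if_pos h

theorem indN_of_not_mem {N : Subgroup G} {x g : G} (h : ¬ ∃ n ∈ N, n * x * n⁻¹ = g) :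
    indN N x g = 0 := by
  unfold indN
  exact if_neg h

theorem indN_self (N : Subgroup G) (x : G) : indN N x x = 1 :=
  indN_of_mem ⟨1, N.one_mem, by simp⟩

/-- ORB2: orbit-stabiliser for the `N`-class of `x`. -/
theorem sum_indN_mul [Finite G] (N : Subgroup G) (x : G) (f : G → ℂ) (hf : InvN N f) :
    ∑ᶠ g : G, indN N x g * f g = (kN N x : ℂ) * f x := by
  classical
  haveI : Fintype G := Fintype.ofFinite G
  rw [finsum_eq_sum_of_fintype]
  have h1 : ∀ g : G, indN N x g * f g =
      if g ∈ {g : G | ∃ n ∈ N, n * x * n⁻¹ = g} then f x else 0 := by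
    intro g
    by_cases h : ∃ n ∈ N, n * x * n⁻¹ = g
    · rw [if_pos (by exact h), indN_of_mem h, one_mul]
      obtain ⟨n, hn, rfl⟩ := h
      exact hf x n hn
    · rw [if_neg (by exact h), indN_of_not_mem h, zero_mul]
  rw [Finset.sum_congr rfl (fun g _ => h1 g), ← Finset.sum_filter, Finset.sum_const, nsmul_eq_mul,
    kN_eq_ncard, Set.ncard_eq_toFinset_card']
  congr 2
  apply Finset.card_bij (fun a _ => a)
  · intro a ha
    rw [Finset.mem_filter] at ha
    rw [Set.mem_toFinset]
    exact ha.2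
  · intro a _ b _ h
    exact h
  · intro b hb
    rw [Set.mem_toFinset] at hb
    exact ⟨b, Finset.mem_filter.mpr ⟨Finset.mem_univ _, hb⟩, rfl⟩

/-- ORB3: a transversal of the `N`-classes collapses every `N`-invariant sum. -/
theorem exists_reps [Finite G] (N : Subgroup G) :
    ∃ T : Finset G, ∀ F : G → ℂ, InvN N F → ∑ᶠ z : G, F z = ∑ z ∈ T, (kN N z : ℂ) * F z := by
  classical
  haveI : Fintype G := Fintype.ofFinite G
  letI := conjActN N
  haveI : Fintype (MulAction.orbitRel.Quotient ↥N G) := Fintype.ofFinite _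
  refine ⟨Finset.univ.image (fun ω : MulAction.orbitRel.Quotient ↥N G => Quotient.out ω), ?_⟩
  intro F hF
  rw [finsum_eq_sum_of_fintype]
  have hinj : Function.Injective (fun ω : MulAction.orbitRel.Quotient ↥N G => Quotient.out ω) :=
    fun a b h => by
      have := congrArg (Quotient.mk'' (s₁ := MulAction.orbitRel ↥N G)) h
      simpa using this
  rw [Finset.sum_image (fun a _ b _ h => hinj h)]
  rw [← Fintype.sum_equiv (MulAction.selfEquivSigmaOrbits ↥N G).symm
    (fun p : (ω : MulAction.orbitRel.Quotient ↥N G) × ↑(MulAction.orbit ↥N (Quotient.out ω)) =>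
      F (p.2 : G)) F (fun p => by
        congr 1)]
  rw [Fintype.sum_sigma]
  apply Finset.sum_congr rfl
  intro ω _
  have hconst : ∀ y : ↑(MulAction.orbit ↥N (Quotient.out ω)), F (y : G) = F (Quotient.out ω) := by
    rintro ⟨y, hy⟩
    obtain ⟨n, hn⟩ := MulAction.mem_orbit_iff.mp hy
    have h2 : (n : G) * Quotient.out ω * (n : G)⁻¹ = y := hn
    show F y = F (Quotient.out ω)
    rw [← h2]
    exact hF _ n n.2
  rw [Finset.sum_congr rfl (fun y _ => hconst y), Finset.sum_const, nsmul_eq_mul, kN_eq_ncard_orbit]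
  congr 2
  rw [Finset.card_univ, ← Nat.card_eq_fintype_card]
  rfl

end Cfsg.Agent.Lib.Helper14.PBExt
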