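import Mathlib
import Cfsg.Agent.Lib.Helper24.CentralChar
import Cfsg.Agent.Lib.Helper14.PBExtDefs

/-!
# S4937, leaves REL1-REL2 (helper14): Schur's lemma for `ρ|_N`

If `ρ ∘ N.subtype` is irreducible, every `N`-invariant "class sum" `∑ g, a g • ρ g` is a scalar.
Adaptation of helper24 `CentralChar.coeffSum_eq_omega_smul` and helper6 `ClassMult.sum_mul_char_mul`.
-/

set_option autoImplicit false

namespace Cfsg.Agent.Lib.Helper14.PBExt

open Cfsg Module Cfsg.Agent.Lib.Helper24

universe u v

variable {G : Type u} [Group G] {V : Type v} [AddCommGroup V] [Module ℂ V]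

theorem coeffSum_comm_rel [Fintype G] (ρ : Representation ℂ G V) (N : Subgroup G) (a : G → ℂ)
    (ha : InvN N a) (h : G) (hh : h ∈ N) :
    coeffSum ρ a ∘ₗ ρ h = ρ h ∘ₗ coeffSum ρ a := by
  unfold coeffSum
  rw [← Module.End.mul_eq_comp, ← Module.End.mul_eq_comp, Finset.sum_mul, Finset.mul_sum]
  rw [← Equiv.sum_comp (MulAut.conj h⁻¹).toEquiv (fun g => ρ h * (a g • ρ g))]
  apply Finset.sum_congr rfl
  intro g _
  have h1 : (MulAut.conj h⁻¹).toEquiv g = h⁻¹ * g * h := by simp
  rw [h1]
  have h2 : a (h⁻¹ * g * h) = a g := by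
    have := ha g h⁻¹ (N.inv_mem hh)
    simpa using this
  rw [h2, smul_mul_assoc, mul_smul_comm]
  congr 1
  rw [← map_mul, ← map_mul]
  congr 1
  group

/-- Schur for `ρ|_N`: an `N`-invariant class sum is a scalar. -/
theorem coeffSum_eq_omega_smul_rel [Fintype G] [FiniteDimensional ℂ V] (ρ : Representation ℂ G V)
    (N : Subgroup G)
    (hN : Representation.IsIrreducible (MonoidHom.comp ρ N.subtype : Representation ℂ ↥N V))
    (a : G → ℂ) (ha : InvN N a) :
    coeffSum ρ a = omega ρ a • (1 : Module.End ℂ V) := by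
  have := hN
  obtain ⟨c, hc⟩ := exists_eq_smul_one_of_comm
    (MonoidHom.comp ρ N.subtype : Representation ℂ ↥N V) (coeffSum ρ a)
    (fun g => coeffSum_comm_rel ρ N a ha (g : G) g.2)
  have hpos := finrank_pos_of_isIrreducible
    (MonoidHom.comp ρ N.subtype : Representation ℂ ↥N V)
  have h1 : LinearMap.trace ℂ V (coeffSum ρ a) = c * (finrank ℂ V : ℂ) := by
    rw [hc, map_smul, LinearMap.trace_one, smul_eq_mul]
  rw [trace_coeffSum] at h1
  have h2 : omega ρ a = c := by
    unfold omega
    rw [h1]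
    have : (finrank ℂ V : ℂ) ≠ 0 := by exact_mod_cast hpos.ne'
    field_simp
  rw [h2, hc]

/-- REL1: multiplication of `N`-invariant "class sums" on a representation irreducible on `N`. -/
theorem sum_mul_char_mul_rel [Fintype G] [FiniteDimensional ℂ V] (ρ : Representation ℂ G V)
    (N : Subgroup G)
    (hN : Representation.IsIrreducible (MonoidHom.comp ρ N.subtype : Representation ℂ ↥N V))
    (a b : G → ℂ) (ha : InvN N a) (hb : InvN N b) :
    ∑ g : G, ∑ h : G, a g * b h * ρ.character (g * h) =
      (∑ g : G, a g * ρ.character g) * (∑ h : G, b h * ρ.character h) /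
        (Module.finrank ℂ V : ℂ) := by
  have h1 := coeffSum_eq_omega_smul_rel ρ N hN a ha
  have h2 := coeffSum_eq_omega_smul_rel ρ N hN b hb
  have := hN
  have hpos := finrank_pos_of_isIrreducible
    (MonoidHom.comp ρ N.subtype : Representation ℂ ↥N V)
  have hne : (finrank ℂ V : ℂ) ≠ 0 := by exact_mod_cast hpos.ne'
  have hprod : coeffSum ρ a * coeffSum ρ b = ∑ g : G, ∑ h : G, (a g * b h) • ρ (g * h) := by
    unfold coeffSum
    rw [Finset.sum_mul_sum]
    apply Finset.sum_congr rfl
    intro g _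
    apply Finset.sum_congr rfl
    intro h _
    rw [smul_mul_smul_comm, map_mul]
  have htr1 : LinearMap.trace ℂ V (coeffSum ρ a * coeffSum ρ b) =
      ∑ g : G, ∑ h : G, a g * b h * ρ.character (g * h) := by
    rw [hprod, map_sum]
    apply Finset.sum_congr rfl
    intro g _
    rw [map_sum]
    apply Finset.sum_congr rfl
    intro h _
    rw [map_smul, smul_eq_mul]
    rfl
  have htr2 : LinearMap.trace ℂ V (coeffSum ρ a * coeffSum ρ b) =
      omega ρ a * omega ρ b * (finrank ℂ V : ℂ) := by
    rw [h1, h2, smul_mul_smul_comm, mul_one, map_smul, LinearMap.trace_one, smul_eq_mul]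
  rw [← htr1, htr2]
  unfold omega
  field_simp

/-- REL2: integrality. -/
theorem isIntegral_omega_rel [Fintype G] [FiniteDimensional ℂ V] (ρ : Representation ℂ G V)
    (N : Subgroup G)
    (hN : Representation.IsIrreducible (MonoidHom.comp ρ N.subtype : Representation ℂ ↥N V))
    (a : G → ℂ) (ha : InvN N a) (hint : ∀ g, IsIntegral ℤ (a g)) :
    IsIntegral ℤ ((∑ g : G, a g * ρ.character g) / (Module.finrank ℂ V : ℂ)) := by
  have := hN
  have := nontrivial_of_isIrreducible (MonoidHom.comp ρ N.subtype : Representation ℂ ↥N V)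
  have h : IsIntegral ℤ (omega ρ a) := by
    apply isIntegral_of_isIntegral_smul_one (V := V)
    rw [← coeffSum_eq_omega_smul_rel ρ N hN a ha]
    exact isIntegral_coeffSum ρ a hint
  exact h

end Cfsg.Agent.Lib.Helper14.PBExt
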