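import Mathlib
import Cfsg.Agent.Lib.Lead.RealRep
import Cfsg.Agent.Lib.Helper14.PBExtOrb
import Cfsg.Agent.Lib.Helper14.PBExtRel

/-!
# S4937, leaves CH1-CH2 (helper14): relative central characters at the character level
-/

set_option autoImplicit false

namespace Cfsg.Agent.Lib.Helper14.PBExt

open Cfsg Module Cfsg.Agent.CharLib

universe u

variable {G : Type u} [Group G]

/-- a character is constant on `N`-classes -/
theorem invN_of_isIrrCharacter (N : Subgroup G) {ψ : G → ℂ} (hψ : IsIrrCharacter G ψ) : InvN N ψ :=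
  fun g n _ => IsCharacter.isClassFunction (IsIrrCharacter.isCharacter hψ) g n

/-- extraction of a representation irreducible on `N` -/
theorem exists_rep_irr_on [Finite G] (N : Subgroup G) (ψ : G → ℂ) (hψ : IsIrrCharacter G ψ)
    (hres : IsIrrCharacter ↥N (fun n : N => ψ n)) :
    ∃ (d : ℕ) (ρ : Representation ℂ G (Fin d → ℂ)), ρ.character = ψ ∧
      Representation.IsIrreducible
        (MonoidHom.comp ρ N.subtype : Representation ℂ ↥N (Fin d → ℂ)) := by
  obtain ⟨d, ρ, _, hχ⟩ := hψ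
  refine ⟨d, ρ, hχ, ?_⟩
  apply isIrreducible_of_isIrrCharacter
  have hc : Representation.character
      (MonoidHom.comp ρ N.subtype : Representation ℂ ↥N (Fin d → ℂ)) = fun n : N => ψ n := by
    funext n
    rw [← hχ]
    rfl
  rw [hc]
  exact hres

theorem psi_one_eq_finrank {d : ℕ} (ρ : Representation ℂ G (Fin d → ℂ)) :
    ρ.character 1 = (finrank ℂ (Fin d → ℂ) : ℂ) := Representation.char_one ρ

/-- `relCC` as an `omega`-value. -/
theorem relCC_eq_sum [Fintype G] (N : Subgroup G) (ψ : G → ℂ) (hψ : IsIrrCharacter G ψ) (x : G) :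
    relCC N ψ x = (∑ g : G, indN N x g * ψ g) / ψ 1 := by
  unfold relCC
  have h := sum_indN_mul N x ψ (invN_of_isIrrCharacter N hψ)
  rw [finsum_eq_sum_of_fintype] at h
  rw [h]

/-- CH1 -/
theorem relCC_isIntegral [Finite G] (N : Subgroup G) (ψ : G → ℂ) (hψ : IsIrrCharacter G ψ)
    (hres : IsIrrCharacter ↥N (fun n : N => ψ n)) (x : G) : IsIntegral ℤ (relCC N ψ x) := by
  classical
  have : Fintype G := Fintype.ofFinite G
  obtain ⟨d, ρ, hχ, hN⟩ := exists_rep_irr_on N ψ hψ hres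
  rw [relCC_eq_sum N ψ hψ x]
  have h := isIntegral_omega_rel ρ N hN (indN N x) (indN_invN N x) (fun g => by
    by_cases hg : ∃ n ∈ N, n * x * n⁻¹ = g
    · rw [indN_of_mem hg]; exact isIntegral_one
    · rw [indN_of_not_mem hg]; exact isIntegral_zero)
  rw [hχ, ← psi_one_eq_finrank ρ, hχ] at h
  exact h

/-- CH2 -/
theorem relCC_mul [Finite G] (N : Subgroup G) (ψ : G → ℂ) (hψ : IsIrrCharacter G ψ)
    (hres : IsIrrCharacter ↥N (fun n : N => ψ n)) (x y : G) :
    relCC N ψ x * relCC N ψ y =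
      ∑ᶠ a : G, ∑ᶠ b : G, indN N x a * indN N y b * (ψ (a * b) / ψ 1) := by
  classical
  have : Fintype G := Fintype.ofFinite G
  obtain ⟨d, ρ, hχ, hN⟩ := exists_rep_irr_on N ψ hψ hres
  have h := sum_mul_char_mul_rel ρ N hN (indN N x) (indN N y) (indN_invN N x) (indN_invN N y)
  rw [← psi_one_eq_finrank ρ, hχ] at h
  obtain ⟨n, hnpos, hn⟩ := IsIrrCharacter.apply_one_pos hψ
  have h1 : ψ 1 ≠ 0 := by rw [hn]; exact_mod_cast hnpos.ne'
  rw [relCC_eq_sum N ψ hψ x, relCC_eq_sum N ψ hψ y, finsum_eq_sum_of_fintype]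
  have h2 : ∀ a : G, ∑ᶠ b : G, indN N x a * indN N y b * (ψ (a * b) / ψ 1) =
      (∑ b : G, indN N x a * indN N y b * ψ (a * b)) / ψ 1 := by
    intro a
    rw [finsum_eq_sum_of_fintype, Finset.sum_div]
    apply Finset.sum_congr rfl
    intro b _
    rw [mul_div_assoc]
  rw [Finset.sum_congr rfl (fun a _ => h2 a), ← Finset.sum_div, h]
  field_simp

end Cfsg.Agent.Lib.Helper14.PBExt
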