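/-
helper14: S4504 PART R, Schur piece: if a faithful irreducible character of `G` restricts irreducibly to `H`, then
`C_G(H) = Z(G)`.
-/
import Mathlib
import Cfsg.Agent.Lib.Helper14.PBExtCh
import Cfsg.Agent.Lib.Helper24.CentralChar

set_option autoImplicit false

namespace Cfsg.Agent.Lib.Helper14.BRR4d

open Cfsg Cfsg.Agent.CharLib

universe u

variable {G : Type u} [Group G] [Finite G]

theorem centralizer_le_center (H : Subgroup G) (χ : G → ℂ) (hχ : IsIrrCharacter G χ)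
    (hres : IsIrrCharacter ↥H (fun h : H => χ h)) (hfaith : ∀ g : G, χ g = χ 1 → g = 1) :
    Subgroup.centralizer (H : Set G) ≤ Subgroup.center G := by
  obtain ⟨d, ρ, hρχ, hirr⟩ := Cfsg.Agent.Lib.Helper14.PBExt.exists_rep_irr_on H χ hχ hres
  intro g hg
  rw [Subgroup.mem_center_iff]
  intro x
  have hcomm : ∀ h : H, ρ g ∘ₗ (MonoidHom.comp ρ H.subtype : Representation ℂ ↥H (Fin d → ℂ)) h =
      (MonoidHom.comp ρ H.subtype : Representation ℂ ↥H (Fin d → ℂ)) h ∘ₗ ρ g := by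
    intro h
    have h1 : (h : G) * g = g * (h : G) := Subgroup.mem_centralizer_iff.mp hg (h : G) h.2
    show ρ g * ρ (h : G) = ρ (h : G) * ρ g
    rw [← map_mul, ← map_mul, h1]
  have := hirr
  obtain ⟨c, hc⟩ := Cfsg.Agent.Lib.Helper24.exists_eq_smul_one_of_comm
    (MonoidHom.comp ρ H.subtype : Representation ℂ ↥H (Fin d → ℂ)) (ρ g) hcomm
  have h2 : ρ (x * g) = ρ (g * x) := by
    rw [map_mul, map_mul, hc]
    ext v
    simp
  have h3 : ρ (x * g * (g * x)⁻¹) = 1 := by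
    rw [map_mul, h2, ← map_mul, mul_inv_cancel, map_one]
  have h4 : χ (x * g * (g * x)⁻¹) = χ 1 := by
    rw [← hρχ]
    show LinearMap.trace ℂ _ (ρ (x * g * (g * x)⁻¹)) = LinearMap.trace ℂ _ (ρ 1)
    rw [h3, map_one ρ]
  have h5 := hfaith _ h4
  exact mul_inv_eq_one.mp h5

end Cfsg.Agent.Lib.Helper14.BRR4d
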