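import Mathlib
import Cfsg.Prelude.Def_SporadicCombinatorics

set_option autoImplicit false

/-! A table model of the field with four elements and the hexacode. -/

namespace Cfsg.Agent.Lib.Helper14.GF4

/-- addition table: 0, 1, ω = 2, ω + 1 = 3 -/
def add4 (a b : Fin 4) : Fin 4 := ![![0, 1, 2, 3], ![1, 0, 3, 2], ![2, 3, 0, 1], ![3, 2, 1, 0]] a b

/-- multiplication table -/
def mul4 (a b : Fin 4) : Fin 4 := ![![0, 0, 0, 0], ![0, 1, 2, 3], ![0, 2, 3, 1], ![0, 3, 1, 2]] a b

section field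

variable {F : Type*} [Field F] [Fintype F]

/-- the elements of the field -/
def E (ω : F) (a : Fin 4) : F := ![0, 1, ω, ω + 1] a

theorem two_eq_zero (hF : Fintype.card F = 4) : (2 : F) = 0 := by
  have h4 : ((Fintype.card F : ℕ) : F) = 0 := Nat.cast_card_eq_zero F
  rw [hF] at h4
  have : (2 : F) * 2 = 0 := by
    rw [← h4]; norm_num
  exact mul_self_eq_zero.mp this

theorem add_self (hF : Fintype.card F = 4) (x : F) : x + x = 0 := by
  rw [← two_mul, two_eq_zero hF, zero_mul]

theorem sq_omega (hF : Fintype.card F = 4) {ω : F} (hω : ω ^ 2 + ω + 1 = 0) : ω ^ 2 = ω + 1 := by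
  have h := add_self hF (ω + 1)
  have : ω ^ 2 = ω ^ 2 + ((ω + 1) + (ω + 1)) := by rw [h, add_zero]
  rw [this]
  linear_combination hω

theorem omega_ne_zero {ω : F} (hω : ω ^ 2 + ω + 1 = 0) : ω ≠ 0 := by
  rintro rfl
  simp at hω

theorem omega_ne_one (hF : Fintype.card F = 4) {ω : F} (hω : ω ^ 2 + ω + 1 = 0) : ω ≠ 1 := by
  rintro rfl
  have h2 := two_eq_zero (F := F) hF
  have : (1 : F) = 0 := by linear_combination hω - h2
  exact one_ne_zero this

theorem E_add (hF : Fintype.card F = 4) (ω : F) (a b : Fin 4) :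
    E ω (add4 a b) = E ω a + E ω b := by
  have h2 := two_eq_zero (F := F) hF
  fin_cases a <;> fin_cases b <;> simp [E, add4] <;> first
    | linear_combination (0 : F) * h2
    | linear_combination (-1 : F) * h2
    | linear_combination (-ω) * h2
    | linear_combination (-(ω + 1)) * h2
    | linear_combination (1 : F) * h2
    | linear_combination (ω) * h2
    | linear_combination (ω + 1) * h2

theorem E_mul (hF : Fintype.card F = 4) {ω : F} (hω : ω ^ 2 + ω + 1 = 0) (a b : Fin 4) :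
    E ω (mul4 a b) = E ω a * E ω b := by
  have h2 := two_eq_zero (F := F) hF
  have hs := sq_omega hF hω
  fin_cases a <;> fin_cases b <;> simp [E, mul4] <;> first
    | linear_combination (-1 : F) * hs
    | linear_combination (-1 : F) * hs + (-ω) * h2
    | linear_combination (-1 : F) * hs + (-(ω + 1)) * h2
    | linear_combination (-1 : F) * hs + (-1 : F) * h2
    | linear_combination (0 : F) * hs

theorem E_eq_zero_iff (hF : Fintype.card F = 4) {ω : F} (hω : ω ^ 2 + ω + 1 = 0) (a : Fin 4) :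
    E ω a = 0 ↔ a = 0 := by
  have h0 := omega_ne_zero hω
  have h1 := omega_ne_one hF hω
  have h2 : ω + 1 ≠ 0 := by
    intro h
    apply h1
    have := add_self hF (1 : F)
    linear_combination h - this
  fin_cases a <;> simp [E, h0, h2]

theorem E_injective (hF : Fintype.card F = 4) {ω : F} (hω : ω ^ 2 + ω + 1 = 0) :
    Function.Injective (E ω) := by
  intro a b h
  have h0 : E ω (add4 a b) = 0 := by
    rw [E_add hF, h, add_self hF]
  rw [E_eq_zero_iff hF hω] at h0
  have key : ∀ a b : Fin 4, add4 a b = 0 → a = b := by decide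
  exact key a b h0

theorem E_bijective (hF : Fintype.card F = 4) {ω : F} (hω : ω ^ 2 + ω + 1 = 0) :
    Function.Bijective (E ω) := by
  rw [Fintype.bijective_iff_injective_and_card]
  exact ⟨E_injective hF hω, by rw [hF, Fintype.card_fin]⟩

theorem E_surjective (hF : Fintype.card F = 4) {ω : F} (hω : ω ^ 2 + ω + 1 = 0) :
    Function.Surjective (E ω) := (E_bijective hF hω).2

omit [Fintype F] in
theorem E_zero (ω : F) : E ω 0 = 0 := rfl
omit [Fintype F] in
theorem E_one (ω : F) : E ω 1 = 1 := rfl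
omit [Fintype F] in
theorem E_two (ω : F) : E ω 2 = ω := rfl
theorem E_three (hF : Fintype.card F = 4) {ω : F} (hω : ω ^ 2 + ω + 1 = 0) : E ω 3 = ω ^ 2 :=
  (sq_omega hF hω).symm

end field

/-! ### the hexacode in the table model -/

/-- the three generators -/
def g1 : Fin 6 → Fin 4 := ![2, 3, 3, 2, 3, 2]
def g2 : Fin 6 → Fin 4 := ![3, 2, 2, 3, 3, 2]
def g3 : Fin 6 → Fin 4 := ![3, 2, 3, 2, 2, 3]

/-- the word with coefficients `a, b, c` -/
def wordN (a b c : Fin 4) : Fin 6 → Fin 4 := fun i =>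
  add4 (add4 (mul4 a (g1 i)) (mul4 b (g2 i))) (mul4 c (g3 i))

section field

variable {F : Type*} [Field F] [Fintype F]

theorem gen1 (hF : Fintype.card F = 4) {ω : F} (hω : ω ^ 2 + ω + 1 = 0) (i : Fin 6) :
    (![ω, ω ^ 2, ω ^ 2, ω, ω ^ 2, ω] : Fin 6 → F) i = E ω (g1 i) := by
  have := E_three hF hω
  fin_cases i <;> simp [g1, E_two, this]

theorem gen2 (hF : Fintype.card F = 4) {ω : F} (hω : ω ^ 2 + ω + 1 = 0) (i : Fin 6) :
    (![ω ^ 2, ω, ω, ω ^ 2, ω ^ 2, ω] : Fin 6 → F) i = E ω (g2 i) := by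
  have := E_three hF hω
  fin_cases i <;> simp [g2, E_two, this]

theorem gen3 (hF : Fintype.card F = 4) {ω : F} (hω : ω ^ 2 + ω + 1 = 0) (i : Fin 6) :
    (![ω ^ 2, ω, ω ^ 2, ω, ω, ω ^ 2] : Fin 6 → F) i = E ω (g3 i) := by
  have := E_three hF hω
  fin_cases i <;> simp [g3, E_two, this]

theorem mem_hexacode_iff (hF : Fintype.card F = 4) {ω : F} (hω : ω ^ 2 + ω + 1 = 0)
    (x : Fin 6 → F) :
    x ∈ Cfsg.hexacode F ω ↔ ∃ a b c : Fin 4, x = fun i => E ω (wordN a b c i) := by
  unfold Cfsg.hexacode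
  rw [Submodule.mem_span_triple]
  constructor
  · rintro ⟨α, β, γ, rfl⟩
    obtain ⟨a, rfl⟩ := E_surjective hF hω α
    obtain ⟨b, rfl⟩ := E_surjective hF hω β
    obtain ⟨c, rfl⟩ := E_surjective hF hω γ
    refine ⟨a, b, c, ?_⟩
    funext i
    simp only [Pi.add_apply, Pi.smul_apply, smul_eq_mul]
    rw [gen1 hF hω, gen2 hF hω, gen3 hF hω, wordN, E_add hF, E_add hF, E_mul hF hω, E_mul hF hω,
      E_mul hF hω]
  · rintro ⟨a, b, c, rfl⟩
    refine ⟨E ω a, E ω b, E ω c, ?_⟩
    funext i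
    simp only [Pi.add_apply, Pi.smul_apply, smul_eq_mul]
    rw [gen1 hF hω, gen2 hF hω, gen3 hF hω, wordN, E_add hF, E_add hF, E_mul hF hω, E_mul hF hω,
      E_mul hF hω]

end field

end Cfsg.Agent.Lib.Helper14.GF4
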