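/-
helper14: S4503 PART E, leaf DEFPOS (`blockDefect_pos_of_not_dvd`): the block of an irreducible character of degree
prime to `p` has positive defect (when `p ∣ |G|`).
-/
import Mathlib
import Cfsg.Prelude.Def_BlockRank
import Cfsg.Agent.Lib.Helper6.FirstMain

set_option autoImplicit false

namespace Cfsg.Agent.Lib.Helper14.BREDEFPOS

open Cfsg

universe u

variable {G : Type u} [Group G] [Finite G] {p : ℕ} [Fact p.Prime] {M : Ideal AlgInt}

/-- DEFPOS : the block of an irreducible character of degree prime to `p` has positive defect. -/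
theorem blockDefect_pos_of_not_dvd (hM : IsPModular p M) (hdiv : p ∣ Nat.card G) (ψ : IrrCharacter G)
    (h : ¬ p ∣ charDegree (ψ : G → ℂ)) : 0 < blockDefect p (blockOf M (ψ : G → ℂ)) := by
  have hp : p.Prime := Fact.out
  have hMprime : M.IsPrime := hM.2.1.isPrime
  unfold blockDefect
  have h0 : sInf ((fun χ : IrrCharacter G => (charDegree (χ : G → ℂ)).factorization p) ''
      blockOf M (ψ : G → ℂ)) = 0 := by
    apply Nat.sInf_eq_zero.mpr
    left
    refine ⟨ψ, Cfsg.Agent.Lib.Helper6.mem_blockOf_self ψ, ?_⟩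
    exact Nat.factorization_eq_zero_of_not_dvd h
  rw [h0, Nat.sub_zero]
  exact Nat.Prime.factorization_pos_of_dvd hp Nat.card_pos.ne' hdiv

end Cfsg.Agent.Lib.Helper14.BREDEFPOS
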