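/-
helper14: S4503 (Brauer, degree < (p-1)/2), PART E: the spine `partE` (seam E → H, msgs 7794/7797) over the landed leaves of
`notes/S4503_E_leaves.lean` (helpers 4, 5, 8, 14, 15, 16).
-/
import Mathlib
import Cfsg.Prelude.Def_BlockRank
import Cfsg.Agent.Lib.Helper27.DODefs
import Cfsg.Agent.Lib.Helper27.BlkAlgDefs2
import Cfsg.Agent.Lib.Helper14.BREData
import Cfsg.Agent.Lib.Helper14.BREDEFPOS
import Cfsg.Agent.Lib.Helper14.BREEASYX
import Cfsg.Agent.Lib.Helper14.BREPSIREG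
import Cfsg.Agent.Lib.Helper8.BRERESY
import Cfsg.Agent.Lib.Helper16.BREFONE
import Cfsg.Agent.Lib.Helper15.BRENOTRIV
import Cfsg.Agent.Lib.Helper15.BREPFIX
import Cfsg.Agent.Lib.Helper4.BREKNORM
import Cfsg.Agent.Lib.Helper5.BREEASYY
import Cfsg.Agent.Lib.Helper16.DOSETUP
import Cfsg.Agent.Lib.Helper24.IrrFacts
import Cfsg.Agent.Lib.Helper6.FirstMain

set_option autoImplicit false

namespace Cfsg.Agent.Lib.Helper14.BRE

open Cfsg Cfsg.Agent.Lib.Helper8.DOM Cfsg.Agent.Lib.Helper27.DO Cfsg.Agent.Lib.Helper27.BlkAlg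
open Cfsg.Agent.Lib.Helper14.BREDEFPOS Cfsg.Agent.Lib.Helper14.BREEASYX Cfsg.Agent.Lib.Helper14.BREPSIREG
open Cfsg.Agent.Lib.Helper8.BRERESY Cfsg.Agent.Lib.Helper16.BREFONE Cfsg.Agent.Lib.Helper15.BRENOTRIV
open Cfsg.Agent.Lib.Helper15.BREPFIX Cfsg.Agent.Lib.Helper4.BREKNORM Cfsg.Agent.Lib.Helper5.BREEASYY
open scoped ComplexConjugate

universe u

variable {G : Type u} [Group G] [Finite G] {p : ℕ} [Fact p.Prime] {M : Ideal AlgInt}

/-- a proper subgroup of a finite group misses an element -/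
theorem exists_not_mem_of_card_lt {H : Type*} [Group H] [Finite H] (F : Subgroup H)
    (h : Nat.card F < Nat.card H) : ∃ k : H, k ∉ F := by
  by_contra hcon
  push Not at hcon
  have : F = ⊤ := by
    ext k
    simp [hcon k]
  rw [this, Subgroup.card_top] at h
  exact lt_irrefl _ h

/-- PART E : the seam E → H. -/
theorem partE (hM : IsPModular p M) (P : Subgroup G) (hP : Nat.card P = p) (hSyl : ¬ p ∣ P.index)
    (ψ : IrrCharacter G) (hfaith : ∀ g : G, (ψ : G → ℂ) g = (ψ : G → ℂ) 1 → g = 1)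
    (hdeg : 2 * charDegree (ψ : G → ℂ) + 1 < p) (hnn : ¬ P.Normal) :
    ∃ ψ' : IrrCharacter G,
      (∀ g : G, ¬ p ∣ orderOf g → (ψ' : G → ℂ) g = (ψ : G → ℂ) g) ∧
      (∑ᶠ x ∈ (P : Set G), (ψ : G → ℂ) x * conj ((ψ' : G → ℂ) x) = 0) ∧
      2 ≤ (Cz P).relIndex (Nz P) ∧
      (Cz P).relIndex (Nz P) ≤ charDegree (ψ : G → ℂ) ∧
      (p : ℝ) * ∑ᶠ y ∈ {y : G | y ∈ Cz P ∧ ¬ p ∣ orderOf y}, Complex.normSq ((ψ : G → ℂ) y) ≤
        ((Cz P).relIndex (Nz P) : ℝ) ^ 2 * (Nat.card (Cz P) : ℝ) := by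
  classical
  have hp : p.Prime := Fact.out
  have hMmax : M.IsMaximal := hM.2.1
  have hMprime : M.IsPrime := hMmax.isPrime
  obtain ⟨x0, hx0⟩ := Cfsg.Agent.Lib.Helper8.DOFULL.exists_gen P hP
  have hord : orderOf x0 = p := by rw [← hP, hx0, Nat.card_zpowers]
  have hdiv : p ∣ Nat.card G := by
    rw [← hP]
    exact Subgroup.card_subgroup_dvd_card P
  have hψpos := Cfsg.Agent.Lib.Helper24.irr_charDegree_pos ψ
  have hndvd : ¬ p ∣ charDegree (ψ : G → ℂ) := by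
    intro h
    have := Nat.le_of_dvd hψpos h
    omega
  -- the block of `ψ` and its data
  set B : Set (IrrCharacter G) := blockOf M (ψ : G → ℂ) with hBdef
  have hB : IsPBlock M B := ⟨ψ, rfl⟩
  have hd : 0 < blockDefect p B := blockDefect_pos_of_not_dvd hM hdiv ψ hndvd
  obtain ⟨θ, T, E, c, d, hcard⟩ :=
    Cfsg.Agent.Lib.Helper14.BREData.exists_data hM P hP hSyl x0 hx0 B hB hd
  obtain ⟨X, ψs, v, ε, hBeq, hdisj, hXcard, hψiff, hε, hXrow, hYrow, hrel⟩ :=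
    Cfsg.Agent.Lib.Helper8.DOSHAPE.shape_of_data d hcard
  have hψB : ψ ∈ B := Cfsg.Agent.Lib.Helper6.mem_blockOf_self ψ
  have hT := c.hT
  -- `ψ` is exceptional
  have hψY : ψ ∈ Set.range ψs := by
    rw [hBeq] at hψB
    rcases hψB with h | h
    · exfalso
      obtain ⟨hv1, hv⟩ := hXrow ψ h
      exact false_of_const_row d hP hT ψ (by rw [hBeq]; exact Or.inl h) (v ψ) hv1 hv hfaith hdeg
    · exact h
  obtain ⟨i, hi⟩ := hψY
  have hrange : ∀ i', ψs i' ∈ B := by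
    intro i'
    rw [hBeq]
    exact Or.inr ⟨i', rfl⟩
  -- the image `F` of `N` in `(ℤ/p)ˣ`
  obtain ⟨hCT, hTN⟩ := Cfsg.Agent.Lib.Helper16.DOINERT.le_of_isInertia P θ T hT
  have hCN : Cz P ≤ Nz P := le_trans hCT hTN
  obtain ⟨F, hF, hFcard⟩ := Cfsg.Agent.Lib.Helper16.DOSETUP.exists_E P hP x0 hx0 (Nz P) hCN le_rfl
  set f := (Cz P).relIndex (Nz P) with hf
  have hθpos := Cfsg.Agent.Lib.Helper24.irr_charDegree_pos θ
  set cθ := charDegree (θ : Cz P → ℂ) with hcθ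
  -- values on `P`
  have hval : ∀ i' : (ZMod p)ˣ, ∀ j : ℕ, ¬ p ∣ j → (ψs i' : G → ℂ) (x0 ^ j) = (ε : ℂ) * (cθ : ℂ) *
      ∑ᶠ w ∈ (F : Set (ZMod p)ˣ), zetaP p ^ (((w : ZMod p) * (i' : ZMod p)).val * j) :=
    fun i' j hj => apply_pow_of_row d hP hT F hF (ψs i') (hrange i') i' ε (hYrow i') j hj
  have hfaith' : ∀ g : G, (ψs i : G → ℂ) g = (ψs i : G → ℂ) 1 → g = 1 := by rw [hi]; exact hfaith
  have hdeg' : 2 * charDegree (ψs i : G → ℂ) + 1 < p := by rw [hi]; exact hdeg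
  obtain ⟨hε1, hdegeq, hsum0⟩ := sign_degree_of_values (ψs i) P x0 hx0 hord F i ε hε cθ hθpos
    (hval i) hfaith' hdeg'
  rw [hi] at hdegeq hsum0
  rw [hFcard] at hdegeq
  -- `f ≥ 2`
  have hfpos : 0 < f := by
    rw [← hFcard]
    exact Nat.card_pos
  have hf2 : 2 ≤ f := by
    by_contra hlt
    have hf1 : Nat.card F = 1 := by rw [hFcard]; omega
    apply hnn
    refine normal_of_card_eq_one (ψs i) P x0 hx0 hord F hf1 i ε hε cθ (hval i) ?_ hfaith'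
    rw [hi, hdegeq, hFcard]
  have hfle : f ≤ charDegree (ψ : G → ℂ) := by
    rw [hdegeq]
    exact Nat.le_mul_of_pos_right f hθpos
  -- the twist
  have hFlt : Nat.card F < Nat.card (ZMod p)ˣ := by
    rw [hFcard, Nat.card_eq_fintype_card, ZMod.card_units_eq_totient, Nat.totient_prime hp]
    omega
  obtain ⟨k, hk⟩ := exists_not_mem_of_card_lt F hFlt
  set i' := i * k with hi'
  have hii' : i' * i⁻¹ ∉ F := by
    have : i' * i⁻¹ = k := by rw [hi', mul_comm i k, mul_inv_cancel_right]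
    rw [this]
    exact hk
  have hεne : (ε : ℂ) ≠ 0 := by
    rcases hε with h | h <;> rw [h] <;> norm_num
  have hreg : ∀ g : G, ¬ p ∣ orderOf g → (ψs i' : G → ℂ) g = (ψ : G → ℂ) g := by
    intro g hg
    have h1 := hrel i g hg
    have h2 := hrel i' g hg
    rw [← h2, hi] at h1
    exact (mul_left_cancel₀ hεne h1).symm
  have hone : ¬ p ∣ orderOf (1 : G) := by
    rw [orderOf_one]
    exact hp.one_lt.ne' ∘ Nat.dvd_one.mp
  have hψ1 : (ψ : G → ℂ) 1 = ((Nat.card F * cθ : ℕ) : ℂ) := by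
    rw [Cfsg.Agent.Lib.Helper24.irr_apply_one, hdegeq, hFcard]
  have hψ'1 : (ψs i' : G → ℂ) 1 = ((Nat.card F * cθ : ℕ) : ℂ) := by
    rw [hreg 1 hone, hψ1]
  have hnotriv : ∑ᶠ x ∈ (P : Set G), (ψ : G → ℂ) x * conj ((ψs i' : G → ℂ) x) = 0 := by
    refine sum_mul_conj_eq_zero P x0 hx0 hord F i i' hii' ε hε cθ (ψ : G → ℂ) (ψs i' : G → ℂ) ?_
      (hval i') hψ1 hψ'1
    rw [← hi]
    exact hval i
  -- the norm on the `p`-regular part of `C`
  have hψchar : IsCharacter G (ψ : G → ℂ) := Cfsg.Agent.CharLib.IsIrrCharacter.isCharacter ψ.2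
  have hvalreg : ∀ y ∈ {y : G | y ∈ Cz P ∧ ¬ p ∣ orderOf y},
      Complex.normSq ((ψ : G → ℂ) y) =
        (Nat.card E : ℝ) ^ 2 * Complex.normSq (thetaSum P (θ : Cz P → ℂ) T y) := by
    rintro y ⟨hy, hyreg⟩
    have hfix := sum_mul_eq_zero_of_sum_eq_zero (ψ : G → ℂ) hψchar P hsum0 y hy
    have h1 := apply_reg_of_row d hP hT (ψs i) (hrange i) i ε (hYrow i) y hy hyreg
      (by rw [hi]; exact hfix)
    rw [hi] at h1
    rw [h1, hε1, Complex.normSq_mul, Complex.normSq_mul]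
    simp [Complex.normSq_natCast, sq]
  have hknorm := sum_normSq_thetaSum_le P hP hSyl θ c.hθP T hT
  have hmul : (Cz P).relIndex T * T.relIndex (Nz P) = f :=
    Subgroup.relIndex_mul_relIndex (Cz P) T (Nz P) hCT hTN
  refine ⟨ψs i', hreg, hnotriv, hf2, hfle, ?_⟩
  rw [finsum_mem_congr rfl hvalreg, ← mul_finsum_mem]
  · have hE : (Nat.card E : ℝ) = ((Cz P).relIndex T : ℝ) := by rw [d.cardE]
    have hfR : (f : ℝ) = ((Cz P).relIndex T : ℝ) * (T.relIndex (Nz P) : ℝ) := by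
      rw [← hmul]; push_cast; ring
    rw [hfR, hE]
    have h0 : (0 : ℝ) ≤ ((Cz P).relIndex T : ℝ) ^ 2 := by positivity
    calc (p : ℝ) * (((Cz P).relIndex T : ℝ) ^ 2 *
          ∑ᶠ y ∈ {y : G | y ∈ Cz P ∧ ¬ p ∣ orderOf y},
            Complex.normSq (thetaSum P (θ : Cz P → ℂ) T y))
        = ((Cz P).relIndex T : ℝ) ^ 2 * ((p : ℝ) *
          ∑ᶠ y ∈ {y : G | y ∈ Cz P ∧ ¬ p ∣ orderOf y},
            Complex.normSq (thetaSum P (θ : Cz P → ℂ) T y)) := by ring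
      _ ≤ ((Cz P).relIndex T : ℝ) ^ 2 *
          ((T.relIndex (Nz P) : ℝ) ^ 2 * (Nat.card (Cz P) : ℝ)) :=
        mul_le_mul_of_nonneg_left hknorm h0
      _ = (((Cz P).relIndex T : ℝ) * (T.relIndex (Nz P) : ℝ)) ^ 2 * (Nat.card (Cz P) : ℝ) := by ring

end Cfsg.Agent.Lib.Helper14.BRE
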