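/-
helper14: S4503 (Brauer, degree < (p-1)/2): CORE = PART E (`Helper14.BRE.partE`) + PART H (helper6 `partH`),
in the form `Helper21.S4503R.Core p` consumed by PART R (helper21 `S4503R.s4503_of_core`).
-/
import Mathlib
import Cfsg.Agent.Lib.Helper21.S4503R
import Cfsg.Agent.Lib.Helper14.BRE
import Cfsg.Agent.Lib.Helper6.BRHMain
import Cfsg.Agent.Lib.Helper6.Knoerr

set_option autoImplicit false

namespace Cfsg.Agent.Lib.Helper14.BRCore

open Cfsg Cfsg.Agent.Lib.Helper8.DOM Cfsg.Agent.Lib.Helper27.DO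

universe u

/-- CORE : a group with `p ∥ |G|`, generated by the conjugates of a Sylow `p`-subgroup `P`, with a faithful
irreducible character of degree `< (p-1)/2`, has `P` normal. -/
theorem core (p : ℕ) (hp : p.Prime) : Cfsg.Agent.Lib.Helper21.S4503R.Core.{u} p := by
  intro G _ _ hdiv hsq P htop ψ hψ hfaith hdeg
  have : Fact p.Prime := ⟨hp⟩
  by_contra hnn
  obtain ⟨M, hM⟩ := Cfsg.Agent.Lib.Helper6.exists_isPModular p
  have hP : Nat.card (P : Subgroup G) = p := Cfsg.Agent.Lib.Helper21.S4503R.card_sylow_eq hdiv hsq P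
  have hSyl : ¬ p ∣ (P : Subgroup G).index := P.not_dvd_index
  obtain ⟨ψ', hreg, hP0, hf2, hfn, hK⟩ :=
    Cfsg.Agent.Lib.Helper14.BRE.partE hM (P : Subgroup G) hP hSyl ⟨ψ, hψ⟩ hfaith hdeg hnn
  exact Cfsg.Agent.Lib.Helper6.BRHMain.partH hM (P : Subgroup G) hP hSyl htop ⟨ψ, hψ⟩ ψ' hreg hP0
    hf2 hfn hdeg hK

end Cfsg.Agent.Lib.Helper14.BRCore
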