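import Mathlib
import Cfsg.Prelude.Def_Transfer
import Cfsg.Prelude.Def_Solvable
import Cfsg.Prelude.Def_Local
import Cfsg.Prelude.Def_OddOrderLocal
import Cfsg.Prelude.Def_CaseTheorems
import Cfsg.Agent.Lib.Helper13.R3Defs2

/-!
# S4404 wave 2 leaf MAXCL (helper14): `index_commutator_le_nine`
-/

set_option autoImplicit false

namespace Cfsg.Agent.Lib.Helper14.R3MAXCL

open Pointwise Cfsg.Agent.Lib.Helper13.R3
open scoped commutatorElement

variable {G : Type*} [Group G] [Finite G]

/-- if two consecutive terms agree, the series is constant from there on -/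
lemma lcs_const_of_eq (i : ℕ)
    (h : (⊤ : Subgroup G).lowerCentralSeries (i + 1) = (⊤ : Subgroup G).lowerCentralSeries i) :
    ∀ j, (⊤ : Subgroup G).lowerCentralSeries (i + j) = (⊤ : Subgroup G).lowerCentralSeries i := by
  intro j
  induction j with
  | zero => rfl
  | succ j ih =>
    rw [← add_assoc, Subgroup.lowerCentralSeries_succ, ih, ← Subgroup.lowerCentralSeries_succ, h]

/-- in a nilpotent group the lower central series is strictly decreasing while nontrivial -/
lemma lcs_succ_ne [Group.IsNilpotent G] (i : ℕ)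
    (hi : (⊤ : Subgroup G).lowerCentralSeries i ≠ ⊥) :
    (⊤ : Subgroup G).lowerCentralSeries (i + 1) ≠ (⊤ : Subgroup G).lowerCentralSeries i := by
  intro h
  obtain ⟨m, hm⟩ := (Subgroup.nilpotent_iff_lowerCentralSeries (G := G)).mp inferInstance
  have h1 := lcs_const_of_eq i h m
  have h2 : (⊤ : Subgroup G).lowerCentralSeries (i + m) ≤ (⊤ : Subgroup G).lowerCentralSeries m :=
    Subgroup.lowerCentralSeries_antitone _ (by omega)
  rw [hm, le_bot_iff] at h2
  exact hi (h1 ▸ h2)

/-- the key chain bound -/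
lemma pow_le_card_lcs (n : ℕ) (hG : Nat.card G = 3 ^ n) :
    ∀ k i : ℕ, (⊤ : Subgroup G).lowerCentralSeries (i + k) ≠ ⊥ →
      3 ^ (k + 1) ≤ Nat.card ((⊤ : Subgroup G).lowerCentralSeries i) := by
  classical
  haveI : Fact (Nat.Prime 3) := ⟨by norm_num⟩
  have hp : IsPGroup 3 G := IsPGroup.of_card hG
  haveI : Group.IsNilpotent G := hp.isNilpotent
  have hcardpow : ∀ S : Subgroup G, ∃ a, Nat.card S = 3 ^ a := fun S =>
    IsPGroup.iff_card.mp (hp.to_subgroup S)
  intro k
  induction k with
  | zero =>
    intro i hi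
    obtain ⟨a, ha⟩ := hcardpow ((⊤ : Subgroup G).lowerCentralSeries i)
    have hane : a ≠ 0 := by
      rintro rfl
      rw [pow_zero] at ha
      exact hi (Subgroup.card_eq_one.mp ha)
    rw [ha]
    exact Nat.pow_le_pow_right (by norm_num) (by omega)
  | succ k ih =>
    intro i hi
    have h1 : (⊤ : Subgroup G).lowerCentralSeries (i + 1 + k) ≠ ⊥ := by
      have : i + 1 + k = i + (k + 1) := by omega
      rw [this]; exact hi
    have hle := ih (i + 1) h1
    have hine : (⊤ : Subgroup G).lowerCentralSeries i ≠ ⊥ := by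
      intro h0
      have : (⊤ : Subgroup G).lowerCentralSeries (i + (k + 1)) ≤
          (⊤ : Subgroup G).lowerCentralSeries i :=
        Subgroup.lowerCentralSeries_antitone _ (by omega)
      rw [h0, le_bot_iff] at this
      exact hi this
    have hne := lcs_succ_ne i hine
    have hsub : (⊤ : Subgroup G).lowerCentralSeries (i + 1) ≤
        (⊤ : Subgroup G).lowerCentralSeries i :=
      Subgroup.lowerCentralSeries_antitone _ (by omega)
    obtain ⟨a, ha⟩ := hcardpow ((⊤ : Subgroup G).lowerCentralSeries i)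
    obtain ⟨b, hb⟩ := hcardpow ((⊤ : Subgroup G).lowerCentralSeries (i + 1))
    have hdvd : Nat.card ((⊤ : Subgroup G).lowerCentralSeries (i + 1)) ∣
        Nat.card ((⊤ : Subgroup G).lowerCentralSeries i) := Subgroup.card_dvd_of_le hsub
    have hba : b ≤ a := by
      rw [ha, hb] at hdvd
      exact (Nat.pow_dvd_pow_iff_le_right (by norm_num)).mp hdvd
    have hba' : b ≠ a := by
      rintro rfl
      apply hne
      apply Subgroup.eq_of_le_of_card_ge hsub
      rw [ha, hb]
    have hlt : b + 1 ≤ a := by omega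
    have hkb : k + 1 ≤ b := by
      rw [hb] at hle
      exact (Nat.pow_le_pow_iff_right (by norm_num)).mp hle
    rw [ha]
    exact Nat.pow_le_pow_right (by norm_num) (by omega)

/-- MAXCL `index_commutator_le_nine`: maximal class => `|G : G'| ≤ 9`. -/
theorem index_commutator_le_nine (n : ℕ) (hG : Nat.card G = 3 ^ n) (hn : 2 ≤ n)
    (hcl : (⊤ : Subgroup G).lowerCentralSeries (n - 2) ≠ ⊥) : (commutator G).index ≤ 9 := by
  classical
  have hmul : (commutator G).index * Nat.card (commutator G) = 3 ^ n := by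
    rw [mul_comm, Subgroup.card_mul_index, hG]
  by_cases hn2 : n = 2
  · subst hn2
    have hdvd : (commutator G).index ∣ 3 ^ 2 := Dvd.intro _ hmul
    have := Nat.le_of_dvd (by norm_num) hdvd
    omega
  · have h3 : 3 ≤ n := by omega
    have hk : (⊤ : Subgroup G).lowerCentralSeries (1 + (n - 3)) ≠ ⊥ := by
      have : 1 + (n - 3) = n - 2 := by omega
      rw [this]; exact hcl
    have hle := pow_le_card_lcs n hG (n - 3) 1 hk
    rw [Subgroup.top_lowerCentralSeries_one] at hle
    have h4 : n - 3 + 1 = n - 2 := by omega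
    rw [h4] at hle
    -- index * card = 3^n, card ≥ 3^(n-2) ⇒ index ≤ 9
    by_contra hgt
    push_neg at hgt
    have h5 : 10 * 3 ^ (n - 2) ≤ (commutator G).index * Nat.card (commutator G) :=
      Nat.mul_le_mul hgt hle
    rw [hmul] at h5
    have h6 : (3 : ℕ) ^ n = 9 * 3 ^ (n - 2) := by
      have : n = 2 + (n - 2) := by omega
      conv_lhs => rw [this, pow_add]
      norm_num
    have h7 : 0 < 3 ^ (n - 2) := by positivity
    omega

end Cfsg.Agent.Lib.Helper14.R3MAXCL
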