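import Mathlib
import Cfsg.Prelude.Def_Transfer
import Cfsg.Prelude.Def_Solvable
import Cfsg.Prelude.Def_Local
import Cfsg.Prelude.Def_OddOrderLocal
import Cfsg.Prelude.Def_CaseTheorems
import Cfsg.Agent.Lib.Helper13.R3Defs2
import Cfsg.Agent.Lib.Helper29.R3GENBOUND

/-!
# S4404 wave 2 leaf META (helper14): `index_le_nine_of_isMetacyclic`
(a metacyclic group is 2-generated; then GENBOUND of helper29)
-/

set_option autoImplicit false

namespace Cfsg.Agent.Lib.Helper14.R3META

open Pointwise Cfsg.Agent.Lib.Helper13.R3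
open scoped commutatorElement

variable {G : Type*} [Group G] [Finite G]

/-- a metacyclic group is generated by two elements -/
lemma exists_two_generators (hm : Cfsg.IsMetacyclic G) :
    ∃ c g : G, Subgroup.closure ({c, g} : Set G) = ⊤ := by
  classical
  obtain ⟨C, hCn, hCc, hQc⟩ := hm
  obtain ⟨c, hc⟩ := hCc.exists_generator
  obtain ⟨q, hq⟩ := hQc.exists_generator
  obtain ⟨g, rfl⟩ := QuotientGroup.mk_surjective q
  refine ⟨(c : G), g, ?_⟩
  rw [eq_top_iff]
  intro h _
  have hcmem : (c : G) ∈ Subgroup.closure ({(c : G), g} : Set G) :=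
    Subgroup.subset_closure (by simp)
  have hgmem : g ∈ Subgroup.closure ({(c : G), g} : Set G) :=
    Subgroup.subset_closure (by simp)
  -- every element of `C` lies in the closure
  have hCle : C ≤ Subgroup.closure ({(c : G), g} : Set G) := by
    intro y hy
    have := hc ⟨y, hy⟩
    obtain ⟨k, hk⟩ := Subgroup.mem_zpowers_iff.mp this
    have hk' : ((c : G)) ^ k = y := by
      have := congrArg (fun t : C => (t : G)) hk
      simpa using this
    rw [← hk']
    exact Subgroup.zpow_mem _ hcmem k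
  -- `h = g^k * (g^-k * h)` with `g^-k * h ∈ C`
  obtain ⟨k, hk⟩ := Subgroup.mem_zpowers_iff.mp (hq (QuotientGroup.mk h))
  have hk2 : ((g ^ k : G) : G ⧸ C) = (h : G ⧸ C) := by
    rw [← hk]; simp
  have hmem : (g ^ k)⁻¹ * h ∈ C := by
    rw [← QuotientGroup.eq]; exact hk2
  have : h = g ^ k * ((g ^ k)⁻¹ * h) := by group
  rw [this]
  exact Subgroup.mul_mem _ (Subgroup.zpow_mem _ hgmem k) (hCle hmem)

/-- META `index_le_nine_of_isMetacyclic`. -/
theorem index_le_nine_of_isMetacyclic (hm : Cfsg.IsMetacyclic G) (N : Subgroup G) [N.Normal]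
    (h3 : ∀ g : G, g ^ 3 ∈ N) (hc : ∀ g h : G, ⁅g, h⁆ ∈ N) : N.index ≤ 9 := by
  classical
  obtain ⟨c, g, hgen⟩ := exists_two_generators hm
  have h := Cfsg.Agent.Lib.Helper29.R3GENBOUND.index_le_pow_card N h3 hc ({c, g} : Finset G)
    (by simpa using hgen)
  have hcard : ({c, g} : Finset G).card ≤ 2 := Finset.card_le_two
  calc N.index ≤ 3 ^ ({c, g} : Finset G).card := h
    _ ≤ 3 ^ 2 := Nat.pow_le_pow_right (by norm_num) hcard
    _ = 9 := by norm_num

end Cfsg.Agent.Lib.Helper14.R3META
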