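import Mathlib
import Cfsg.Prelude.Def_Transfer
import Cfsg.Prelude.Def_Solvable
import Cfsg.Prelude.Def_Local
import Cfsg.Prelude.Def_OddOrderLocal
import Cfsg.Prelude.Def_CaseTheorems
import Cfsg.Agent.Lib.Helper13.R3Defs2
import Cfsg.Agent.S3888
import Cfsg.Agent.Lib.Helper29.R3GENBOUND
import Cfsg.Agent.Lib.Helper14.R3META
import Cfsg.Agent.Lib.Helper14.R3MAXCL

/-!
# S4404 wave 2 leaf BBCASES (helper14): `blackburn_cases`
-/

set_option autoImplicit false

namespace Cfsg.Agent.Lib.Helper14.R3BBCASES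

open Pointwise Cfsg.Agent.Lib.Helper13.R3
open scoped commutatorElement

variable {G : Type*} [Group G] [Finite G]

/-- BBCASES `blackburn_cases`. -/
theorem blackburn_cases (hG : IsPGroup 3 G) (hrk : Cfsg.PRankLE 3 2 G) (N : Subgroup G) [N.Normal]
    (h3 : ∀ g : G, g ^ 3 ∈ N) (hc : ∀ g h : G, ⁅g, h⁆ ∈ N) :
    N.index ≤ 9 ∨
    ∃ (n : ℕ) (x y z : G), Nat.card G = 3 ^ n ∧ 3 ≤ n ∧ Subgroup.closure ({x, y, z} : Set G) = ⊤ ∧
      x ^ 3 = 1 ∧ y ^ 3 = 1 ∧ z ^ 3 ^ (n - 2) = 1 ∧ x * z = z * x ∧ y * z = z * y ∧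
      x⁻¹ * y * x = y * z ^ 3 ^ (n - 3) := by
  classical
  haveI : Fact (Nat.Prime 3) := ⟨by norm_num⟩
  obtain ⟨n, hn⟩ := IsPGroup.iff_card.mp hG
  rcases Cfsg.Agent.S3888.result (p := 3) (by norm_num) n hn hrk with
    hm | ⟨hn3, x, y, z, hgen, hx, hy, hz, hxz, hyz, hxy⟩ |
    ⟨hn4, s, x, y, z, -, hgen, hx, hy, hz, hyz, hxy, hxz⟩ | ⟨-, hn2, hcl⟩
  · exact Or.inl (Cfsg.Agent.Lib.Helper14.R3META.index_le_nine_of_isMetacyclic hm N h3 hc)
  · exact Or.inr ⟨n, x, y, z, hn, hn3, hgen, hx, hy, hz, hxz, hyz, hxy⟩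
  · left
    -- `y = x⁻¹ z x z⁻¹ ∈ closure {x, z}`
    have hgen2 : Subgroup.closure ({x, z} : Set G) = ⊤ := by
      rw [eq_top_iff, ← hgen, Subgroup.closure_le]
      have hxm : x ∈ Subgroup.closure ({x, z} : Set G) := Subgroup.subset_closure (by simp)
      have hzm : z ∈ Subgroup.closure ({x, z} : Set G) := Subgroup.subset_closure (by simp)
      have hym : y ∈ Subgroup.closure ({x, z} : Set G) := by
        have : y = x⁻¹ * z * x * z⁻¹ := by rw [hxz]; group
        rw [this]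
        exact Subgroup.mul_mem _ (Subgroup.mul_mem _ (Subgroup.mul_mem _
          (Subgroup.inv_mem _ hxm) hzm) hxm) (Subgroup.inv_mem _ hzm)
      intro w hw
      simp only [Set.mem_insert_iff, Set.mem_singleton_iff] at hw
      rcases hw with rfl | rfl | rfl
      · exact hxm
      · exact hym
      · exact hzm
    have h := Cfsg.Agent.Lib.Helper29.R3GENBOUND.index_le_pow_card N h3 hc ({x, z} : Finset G)
      (by simpa using hgen2)
    have hcard : ({x, z} : Finset G).card ≤ 2 := Finset.card_le_two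
    calc N.index ≤ 3 ^ ({x, z} : Finset G).card := h
      _ ≤ 3 ^ 2 := Nat.pow_le_pow_right (by norm_num) hcard
      _ = 9 := by norm_num
  · left
    have h9 := Cfsg.Agent.Lib.Helper14.R3MAXCL.index_commutator_le_nine n hn hn2 hcl
    have hle : commutator G ≤ N := by
      rw [commutator_def, Subgroup.commutator_le]
      intro g _ h _
      exact hc g h
    have hdvd : N.index ∣ (commutator G).index := Subgroup.index_dvd_of_le hle
    have hpos : 0 < (commutator G).index := Nat.pos_of_ne_zero (Subgroup.index_ne_zero_of_finite)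
    exact (Nat.le_of_dvd hpos hdvd).trans h9

end Cfsg.Agent.Lib.Helper14.R3BBCASES
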