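import Mathlib
import Cfsg.Prelude.Def_Transfer
import Cfsg.Prelude.Def_Solvable
import Cfsg.Prelude.Def_Local
import Cfsg.Prelude.Def_OddOrderLocal
import Cfsg.Prelude.Def_CaseTheorems
import Cfsg.Agent.Lib.Helper13.R3Defs2

/-!
# S4404 wave 2 leaf ORBIT (helper14): `smul_eq_iff_modEq`
-/

set_option autoImplicit false

namespace Cfsg.Agent.Lib.Helper14.R3ORBIT

open Pointwise Cfsg.Agent.Lib.Helper13.R3
open scoped commutatorElement

variable {H : Type*} [Group H] [Finite H] {M : Type*} [CommGroup M] [Finite M]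
  [MulDistribMulAction H M]

/-- ORBIT `smul_eq_iff_modEq`. -/
theorem smul_eq_iff_modEq (p : ℕ) (hp : p.Prime) (e : H) (he : e ^ p = 1) (b₀ : Subgroup M)
    (hne : e • b₀ ≠ b₀) (i j : ℕ) : e ^ i • b₀ = e ^ j • b₀ ↔ i ≡ j [MOD p] := by
  constructor
  · intro h
    by_contra hnot
    apply hne
    -- the stabilizer of `b₀`
    have hstab : e ^ (-(j : ℤ) + i) ∈ MulAction.stabilizer H b₀ := by
      rw [MulAction.mem_stabilizer_iff, zpow_add, mul_smul, zpow_natCast, h, zpow_neg, zpow_natCast,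
        inv_smul_smul]
    have hpstab : e ^ (p : ℤ) ∈ MulAction.stabilizer H b₀ := by
      rw [zpow_natCast, he]; exact one_mem _
    set d : ℤ := -(j : ℤ) + i with hd
    have hnd : ¬ (p : ℤ) ∣ d := by
      intro hdvd
      apply hnot
      have : (j : ℤ) ≡ i [ZMOD p] := by
        rw [Int.modEq_iff_dvd]
        have : (i : ℤ) - j = d := by rw [hd]; ring
        rw [this]; exact hdvd
      exact (Int.natCast_modEq_iff.mp this).symm
    have hcop : Int.gcd d p = 1 := by
      have h1 : ¬ p ∣ d.natAbs := by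
        intro hh
        exact hnd (Int.natCast_dvd.mpr hh)
      have h2 : Nat.Coprime p d.natAbs := (Nat.Prime.coprime_iff_not_dvd hp).2 h1
      have h3 : Int.gcd d p = Nat.gcd d.natAbs p := by
        simp [Int.gcd]
      rw [h3]; exact h2.symm
    have hbez := Int.gcd_eq_gcd_ab d p
    rw [hcop] at hbez
    have he1 : e = (e ^ d) ^ (Int.gcdA d p) * (e ^ (p : ℤ)) ^ (Int.gcdB d p) := by
      rw [← zpow_mul, ← zpow_mul, ← zpow_add, ← hbez]
      simp
    have hmem : e ∈ MulAction.stabilizer H b₀ := by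
      rw [he1]
      exact Subgroup.mul_mem _ (Subgroup.zpow_mem _ hstab _) (Subgroup.zpow_mem _ hpstab _)
    exact MulAction.mem_stabilizer_iff.mp hmem
  · intro h
    rw [pow_eq_pow_mod i he, pow_eq_pow_mod j he, h]

end Cfsg.Agent.Lib.Helper14.R3ORBIT
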