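import Mathlib
import Cfsg.Prelude.Def_Transfer
import Cfsg.Prelude.Def_Solvable
import Cfsg.Prelude.Def_Local
import Cfsg.Prelude.Def_OddOrderLocal
import Cfsg.Prelude.Def_CaseTheorems
import Cfsg.Agent.Lib.Helper13.R3Defs2

/-!
# S4404 wave 2 leaf SUB27 (helper14): `exists_subgroup_card_27`
-/

set_option autoImplicit false

namespace Cfsg.Agent.Lib.Helper14.R3SUB27

open Pointwise Cfsg.Agent.Lib.Helper13.R3
open scoped commutatorElement

/-- SUB27 `exists_subgroup_card_27`. -/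
theorem exists_subgroup_card_27 {H : Type*} [Group H] [Finite H] (A : Subgroup H)
    (hAc : IsMulCommutative A) (hA3 : ∀ a ∈ A, a ^ 3 = 1) (hA9 : 9 < Nat.card A) :
    ∃ F : Subgroup H, F ≤ A ∧ Cfsg.IsElementaryAbelian 3 F ∧ Nat.card F = 27 := by
  classical
  haveI : Fact (Nat.Prime 3) := ⟨by norm_num⟩
  -- `A` is a 3-group
  have hp : IsPGroup 3 A := by
    intro a
    refine ⟨1, ?_⟩
    have := hA3 a.1 a.2
    apply Subtype.ext
    simpa using this
  obtain ⟨k, hk⟩ := IsPGroup.iff_card.mp hp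
  have hk3 : 3 ≤ k := by
    by_contra hlt
    have hk2 : k ≤ 2 := by omega
    have : (3 : ℕ) ^ k ≤ 3 ^ 2 := Nat.pow_le_pow_right (by norm_num) hk2
    omega
  have hdvd : 3 ^ 3 ∣ Nat.card A := by
    rw [hk]; exact pow_dvd_pow 3 hk3
  obtain ⟨K, hK⟩ := Sylow.exists_subgroup_card_pow_prime 3 hdvd
  refine ⟨K.map A.subtype, ?_, ⟨?_, ?_⟩, ?_⟩
  · intro x hx
    obtain ⟨y, -, rfl⟩ := hx
    exact y.2
  · -- commutative
    refine ⟨⟨?_⟩⟩
    rintro ⟨a, ha⟩ ⟨b, hb⟩
    obtain ⟨a', -, rfl⟩ := ha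
    obtain ⟨b', -, rfl⟩ := hb
    apply Subtype.ext
    have := hAc.is_comm.comm a' b'
    have h2 := congrArg (fun t : A => (t : H)) this
    simpa using h2
  · intro a ha
    obtain ⟨a', -, rfl⟩ := ha
    exact hA3 _ a'.2
  · rw [Subgroup.card_map_of_injective A.subtype_injective, hK]; norm_num

end Cfsg.Agent.Lib.Helper14.R3SUB27
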