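import Mathlib
import Cfsg.Prelude.Def_Transfer
import Cfsg.Prelude.Def_Solvable
import Cfsg.Prelude.Def_Local
import Cfsg.Prelude.Def_OddOrderLocal
import Cfsg.Prelude.Def_CaseTheorems
import Cfsg.Agent.Lib.Helper13.R3Defs2

/-!
# S4404 wave 2 leaf SYL (helper14): `exists_sylow_three_invariant`

`e` acts on `T'` by conjugation, an automorphism `φ` with `φ^3 = 1`; the 3-group `zpowers φ` acts on
`Sylow 3 T'` (of cardinality `≡ 1 mod 3`) and has a fixed point.
-/

set_option autoImplicit false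

namespace Cfsg.Agent.Lib.Helper14.R3SYL

open Pointwise Cfsg.Agent.Lib.Helper13.R3
open scoped commutatorElement

/-- conjugation by `e` as an automorphism of `T'` -/
noncomputable def conjAut {H : Type*} [Group H] (T' : Subgroup H) (e : H)
    (hnorm : ∀ t ∈ T', e * t * e⁻¹ ∈ T') (hnorm' : ∀ t ∈ T', e⁻¹ * t * e ∈ T') : MulAut T' where
  toFun t := ⟨e * t * e⁻¹, hnorm t t.2⟩
  invFun t := ⟨e⁻¹ * t * e, hnorm' t t.2⟩
  left_inv t := by apply Subtype.ext; simp [mul_assoc]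
  right_inv t := by apply Subtype.ext; simp [mul_assoc]
  map_mul' a b := by apply Subtype.ext; simp [mul_assoc]

/-- SYL `exists_sylow_three_invariant`. -/
theorem exists_sylow_three_invariant {H : Type*} [Group H] [Finite H] (T' : Subgroup H) (e : H)
    (he : e ^ 3 = 1) (hnorm : ∀ t ∈ T', e * t * e⁻¹ ∈ T') :
    ∃ P : Subgroup H, P ≤ T' ∧ IsPGroup 3 P ∧
      (∀ g ∈ T', (∃ k : ℕ, g ^ 3 ^ k = 1) → ∃ t ∈ T', t * g * t⁻¹ ∈ P) ∧
      ∀ g ∈ P, e * g * e⁻¹ ∈ P := by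
  classical
  haveI : Fact (Nat.Prime 3) := ⟨by norm_num⟩
  have hinv : e⁻¹ = e * e := by
    have : e * e * e = 1 := by rw [← he]; simp [pow_succ]
    exact inv_eq_of_mul_eq_one_right (by rw [← mul_assoc]; exact this)
  have hnorm' : ∀ t ∈ T', e⁻¹ * t * e ∈ T' := by
    intro t ht
    have h1 := hnorm _ (hnorm t ht)
    have : e⁻¹ * t * e = e * (e * t * e⁻¹) * e⁻¹ := by
      have he' : e = e⁻¹ * e⁻¹ := by
        have := congrArg (fun x => x⁻¹) hinv
        simpa using this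
      calc e⁻¹ * t * e = (e * e) * t * (e⁻¹ * e⁻¹) := by rw [← hinv, ← he']
        _ = e * (e * t * e⁻¹) * e⁻¹ := by group
    rw [this]; exact h1
  set φ : MulAut T' := conjAut T' e hnorm hnorm' with hφ
  have hφapp : ∀ t : T', ((φ t : T') : H) = e * t * e⁻¹ := fun t => rfl
  have hφ3 : φ ^ 3 = 1 := by
    ext t
    have : (φ ^ 3) t = φ (φ (φ t)) := rfl
    rw [this]
    simp only [hφapp, MulAut.one_apply]
    have e3 : e * e * e = 1 := by rw [← he]; simp [pow_succ]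
    have e3' : e⁻¹ * e⁻¹ * e⁻¹ = 1 := by
      have := congrArg (fun x => x⁻¹) e3
      simpa [mul_assoc] using this
    calc e * (e * (e * (t : H) * e⁻¹) * e⁻¹) * e⁻¹ = (e * e * e) * t * (e⁻¹ * e⁻¹ * e⁻¹) := by group
      _ = t := by rw [e3, e3']; simp
  -- the 3-group `A = zpowers φ`
  set A : Subgroup (MulAut T') := Subgroup.zpowers φ with hA
  have hAp : IsPGroup 3 A := by
    rintro ⟨a, ha⟩
    refine ⟨1, ?_⟩
    obtain ⟨k, rfl⟩ := Subgroup.mem_zpowers_iff.mp ha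
    apply Subtype.ext
    simp only [pow_one, Subgroup.coe_pow, Subgroup.coe_one]
    rw [← zpow_natCast, ← zpow_mul, mul_comm, zpow_mul, zpow_natCast, hφ3, one_zpow]
  -- fixed point on `Sylow 3 T'`
  have hnd : ¬ 3 ∣ Nat.card (Sylow 3 T') := by
    intro hdvd
    have h1 := card_sylow_modEq_one 3 T'
    have : Nat.card (Sylow 3 T') % 3 = 1 % 3 := h1
    omega
  obtain ⟨P', hP'⟩ := hAp.nonempty_fixed_point_of_prime_not_dvd_card (Sylow 3 T') hnd
  have hfix : (⟨φ, Subgroup.mem_zpowers φ⟩ : A) • P' = P' := hP' _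
  have hfix' : ∀ t : T', t ∈ P' → φ t ∈ P' := by
    intro t ht
    have h1 : φ • (P' : Subgroup T') = (P' : Subgroup T') := by
      have := congrArg (fun Q : Sylow 3 T' => (Q : Subgroup T')) hfix
      simpa [Sylow.pointwise_smul_def] using this
    have h2 : φ • t ∈ φ • (P' : Subgroup T') := Subgroup.smul_mem_pointwise_smul t φ _ ht
    rw [h1] at h2
    exact h2
  refine ⟨(P' : Subgroup T').map T'.subtype, ?_, ?_, ?_, ?_⟩
  · rintro x ⟨y, -, rfl⟩
    exact y.2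
  · exact P'.isPGroup'.map _
  · intro g hg ⟨k, hk⟩
    -- `zpowers g` is a 3-subgroup of `T'`
    have hz : IsPGroup 3 (Subgroup.zpowers (⟨g, hg⟩ : T')) := by
      rintro ⟨a, ha⟩
      refine ⟨k, ?_⟩
      obtain ⟨m, rfl⟩ := Subgroup.mem_zpowers_iff.mp ha
      apply Subtype.ext
      simp only [Subgroup.coe_pow, Subgroup.coe_one]
      have hk' : (⟨g, hg⟩ : T') ^ 3 ^ k = 1 := by
        apply Subtype.ext; simpa using hk
      rw [← zpow_natCast, ← zpow_mul, mul_comm, zpow_mul, zpow_natCast, hk', one_zpow]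
    obtain ⟨Q, hQ⟩ := hz.exists_le_sylow
    obtain ⟨t, ht⟩ := MulAction.exists_smul_eq T' Q P'
    refine ⟨(t : H), t.2, ?_⟩
    have hgQ : (⟨g, hg⟩ : T') ∈ Q := hQ (Subgroup.mem_zpowers _)
    have h1 : t * ⟨g, hg⟩ * t⁻¹ ∈ (P' : Subgroup T') := by
      rw [← ht, Sylow.smul_def, Sylow.pointwise_smul_def]
      have h2 : MulAut.conj t • (⟨g, hg⟩ : T') ∈ MulAut.conj t • (Q : Subgroup T') :=
        Subgroup.smul_mem_pointwise_smul _ _ _ hgQ
      have h3 : MulAut.conj t • (⟨g, hg⟩ : T') = t * ⟨g, hg⟩ * t⁻¹ := by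
        simp [MulAut.smul_def, MulAut.conj_apply]
      rw [← h3]; exact h2
    exact ⟨t * ⟨g, hg⟩ * t⁻¹, h1, by simp⟩
  · rintro g ⟨y, hy, rfl⟩
    exact ⟨φ y, hfix' y hy, by simp [hφapp]⟩

end Cfsg.Agent.Lib.Helper14.R3SYL
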