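import Mathlib
import Cfsg.Prelude.Def_SporadicCombinatorics
import Cfsg.Agent.Lib.Helper14.GF4

set_option autoImplicit false

/-! Monomial automorphisms of the hexacode: reduction to the table model. -/

namespace Cfsg.Agent.Lib.Helper14.Hexa

open Cfsg.Agent.Lib.Helper14.GF4

/-- the generators -/
def G (j : Fin 3) : Fin 6 → Fin 4 := ![g1, g2, g3] j

/-- parity checks (systematic form) -/
def r0 (x0 x1 x2 x3 : Fin 4) : Fin 4 := add4 (add4 (add4 x0 x1) x2) x3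
def r1 (x0 x1 x2 x4 : Fin 4) : Fin 4 := add4 (add4 (add4 (mul4 3 x0) (mul4 2 x1)) x2) x4
def r2 (x0 x1 x2 x5 : Fin 4) : Fin 4 := add4 (add4 (add4 (mul4 2 x0) (mul4 3 x1)) x2) x5

/-- membership in the code, table model -/
def inHm (w : Fin 6 → Fin 4) : Prop :=
  r0 (w 0) (w 1) (w 2) (w 3) = 0 ∧ r1 (w 0) (w 1) (w 2) (w 4) = 0 ∧ r2 (w 0) (w 1) (w 2) (w 5) = 0

instance (w : Fin 6 → Fin 4) : Decidable (inHm w) := by unfold inHm; infer_instance

theorem inHm_wordN : ∀ a b c : Fin 4, inHm (wordN a b c) := by decide +kernel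

theorem exists_first3 : ∀ x0 x1 x2 : Fin 4, ∃ a b c : Fin 4,
    wordN a b c 0 = x0 ∧ wordN a b c 1 = x1 ∧ wordN a b c 2 = x2 := by decide +kernel

theorem r0_unique : ∀ x0 x1 x2 x3 y : Fin 4, r0 x0 x1 x2 x3 = 0 → r0 x0 x1 x2 y = 0 → x3 = y := by
  decide +kernel

theorem r1_unique : ∀ x0 x1 x2 x3 y : Fin 4, r1 x0 x1 x2 x3 = 0 → r1 x0 x1 x2 y = 0 → x3 = y := by
  decide +kernel

theorem r2_unique : ∀ x0 x1 x2 x3 y : Fin 4, r2 x0 x1 x2 x3 = 0 → r2 x0 x1 x2 y = 0 → x3 = y := by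
  decide +kernel

theorem inHm_iff (w : Fin 6 → Fin 4) : inHm w ↔ ∃ a b c : Fin 4, w = wordN a b c := by
  constructor
  · rintro ⟨h0, h1, h2⟩
    obtain ⟨a, b, c, e0, e1, e2⟩ := exists_first3 (w 0) (w 1) (w 2)
    obtain ⟨k0, k1, k2⟩ := inHm_wordN a b c
    rw [e0, e1, e2] at k0 k1 k2
    refine ⟨a, b, c, ?_⟩
    funext i
    fin_cases i
    · exact e0.symm
    · exact e1.symm
    · exact e2.symm
    · exact r0_unique _ _ _ _ _ h0 k0
    · exact r1_unique _ _ _ _ _ h1 k1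
    · exact r2_unique _ _ _ _ _ h2 k2
  · rintro ⟨a, b, c, rfl⟩
    exact inHm_wordN a b c

section field

variable {F : Type*} [Field F] [Fintype F]

theorem mem_iff_inHm (hF : Fintype.card F = 4) {ω : F} (hω : ω ^ 2 + ω + 1 = 0)
    (w : Fin 6 → Fin 4) : (fun i => E ω (w i)) ∈ Cfsg.hexacode F ω ↔ inHm w := by
  rw [mem_hexacode_iff hF hω, inHm_iff]
  constructor
  · rintro ⟨a, b, c, h⟩
    refine ⟨a, b, c, ?_⟩
    funext i
    exact E_injective hF hω (congrFun h i)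
  · rintro ⟨a, b, c, rfl⟩
    exact ⟨a, b, c, rfl⟩

/-- the nonzero elements, indexed by `Fin 3` -/
noncomputable def U (hF : Fintype.card F = 4) {ω : F} (hω : ω ^ 2 + ω + 1 = 0) (v : Fin 3) : Fˣ :=
  Units.mk0 (E ω v.succ) (by
    rw [Ne, E_eq_zero_iff hF hω]
    exact Fin.succ_ne_zero v)

theorem U_val (hF : Fintype.card F = 4) {ω : F} (hω : ω ^ 2 + ω + 1 = 0) (v : Fin 3) :
    ((U hF hω v : Fˣ) : F) = E ω v.succ := rfl

theorem U_bijective (hF : Fintype.card F = 4) {ω : F} (hω : ω ^ 2 + ω + 1 = 0) :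
    Function.Bijective (U hF hω) := by
  have hinj : Function.Injective (U hF hω) := by
    intro a b h
    have h1 : ((U hF hω a : Fˣ) : F) = ((U hF hω b : Fˣ) : F) := by rw [h]
    rw [U_val, U_val] at h1
    exact Fin.succ_injective _ (E_injective hF hω h1)
  have hfin : Finite Fˣ := inferInstance
  have hcard : Nat.card (Fin 3) = Nat.card Fˣ := by
    rw [Nat.card_units, Nat.card_eq_fintype_card, Nat.card_eq_fintype_card, hF, Fintype.card_fin]
  exact (Nat.bijective_iff_injective_and_card (U hF hω)).mpr ⟨hinj, hcard⟩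

/-- the monomial map as a linear map -/
def monoLin (σ : Equiv.Perm (Fin 6)) (c : Fin 6 → Fˣ) : (Fin 6 → F) →ₗ[F] (Fin 6 → F) where
  toFun := Cfsg.monomialMap σ c
  map_add' x y := by
    funext i
    simp only [Cfsg.monomialMap, Pi.add_apply, mul_add]
  map_smul' a x := by
    funext i
    simp only [Cfsg.monomialMap, Pi.smul_apply, smul_eq_mul, RingHom.id_apply]
    ring

theorem gens_eq (hF : Fintype.card F = 4) {ω : F} (hω : ω ^ 2 + ω + 1 = 0) :
    Cfsg.hexacode F ω = Submodule.span F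
      {(fun i => E ω (G 0 i)), (fun i => E ω (G 1 i)), (fun i => E ω (G 2 i))} := by
  unfold Cfsg.hexacode
  have h1 : (![ω, ω ^ 2, ω ^ 2, ω, ω ^ 2, ω] : Fin 6 → F) = fun i => E ω (G 0 i) :=
    funext (gen1 hF hω)
  have h2 : (![ω ^ 2, ω, ω, ω ^ 2, ω ^ 2, ω] : Fin 6 → F) = fun i => E ω (G 1 i) :=
    funext (gen2 hF hω)
  have h3 : (![ω ^ 2, ω, ω ^ 2, ω, ω, ω ^ 2] : Fin 6 → F) = fun i => E ω (G 2 i) :=
    funext (gen3 hF hω)
  rw [h1, h2, h3]

theorem valid_iff (hF : Fintype.card F = 4) {ω : F} (hω : ω ^ 2 + ω + 1 = 0)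
    (σ : Equiv.Perm (Fin 6)) (k : Fin 6 → Fin 3) :
    (∀ x ∈ Cfsg.hexacode F ω, Cfsg.monomialMap σ (fun i => U hF hω (k i)) x ∈ Cfsg.hexacode F ω) ↔
      ∀ j : Fin 3, inHm (fun i => mul4 (k i).succ (G j (σ.symm i))) := by
  have hL : ∀ j : Fin 3, Cfsg.monomialMap σ (fun i => U hF hω (k i)) (fun i => E ω (G j i))
      = fun i => E ω (mul4 (k i).succ (G j (σ.symm i))) := by
    intro j
    funext i
    simp only [Cfsg.monomialMap, U_val]
    rw [E_mul hF hω]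
  have key : (∀ x ∈ Cfsg.hexacode F ω,
      Cfsg.monomialMap σ (fun i => U hF hω (k i)) x ∈ Cfsg.hexacode F ω) ↔
      Cfsg.hexacode F ω ≤ (Cfsg.hexacode F ω).comap (monoLin σ (fun i => U hF hω (k i))) :=
    Iff.rfl
  have hspan : ∀ S : Submodule F (Fin 6 → F), Cfsg.hexacode F ω ≤ S ↔
      (fun i => E ω (G 0 i)) ∈ S ∧ (fun i => E ω (G 1 i)) ∈ S ∧ (fun i => E ω (G 2 i)) ∈ S := by
    intro S
    rw [gens_eq hF hω, Submodule.span_le]
    simp only [Set.insert_subset_iff, Set.singleton_subset_iff, SetLike.mem_coe]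
  rw [key, hspan]
  simp only [Submodule.mem_comap]
  have hm : ∀ j : Fin 3, monoLin σ (fun i => U hF hω (k i)) (fun i => E ω (G j i)) ∈
      Cfsg.hexacode F ω ↔ inHm (fun i => mul4 (k i).succ (G j (σ.symm i))) := by
    intro j
    have : monoLin σ (fun i => U hF hω (k i)) (fun i => E ω (G j i))
        = Cfsg.monomialMap σ (fun i => U hF hω (k i)) (fun i => E ω (G j i)) := rfl
    rw [this, hL j, mem_iff_inHm hF hω]
  rw [hm 0, hm 1, hm 2]
  constructor
  · rintro ⟨h0, h1, h2⟩ j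
    fin_cases j
    · exact h0
    · exact h1
    · exact h2
  · intro h
    exact ⟨h 0, h 1, h 2⟩

end field

end Cfsg.Agent.Lib.Helper14.Hexa
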