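import Mathlib
import Cfsg.Prelude.Def_SporadicCombinatorics
import Cfsg.Agent.Lib.Helper14.GF4
import Cfsg.Agent.Lib.Helper14.Hexa

set_option autoImplicit false

/-! Counting the monomial automorphisms of the hexacode: a kernel-friendly count. -/

namespace Cfsg.Agent.Lib.Helper14.Hexa

open Cfsg.Agent.Lib.Helper14.GF4

/-- multiplication table on codes -/
def mulN (a b : ℕ) : ℕ := (0x9c78e400 >>> (2 * (4 * a + b))) &&& 3
/-- generator table on codes -/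
def genN (j x : ℕ) : ℕ := (0xebbbebbbe >>> (2 * (6 * j + x))) &&& 3
/-- base-6 digit -/
def dig6 (n i : ℕ) : ℕ := n / 6 ^ i % 6
/-- the scaled generator entry -/
def t (c j i v : ℕ) : ℕ := mulN (v + 1) (genN j (dig6 c i))
def r0N (a b c d : ℕ) : ℕ := a ^^^ b ^^^ c ^^^ d
def r1N (a b c d : ℕ) : ℕ := mulN 3 a ^^^ mulN 2 b ^^^ c ^^^ d
def r2N (a b c d : ℕ) : ℕ := mulN 2 a ^^^ mulN 3 b ^^^ c ^^^ d
def rowsA (c v0 v1 v2 v3 : ℕ) : Bool :=
  Nat.beq (r0N (t c 0 0 v0) (t c 0 1 v1) (t c 0 2 v2) (t c 0 3 v3)) 0 &&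
  Nat.beq (r0N (t c 1 0 v0) (t c 1 1 v1) (t c 1 2 v2) (t c 1 3 v3)) 0 &&
  Nat.beq (r0N (t c 2 0 v0) (t c 2 1 v1) (t c 2 2 v2) (t c 2 3 v3)) 0
def rowsB (c v0 v1 v2 v4 : ℕ) : Bool :=
  Nat.beq (r1N (t c 0 0 v0) (t c 0 1 v1) (t c 0 2 v2) (t c 0 4 v4)) 0 &&
  Nat.beq (r1N (t c 1 0 v0) (t c 1 1 v1) (t c 1 2 v2) (t c 1 4 v4)) 0 &&
  Nat.beq (r1N (t c 2 0 v0) (t c 2 1 v1) (t c 2 2 v2) (t c 2 4 v4)) 0
def rowsC (c v0 v1 v2 v5 : ℕ) : Bool :=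
  Nat.beq (r2N (t c 0 0 v0) (t c 0 1 v1) (t c 0 2 v2) (t c 0 5 v5)) 0 &&
  Nat.beq (r2N (t c 1 0 v0) (t c 1 1 v1) (t c 1 2 v2) (t c 1 5 v5)) 0 &&
  Nat.beq (r2N (t c 2 0 v0) (t c 2 1 v1) (t c 2 2 v2) (t c 2 5 v5)) 0
def sum3 (f : ℕ → ℕ) : ℕ := f 0 + f 1 + f 2
/-- strict application -/
def force (n : ℕ) (f : ℕ → ℕ) : ℕ := Nat.rec (f 0) (fun m _ => f (Nat.succ m)) n
def cntC (c : ℕ) : ℕ := force c fun c =>
  sum3 fun v0 => sum3 fun v1 => sum3 fun v2 => sum3 fun v3 =>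
    bif rowsA c v0 v1 v2 v3 then
      (sum3 fun v4 => (rowsB c v0 v1 v2 v4).toNat) * (sum3 fun v5 => (rowsC c v0 v1 v2 v5).toNat)
    else 0
/-- the code of (the inverse of) a permutation -/
def code6 (σ : Equiv.Perm (Fin 6)) : ℕ :=
  (σ.symm 0).val + 6 * ((σ.symm 1).val + 6 * ((σ.symm 2).val + 6 * ((σ.symm 3).val +
    6 * ((σ.symm 4).val + 6 * (σ.symm 5).val))))

theorem force_eq (n : ℕ) (f : ℕ → ℕ) : force n f = f n := by
  cases n <;> rfl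

theorem sum3_eq (f : ℕ → ℕ) : ∑ v : Fin 3, f v.val = sum3 f := by
  rw [Fin.sum_univ_three]
  rfl

theorem mulN_val : ∀ a b : Fin 4, mulN a.val b.val = (mul4 a b).val := by decide
theorem genN_val : ∀ (j : Fin 3) (x : Fin 6), genN j.val x.val = (G j x).val := by decide
theorem r0N_val : ∀ a b c d : Fin 4, r0N a.val b.val c.val d.val = (r0 a b c d).val := by decide
theorem r1N_val : ∀ a b c d : Fin 4, r1N a.val b.val c.val d.val = (r1 a b c d).val := by decide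
theorem r2N_val : ∀ a b c d : Fin 4, r2N a.val b.val c.val d.val = (r2 a b c d).val := by decide

theorem dig_aux (a0 a1 a2 a3 a4 a5 : ℕ) (h0 : a0 < 6) (h1 : a1 < 6) (h2 : a2 < 6) (h3 : a3 < 6)
    (h4 : a4 < 6) (h5 : a5 < 6) :
    dig6 (a0 + 6 * (a1 + 6 * (a2 + 6 * (a3 + 6 * (a4 + 6 * a5))))) 0 = a0 ∧
    dig6 (a0 + 6 * (a1 + 6 * (a2 + 6 * (a3 + 6 * (a4 + 6 * a5))))) 1 = a1 ∧
    dig6 (a0 + 6 * (a1 + 6 * (a2 + 6 * (a3 + 6 * (a4 + 6 * a5))))) 2 = a2 ∧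
    dig6 (a0 + 6 * (a1 + 6 * (a2 + 6 * (a3 + 6 * (a4 + 6 * a5))))) 3 = a3 ∧
    dig6 (a0 + 6 * (a1 + 6 * (a2 + 6 * (a3 + 6 * (a4 + 6 * a5))))) 4 = a4 ∧
    dig6 (a0 + 6 * (a1 + 6 * (a2 + 6 * (a3 + 6 * (a4 + 6 * a5))))) 5 = a5 := by
  unfold dig6
  norm_num
  refine ⟨?_, ?_, ?_, ?_, ?_, ?_⟩ <;> omega

theorem dig6_code (σ : Equiv.Perm (Fin 6)) (i : Fin 6) :
    dig6 (code6 σ) i.val = (σ.symm i).val := by
  obtain ⟨e0, e1, e2, e3, e4, e5⟩ := dig_aux _ _ _ _ _ _ (σ.symm 0).isLt (σ.symm 1).isLt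
    (σ.symm 2).isLt (σ.symm 3).isLt (σ.symm 4).isLt (σ.symm 5).isLt
  unfold code6
  fin_cases i
  · exact e0
  · exact e1
  · exact e2
  · exact e3
  · exact e4
  · exact e5

theorem t_val (σ : Equiv.Perm (Fin 6)) (j v : Fin 3) (i : Fin 6) :
    t (code6 σ) j.val i.val v.val = (mul4 v.succ (G j (σ.symm i))).val := by
  unfold t
  rw [dig6_code, genN_val, ← mulN_val, Fin.val_succ]


theorem rowA_iff (σ : Equiv.Perm (Fin 6)) (j v0 v1 v2 v3 : Fin 3) :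
    Nat.beq (r0N (t (code6 σ) j.val 0 v0.val) (t (code6 σ) j.val 1 v1.val)
      (t (code6 σ) j.val 2 v2.val) (t (code6 σ) j.val 3 v3.val)) 0 = true ↔
    r0 (mul4 v0.succ (G j (σ.symm 0))) (mul4 v1.succ (G j (σ.symm 1)))
      (mul4 v2.succ (G j (σ.symm 2))) (mul4 v3.succ (G j (σ.symm 3))) = 0 := by
  have e0 := t_val σ j v0 0
  have e1 := t_val σ j v1 1
  have e2 := t_val σ j v2 2
  have e3 := t_val σ j v3 3
  change t (code6 σ) j.val 0 v0.val = _ at e0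
  change t (code6 σ) j.val 1 v1.val = _ at e1
  change t (code6 σ) j.val 2 v2.val = _ at e2
  change t (code6 σ) j.val 3 v3.val = _ at e3
  rw [e0, e1, e2, e3, r0N_val, Nat.beq_eq]
  exact Fin.val_eq_zero_iff

theorem rowB_iff (σ : Equiv.Perm (Fin 6)) (j v0 v1 v2 v4 : Fin 3) :
    Nat.beq (r1N (t (code6 σ) j.val 0 v0.val) (t (code6 σ) j.val 1 v1.val)
      (t (code6 σ) j.val 2 v2.val) (t (code6 σ) j.val 4 v4.val)) 0 = true ↔
    r1 (mul4 v0.succ (G j (σ.symm 0))) (mul4 v1.succ (G j (σ.symm 1)))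
      (mul4 v2.succ (G j (σ.symm 2))) (mul4 v4.succ (G j (σ.symm 4))) = 0 := by
  have e0 := t_val σ j v0 0
  have e1 := t_val σ j v1 1
  have e2 := t_val σ j v2 2
  have e3 := t_val σ j v4 4
  change t (code6 σ) j.val 0 v0.val = _ at e0
  change t (code6 σ) j.val 1 v1.val = _ at e1
  change t (code6 σ) j.val 2 v2.val = _ at e2
  change t (code6 σ) j.val 4 v4.val = _ at e3
  rw [e0, e1, e2, e3, r1N_val, Nat.beq_eq]
  exact Fin.val_eq_zero_iff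

theorem rowC_iff (σ : Equiv.Perm (Fin 6)) (j v0 v1 v2 v5 : Fin 3) :
    Nat.beq (r2N (t (code6 σ) j.val 0 v0.val) (t (code6 σ) j.val 1 v1.val)
      (t (code6 σ) j.val 2 v2.val) (t (code6 σ) j.val 5 v5.val)) 0 = true ↔
    r2 (mul4 v0.succ (G j (σ.symm 0))) (mul4 v1.succ (G j (σ.symm 1)))
      (mul4 v2.succ (G j (σ.symm 2))) (mul4 v5.succ (G j (σ.symm 5))) = 0 := by
  have e0 := t_val σ j v0 0
  have e1 := t_val σ j v1 1
  have e2 := t_val σ j v2 2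
  have e3 := t_val σ j v5 5
  change t (code6 σ) j.val 0 v0.val = _ at e0
  change t (code6 σ) j.val 1 v1.val = _ at e1
  change t (code6 σ) j.val 2 v2.val = _ at e2
  change t (code6 σ) j.val 5 v5.val = _ at e3
  rw [e0, e1, e2, e3, r2N_val, Nat.beq_eq]
  exact Fin.val_eq_zero_iff

theorem rowsA_iff (σ : Equiv.Perm (Fin 6)) (v0 v1 v2 v3 : Fin 3) :
    rowsA (code6 σ) v0.val v1.val v2.val v3.val = true ↔
      ∀ j : Fin 3, r0 (mul4 v0.succ (G j (σ.symm 0))) (mul4 v1.succ (G j (σ.symm 1)))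
        (mul4 v2.succ (G j (σ.symm 2))) (mul4 v3.succ (G j (σ.symm 3))) = 0 := by
  unfold rowsA
  rw [Bool.and_eq_true, Bool.and_eq_true]
  constructor
  · rintro ⟨⟨h0, h1⟩, h2⟩ j
    fin_cases j
    · exact (rowA_iff σ 0 v0 v1 v2 v3).mp h0
    · exact (rowA_iff σ 1 v0 v1 v2 v3).mp h1
    · exact (rowA_iff σ 2 v0 v1 v2 v3).mp h2
  · intro h
    exact ⟨⟨(rowA_iff σ 0 v0 v1 v2 v3).mpr (h 0), (rowA_iff σ 1 v0 v1 v2 v3).mpr (h 1)⟩,
      (rowA_iff σ 2 v0 v1 v2 v3).mpr (h 2)⟩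

theorem rowsB_iff (σ : Equiv.Perm (Fin 6)) (v0 v1 v2 v4 : Fin 3) :
    rowsB (code6 σ) v0.val v1.val v2.val v4.val = true ↔
      ∀ j : Fin 3, r1 (mul4 v0.succ (G j (σ.symm 0))) (mul4 v1.succ (G j (σ.symm 1)))
        (mul4 v2.succ (G j (σ.symm 2))) (mul4 v4.succ (G j (σ.symm 4))) = 0 := by
  unfold rowsB
  rw [Bool.and_eq_true, Bool.and_eq_true]
  constructor
  · rintro ⟨⟨h0, h1⟩, h2⟩ j
    fin_cases j
    · exact (rowB_iff σ 0 v0 v1 v2 v4).mp h0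
    · exact (rowB_iff σ 1 v0 v1 v2 v4).mp h1
    · exact (rowB_iff σ 2 v0 v1 v2 v4).mp h2
  · intro h
    exact ⟨⟨(rowB_iff σ 0 v0 v1 v2 v4).mpr (h 0), (rowB_iff σ 1 v0 v1 v2 v4).mpr (h 1)⟩,
      (rowB_iff σ 2 v0 v1 v2 v4).mpr (h 2)⟩

theorem rowsC_iff (σ : Equiv.Perm (Fin 6)) (v0 v1 v2 v5 : Fin 3) :
    rowsC (code6 σ) v0.val v1.val v2.val v5.val = true ↔
      ∀ j : Fin 3, r2 (mul4 v0.succ (G j (σ.symm 0))) (mul4 v1.succ (G j (σ.symm 1)))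
        (mul4 v2.succ (G j (σ.symm 2))) (mul4 v5.succ (G j (σ.symm 5))) = 0 := by
  unfold rowsC
  rw [Bool.and_eq_true, Bool.and_eq_true]
  constructor
  · rintro ⟨⟨h0, h1⟩, h2⟩ j
    fin_cases j
    · exact (rowC_iff σ 0 v0 v1 v2 v5).mp h0
    · exact (rowC_iff σ 1 v0 v1 v2 v5).mp h1
    · exact (rowC_iff σ 2 v0 v1 v2 v5).mp h2
  · intro h
    exact ⟨⟨(rowC_iff σ 0 v0 v1 v2 v5).mpr (h 0), (rowC_iff σ 1 v0 v1 v2 v5).mpr (h 1)⟩,
      (rowC_iff σ 2 v0 v1 v2 v5).mpr (h 2)⟩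

/-- validity in the table model -/
def validM (σ : Equiv.Perm (Fin 6)) (k : Fin 6 → Fin 3) : Prop :=
  ∀ j : Fin 3, inHm (fun i => mul4 (k i).succ (G j (σ.symm i)))

instance (σ : Equiv.Perm (Fin 6)) (k : Fin 6 → Fin 3) : Decidable (validM σ k) := by
  unfold validM; infer_instance

theorem validM_iff_rows (σ : Equiv.Perm (Fin 6)) (v0 v1 v2 v3 v4 v5 : Fin 3) :
    validM σ ![v0, v1, v2, v3, v4, v5] ↔
      rowsA (code6 σ) v0.val v1.val v2.val v3.val = true ∧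
      rowsB (code6 σ) v0.val v1.val v2.val v4.val = true ∧
      rowsC (code6 σ) v0.val v1.val v2.val v5.val = true := by
  rw [rowsA_iff, rowsB_iff, rowsC_iff, ← forall_and, ← forall_and]
  exact Iff.rfl

/-- tuples as functions -/
def e6 : Fin 3 × Fin 3 × Fin 3 × Fin 3 × Fin 3 × Fin 3 ≃ (Fin 6 → Fin 3) where
  toFun p := ![p.1, p.2.1, p.2.2.1, p.2.2.2.1, p.2.2.2.2.1, p.2.2.2.2.2]
  invFun k := (k 0, k 1, k 2, k 3, k 4, k 5)
  left_inv p := rfl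
  right_inv k := by
    funext i
    fin_cases i <;> rfl

theorem inner_sum (a : Bool) (b c : Fin 3 → Bool) :
    ∑ v4 : Fin 3, ∑ v5 : Fin 3, (if a = true ∧ b v4 = true ∧ c v5 = true then 1 else 0) =
      bif a then (∑ v4 : Fin 3, (b v4).toNat) * (∑ v5 : Fin 3, (c v5).toNat) else 0 := by
  cases a
  · simp
  · rw [cond_true, Finset.sum_mul_sum]
    apply Finset.sum_congr rfl
    intro v4 _
    apply Finset.sum_congr rfl
    intro v5 _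
    cases b v4 <;> cases c v5 <;> simp

theorem card_valid (σ : Equiv.Perm (Fin 6)) :
    (Finset.univ.filter (fun k : Fin 6 → Fin 3 => validM σ k)).card = cntC (code6 σ) := by
  rw [Finset.card_filter, ← Equiv.sum_comp e6]
  simp only [Fintype.sum_prod_type]
  unfold cntC
  rw [force_eq]
  simp only [← sum3_eq]
  apply Finset.sum_congr rfl
  intro v0 _
  apply Finset.sum_congr rfl
  intro v1 _
  apply Finset.sum_congr rfl
  intro v2 _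
  apply Finset.sum_congr rfl
  intro v3 _
  rw [← inner_sum]
  apply Finset.sum_congr rfl
  intro v4 _
  apply Finset.sum_congr rfl
  intro v5 _
  have : e6 (v0, v1, v2, v3, v4, v5) = ![v0, v1, v2, v3, v4, v5] := rfl
  rw [this]
  simp only [validM_iff_rows]

end Cfsg.Agent.Lib.Helper14.Hexa
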