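import Mathlib
import Cfsg.Agent.Lib.Helper8.TW.Defs
import Cfsg.Agent.Lib.Helper20.AschA89WR
import Cfsg.Agent.Lib.Helper20.AschA89F2J
import Cfsg.Agent.Lib.Helper22.TWExtBasic
import Cfsg.Agent.Lib.Helper22.TWExtMore
import Cfsg.Agent.Lib.Helper23.TWG1
import Cfsg.Agent.Lib.Helper19.TWGrow
import Cfsg.Agent.Lib.Helper14.TWIIDefs

/-!
S5641 Stage II Case B, packet IIB-BK: block calculus at position `i` (exact signatures of `notes/S5641_IIB_leaves.lean`).
-/

set_option autoImplicit false
set_option linter.unusedSectionVars false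
set_option linter.unusedVariables false

namespace Cfsg.Agent.Lib.Helper14.TWIIBLeaf
open Matrix Cfsg.Geo Cfsg.Agent.Lib.Helper18.AschA89 Cfsg.Agent.Lib.Helper20.AschLeaf Cfsg.Agent.Lib.Helper8.TW
  Cfsg.Agent.Lib.Helper14.TWII
open Cfsg.Agent.Lib.Helper22.TWLeaf (ins_inj ext_ins slot_ins mat_ext_ins vec_ext_ins blkAt_mul ins_surj)

variable {F : Type*} [Field F] {t m : ℕ}

lemma blkAt_apply (i : Fin (t + 1)) (M : Matrix (Idx (t + 1) m) (Idx (t + 1) m) F) (a b : Fin m) (u u' : Idx t m) :
    blkAt i M a b u u' = M (ins i a u) (ins i b u') := rfl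

/-- BK1 (S) -/
theorem blkAt_one (i : Fin (t + 1)) (a b : Fin m) :
    blkAt i (1 : Matrix (Idx (t + 1) m) (Idx (t + 1) m) F) a b = if a = b then 1 else 0 := by
  ext u u'
  rw [blkAt_apply, Matrix.one_apply]
  by_cases hab : a = b
  · subst hab
    rw [if_pos rfl, Matrix.one_apply]
    by_cases huu : u = u'
    · subst huu; rw [if_pos rfl, if_pos rfl]
    · rw [if_neg huu, if_neg]
      intro h
      exact huu ((ins_inj i a a u u').mp h).2
  · rw [if_neg hab, if_neg]
    · rfl
    · intro h
      exact hab ((ins_inj i a b u u').mp h).1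

/-- BK2 (S) -/
theorem blkAt_slot (i : Fin (t + 1)) (A : Matrix (Fin m) (Fin m) F) (a b : Fin m) :
    blkAt i (slot m (t + 1) i A) a b = A a b • (1 : Matrix (Idx t m) (Idx t m) F) := by
  ext u u'
  rw [blkAt_apply, slot_ins, Matrix.smul_apply, Matrix.one_apply, smul_eq_mul]
  by_cases huu : u = u'
  · rw [if_pos huu, if_pos huu, mul_one]
  · rw [if_neg huu, if_neg huu, mul_zero]

/-- BK3 (S) -/
theorem blkAt_ext (i : Fin (t + 1)) (γ : Matrix (Idx t m) (Idx t m) F) (a b : Fin m) :
    blkAt i (ext i γ) a b = if a = b then γ else 0 := by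
  ext u u'
  rw [blkAt_apply, ext_ins]
  by_cases hab : a = b
  · rw [if_pos hab, if_pos hab]
  · rw [if_neg hab, if_neg hab]; rfl

/-- BK4 (S) -/
theorem blkAt_add (i : Fin (t + 1)) (M M' : Matrix (Idx (t + 1) m) (Idx (t + 1) m) F) (a b : Fin m) :
    blkAt i (M + M') a b = blkAt i M a b + blkAt i M' a b := rfl

theorem blkAt_sub (i : Fin (t + 1)) (M M' : Matrix (Idx (t + 1) m) (Idx (t + 1) m) F) (a b : Fin m) :
    blkAt i (M - M') a b = blkAt i M a b - blkAt i M' a b := rfl

theorem blkAt_smul (i : Fin (t + 1)) (c : F) (M : Matrix (Idx (t + 1) m) (Idx (t + 1) m) F) (a b : Fin m) :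
    blkAt i (c • M) a b = c • blkAt i M a b := rfl

/-- BK5 (S) a matrix is determined by its blocks -/
theorem eq_of_blkAt (i : Fin (t + 1)) {M M' : Matrix (Idx (t + 1) m) (Idx (t + 1) m) F}
    (h : ∀ a b, blkAt i M a b = blkAt i M' a b) : M = M' := by
  apply mat_ext_ins i
  intro a b u u'
  have := congrFun (congrFun (h a b) u) u'
  exact this

/-- BK6 (S) -/
theorem blkAt_ext_mul (i : Fin (t + 1)) (γ : Matrix (Idx t m) (Idx t m) F)
    (M : Matrix (Idx (t + 1) m) (Idx (t + 1) m) F) (a b : Fin m) :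
    blkAt i (ext i γ * M) a b = γ * blkAt i M a b := by
  rw [blkAt_mul, Finset.sum_eq_single a]
  · rw [blkAt_ext, if_pos rfl]
  · intro c _ hc
    rw [blkAt_ext, if_neg (Ne.symm hc), zero_mul]
  · intro h; exact absurd (Finset.mem_univ _) h

theorem blkAt_mul_ext (i : Fin (t + 1)) (γ : Matrix (Idx t m) (Idx t m) F)
    (M : Matrix (Idx (t + 1) m) (Idx (t + 1) m) F) (a b : Fin m) :
    blkAt i (M * ext i γ) a b = blkAt i M a b * γ := by
  rw [blkAt_mul, Finset.sum_eq_single b]
  · rw [blkAt_ext, if_pos rfl]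
  · intro c _ hc
    rw [blkAt_ext, if_neg hc, mul_zero]
  · intro h; exact absurd (Finset.mem_univ _) h

/-- BK7 (S) -/
theorem blkAt_slot_mul (i : Fin (t + 1)) (A : Matrix (Fin m) (Fin m) F)
    (M : Matrix (Idx (t + 1) m) (Idx (t + 1) m) F) (a b : Fin m) :
    blkAt i (slot m (t + 1) i A * M) a b = ∑ c, A a c • blkAt i M c b := by
  rw [blkAt_mul]
  apply Finset.sum_congr rfl
  intro c _
  rw [blkAt_slot, Matrix.smul_mul, Matrix.one_mul]

theorem blkAt_mul_slot (i : Fin (t + 1)) (A : Matrix (Fin m) (Fin m) F)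
    (M : Matrix (Idx (t + 1) m) (Idx (t + 1) m) F) (a b : Fin m) :
    blkAt i (M * slot m (t + 1) i A) a b = ∑ c, A c b • blkAt i M a c := by
  rw [blkAt_mul]
  apply Finset.sum_congr rfl
  intro c _
  rw [blkAt_slot, Matrix.mul_smul, Matrix.mul_one]

/-- BK8 (S) -/
theorem blkAt_rootN (i : Fin (t + 1)) (y η : Fin m → F) (a b : Fin m) :
    blkAt i (rootN i y η) a b = (y a * η b) • (1 : Matrix (Idx t m) (Idx t m) F) := by
  unfold rootN
  rw [blkAt_slot, Matrix.vecMulVec_apply]

/-- BK9 (S) the action in blocks -/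
theorem mulVec_ins (i : Fin (t + 1)) (M : Matrix (Idx (t + 1) m) (Idx (t + 1) m) F) (v : Idx (t + 1) m → F)
    (a : Fin m) (u : Idx t m) :
    (M *ᵥ v) (ins i a u) = ∑ b, (blkAt i M a b *ᵥ fun u' => v (ins i b u')) u := by
  simp only [Matrix.mulVec, dotProduct]
  rw [sum_ins i]
  rfl

/-- BK10 (S) the fibre `W(i, e_o)` in coordinates -/
theorem mem_Wf_eo_iff (i : Fin (t + 1)) (o : Fin m) (v : Idx (t + 1) m → F) :
    v ∈ Wf i (eo o : Fin m → F) ↔ ∀ a u, a ≠ o → v (ins i a u) = 0 := by
  unfold Wf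
  rw [mem_fib]
  constructor
  · intro h a u ha
    have h1 := h (ins i a u)
    rw [Submodule.mem_span_singleton] at h1
    obtain ⟨c, hc⟩ := h1
    have h2 := congrFun hc a
    simp only [slice, Pi.smul_apply, eo, smul_eq_mul] at h2
    rw [Pi.single_eq_of_ne ha, mul_zero, Cfsg.Agent.Lib.Helper22.TWLeaf.update_ins] at h2
    exact h2.symm
  · intro h x
    rw [Submodule.mem_span_singleton]
    refine ⟨slice i x v o, ?_⟩
    funext a
    simp only [Pi.smul_apply, eo, smul_eq_mul]
    by_cases ha : a = o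
    · subst ha
      rw [Pi.single_eq_same, mul_one]
    · rw [Pi.single_eq_of_ne ha, mul_zero]
      simp only [slice]
      rw [Cfsg.Agent.Lib.Helper22.TWLeaf.update_eq_ins]
      exact (h a _ ha).symm

/-- the vector `tens i (Pi.single u' 1) (eo o)` is the basis vector at `ins i o u'` -/
lemma tens_single_eo (i : Fin (t + 1)) (o : Fin m) (u' : Idx t m) :
    tens i (Pi.single u' (1 : F)) (eo o : Fin m → F) = Pi.single (ins i o u') 1 := by
  apply vec_ext_ins i
  intro a u
  simp only [tens, ins_same, Cfsg.Agent.Lib.Helper22.TWLeaf.ins_comp, eo]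
  by_cases h : ins i a u = ins i o u'
  · obtain ⟨rfl, rfl⟩ := (ins_inj i a o u u').mp h
    rw [Pi.single_eq_same, Pi.single_eq_same, Pi.single_eq_same, mul_one]
  · rw [Pi.single_eq_of_ne h]
    by_cases ha : a = o
    · subst ha
      have hu : u ≠ u' := fun hu => h (by rw [hu])
      rw [Pi.single_eq_of_ne hu, zero_mul]
    · rw [Pi.single_eq_of_ne ha, mul_zero]

/-- BK11 (M) a matrix mapping `W(i,e_o)` into itself has zero blocks `(a, o)`, `a ≠ o` -/
theorem blkAt_col_of_stab (i : Fin (t + 1)) (o : Fin m) (g : GL (Idx (t + 1) m) F)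
    (h : img g (Wf i (eo o : Fin m → F)) ≤ Wf i (eo o)) (a : Fin m) (ha : a ≠ o) :
    blkAt i (g : Matrix (Idx (t + 1) m) (Idx (t + 1) m) F) a o = 0 := by
  ext u u'
  rw [blkAt_apply, Matrix.zero_apply]
  have hmem : (Pi.single (ins i o u') (1 : F) : Idx (t + 1) m → F) ∈ Wf i (eo o : Fin m → F) := by
    rw [mem_Wf_eo_iff]
    intro a' w ha'
    rw [Pi.single_eq_of_ne]
    intro h'
    exact ha' ((ins_inj i a' o w u').mp h').1
  have h1 : (g : Matrix (Idx (t + 1) m) (Idx (t + 1) m) F) *ᵥ Pi.single (ins i o u') (1 : F) ∈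
      Wf i (eo o : Fin m → F) := by
    apply h
    refine ⟨_, hmem, ?_⟩
    rw [Matrix.toLin'_apply]
  rw [mem_Wf_eo_iff] at h1
  have h2 := h1 a u ha
  rwa [Matrix.mulVec_single_one] at h2

/-- BK12 (M) `Z_b` in blocks, `b = (i, e_o)` -/
theorem InZ_eo_iff_blk (i : Fin (t + 1)) (o : Fin m) (z : GL (Idx (t + 1) m) F) :
    InZ i (eo o : Fin m → F) z ↔
      (∀ a b, a ≠ o → blkAt i (z : Matrix (Idx (t + 1) m) (Idx (t + 1) m) F) a b = if a = b then 1 else 0) ∧
        blkAt i (z : Matrix (Idx (t + 1) m) (Idx (t + 1) m) F) o o = 1 := by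
  constructor
  · rintro ⟨h1, h2⟩
    have key : ∀ a b, a ≠ o ∨ b = o →
        blkAt i (z : Matrix (Idx (t + 1) m) (Idx (t + 1) m) F) a b = if a = b then 1 else 0 := by
      intro a b hab
      ext u u'
      rw [blkAt_apply]
      have e1 : (z : Matrix (Idx (t + 1) m) (Idx (t + 1) m) F) (ins i a u) (ins i b u') =
          (mv z (Pi.single (ins i b u') (1 : F))) (ins i a u) := by
        unfold mv
        rw [Matrix.mulVec_single_one]
        rfl
      rw [e1]
      have e2 : (if a = b then (1 : Matrix (Idx t m) (Idx t m) F) else 0) u u' =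
          (Pi.single (ins i b u') (1 : F) : Idx (t + 1) m → F) (ins i a u) := by
        by_cases hab' : a = b
        · subst hab'
          rw [if_pos rfl, Matrix.one_apply]
          by_cases huu : u = u'
          · subst huu; rw [if_pos rfl, Pi.single_eq_same]
          · rw [if_neg huu, Pi.single_eq_of_ne]
            intro h
            exact huu ((ins_inj i a a u u').mp h).2
        · rw [if_neg hab', Pi.single_eq_of_ne]
          · rfl
          · intro h
            exact hab' ((ins_inj i a b u u').mp h).1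
      rw [e2]
      rcases hab with ha | hb
      · have h3 := h1 (Pi.single (ins i b u') (1 : F))
        rw [mem_Wf_eo_iff] at h3
        have h4 := h3 a u ha
        rw [Pi.sub_apply, sub_eq_zero] at h4
        exact h4
      · subst hb
        have hmem : (Pi.single (ins i b u') (1 : F) : Idx (t + 1) m → F) ∈ Wf i (eo b : Fin m → F) := by
          rw [mem_Wf_eo_iff]
          intro a' w ha'
          rw [Pi.single_eq_of_ne]
          intro h'
          exact ha' ((ins_inj i a' b w u').mp h').1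
        rw [h2 _ hmem]
    refine ⟨fun a b ha => key a b (Or.inl ha), ?_⟩
    have := key o o (Or.inr rfl)
    rwa [if_pos rfl] at this
  · rintro ⟨h1, h2⟩
    have hcoord : ∀ (v : Idx (t + 1) m → F) (a : Fin m) (u : Idx t m), a ≠ o →
        (mv z v) (ins i a u) = v (ins i a u) := by
      intro v a u ha
      unfold mv
      rw [mulVec_ins, Finset.sum_eq_single a]
      · rw [h1 a a ha, if_pos rfl, Matrix.one_mulVec]
      · intro b _ hb
        rw [h1 a b ha, if_neg (Ne.symm hb), Matrix.zero_mulVec]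
        rfl
      · intro h; exact absurd (Finset.mem_univ _) h
    refine ⟨?_, ?_⟩
    · intro v
      rw [mem_Wf_eo_iff]
      intro a u ha
      rw [Pi.sub_apply, hcoord v a u ha, sub_self]
    · intro v hv
      rw [mem_Wf_eo_iff] at hv
      apply vec_ext_ins i
      intro a u
      by_cases ha : a = o
      · subst ha
        unfold mv
        rw [mulVec_ins, Finset.sum_eq_single a]
        · rw [h2, Matrix.one_mulVec]
        · intro b _ hb
          have : (fun u' => v (ins i b u')) = 0 := by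
            funext u'
            exact hv b u' hb
          rw [this, Matrix.mulVec_zero]
          rfl
        · intro h; exact absurd (Finset.mem_univ _) h
      · exact hcoord v a u ha

end Cfsg.Agent.Lib.Helper14.TWIIBLeaf
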