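import Mathlib

set_option autoImplicit false

namespace Cfsg.Agent.Lib.Helper14

/-- The element orders of the alternating group of degree `N` are exactly the least common
multiples of multisets of integers `≥ 2` with sum at most `N` and `sum + card` even. -/
theorem mem_range_orderOf_alternatingGroup_iff {N k : ℕ} :
    k ∈ Set.range (orderOf : alternatingGroup (Fin N) → ℕ) ↔
      ∃ m : Multiset ℕ, (∀ a ∈ m, 2 ≤ a) ∧ m.sum ≤ N ∧ m.lcm = k ∧
        Even (m.sum + Multiset.card m) := by
  constructor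
  · rintro ⟨g, rfl⟩
    refine ⟨(g : Equiv.Perm (Fin N)).cycleType, fun a ha => Equiv.Perm.two_le_of_mem_cycleType ha,
      ?_, ?_, ?_⟩
    · simpa using Equiv.Perm.sum_cycleType_le (g : Equiv.Perm (Fin N))
    · rw [Equiv.Perm.lcm_cycleType, Subgroup.orderOf_coe]
    · have h1 : Equiv.Perm.sign (g : Equiv.Perm (Fin N)) = 1 := Equiv.Perm.mem_alternatingGroup.mp g.2
      rw [Equiv.Perm.sign_of_cycleType] at h1
      by_contra hodd
      rw [Nat.not_even_iff_odd] at hodd
      rw [hodd.neg_one_pow] at h1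
      exact absurd h1 (by decide)
  · rintro ⟨m, h2, hsum, hlcm, hev⟩
    obtain ⟨σ, hσ⟩ := (Equiv.Perm.exists_with_cycleType_iff (α := Fin N)).mpr
      ⟨by simpa using hsum, h2⟩
    have hsign : Equiv.Perm.sign σ = 1 := by
      rw [Equiv.Perm.sign_of_cycleType, hσ, hev.neg_one_pow]
    refine ⟨⟨σ, Equiv.Perm.mem_alternatingGroup.mpr hsign⟩, ?_⟩
    rw [← Subgroup.orderOf_coe]
    simp only
    rw [← Equiv.Perm.lcm_cycleType, hσ, hlcm]

/-- A prime dividing the lcm of a multiset of naturals divides one of its members. -/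
theorem exists_mem_dvd_of_prime_dvd_multiset_lcm {p : ℕ} (hp : p.Prime) {m : Multiset ℕ}
    (h : p ∣ m.lcm) : ∃ a ∈ m, p ∣ a := by
  induction m using Multiset.induction_on with
  | empty =>
    simp at h
    exact absurd h hp.one_lt.ne'
  | cons a t ih =>
    rw [Multiset.lcm_cons] at h
    rcases (Nat.Prime.dvd_lcm hp).mp h with h1 | h1
    · exact ⟨a, Multiset.mem_cons_self a t, h1⟩
    · obtain ⟨b, hb, hpb⟩ := ih h1
      exact ⟨b, Multiset.mem_cons_of_mem hb, hpb⟩

/-- Two different members of a multiset of naturals have sum at most the sum of the multiset. -/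
theorem add_le_sum_of_mem_of_ne {m : Multiset ℕ} {a b : ℕ} (ha : a ∈ m) (hb : b ∈ m) (hab : a ≠ b) :
    a + b ≤ m.sum := by
  obtain ⟨t, rfl⟩ := Multiset.exists_cons_of_mem ha
  rw [Multiset.mem_cons] at hb
  rcases hb with hb | hb
  · exact absurd hb.symm hab
  · have := Multiset.le_sum_of_mem hb
    rw [Multiset.sum_cons]
    omega

end Cfsg.Agent.Lib.Helper14
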