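import Mathlib
import Cfsg.Agent.Lib.Helper20.AschDefs
import Cfsg.Agent.Lib.Helper24.AschA7Defs

/-!
S5630 (Aschbacher, helper20), block (A7) (sub-planner helper24): leaf L1 `prime_ne_char`
(exact signature of notes/S5630_A7_leaves.lean).  Taker: helper14.
-/

set_option autoImplicit false
set_option linter.unusedSectionVars false
set_option linter.unusedVariables false

namespace Cfsg.Agent.Lib.Helper14.AschA7Leaf
open Matrix Cfsg.Geo Cfsg.Agent.Lib.Helper20.Asch Cfsg.Agent.Lib.Helper24.AschA7
open scoped Kronecker commutatorElement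

variable {F : Type*} [Field F] [Fintype F] {n : ℕ} {H N : Subgroup (GL (Fin n) F)}

/-- L1.  If `r = p` then the `p`-group `N` fixes a non-zero vector of `F^n` (`IsPGroup.card_modEq_card_fixedPoints`
for the action on `Fin n → F`, whose cardinality is a power of `p`); the fixed space is `N`-invariant and non-zero, so it
is everything and `N = 1`. -/
theorem prime_ne_char (hirr : Irr N) (hns : ¬ N ≤ scalars (Fin n) F) {r p : ℕ} (hr : r.Prime)
    (hchar : CharP F p) (hG : IsPGroup r N) : r ≠ p := by
  classical
  rintro rfl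
  haveI : Fact r.Prime := ⟨hr⟩
  -- `n > 0`
  have hn : 0 < n := by
    rcases Nat.eq_zero_or_pos n with h | h
    · exfalso
      subst h
      apply hns
      intro g _
      have : g = 1 := Subsingleton.elim _ _
      rw [this]
      exact one_mem _
    · exact h
  haveI : Nonempty (Fin n) := ⟨⟨0, hn⟩⟩
  -- the action of `N` on `F^n`
  letI act : MulAction N (Fin n → F) :=
    { smul := fun x v => ((x : GL (Fin n) F) : Matrix (Fin n) (Fin n) F) *ᵥ v
      one_smul := fun v => by
        change ((1 : N) : GL (Fin n) F).val *ᵥ v = v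
        simp
      mul_smul := fun x y v => by
        change ((x * y : N) : GL (Fin n) F).val *ᵥ v = (x : GL (Fin n) F).val *ᵥ ((y : GL (Fin n) F).val *ᵥ v)
        rw [Matrix.mulVec_mulVec]
        rfl }
  have hsmul : ∀ (x : N) (v : Fin n → F), x • v = ((x : GL (Fin n) F) : Matrix (Fin n) (Fin n) F) *ᵥ v :=
    fun _ _ => rfl
  -- `r` divides the number of vectors
  have hdvd : r ∣ Nat.card (Fin n → F) := by
    rw [Nat.card_eq_fintype_card, Fintype.card_fun, Fintype.card_fin]
    have h1 : r ∣ Fintype.card F := by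
      obtain ⟨e, hp, he⟩ := FiniteField.card F r
      rw [he]
      exact dvd_pow_self r e.ne_zero
    exact dvd_pow h1 hn.ne'
  have h0 : (0 : Fin n → F) ∈ MulAction.fixedPoints N (Fin n → F) := by
    intro x
    rw [hsmul, Matrix.mulVec_zero]
  obtain ⟨b, hb, hb0⟩ := hG.exists_fixed_point_of_prime_dvd_card_of_fixed_point (Fin n → F) hdvd h0
  -- the fixed space
  let W : Submodule F (Fin n → F) :=
    { carrier := {v | ∀ x ∈ N, ((x : GL (Fin n) F) : Matrix (Fin n) (Fin n) F) *ᵥ v = v}
      add_mem' := fun {u v} hu hv x hx => by rw [Matrix.mulVec_add, hu x hx, hv x hx]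
      zero_mem' := fun x _ => Matrix.mulVec_zero _
      smul_mem' := fun c v hv x hx => by rw [Matrix.mulVec_smul, hv x hx] }
  have hbW : b ∈ W := fun x hx => hb ⟨x, hx⟩
  have hWinv : ∀ s ∈ matrixSet N, W.map (Matrix.toLin' s) ≤ W := by
    rintro _ ⟨x, hx, rfl⟩ _ ⟨v, hv, rfl⟩
    rw [Matrix.toLin'_apply]
    have : ((x : GL (Fin n) F) : Matrix (Fin n) (Fin n) F) *ᵥ v = v := hv x hx
    rw [this]
    exact hv
  rcases hirr W hWinv with h | h
  · apply hb0
    have : b ∈ (⊥ : Submodule F (Fin n → F)) := h ▸ hbW
    rw [Submodule.mem_bot] at this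
    exact this.symm
  · apply hns
    intro x hx
    have hx1 : x = 1 := by
      apply Units.ext
      apply Matrix.toLin'.injective
      apply LinearMap.ext
      intro v
      have hv : v ∈ W := h ▸ Submodule.mem_top
      rw [Matrix.toLin'_apply, hv x hx]
      simp
    rw [hx1]
    exact one_mem _

end Cfsg.Agent.Lib.Helper14.AschA7Leaf
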