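/-
helper14: S4482-LOC sub-leaf (CENT) `card_centralizer_eq`: `|C_X(s)| = 4 |C_N(s)|` for `κ s = sr i`.
-/
import Mathlib

set_option autoImplicit false

namespace Cfsg.Agent.Lib.Helper14.BOFLCENT

universe u

open DihedralGroup

/-- the elements of order at most two of `ZMod (2^(n-1))` -/
theorem add_self_eq_zero_iff (n : ℕ) (hn : 2 ≤ n) (j : ZMod (2 ^ (n - 1))) :
    j + j = 0 ↔ j = 0 ∨ j = ((2 ^ (n - 2) : ℕ) : ZMod (2 ^ (n - 1))) := by
  have hn1 : n - 1 = (n - 2) + 1 := by omega
  have : NeZero (2 ^ (n - 1)) := ⟨by positivity⟩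
  constructor
  · intro h
    have hj : ((j.val + j.val : ℕ) : ZMod (2 ^ (n - 1))) = 0 := by
      rw [Nat.cast_add, ZMod.natCast_zmod_val, h]
    rw [ZMod.natCast_eq_zero_iff] at hj
    have hlt : j.val < 2 ^ (n - 1) := ZMod.val_lt j
    obtain ⟨c, hc⟩ := hj
    have hc2 : c = 0 ∨ c = 1 := by
      rcases c with _ | _ | c
      · left; rfl
      · right; rfl
      · exfalso
        have : 2 ^ (n - 1) * (c + 1 + 1) ≥ 2 ^ (n - 1) * 2 := Nat.mul_le_mul_left _ (by omega)
        omega
    rcases hc2 with rfl | rfl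
    · left
      have : j.val = 0 := by omega
      exact (ZMod.val_eq_zero j).mp this
    · right
      have h3 : 2 ^ (n - 1) = 2 ^ (n - 2) * 2 := by
        conv_lhs => rw [hn1, pow_succ]
      have h2 : j.val = 2 ^ (n - 2) := by
        rw [mul_one] at hc
        omega
      rw [← h2, ZMod.natCast_zmod_val]
  · rintro (rfl | rfl)
    · simp
    · rw [← Nat.cast_add, ZMod.natCast_eq_zero_iff]
      rw [hn1, pow_succ]
      exact ⟨1, by ring⟩

theorem half_ne_zero (n : ℕ) (hn : 2 ≤ n) : ((2 ^ (n - 2) : ℕ) : ZMod (2 ^ (n - 1))) ≠ 0 := by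
  have hn1 : n - 1 = (n - 2) + 1 := by omega
  rw [Ne, ZMod.natCast_eq_zero_iff]
  intro h
  have := Nat.le_of_dvd (by positivity) h
  rw [hn1, pow_succ] at this
  have : 0 < 2 ^ (n - 2) := by positivity
  omega

/-- (LOC-CENT) -/
theorem card_centralizer_eq {X : Type u} [Group X] [Finite X] (n : ℕ) (hn : 2 ≤ n)
    (N : Subgroup X) [N.Normal] (σ : X) (hJc : ∀ g : X, Commute (σ ^ (2 ^ (n - 2))) g)
    (κ : X →* DihedralGroup (2 ^ (n - 1))) (hker : κ.ker = N) (hκσ : κ σ = r 1)
    (s : X) (i : ZMod (2 ^ (n - 1))) (hκs : κ s = sr i) :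
    Nat.card (Subgroup.centralizer ({s} : Set X)) =
      4 * Nat.card (N ⊓ Subgroup.centralizer ({s} : Set X) : Subgroup X) := by
  classical
  have : NeZero (2 ^ (n - 1)) := ⟨by positivity⟩
  set C : Subgroup X := Subgroup.centralizer ({s} : Set X) with hC
  set h : ZMod (2 ^ (n - 1)) := ((2 ^ (n - 2) : ℕ) : ZMod (2 ^ (n - 1))) with hh
  have hh0 : h ≠ 0 := half_ne_zero n hn
  have hmemC : ∀ c : X, c ∈ C ↔ s * c = c * s := by
    intro c
    rw [hC, Subgroup.mem_centralizer_iff]
    constructor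
    · intro hc
      exact hc s rfl
    · intro hc y hy
      rw [Set.mem_singleton_iff] at hy
      subst hy
      exact hc
  have hsC : s ∈ C := (hmemC s).mpr rfl
  have hJC : σ ^ (2 ^ (n - 2)) ∈ C := (hmemC _).mpr (hJc s).eq.symm
  have hκJ : κ (σ ^ (2 ^ (n - 2))) = r h := by rw [map_pow, hκσ, r_one_pow]
  set f : ↥C →* DihedralGroup (2 ^ (n - 1)) := κ.comp C.subtype with hf
  have hkerf : f.ker = (N ⊓ C).subgroupOf C := by
    ext y
    rw [MonoidHom.mem_ker, Subgroup.mem_subgroupOf, Subgroup.mem_inf, ← hker, MonoidHom.mem_ker]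
    constructor
    · intro hy
      exact ⟨hy, y.2⟩
    · intro hy
      exact hy.1
  have hrange : (f.range : Set (DihedralGroup (2 ^ (n - 1)))) =
      (({1, r h, sr i, sr (i + h)} : Finset (DihedralGroup (2 ^ (n - 1)))) : Set _) := by
    ext d
    simp only [SetLike.mem_coe, MonoidHom.mem_range, Finset.coe_insert, Finset.coe_singleton,
      Set.mem_insert_iff, Set.mem_singleton_iff]
    constructor
    · rintro ⟨c, rfl⟩
      have hc : s * (c : X) = (c : X) * s := (hmemC c).mp c.2
      have hc' : sr i * κ (c : X) = κ (c : X) * sr i := by rw [← hκs, ← map_mul, hc, map_mul]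
      show κ (c : X) = 1 ∨ κ (c : X) = r h ∨ κ (c : X) = sr i ∨ κ (c : X) = sr (i + h)
      rcases hκc : κ (c : X) with j | j
      · rw [hκc, sr_mul_r, r_mul_sr, sr.injEq] at hc'
        have h2 : j + j = 0 := by
          have : i + j - (i - j) = 0 := by rw [hc', sub_self]
          rw [← this]; ring
        rcases (add_self_eq_zero_iff n hn j).mp h2 with rfl | rfl
        · left; rfl
        · right; left; rfl
      · rw [hκc, sr_mul_sr, sr_mul_sr, r.injEq] at hc'
        have h2 : (j - i) + (j - i) = 0 := by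
          have : j - i - (i - j) = 0 := by rw [hc', sub_self]
          rw [← this]; ring
        rcases (add_self_eq_zero_iff n hn (j - i)).mp h2 with h3 | h3
        · right; right; left
          rw [sub_eq_zero.mp h3]
        · right; right; right
          have : j = i + h := by rw [hh, ← h3]; ring
          rw [this]
    · rintro (rfl | rfl | rfl | rfl)
      · exact ⟨1, map_one f⟩
      · exact ⟨⟨_, hJC⟩, hκJ⟩
      · exact ⟨⟨s, hsC⟩, hκs⟩
      · refine ⟨⟨s * σ ^ (2 ^ (n - 2)), mul_mem hsC hJC⟩, ?_⟩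
        show κ (s * σ ^ (2 ^ (n - 2))) = sr (i + h)
        rw [map_mul, hκs, hκJ, sr_mul_r]
  have hcardR : Nat.card f.range = 4 := by
    rw [← SetLike.coe_sort_coe, hrange, Nat.card_coe_set_eq, Set.ncard_coe_finset]
    rw [Finset.card_insert_of_notMem, Finset.card_insert_of_notMem, Finset.card_insert_of_notMem,
      Finset.card_singleton]
    · simp only [Finset.mem_singleton, sr.injEq]
      intro h1
      apply hh0
      have : i + h - i = 0 := by rw [← h1, sub_self]
      rw [← this]; ring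
    · simp
    · simp only [Finset.mem_insert, Finset.mem_singleton, one_def, r.injEq, reduceCtorEq, or_false]
      exact fun h1 => hh0 h1.symm
  have h1 := Subgroup.card_mul_index f.ker
  rw [Subgroup.index_ker, hcardR, hkerf,
    Nat.card_congr (Subgroup.subgroupOfEquivOfLe (inf_le_right : N ⊓ C ≤ C)).toEquiv] at h1
  rw [← h1, mul_comm]

end Cfsg.Agent.Lib.Helper14.BOFLCENT
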