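/-
helper14: S4482-LOC sub-leaf (ROT) `rot_conj`: an element of the coset `σ^l N` is conjugate to `σ^l ρ`,
`ρ ∈ C(σ^l)` of odd order.
-/
import Mathlib

set_option autoImplicit false

namespace Cfsg.Agent.Lib.Helper14.BOFLROT

universe u

open DihedralGroup

/-- 2-part / 2'-part decomposition, both parts powers of the element -/
theorem exists_two_part {C : Type*} [Group C] [Finite C] (c : C) :
    ∃ a b : ℤ, c = c ^ a * c ^ b ∧ (∃ k : ℕ, orderOf (c ^ a) = 2 ^ k) ∧ Odd (orderOf (c ^ b)) := by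
  have ho : orderOf c ≠ 0 := (orderOf_pos c).ne'
  obtain ⟨e, r, hr, hor⟩ := Nat.exists_eq_pow_mul_and_not_dvd ho 2 (by norm_num)
  have hcop : Nat.Coprime (2 ^ e) r :=
    Nat.Coprime.pow_left e ((Nat.Prime.coprime_iff_not_dvd Nat.prime_two).mpr hr)
  obtain ⟨s, t, hst⟩ := Nat.isCoprime_iff_coprime.mpr hcop
  refine ⟨t * (r : ℤ), s * ((2 ^ e : ℕ) : ℤ), ?_, ?_, ?_⟩
  · rw [← zpow_add, add_comm, hst, zpow_one]
  · have h1 : (c ^ (t * (r : ℤ))) ^ (2 ^ e) = 1 := by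
      rw [← zpow_natCast, ← zpow_mul, mul_assoc, ← Nat.cast_mul, mul_comm r, ← hor, mul_comm,
        zpow_mul, zpow_natCast, pow_orderOf_eq_one, one_zpow]
    obtain ⟨k, -, hk⟩ := (Nat.dvd_prime_pow Nat.prime_two).mp (orderOf_dvd_of_pow_eq_one h1)
    exact ⟨k, hk⟩
  · have h1 : (c ^ (s * ((2 ^ e : ℕ) : ℤ))) ^ r = 1 := by
      rw [← zpow_natCast, ← zpow_mul, mul_assoc, ← Nat.cast_mul, ← hor, mul_comm,
        zpow_mul, zpow_natCast, pow_orderOf_eq_one, one_zpow]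
    rw [← Nat.not_even_iff_odd, even_iff_two_dvd]
    intro h2
    exact hr (h2.trans (orderOf_dvd_of_pow_eq_one h1))

/-- a 2-element is conjugate into a given Sylow 2-subgroup -/
theorem exists_conj_mem_sylow {Y : Type*} [Group Y] [Finite Y] [Fact (Nat.Prime 2)] (P : Sylow 2 Y) (d : Y)
    (k : ℕ) (hd : orderOf d = 2 ^ k) : ∃ y : Y, y * d * y⁻¹ ∈ (P : Subgroup Y) := by
  have hpg : IsPGroup 2 (Subgroup.zpowers d) := by
    apply IsPGroup.of_card (n := k)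
    rw [Nat.card_zpowers, hd]
  obtain ⟨Q, hQ⟩ := hpg.exists_le_sylow
  obtain ⟨y, hy⟩ := MulAction.exists_smul_eq Y Q P
  refine ⟨y, ?_⟩
  rw [← hy, Sylow.coe_subgroup_smul, Subgroup.mem_pointwise_smul_iff_inv_smul_mem]
  rw [MulAut.smul_def, MulAut.conj_inv_apply]
  have : y⁻¹ * (y * d * y⁻¹) * y = d := by group
  rw [this]
  exact hQ (Subgroup.mem_zpowers d)

/-- (LOC-ROT) -/
theorem rot_conj {X : Type u} [Group X] [Finite X] (n : ℕ)
    (N : Subgroup X) [N.Normal] (hNodd : Odd (Nat.card N))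
    (σ : X) (hσo : orderOf σ = 2 ^ (n - 1))
    (κ : X →* DihedralGroup (2 ^ (n - 1))) (hker : κ.ker = N) (hκσ : κ σ = r 1)
    (g : X) (l : ℕ) (hg : κ g = r (l : ZMod (2 ^ (n - 1)))) :
    ∃ u ρ : X, Commute (σ ^ l) ρ ∧ Odd (orderOf ρ) ∧ u * g * u⁻¹ = σ ^ l * ρ := by
  classical
  have : Fact (Nat.Prime 2) := ⟨Nat.prime_two⟩
  have : NeZero (2 ^ (n - 1)) := ⟨by positivity⟩
  -- `κ` is injective on `⟨σ⟩`
  have hinj : ∀ j : ℤ, κ (σ ^ j) = 1 → σ ^ j = 1 := by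
    intro j hj
    rw [map_zpow, hκσ, r_one_zpow, one_def, r.injEq] at hj
    have h1 : ((2 ^ (n - 1) : ℕ) : ℤ) ∣ j := (ZMod.intCast_zmod_eq_zero_iff_dvd j _).mp hj
    rw [← hσo] at h1
    exact orderOf_dvd_iff_zpow_eq_one.mp h1
  -- the decomposition of `g`
  obtain ⟨a, b, hab, ⟨k, hk⟩, hodd⟩ := exists_two_part g
  have hcomm : Commute (g ^ a) (g ^ b) := (Commute.refl g).zpow_zpow a b
  -- `κ` kills the odd part
  have hκb : κ (g ^ b) = 1 := by
    have h1 : orderOf (κ (g ^ b)) ∣ orderOf (g ^ b) := orderOf_map_dvd κ (g ^ b)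
    have h2 : orderOf (κ (g ^ b)) ∣ 2 ^ (n - 1 + 1) := by
      have := orderOf_dvd_natCard (κ (g ^ b))
      rwa [DihedralGroup.nat_card, ← pow_succ'] at this
    have hcop : Nat.Coprime (orderOf (g ^ b)) (2 ^ (n - 1 + 1)) :=
      Nat.Coprime.pow_right _ hodd.coprime_two_right
    exact orderOf_eq_one_iff.mp (Nat.eq_one_of_dvd_coprimes hcop h1 h2)
  have hκa : κ (g ^ a) = r (l : ZMod (2 ^ (n - 1))) := by
    rw [← hg]
    conv_rhs => rw [hab]
    rw [map_mul, hκb, mul_one]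
  -- the preimage of the rotations
  set Y : Subgroup X := (Subgroup.zpowers (r 1 : DihedralGroup (2 ^ (n - 1)))).comap κ with hY
  have hσY : σ ∈ Y := by
    rw [hY, Subgroup.mem_comap, hκσ]
    exact Subgroup.mem_zpowers _
  have hNY : N ≤ Y := by
    intro x hx
    rw [← hker, MonoidHom.mem_ker] at hx
    rw [hY, Subgroup.mem_comap, hx]
    exact one_mem _
  have hgaY : g ^ a ∈ Y := by
    rw [hY, Subgroup.mem_comap, hκa, ← r_one_pow]
    exact Subgroup.npow_mem_zpowers _ _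
  have hrotY : ∀ y ∈ Y, ∃ i : ZMod (2 ^ (n - 1)), κ y = r i := by
    intro y hy
    rw [hY, Subgroup.mem_comap, Subgroup.mem_zpowers_iff] at hy
    obtain ⟨j, hj⟩ := hy
    exact ⟨(j : ZMod (2 ^ (n - 1))), by rw [← hj, r_one_zpow]⟩
  have hzY : Subgroup.zpowers σ ≤ Y := by
    rw [Subgroup.zpowers_le]
    exact hσY
  -- the order of `Y`
  have hcardY : Nat.card Y = Nat.card N * 2 ^ (n - 1) := by
    set f : ↥Y →* DihedralGroup (2 ^ (n - 1)) := κ.comp Y.subtype with hf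
    have hkerf : f.ker = N.subgroupOf Y := by
      ext y
      rw [MonoidHom.mem_ker, Subgroup.mem_subgroupOf, ← hker, MonoidHom.mem_ker]
      rfl
    have hrangef : f.range = Subgroup.zpowers (r 1 : DihedralGroup (2 ^ (n - 1))) := by
      apply le_antisymm
      · rintro _ ⟨y, rfl⟩
        exact y.2
      · rw [Subgroup.zpowers_le]
        exact ⟨⟨σ, hσY⟩, hκσ⟩
    have h1 := Subgroup.card_mul_index f.ker
    rw [Subgroup.index_ker, hrangef, Nat.card_zpowers, orderOf_r_one, hkerf,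
      Nat.card_congr (Subgroup.subgroupOfEquivOfLe hNY).toEquiv] at h1
    exact h1.symm
  -- `⟨σ⟩` is a Sylow 2-subgroup of `Y`
  have hcardA : Nat.card ((Subgroup.zpowers σ).subgroupOf Y) = 2 ^ (n - 1) := by
    rw [Nat.card_congr (Subgroup.subgroupOfEquivOfLe hzY).toEquiv, Nat.card_zpowers, hσo]
  have hpA : IsPGroup 2 ((Subgroup.zpowers σ).subgroupOf Y) := IsPGroup.of_card hcardA
  have hidx : ¬ 2 ∣ ((Subgroup.zpowers σ).subgroupOf Y).index := by
    have h1 := Subgroup.card_mul_index ((Subgroup.zpowers σ).subgroupOf Y)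
    rw [hcardA, hcardY, mul_comm] at h1
    have h2 : ((Subgroup.zpowers σ).subgroupOf Y).index = Nat.card N :=
      Nat.eq_of_mul_eq_mul_right (by positivity) h1
    rw [h2, ← even_iff_two_dvd, Nat.not_even_iff_odd]
    exact hNodd
  set A : Sylow 2 ↥Y := hpA.toSylow hidx with hA
  -- conjugate the 2-part into `⟨σ⟩`
  have hka : orderOf (⟨g ^ a, hgaY⟩ : ↥Y) = 2 ^ k := by
    rw [← hk]
    exact Subgroup.orderOf_mk (g ^ a) hgaY
  obtain ⟨u, hu⟩ := exists_conj_mem_sylow A ⟨g ^ a, hgaY⟩ k hka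
  have hu' : (u : X) * g ^ a * (u : X)⁻¹ ∈ Subgroup.zpowers σ := by
    have : u * ⟨g ^ a, hgaY⟩ * u⁻¹ ∈ (Subgroup.zpowers σ).subgroupOf Y := hu
    rw [Subgroup.mem_subgroupOf] at this
    simpa using this
  obtain ⟨t, ht⟩ := Subgroup.mem_zpowers_iff.mp hu'
  -- `σ^t = σ^l`
  obtain ⟨i, hi⟩ := hrotY u u.2
  have hκt : κ (σ ^ t) = κ (σ ^ l) := by
    rw [ht, map_mul, map_mul, map_inv, hκa, hi, map_pow, hκσ, r_one_pow]
    rw [r_mul_r, inv_r, r_mul_r]
    congr 1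
    ring
  have htl : σ ^ t = σ ^ l := by
    have h1 : κ (σ ^ (t - (l : ℤ))) = 1 := by
      rw [zpow_sub, map_mul, map_inv, zpow_natCast, hκt, mul_inv_cancel]
    have h2 := hinj _ h1
    rw [zpow_sub, zpow_natCast, mul_inv_eq_one] at h2
    exact h2
  refine ⟨(u : X), (u : X) * g ^ b * (u : X)⁻¹, ?_, ?_, ?_⟩
  · -- commutation
    rw [← htl, ht]
    show (u : X) * g ^ a * (u : X)⁻¹ * ((u : X) * g ^ b * (u : X)⁻¹) =
      (u : X) * g ^ b * (u : X)⁻¹ * ((u : X) * g ^ a * (u : X)⁻¹)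
    have h1 : g ^ a * g ^ b = g ^ b * g ^ a := hcomm
    calc (u : X) * g ^ a * (u : X)⁻¹ * ((u : X) * g ^ b * (u : X)⁻¹)
        = (u : X) * (g ^ a * g ^ b) * (u : X)⁻¹ := by group
      _ = (u : X) * (g ^ b * g ^ a) * (u : X)⁻¹ := by rw [h1]
      _ = _ := by group
  · have h1 : orderOf ((u : X) * g ^ b * (u : X)⁻¹) = orderOf (g ^ b) := by
      have := orderOf_injective (MulAut.conj (u : X)).toMonoidHom (MulAut.conj (u : X)).injective (g ^ b)
      simpa using this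
    rw [h1]
    exact hodd
  · rw [← htl, ht]
    conv_lhs => rw [hab]
    group

end Cfsg.Agent.Lib.Helper14.BOFLROT
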