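import Mathlib
import Cfsg.Agent.Lib.Helper6.CharExtra
import Cfsg.Agent.Lib.Helper6.Clifford
import Cfsg.Agent.Lib.Helper6.CentralHom
import Cfsg.Agent.Lib.Helper8.BQVANISH
import Cfsg.Agent.Lib.Helper24.MultA
import Cfsg.Agent.Lib.Helper24.IrrFacts

/-!
helper14: BQ-PRIMEDEG (S4501 market, planner helper4): a non-abelian simple group with an irreducible
character of prime degree `r` has Sylow `r`-subgroups of order `r`.

Route: `χ|_R = ∑ m_ζ ζ` with `ζ(1)` powers of `r` summing to `r`: either a single `ζ` of degree `r`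
(then `|χ(w)| = r` on `Z(R)`, against Burnside's vanishing) or all `ζ` linear (then `χ([x,y]) = χ(1)`,
`[x,y] = 1`, `R` abelian and helper8's (V) applies).
-/

set_option autoImplicit false

namespace Cfsg.Agent.Lib.Helper14.BQPRIMEDEG

open Cfsg Cfsg.Agent.CharLib Cfsg.Agent.Lib.Helper6 Cfsg.Agent.Lib.Helper24 Representation Module

universe u

variable {G : Type u} [Group G] [Finite G]

/-- In a non-abelian simple group a non-trivial irreducible character never has `|χ(u)| = χ(1)` at `u ≠ 1`. -/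
theorem norm_ne_degree [IsSimpleGroup G] (hna : ∃ x y : G, x * y ≠ y * x) (χ : IrrCharacter G)
    (hχ : (χ : G → ℂ) ≠ fun _ => 1) (u : G) (hu1 : u ≠ 1) :
    ‖(χ : G → ℂ) u‖ ≠ (charDegree (χ : G → ℂ) : ℝ) := by
  classical
  intro hnorm0
  obtain ⟨n, ρ, hirr, hρ⟩ := χ.2
  have := hirr
  have hχ1 : (χ : G → ℂ) 1 = n := by rw [← hρ]; simp
  have hfr : finrank ℂ (Fin n → ℂ) = n := by simp
  have hdeg : charDegree (χ : G → ℂ) = n := by
    have := Cfsg.Agent.Lib.Helper24.irr_apply_one χ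
    rw [hχ1] at this
    exact_mod_cast this.symm
  have hnorm : ‖ρ.character u‖ = (finrank ℂ (Fin n → ℂ) : ℝ) := by
    rw [hρ, hnorm0, hdeg, hfr]
  obtain ⟨ω, hω⟩ := exists_scalar_of_norm_char_eq ρ u hnorm
  have hker : (ρ : G →* (Module.End ℂ (Fin n → ℂ))).ker = ⊥ ∨ (ρ : G →* _).ker = ⊤ :=
    (MonoidHom.normal_ker _).eq_bot_or_eq_top
  rcases hker with hbot | htop
  · have hcent : u ∈ Subgroup.center G := by
      rw [Subgroup.mem_center_iff]
      intro h
      have h1 : ρ (h * u) = ρ (u * h) := by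
        rw [map_mul, map_mul, hω]
        ext v
        simp
      have h2 : h * u * (u * h)⁻¹ ∈ (ρ : G →* _).ker := by
        rw [MonoidHom.mem_ker, map_mul, h1, ← map_mul, mul_inv_cancel, map_one]
      rw [hbot, Subgroup.mem_bot] at h2
      exact mul_inv_eq_one.mp h2
    have hZ : Subgroup.center G = ⊤ :=
      ((inferInstance : (Subgroup.center G).Normal).eq_bot_or_eq_top).resolve_left (by
        intro h; rw [h] at hcent; exact hu1 (Subgroup.mem_bot.mp hcent))
    obtain ⟨a, b, hab⟩ := hna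
    apply hab
    have : a ∈ Subgroup.center G := by rw [hZ]; trivial
    exact (Subgroup.mem_center_iff.mp this b).symm
  · apply hχ
    have hall : ∀ x, ρ x = 1 := by
      intro x
      have : x ∈ (ρ : G →* _).ker := by rw [htop]; trivial
      exact MonoidHom.mem_ker.mp this
    have hn1 : n = 1 := by
      have := finrank_eq_one_of_forall_eq_one ρ hall
      rw [hfr] at this; exact this
    rw [← hρ]
    funext x
    simp only [Representation.character, hall x]
    rw [show (1 : Module.End ℂ (Fin n → ℂ)) = LinearMap.id from rfl, LinearMap.trace_id, hfr, hn1]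
    simp

/-- BQ-PRIMEDEG. -/
theorem card_sylow_of_prime_degree [IsSimpleGroup G] (hna : ∃ x y : G, x * y ≠ y * x) (r : ℕ) [Fact r.Prime]
    (R : Sylow r G) (χ : IrrCharacter G) (hdeg : charDegree (χ : G → ℂ) = r) :
    Nat.card (R : Subgroup G) = r := by
  classical
  have hr : r.Prime := Fact.out
  have hχ1 : (χ : G → ℂ) 1 = (r : ℂ) := by rw [irr_apply_one, hdeg]
  have hχ : (χ : G → ℂ) ≠ fun _ => 1 := by
    intro h
    have h1 := congrFun h 1
    rw [hχ1] at h1
    have h2 : r = 1 := by exact_mod_cast h1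
    exact hr.one_lt.ne' h2
  suffices hab : ∀ x ∈ (R : Subgroup G), ∀ y ∈ (R : Subgroup G), x * y = y * x by
    have h := Cfsg.Agent.Lib.Helper8.BQVANISH.degree_eq_card_sylow_of_abelian hna r R hab χ hχ 1
      (by rw [hdeg, pow_one])
    rw [pow_one] at h
    exact h.symm
  have : Fintype G := Fintype.ofFinite G
  have : Fintype (R : Subgroup G) := Fintype.ofFinite _
  let _ := fintypeIrr (R : Subgroup G)
  obtain ⟨m, hm, -⟩ := IsCharacter.exists_decomp_sum
    (isCharacter_resFun (R : Subgroup G) (IsIrrCharacter.isCharacter χ.2))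
  have hval : ∀ g : (R : Subgroup G), (χ : G → ℂ) (g : G) =
      ∑ ζ : IrrCharacter (R : Subgroup G), (m ζ : ℂ) * (ζ : ↥(R : Subgroup G) → ℂ) g := by
    intro g
    have h := congrFun hm g
    rw [resFun_apply] at h
    rw [h, Finset.sum_apply]
    apply Finset.sum_congr rfl
    intro ζ _
    simp [nsmul_eq_mul]
  have hdegsum : r = ∑ ζ : IrrCharacter (R : Subgroup G), m ζ * charDegree (ζ : ↥(R : Subgroup G) → ℂ) := by
    have h := hval 1
    rw [show (((1 : (R : Subgroup G)) : G)) = 1 from rfl, hχ1] at h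
    simp only [irr_apply_one] at h
    exact_mod_cast h
  have hdeg_dvd : ∀ ζ : IrrCharacter (R : Subgroup G),
      charDegree (ζ : ↥(R : Subgroup G) → ℂ) = 1 ∨ r ∣ charDegree (ζ : ↥(R : Subgroup G) → ℂ) := by
    intro ζ
    have h1 : charDegree (ζ : ↥(R : Subgroup G) → ℂ) ∣ r ^ (Nat.card G).factorization r := by
      rw [← R.card_eq_multiplicity]
      exact irr_charDegree_dvd_card ζ
    obtain ⟨j, -, hj2⟩ := (Nat.dvd_prime_pow hr).mp h1
    rcases Nat.eq_zero_or_pos j with h0 | hpos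
    · left; rw [hj2, h0, pow_zero]
    · right; rw [hj2]; exact dvd_pow_self r hpos.ne'
  by_cases hlin : ∀ ζ : IrrCharacter (R : Subgroup G), m ζ ≠ 0 →
      charDegree (ζ : ↥(R : Subgroup G) → ℂ) = 1
  · intro x hx y hy
    set c : (R : Subgroup G) := ⟨x, hx⟩ * ⟨y, hy⟩ * ⟨x, hx⟩⁻¹ * ⟨y, hy⟩⁻¹ with hc
    have hχc : (χ : G → ℂ) (c : G) = (r : ℂ) := by
      rw [hval c, ← hχ1, show (1 : G) = (((1 : (R : Subgroup G)) : G)) from rfl, hval 1]
      apply Finset.sum_congr rfl
      intro ζ _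
      by_cases hmz : m ζ = 0
      · simp [hmz]
      · have hζ1 : (ζ : ↥(R : Subgroup G) → ℂ) 1 = 1 := by rw [irr_apply_one, hlin ζ hmz]; simp
        congr 1
        have e1 : (ζ : ↥(R : Subgroup G) → ℂ) ⟨x, hx⟩ * (ζ : ↥(R : Subgroup G) → ℂ) (⟨x, hx⟩⁻¹) = 1 := by
          rw [← Mult.lin_mul ζ hζ1, mul_inv_cancel, hζ1]
        have e2 : (ζ : ↥(R : Subgroup G) → ℂ) ⟨y, hy⟩ * (ζ : ↥(R : Subgroup G) → ℂ) (⟨y, hy⟩⁻¹) = 1 := by
          rw [← Mult.lin_mul ζ hζ1, mul_inv_cancel, hζ1]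
        rw [hc, Mult.lin_mul ζ hζ1, Mult.lin_mul ζ hζ1, Mult.lin_mul ζ hζ1, hζ1]
        calc _ = ((ζ : ↥(R : Subgroup G) → ℂ) ⟨x, hx⟩ * (ζ : ↥(R : Subgroup G) → ℂ) (⟨x, hx⟩⁻¹)) *
              ((ζ : ↥(R : Subgroup G) → ℂ) ⟨y, hy⟩ * (ζ : ↥(R : Subgroup G) → ℂ) (⟨y, hy⟩⁻¹)) := by ring
          _ = 1 := by rw [e1, e2, mul_one]
    by_contra hne
    have hc1 : (c : G) ≠ 1 := by
      intro h
      apply hne
      have h' : x * y * x⁻¹ * y⁻¹ = 1 := h
      calc x * y = (x * y * x⁻¹ * y⁻¹) * (y * x) := by group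
        _ = y * x := by rw [h', one_mul]
    apply norm_ne_degree hna χ hχ (c : G) hc1
    rw [hχc, hdeg]
    simp
  · exfalso
    push Not at hlin
    obtain ⟨ζ₀, hm0, hd0⟩ := hlin
    obtain ⟨t, ht⟩ := (hdeg_dvd ζ₀).resolve_left hd0
    have hsplit := (Finset.add_sum_erase Finset.univ
      (fun ζ : IrrCharacter (R : Subgroup G) => m ζ * charDegree (ζ : ↥(R : Subgroup G) → ℂ))
      (Finset.mem_univ ζ₀))
    rw [← hdegsum] at hsplit
    have hm1 : 1 ≤ m ζ₀ := Nat.one_le_iff_ne_zero.mpr hm0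
    have ht1 : 1 ≤ t := by
      rcases Nat.eq_zero_or_pos t with h0 | h
      · exfalso
        have := irr_charDegree_pos ζ₀
        rw [ht, h0, mul_zero] at this
        exact lt_irrefl _ this
      · exact h
    have hge : r ≤ m ζ₀ * charDegree (ζ₀ : ↥(R : Subgroup G) → ℂ) := by
      rw [ht]
      calc r = 1 * (r * 1) := by ring
        _ ≤ m ζ₀ * (r * t) := Nat.mul_le_mul hm1 (Nat.mul_le_mul_left r ht1)
    have hrest : ∑ ζ ∈ Finset.univ.erase ζ₀,
        m ζ * charDegree (ζ : ↥(R : Subgroup G) → ℂ) = 0 := by omega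
    have hmain : m ζ₀ * charDegree (ζ₀ : ↥(R : Subgroup G) → ℂ) = r := by omega
    have hm_other : ∀ ζ : IrrCharacter (R : Subgroup G), ζ ≠ ζ₀ → m ζ = 0 := by
      intro ζ hζ
      have h := (Finset.sum_eq_zero_iff.mp hrest) ζ (Finset.mem_erase.mpr ⟨hζ, Finset.mem_univ ζ⟩)
      rcases Nat.mul_eq_zero.mp h with h | h
      · exact h
      · exact absurd h (irr_charDegree_pos ζ).ne'
    have hχζ : ∀ g : (R : Subgroup G), (χ : G → ℂ) (g : G) =
        (m ζ₀ : ℂ) * (ζ₀ : ↥(R : Subgroup G) → ℂ) g := by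
      intro g
      rw [hval g, Finset.sum_eq_single ζ₀]
      · intro ζ _ hζ
        rw [hm_other ζ hζ]; simp
      · intro h; exact absurd (Finset.mem_univ _) h
    -- the centre of `R` is non-trivial
    have hrG : r ∣ Nat.card G := hdeg ▸ irr_charDegree_dvd_card χ
    have hRnt : Nontrivial (R : Subgroup G) := by
      rw [← Finite.one_lt_card_iff_nontrivial, R.card_eq_multiplicity]
      have h1 : 1 ≤ (Nat.card G).factorization r :=
        (hr.pow_dvd_iff_le_factorization Nat.card_pos.ne').mp (by rw [pow_one]; exact hrG)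
      calc 1 < r := hr.one_lt
        _ = r ^ 1 := (pow_one r).symm
        _ ≤ r ^ (Nat.card G).factorization r := Nat.pow_le_pow_right hr.pos h1
    have hZnt : Nontrivial (Subgroup.center (R : Subgroup G)) := R.isPGroup'.center_nontrivial
    obtain ⟨w, hw⟩ := exists_ne (1 : Subgroup.center (R : Subgroup G))
    have hw1 : (((w : (R : Subgroup G)) : G)) ≠ 1 := by
      intro h
      apply hw
      apply Subtype.ext
      apply Subtype.ext
      exact h
    have hvan : (χ : G → ℂ) (((w : (R : Subgroup G)) : G)) = 0 := by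
      apply Cfsg.Agent.Lib.Helper8.BQVANISH.irr_eq_zero_of_coprime_class hna χ hχ _ hw1
      rw [hdeg, hr.coprime_iff_not_dvd]
      intro hd
      have hle : (R : Subgroup G) ≤ Subgroup.centralizer ({((w : (R : Subgroup G)) : G)} : Set G) := by
        intro y hy
        rw [Subgroup.mem_centralizer_iff]
        intro z hz
        rw [Set.mem_singleton_iff] at hz
        subst hz
        have h := Subgroup.mem_center_iff.mp w.2 ⟨y, hy⟩
        exact (congrArg Subtype.val h).symm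
      exact R.not_dvd_index (dvd_trans hd (Subgroup.index_dvd_of_le hle))
    obtain ⟨cz, hcz, hcn⟩ := IsIrrCharacter.exists_central_hom ζ₀.2
    have h1 := hχζ (w : (R : Subgroup G))
    rw [hvan] at h1
    have h2 : (ζ₀ : ↥(R : Subgroup G) → ℂ) (w : (R : Subgroup G)) =
        cz w * (ζ₀ : ↥(R : Subgroup G) → ℂ) 1 := by
      have := hcz w 1
      rwa [mul_one] at this
    rw [h2] at h1
    have h3 : cz w ≠ 0 := by
      intro h
      have := hcn w
      rw [h, norm_zero] at this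
      exact zero_ne_one this
    have h4 : (m ζ₀ : ℂ) ≠ 0 := by exact_mod_cast hm0
    have h5 : (ζ₀ : ↥(R : Subgroup G) → ℂ) 1 ≠ 0 := irr_apply_one_ne_zero ζ₀
    exact (mul_ne_zero h4 (mul_ne_zero h3 h5)) h1.symm

end Cfsg.Agent.Lib.Helper14.BQPRIMEDEG
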