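/-
helper14: S4504 support (planner helper13), step (III): EASYX of S4503 Part E with the weak hypothesis
`2 χ(1) + 1 ≤ p` (same proof as `Helper14.BREEASYX.false_of_const_row`).
-/
import Mathlib
import Cfsg.Prelude.Def_BlockRank
import Cfsg.Agent.Lib.Helper27.DODefs
import Cfsg.Agent.Lib.Helper27.BlkAlgDefs2
import Cfsg.Agent.Lib.Helper9.DODEGX
import Cfsg.Agent.Lib.Helper9.DOVALX
import Cfsg.Agent.Lib.Helper24.IrrFacts
import Cfsg.Agent.Lib.Lead.CharBasic
import Cfsg.Agent.Lib.Helper14.BREEASYX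

set_option autoImplicit false

namespace Cfsg.Agent.Lib.Helper14.BREEASYX2

open Cfsg Cfsg.Agent.Lib.Helper8.DOM Cfsg.Agent.Lib.Helper27.DO Cfsg.Agent.Lib.Helper27.BlkAlg
open Cfsg.Agent.Lib.Helper9.DOBase Cfsg.Agent.Lib.Helper9.DODEG
open Cfsg.Agent.Lib.Helper14.BREEASYX
open scoped ComplexConjugate

universe u

section data

variable {G : Type u} [Group G] [Finite G] {p : ℕ} [Fact p.Prime] {M : Ideal AlgInt}
  {P : Subgroup G} {B : Set (IrrCharacter G)} {θ : IrrCharacter (Cz P)} {T : Subgroup G} {x0 : G}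
  {E : Subgroup (ZMod p)ˣ} {μ : IrrCharacter G → ZMod p → ℤ} {D : IrrCharacter G → G → ℂ}

/-- EASYX with `≤` : a faithful irreducible character of degree `≤ (p-1)/2` has no constant row. -/
theorem false_of_const_row_le (d : GSData p P B θ T x0 E μ D) (hP : Nat.card P = p)
    (hT : IsInertia P (θ : Cz P → ℂ) T) (χ : IrrCharacter G) (hχ : χ ∈ B) (v : ℤ)
    (hv1 : v = 1 ∨ v = -1) (hv : ∀ k : (ZMod p)ˣ, μ χ k - μ χ 0 = - v)
    (hfaith : ∀ g : G, (χ : G → ℂ) g = (χ : G → ℂ) 1 → g = 1)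
    (hdeg : 2 * charDegree (χ : G → ℂ) + 1 ≤ p) : False := by
  classical
  haveI : Fintype (Nz P) := Fintype.ofFinite _
  have hp : p.Prime := Fact.out
  obtain ⟨hCT, hTN⟩ := Cfsg.Agent.Lib.Helper16.DOINERT.le_of_isInertia P θ T hT
  set r := T.relIndex (Nz P) with hr
  have hrpos : 0 < r := Nat.pos_of_ne_zero (relIndex_ne_zero' _ _)
  have hcard : Nat.card (Nz P) = r * Nat.card T := card_eq_relIndex_mul hTN
  have hquot : (Cz P).relIndex (Nz P) / (Cz P).relIndex T = r := by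
    rw [← Subgroup.relIndex_mul_relIndex (Cz P) T (Nz P) hCT hTN]
    exact Nat.mul_div_cancel_left _ (Nat.pos_of_ne_zero (relIndex_ne_zero' _ _))
  have hT0 : (Nat.card T : ℂ) ≠ 0 := Nat.cast_ne_zero.mpr Nat.card_pos.ne'
  have hord := orderOf_x0 d hP
  have hx0P : x0 ∈ P := by rw [d.gen]; exact Subgroup.mem_zpowers x0
  have hx01 : x0 ≠ 1 := by
    intro h
    rw [h, orderOf_one] at hord
    exact hp.one_lt.ne hord
  set cθ := charDegree (θ : Cz P → ℂ) with hcθ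
  have hθpos : 0 < cθ := Cfsg.Agent.Lib.Helper24.irr_charDegree_pos θ
  -- the value at `x0`
  have hval : (χ : G → ℂ) x0 = (v : ℂ) * (r : ℂ) * (cθ : ℂ) := by
    rw [apply_of_mem d χ hχ x0 hx0P hx01]
    have : ∀ n : Nz P, D χ ((n : G) * x0 * (n : G)⁻¹) = (v : ℂ) := by
      intro n
      obtain ⟨h1, h2⟩ := conj_mem (n : G) n.2 x0 hx0P hx01
      exact Cfsg.Agent.Lib.Helper9.DOVALX.D_const d hP χ v hv _ h1 h2
    simp only [this, Finset.sum_const, Finset.card_univ, nsmul_eq_mul]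
    rw [← Nat.card_eq_fintype_card, hcard]
    push_cast
    field_simp
    rw [hcθ]
    ring
  -- the degree congruence
  have hcong := Cfsg.Agent.Lib.Helper9.DODEGX.degX_of_data d hP hT χ hχ v hv
  rw [hquot] at hcong
  -- the norm bound
  have hnorm := norm_apply_le χ x0
  have hle : r * cθ ≤ charDegree (χ : G → ℂ) := by
    rw [hval] at hnorm
    have hv' : ‖(v : ℂ)‖ = 1 := by
      rcases hv1 with h | h <;> rw [h] <;> simp
    rw [norm_mul, norm_mul, hv', one_mul, Complex.norm_natCast, Complex.norm_natCast] at hnorm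
    exact_mod_cast hnorm
  have hpos : 0 < r * cθ := Nat.mul_pos hrpos hθpos
  rcases hv1 with h | h
  · -- `v = 1`
    rw [h, one_mul] at hcong
    have hdvd : (p : ℤ) ∣ ((charDegree (χ : G → ℂ) : ℤ) - ((r * cθ : ℕ) : ℤ)) :=
      (Int.modEq_iff_dvd.mp hcong.symm)
    have hnn : (0 : ℤ) ≤ (charDegree (χ : G → ℂ) : ℤ) - ((r * cθ : ℕ) : ℤ) := by
      have : ((r * cθ : ℕ) : ℤ) ≤ (charDegree (χ : G → ℂ) : ℤ) := by exact_mod_cast hle
      linarith
    have hlt : (charDegree (χ : G → ℂ) : ℤ) - ((r * cθ : ℕ) : ℤ) < (p : ℤ) := by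
      have h1 : ((charDegree (χ : G → ℂ) : ℕ) : ℤ) < (p : ℤ) := by
        have : charDegree (χ : G → ℂ) < p := by omega
        exact_mod_cast this
      have h2 : (0 : ℤ) ≤ ((r * cθ : ℕ) : ℤ) := Int.natCast_nonneg _
      linarith
    have hzero : (charDegree (χ : G → ℂ) : ℤ) - ((r * cθ : ℕ) : ℤ) = 0 :=
      Int.eq_zero_of_dvd_of_nonneg_of_lt hnn hlt hdvd
    have heq : charDegree (χ : G → ℂ) = r * cθ := by
      have : (charDegree (χ : G → ℂ) : ℤ) = ((r * cθ : ℕ) : ℤ) := by linarith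
      exact_mod_cast this
    apply hx01
    apply hfaith
    rw [hval, h, Cfsg.Agent.Lib.Helper24.irr_apply_one, heq]
    push_cast
    ring
  · -- `v = -1`
    rw [h] at hcong
    have hdvd : (p : ℤ) ∣ ((charDegree (χ : G → ℂ) : ℤ) + ((r * cθ : ℕ) : ℤ)) := by
      have := Int.modEq_iff_dvd.mp hcong.symm
      have h3 : (charDegree (χ : G → ℂ) : ℤ) - -1 * ((r * cθ : ℕ) : ℤ) =
          (charDegree (χ : G → ℂ) : ℤ) + ((r * cθ : ℕ) : ℤ) := by ring
      rwa [h3] at this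
    have hpos' : (0 : ℤ) < (charDegree (χ : G → ℂ) : ℤ) + ((r * cθ : ℕ) : ℤ) := by
      have : (0 : ℤ) < ((r * cθ : ℕ) : ℤ) := by exact_mod_cast hpos
      have h2 : (0 : ℤ) ≤ (charDegree (χ : G → ℂ) : ℤ) := Int.natCast_nonneg _
      linarith
    have hlt : (charDegree (χ : G → ℂ) : ℤ) + ((r * cθ : ℕ) : ℤ) < (p : ℤ) := by
      have h1 : ((2 * charDegree (χ : G → ℂ) + 1 : ℕ) : ℤ) ≤ (p : ℤ) := by exact_mod_cast hdeg
      have h2 : ((r * cθ : ℕ) : ℤ) ≤ (charDegree (χ : G → ℂ) : ℤ) := by exact_mod_cast hle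
      push_cast at h1
      linarith
    have := Int.le_of_dvd hpos' hdvd
    linarith

end data

end Cfsg.Agent.Lib.Helper14.BREEASYX2
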