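/-
helper14: S4504 support (planner helper13), step (III) = Part E of S4503 under the weak hypothesis `2 ψ(1) + 1 ≤ p`,
with a rich seam: the exceptional family `ψs` of the block of `ψ`, its values on `P`, sign `+`, degree `f c`, no
`P`-fixed vectors, the `K`-norm bound.  (`Helper14.BRE.partE` is the thin version under `<`.)
-/
import Mathlib
import Cfsg.Prelude.Def_BlockRank
import Cfsg.Agent.Lib.Helper27.DODefs
import Cfsg.Agent.Lib.Helper27.BlkAlgDefs2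
import Cfsg.Agent.Lib.Helper14.BREData
import Cfsg.Agent.Lib.Helper14.BREDEFPOS
import Cfsg.Agent.Lib.Helper14.BREEASYX2
import Cfsg.Agent.Lib.Helper14.BREEASYY2
import Cfsg.Agent.Lib.Helper14.BREPSIREG
import Cfsg.Agent.Lib.Helper14.BRE
import Cfsg.Agent.Lib.Helper8.BRERESY
import Cfsg.Agent.Lib.Helper16.BREFONE
import Cfsg.Agent.Lib.Helper15.BRENOTRIV
import Cfsg.Agent.Lib.Helper15.BREPFIX
import Cfsg.Agent.Lib.Helper4.BREKNORM
import Cfsg.Agent.Lib.Helper16.DOSETUP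
import Cfsg.Agent.Lib.Helper24.IrrFacts
import Cfsg.Agent.Lib.Helper6.FirstMain

set_option autoImplicit false

namespace Cfsg.Agent.Lib.Helper14.BRE2

open Cfsg Cfsg.Agent.Lib.Helper8.DOM Cfsg.Agent.Lib.Helper27.DO Cfsg.Agent.Lib.Helper27.BlkAlg
open Cfsg.Agent.Lib.Helper14.BREDEFPOS Cfsg.Agent.Lib.Helper14.BREEASYX2 Cfsg.Agent.Lib.Helper14.BREPSIREG
open Cfsg.Agent.Lib.Helper8.BRERESY Cfsg.Agent.Lib.Helper16.BREFONE Cfsg.Agent.Lib.Helper15.BRENOTRIV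
open Cfsg.Agent.Lib.Helper15.BREPFIX Cfsg.Agent.Lib.Helper4.BREKNORM Cfsg.Agent.Lib.Helper14.BREEASYY2
open Cfsg.Agent.Lib.Helper14.BRE
open scoped ComplexConjugate

universe u

variable {G : Type u} [Group G] [Finite G] {p : ℕ} [Fact p.Prime] {M : Ideal AlgInt}

/-- PART E with `≤`, rich seam.  `f = |N_G(P) : C_G(P)|`, `F ≤ (ℤ/p)ˣ` the image of `N_G(P)`, `ψs` the exceptional
family of the block of `ψ` (all members agree with `ψ` on `p`-regular elements), `ψ = ψs i`, `ψ(1) = f c`. -/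
theorem partE_le (hM : IsPModular p M) (P : Subgroup G) (hP : Nat.card P = p) (hSyl : ¬ p ∣ P.index)
    (ψ : IrrCharacter G) (hfaith : ∀ g : G, (ψ : G → ℂ) g = (ψ : G → ℂ) 1 → g = 1)
    (hdeg : 2 * charDegree (ψ : G → ℂ) + 1 ≤ p) (hnn : ¬ P.Normal) :
    ∃ (x0 : G) (F : Subgroup (ZMod p)ˣ) (c : ℕ) (ψs : (ZMod p)ˣ → IrrCharacter G) (i : (ZMod p)ˣ),
      P = Subgroup.zpowers x0 ∧
      (∀ u : (ZMod p)ˣ, u ∈ F ↔ ∃ n ∈ Nz P, n * x0 * n⁻¹ = x0 ^ (u : ZMod p).val) ∧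
      Nat.card F = (Cz P).relIndex (Nz P) ∧
      0 < c ∧
      ψs i = ψ ∧
      charDegree (ψ : G → ℂ) = (Cz P).relIndex (Nz P) * c ∧
      (∀ (i' : (ZMod p)ˣ) (j : ℕ), ¬ p ∣ j → (ψs i' : G → ℂ) (x0 ^ j) = (c : ℂ) *
        ∑ᶠ w ∈ (F : Set (ZMod p)ˣ), zetaP p ^ (((w : ZMod p) * (i' : ZMod p)).val * j)) ∧
      (∀ (i' : (ZMod p)ˣ) (g : G), ¬ p ∣ orderOf g → (ψs i' : G → ℂ) g = (ψ : G → ℂ) g) ∧
      (∀ i' i'' : (ZMod p)ˣ, i'' * i'⁻¹ ∉ F →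
        ∑ᶠ x ∈ (P : Set G), (ψs i' : G → ℂ) x * conj ((ψs i'' : G → ℂ) x) = 0) ∧
      (∑ᶠ x ∈ (P : Set G), (ψ : G → ℂ) x = 0) ∧
      2 ≤ (Cz P).relIndex (Nz P) ∧
      (Cz P).relIndex (Nz P) < p - 1 ∧
      (p : ℝ) * ∑ᶠ y ∈ {y : G | y ∈ Cz P ∧ ¬ p ∣ orderOf y}, Complex.normSq ((ψ : G → ℂ) y) ≤
        ((Cz P).relIndex (Nz P) : ℝ) ^ 2 * (Nat.card (Cz P) : ℝ) := by
  classical
  have hp : p.Prime := Fact.out
  have hMmax : M.IsMaximal := hM.2.1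
  have hMprime : M.IsPrime := hMmax.isPrime
  obtain ⟨x0, hx0⟩ := Cfsg.Agent.Lib.Helper8.DOFULL.exists_gen P hP
  have hord : orderOf x0 = p := by rw [← hP, hx0, Nat.card_zpowers]
  have hdiv : p ∣ Nat.card G := by
    rw [← hP]
    exact Subgroup.card_subgroup_dvd_card P
  have hψpos := Cfsg.Agent.Lib.Helper24.irr_charDegree_pos ψ
  have hndvd : ¬ p ∣ charDegree (ψ : G → ℂ) := by
    intro h
    have := Nat.le_of_dvd hψpos h
    omega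
  -- the block of `ψ` and its data
  set B : Set (IrrCharacter G) := blockOf M (ψ : G → ℂ) with hBdef
  have hB : IsPBlock M B := ⟨ψ, rfl⟩
  have hd : 0 < blockDefect p B := blockDefect_pos_of_not_dvd hM hdiv ψ hndvd
  obtain ⟨θ, T, E, c, d, hcard⟩ :=
    Cfsg.Agent.Lib.Helper14.BREData.exists_data hM P hP hSyl x0 hx0 B hB hd
  obtain ⟨X, ψs, v, ε, hBeq, hdisj, hXcard, hψiff, hε, hXrow, hYrow, hrel⟩ :=
    Cfsg.Agent.Lib.Helper8.DOSHAPE.shape_of_data d hcard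
  have hψB : ψ ∈ B := Cfsg.Agent.Lib.Helper6.mem_blockOf_self ψ
  have hT := c.hT
  -- `ψ` is exceptional
  have hψY : ψ ∈ Set.range ψs := by
    rw [hBeq] at hψB
    rcases hψB with h | h
    · exfalso
      obtain ⟨hv1, hv⟩ := hXrow ψ h
      exact false_of_const_row_le d hP hT ψ (by rw [hBeq]; exact Or.inl h) (v ψ) hv1 hv hfaith hdeg
    · exact h
  obtain ⟨i, hi⟩ := hψY
  have hrange : ∀ i', ψs i' ∈ B := by
    intro i'
    rw [hBeq]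
    exact Or.inr ⟨i', rfl⟩
  -- the image `F` of `N` in `(ℤ/p)ˣ`
  obtain ⟨hCT, hTN⟩ := Cfsg.Agent.Lib.Helper16.DOINERT.le_of_isInertia P θ T hT
  have hCN : Cz P ≤ Nz P := le_trans hCT hTN
  obtain ⟨F, hF, hFcard⟩ := Cfsg.Agent.Lib.Helper16.DOSETUP.exists_E P hP x0 hx0 (Nz P) hCN le_rfl
  set f := (Cz P).relIndex (Nz P) with hf
  have hθpos := Cfsg.Agent.Lib.Helper24.irr_charDegree_pos θ
  set cθ := charDegree (θ : Cz P → ℂ) with hcθ
  -- values on `P`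
  have hval : ∀ i' : (ZMod p)ˣ, ∀ j : ℕ, ¬ p ∣ j → (ψs i' : G → ℂ) (x0 ^ j) = (ε : ℂ) * (cθ : ℂ) *
      ∑ᶠ w ∈ (F : Set (ZMod p)ˣ), zetaP p ^ (((w : ZMod p) * (i' : ZMod p)).val * j) :=
    fun i' j hj => apply_pow_of_row d hP hT F hF (ψs i') (hrange i') i' ε (hYrow i') j hj
  have hfaith' : ∀ g : G, (ψs i : G → ℂ) g = (ψs i : G → ℂ) 1 → g = 1 := by rw [hi]; exact hfaith
  have hdeg' : 2 * charDegree (ψs i : G → ℂ) + 1 ≤ p := by rw [hi]; exact hdeg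
  obtain ⟨hε1, hdegeq, hsum0⟩ := sign_degree_of_values_le (ψs i) P x0 hx0 hord F i ε hε cθ hθpos
    (hval i) hfaith' hdeg'
  rw [hi] at hdegeq hsum0
  rw [hFcard] at hdegeq
  -- `f ≥ 2`
  have hfpos : 0 < f := by
    rw [← hFcard]
    exact Nat.card_pos
  have hf2 : 2 ≤ f := by
    by_contra hlt
    have hf1 : Nat.card F = 1 := by rw [hFcard]; omega
    apply hnn
    refine normal_of_card_eq_one (ψs i) P x0 hx0 hord F hf1 i ε hε cθ (hval i) ?_ hfaith'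
    rw [hi, hdegeq, hFcard]
  have hfle : f ≤ charDegree (ψ : G → ℂ) := by
    rw [hdegeq]
    exact Nat.le_mul_of_pos_right f hθpos
  have hflt : f < p - 1 := by omega
  have hεne : (ε : ℂ) ≠ 0 := by
    rcases hε with h | h <;> rw [h] <;> norm_num
  have hreg : ∀ (i' : (ZMod p)ˣ) (g : G), ¬ p ∣ orderOf g → (ψs i' : G → ℂ) g = (ψ : G → ℂ) g := by
    intro i' g hg
    have h1 := hrel i g hg
    have h2 := hrel i' g hg
    rw [← h2, hi] at h1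
    exact (mul_left_cancel₀ hεne h1).symm
  have hone : ¬ p ∣ orderOf (1 : G) := by
    rw [orderOf_one]
    exact hp.one_lt.ne' ∘ Nat.dvd_one.mp
  have hψ1 : (ψ : G → ℂ) 1 = ((Nat.card F * cθ : ℕ) : ℂ) := by
    rw [Cfsg.Agent.Lib.Helper24.irr_apply_one, hdegeq, hFcard]
  have hψs1 : ∀ i' : (ZMod p)ˣ, (ψs i' : G → ℂ) 1 = ((Nat.card F * cθ : ℕ) : ℂ) := by
    intro i'
    rw [hreg i' 1 hone, hψ1]
  have hnotriv : ∀ i' i'' : (ZMod p)ˣ, i'' * i'⁻¹ ∉ F →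
      ∑ᶠ x ∈ (P : Set G), (ψs i' : G → ℂ) x * conj ((ψs i'' : G → ℂ) x) = 0 := by
    intro i' i'' hii'
    exact sum_mul_conj_eq_zero P x0 hx0 hord F i' i'' hii' ε hε cθ (ψs i' : G → ℂ) (ψs i'' : G → ℂ)
      (hval i') (hval i'') (hψs1 i') (hψs1 i'')
  -- the norm on the `p`-regular part of `C`
  have hψchar : IsCharacter G (ψ : G → ℂ) := Cfsg.Agent.CharLib.IsIrrCharacter.isCharacter ψ.2
  have hvalreg : ∀ y ∈ {y : G | y ∈ Cz P ∧ ¬ p ∣ orderOf y},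
      Complex.normSq ((ψ : G → ℂ) y) =
        (Nat.card E : ℝ) ^ 2 * Complex.normSq (thetaSum P (θ : Cz P → ℂ) T y) := by
    rintro y ⟨hy, hyreg⟩
    have hfix := sum_mul_eq_zero_of_sum_eq_zero (ψ : G → ℂ) hψchar P hsum0 y hy
    have h1 := apply_reg_of_row d hP hT (ψs i) (hrange i) i ε (hYrow i) y hy hyreg
      (by rw [hi]; exact hfix)
    rw [hi] at h1
    rw [h1, hε1, Complex.normSq_mul, Complex.normSq_mul]
    simp [Complex.normSq_natCast, sq]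
  have hknorm := sum_normSq_thetaSum_le P hP hSyl θ c.hθP T hT
  have hmul : (Cz P).relIndex T * T.relIndex (Nz P) = f :=
    Subgroup.relIndex_mul_relIndex (Cz P) T (Nz P) hCT hTN
  refine ⟨x0, F, cθ, ψs, i, hx0, hF, hFcard, hθpos, hi, hdegeq, ?_, hreg, hnotriv, hsum0, hf2, hflt, ?_⟩
  · intro i' j hj
    rw [hval i' j hj, hε1]
    push_cast
    ring
  rw [finsum_mem_congr rfl hvalreg, ← mul_finsum_mem]
  · have hE : (Nat.card E : ℝ) = ((Cz P).relIndex T : ℝ) := by rw [d.cardE]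
    have hfR : (f : ℝ) = ((Cz P).relIndex T : ℝ) * (T.relIndex (Nz P) : ℝ) := by
      rw [← hmul]; push_cast; ring
    rw [hfR, hE]
    have h0 : (0 : ℝ) ≤ ((Cz P).relIndex T : ℝ) ^ 2 := by positivity
    calc (p : ℝ) * (((Cz P).relIndex T : ℝ) ^ 2 *
          ∑ᶠ y ∈ {y : G | y ∈ Cz P ∧ ¬ p ∣ orderOf y},
            Complex.normSq (thetaSum P (θ : Cz P → ℂ) T y))
        = ((Cz P).relIndex T : ℝ) ^ 2 * ((p : ℝ) *
          ∑ᶠ y ∈ {y : G | y ∈ Cz P ∧ ¬ p ∣ orderOf y},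
            Complex.normSq (thetaSum P (θ : Cz P → ℂ) T y)) := by ring
      _ ≤ ((Cz P).relIndex T : ℝ) ^ 2 *
          ((T.relIndex (Nz P) : ℝ) ^ 2 * (Nat.card (Cz P) : ℝ)) :=
        mul_le_mul_of_nonneg_left hknorm h0
      _ = (((Cz P).relIndex T : ℝ) * (T.relIndex (Nz P) : ℝ)) ^ 2 * (Nat.card (Cz P) : ℝ) := by ring

end Cfsg.Agent.Lib.Helper14.BRE2
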