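/-
helper14: S4504 (planner helper13), inputs of the Layer-A spine: `SmallForm p` (= S4503) and `EBound p`
(`|N_G(P) : C_G(P)| ≤ ψ(1)`, from Part E under `≤`).
-/
import Mathlib
import Cfsg.Agent.Lib.Helper13.BRPDefs
import Cfsg.Agent.Lib.Helper14.BRCore
import Cfsg.Agent.Lib.Helper14.BRE2
import Cfsg.Agent.Lib.Helper6.Knoerr

set_option autoImplicit false

namespace Cfsg.Agent.Lib.Helper14.BRP4

open Cfsg Cfsg.Agent.Lib.Helper8.DOM Cfsg.Agent.Lib.Helper27.DO Cfsg.Agent.Lib.Helper13.BRP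

universe u

/-- S4503 in `Small` form. -/
theorem smallForm (p : ℕ) (hp : p.Prime) : SmallForm.{u} p := by
  intro H _ _ hS Q
  have : Fact p.Prime := ⟨hp⟩
  exact Cfsg.Agent.Lib.Helper21.S4503R.sylow_normal_of_small
    (Cfsg.Agent.Lib.Helper14.BRCore.core p hp) (Nat.card H) H rfl hS Q

/-- the bound `f ≤ ψ(1)` of Part E in the equality case. -/
theorem ebound (p : ℕ) (hp : p.Prime) : EBound.{u} p := by
  intro G _ _ hdiv hsq P hnn ψ hfaith hdeg
  have : Fact p.Prime := ⟨hp⟩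
  obtain ⟨M, hM⟩ := Cfsg.Agent.Lib.Helper6.exists_isPModular p
  have hP : Nat.card (P : Subgroup G) = p := Cfsg.Agent.Lib.Helper21.S4503R.card_sylow_eq hdiv hsq P
  have hSyl : ¬ p ∣ (P : Subgroup G).index := P.not_dvd_index
  obtain ⟨x0, F, c, ψs, i, -, -, -, hc, -, hdegeq, -⟩ :=
    Cfsg.Agent.Lib.Helper14.BRE2.partE_le hM (P : Subgroup G) hP hSyl ψ hfaith (le_of_eq hdeg) hnn
  rw [hdegeq]
  exact Nat.le_mul_of_pos_right _ hc

end Cfsg.Agent.Lib.Helper14.BRP4
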