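/-
helper14: S4504 (planner helper13), the data of the CORE after Part E under `≤` (helper14 `BRE2.partE_le`) and Part H
under `≤` (helper6 `BRHLe.partH_le`): `f = ψ(1) = (p-1)/2`, `c = 1`, the exceptional family `ψs` with its values on `P`,
a twist `k ∉ F`.
-/
import Mathlib
import Cfsg.Agent.Lib.Helper13.BRPDefs
import Cfsg.Agent.Lib.Helper14.BRE2
import Cfsg.Agent.Lib.Helper6.Knoerr
import Cfsg.Agent.Lib.Helper6.BRHLe

set_option autoImplicit false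

namespace Cfsg.Agent.Lib.Helper14.BRP4Data

open Cfsg Cfsg.Agent.Lib.Helper8.DOM Cfsg.Agent.Lib.Helper27.DO Cfsg.Agent.Lib.Helper13.BRP
open scoped ComplexConjugate

universe u

/-- the data of the CORE after Parts E and H (under `≤`): `f = ψ(1) = (p-1)/2`, the exceptional family, the twist. -/
theorem core_data {G : Type u} [Group G] [Finite G] {p : ℕ} [Fact p.Prime] {M : Ideal AlgInt}
    (hM : IsPModular p M) (P : Subgroup G) (hP : Nat.card P = p) (hSyl : ¬ p ∣ P.index)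
    (hcl : Subgroup.normalClosure (P : Set G) = ⊤) (hnn : ¬ P.Normal)
    (ψ : IrrCharacter G) (hfaith : ∀ g : G, (ψ : G → ℂ) g = (ψ : G → ℂ) 1 → g = 1)
    (hdeg : 2 * charDegree (ψ : G → ℂ) + 1 = p) :
    ∃ (x0 : G) (F : Subgroup (ZMod p)ˣ) (ψs : (ZMod p)ˣ → IrrCharacter G) (i k : (ZMod p)ˣ),
      P = Subgroup.zpowers x0 ∧
      (∀ u : (ZMod p)ˣ, u ∈ F ↔ ∃ n ∈ Nz P, n * x0 * n⁻¹ = x0 ^ (u : ZMod p).val) ∧
      Nat.card F = (Cz P).relIndex (Nz P) ∧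
      ψs i = ψ ∧ k ∉ F ∧
      2 * (Cz P).relIndex (Nz P) = p - 1 ∧
      charDegree (ψ : G → ℂ) = (Cz P).relIndex (Nz P) ∧
      2 ≤ (Cz P).relIndex (Nz P) ∧
      (∀ (i' : (ZMod p)ˣ) (j : ℕ), ¬ p ∣ j → (ψs i' : G → ℂ) (x0 ^ j) =
        ∑ᶠ w ∈ (F : Set (ZMod p)ˣ), zetaP p ^ (((w : ZMod p) * (i' : ZMod p)).val * j)) ∧
      (∀ (i' : (ZMod p)ˣ) (g : G), ¬ p ∣ orderOf g → (ψs i' : G → ℂ) g = (ψ : G → ℂ) g) ∧
      (∀ i' i'' : (ZMod p)ˣ, i'' * i'⁻¹ ∉ F →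
        ∑ᶠ x ∈ (P : Set G), (ψs i' : G → ℂ) x * conj ((ψs i'' : G → ℂ) x) = 0) ∧
      (∑ᶠ x ∈ (P : Set G), (ψ : G → ℂ) x = 0) := by
  have hp : p.Prime := Fact.out
  obtain ⟨x0, F, c, ψs, i, hx0, hF, hFcard, hc, hi, hdegeq, hval, hreg, hnotriv, hsum0, hf2, hflt, hK⟩ :=
    Cfsg.Agent.Lib.Helper14.BRE2.partE_le hM P hP hSyl ψ hfaith (le_of_eq hdeg) hnn
  have hFlt : Nat.card F < Nat.card (ZMod p)ˣ := by
    rw [hFcard, Nat.card_eq_fintype_card, ZMod.card_units_eq_totient, Nat.totient_prime hp]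
    exact hflt
  obtain ⟨k, hk⟩ := Cfsg.Agent.Lib.Helper14.BRE.exists_not_mem_of_card_lt F hFlt
  have hii' : (i * k) * i⁻¹ ∉ F := by
    have : (i * k) * i⁻¹ = k := by rw [mul_comm i k, mul_inv_cancel_right]
    rw [this]
    exact hk
  have hP0 : ∑ᶠ x ∈ (P : Set G), (ψ : G → ℂ) x * conj ((ψs (i * k) : G → ℂ) x) = 0 := by
    have := hnotriv i (i * k) hii'
    rwa [hi] at this
  have hfn : (Cz P).relIndex (Nz P) ≤ charDegree (ψ : G → ℂ) := by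
    rw [hdegeq]
    exact Nat.le_mul_of_pos_right _ hc
  have h2f := Cfsg.Agent.Lib.Helper6.BRHLe.partH_le hM P hP hSyl hcl ψ (ψs (i * k)) (hreg (i * k)) hP0
    hf2 hfn (le_of_eq hdeg) hK
  have hψdeg : charDegree (ψ : G → ℂ) = (Cz P).relIndex (Nz P) := by
    have h2 := hp.two_le
    omega
  have hc1 : c = 1 := by
    have h1 : (Cz P).relIndex (Nz P) * c = (Cz P).relIndex (Nz P) * 1 := by
      rw [← hdegeq, hψdeg, mul_one]
    exact Nat.eq_of_mul_eq_mul_left (by omega) h1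
  refine ⟨x0, F, ψs, i, k, hx0, hF, hFcard, hi, hk, h2f, hψdeg, hf2, ?_, hreg, hnotriv, hsum0⟩
  intro i' j hj
  rw [hval i' j hj, hc1, Nat.cast_one, one_mul]

end Cfsg.Agent.Lib.Helper14.BRP4Data
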