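/-
helper14: S4504 (planner helper13), CORE assembly, step (V): the `p`-regular elements of `C_G(P)` are central, from
`BRP4Data.core_data` + helper6 `BRHEq.eq_case` + helper1 `BRV.central_of_self / central_of_pair`.
-/
import Mathlib
import Cfsg.Agent.Lib.Helper14.BRP4Data
import Cfsg.Agent.Lib.Helper6.BRHEq
import Cfsg.Agent.Lib.Helper1.BRV
import Cfsg.Agent.Lib.Helper1.BRVNorm

set_option autoImplicit false

namespace Cfsg.Agent.Lib.Helper14.BRP4Cen

open Cfsg Cfsg.Agent.Lib.Helper8.DOM Cfsg.Agent.Lib.Helper27.DO Cfsg.Agent.Lib.Helper6.BRH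
open scoped ComplexConjugate

universe u

variable {G : Type u} [Group G] [Finite G] {p : ℕ} [Fact p.Prime]

/-- `x ∈ P ∖ 1`, `y ∈ C_G(P)` `p`-regular: `x y` is `p`-singular -/
theorem dvd_orderOf_mul (P : Subgroup G) (hP : Nat.card P = p) (x : G) (hx : x ∈ P) (hx1 : x ≠ 1)
    (y : G) (hy : y ∈ Cz P) (hyreg : ¬ p ∣ orderOf y) : p ∣ orderOf (x * y) := by
  have hp : p.Prime := Fact.out
  have hxo : orderOf x = p := by
    have h1 : orderOf (⟨x, hx⟩ : P) ∣ p := by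
      rw [← hP]; exact orderOf_dvd_natCard _
    have h2 : orderOf (⟨x, hx⟩ : P) = orderOf x := Subgroup.orderOf_mk x hx
    rw [h2] at h1
    rcases (Nat.dvd_prime hp).mp h1 with h | h
    · exact absurd (orderOf_eq_one_iff.mp h) hx1
    · exact h
  have hcomm : Commute x y := (Subgroup.mem_centralizer_iff.mp hy x hx)
  have hc : Nat.Coprime (orderOf x) (orderOf y) := by
    rw [hxo]; exact (Nat.Prime.coprime_iff_not_dvd hp).mpr hyreg
  rw [hcomm.orderOf_mul_eq_mul_orderOf_of_coprime hc, hxo]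
  exact dvd_mul_right _ _

theorem dvd_orderOf_of_mem (P : Subgroup G) (hP : Nat.card P = p) (x : G) (hx : x ∈ P) (hx1 : x ≠ 1) :
    p ∣ orderOf x := by
  have := dvd_orderOf_mul P hP x hx hx1 1 (Subgroup.one_mem _) (by
    rw [orderOf_one]
    exact (Fact.out : p.Prime).one_lt.ne' ∘ Nat.dvd_one.mp)
  rwa [mul_one] at this

/-- step (V) -/
theorem central_of_core_data {M : Ideal AlgInt} (hM : IsPModular p M) (P : Subgroup G) (hP : Nat.card P = p)
    (hSyl : ¬ p ∣ P.index) (hcl : Subgroup.normalClosure (P : Set G) = ⊤)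
    (ψ ψ' : IrrCharacter G) (hfaith : ∀ g : G, (ψ : G → ℂ) g = (ψ : G → ℂ) 1 → g = 1)
    (hreg : ∀ g : G, ¬ p ∣ orderOf g → (ψ' : G → ℂ) g = (ψ : G → ℂ) g)
    (hP0 : ∑ᶠ x ∈ (P : Set G), (ψ : G → ℂ) x * conj ((ψ' : G → ℂ) x) = 0)
    (hf2 : 2 ≤ (Cz P).relIndex (Nz P))
    (h2f : 2 * (Cz P).relIndex (Nz P) = p - 1)
    (hψdeg : charDegree (ψ : G → ℂ) = (Cz P).relIndex (Nz P))
    (hmf : ∑ᶠ x ∈ (P : Set G), (ψ : G → ℂ) x * conj ((ψ : G → ℂ) x) =
      (p : ℂ) * (charDegree (ψ : G → ℂ) : ℂ)) :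
    ∀ y ∈ Cz P, ¬ p ∣ orderOf y → y ∈ Subgroup.center G := by
  obtain ⟨X, Y, v, ε, d, -, -, -, -, hcase⟩ :=
    Cfsg.Agent.Lib.Helper6.BRHEq.eq_case hM P hP hSyl hcl ψ ψ' hreg hP0 hf2 h2f hψdeg
  rcases hcase with ⟨-, -, -, -, hA, -⟩ | ⟨-, -, -, -, -, hL⟩
  · -- `f` odd
    apply Cfsg.Agent.Lib.Helper1.BRV.central_of_self P hP ψ hfaith hmf
    intro x hx hx1 y hy hyreg
    have h1 := dvd_orderOf_mul P hP x hx hx1 y hy hyreg
    have h2 := dvd_orderOf_of_mem P hP x hx hx1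
    rw [hA (x * y), hA x]
    congr 1
    apply finsum_mem_congr rfl
    intro η hη
    rw [d.valX η hη.1 _ h1, d.valX η hη.1 _ h2]
  · -- `f` even
    apply Cfsg.Agent.Lib.Helper1.BRV.central_of_pair P hP ψ ψ' hfaith hreg hP0
    intro x hx hx1 y hy hyreg
    have h1 := dvd_orderOf_mul P hP x hx hx1 y hy hyreg
    have h2 := dvd_orderOf_of_mem P hP x hx hx1
    rw [hL (x * y), hL x]
    apply finsum_mem_congr rfl
    intro η hη
    rw [d.valX η hη.1 _ h1, d.valX η hη.1 _ h2]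

end Cfsg.Agent.Lib.Helper14.BRP4Cen
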