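/-
helper14: S4504 (VI) market (sub-planner helper23), leaf BRVI-BOUND (`le_one_of_bound`): the quadratic inequality
`(r - 1)(r - f) ≥ 0`, `r = ‖ψ(y)‖ < f` off the centre.
-/
import Mathlib
import Cfsg.Prelude.Def_BlockRank
import Cfsg.Agent.Lib.Helper6.BRHDefs
import Cfsg.Agent.Lib.Helper23.BRVIDefs
import Cfsg.Agent.Lib.Helper16.BREZCHAR
import Cfsg.Agent.Lib.Helper14.BREEASYX

set_option autoImplicit false

namespace Cfsg.Agent.Lib.Helper14.BRVIBOUND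

open Cfsg Cfsg.Agent.Lib.Helper8.DOM Cfsg.Agent.Lib.Helper27.DO Cfsg.Agent.CharLib
open Cfsg.Agent.Lib.Helper6.BRH Cfsg.Agent.Lib.Helper23.BRVI
open scoped ComplexConjugate

universe u

variable {G : Type u} [Group G] [Finite G] {p : ℕ} [Fact p.Prime]

/-- BOUND : the quadratic inequality. -/
theorem le_one_of_bound (ψ : IrrCharacter G) (hfaith : ∀ g : G, (ψ : G → ℂ) g = (ψ : G → ℂ) 1 → g = 1)
    (f : ℕ) (hf2 : 2 ≤ f) (hdeg : charDegree (ψ : G → ℂ) = f) (h2f : 2 * f + 1 = p)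
    (y : G) (hy : y ∉ Subgroup.center G) (w : ℂ) (hw : Complex.normSq w = (p : ℝ))
    (h : ‖2 * w ^ 2 * conj ((ψ : G → ℂ) y) / (f : ℂ)‖ ≤
      2 * (2 * (f : ℝ) + 1) * ((f : ℝ) + Complex.normSq ((ψ : G → ℂ) y)) / ((f : ℝ) * ((f : ℝ) + 1))) :
    Complex.normSq ((ψ : G → ℂ) y) ≤ 1 := by
  set r : ℝ := ‖(ψ : G → ℂ) y‖ with hr
  have hr0 : 0 ≤ r := norm_nonneg _
  have hfR : (2 : ℝ) ≤ (f : ℝ) := by exact_mod_cast hf2
  have hfpos : (0 : ℝ) < (f : ℝ) := by linarith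
  have hnsq : Complex.normSq ((ψ : G → ℂ) y) = r ^ 2 := Complex.normSq_eq_norm_sq _
  have hwn : ‖w‖ ^ 2 = (p : ℝ) := by rw [← Complex.normSq_eq_norm_sq, hw]
  have hpR : (p : ℝ) = 2 * (f : ℝ) + 1 := by
    rw [← h2f]; push_cast; ring
  have hle : r ≤ (f : ℝ) := by
    have := Cfsg.Agent.Lib.Helper14.BREEASYX.norm_apply_le ψ y
    rwa [hdeg] at this
  have hne : r ≠ (f : ℝ) := by
    intro heq
    apply hy
    apply Cfsg.Agent.Lib.Helper16.BREZCHAR.mem_center_of_norm_eq ψ hfaith y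
    rw [hdeg]
    exact heq
  have hlt : r < (f : ℝ) := lt_of_le_of_ne hle hne
  have hL : ‖2 * w ^ 2 * conj ((ψ : G → ℂ) y) / (f : ℂ)‖ = 2 * (2 * (f : ℝ) + 1) * r / (f : ℝ) := by
    rw [norm_div, norm_mul, norm_mul, norm_pow, hwn, Complex.norm_natCast, RCLike.norm_conj, hpR]
    simp [hr]
  rw [hL, hnsq] at h
  rw [hnsq]
  have hpos : (0 : ℝ) < (f : ℝ) * ((f : ℝ) + 1) := by positivity
  have h1 : 2 * (2 * (f : ℝ) + 1) * r / (f : ℝ) =
      2 * (2 * (f : ℝ) + 1) * (r * ((f : ℝ) + 1)) / ((f : ℝ) * ((f : ℝ) + 1)) := by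
    field_simp
  rw [h1, div_le_div_iff_of_pos_right hpos] at h
  have h2 : r * ((f : ℝ) + 1) ≤ (f : ℝ) + r ^ 2 := by
    have h3 : (0 : ℝ) < 2 * (2 * (f : ℝ) + 1) := by positivity
    exact le_of_mul_le_mul_left h h3
  have h4 : 0 ≤ (r - 1) * (r - (f : ℝ)) := by nlinarith
  have h5 : r ≤ 1 := by
    by_contra hgt
    push Not at hgt
    have : (r - 1) * (r - (f : ℝ)) < 0 := mul_neg_of_pos_of_neg (by linarith) (by linarith)
    linarith
  nlinarith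

end Cfsg.Agent.Lib.Helper14.BRVIBOUND
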