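/-
helper14: S4504 (VI) market (sub-planner helper23), leaf BRVI-MOM (`mom_bound`): the second and fourth moments of `ψ`
give `|G| ≤ |Z| p f (p + 1)`.
-/
import Mathlib
import Cfsg.Prelude.Def_BlockRank
import Cfsg.Agent.Lib.Helper6.BRHDefs
import Cfsg.Agent.Lib.Helper23.BRVIDefs
import Cfsg.Agent.Lib.Helper6.DefectOrder

set_option autoImplicit false

namespace Cfsg.Agent.Lib.Helper14.BRVIMOM

open Cfsg Cfsg.Agent.Lib.Helper8.DOM Cfsg.Agent.Lib.Helper27.DO Cfsg.Agent.CharLib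
open Cfsg.Agent.Lib.Helper6.BRH Cfsg.Agent.Lib.Helper23.BRVI
open scoped ComplexConjugate

universe u

variable {G : Type u} [Group G] [Finite G] {p : ℕ} [Fact p.Prime]

omit [Fact p.Prime] in
/-- a central element has `|ψ(z)|² = ψ(1)²` -/
theorem normSq_apply_central (ψ : IrrCharacter G) (z : G) (hz : z ∈ Subgroup.center G) :
    Complex.normSq ((ψ : G → ℂ) z) = (charDegree (ψ : G → ℂ) : ℝ) ^ 2 := by
  classical
  let _ : Fintype G := Fintype.ofFinite G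
  have hz' : ∀ h : G, h * z = z * h := fun h => Subgroup.mem_center_iff.mp hz h
  set ω := centralChar (ψ : G → ℂ) z with hω
  have h1 : (ψ : G → ℂ) 1 = (charDegree (ψ : G → ℂ) : ℂ) := Cfsg.Agent.Lib.Helper6.BRH.apply_one_eq ψ
  have hpos : 0 < charDegree (ψ : G → ℂ) := Cfsg.Agent.Lib.Helper6.BRH.charDegree_pos ψ
  have hne : (ψ : G → ℂ) 1 ≠ 0 := by
    rw [h1]
    exact Nat.cast_ne_zero.mpr hpos.ne'
  have hpow : ∀ k : ℕ, (ψ : G → ℂ) (z ^ k) = ω ^ k * (ψ : G → ℂ) 1 := by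
    intro k
    induction k with
    | zero => simp
    | succ k ih =>
      rw [pow_succ, Cfsg.Agent.Lib.Helper6.irr_mul_central ψ z hz' (z ^ k), ih, pow_succ]
      ring
  have hm : 0 < orderOf z := orderOf_pos z
  have hω1 : ω ^ orderOf z = 1 := by
    have := hpow (orderOf z)
    rw [pow_orderOf_eq_one] at this
    have h2 : ω ^ orderOf z * (ψ : G → ℂ) 1 = 1 * (ψ : G → ℂ) 1 := by rw [one_mul]; exact this.symm
    exact mul_right_cancel₀ hne h2
  have hnorm : ‖ω‖ = 1 := Complex.norm_eq_one_of_pow_eq_one hω1 hm.ne'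
  have hz1 := hpow 1
  rw [pow_one, pow_one] at hz1
  rw [hz1, Complex.normSq_mul, Complex.normSq_eq_norm_sq ω, hnorm, h1, Complex.normSq_natCast]
  ring


/-- the real arithmetic of MOM -/
theorem mom_arith (N S z f κ t₁ t₂ ρ₁ ρ₂ pp : ℝ) (hf2 : 2 ≤ f) (hp : pp = 2 * f + 1)
    (h1 : κ * S + f ^ 2 * z + ρ₁ = t₁ * N) (h2 : κ ^ 2 * S + f ^ 4 * z + ρ₂ = t₂ * N) (h3 : ρ₂ ≤ ρ₁)
    (hS : pp * S = 2 * N)
    (hκ : (2 * κ = f + 1 ∧ t₁ = 1 ∧ 2 * t₂ = f + 1) ∨ (2 * κ = -f ∧ t₁ = 0 ∧ 2 * t₂ = f)) :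
    N ≤ z * pp * f * (pp + 1) := by
  have hE : (t₂ - t₁) * N - (κ ^ 2 - κ) * S ≤ (f ^ 4 - f ^ 2) * z := by nlinarith
  have hpos : 0 < 2 * f * (f - 1) := by nlinarith
  have hkey : 2 * f * (f - 1) * N ≤ 2 * f * (f - 1) * (z * pp * f * (pp + 1)) := by
    rcases hκ with ⟨hk, ht1, ht2⟩ | ⟨hk, ht1, ht2⟩
    · have hκ' : κ = (f + 1) / 2 := by linarith
      have ht2' : t₂ = (f + 1) / 2 := by linarith
      rw [hκ', ht1, ht2'] at hE
      have h4 : 4 * pp * (((f + 1) / 2 - 1) * N - (((f + 1) / 2) ^ 2 - (f + 1) / 2) * S) =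
          2 * pp * (f - 1) * N - (f + 1) * (f - 1) * (pp * S) := by ring
      have h5 : 4 * pp * (((f + 1) / 2 - 1) * N - (((f + 1) / 2) ^ 2 - (f + 1) / 2) * S) ≤
          4 * pp * ((f ^ 4 - f ^ 2) * z) := by
        apply mul_le_mul_of_nonneg_left hE
        rw [hp]; linarith
      rw [h4, hS, hp] at h5
      rw [hp]
      nlinarith
    · have hκ' : κ = -f / 2 := by linarith
      have ht2' : t₂ = f / 2 := by linarith
      rw [hκ', ht1, ht2'] at hE
      have h4 : 4 * pp * ((f / 2 - 0) * N - ((-f / 2) ^ 2 - -f / 2) * S) =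
          2 * pp * f * N - f * (f + 2) * (pp * S) := by ring
      have h5 : 4 * pp * ((f / 2 - 0) * N - ((-f / 2) ^ 2 - -f / 2) * S) ≤
          4 * pp * ((f ^ 4 - f ^ 2) * z) := by
        apply mul_le_mul_of_nonneg_left hE
        rw [hp]; linarith
      rw [h4, hS, hp] at h5
      rw [hp]
      nlinarith
  exact le_of_mul_le_mul_left hkey hpos

/-- MOM : the second and fourth moments of `ψ`. -/
theorem mom_bound (ψ : IrrCharacter G) (f : ℕ) (hf2 : 2 ≤ f) (hdeg : charDegree (ψ : G → ℂ) = f) (h2f : 2 * f + 1 = p)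
    (hZreg : ∀ z ∈ Subgroup.center G, ¬ p ∣ orderOf z)
    (hT : ∀ y : G, ¬ p ∣ orderOf y → y ∉ Subgroup.center G → Complex.normSq ((ψ : G → ℂ) y) ≤ 1)
    (hS : p * Nat.card {g : G // p ∣ orderOf g} = 2 * Nat.card G)
    (Θ : G → ℂ) (κ t₁ t₂ : ℝ)
    (hΘreg : ∀ g : G, ¬ p ∣ orderOf g → Θ g = ((Complex.normSq ((ψ : G → ℂ) g) : ℝ) : ℂ))
    (hΘsing : ∀ g : G, p ∣ orderOf g → Θ g = (κ : ℂ))
    (hΘ1 : ∑ᶠ g : G, Θ g = ((t₁ * (Nat.card G : ℝ) : ℝ) : ℂ))
    (hΘ2 : ∑ᶠ g : G, Complex.normSq (Θ g) = t₂ * (Nat.card G : ℝ))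
    (hκ : (2 * κ = (f : ℝ) + 1 ∧ t₁ = 1 ∧ 2 * t₂ = (f : ℝ) + 1) ∨ (2 * κ = -(f : ℝ) ∧ t₁ = 0 ∧ 2 * t₂ = (f : ℝ))) :
    Nat.card G ≤ Nat.card (Subgroup.center G) * p * f * (p + 1) := by
  classical
  let _ : Fintype G := Fintype.ofFinite G
  -- the real function `θ`
  set R : G → ℝ := fun g => Complex.normSq ((ψ : G → ℂ) g) with hR
  set θ : G → ℝ := fun g => if p ∣ orderOf g then κ else R g with hθ
  have hΘθ : ∀ g, Θ g = ((θ g : ℝ) : ℂ) := by
    intro g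
    by_cases hg : p ∣ orderOf g
    · rw [hΘsing g hg, hθ]; simp [hg]
    · rw [hΘreg g hg, hθ]; simp [hg, hR]
  -- the three classes
  set sing : Finset G := Finset.univ.filter (fun g => p ∣ orderOf g) with hsing
  set Zs : Finset G := Finset.univ.filter (fun g => g ∈ Subgroup.center G) with hZs
  set rest : Finset G := Finset.univ.filter (fun g => ¬ p ∣ orderOf g ∧ g ∉ Subgroup.center G) with hrest
  have hsplit : ∀ F : G → ℝ, ∑ g, F g = ∑ g ∈ sing, F g + (∑ g ∈ Zs, F g + ∑ g ∈ rest, F g) := by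
    intro F
    have h1 : ∑ g, F g = ∑ g ∈ sing, F g + ∑ g ∈ Finset.univ.filter (fun g => ¬ p ∣ orderOf g), F g :=
      (Finset.sum_filter_add_sum_filter_not Finset.univ (fun g => p ∣ orderOf g) F).symm
    have h2 : ∑ g ∈ Finset.univ.filter (fun g => ¬ p ∣ orderOf g), F g =
        ∑ g ∈ (Finset.univ.filter (fun g => ¬ p ∣ orderOf g)).filter (fun g => g ∈ Subgroup.center G), F g +
        ∑ g ∈ (Finset.univ.filter (fun g => ¬ p ∣ orderOf g)).filter (fun g => g ∉ Subgroup.center G), F g :=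
      (Finset.sum_filter_add_sum_filter_not _ (fun g => g ∈ Subgroup.center G) F).symm
    have h3 : (Finset.univ.filter (fun g : G => ¬ p ∣ orderOf g)).filter (fun g => g ∈ Subgroup.center G) = Zs := by
      ext g
      simp only [hZs, Finset.mem_filter, Finset.mem_univ, true_and]
      constructor
      · exact fun h => h.2
      · exact fun h => ⟨hZreg g h, h⟩
    have h4 : (Finset.univ.filter (fun g : G => ¬ p ∣ orderOf g)).filter (fun g => g ∉ Subgroup.center G) = rest := by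
      ext g
      simp only [hrest, Finset.mem_filter, Finset.mem_univ, true_and]
    rw [h1, h2, h3, h4]
  have hcardS : (sing.card : ℝ) = (Nat.card {g : G // p ∣ orderOf g} : ℝ) := by
    rw [hsing, Nat.card_eq_fintype_card, Fintype.card_subtype]
  have hcardZ : (Zs.card : ℝ) = (Nat.card (Subgroup.center G) : ℝ) := by
    rw [hZs, Nat.card_eq_fintype_card, ← Fintype.card_subtype]
  have hfR : (charDegree (ψ : G → ℂ) : ℝ) = (f : ℝ) := by rw [hdeg]
  -- the values of `θ`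
  have hθsing : ∀ g ∈ sing, θ g = κ := by
    intro g hg
    have : p ∣ orderOf g := (Finset.mem_filter.mp hg).2
    simp [hθ, this]
  have hθZ : ∀ g ∈ Zs, θ g = (f : ℝ) ^ 2 := by
    intro g hg
    have hgz : g ∈ Subgroup.center G := (Finset.mem_filter.mp hg).2
    have : ¬ p ∣ orderOf g := hZreg g hgz
    simp only [hθ, this, if_false, hR]
    rw [normSq_apply_central ψ g hgz, hfR]
  have hθrest : ∀ g ∈ rest, θ g = R g := by
    intro g hg
    have : ¬ p ∣ orderOf g := (Finset.mem_filter.mp hg).2.1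
    simp [hθ, this]
  -- first moment
  have hm1 : κ * (sing.card : ℝ) + (f : ℝ) ^ 2 * (Zs.card : ℝ) + ∑ g ∈ rest, R g = t₁ * (Nat.card G : ℝ) := by
    have h1 : ∑ᶠ g : G, Θ g = ((∑ g, θ g : ℝ) : ℂ) := by
      rw [finsum_eq_sum_of_fintype]
      push_cast
      exact Finset.sum_congr rfl (fun g _ => hΘθ g)
    rw [h1] at hΘ1
    have h2 : ∑ g, θ g = t₁ * (Nat.card G : ℝ) := Complex.ofReal_injective hΘ1
    rw [hsplit θ, Finset.sum_congr rfl hθsing, Finset.sum_congr rfl hθZ, Finset.sum_congr rfl hθrest,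
      Finset.sum_const, Finset.sum_const, nsmul_eq_mul, nsmul_eq_mul] at h2
    linarith
  -- second moment
  have hm2 : κ ^ 2 * (sing.card : ℝ) + (f : ℝ) ^ 4 * (Zs.card : ℝ) + ∑ g ∈ rest, (R g) ^ 2 =
      t₂ * (Nat.card G : ℝ) := by
    have h1 : ∑ᶠ g : G, Complex.normSq (Θ g) = ∑ g, (θ g) ^ 2 := by
      rw [finsum_eq_sum_of_fintype]
      apply Finset.sum_congr rfl
      intro g _
      rw [hΘθ g, Complex.normSq_ofReal, sq]
    rw [h1] at hΘ2
    rw [hsplit (fun g => (θ g) ^ 2),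
      Finset.sum_congr rfl (fun g hg => by rw [hθsing g hg] : ∀ g ∈ sing, (θ g) ^ 2 = κ ^ 2),
      Finset.sum_congr rfl (fun g hg => by rw [hθZ g hg] : ∀ g ∈ Zs, (θ g) ^ 2 = ((f : ℝ) ^ 2) ^ 2),
      Finset.sum_congr rfl (fun g hg => by rw [hθrest g hg] : ∀ g ∈ rest, (θ g) ^ 2 = (R g) ^ 2),
      Finset.sum_const, Finset.sum_const, nsmul_eq_mul, nsmul_eq_mul] at hΘ2
    linarith [hΘ2, (by ring : (((f : ℝ)) ^ 2) ^ 2 = (f : ℝ) ^ 4)]
  -- `R² ≤ R` off the centre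
  have hle : ∑ g ∈ rest, (R g) ^ 2 ≤ ∑ g ∈ rest, R g := by
    apply Finset.sum_le_sum
    intro g hg
    obtain ⟨hg1, hg2⟩ := (Finset.mem_filter.mp hg).2
    have h0 : 0 ≤ R g := Complex.normSq_nonneg _
    have h1 : R g ≤ 1 := hT g hg1 hg2
    nlinarith
  have hSR : (p : ℝ) * (sing.card : ℝ) = 2 * (Nat.card G : ℝ) := by
    rw [hcardS]
    exact_mod_cast hS
  have hpR : (p : ℝ) = 2 * (f : ℝ) + 1 := by
    rw [← h2f]; push_cast; ring
  have hfin := mom_arith (Nat.card G : ℝ) (sing.card : ℝ) (Zs.card : ℝ) (f : ℝ) κ t₁ t₂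
    (∑ g ∈ rest, R g) (∑ g ∈ rest, (R g) ^ 2) (p : ℝ) (by exact_mod_cast hf2) hpR hm1 hm2 hle hSR hκ
  rw [hcardZ] at hfin
  exact_mod_cast hfin

end Cfsg.Agent.Lib.Helper14.BRVIMOM
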