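/-
helper14: S4504 (planner helper13), the CORE `BRP.Core p`:
`G = ⟨P^G⟩`, `P` not normal, `ψ ∈ Irr G` faithful, `2 ψ(1) + 1 = p` ⇒ `|Syl_p G| = p + 1` and `G` perfect.
Assembly of Part E under `≤` (helper14 `BRE2.partE_le`), Part H under `≤` (helper6 `BRHLe.partH_le`), the equality case
(helper6 `BRHEq.eq_case`), the central `p'`-part (helper1 `BRV`), class constants + moments (helper23 (VI): spine `BRVISpine.card_sylow_eq` over the 15 landed BRVI leaves), PERF (helper5).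
-/
import Mathlib
import Cfsg.Agent.Lib.Helper13.BRPDefs
import Cfsg.Agent.Lib.Helper14.BRE2
import Cfsg.Agent.Lib.Helper14.BRP4Data
import Cfsg.Agent.Lib.Helper14.BRP4Cen
import Cfsg.Agent.Lib.Helper6.Knoerr
import Cfsg.Agent.Lib.Helper6.BRHLe
import Cfsg.Agent.Lib.Helper6.BRHEq
import Cfsg.Agent.Lib.Helper5.BRPPERF
import Cfsg.Agent.Lib.Helper14.BRVISpine

set_option autoImplicit false

namespace Cfsg.Agent.Lib.Helper14.BRP4Core

open Cfsg Cfsg.Agent.Lib.Helper8.DOM Cfsg.Agent.Lib.Helper27.DO Cfsg.Agent.Lib.Helper13.BRP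
open scoped ComplexConjugate

universe u

/-- CORE of S4504. -/
theorem core (p : ℕ) (hp : p.Prime) : Core.{u} p := by
  intro G _ _ hdiv hsq P hcl hnn ψ hfaith hdeg
  have : Fact p.Prime := ⟨hp⟩
  obtain ⟨M, hM⟩ := Cfsg.Agent.Lib.Helper6.exists_isPModular p
  have hP : Nat.card (P : Subgroup G) = p := Cfsg.Agent.Lib.Helper21.S4503R.card_sylow_eq hdiv hsq P
  have hSyl : ¬ p ∣ (P : Subgroup G).index := P.not_dvd_index
  obtain ⟨x0, F, ψs, i, k, hx0, hF, hFcard, hi, hk, h2f, hψdeg, hf2, hval, hreg, hnotriv, hsum0⟩ :=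
    Cfsg.Agent.Lib.Helper14.BRP4Data.core_data hM (P : Subgroup G) hP hSyl hcl hnn ψ hfaith hdeg
  refine ⟨?_, Cfsg.Agent.Lib.Helper5.BRPPERF.commutator_eq_top_of_normalClosure (P : Subgroup G) hP hSyl hcl hf2⟩
  -- the second exceptional character
  have hord : orderOf x0 = p := by rw [← hP, hx0, Nat.card_zpowers]
  have hii' : (i * k) * i⁻¹ ∉ F := by
    have : (i * k) * i⁻¹ = k := by rw [mul_comm i k, mul_inv_cancel_right]
    rw [this]
    exact hk
  have hP0 : ∑ᶠ x ∈ ((P : Subgroup G) : Set G), (ψ : G → ℂ) x * conj ((ψs (i * k) : G → ℂ) x) = 0 := by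
    have := hnotriv i (i * k) hii'
    rwa [hi] at this
  have hmf : ∑ᶠ x ∈ ((P : Subgroup G) : Set G), (ψ : G → ℂ) x * conj ((ψ : G → ℂ) x) =
      (p : ℂ) * (charDegree (ψ : G → ℂ) : ℂ) := by
    have h1 := Cfsg.Agent.Lib.Helper1.BRVNorm.sum_mul_conj_self (P : Subgroup G) x0 hx0 hord F i 1
      (ψ : G → ℂ) (by
        intro j hj
        rw [Nat.cast_one, one_mul, ← hi]
        exact hval i j hj) (by
        rw [Cfsg.Agent.Lib.Helper24.irr_apply_one, hψdeg, hFcard, mul_one])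
    rw [h1, mul_one, mul_one, hFcard, hψdeg]
  -- (V) the `p`-regular part of `C_G(P)` is central
  have hcentral : ∀ y ∈ Cz (P : Subgroup G), ¬ p ∣ orderOf y → y ∈ Subgroup.center G :=
    Cfsg.Agent.Lib.Helper14.BRP4Cen.central_of_core_data hM (P : Subgroup G) hP hSyl hcl ψ (ψs (i * k)) hfaith
      (hreg (i * k)) hP0 hf2 h2f hψdeg hmf
  -- (IV) the equality case in the principal block
  obtain ⟨X, Y, v, ε, d, -, -, -, hYreg, hrel, -, hdegp, hdegm, hcase⟩ :=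
    Cfsg.Agent.Lib.Helper6.BRHEq.eq_case_full hM (P : Subgroup G) hP hSyl hcl ψ (ψs (i * k)) (hreg (i * k)) hP0
      hf2 h2f hψdeg
  -- (VI) class constants and moments
  subst hi
  refine Cfsg.Agent.Lib.Helper14.BRVISpine.card_sylow_eq (P : Subgroup G) hP hSyl hnn hcentral x0 hx0 F hF hFcard
    h2f hf2 k hk ψs i hfaith hψdeg hval hreg hP0 hsum0 X Y v ε d hYreg hrel hdegp hdegm ?_
  rcases hcase with ⟨-, -, h1, h2, h3, h4⟩ | ⟨-, -, h1, h2, h3, h4⟩
  · exact Or.inl ⟨h1, h2, h3, h4⟩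
  · exact Or.inr ⟨h1, h2, h3, h4⟩

end Cfsg.Agent.Lib.Helper14.BRP4Core
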