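/-
helper14: S4705 support (planner helper6), super-leaf (R1), EASYX for degree `p - 2`: a character of degree `p - 2` in a
block of defect 1 has no constant row (sign `-`: the multiplicity of `1_P` would be negative; sign `+`: `P` would lie
in the kernel).
-/
import Mathlib
import Cfsg.Prelude.Def_BlockRank
import Cfsg.Agent.Lib.Helper27.DODefs
import Cfsg.Agent.Lib.Helper27.BlkAlgDefs2
import Cfsg.Agent.Lib.Helper9.DODEGX
import Cfsg.Agent.Lib.Helper9.DOVALX
import Cfsg.Agent.Lib.Helper24.IrrFacts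
import Cfsg.Agent.Lib.Lead.CharBasic
import Cfsg.Agent.Lib.Lead.KleinBlock2
import Cfsg.Agent.Lib.Helper14.BREEASYX

set_option autoImplicit false

namespace Cfsg.Agent.Lib.Helper14.BRQX

open Cfsg Cfsg.Agent.Lib.Helper8.DOM Cfsg.Agent.Lib.Helper27.DO Cfsg.Agent.Lib.Helper27.BlkAlg
open Cfsg.Agent.Lib.Helper9.DOBase Cfsg.Agent.Lib.Helper9.DODEG
open Cfsg.Agent.Lib.Helper14.BREEASYX
open scoped ComplexConjugate

universe u

section data

variable {G : Type u} [Group G] [Finite G] {p : ℕ} [Fact p.Prime] {M : Ideal AlgInt}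
  {P : Subgroup G} {B : Set (IrrCharacter G)} {θ : IrrCharacter (Cz P)} {T : Subgroup G} {x0 : G}
  {E : Subgroup (ZMod p)ˣ} {μ : IrrCharacter G → ZMod p → ℤ} {D : IrrCharacter G → G → ℂ}

/-- the value of a constant row on `P \ 1` -/
theorem apply_of_const_row (d : GSData p P B θ T x0 E μ D) (hP : Nat.card P = p)
    (hT : IsInertia P (θ : Cz P → ℂ) T) (χ : IrrCharacter G) (hχ : χ ∈ B) (v : ℤ)
    (hv : ∀ k : (ZMod p)ˣ, μ χ k - μ χ 0 = - v) (x : G) (hx : x ∈ P) (hx1 : x ≠ 1) :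
    (χ : G → ℂ) x = (v : ℂ) * (T.relIndex (Nz P) : ℂ) * (charDegree (θ : Cz P → ℂ) : ℂ) := by
  classical
  haveI : Fintype (Nz P) := Fintype.ofFinite _
  obtain ⟨hCT, hTN⟩ := Cfsg.Agent.Lib.Helper16.DOINERT.le_of_isInertia P θ T hT
  have hcard : Nat.card (Nz P) = T.relIndex (Nz P) * Nat.card T := card_eq_relIndex_mul hTN
  have hT0 : (Nat.card T : ℂ) ≠ 0 := Nat.cast_ne_zero.mpr Nat.card_pos.ne'
  rw [apply_of_mem d χ hχ x hx hx1]
  have : ∀ n : Nz P, D χ ((n : G) * x * (n : G)⁻¹) = (v : ℂ) := by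
    intro n
    obtain ⟨h1, h2⟩ := conj_mem (n : G) n.2 x hx hx1
    exact Cfsg.Agent.Lib.Helper9.DOVALX.D_const d hP χ v hv _ h1 h2
  simp only [this, Finset.sum_const, Finset.card_univ, nsmul_eq_mul]
  rw [← Nat.card_eq_fintype_card, hcard]
  push_cast
  field_simp

/-- EASYX for degree `p - 2`: no constant row (the hypothesis `hfaith` is only used for the sign `+`). -/
theorem false_of_const_row_pm2 (d : GSData p P B θ T x0 E μ D) (hP : Nat.card P = p)
    (hT : IsInertia P (θ : Cz P → ℂ) T) (χ : IrrCharacter G) (hχ : χ ∈ B) (v : ℤ)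
    (hv1 : v = 1 ∨ v = -1) (hv : ∀ k : (ZMod p)ˣ, μ χ k - μ χ 0 = - v)
    (hfaith : v = 1 → ∀ g : G, (χ : G → ℂ) g = (χ : G → ℂ) 1 → g = 1)
    (hp3 : 3 < p) (hdeg : charDegree (χ : G → ℂ) = p - 2) : False := by
  classical
  haveI : Fintype P := Fintype.ofFinite _
  have hp : p.Prime := Fact.out
  obtain ⟨hCT, hTN⟩ := Cfsg.Agent.Lib.Helper16.DOINERT.le_of_isInertia P θ T hT
  set r := T.relIndex (Nz P) with hr
  have hrpos : 0 < r := Nat.pos_of_ne_zero (relIndex_ne_zero' _ _)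
  have hquot : (Cz P).relIndex (Nz P) / (Cz P).relIndex T = r := by
    rw [← Subgroup.relIndex_mul_relIndex (Cz P) T (Nz P) hCT hTN]
    exact Nat.mul_div_cancel_left _ (Nat.pos_of_ne_zero (relIndex_ne_zero' _ _))
  have hord := orderOf_x0 d hP
  have hx0P : x0 ∈ P := by rw [d.gen]; exact Subgroup.mem_zpowers x0
  have hx01 : x0 ≠ 1 := by
    intro h
    rw [h, orderOf_one] at hord
    exact hp.one_lt.ne hord
  set cθ := charDegree (θ : Cz P → ℂ) with hcθ
  have hθpos : 0 < cθ := Cfsg.Agent.Lib.Helper24.irr_charDegree_pos θ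
  have hval : ∀ x ∈ P, x ≠ 1 → (χ : G → ℂ) x = (v : ℂ) * (r : ℂ) * (cθ : ℂ) :=
    fun x hx hx1 => apply_of_const_row d hP hT χ hχ v hv x hx hx1
  -- the degree congruence
  have hcong := Cfsg.Agent.Lib.Helper9.DODEGX.degX_of_data d hP hT χ hχ v hv
  rw [hquot] at hcong
  -- the norm bound
  have hnorm := norm_apply_le χ x0
  have hle : r * cθ ≤ charDegree (χ : G → ℂ) := by
    rw [hval x0 hx0P hx01] at hnorm
    have hv' : ‖(v : ℂ)‖ = 1 := by
      rcases hv1 with h | h <;> rw [h] <;> simp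
    rw [norm_mul, norm_mul, hv', one_mul, Complex.norm_natCast, Complex.norm_natCast] at hnorm
    exact_mod_cast hnorm
  have hpos : 0 < r * cθ := Nat.mul_pos hrpos hθpos
  have hdZ : (charDegree (χ : G → ℂ) : ℤ) = (p : ℤ) - 2 := by
    have h1 : charDegree (χ : G → ℂ) + 2 = p := by omega
    have h2 : ((charDegree (χ : G → ℂ) + 2 : ℕ) : ℤ) = (p : ℤ) := by exact_mod_cast h1
    push_cast at h2
    linarith
  have hp0 : (3 : ℤ) < (p : ℤ) := by exact_mod_cast hp3
  have hleZ : ((r * cθ : ℕ) : ℤ) ≤ (charDegree (χ : G → ℂ) : ℤ) := by exact_mod_cast hle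
  have hposZ : (0 : ℤ) < ((r * cθ : ℕ) : ℤ) := by exact_mod_cast hpos
  rcases hv1 with h | h
  · -- `v = 1`
    rw [h, one_mul] at hcong
    have hdvd : (p : ℤ) ∣ ((charDegree (χ : G → ℂ) : ℤ) - ((r * cθ : ℕ) : ℤ)) :=
      (Int.modEq_iff_dvd.mp hcong.symm)
    have hnn : (0 : ℤ) ≤ (charDegree (χ : G → ℂ) : ℤ) - ((r * cθ : ℕ) : ℤ) := by linarith
    have hlt : (charDegree (χ : G → ℂ) : ℤ) - ((r * cθ : ℕ) : ℤ) < (p : ℤ) := by linarith
    have hzero : (charDegree (χ : G → ℂ) : ℤ) - ((r * cθ : ℕ) : ℤ) = 0 :=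
      Int.eq_zero_of_dvd_of_nonneg_of_lt hnn hlt hdvd
    have heq : charDegree (χ : G → ℂ) = r * cθ := by
      have : (charDegree (χ : G → ℂ) : ℤ) = ((r * cθ : ℕ) : ℤ) := by linarith
      exact_mod_cast this
    apply hx01
    apply hfaith h
    rw [hval x0 hx0P hx01, h, Cfsg.Agent.Lib.Helper24.irr_apply_one, heq]
    push_cast
    ring
  · -- `v = -1`
    rw [h] at hcong
    have hdvd : (p : ℤ) ∣ ((charDegree (χ : G → ℂ) : ℤ) + ((r * cθ : ℕ) : ℤ)) := by
      have := Int.modEq_iff_dvd.mp hcong.symm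
      have h3 : (charDegree (χ : G → ℂ) : ℤ) - -1 * ((r * cθ : ℕ) : ℤ) =
          (charDegree (χ : G → ℂ) : ℤ) + ((r * cθ : ℕ) : ℤ) := by ring
      rwa [h3] at this
    -- `deg + r cθ = p`, so `r cθ = 2`
    obtain ⟨k, hk⟩ := hdvd
    have hk1 : k = 1 := by
      have h1 : (0 : ℤ) < (p : ℤ) * k := by rw [← hk]; linarith
      have h2 : (p : ℤ) * k < (p : ℤ) * 2 := by rw [← hk]; linarith
      have h3 : (0 : ℤ) < k := by
        by_contra hneg
        have : k ≤ 0 := by omega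
        nlinarith
      have h4 : k < 2 := by
        by_contra hneg
        have : 2 ≤ k := by omega
        nlinarith
      omega
    have hrc : ((r * cθ : ℕ) : ℤ) = 2 := by
      rw [hk1, mul_one] at hk
      linarith
    -- the multiplicity of `1_P`
    obtain ⟨m, hm⟩ := Cfsg.Agent.CharLib.exists_nat_sum_subgroup P
      (Cfsg.Agent.CharLib.IsIrrCharacter.isCharacter χ.2)
    have hsum : ∑ x : P, (χ : G → ℂ) x = ((p : ℂ) - 2) + ((p : ℂ) - 1) * (-2) := by
      rw [← Finset.add_sum_erase Finset.univ (fun x : P => (χ : G → ℂ) x) (Finset.mem_univ (1 : P))]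
      congr 1
      · rw [Subgroup.coe_one, Cfsg.Agent.Lib.Helper24.irr_apply_one]
        have : ((charDegree (χ : G → ℂ) : ℤ) : ℂ) = (((p : ℤ) - 2 : ℤ) : ℂ) := by rw [hdZ]
        push_cast at this
        exact this
      · have h1 : ∀ x ∈ Finset.univ.erase (1 : P), (χ : G → ℂ) x = -2 := by
          intro x hx
          have hx1 : (x : G) ≠ 1 := by
            intro hx1
            exact (Finset.mem_erase.mp hx).1 (Subtype.ext hx1)
          rw [hval x x.2 hx1, h]
          have : ((r : ℂ) * (cθ : ℂ)) = 2 := by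
            have : (((r * cθ : ℕ) : ℤ) : ℂ) = ((2 : ℤ) : ℂ) := by rw [hrc]
            push_cast at this
            exact this
          push_cast
          rw [mul_assoc, this]
          ring
        rw [Finset.sum_congr rfl h1, Finset.sum_const, Finset.card_erase_of_mem (Finset.mem_univ _),
          Finset.card_univ, nsmul_eq_mul, ← Nat.card_eq_fintype_card, hP]
        rw [Nat.cast_pred hp.pos]
    rw [hsum, hP] at hm
    have hmZ : ((p : ℤ) - 2) + ((p : ℤ) - 1) * (-2) = (p : ℤ) * (m : ℤ) := by exact_mod_cast hm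
    have hm0 : (0 : ℤ) ≤ (m : ℤ) := by positivity
    nlinarith

end data

end Cfsg.Agent.Lib.Helper14.BRQX
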