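/-
helper14: S4705 support (planner helper6), super-leaf (R1), EASYY for a faithful irreducible character of degree `p - 2`
with the values of an exceptional row on `P = ⟨x0⟩`: sign `-`, `θ(1) = 1`, `f = 2`, and the `1_P`-part is 1-dimensional.
(First half = `Helper14.BREEASYY2.sign_degree_of_values_of_le` verbatim.)
-/
import Mathlib
import Cfsg.Prelude.Def_BlockRank
import Cfsg.Agent.Lib.Helper27.DODefs
import Cfsg.Agent.Lib.Helper24.IrrFacts
import Cfsg.Agent.Lib.Helper5.BREEASYYOf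
import Cfsg.Agent.Lib.Helper15.BREPMULT

set_option autoImplicit false

namespace Cfsg.Agent.Lib.Helper14.BRQY

open Cfsg Cfsg.Agent.Lib.Helper8.DOM Cfsg.Agent.Lib.Helper27.DO
open Cfsg.Agent.Lib.Helper5.BREEASYYOf
open scoped ComplexConjugate

universe u

section main

variable {G : Type u} [Group G] [Finite G] {p : ℕ} [hp : Fact p.Prime]

/-- EASYY for degree `p - 2`, `_of` form: `hpm` is PMULT for `χ`. -/
theorem sign_degree_of_values_pm2_of (χ : IrrCharacter G) (P : Subgroup G) (x0 : G)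
    (hx0 : P = Subgroup.zpowers x0) (hord : orderOf x0 = p)
    (F : Subgroup (ZMod p)ˣ) (i : (ZMod p)ˣ) (ε : ℤ) (hε : ε = 1 ∨ ε = -1)
    (c : ℕ) (hc : 0 < c)
    (hval : ∀ j : ℕ, ¬ p ∣ j → (χ : G → ℂ) (x0 ^ j) = (ε : ℂ) * (c : ℂ) *
      ∑ᶠ w ∈ (F : Set (ZMod p)ˣ), zetaP p ^ (((w : ZMod p) * (i : ZMod p)).val * j))
    (hfaith : ∀ g : G, (χ : G → ℂ) g = (χ : G → ℂ) 1 → g = 1)
    (hp5 : 5 < p) (hdeg : charDegree (χ : G → ℂ) = p - 2)
    (hpm : ∀ k : ZMod p, ∃ m : ℕ, ∑ j ∈ Finset.range p,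
      (χ : G → ℂ) (x0 ^ j) * conj (zetaP p ^ (k.val * j)) = (p : ℂ) * (m : ℂ)) :
    (ε = 1 ∧ Nat.card F = 1 ∧ c = p - 2) ∨
      (ε = -1 ∧ c = 1 ∧ Nat.card F = 2 ∧ ∑ᶠ x ∈ (P : Set G), (χ : G → ℂ) x = (p : ℂ)) := by
  classical
  have : NeZero p := ⟨hp.out.ne_zero⟩
  have hp2 : 2 ≤ p := hp.out.two_le
  set d : ℕ := charDegree (χ : G → ℂ) with hd
  have hχ1 : (χ : G → ℂ) 1 = (d : ℂ) := Cfsg.Agent.Lib.Helper24.irr_apply_one χ
  -- the finset of `F`
  set Fs : Finset (ZMod p)ˣ := (Set.toFinite (F : Set (ZMod p)ˣ)).toFinset with hFs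
  have hFs_coe : (F : Set (ZMod p)ˣ) = ↑Fs := by rw [hFs, Set.Finite.coe_toFinset]
  have hmemFs : ∀ w, w ∈ Fs ↔ w ∈ F := by
    intro w
    rw [hFs, Set.Finite.mem_toFinset, SetLike.mem_coe]
  have hcardFs : Fs.card = Nat.card F := by
    rw [hFs, ← Set.ncard_eq_toFinset_card (F : Set (ZMod p)ˣ)]
    rfl
  set f : ℕ := Nat.card F with hf
  -- the model values
  set h : ℕ → ℂ := fun j => (ε : ℂ) * (c : ℂ) *
    ∑ w ∈ Fs, zetaP p ^ (((w : ZMod p) * (i : ZMod p)).val * j) with hh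
  have hval' : ∀ j : ℕ, ¬ p ∣ j → (χ : G → ℂ) (x0 ^ j) = h j := by
    intro j hj
    rw [hval j hj, hFs_coe, finsum_mem_coe_finset]
  have hh0 : h 0 = (ε : ℂ) * (c : ℂ) * (f : ℂ) := by
    simp only [hh, mul_zero, pow_zero, Finset.sum_const, nsmul_eq_mul, mul_one, hcardFs]
  -- the twisted sums
  have hA : ∀ k : ZMod p, ∑ j ∈ Finset.range p,
      (χ : G → ℂ) (x0 ^ j) * conj (zetaP p ^ (k.val * j)) =
      (d : ℂ) - (ε : ℂ) * (c : ℂ) * (f : ℂ) + (ε : ℂ) * (c : ℂ) *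
        ∑ w ∈ Fs, (if ((w : ZMod p) * (i : ZMod p)).val = k.val then (p : ℂ) else 0) := by
    intro k
    have hsplit : ∀ j ∈ Finset.range p, (χ : G → ℂ) (x0 ^ j) * conj (zetaP p ^ (k.val * j)) =
        ((χ : G → ℂ) (x0 ^ j) - h j) * conj (zetaP p ^ (k.val * j)) +
          h j * conj (zetaP p ^ (k.val * j)) := by
      intro j _
      ring
    rw [Finset.sum_congr rfl hsplit, Finset.sum_add_distrib]
    have hfirst : ∑ j ∈ Finset.range p, ((χ : G → ℂ) (x0 ^ j) - h j) * conj (zetaP p ^ (k.val * j)) =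
        (d : ℂ) - (ε : ℂ) * (c : ℂ) * (f : ℂ) := by
      rw [Finset.sum_eq_single 0]
      · rw [pow_zero, hχ1, hh0, mul_zero, pow_zero, map_one, mul_one]
      · intro j hj hj0
        have hjp : ¬ p ∣ j := by
          intro hdvd
          have := Nat.le_of_dvd (Nat.pos_of_ne_zero hj0) hdvd
          have := Finset.mem_range.mp hj
          omega
        rw [hval' j hjp, sub_self, zero_mul]
      · intro h0
        exact absurd (Finset.mem_range.mpr hp.out.pos) h0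
    have hsecond : ∑ j ∈ Finset.range p, h j * conj (zetaP p ^ (k.val * j)) =
        (ε : ℂ) * (c : ℂ) *
          ∑ w ∈ Fs, (if ((w : ZMod p) * (i : ZMod p)).val = k.val then (p : ℂ) else 0) := by
      have h1 : ∀ j ∈ Finset.range p, h j * conj (zetaP p ^ (k.val * j)) =
          (ε : ℂ) * (c : ℂ) * ∑ w ∈ Fs, zetaP p ^ (((w : ZMod p) * (i : ZMod p)).val * j) *
            conj (zetaP p ^ (k.val * j)) := by
        intro j _
        simp only [hh]
        rw [mul_assoc, Finset.sum_mul]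
      rw [Finset.sum_congr rfl h1, ← Finset.mul_sum, Finset.sum_comm]
      congr 1
      apply Finset.sum_congr rfl
      intro w _
      exact sum_orth _ _ (ZMod.val_lt _) (ZMod.val_lt _)
    rw [hfirst, hsecond]
  -- `k = 0`
  have hA0 : ∑ j ∈ Finset.range p, (χ : G → ℂ) (x0 ^ j) * conj (zetaP p ^ ((0 : ZMod p).val * j)) =
      (d : ℂ) - (ε : ℂ) * (c : ℂ) * (f : ℂ) := by
    rw [hA 0]
    have : ∑ w ∈ Fs, (if ((w : ZMod p) * (i : ZMod p)).val = (0 : ZMod p).val then (p : ℂ) else 0) = 0 := by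
      apply Finset.sum_eq_zero
      intro w _
      rw [if_neg]
      intro hw
      have h1 : (w : ZMod p) * (i : ZMod p) = 0 := ZMod.val_injective p hw
      have h2 : ((w * i : (ZMod p)ˣ) : ZMod p) = 0 := by rw [Units.val_mul]; exact h1
      exact Units.ne_zero _ h2
    rw [this, mul_zero, add_zero]
  -- `k = i`
  have h1F : (1 : (ZMod p)ˣ) ∈ Fs := (hmemFs 1).mpr F.one_mem
  have hAi : ∑ j ∈ Finset.range p,
      (χ : G → ℂ) (x0 ^ j) * conj (zetaP p ^ ((i : ZMod p).val * j)) =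
      (d : ℂ) - (ε : ℂ) * (c : ℂ) * (f : ℂ) + (ε : ℂ) * (c : ℂ) * (p : ℂ) := by
    rw [hA (i : ZMod p)]
    have : ∑ w ∈ Fs, (if ((w : ZMod p) * (i : ZMod p)).val = (i : ZMod p).val then (p : ℂ) else 0) = (p : ℂ) := by
      rw [Finset.sum_eq_single_of_mem 1 h1F]
      · rw [if_pos]
        rw [Units.val_one, one_mul]
      · intro w _ hw1
        rw [if_neg]
        intro hw
        have h1 : (w : ZMod p) * (i : ZMod p) = (i : ZMod p) := ZMod.val_injective p hw
        have h2 : w * i = i := Units.ext (by rw [Units.val_mul]; exact h1)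
        exact hw1 (mul_eq_right.mp h2 ▸ rfl)
    rw [this]
  -- the sum over `P`
  have hsumP : ∑ᶠ x ∈ (P : Set G), (χ : G → ℂ) x = (d : ℂ) - (ε : ℂ) * (c : ℂ) * (f : ℂ) := by
    rw [hx0, finsum_mem_zpowers hord, ← hA0]
    apply Finset.sum_congr rfl
    intro j _
    rw [ZMod.val_zero, zero_mul, pow_zero, map_one, mul_one]
  -- integrality
  obtain ⟨m0, hm0⟩ := hpm 0
  obtain ⟨mi, hmi⟩ := hpm (i : ZMod p)
  rw [hA0] at hm0
  rw [hAi] at hmi
  have hm0' : (d : ℤ) - ε * (c : ℤ) * (f : ℤ) = (p : ℤ) * (m0 : ℤ) := by exact_mod_cast hm0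
  have hmi' : (d : ℤ) - ε * (c : ℤ) * (f : ℤ) + ε * (c : ℤ) * (p : ℤ) = (p : ℤ) * (mi : ℤ) := by
    exact_mod_cast hmi
  have hdp : (d : ℤ) = (p : ℤ) - 2 := by
    have h1 : d + 2 = p := by omega
    have h2 : ((d + 2 : ℕ) : ℤ) = (p : ℤ) := by exact_mod_cast h1
    push_cast at h2
    linarith
  have hc1 : (1 : ℤ) ≤ (c : ℤ) := by exact_mod_cast hc
  have hp0 : (0 : ℤ) < (p : ℤ) := by exact_mod_cast hp.out.pos
  have hp5' : (5 : ℤ) < (p : ℤ) := by exact_mod_cast hp5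
  have hm0n : (0 : ℤ) ≤ (m0 : ℤ) := by positivity
  have hmin : (0 : ℤ) ≤ (mi : ℤ) := by positivity
  -- `f ∣ p - 1`
  have hfdvd : f ∣ p - 1 := by
    have h1 : Nat.card F ∣ Nat.card (ZMod p)ˣ := Subgroup.card_subgroup_dvd_card F
    have h2 : Nat.card (ZMod p)ˣ = p - 1 := by
      rw [Nat.card_eq_fintype_card, ZMod.card_units]
    rwa [h2] at h1
  obtain ⟨m, hm⟩ := hfdvd
  have hm1 : 1 ≤ m := by
    rcases Nat.eq_zero_or_pos m with h | h
    · rw [h, mul_zero] at hm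
      omega
    · exact h
  have hfm : (f : ℤ) * (m : ℤ) = (p : ℤ) - 1 := by
    have h1 : f * m + 1 = p := by omega
    have h2 : ((f * m + 1 : ℕ) : ℤ) = (p : ℤ) := by exact_mod_cast h1
    push_cast at h2
    linarith
  rcases hε with hε1 | hε1
  · -- `ε = 1`: `f = 1`, `c = p - 2`
    left
    subst hε1
    have hm00 : m0 = 0 := by
      by_contra hne
      have h1 : (1 : ℤ) ≤ (m0 : ℤ) := by exact_mod_cast Nat.pos_of_ne_zero hne
      have h2 : (p : ℤ) ≤ (p : ℤ) * (m0 : ℤ) := le_mul_of_one_le_right hp0.le h1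
      have h3 : (0 : ℤ) ≤ (c : ℤ) * (f : ℤ) := by positivity
      linarith
    rw [hm00] at hm0'
    have hcf : (c : ℤ) * (f : ℤ) = (p : ℤ) - 2 := by
      simp only [one_mul, Nat.cast_zero, mul_zero] at hm0'
      linarith
    -- `f ∣ p - 1` and `f ∣ p - 2`
    have h1 : (f : ℤ) ∣ 1 := by
      have ha : (f : ℤ) ∣ (p : ℤ) - 1 := ⟨(m : ℤ), hfm.symm⟩
      have hb : (f : ℤ) ∣ (p : ℤ) - 2 := ⟨(c : ℤ), by rw [← hcf]; ring⟩
      have := dvd_sub ha hb
      have h3 : (p : ℤ) - 1 - ((p : ℤ) - 2) = 1 := by ring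
      rwa [h3] at this
    have h2 := Int.le_of_dvd one_pos h1
    have hfpos : (0 : ℤ) < (f : ℤ) := by
      rcases Nat.eq_zero_or_pos f with h | h
      · rw [h] at hfm; simp at hfm; omega
      · exact_mod_cast h
    have hf1 : (f : ℤ) = 1 := by omega
    have hf1' : f = 1 := by exact_mod_cast hf1
    refine ⟨rfl, hf1', ?_⟩
    rw [hf1, mul_one] at hcf
    omega
  · right
    subst hε1
    -- `m0 = mi + c`
    have hrel : (m0 : ℤ) = (mi : ℤ) + (c : ℤ) := by
      have h1 : (p : ℤ) * ((m0 : ℤ) - (mi : ℤ) - (c : ℤ)) = 0 := by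
        have : (p : ℤ) * ((m0 : ℤ) - (mi : ℤ) - (c : ℤ)) =
            (p : ℤ) * (m0 : ℤ) - (p : ℤ) * (mi : ℤ) - (c : ℤ) * (p : ℤ) := by ring
        rw [this, ← hm0', ← hmi']
        ring
      rcases mul_eq_zero.mp h1 with h2 | h2
      · exact absurd h2 hp0.ne'
      · linarith
    rcases Nat.lt_or_ge m 2 with hm2 | hm2
    · -- `f = p - 1`: then `c = d` and `x0` lies in the kernel
      exfalso
      have hm_eq : m = 1 := by omega
      rw [hm_eq, mul_one] at hm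
      have hfp : (f : ℤ) = (p : ℤ) - 1 := by
        rw [hm_eq] at hfm
        push_cast at hfm
        linarith
      have h3 : (d : ℤ) - (c : ℤ) = (p : ℤ) * (mi : ℤ) := by
        have h4 := hmi'
        rw [hfp] at h4
        linarith [h4]
      have hmi00 : mi = 0 := by
        by_contra hne
        have h1 : (1 : ℤ) ≤ (mi : ℤ) := by exact_mod_cast Nat.pos_of_ne_zero hne
        have h2 : (p : ℤ) ≤ (p : ℤ) * (mi : ℤ) := le_mul_of_one_le_right hp0.le h1
        linarith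
      have hdc : d = c := by
        rw [hmi00] at h3
        have : (d : ℤ) = (c : ℤ) := by simp only [Nat.cast_zero, mul_zero] at h3; linarith
        exact_mod_cast this
      have hFsuniv : Fs = Finset.univ := by
        rw [← Finset.card_eq_iff_eq_univ, hcardFs, ZMod.card_units]
        exact hm.symm
      have hx0val : (χ : G → ℂ) x0 = (χ : G → ℂ) 1 := by
        have h5 := hval' 1 (by
          intro hdvd
          have := Nat.le_of_dvd Nat.one_pos hdvd
          omega)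
        rw [pow_one] at h5
        rw [h5, hχ1]
        simp only [hh]
        rw [hFsuniv]
        have h6 : ∑ w : (ZMod p)ˣ, zetaP p ^ (((w : ZMod p) * (i : ZMod p)).val * 1) =
            ∑ u : (ZMod p)ˣ, zetaP p ^ ((u : ZMod p).val) := by
          have h7 := Equiv.sum_comp (Equiv.mulRight i) (fun u : (ZMod p)ˣ => zetaP p ^ ((u : ZMod p).val))
          rw [← h7]
          apply Finset.sum_congr rfl
          intro w _
          rw [mul_one, Equiv.coe_mulRight, Units.val_mul]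
        rw [h6, sum_units_zeta, hdc]
        push_cast
        ring
      have hx01 : x0 = 1 := hfaith x0 hx0val
      rw [hx01, orderOf_one] at hord
      omega
    · -- `2 f ≤ p - 1`
      have hm2' : (2 : ℤ) ≤ (m : ℤ) := by exact_mod_cast hm2
      have h2f' : (2 : ℤ) * (f : ℤ) ≤ (p : ℤ) - 1 := by nlinarith
      -- `c = 1`
      have hc_eq : (c : ℤ) = 1 := by
        by_contra hne
        have hc2 : (2 : ℤ) ≤ (c : ℤ) := by omega
        -- `p m0 = p - 2 + c f ≥ p c`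
        have h5 : (p : ℤ) * (c : ℤ) ≤ (p : ℤ) * (m0 : ℤ) := by
          apply mul_le_mul_of_nonneg_left _ hp0.le
          linarith
        have h6 : (p : ℤ) * (m0 : ℤ) = (p : ℤ) - 2 + (c : ℤ) * (f : ℤ) := by
          rw [← hm0', hdp]; ring
        nlinarith
      have hc_eq' : c = 1 := by exact_mod_cast hc_eq
      have h6 : (p : ℤ) * (m0 : ℤ) = (p : ℤ) - 2 + (f : ℤ) := by
        rw [← hm0', hdp, hc_eq]; ring
      have hm0_eq : (m0 : ℤ) = 1 := by
        have h7 : (0 : ℤ) < (m0 : ℤ) := by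
          by_contra hneg
          have : (m0 : ℤ) = 0 := by omega
          rw [this, mul_zero] at h6
          linarith
        have h8 : (m0 : ℤ) < 2 := by
          by_contra hneg
          have : (2 : ℤ) ≤ (m0 : ℤ) := by omega
          nlinarith
        omega
      have hf_eq : (f : ℤ) = 2 := by
        rw [hm0_eq, mul_one] at h6
        linarith
      have hf_eq' : f = 2 := by exact_mod_cast hf_eq
      refine ⟨rfl, hc_eq', hf_eq', ?_⟩
      rw [hsumP]
      have : ((d : ℤ) : ℂ) - ((-1 : ℤ) : ℂ) * ((c : ℤ) : ℂ) * ((f : ℤ) : ℂ) = ((p : ℤ) : ℂ) := by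
        rw [hdp, hc_eq, hf_eq]; push_cast; ring
      simpa using this

/-- EASYY for degree `p - 2`. -/
theorem sign_degree_of_values_pm2 (χ : IrrCharacter G) (P : Subgroup G) (x0 : G)
    (hx0 : P = Subgroup.zpowers x0) (hord : orderOf x0 = p)
    (F : Subgroup (ZMod p)ˣ) (i : (ZMod p)ˣ) (ε : ℤ) (hε : ε = 1 ∨ ε = -1)
    (c : ℕ) (hc : 0 < c)
    (hval : ∀ j : ℕ, ¬ p ∣ j → (χ : G → ℂ) (x0 ^ j) = (ε : ℂ) * (c : ℂ) *
      ∑ᶠ w ∈ (F : Set (ZMod p)ˣ), zetaP p ^ (((w : ZMod p) * (i : ZMod p)).val * j))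
    (hfaith : ∀ g : G, (χ : G → ℂ) g = (χ : G → ℂ) 1 → g = 1)
    (hp5 : 5 < p) (hdeg : charDegree (χ : G → ℂ) = p - 2) :
    (ε = 1 ∧ Nat.card F = 1 ∧ c = p - 2) ∨
      (ε = -1 ∧ c = 1 ∧ Nat.card F = 2 ∧ ∑ᶠ x ∈ (P : Set G), (χ : G → ℂ) x = (p : ℂ)) :=
  sign_degree_of_values_pm2_of χ P x0 hx0 hord F i ε hε c hc hval hfaith hp5 hdeg
    (fun k => Cfsg.Agent.Lib.Helper15.BREPMULT.exists_sum_twist (χ : G → ℂ)
      (Cfsg.Agent.CharLib.IsIrrCharacter.isCharacter χ.2) x0 hord k)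

end main

end Cfsg.Agent.Lib.Helper14.BRQY
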