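/-
helper14: S4705 support (planner helper6), super-leaf (R1) = Lemma A for a faithful irreducible character of degree `p - 2`:
`ψ` is exceptional in its block, sign `-`, `θ` linear and `N_G(P)`-invariant, `|N_G(P) : C_G(P)| = 2`, the values on `P`,
`ψ (x y) = θ(y) ψ(x)`, and every `p`-regular element of `C_G(P)` is central.  (Same route as `Helper14.BRE2.partE_le`.)
-/
import Mathlib
import Cfsg.Prelude.Def_BlockRank
import Cfsg.Agent.Lib.Helper27.DODefs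
import Cfsg.Agent.Lib.Helper27.BlkAlgDefs2
import Cfsg.Agent.Lib.Helper14.BREData
import Cfsg.Agent.Lib.Helper14.BREDEFPOS
import Cfsg.Agent.Lib.Helper14.BRQX
import Cfsg.Agent.Lib.Helper14.BRQY
import Cfsg.Agent.Lib.Helper14.BRE
import Cfsg.Agent.Lib.Helper8.BRERESY
import Cfsg.Agent.Lib.Helper16.BREFONE
import Cfsg.Agent.Lib.Helper16.DOSETUP
import Cfsg.Agent.Lib.Helper24.IrrFacts
import Cfsg.Agent.Lib.Helper6.FirstMain
import Cfsg.Agent.Lib.Helper1.BRV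
import Cfsg.Agent.Lib.Helper1.BRVNorm
import Cfsg.Agent.Lib.Helper6.CharNorm
import Cfsg.Agent.Lib.Helper6.IndFun
import Cfsg.Agent.Lib.Helper6.BSDefs

set_option autoImplicit false

namespace Cfsg.Agent.Lib.Helper14.BRQ

open Cfsg Cfsg.Agent.Lib.Helper8.DOM Cfsg.Agent.Lib.Helper27.DO Cfsg.Agent.Lib.Helper27.BlkAlg
open Cfsg.Agent.Lib.Helper14.BREDEFPOS Cfsg.Agent.Lib.Helper14.BRQX Cfsg.Agent.Lib.Helper14.BRQY
open Cfsg.Agent.Lib.Helper8.BRERESY Cfsg.Agent.Lib.Helper16.BREFONE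
open Cfsg.Agent.Lib.Helper14.BRE
open Cfsg.Agent.Lib.Helper9.DOBase Cfsg.Agent.Lib.Helper9.DODEG
open scoped ComplexConjugate

universe u

variable {G : Type u} [Group G] [Finite G] {p : ℕ} [Fact p.Prime] {M : Ideal AlgInt}

section data

variable {P : Subgroup G} {B : Set (IrrCharacter G)} {θ : IrrCharacter (Cz P)} {T : Subgroup G} {x0 : G}
  {E : Subgroup (ZMod p)ˣ} {μ : IrrCharacter G → ZMod p → ℤ} {D : IrrCharacter G → G → ℂ}

/-- `θ` linear and `T = N_G(P)`: the value of `χ ∈ B` at `x y` is `θ(y) χ(x)`. -/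
theorem apply_mul_of_inertia_top (d : GSData p P B θ T x0 E μ D)
    (hT : IsInertia P (θ : Cz P → ℂ) T) (hNT : Nz P ≤ T) (hθ1 : charDegree (θ : Cz P → ℂ) = 1)
    (χ : IrrCharacter G) (hχ : χ ∈ B) (x : G) (hx : x ∈ P) (hx1 : x ≠ 1) (y : G) (hy : y ∈ Cz P)
    (hyreg : ¬ p ∣ orderOf y) :
    (χ : G → ℂ) (x * y) = (θ : Cz P → ℂ) ⟨y, hy⟩ * (χ : G → ℂ) x := by
  classical
  haveI : Fintype (Nz P) := Fintype.ofFinite _
  rw [d.val χ hχ x hx hx1 y hy hyreg, apply_of_mem d χ hχ x hx hx1, hθ1, finsum_eq_sum_of_fintype]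
  have h1 : ∀ n : Nz P, extendByZero (Cz P) (θ : Cz P → ℂ) ((n : G) * y * (n : G)⁻¹) =
      (θ : Cz P → ℂ) ⟨y, hy⟩ := by
    intro n
    have hmem : (n : G) * y * (n : G)⁻¹ ∈ Cz P := conj_mem_Cz P n.2 hy
    have h2 := ((hT (n : G)).mp (hNT n.2)).2 ⟨y, hy⟩ ⟨(n : G) * y * (n : G)⁻¹, hmem⟩ rfl
    rw [← h2]
    exact Cfsg.Agent.Lib.Helper6.extendByZero_mem (Cz P) (θ : Cz P → ℂ) hmem
  simp only [h1]
  rw [← Finset.sum_mul, Nat.cast_one, one_mul]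
  ring

/-- a subgroup of order two of `(ℤ/p)ˣ` is `{1, -1}` -/
theorem mem_iff_of_card_two (hp2 : 2 < p) (F : Subgroup (ZMod p)ˣ) (hF2 : Nat.card F = 2) (u : (ZMod p)ˣ) :
    u ∈ F ↔ u = 1 ∨ u = -1 := by
  have hsq : ∀ w ∈ F, w = 1 ∨ w = -1 := by
    intro w hw
    have h1 : (⟨w, hw⟩ : F) ^ Nat.card F = 1 := pow_card_eq_one'
    rw [hF2] at h1
    have h2 : w ^ 2 = 1 := by
      have := congrArg Subtype.val h1
      simpa using this
    have h3 : (w : ZMod p) ^ 2 = 1 := by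
      have := congrArg Units.val h2
      simpa using this
    have h4 : ((w : ZMod p) - 1) * ((w : ZMod p) + 1) = 0 := by ring_nf; rw [h3]; ring
    rcases mul_eq_zero.mp h4 with h5 | h5
    · left
      apply Units.ext
      rw [Units.val_one]
      exact sub_eq_zero.mp h5
    · right
      apply Units.ext
      rw [Units.val_neg, Units.val_one]
      exact eq_neg_of_add_eq_zero_left h5
  constructor
  · exact hsq u
  · rintro (h | h)
    · rw [h]; exact F.one_mem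
    · -- some element of `F` is not `1`
      have hne : ∃ w ∈ F, w ≠ 1 := by
        by_contra hcon
        push Not at hcon
        have hbot : F = ⊥ := by
          rw [Subgroup.eq_bot_iff_forall]
          exact hcon
        rw [hbot] at hF2
        simp at hF2
      obtain ⟨w, hw, hw1⟩ := hne
      rcases hsq w hw with h' | h'
      · exact absurd h' hw1
      · rw [h, ← h']; exact hw

/-- the block theory in `TwoVals` form: `θ` linear, `T = N_G(P)`, `|N_G(P) : C_G(P)| = 2`. -/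
theorem twoVals_of_shape (d : GSData p P B θ T x0 E μ D) (hP : Nat.card P = p) (hp2 : 2 < p)
    (hT : IsInertia P (θ : Cz P → ℂ) T) (hNT : Nz P ≤ T) (hθ1 : charDegree (θ : Cz P → ℂ) = 1)
    (hf2 : (Cz P).relIndex (Nz P) = 2)
    (X : Set (IrrCharacter G)) (ψs : (ZMod p)ˣ → IrrCharacter G) (v : IrrCharacter G → ℤ) (ε : ℤ)
    (hBeq : B = X ∪ Set.range ψs) (hdisj : Disjoint X (Set.range ψs))
    (hψiff : ∀ i j, ψs i = ψs j ↔ i * j⁻¹ ∈ E) (hε : ε = 1 ∨ ε = -1)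
    (hXrow : ∀ χ ∈ X, (v χ = 1 ∨ v χ = -1) ∧ ∀ k : (ZMod p)ˣ, μ χ k - μ χ 0 = - v χ)
    (hYrow : ∀ i k : (ZMod p)ˣ, (k * i⁻¹ ∈ E → μ (ψs i) k - μ (ψs i) 0 = ε) ∧
        (k * i⁻¹ ∉ E → μ (ψs i) k - μ (ψs i) 0 = 0))
    (hrel : ∀ i, ∀ g : G, ¬ p ∣ orderOf g →
        (ε : ℂ) * (ψs i : G → ℂ) g = ∑ᶠ χ ∈ X, (v χ : ℂ) * (χ : G → ℂ) g)
    (a b : IrrCharacter G) (hab : a ≠ b) (hXab : X = {a, b}) :
    Cfsg.Agent.Lib.Helper6.BS.TwoVals p P x0 a b (v a) (v b) ψs ε := by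
  classical
  have hp : p.Prime := Fact.out
  obtain ⟨hCT, hTN⟩ := Cfsg.Agent.Lib.Helper16.DOINERT.le_of_isInertia P θ T hT
  have hCN : Cz P ≤ Nz P := le_trans hCT hTN
  obtain ⟨F, hF, hFcard⟩ := Cfsg.Agent.Lib.Helper16.DOSETUP.exists_E P hP x0 d.gen (Nz P) hCN le_rfl
  have hF2 : Nat.card F = 2 := by rw [hFcard, hf2]
  have hFmem := mem_iff_of_card_two hp2 F hF2
  have hEF : ∀ u : (ZMod p)ˣ, u ∈ E ↔ u ∈ F := by
    intro u
    rw [d.memE u, hF u]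
    constructor
    · rintro ⟨n, hn, h⟩
      exact ⟨n, hTN hn, h⟩
    · rintro ⟨n, hn, h⟩
      exact ⟨n, hNT hn, h⟩
  have hr1 : T.relIndex (Nz P) = 1 := Subgroup.relIndex_eq_one.mpr hNT
  have haX : a ∈ X := by rw [hXab]; exact Set.mem_insert _ _
  have hbX : b ∈ X := by rw [hXab]; exact Set.mem_insert_of_mem _ (Set.mem_singleton _)
  have hrange : ∀ i', ψs i' ∈ B := by
    intro i'
    rw [hBeq]
    exact Or.inr ⟨i', rfl⟩
  have hord := orderOf_x0 d hP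
  have hx0P : x0 ∈ P := by rw [d.gen]; exact Subgroup.mem_zpowers x0
  have hpowP : ∀ j : ℕ, x0 ^ j ∈ P := fun j => P.pow_mem hx0P j
  have hpow1 : ∀ j : ℕ, ¬ p ∣ j → x0 ^ j ≠ 1 := by
    intro j hj h
    apply hj
    rw [← hord]
    exact orderOf_dvd_of_pow_eq_one h
  have hvalX : ∀ χ ∈ X, ∀ j : ℕ, ¬ p ∣ j → (χ : G → ℂ) (x0 ^ j) = (v χ : ℂ) := by
    intro χ hχ j hj
    have h1 := apply_of_const_row d hP hT χ (by rw [hBeq]; exact Or.inl hχ) (v χ) (hXrow χ hχ).2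
      (x0 ^ j) (hpowP j) (hpow1 j hj)
    rw [h1, hr1, hθ1]
    push_cast
    ring
  have hFset : (F : Set (ZMod p)ˣ) = {1, -1} := by
    ext u
    rw [SetLike.mem_coe, hFmem u]
    simp
  have hne1 : (1 : (ZMod p)ˣ) ≠ -1 := by
    intro h
    have h1 : ((1 : (ZMod p)ˣ) : ZMod p) = ((-1 : (ZMod p)ˣ) : ZMod p) := congrArg Units.val h
    rw [Units.val_one, Units.val_neg, Units.val_one] at h1
    haveI : Fact (2 < p) := ⟨hp2⟩
    exact ZMod.neg_one_ne_one h1.symm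
  refine ⟨d.gen, (hXrow a haX).1, (hXrow b hbX).1, hε, hab, ?_, ?_, ?_, hvalX a haX, hvalX b hbX, ?_, ?_⟩
  · intro i h
    exact (Set.disjoint_left.mp hdisj) haX ⟨i, h⟩
  · intro i h
    exact (Set.disjoint_left.mp hdisj) hbX ⟨i, h⟩
  · intro i j
    rw [hψiff i j, hEF, hFmem]
    constructor
    · rintro (h | h)
      · left
        exact mul_inv_eq_one.mp h
      · right
        have : i = -1 * j := mul_inv_eq_iff_eq_mul.mp h
        rw [this, neg_one_mul]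
    · rintro (h | h)
      · left
        rw [h, mul_inv_cancel]
      · right
        rw [h, neg_mul, mul_inv_cancel]
  · intro i j hj
    rw [apply_pow_of_row d hP hT F hF (ψs i) (hrange i) i ε (hYrow i) j hj, hθ1, hFset,
      finsum_mem_pair hne1, Units.val_one, one_mul, Units.val_neg, Units.val_one, neg_one_mul]
    push_cast
    ring
  · intro i g hg
    rw [hrel i g hg, hXab, finsum_mem_pair hab]

end data

/-- (R1): Lemma A for degree `p - 2`, with the non-exceptional part `{χb, χa}` of the block. -/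
theorem partE_pm2_full (hM : IsPModular p M) (P : Subgroup G) (hP : Nat.card P = p) (hSyl : ¬ p ∣ P.index)
    (ψ : IrrCharacter G) (hfaith : ∀ g : G, (ψ : G → ℂ) g = (ψ : G → ℂ) 1 → g = 1)
    (hp5 : 5 < p) (hdeg : charDegree (ψ : G → ℂ) = p - 2) (hnn : ¬ P.Normal) :
    ∃ (x0 : G) (F : Subgroup (ZMod p)ˣ) (ψs : (ZMod p)ˣ → IrrCharacter G) (i : (ZMod p)ˣ)
      (θ : IrrCharacter (Cz P)),
      P = Subgroup.zpowers x0 ∧
      (∀ u : (ZMod p)ˣ, u ∈ F ↔ ∃ n ∈ Nz P, n * x0 * n⁻¹ = x0 ^ (u : ZMod p).val) ∧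
      Nat.card F = 2 ∧
      (Cz P).relIndex (Nz P) = 2 ∧
      ψs i = ψ ∧
      (∀ i' : (ZMod p)ˣ, ψs i' ∈ blockOf M (ψ : G → ℂ)) ∧
      (∀ i' i'' : (ZMod p)ˣ, ψs i' = ψs i'' ↔ i' * i''⁻¹ ∈ F) ∧
      (∀ (i' : (ZMod p)ˣ) (j : ℕ), ¬ p ∣ j → (ψs i' : G → ℂ) (x0 ^ j) =
        - ∑ᶠ w ∈ (F : Set (ZMod p)ˣ), zetaP p ^ (((w : ZMod p) * (i' : ZMod p)).val * j)) ∧
      (∀ (i' : (ZMod p)ˣ) (g : G), ¬ p ∣ orderOf g → (ψs i' : G → ℂ) g = (ψ : G → ℂ) g) ∧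
      (∑ᶠ x ∈ (P : Set G), (ψ : G → ℂ) x = (p : ℂ)) ∧
      charDegree (θ : Cz P → ℂ) = 1 ∧
      (∀ n ∈ Nz P, ∀ c c' : Cz P, (c' : G) = n * c * n⁻¹ → (θ : Cz P → ℂ) c' = (θ : Cz P → ℂ) c) ∧
      (∀ χ ∈ blockOf M (ψ : G → ℂ), ∀ x ∈ P, x ≠ 1 → ∀ (y : G) (hy : y ∈ Cz P), ¬ p ∣ orderOf y →
        (χ : G → ℂ) (x * y) = (θ : Cz P → ℂ) ⟨y, hy⟩ * (χ : G → ℂ) x) ∧
      (∀ y ∈ Cz P, ¬ p ∣ orderOf y → y ∈ Subgroup.center G) ∧
      ∃ (χb χa : IrrCharacter G) (cb : ℕ), χb ≠ χa ∧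
        (∀ χ : IrrCharacter G, χ ∈ blockOf M (ψ : G → ℂ) ↔ χ = χb ∨ χ = χa ∨ χ ∈ Set.range ψs) ∧
        χb ∉ Set.range ψs ∧ χa ∉ Set.range ψs ∧
        (∀ x ∈ P, x ≠ 1 → (χb : G → ℂ) x = 1) ∧
        (∀ x ∈ P, x ≠ 1 → (χa : G → ℂ) x = -1) ∧
        (∀ g : G, ¬ p ∣ orderOf g → (ψ : G → ℂ) g = (χa : G → ℂ) g - (χb : G → ℂ) g) ∧
        charDegree (χb : G → ℂ) = cb * p + 1 ∧ charDegree (χa : G → ℂ) = cb * p + p - 1 ∧
        Cfsg.Agent.Lib.Helper6.BS.TwoVals p P x0 χb χa 1 (-1) ψs (-1) := by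
  classical
  have hp : p.Prime := Fact.out
  have hMmax : M.IsMaximal := hM.2.1
  have hMprime : M.IsPrime := hMmax.isPrime
  obtain ⟨x0, hx0⟩ := Cfsg.Agent.Lib.Helper8.DOFULL.exists_gen P hP
  have hord : orderOf x0 = p := by rw [← hP, hx0, Nat.card_zpowers]
  have hdiv : p ∣ Nat.card G := by
    rw [← hP]
    exact Subgroup.card_subgroup_dvd_card P
  have hψpos := Cfsg.Agent.Lib.Helper24.irr_charDegree_pos ψ
  have hndvd : ¬ p ∣ charDegree (ψ : G → ℂ) := by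
    intro h
    have := Nat.le_of_dvd hψpos h
    omega
  -- the block of `ψ` and its data
  set B : Set (IrrCharacter G) := blockOf M (ψ : G → ℂ) with hBdef
  have hB : IsPBlock M B := ⟨ψ, rfl⟩
  have hd : 0 < blockDefect p B := blockDefect_pos_of_not_dvd hM hdiv ψ hndvd
  obtain ⟨θ, T, E, c, d, hcard⟩ :=
    Cfsg.Agent.Lib.Helper14.BREData.exists_data hM P hP hSyl x0 hx0 B hB hd
  obtain ⟨X, ψs, v, ε, hBeq, hdisj, hXcard, hψiff, hε, hXrow, hYrow, hrel⟩ :=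
    Cfsg.Agent.Lib.Helper8.DOSHAPE.shape_of_data d hcard
  have hψB : ψ ∈ B := Cfsg.Agent.Lib.Helper6.mem_blockOf_self ψ
  have hT := c.hT
  have hp3 : 3 < p := by omega
  -- `ψ` is exceptional
  have hψY : ψ ∈ Set.range ψs := by
    rw [hBeq] at hψB
    rcases hψB with h | h
    · exfalso
      obtain ⟨hv1, hv⟩ := hXrow ψ h
      exact false_of_const_row_pm2 d hP hT ψ (by rw [hBeq]; exact Or.inl h) (v ψ) hv1 hv
        (fun _ => hfaith) hp3 hdeg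
    · exact h
  obtain ⟨i, hi⟩ := hψY
  have hrange : ∀ i', ψs i' ∈ B := by
    intro i'
    rw [hBeq]
    exact Or.inr ⟨i', rfl⟩
  -- the image `F` of `N` in `(ℤ/p)ˣ`
  obtain ⟨hCT, hTN⟩ := Cfsg.Agent.Lib.Helper16.DOINERT.le_of_isInertia P θ T hT
  have hCN : Cz P ≤ Nz P := le_trans hCT hTN
  obtain ⟨F, hF, hFcard⟩ := Cfsg.Agent.Lib.Helper16.DOSETUP.exists_E P hP x0 hx0 (Nz P) hCN le_rfl
  set f := (Cz P).relIndex (Nz P) with hf
  have hθpos := Cfsg.Agent.Lib.Helper24.irr_charDegree_pos θ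
  set cθ := charDegree (θ : Cz P → ℂ) with hcθ
  -- values on `P`
  have hval : ∀ i' : (ZMod p)ˣ, ∀ j : ℕ, ¬ p ∣ j → (ψs i' : G → ℂ) (x0 ^ j) = (ε : ℂ) * (cθ : ℂ) *
      ∑ᶠ w ∈ (F : Set (ZMod p)ˣ), zetaP p ^ (((w : ZMod p) * (i' : ZMod p)).val * j) :=
    fun i' j hj => apply_pow_of_row d hP hT F hF (ψs i') (hrange i') i' ε (hYrow i') j hj
  have hfaith' : ∀ g : G, (ψs i : G → ℂ) g = (ψs i : G → ℂ) 1 → g = 1 := by rw [hi]; exact hfaith
  have hdeg' : charDegree (ψs i : G → ℂ) = p - 2 := by rw [hi]; exact hdeg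
  -- sign, `θ(1)`, `f`
  have hmain : ε = -1 ∧ cθ = 1 ∧ Nat.card F = 2 ∧ ∑ᶠ x ∈ (P : Set G), (ψs i : G → ℂ) x = (p : ℂ) := by
    rcases sign_degree_of_values_pm2 (ψs i) P x0 hx0 hord F i ε hε cθ hθpos (hval i) hfaith' hp5 hdeg'
      with ⟨h1, h2, h3⟩ | h
    · exfalso
      apply hnn
      refine normal_of_card_eq_one (ψs i) P x0 hx0 hord F h2 i ε hε cθ (hval i) ?_ hfaith'
      rw [hdeg', h2, h3, one_mul]
    · exact h
  obtain ⟨hε1, hc1, hF2, hsumP⟩ := hmain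
  rw [hi] at hsumP
  have hf2 : f = 2 := by rw [← hFcard]; exact hF2
  have hεne : (ε : ℂ) ≠ 0 := by
    rw [hε1]; norm_num
  have hreg : ∀ (i' : (ZMod p)ˣ) (g : G), ¬ p ∣ orderOf g → (ψs i' : G → ℂ) g = (ψ : G → ℂ) g := by
    intro i' g hg
    have h1 := hrel i g hg
    have h2 := hrel i' g hg
    rw [← h2, hi] at h1
    exact (mul_left_cancel₀ hεne h1).symm
  have hone : ¬ p ∣ orderOf (1 : G) := by
    rw [orderOf_one]
    exact hp.one_lt.ne' ∘ Nat.dvd_one.mp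
  -- `T = N_G(P)`
  have hmul : (Cz P).relIndex T * T.relIndex (Nz P) = f :=
    Subgroup.relIndex_mul_relIndex (Cz P) T (Nz P) hCT hTN
  have hE2 : Nat.card E ≠ 1 := by
    intro hE1
    rw [hE1] at hXcard
    -- `X = {χ₁}`
    have hX1 : ∃ χ₁, X = {χ₁} := by
      rw [← Set.ncard_eq_one, ← Nat.card_coe_set_eq]
      exact hXcard
    obtain ⟨χ₁, hχ₁⟩ := hX1
    have hχ₁X : χ₁ ∈ X := by rw [hχ₁]; exact Set.mem_singleton _
    obtain ⟨hv1, hv⟩ := hXrow χ₁ hχ₁X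
    have h1 := hrel i 1 hone
    rw [hχ₁, finsum_mem_singleton, hi, Cfsg.Agent.Lib.Helper24.irr_apply_one,
      Cfsg.Agent.Lib.Helper24.irr_apply_one, hε1, hdeg] at h1
    have hχ₁pos := Cfsg.Agent.Lib.Helper24.irr_charDegree_pos χ₁
    have h1' : (-1 : ℤ) * ((p - 2 : ℕ) : ℤ) = v χ₁ * (charDegree (χ₁ : G → ℂ) : ℤ) := by
      exact_mod_cast h1
    have hp2 : ((p - 2 : ℕ) : ℤ) = (p : ℤ) - 2 := by
      have : 2 ≤ p := by omega
      push_cast [Nat.cast_sub this]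
      ring
    rw [hp2] at h1'
    have hpZ : (5 : ℤ) < (p : ℤ) := by exact_mod_cast hp5
    have hdZ : (0 : ℤ) < (charDegree (χ₁ : G → ℂ) : ℤ) := by exact_mod_cast hχ₁pos
    rcases hv1 with hv1 | hv1
    · rw [hv1] at h1'
      linarith
    · rw [hv1] at h1'
      have hdeg₁ : charDegree (χ₁ : G → ℂ) = p - 2 := by
        have : (charDegree (χ₁ : G → ℂ) : ℤ) = (p : ℤ) - 2 := by linarith
        omega
      exact false_of_const_row_pm2 d hP hT χ₁ (by rw [hBeq]; exact Or.inl hχ₁X) (v χ₁) (Or.inr hv1) hv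
        (fun h => by rw [hv1] at h; norm_num at h) hp3 hdeg₁
  have hr1 : T.relIndex (Nz P) = 1 := by
    rw [← d.cardE, hf2] at hmul
    have hEpos : 0 < Nat.card E := Nat.card_pos
    have h2 : Nat.card E ∣ 2 := ⟨_, hmul.symm⟩
    have h3 : Nat.card E = 1 ∨ Nat.card E = 2 := (Nat.dvd_prime Nat.prime_two).mp h2
    rcases h3 with h3 | h3
    · exact absurd h3 hE2
    · rw [h3] at hmul
      omega
  have hNT : Nz P ≤ T := Subgroup.relIndex_eq_one.mp hr1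
  have hEF : ∀ u : (ZMod p)ˣ, u ∈ E ↔ u ∈ F := by
    intro u
    rw [d.memE u, hF u]
    constructor
    · rintro ⟨n, hn, h⟩
      exact ⟨n, hTN hn, h⟩
    · rintro ⟨n, hn, h⟩
      exact ⟨n, hNT hn, h⟩
  -- values on `P C`
  have hvalmul : ∀ χ ∈ B, ∀ x ∈ P, x ≠ 1 → ∀ (y : G) (hy : y ∈ Cz P), ¬ p ∣ orderOf y →
      (χ : G → ℂ) (x * y) = (θ : Cz P → ℂ) ⟨y, hy⟩ * (χ : G → ℂ) x :=
    fun χ hχ x hx hx1 y hy hyreg => apply_mul_of_inertia_top d hT hNT hc1 χ hχ x hx hx1 y hy hyreg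
  -- `ψ|_P` is multiplicity free
  have hθchar : IsCharacter (Cz P) (θ : Cz P → ℂ) := Cfsg.Agent.CharLib.IsIrrCharacter.isCharacter θ.2
  have hθ1 : (θ : Cz P → ℂ) 1 = 1 := by
    rw [Cfsg.Agent.Lib.Helper24.irr_apply_one, ← hcθ, hc1, Nat.cast_one]
  have hθnorm : ∀ c' : Cz P, (θ : Cz P → ℂ) c' * conj ((θ : Cz P → ℂ) c') = 1 :=
    fun c' => Cfsg.Agent.Lib.Helper6.IsCharacter.mul_conj_eq_one_of_apply_one hθchar hθ1 c'
  have hψ1 : (ψ : G → ℂ) 1 = (p : ℂ) - 2 := by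
    rw [Cfsg.Agent.Lib.Helper24.irr_apply_one, hdeg]
    have : 2 ≤ p := by omega
    push_cast [Nat.cast_sub this]
    ring
  have hmf : ∑ᶠ x ∈ (P : Set G), (ψ : G → ℂ) x * conj ((ψ : G → ℂ) x) =
      (p : ℂ) * (charDegree (ψ : G → ℂ) : ℂ) := by
    letI : Fintype P := Fintype.ofFinite P
    set χ' : G → ℂ := fun g => if g = 1 then (2 : ℂ) else - (ψ : G → ℂ) g with hχ'
    have h1 := Cfsg.Agent.Lib.Helper1.BRVNorm.sum_mul_conj_self P x0 hx0 hord F i 1 χ' (by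
      intro j hj
      have hne : x0 ^ j ≠ 1 := by
        intro h
        apply hj
        rw [← hord]
        exact orderOf_dvd_of_pow_eq_one h
      simp only [hχ', if_neg hne]
      rw [← hi, hval i j hj, hε1, hc1]
      push_cast
      ring) (by
      simp only [hχ', if_true, hF2]
      norm_num)
    rw [Cfsg.Agent.Lib.Helper1.BRV.finsum_mem_subgroup_eq_sum] at h1 ⊢
    have h2 : ∀ x : P, (ψ : G → ℂ) x * conj ((ψ : G → ℂ) x) =
        χ' x * conj (χ' x) + (if x = 1 then ((p : ℂ) - 2) ^ 2 - 4 else 0) := by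
      intro x
      by_cases hx : x = 1
      · subst hx
        simp only [hχ', Subgroup.coe_one, if_true, hψ1]
        have h2c : conj (2 : ℂ) = 2 := Complex.conj_ofNat 2
        have : conj ((p : ℂ) - 2) = (p : ℂ) - 2 := by
          rw [map_sub, Complex.conj_natCast, h2c]
        rw [this, h2c]
        ring
      · have hxG : (x : G) ≠ 1 := fun h => hx (Subtype.ext h)
        simp only [hχ', if_neg hxG, if_neg hx, map_neg, add_zero]
        ring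
    rw [Finset.sum_congr rfl (fun x _ => h2 x), Finset.sum_add_distrib, h1, Finset.sum_ite_eq' Finset.univ (1 : P),
      if_pos (Finset.mem_univ _), hF2, hdeg]
    have : 2 ≤ p := by omega
    push_cast [Nat.cast_sub this]
    ring
  have hcentral : ∀ y ∈ Cz P, ¬ p ∣ orderOf y → y ∈ Subgroup.center G := by
    apply Cfsg.Agent.Lib.Helper1.BRV.central_of_self P hP ψ hfaith hmf
    intro x hx hx1 y hy hyreg
    rw [hvalmul ψ hψB x hx hx1 y hy hyreg, map_mul]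
    calc (θ : Cz P → ℂ) ⟨y, hy⟩ * (ψ : G → ℂ) x * (conj ((θ : Cz P → ℂ) ⟨y, hy⟩) * conj ((ψ : G → ℂ) x))
        = ((θ : Cz P → ℂ) ⟨y, hy⟩ * conj ((θ : Cz P → ℂ) ⟨y, hy⟩)) *
          ((ψ : G → ℂ) x * conj ((ψ : G → ℂ) x)) := by ring
      _ = (ψ : G → ℂ) x * conj ((ψ : G → ℂ) x) := by rw [hθnorm, one_mul]
  -- the non-exceptional part
  have hE2' : Nat.card E = 2 := by
    have h1 := hmul
    rw [hr1, mul_one, ← d.cardE, hf2] at h1
    exact h1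
  have hquot : (Cz P).relIndex (Nz P) / (Cz P).relIndex T = 1 := by
    have h1 : (Cz P).relIndex (Nz P) = (Cz P).relIndex T := by
      rw [← Subgroup.relIndex_mul_relIndex (Cz P) T (Nz P) hCT hTN, hr1, mul_one]
    rw [h1]
    exact Nat.div_self (Nat.pos_of_ne_zero (relIndex_ne_zero' _ _))
  have hXpair : ∃ a b : IrrCharacter G, a ≠ b ∧ X = {a, b} := by
    rw [← Set.ncard_eq_two, ← Nat.card_coe_set_eq, hXcard, hE2']
  obtain ⟨a, b, hab, hXab⟩ := hXpair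
  have haX : a ∈ X := by rw [hXab]; exact Set.mem_insert _ _
  have hbX : b ∈ X := by rw [hXab]; exact Set.mem_insert_of_mem _ (Set.mem_singleton _)
  have haB : a ∈ B := by rw [hBeq]; exact Or.inl haX
  have hbB : b ∈ B := by rw [hBeq]; exact Or.inl hbX
  have hrelab : ∀ g : G, ¬ p ∣ orderOf g →
      - (ψ : G → ℂ) g = (v a : ℂ) * (a : G → ℂ) g + (v b : ℂ) * (b : G → ℂ) g := by
    intro g hg
    have h1 := hrel i g hg
    rw [hXab, finsum_mem_pair hab, hi, hε1] at h1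
    rw [← h1]
    push_cast
    ring
  have hvalX : ∀ χ ∈ X, ∀ x ∈ P, x ≠ 1 → (χ : G → ℂ) x = (v χ : ℂ) := by
    intro χ hχ x hx hx1
    have h1 := apply_of_const_row d hP hT χ (by rw [hBeq]; exact Or.inl hχ) (v χ) (hXrow χ hχ).2 x hx hx1
    rw [h1, hr1, ← hcθ, hc1]
    push_cast
    ring
  have hdegX : ∀ χ ∈ X, (charDegree (χ : G → ℂ) : ℤ) ≡ v χ [ZMOD p] := by
    intro χ hχ
    have h1 := Cfsg.Agent.Lib.Helper9.DODEGX.degX_of_data d hP hT χ (by rw [hBeq]; exact Or.inl hχ) (v χ)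
      (hXrow χ hχ).2
    rw [hquot, ← hcθ, hc1] at h1
    simpa using h1
  have hnotY : ∀ χ ∈ X, χ ∉ Set.range ψs := by
    intro χ hχ hχY
    exact (Set.disjoint_left.mp hdisj) hχ hχY
  have hBiff : ∀ a' b' : IrrCharacter G, X = {a', b'} →
      ∀ χ : IrrCharacter G, χ ∈ B ↔ χ = a' ∨ χ = b' ∨ χ ∈ Set.range ψs := by
    intro a' b' hX' χ
    rw [hBeq, Set.mem_union, hX']
    simp only [Set.mem_insert_iff, Set.mem_singleton_iff]
    tauto
  have hrel1 := hrelab 1 hone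
  rw [hψ1, Cfsg.Agent.Lib.Helper24.irr_apply_one, Cfsg.Agent.Lib.Helper24.irr_apply_one] at hrel1
  have hrel1Z : -((p : ℤ) - 2) = v a * (charDegree (a : G → ℂ) : ℤ) + v b * (charDegree (b : G → ℂ) : ℤ) := by
    exact_mod_cast hrel1
  have hapos : (0 : ℤ) < (charDegree (a : G → ℂ) : ℤ) := by
    exact_mod_cast Cfsg.Agent.Lib.Helper24.irr_charDegree_pos a
  have hbpos : (0 : ℤ) < (charDegree (b : G → ℂ) : ℤ) := by
    exact_mod_cast Cfsg.Agent.Lib.Helper24.irr_charDegree_pos b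
  have hpZ : (5 : ℤ) < (p : ℤ) := by exact_mod_cast hp5
  -- the general packaging: `χb` has sign `+`, `χa` has sign `-`
  have hpack : ∀ χb χa : IrrCharacter G, χb ≠ χa → X = {χb, χa} → v χb = 1 → v χa = -1 →
      (charDegree (χa : G → ℂ) : ℤ) = (charDegree (χb : G → ℂ) : ℤ) + (p : ℤ) - 2 →
      (∀ g : G, ¬ p ∣ orderOf g → (ψ : G → ℂ) g = (χa : G → ℂ) g - (χb : G → ℂ) g) →
      ∃ (χb χa : IrrCharacter G) (cb : ℕ), χb ≠ χa ∧
        (∀ χ : IrrCharacter G, χ ∈ B ↔ χ = χb ∨ χ = χa ∨ χ ∈ Set.range ψs) ∧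
        χb ∉ Set.range ψs ∧ χa ∉ Set.range ψs ∧
        (∀ x ∈ P, x ≠ 1 → (χb : G → ℂ) x = 1) ∧
        (∀ x ∈ P, x ≠ 1 → (χa : G → ℂ) x = -1) ∧
        (∀ g : G, ¬ p ∣ orderOf g → (ψ : G → ℂ) g = (χa : G → ℂ) g - (χb : G → ℂ) g) ∧
        charDegree (χb : G → ℂ) = cb * p + 1 ∧ charDegree (χa : G → ℂ) = cb * p + p - 1 ∧
        Cfsg.Agent.Lib.Helper6.BS.TwoVals p P x0 χb χa 1 (-1) ψs (-1) := by
    intro χb χa hne hX' hvb hva hdega hregab
    have hχbX : χb ∈ X := by rw [hX']; exact Set.mem_insert _ _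
    have hχaX : χa ∈ X := by rw [hX']; exact Set.mem_insert_of_mem _ (Set.mem_singleton _)
    have hcongb := hdegX χb hχbX
    rw [hvb] at hcongb
    have hdvd : (p : ℤ) ∣ (charDegree (χb : G → ℂ) : ℤ) - 1 := (Int.modEq_iff_dvd.mp hcongb.symm)
    obtain ⟨k, hk⟩ := hdvd
    have hbpos' : (0 : ℤ) < (charDegree (χb : G → ℂ) : ℤ) := by
      exact_mod_cast Cfsg.Agent.Lib.Helper24.irr_charDegree_pos χb
    have hk0 : 0 ≤ k := by
      by_contra hneg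
      have : k ≤ -1 := by omega
      nlinarith
    obtain ⟨cb, rfl⟩ := Int.eq_ofNat_of_zero_le hk0
    have hdb : charDegree (χb : G → ℂ) = cb * p + 1 := by
      have : (charDegree (χb : G → ℂ) : ℤ) = ((cb * p + 1 : ℕ) : ℤ) := by
        push_cast
        linarith
      exact_mod_cast this
    have hda : charDegree (χa : G → ℂ) = cb * p + p - 1 := by
      have h2 : (charDegree (χa : G → ℂ) : ℤ) = (cb : ℤ) * (p : ℤ) + (p : ℤ) - 1 := by
        rw [hdega]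
        have : (charDegree (χb : G → ℂ) : ℤ) = (cb : ℤ) * (p : ℤ) + 1 := by
          rw [hdb]; push_cast; ring
        rw [this]; ring
      have h3 : 1 ≤ cb * p + p := by
        have := hp.pos
        omega
      have : (charDegree (χa : G → ℂ) : ℤ) = ((cb * p + p - 1 : ℕ) : ℤ) := by
        rw [h2]
        push_cast [Nat.cast_sub h3]
        ring
      exact_mod_cast this
    have htv := twoVals_of_shape d hP (by omega) hT hNT hc1 hf2 X ψs v ε hBeq hdisj hψiff hε hXrow hYrow hrel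
      χb χa hne hX'
    rw [hvb, hva, hε1] at htv
    refine ⟨χb, χa, cb, hne, hBiff χb χa hX', hnotY χb hχbX, hnotY χa hχaX, ?_, ?_, hregab, hdb, hda, htv⟩
    · intro x hx hx1
      rw [hvalX χb hχbX x hx hx1, hvb]
      norm_num
    · intro x hx hx1
      rw [hvalX χa hχaX x hx hx1, hva]
      norm_num
  have hX15 : ∃ (χb χa : IrrCharacter G) (cb : ℕ), χb ≠ χa ∧
        (∀ χ : IrrCharacter G, χ ∈ B ↔ χ = χb ∨ χ = χa ∨ χ ∈ Set.range ψs) ∧
        χb ∉ Set.range ψs ∧ χa ∉ Set.range ψs ∧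
        (∀ x ∈ P, x ≠ 1 → (χb : G → ℂ) x = 1) ∧
        (∀ x ∈ P, x ≠ 1 → (χa : G → ℂ) x = -1) ∧
        (∀ g : G, ¬ p ∣ orderOf g → (ψ : G → ℂ) g = (χa : G → ℂ) g - (χb : G → ℂ) g) ∧
        charDegree (χb : G → ℂ) = cb * p + 1 ∧ charDegree (χa : G → ℂ) = cb * p + p - 1 ∧
        Cfsg.Agent.Lib.Helper6.BS.TwoVals p P x0 χb χa 1 (-1) ψs (-1) := by
    rcases (hXrow a haX).1 with hva | hva <;> rcases (hXrow b hbX).1 with hvb | hvb
    · -- both `+`: impossible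
      exfalso
      rw [hva, hvb] at hrel1Z
      linarith
    · -- `a = χb`, `b = χa`
      rw [hva, hvb] at hrel1Z
      refine hpack a b hab hXab hva hvb (by linarith) ?_
      intro g hg
      have h1 := hrelab g hg
      rw [hva, hvb] at h1
      push_cast at h1
      linear_combination -h1
    · -- `b = χb`, `a = χa`
      rw [hva, hvb] at hrel1Z
      have hXba : X = {b, a} := by rw [hXab]; exact Set.pair_comm a b
      refine hpack b a hab.symm hXba hvb hva (by linarith) ?_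
      intro g hg
      have h1 := hrelab g hg
      rw [hva, hvb] at h1
      push_cast at h1
      linear_combination -h1
    · -- both `-`: degrees `≡ -1`, sum `p - 2`: impossible
      exfalso
      rw [hva, hvb] at hrel1Z
      have hca := hdegX a haX
      have hcb := hdegX b hbX
      rw [hva] at hca
      rw [hvb] at hcb
      have h1 : (p : ℤ) ∣ (charDegree (a : G → ℂ) : ℤ) + 1 := by
        have := Int.modEq_iff_dvd.mp hca.symm
        simpa using this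
      have h2 : (p : ℤ) ∣ (charDegree (b : G → ℂ) : ℤ) + 1 := by
        have := Int.modEq_iff_dvd.mp hcb.symm
        simpa using this
      have h3 := Int.le_of_dvd (by linarith) h1
      have h4 := Int.le_of_dvd (by linarith) h2
      linarith
  refine ⟨x0, F, ψs, i, θ, hx0, hF, hF2, hf2, hi, hrange, ?_, ?_, hreg, hsumP, hc1, ?_, hvalmul, hcentral, hX15⟩
  · intro i' i''
    rw [hψiff i' i'', hEF]
  · intro i' j hj
    rw [hval i' j hj, hε1, hc1]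
    push_cast
    ring
  · intro n hn c₁ c₂ h
    exact ((hT n).mp (hNT hn)).2 c₁ c₂ h

/-- (R1): Lemma A for degree `p - 2` (the exceptional part only), plain form. -/
theorem partE_pm2_plain (hM : IsPModular p M) (P : Subgroup G) (hP : Nat.card P = p) (hSyl : ¬ p ∣ P.index)
    (ψ : IrrCharacter G) (hfaith : ∀ g : G, (ψ : G → ℂ) g = (ψ : G → ℂ) 1 → g = 1)
    (hp5 : 5 < p) (hdeg : charDegree (ψ : G → ℂ) = p - 2) (hnn : ¬ P.Normal) :
    ∃ (x0 : G) (F : Subgroup (ZMod p)ˣ) (ψs : (ZMod p)ˣ → IrrCharacter G) (i : (ZMod p)ˣ)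
      (θ : IrrCharacter (Cz P)),
      P = Subgroup.zpowers x0 ∧
      (∀ u : (ZMod p)ˣ, u ∈ F ↔ ∃ n ∈ Nz P, n * x0 * n⁻¹ = x0 ^ (u : ZMod p).val) ∧
      Nat.card F = 2 ∧
      (Cz P).relIndex (Nz P) = 2 ∧
      ψs i = ψ ∧
      (∀ i' : (ZMod p)ˣ, ψs i' ∈ blockOf M (ψ : G → ℂ)) ∧
      (∀ i' i'' : (ZMod p)ˣ, ψs i' = ψs i'' ↔ i' * i''⁻¹ ∈ F) ∧
      (∀ (i' : (ZMod p)ˣ) (j : ℕ), ¬ p ∣ j → (ψs i' : G → ℂ) (x0 ^ j) =
        - ∑ᶠ w ∈ (F : Set (ZMod p)ˣ), zetaP p ^ (((w : ZMod p) * (i' : ZMod p)).val * j)) ∧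
      (∀ (i' : (ZMod p)ˣ) (g : G), ¬ p ∣ orderOf g → (ψs i' : G → ℂ) g = (ψ : G → ℂ) g) ∧
      (∑ᶠ x ∈ (P : Set G), (ψ : G → ℂ) x = (p : ℂ)) ∧
      charDegree (θ : Cz P → ℂ) = 1 ∧
      (∀ n ∈ Nz P, ∀ c c' : Cz P, (c' : G) = n * c * n⁻¹ → (θ : Cz P → ℂ) c' = (θ : Cz P → ℂ) c) ∧
      (∀ χ ∈ blockOf M (ψ : G → ℂ), ∀ x ∈ P, x ≠ 1 → ∀ (y : G) (hy : y ∈ Cz P), ¬ p ∣ orderOf y →
        (χ : G → ℂ) (x * y) = (θ : Cz P → ℂ) ⟨y, hy⟩ * (χ : G → ℂ) x) ∧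
      (∀ y ∈ Cz P, ¬ p ∣ orderOf y → y ∈ Subgroup.center G) := by
  obtain ⟨x0, F, ψs, i, θ, h1, h2, h3, h4, h5, h6, h7, h8, h9, h10, h11, h12, h13, h14, -⟩ :=
    partE_pm2_full hM P hP hSyl ψ hfaith hp5 hdeg hnn
  exact ⟨x0, F, ψs, i, θ, h1, h2, h3, h4, h5, h6, h7, h8, h9, h10, h11, h12, h13, h14⟩


/-- **BS-R1** (S4705 market, planner helper6): Lemma A for degree `p - 2` in the `TwoVals` format. -/
theorem partE_pm2 (hM : IsPModular p M) (hp5 : 5 < p) (P : Subgroup G) (hP : Nat.card P = p)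
    (hSyl : ¬ p ∣ P.index) (hnn : ¬ P.Normal) (ζ : IrrCharacter G)
    (hfaith : ∀ g : G, (ζ : G → ℂ) g = (ζ : G → ℂ) 1 → g = 1)
    (hdeg : charDegree (ζ : G → ℂ) = p - 2) :
    (Cz P).relIndex (Nz P) = 2 ∧ (∀ y ∈ Cz P, ¬ p ∣ orderOf y → y ∈ Subgroup.center G) ∧
      ∃ (x0 : G) (χb χa : IrrCharacter G) (ψs : (ZMod p)ˣ → IrrCharacter G) (i : (ZMod p)ˣ),
        ψs i = ζ ∧ Cfsg.Agent.Lib.Helper6.BS.TwoVals p P x0 χb χa 1 (-1) ψs (-1) := by
  obtain ⟨x0, F, ψs, i, θ, -, -, -, h4, h5, -, -, -, -, -, -, -, -, h14, χb, χa, cb, -, -, -, -, -, -, -, -, -, htv⟩ :=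
    partE_pm2_full hM P hP hSyl ζ hfaith hp5 hdeg hnn
  exact ⟨h4, h14, x0, χb, χa, ψs, i, h5, htv⟩

end Cfsg.Agent.Lib.Helper14.BRQ
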