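/-
helper14: S4705 market "BS" (planner helper6), leaf BS-B0V: the principal block of a group with a Sylow `p`-subgroup `P`
of order `p` and `|N_G(P) : C_G(P)| = 2`, in the `TwoVals` format (over `Helper14.BRQ.twoVals_of_shape`).
-/
import Mathlib
import Cfsg.Prelude.Def_BlockRank
import Cfsg.Agent.Lib.Helper14.BRQ
import Cfsg.Agent.Lib.Helper7.DOS4441
import Cfsg.Agent.Lib.Helper29.DOSECTION

set_option autoImplicit false

namespace Cfsg.Agent.Lib.Helper14.BRQB0

open Cfsg Cfsg.Agent.Lib.Helper8.DOM Cfsg.Agent.Lib.Helper27.DO Cfsg.Agent.Lib.Helper27.BlkAlg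
open Cfsg.Agent.CharLib Cfsg.Agent.Lib.Helper6.BS Cfsg.Agent.Lib.Helper7.DOS4441
open Cfsg.Agent.Lib.Helper14.BRQ
open scoped ComplexConjugate

universe u

variable {G : Type u} [Group G] [Finite G] {p : ℕ} [Fact p.Prime] {M : Ideal AlgInt}

/-- the trivial character is not of the exceptional shape (`p > 3`) -/
theorem triv_ne_exceptional (hp3 : 3 < p) (P : Subgroup G) (x0 : G) (hord : orderOf x0 = p)
    (ψ : IrrCharacter G) (i : (ZMod p)ˣ) (ε : ℤ) (hε : ε = 1 ∨ ε = -1)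
    (hval : ∀ j : ℕ, ¬ p ∣ j → (ψ : G → ℂ) (x0 ^ j) =
      (ε : ℂ) * (zetaP p ^ ((i : ZMod p).val * j) + zetaP p ^ ((-(i : ZMod p)).val * j))) :
    ψ ≠ trivIrr G := by
  intro hψ
  have hp : p.Prime := Fact.out
  haveI : NeZero p := ⟨hp.ne_zero⟩
  have hζ : IsPrimitiveRoot (zetaP p) p := Complex.isPrimitiveRoot_exp p hp.ne_zero
  set a := (i : ZMod p).val with ha
  set b := (-(i : ZMod p)).val with hb
  have hi0 : (i : ZMod p) ≠ 0 := Units.ne_zero i
  have hab : a + b = p := by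
    rw [ha, hb, ZMod.neg_val, if_neg hi0]
    have := ZMod.val_lt (i : ZMod p)
    omega
  have ha0 : a ≠ 0 := by
    rw [ha]
    intro h
    exact hi0 ((ZMod.val_eq_zero _).mp h)
  have hap : ¬ p ∣ a := by
    intro h
    have h1 := Nat.le_of_dvd (Nat.pos_of_ne_zero ha0) h
    have := ZMod.val_lt (i : ZMod p)
    omega
  set u := zetaP p ^ a with hu
  set w := zetaP p ^ b with hw
  have huw : u * w = 1 := by
    rw [hu, hw, ← pow_add, hab, hζ.pow_eq_one]
  have h1 : ¬ p ∣ 1 := fun h => hp.one_lt.ne' (Nat.dvd_one.mp h)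
  have h2 : ¬ p ∣ 2 := fun h => by
    have := Nat.le_of_dvd (by norm_num) h
    omega
  have e1 := hval 1 h1
  have e2 := hval 2 h2
  rw [hψ] at e1 e2
  simp only [mul_one] at e1
  have ht : ∀ g : G, (trivIrr G : G → ℂ) g = 1 := fun g => rfl
  rw [ht] at e1 e2
  rw [pow_mul, pow_mul] at e2
  change (1 : ℂ) = (ε : ℂ) * (u ^ 2 + w ^ 2) at e2
  change (1 : ℂ) = (ε : ℂ) * (u + w) at e1
  have hεsq : (ε : ℂ) * (ε : ℂ) = 1 := by
    rcases hε with h | h <;> rw [h] <;> norm_num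
  -- `u + w = ε`, `u² + w² = ε`
  have s1 : u + w = (ε : ℂ) := by
    have : (ε : ℂ) * 1 = (ε : ℂ) * ((ε : ℂ) * (u + w)) := by rw [← e1]
    rw [← mul_assoc, hεsq, one_mul, mul_one] at this
    exact this.symm
  have s2 : u ^ 2 + w ^ 2 = (ε : ℂ) := by
    have : (ε : ℂ) * 1 = (ε : ℂ) * ((ε : ℂ) * (u ^ 2 + w ^ 2)) := by rw [← e2]
    rw [← mul_assoc, hεsq, one_mul, mul_one] at this
    exact this.symm
  -- `ε² = ε + 2`, so `ε = -1`
  have s3 : (ε : ℂ) * (ε : ℂ) = (ε : ℂ) + 2 := by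
    have : (u + w) ^ 2 = u ^ 2 + w ^ 2 + 2 * (u * w) := by ring
    rw [s1, s2, huw] at this
    linear_combination this
  have hεm : ε = -1 := by
    rcases hε with h | h
    · exfalso
      rw [h] at s3
      norm_num at s3
    · exact h
  -- `u³ = 1`
  have hu3 : u ^ 3 = 1 := by
    have hw' : w = -1 - u := by
      rw [hεm] at s1
      push_cast at s1
      linear_combination s1
    rw [hw'] at huw
    have : u ^ 3 - 1 = -(u - 1) * (u * (-1 - u) - 1) := by ring
    have h3 : u ^ 3 - 1 = 0 := by rw [this, huw]; ring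
    exact sub_eq_zero.mp h3
  have hprim : IsPrimitiveRoot u p :=
    hζ.pow_of_coprime a ((Nat.Prime.coprime_iff_not_dvd hp).mpr hap).symm
  have := hprim.dvd_of_pow_eq_one 3 hu3
  have := Nat.le_of_dvd (by norm_num) this
  omega

/-- **BS-B0V** (S4705 market, planner helper6): the principal block for `f = 2` in the `TwoVals` format. -/
theorem b0_vals (hM : IsPModular p M) (hp5 : 5 < p) (P : Subgroup G) (hP : Nat.card P = p)
    (hSyl : ¬ p ∣ P.index) (hf : (Cz P).relIndex (Nz P) = 2) :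
    ∃ (x0 : G) (χ₁ : IrrCharacter G) (v : ℤ) (ψs : (ZMod p)ˣ → IrrCharacter G) (ε : ℤ),
      TwoVals p P x0 (trivIrr G) χ₁ 1 v ψs ε ∧
      (∀ g : G, p ∣ orderOf g → (χ₁ : G → ℂ) g = (v : ℂ)) := by
  classical
  have hp : p.Prime := Fact.out
  have hp2 : 2 < p := by omega
  have hp3 : 3 < p := by omega
  obtain ⟨x0, hx0⟩ := exists_gen P hP
  have hord : orderOf x0 = p := by rw [← hP, hx0, Nat.card_zpowers]
  have hdvd : p ∣ Nat.card G := by
    rw [← hP]
    exact Subgroup.card_subgroup_dvd_card P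
  have hd := blockDefect_principal_pos M hM hdvd
  have hB := isPBlock_principal (G := G) M
  obtain ⟨E, c, d, hcard⟩ := Cfsg.Agent.Lib.Helper14.BREData.exists_data_of_root hM P hP hSyl x0 hx0
    (principalBlock M G) hB hd (triv P) (pTriv_triv P) (isInducedBlock_triv M hM P hP x0 hx0) (Nz P)
    (isInertia_triv P)
  obtain ⟨X, ψs, v, ε, hBeq, hdisj, hXcard, hψiff, hε, hXrow, hYrow, hrel⟩ :=
    Cfsg.Agent.Lib.Helper8.DOSHAPE.shape_of_data d hcard
  have hT := isInertia_triv P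
  have hθ1 := charDegree_triv P
  have hE2 : Nat.card E = 2 := by rw [d.cardE, hf]
  obtain ⟨a, b, hab, hXab⟩ : ∃ a b : IrrCharacter G, a ≠ b ∧ X = {a, b} := by
    rw [← Set.ncard_eq_two, ← Nat.card_coe_set_eq, hXcard, hE2]
  have htv := twoVals_of_shape d hP hp2 hT le_rfl hθ1 hf X ψs v ε hBeq hdisj hψiff hε hXrow hYrow hrel
    a b hab hXab
  -- the trivial character is in `X`
  have htriv : trivIrr G ∈ principalBlock M G := trivIrr_mem_principal M hM
  have htrivX : trivIrr G ∈ X := by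
    rw [hBeq] at htriv
    rcases htriv with h | ⟨i, hi⟩
    · exact h
    · exfalso
      exact triv_ne_exceptional hp3 P x0 hord (ψs i) i ε hε (htv.valY i) hi
  have h1 : ¬ p ∣ 1 := fun h => hp.one_lt.ne' (Nat.dvd_one.mp h)
  have hone : ∀ g : G, (trivIrr G : G → ℂ) g = 1 := fun g => rfl
  -- values on all `p`-singular elements
  have hsing : ∀ χ ∈ X, ∀ w : ℤ, (∀ j : ℕ, ¬ p ∣ j → (χ : G → ℂ) (x0 ^ j) = (w : ℂ)) →
      ∀ g : G, p ∣ orderOf g → (χ : G → ℂ) g = (w : ℂ) := by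
    intro χ hχ w hw g hg
    obtain ⟨t, x, y, hxP, hx1, hyC, hyreg, hconj⟩ :=
      Cfsg.Agent.Lib.Helper29.DOSECTION.exists_section P hP hSyl g hg
    have hcf : IsClassFunction G (χ : G → ℂ) :=
      IsCharacter.isClassFunction (IsIrrCharacter.isCharacter χ.2)
    have h2 : (χ : G → ℂ) g = (χ : G → ℂ) (t * g * t⁻¹) := (hcf g t).symm
    have hχB : χ ∈ principalBlock M G := by rw [hBeq]; exact Or.inl hχ
    rw [h2, hconj, apply_mul_of_inertia_top d hT le_rfl hθ1 χ hχB x hxP hx1 y hyC hyreg, triv_apply, one_mul]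
    -- `x` is a power of `x0`
    rw [hx0] at hxP
    obtain ⟨k, hk⟩ := Subgroup.mem_zpowers_iff.mp hxP
    have hk' : x = x0 ^ (k % (p : ℤ)).toNat := by
      rw [← hk, ← zpow_natCast, Int.toNat_of_nonneg (Int.emod_nonneg k (by exact_mod_cast hp.ne_zero)),
        ← hord, zpow_mod_orderOf]
    rw [hk']
    apply hw
    intro hdiv
    apply hx1
    rw [hk']
    obtain ⟨m, hm⟩ := hdiv
    rw [hm, pow_mul, ← hord, pow_orderOf_eq_one, one_pow]
  rw [hXab] at htrivX
  rcases htrivX with h | h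
  · -- `a = trivIrr`
    have hva : v a = 1 := by
      have e := htv.val1 1 h1
      have h3 : (a : G → ℂ) (x0 ^ 1) = 1 := by rw [← h]; rfl
      rw [h3] at e
      have h4 : ((1 : ℤ) : ℂ) = (v a : ℂ) := by simpa using e
      exact_mod_cast h4.symm
    rw [hva, ← h] at htv
    have hbX : b ∈ X := by rw [hXab]; exact Set.mem_insert_of_mem _ (Set.mem_singleton _)
    exact ⟨x0, b, v b, ψs, ε, htv, hsing b hbX (v b) htv.val2⟩
  · -- `b = trivIrr`
    rw [Set.mem_singleton_iff] at h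
    have hXba : X = {b, a} := by rw [hXab]; exact Set.pair_comm a b
    have htv' := twoVals_of_shape d hP hp2 hT le_rfl hθ1 hf X ψs v ε hBeq hdisj hψiff hε hXrow hYrow hrel
      b a hab.symm hXba
    have hvb : v b = 1 := by
      have e := htv'.val1 1 h1
      have h3 : (b : G → ℂ) (x0 ^ 1) = 1 := by rw [← h]; rfl
      rw [h3] at e
      have h4 : ((1 : ℤ) : ℂ) = (v b : ℂ) := by simpa using e
      exact_mod_cast h4.symm
    rw [hvb, ← h] at htv'
    have haX : a ∈ X := by rw [hXab]; exact Set.mem_insert _ _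
    exact ⟨x0, a, v a, ψs, ε, htv', hsing a haX (v a) htv'.val2⟩

end Cfsg.Agent.Lib.Helper14.BRQB0
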