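/-
helper14: S4504 (Brauer, degree (p-1)/2 ⇒ G/Z(G) ≅ PSL2(p)), PART R, piece R1:
a REDUCIBLE faithful character of degree `≤ (p-1)/2` of a group with `p ∥ |G|` forces a normal Sylow `p`-subgroup
(every constituent has degree `< (p-1)/2`; landed S4503 in the quotients by the kernels; helper21's Part R argument).
-/
import Mathlib
import Cfsg.Agent.Lib.Helper21.S4503R
import Cfsg.Agent.Lib.Helper14.BRCore
import Cfsg.Agent.Lib.Helper13.SLBridge

set_option autoImplicit false

namespace Cfsg.Agent.Lib.Helper14.BRR4a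

open Cfsg Cfsg.Agent.CharLib Cfsg.Agent.Lib.Helper21.S4503R

universe u

/-- S4503 in `Small` form: a normal Sylow subgroup. -/
theorem sylow_normal_of_small' {p : ℕ} [hp : Fact p.Prime] {G : Type u} [Group G] [Finite G]
    (h : Small p G) (P : Sylow p G) : (P : Subgroup G).Normal :=
  sylow_normal_of_small (Cfsg.Agent.Lib.Helper14.BRCore.core p hp.out) (Nat.card G) G rfl h P

/-- R1 : a reducible faithful character of degree `≤ (p-1)/2`, `p ∥ |G|`: the Sylow `p`-subgroup is normal. -/
theorem sylow_normal_of_reducible {p : ℕ} [hp : Fact p.Prime] {G : Type u} [Group G] [Finite G]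
    (hdiv : p ∣ Nat.card G) (hsq : ¬ p ^ 2 ∣ Nat.card G) (χ : G → ℂ) (hχ : IsCharacter G χ)
    (hfaith : ∀ g : G, χ g = χ 1 → g = 1) (hdeg : 2 * charDegree χ + 1 ≤ p)
    (hred : ¬ IsIrrCharacter G χ) (P : Sylow p G) : (P : Subgroup G).Normal := by
  classical
  let _ : Fintype G := Fintype.ofFinite G
  obtain ⟨d, hd⟩ := IsCharacter.apply_one hχ
  have hdd : charDegree χ = d := charDegree_eq hd
  set L : Subgroup G := Subgroup.normalClosure ((P : Subgroup G) : Set G) with hL
  have hPL : (P : Subgroup G) ≤ L := Subgroup.le_normalClosure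
  have key : ∀ ψ : G → ℂ, IsIrrCharacter G ψ → classInner χ ψ ≠ 0 → ∀ g ∈ L, ψ (g ^ p) = ψ 1 := by
    intro ψ hψ hc g hg
    obtain ⟨e, he0, he⟩ := IsIrrCharacter.apply_one_pos hψ
    obtain ⟨_, n, hn, hn0⟩ := Cfsg.Agent.Lib.Helper13.constituent_degree hχ hψ hc
    have hed : e < d := by
      rw [hd, he] at hn
      have h1 : d = e + n := by exact_mod_cast hn
      rcases Nat.eq_zero_or_pos n with h0 | h0
      · exfalso
        apply hred
        rw [hn0 h0]
        exact hψ
      · omega
    have hsmalldeg : 2 * e + 1 < p := by omega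
    rcases quotient_data hψ with hf | ⟨K, hKn, β, hK, hβ, hβf, hβψ, hKψ⟩
    · -- `ψ` faithful: S4503 on `G` itself
      have hPn : (P : Subgroup G).Normal :=
        sylow_normal_of_small' ⟨hdiv, hsq, ψ, IsIrrCharacter.isCharacter hψ, hf,
          by rw [charDegree_eq he]; exact hsmalldeg⟩ P
      have hLP : L = (P : Subgroup G) := by
        apply le_antisymm _ hPL
        exact Subgroup.normalClosure_le_normal (le_refl _)
      have hgP : g ∈ (P : Subgroup G) := hLP ▸ hg
      have hcard : Nat.card (P : Subgroup G) = p := card_sylow_eq hdiv hsq P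
      have h1 : (⟨g, hgP⟩ : (P : Subgroup G)) ^ p = 1 := by
        have h0 : (⟨g, hgP⟩ : (P : Subgroup G)) ^ Nat.card (P : Subgroup G) = 1 := pow_card_eq_one'
        rwa [hcard] at h0
      have h2 : g ^ p = 1 := by
        have := congrArg Subtype.val h1
        simpa using this
      rw [h2]
    · have := hKn
      have hcardeq : Nat.card G = Nat.card (G ⧸ K) * Nat.card K :=
        Subgroup.card_eq_card_quotient_mul_card_subgroup K
      have hdvdq : Nat.card (G ⧸ K) ∣ Nat.card G := ⟨Nat.card K, hcardeq⟩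
      have hsq' : ¬ p ^ 2 ∣ Nat.card (G ⧸ K) := fun h => hsq (h.trans hdvdq)
      have hβ1 : β 1 = e := by
        rw [← QuotientGroup.mk_one, hβψ, he]
      have hβdeg : charDegree β = e := charDegree_eq hβ1
      obtain ⟨Q, hQ⟩ := IsPGroup.exists_le_sylow (P.isPGroup'.map (QuotientGroup.mk' K))
      have hQn : (Q : Subgroup (G ⧸ K)).Normal := by
        by_cases hpd : p ∣ Nat.card (G ⧸ K)
        · exact sylow_normal_of_small' ⟨hpd, hsq', β, hβ, hβf, by rw [hβdeg]; exact hsmalldeg⟩ Q
        · have hbot : (Q : Subgroup (G ⧸ K)) = ⊥ := by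
            rw [← Subgroup.card_eq_one, Sylow.card_eq_multiplicity,
              Nat.factorization_eq_zero_of_not_dvd hpd, pow_zero]
          rw [hbot]
          infer_instance
      have hQcard : Nat.card (Q : Subgroup (G ⧸ K)) ∣ p := by
        rw [Sylow.card_eq_multiplicity]
        by_cases hpd : p ∣ Nat.card (G ⧸ K)
        · rw [factorization_eq_one hp.out hpd hsq' Nat.card_pos.ne', pow_one]
        · rw [Nat.factorization_eq_zero_of_not_dvd hpd, pow_zero]
          exact one_dvd _
      have hLle : L ≤ ((Q : Subgroup (G ⧸ K)).comap (QuotientGroup.mk' K)) := by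
        have hLn : ((Q : Subgroup (G ⧸ K)).comap (QuotientGroup.mk' K)).Normal := hQn.comap _
        have hPL' : (P : Subgroup G) ≤ (Q : Subgroup (G ⧸ K)).comap (QuotientGroup.mk' K) :=
          Subgroup.map_le_iff_le_comap.mp hQ
        exact Subgroup.normalClosure_le_normal hPL'
      have hgQ : ((g : G) : G ⧸ K) ∈ (Q : Subgroup (G ⧸ K)) := hLle hg
      have hpow : ((g : G) : G ⧸ K) ^ p = 1 := by
        have h1 : orderOf (⟨(g : G ⧸ K), hgQ⟩ : (Q : Subgroup (G ⧸ K))) ∣
            Nat.card (Q : Subgroup (G ⧸ K)) := orderOf_dvd_natCard _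
        have h2 : (⟨(g : G ⧸ K), hgQ⟩ : (Q : Subgroup (G ⧸ K))) ^ p = 1 :=
          orderOf_dvd_iff_pow_eq_one.mp (h1.trans hQcard)
        have h5 := congrArg Subtype.val h2
        simpa using h5
      have hgK : g ^ p ∈ K := by
        rw [← QuotientGroup.eq_one_iff, QuotientGroup.mk_pow]
        exact hpow
      exact hKψ _ hgK
  have hpow : ∀ g ∈ L, g ^ p = 1 := by
    intro g hg
    by_contra hgne
    have hne : χ (g ^ p) ≠ χ 1 := fun h => hgne (hfaith _ h)
    obtain ⟨ψ, hψ, hc, hne'⟩ := Ito.exists_constituent_ne hχ hne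
    exact hne' (key ψ hψ hc g hg)
  have hLp : IsPGroup p L := by
    intro g
    refine ⟨1, ?_⟩
    rw [pow_one]
    apply Subtype.ext
    simpa using hpow g g.2
  have hLP : L = (P : Subgroup G) := (P.is_maximal' hLp hPL)
  rw [← hLP]
  exact Subgroup.normalClosure_normal

end Cfsg.Agent.Lib.Helper14.BRR4a
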