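/-
helper14: S4504 PART R, piece FOUR: if the Gauss-period function `j ↦ ∑_{w∈F} ζ^{(w i) j}` is invariant under
`j ↦ k j` then `k ∈ F` (Fourier inversion on `ℤ/p`).
-/
import Mathlib
import Cfsg.Prelude.Def_BlockRank
import Cfsg.Agent.Lib.Helper27.DODefs
import Cfsg.Agent.Lib.Helper5.BREEASYYOf

set_option autoImplicit false

namespace Cfsg.Agent.Lib.Helper14.BRR4b

open Cfsg Cfsg.Agent.Lib.Helper27.DO Cfsg.Agent.Lib.Helper5.BREEASYYOf
open scoped ComplexConjugate

variable {p : ℕ} [hp : Fact p.Prime]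

theorem zeta_pow_congr {a b : ℕ} (h : (a : ZMod p) = (b : ZMod p)) : zetaP p ^ a = zetaP p ^ b := by
  have h1 : a % p = b % p := (ZMod.natCast_eq_natCast_iff' a b p).mp h
  rw [pow_eq_pow_mod a zeta_pow_p, pow_eq_pow_mod b zeta_pow_p, h1]

/-- FOUR -/
theorem exists_unit_mem_of_sum_eq (F : Subgroup (ZMod p)ˣ) (i : (ZMod p)ˣ) (k : ℕ) (hk : ¬ p ∣ k)
    (h : ∀ j : ℕ, ¬ p ∣ j →
      ∑ᶠ w ∈ (F : Set (ZMod p)ˣ), zetaP p ^ (((w : ZMod p) * (i : ZMod p)).val * (k * j)) =
      ∑ᶠ w ∈ (F : Set (ZMod p)ˣ), zetaP p ^ (((w : ZMod p) * (i : ZMod p)).val * j)) :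
    ∃ u : (ZMod p)ˣ, (u : ZMod p) = (k : ZMod p) ∧ u ∈ F := by
  classical
  have : NeZero p := ⟨hp.out.ne_zero⟩
  have hcop : Nat.Coprime k p := ((Nat.Prime.coprime_iff_not_dvd hp.out).mpr hk).symm
  set u : (ZMod p)ˣ := ZMod.unitOfCoprime k hcop with hu
  have huk : (u : ZMod p) = (k : ZMod p) := ZMod.coe_unitOfCoprime k hcop
  refine ⟨u, huk, ?_⟩
  set Fs : Finset (ZMod p)ˣ := (Set.toFinite (F : Set (ZMod p)ˣ)).toFinset with hFs
  have hFs_coe : (F : Set (ZMod p)ˣ) = ↑Fs := by rw [hFs, Set.Finite.coe_toFinset]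
  have hmemFs : ∀ w, w ∈ Fs ↔ w ∈ F := by
    intro w
    rw [hFs, Set.Finite.mem_toFinset, SetLike.mem_coe]
  have h' : ∀ j ∈ Finset.range p,
      ∑ w ∈ Fs, zetaP p ^ (((w : ZMod p) * (i : ZMod p) * (u : ZMod p)).val * j) =
      ∑ w ∈ Fs, zetaP p ^ (((w : ZMod p) * (i : ZMod p)).val * j) := by
    intro j hj
    by_cases hj0 : j = 0
    · subst hj0
      simp
    · have hjp : ¬ p ∣ j := by
        intro hdvd
        have := Nat.le_of_dvd (Nat.pos_of_ne_zero hj0) hdvd
        have := Finset.mem_range.mp hj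
        omega
      have h1 := h j hjp
      rw [hFs_coe, finsum_mem_coe_finset, finsum_mem_coe_finset] at h1
      rw [← h1]
      apply Finset.sum_congr rfl
      intro w _
      apply zeta_pow_congr
      push_cast
      rw [ZMod.natCast_zmod_val, ZMod.natCast_zmod_val, huk]
      ring
  -- test against the frequency `i u`
  have h1F : (1 : (ZMod p)ˣ) ∈ Fs := (hmemFs 1).mpr F.one_mem
  have hL : ∑ j ∈ Finset.range p,
      (∑ w ∈ Fs, zetaP p ^ (((w : ZMod p) * (i : ZMod p) * (u : ZMod p)).val * j)) *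
        conj (zetaP p ^ (((i : ZMod p) * (u : ZMod p)).val * j)) = (p : ℂ) := by
    simp_rw [Finset.sum_mul]
    rw [Finset.sum_comm]
    have : ∀ w ∈ Fs, ∑ j ∈ Finset.range p,
        zetaP p ^ (((w : ZMod p) * (i : ZMod p) * (u : ZMod p)).val * j) *
          conj (zetaP p ^ (((i : ZMod p) * (u : ZMod p)).val * j)) =
        if w = 1 then (p : ℂ) else 0 := by
      intro w _
      rw [sum_orth _ _ (ZMod.val_lt _) (ZMod.val_lt _)]
      by_cases hw : w = 1
      · subst hw
        simp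
      · rw [if_neg hw, if_neg]
        intro hval
        have h2 : (w : ZMod p) * (i : ZMod p) * (u : ZMod p) = (i : ZMod p) * (u : ZMod p) :=
          ZMod.val_injective p hval
        have h3 : w * (i * u) = i * u := by
          apply Units.ext
          push_cast
          rw [← mul_assoc]
          exact h2
        exact hw (mul_eq_right.mp h3)
    rw [Finset.sum_congr rfl this, Finset.sum_ite_eq' Fs 1, if_pos h1F]
  have hR : ∑ j ∈ Finset.range p,
      (∑ w ∈ Fs, zetaP p ^ (((w : ZMod p) * (i : ZMod p)).val * j)) *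
        conj (zetaP p ^ (((i : ZMod p) * (u : ZMod p)).val * j)) =
      if u ∈ Fs then (p : ℂ) else 0 := by
    simp_rw [Finset.sum_mul]
    rw [Finset.sum_comm]
    have : ∀ w ∈ Fs, ∑ j ∈ Finset.range p,
        zetaP p ^ (((w : ZMod p) * (i : ZMod p)).val * j) *
          conj (zetaP p ^ (((i : ZMod p) * (u : ZMod p)).val * j)) =
        if w = u then (p : ℂ) else 0 := by
      intro w _
      rw [sum_orth _ _ (ZMod.val_lt _) (ZMod.val_lt _)]
      by_cases hw : w = u
      · subst hw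
        rw [if_pos rfl, if_pos]
        rw [mul_comm]
      · rw [if_neg hw, if_neg]
        intro hval
        have h2 : (w : ZMod p) * (i : ZMod p) = (i : ZMod p) * (u : ZMod p) :=
          ZMod.val_injective p hval
        have h3 : w * i = u * i := by
          apply Units.ext
          push_cast
          rw [h2, mul_comm]
        exact hw (mul_right_cancel h3)
    rw [Finset.sum_congr rfl this, Finset.sum_ite_eq' Fs u]
  have hLR : (p : ℂ) = if u ∈ Fs then (p : ℂ) else 0 := by
    have hsame : ∑ j ∈ Finset.range p,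
        (∑ w ∈ Fs, zetaP p ^ (((w : ZMod p) * (i : ZMod p) * (u : ZMod p)).val * j)) *
          conj (zetaP p ^ (((i : ZMod p) * (u : ZMod p)).val * j)) =
        ∑ j ∈ Finset.range p,
        (∑ w ∈ Fs, zetaP p ^ (((w : ZMod p) * (i : ZMod p)).val * j)) *
          conj (zetaP p ^ (((i : ZMod p) * (u : ZMod p)).val * j)) := by
      apply Finset.sum_congr rfl
      intro j hj
      rw [h' j hj]
    rw [hL, hR] at hsame
    exact hsame
  by_contra hnot
  rw [if_neg (fun hmem => hnot ((hmemFs u).mp hmem))] at hLR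
  exact hp.out.ne_zero (by exact_mod_cast hLR)

end Cfsg.Agent.Lib.Helper14.BRR4b
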