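/-
helper14: S4504 (Brauer: `p ∥ |G|`, no normal subgroup of order `p`, faithful character of degree `(p-1)/2` ⇒
`G/Z(G) ≅ PSL(2,p)`), PART R: the reduction to the CORE case of an irreducible faithful character of a group
generated by the conjugates of a Sylow `p`-subgroup, and the way back (`G = ⟨P^G⟩ Z(G)`).
-/
import Mathlib
import Cfsg.Prelude.Def_Characters
import Cfsg.Prelude.Def_Blocks
import Cfsg.Agent.Lib.Helper14.BRR4a
import Cfsg.Agent.Lib.Helper14.BRR4b
import Cfsg.Agent.Lib.Helper14.BRR4c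
import Cfsg.Agent.Lib.Helper14.BRR4d
import Cfsg.Agent.Lib.Helper14.BRE2
import Cfsg.Agent.Lib.Helper6.Knoerr

set_option autoImplicit false

namespace Cfsg.Agent.Lib.Helper14.BRR4

open Cfsg Cfsg.Agent.CharLib Cfsg.Agent.Lib.Helper21.S4503R Cfsg.Agent.Lib.Helper27.DO
open Cfsg.Agent.Lib.Helper8.DOM
open scoped ComplexConjugate

universe u

/-- The CORE statement of S4504: an irreducible faithful character of degree `(p-1)/2` of a group generated by the
conjugates of a non-normal Sylow `p`-subgroup of order `p`. -/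
def Core4504 (p : ℕ) : Prop :=
  ∀ (H : Type u) [Group H] [Finite H], p ∣ Nat.card H → ¬ p ^ 2 ∣ Nat.card H →
    ∀ P : Sylow p H, Subgroup.normalClosure ((P : Subgroup H) : Set H) = ⊤ → ¬ (P : Subgroup H).Normal →
    ∀ ψ : H → ℂ, IsIrrCharacter H ψ → (∀ g : H, ψ g = ψ 1 → g = 1) → 2 * charDegree ψ + 1 = p →
      Nat.card (Sylow p H) = p + 1 ∧
      Nonempty (H ⧸ Subgroup.center H ≃* Matrix.ProjectiveSpecialLinearGroup (Fin 2) (ZMod p))

/-- `G = H Z(G)` gives `G/Z(G) ≅ H/Z(H)`. -/
theorem quotient_center_equiv {G : Type u} [Group G] (H : Subgroup G)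
    (hprod : ∀ g : G, ∃ h ∈ H, ∃ z ∈ Subgroup.center G, g = h * z) :
    Nonempty ((↥H ⧸ Subgroup.center ↥H) ≃* (G ⧸ Subgroup.center G)) := by
  set φ : ↥H →* G ⧸ Subgroup.center G := (QuotientGroup.mk' (Subgroup.center G)).comp H.subtype with hφ
  have hsurj : Function.Surjective φ := by
    intro q
    obtain ⟨g, rfl⟩ := QuotientGroup.mk_surjective q
    obtain ⟨h, hh, z, hz, rfl⟩ := hprod g
    refine ⟨⟨h, hh⟩, ?_⟩
    show ((h : G) : G ⧸ Subgroup.center G) = ((h * z : G) : G ⧸ Subgroup.center G)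
    rw [QuotientGroup.mk_mul, (QuotientGroup.eq_one_iff z).mpr hz, mul_one]
  have hker : φ.ker = Subgroup.center ↥H := by
    ext h
    rw [MonoidHom.mem_ker]
    have h1 : φ h = ((h : G) : G ⧸ Subgroup.center G) := rfl
    rw [h1, QuotientGroup.eq_one_iff, Subgroup.mem_center_iff, Subgroup.mem_center_iff]
    constructor
    · intro hc g
      apply Subtype.ext
      simpa using hc (g : G)
    · intro hc g
      obtain ⟨h', hh', z, hz, rfl⟩ := hprod g
      have h2 : h' * (h : G) = (h : G) * h' := by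
        have := congrArg Subtype.val (hc ⟨h', hh'⟩)
        simpa using this
      have h3 : z * (h : G) = (h : G) * z := (Subgroup.mem_center_iff.mp hz (h : G)).symm
      calc h' * z * (h : G) = h' * (z * (h : G)) := by group
        _ = h' * ((h : G) * z) := by rw [h3]
        _ = (h' * (h : G)) * z := by group
        _ = ((h : G) * h') * z := by rw [h2]
        _ = (h : G) * (h' * z) := by group
  have e1 : ↥H ⧸ φ.ker ≃* G ⧸ Subgroup.center G := QuotientGroup.quotientKerEquivOfSurjective φ hsurj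
  have e2 : ↥H ⧸ Subgroup.center ↥H ≃* ↥H ⧸ φ.ker := QuotientGroup.quotientMulEquivOfEq hker.symm
  exact ⟨e2.trans e1⟩

end Cfsg.Agent.Lib.Helper14.BRR4
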