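/-
helper14: S4504 (VI) market (sub-planner helper23), leaf BRVI-DSIDE (`d_side`): the alternating sum of the twisted
class-multiplication sums over `Irr(G | θ)`; only `ψ`, `ψ'` survive.
-/
import Mathlib
import Cfsg.Prelude.Def_BlockRank
import Cfsg.Agent.Lib.Helper6.BRHDefs
import Cfsg.Agent.Lib.Helper23.BRVIDefs

set_option autoImplicit false

namespace Cfsg.Agent.Lib.Helper14.BRVIDSIDE

open Cfsg Cfsg.Agent.Lib.Helper8.DOM Cfsg.Agent.Lib.Helper27.DO Cfsg.Agent.CharLib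
open Cfsg.Agent.Lib.Helper6.BRH Cfsg.Agent.Lib.Helper23.BRVI
open scoped ComplexConjugate

universe u

variable {G : Type u} [Group G] [Finite G] {p : ℕ} [Fact p.Prime]

/-- DSIDE : the alternating sum of the twisted constants over `Irr(G | θ)`. -/
theorem d_side (ψ ψ' : IrrCharacter G) (hne : ψ ≠ ψ') (hψ' : ψ' ∈ cset ψ) (x x' y : G) (f : ℕ) (hf : 0 < f)
    (h1 : (ψ : G → ℂ) 1 = (f : ℂ)) (h1' : (ψ' : G → ℂ) 1 = (f : ℂ))
    (hy : (ψ' : G → ℂ) y = (ψ : G → ℂ) y)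
    (hxx : (ψ' : G → ℂ) x = (ψ : G → ℂ) x') (hxx' : (ψ' : G → ℂ) x' = (ψ : G → ℂ) x)
    (hn : Complex.normSq ((ψ : G → ℂ) x - (ψ : G → ℂ) x') = (p : ℝ))
    (hcol : ∑ᶠ χ ∈ cset ψ, Complex.normSq ((χ : G → ℂ) x - (χ : G → ℂ) x') = 2 * (p : ℝ)) :
    Tc (cset ψ) x x y - Tc (cset ψ) x x' y - Tc (cset ψ) x' x y + Tc (cset ψ) x' x' y =
      2 * ((ψ : G → ℂ) x - (ψ : G → ℂ) x') ^ 2 * conj ((ψ : G → ℂ) y) / (f : ℂ) := by
  classical
  have hfin : (cset ψ).Finite := Set.toFinite _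
  set S : Finset (IrrCharacter G) := hfin.toFinset with hS
  have hmemS : ∀ χ, χ ∈ S ↔ χ ∈ cset ψ := fun χ => by rw [hS, Set.Finite.mem_toFinset]
  have hψS : ψ ∈ S := by
    rw [hmemS]
    intro z _
    rfl
  have hψ'S : ψ' ∈ S := (hmemS ψ').mpr hψ'
  -- everything as Finset sums
  have hTc : ∀ a b : G, Tc (cset ψ) a b y =
      ∑ χ ∈ S, (χ : G → ℂ) a * (χ : G → ℂ) b * conj ((χ : G → ℂ) y) / (χ : G → ℂ) 1 := by
    intro a b
    unfold Tc
    rw [finsum_mem_eq_finite_toFinset_sum _ hfin]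
  rw [hTc, hTc, hTc, hTc, ← Finset.sum_sub_distrib, ← Finset.sum_sub_distrib, ← Finset.sum_add_distrib]
  rw [finsum_mem_eq_finite_toFinset_sum _ hfin] at hcol
  -- the other characters do not separate `x`, `x'`
  have hψ'n : Complex.normSq ((ψ' : G → ℂ) x - (ψ' : G → ℂ) x') = (p : ℝ) := by
    rw [hxx, hxx', ← hn, ← Complex.normSq_neg]
    congr 1
    ring
  have hzero : ∀ χ ∈ S, χ ≠ ψ → χ ≠ ψ' → (χ : G → ℂ) x = (χ : G → ℂ) x' := by
    intro χ hχ hχψ hχψ'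
    have hsplit : ∑ χ ∈ S, Complex.normSq ((χ : G → ℂ) x - (χ : G → ℂ) x') =
        Complex.normSq ((ψ : G → ℂ) x - (ψ : G → ℂ) x') +
        (Complex.normSq ((ψ' : G → ℂ) x - (ψ' : G → ℂ) x') +
          ∑ χ ∈ (S.erase ψ).erase ψ', Complex.normSq ((χ : G → ℂ) x - (χ : G → ℂ) x')) := by
      rw [← Finset.add_sum_erase S _ hψS,
        ← Finset.add_sum_erase (S.erase ψ) _ (Finset.mem_erase.mpr ⟨hne.symm, hψ'S⟩)]
    rw [hsplit, hn, hψ'n] at hcol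
    have hrest : ∑ χ ∈ (S.erase ψ).erase ψ', Complex.normSq ((χ : G → ℂ) x - (χ : G → ℂ) x') = 0 := by
      linarith
    have hχmem : χ ∈ (S.erase ψ).erase ψ' :=
      Finset.mem_erase.mpr ⟨hχψ', Finset.mem_erase.mpr ⟨hχψ, hχ⟩⟩
    have h0 := (Finset.sum_eq_zero_iff_of_nonneg (fun χ _ => Complex.normSq_nonneg _)).mp hrest χ hχmem
    exact sub_eq_zero.mp (Complex.normSq_eq_zero.mp h0)
  -- the summand
  have hterm : ∀ χ ∈ S,
      (χ : G → ℂ) x * (χ : G → ℂ) x * conj ((χ : G → ℂ) y) / (χ : G → ℂ) 1 -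
        (χ : G → ℂ) x * (χ : G → ℂ) x' * conj ((χ : G → ℂ) y) / (χ : G → ℂ) 1 -
        (χ : G → ℂ) x' * (χ : G → ℂ) x * conj ((χ : G → ℂ) y) / (χ : G → ℂ) 1 +
        (χ : G → ℂ) x' * (χ : G → ℂ) x' * conj ((χ : G → ℂ) y) / (χ : G → ℂ) 1 =
      if χ = ψ ∨ χ = ψ' then
        ((ψ : G → ℂ) x - (ψ : G → ℂ) x') ^ 2 * conj ((ψ : G → ℂ) y) / (f : ℂ) else 0 := by
    intro χ hχ
    by_cases hc1 : χ = ψ
    · rw [if_pos (Or.inl hc1), hc1, h1]
      ring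
    · by_cases hc2 : χ = ψ'
      · rw [if_pos (Or.inr hc2), hc2, h1', hxx, hxx', hy]
        ring
      · rw [if_neg (by tauto), hzero χ hχ hc1 hc2]
        ring
  rw [Finset.sum_congr rfl hterm, Finset.sum_ite, Finset.sum_const_zero, add_zero, Finset.sum_const]
  have hcard : (S.filter (fun χ => χ = ψ ∨ χ = ψ')).card = 2 := by
    have : S.filter (fun χ => χ = ψ ∨ χ = ψ') = {ψ, ψ'} := by
      ext χ
      simp only [Finset.mem_filter, Finset.mem_insert, Finset.mem_singleton]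
      constructor
      · exact fun h => h.2
      · rintro (h | h)
        · exact ⟨h ▸ hψS, Or.inl h⟩
        · exact ⟨h ▸ hψ'S, Or.inr h⟩
    rw [this, Finset.card_pair hne]
  rw [hcard]
  simp only [nsmul_eq_mul, Nat.cast_ofNat]
  ring

end Cfsg.Agent.Lib.Helper14.BRVIDSIDE
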