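/-
helper14: S4504 (VI) market (sub-planner helper23), leaf BRVI-EVAL (`e_eval`) (twin): the value of the right side of
ESIDE at a `p`-regular element, `2 (2f+1) (f + R) / (f (f+1))` in both cases.
-/
import Mathlib
import Cfsg.Prelude.Def_BlockRank
import Cfsg.Agent.Lib.Helper6.BRHDefs
import Cfsg.Agent.Lib.Helper23.BRVIDefs
import Cfsg.Agent.Lib.Helper23.BRVITCOL
import Cfsg.Agent.Lib.Helper29.BRVISING

set_option autoImplicit false

namespace Cfsg.Agent.Lib.Helper14.BRVIEVAL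

open Cfsg Cfsg.Agent.Lib.Helper8.DOM Cfsg.Agent.Lib.Helper27.DO Cfsg.Agent.CharLib
open Cfsg.Agent.Lib.Helper6.BRH Cfsg.Agent.Lib.Helper23.BRVI
open scoped ComplexConjugate

universe u

variable {G : Type u} [Group G] [Finite G] {p : ℕ} [Fact p.Prime]

/-- EVAL : the value of the right side of ESIDE at a `p`-regular element, in both cases. -/
theorem e_eval (P : Subgroup G) (hP : Nat.card P = p) (f : ℕ) (hf : (Cz P).relIndex (Nz P) = f) (hf2 : 2 ≤ f)
    (h2f : 2 * f = p - 1)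
    (ψ ψ' : IrrCharacter G) (hreg : ∀ g : G, ¬ p ∣ orderOf g → (ψ' : G → ℂ) g = (ψ : G → ℂ) g)
    (X Y : Set (IrrCharacter G)) (v : IrrCharacter G → ℤ) (ε : ℤ) (d : B0 p P X Y v ε)
    (hYreg : ∀ ξ ∈ Y, ∀ ξ' ∈ Y, ∀ g : G, ¬ p ∣ orderOf g → (ξ : G → ℂ) g = (ξ' : G → ℂ) g)
    (hdegp : ∀ η ∈ X, v η = 1 → η ≠ trivIrr G → charDegree (η : G → ℂ) = p + 1)
    (hdegm : ∀ η ∈ X, v η = -1 → charDegree (η : G → ℂ) = p - 1)
    (hcase : CaseA f ψ ψ' X Y v ∨ CaseB f ψ ψ' X Y v) (y : G) (hy : ¬ p ∣ orderOf y) :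
    4 * ∑ᶠ η ∈ X, conj ((η : G → ℂ) y) / (η : G → ℂ) 1 + ∑ᶠ ξ ∈ Y, conj ((ξ : G → ℂ) y) / (ξ : G → ℂ) 1 =
      ((2 * (2 * (f : ℝ) + 1) * ((f : ℝ) + Complex.normSq ((ψ : G → ℂ) y)) / ((f : ℝ) * ((f : ℝ) + 1)) : ℝ) : ℂ) := by
  classical
  let _ : Fintype (IrrCharacter G) := Fintype.ofFinite _
  have hpp : p.Prime := Fact.out
  have hp2 := hpp.two_le
  have hpf : p = 2 * f + 1 := by omega
  -- `v 1 = 1`
  have hv1 : v (trivIrr G) = 1 := by
    obtain ⟨x, hx, hxs⟩ := Cfsg.Agent.Lib.Helper29.BRVISING.exists_singular P hP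
    have h1 := d.valX (trivIrr G) d.trivX x hxs
    have h2 : ((trivIrr G : IrrCharacter G) : G → ℂ) x = 1 := rfl
    rw [h2] at h1
    have : ((1 : ℤ) : ℂ) = ((v (trivIrr G) : ℤ) : ℂ) := by rw [← h1]; norm_num
    exact (Int.cast_injective this).symm
  -- the pieces of `X`
  have hXsplit : ∀ η : IrrCharacter G, η ∈ X ↔ (η = trivIrr G ∨ η ∈ Xp X v ∨ η ∈ Xm X v) := by
    intro η
    constructor
    · intro hη
      rcases d.sgnX η hη with h | h
      · by_cases ht : η = trivIrr G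
        · exact Or.inl ht
        · exact Or.inr (Or.inl ⟨hη, h, ht⟩)
      · exact Or.inr (Or.inr ⟨hη, h⟩)
    · rintro (h | h | h)
      · rw [h]; exact d.trivX
      · exact h.1
      · exact h.1
  have hnotp : trivIrr G ∉ Xp X v := fun h => h.2.2 rfl
  have hnotm : trivIrr G ∉ Xm X v := by
    intro h
    have := h.2
    rw [hv1] at this
    omega
  have hpm : ∀ η, η ∈ Xp X v → η ∉ Xm X v := by
    intro η h h'
    have h1 := h.2.1
    have h2 := h'.2
    omega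
  have hfC : (f : ℂ) ≠ 0 := Nat.cast_ne_zero.mpr (by omega)
  have hf1C : (f : ℂ) + 1 ≠ 0 := by
    have : ((f + 1 : ℕ) : ℂ) ≠ 0 := Nat.cast_ne_zero.mpr (by omega)
    simpa using this
  -- degrees
  have hdeg1 : ((trivIrr G : IrrCharacter G) : G → ℂ) 1 = 1 := rfl
  have hdegP : ∀ η ∈ Xp X v, (η : G → ℂ) 1 = 2 * ((f : ℂ) + 1) := by
    intro η hη
    rw [apply_one_eq, hdegp η hη.1 hη.2.1 hη.2.2, hpf]
    push_cast
    ring
  have hdegM : ∀ η ∈ Xm X v, (η : G → ℂ) 1 = 2 * (f : ℂ) := by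
    intro η hη
    rw [apply_one_eq, hdegm η hη.1 hη.2, hpf]
    have : 2 * f + 1 - 1 = 2 * f := by omega
    rw [this]
    push_cast
    ring
  -- the sum over `X`
  set A : ℂ := ∑ᶠ η ∈ Xp X v, (η : G → ℂ) y with hA
  set B : ℂ := ∑ᶠ η ∈ Xm X v, (η : G → ℂ) y with hB
  have hAsum : A = ∑ η, if η ∈ Xp X v then (η : G → ℂ) y else 0 :=
    Cfsg.Agent.Lib.Helper23.BRVITCOL.finsum_mem_eq_sum_ite _ _
  have hBsum : B = ∑ η, if η ∈ Xm X v then (η : G → ℂ) y else 0 :=
    Cfsg.Agent.Lib.Helper23.BRVITCOL.finsum_mem_eq_sum_ite _ _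
  have hXsum : ∑ᶠ η ∈ X, conj ((η : G → ℂ) y) / (η : G → ℂ) 1 =
      1 + conj A / (2 * ((f : ℂ) + 1)) + conj B / (2 * (f : ℂ)) := by
    rw [Cfsg.Agent.Lib.Helper23.BRVITCOL.finsum_mem_eq_sum_ite, hAsum, hBsum, map_sum, map_sum,
      Finset.sum_div, Finset.sum_div]
    have hterm : ∀ η : IrrCharacter G,
        (if η ∈ X then conj ((η : G → ℂ) y) / (η : G → ℂ) 1 else 0) =
        (if η = trivIrr G then (1 : ℂ) else 0) +
          conj (if η ∈ Xp X v then (η : G → ℂ) y else 0) / (2 * ((f : ℂ) + 1)) +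
          conj (if η ∈ Xm X v then (η : G → ℂ) y else 0) / (2 * (f : ℂ)) := by
      intro η
      by_cases h0 : η = trivIrr G
      · subst h0
        rw [if_pos d.trivX, if_pos rfl, if_neg hnotp, if_neg hnotm, hdeg1]
        have : ((trivIrr G : IrrCharacter G) : G → ℂ) y = 1 := rfl
        rw [this]
        simp
      · by_cases h1 : η ∈ Xp X v
        · rw [if_pos h1.1, if_neg h0, if_pos h1, if_neg (hpm η h1), hdegP η h1]
          simp
        · by_cases h2 : η ∈ Xm X v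
          · rw [if_pos h2.1, if_neg h0, if_neg h1, if_pos h2, hdegM η h2]
            simp
          · have hnX : η ∉ X := by
              intro hX
              rcases (hXsplit η).mp hX with h | h | h
              · exact h0 h
              · exact h1 h
              · exact h2 h
            rw [if_neg hnX, if_neg h0, if_neg h1, if_neg h2]
            simp
    rw [Finset.sum_congr rfl (fun η _ => hterm η), Finset.sum_add_distrib, Finset.sum_add_distrib,
      Finset.sum_ite_eq' Finset.univ (trivIrr G), if_pos (Finset.mem_univ _)]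
  -- the sum over `Y`
  have hYcard : (Finset.univ.filter (fun ξ : IrrCharacter G => ξ ∈ Y)).card = 2 := by
    have h1 := d.cardY
    rw [hf, ← h2f, Nat.mul_div_cancel _ (by omega : 0 < f)] at h1
    rw [← h1, Nat.card_eq_fintype_card, Fintype.card_subtype]
  have hYsum : ∀ (ξ0 : IrrCharacter G) (D : ℂ), ξ0 ∈ Y → (∀ ξ ∈ Y, (ξ : G → ℂ) 1 = D) →
      ∑ᶠ ξ ∈ Y, conj ((ξ : G → ℂ) y) / (ξ : G → ℂ) 1 = 2 * (conj ((ξ0 : G → ℂ) y) / D) := by
    intro ξ0 D hξ0 hD
    rw [Cfsg.Agent.Lib.Helper23.BRVITCOL.finsum_mem_eq_sum_ite]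
    have hterm : ∀ ξ : IrrCharacter G, (if ξ ∈ Y then conj ((ξ : G → ℂ) y) / (ξ : G → ℂ) 1 else 0) =
        if ξ ∈ Y then conj ((ξ0 : G → ℂ) y) / D else 0 := by
      intro ξ
      by_cases h : ξ ∈ Y
      · rw [if_pos h, if_pos h, hD ξ h, hYreg ξ h ξ0 hξ0 y hy]
      · rw [if_neg h, if_neg h]
    rw [Finset.sum_congr rfl (fun ξ _ => hterm ξ), Finset.sum_ite, Finset.sum_const_zero, add_zero,
      Finset.sum_const, hYcard]
    simp
  -- `R`
  have hR : (ψ : G → ℂ) y * conj ((ψ : G → ℂ) y) = ((Complex.normSq ((ψ : G → ℂ) y) : ℝ) : ℂ) :=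
    Complex.mul_conj _
  set R : ℝ := Complex.normSq ((ψ : G → ℂ) y) with hRdef
  have hconjR : conj ((R : ℝ) : ℂ) = ((R : ℝ) : ℂ) := Complex.conj_ofReal R
  rw [hXsum]
  push_cast
  rcases hcase with ⟨hYd, -, hAA, ξ0, hξ0, hLL⟩ | ⟨hYd, -, ⟨ξ0, hξ0, hAA⟩, hLL⟩
  · -- case A
    have hAval : A = (R : ℂ) - 1 := by
      have := hAA y
      rw [hR] at this
      rw [hA]
      linear_combination -this
    have hBval : B = (R : ℂ) - (ξ0 : G → ℂ) y := by
      have := hLL y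
      rw [hreg y hy, hR] at this
      rw [hB]
      linear_combination -this
    rw [hYsum ξ0 (f : ℂ) hξ0 (fun ξ hξ => by rw [apply_one_eq, hYd ξ hξ]), hAval, hBval, map_sub, map_sub,
      hconjR, map_one]
    field_simp
    ring
  · -- case B
    have hAval : A = (R : ℂ) - 1 - (ξ0 : G → ℂ) y := by
      have := hAA y
      rw [hR] at this
      rw [hA]
      linear_combination -this
    have hBval : B = (R : ℂ) := by
      have := hLL y
      rw [hreg y hy, hR] at this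
      rw [hB]
      linear_combination -this
    rw [hYsum ξ0 ((f : ℂ) + 1) hξ0 (fun ξ hξ => by rw [apply_one_eq, hYd ξ hξ]; push_cast; ring),
      hAval, hBval, map_sub, map_sub, hconjR, map_one]
    field_simp
    ring

end Cfsg.Agent.Lib.Helper14.BRVIEVAL
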