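/-
helper14: S4705 market "BS" (planner helper6), leaf BS-B0V `b0_vals` (= `Helper14.BRQB0.b0_vals`).
-/
import Mathlib
import Cfsg.Prelude.Def_BlockRank
import Cfsg.Agent.Lib.Helper6.BRHDefs
import Cfsg.Agent.Lib.Helper6.BSDefs
import Cfsg.Agent.Lib.Helper14.BRQB0

set_option autoImplicit false

namespace Cfsg.Agent.Lib.Helper14.BSB0V

open Cfsg Cfsg.Agent.Lib.Helper8.DOM Cfsg.Agent.Lib.Helper27.DO Cfsg.Agent.CharLib
open Cfsg.Agent.Lib.Helper6.BRH Cfsg.Agent.Lib.Helper6.BS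
open scoped ComplexConjugate

universe u

variable {G : Type u} [Group G] [Finite G] {p : ℕ} [Fact p.Prime] {M : Ideal AlgInt}

/-- BS-B0V. -/
theorem b0_vals (hM : IsPModular p M) (hp5 : 5 < p) (P : Subgroup G) (hP : Nat.card P = p)
    (hSyl : ¬ p ∣ P.index) (hf : (Cz P).relIndex (Nz P) = 2) :
    ∃ (x0 : G) (χ₁ : IrrCharacter G) (v : ℤ) (ψs : (ZMod p)ˣ → IrrCharacter G) (ε : ℤ),
      TwoVals p P x0 (trivIrr G) χ₁ 1 v ψs ε ∧
      (∀ g : G, p ∣ orderOf g → (χ₁ : G → ℂ) g = (v : ℂ)) :=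
  Cfsg.Agent.Lib.Helper14.BRQB0.b0_vals hM hp5 P hP hSyl hf

end Cfsg.Agent.Lib.Helper14.BSB0V
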