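/-
helper14: S4705 market "BS" (planner helper6), leaf BS-R1 `partE_two` (= `Helper14.BRQ.partE_pm2`).
-/
import Mathlib
import Cfsg.Prelude.Def_BlockRank
import Cfsg.Agent.Lib.Helper6.BRHDefs
import Cfsg.Agent.Lib.Helper6.BSDefs
import Cfsg.Agent.Lib.Helper14.BRQ

set_option autoImplicit false

namespace Cfsg.Agent.Lib.Helper14.BSR1

open Cfsg Cfsg.Agent.Lib.Helper8.DOM Cfsg.Agent.Lib.Helper27.DO Cfsg.Agent.CharLib
open Cfsg.Agent.Lib.Helper6.BRH Cfsg.Agent.Lib.Helper6.BS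
open scoped ComplexConjugate

universe u

variable {G : Type u} [Group G] [Finite G] {p : ℕ} [Fact p.Prime] {M : Ideal AlgInt}

/-- BS-R1. -/
theorem partE_two (hM : IsPModular p M) (hp5 : 5 < p) (P : Subgroup G) (hP : Nat.card P = p)
    (hSyl : ¬ p ∣ P.index) (hnn : ¬ P.Normal) (ζ : IrrCharacter G)
    (hfaith : ∀ g : G, (ζ : G → ℂ) g = (ζ : G → ℂ) 1 → g = 1)
    (hdeg : charDegree (ζ : G → ℂ) = p - 2) :
    (Cz P).relIndex (Nz P) = 2 ∧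
    (∀ y ∈ Cz P, ¬ p ∣ orderOf y → y ∈ Subgroup.center G) ∧
    ∃ (x0 : G) (χb χa : IrrCharacter G) (ψs : (ZMod p)ˣ → IrrCharacter G) (i : (ZMod p)ˣ),
      ψs i = ζ ∧ TwoVals p P x0 χb χa 1 (-1) ψs (-1) :=
  Cfsg.Agent.Lib.Helper14.BRQ.partE_pm2 hM hp5 P hP hSyl hnn ζ hfaith hdeg

end Cfsg.Agent.Lib.Helper14.BSR1
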