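import Mathlib
import Cfsg.Prelude.Def_Characters
import Cfsg.Agent.Lib.Helper24.BSWDefs

/-!
# S3282 leaf B0b (helper14): the hypotheses are stable under conjugation; `KK`, `RR` do not change
-/

set_option autoImplicit false
open Cfsg Cfsg.Agent.Lib.Helper24.BSW

namespace Cfsg.Agent.Lib.Helper14.BSWB0b

variable {G : Type*} [Group G] [Finite G]

omit [Finite G] in
lemma mem_map_conj_iff (K : Subgroup G) (x y : G) :
    y ∈ K.map (MulAut.conj x).toMonoidHom ↔ x⁻¹ * y * x ∈ K := by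
  rw [Subgroup.mem_map_equiv]
  simp [MulAut.conj_symm_apply]

omit [Finite G] in
lemma orderOf_conj' (x y : G) : orderOf (x * y * x⁻¹) = orderOf y := by
  have h : SemiconjBy x y (x * y * x⁻¹) := by
    unfold SemiconjBy; group
  exact (h.orderOf_eq).symm

omit [Finite G] in
lemma mem_centralizer_conj_iff (x t g : G) :
    g ∈ Subgroup.centralizer ({x * t * x⁻¹} : Set G) ↔
      x⁻¹ * g * x ∈ Subgroup.centralizer ({t} : Set G) := by
  simp only [Subgroup.mem_centralizer_iff, Set.mem_singleton_iff, forall_eq]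
  constructor
  · intro h
    calc t * (x⁻¹ * g * x) = x⁻¹ * ((x * t * x⁻¹) * g) * x := by group
      _ = x⁻¹ * (g * (x * t * x⁻¹)) * x := by rw [h]
      _ = x⁻¹ * g * x * t := by group
  · intro h
    calc x * t * x⁻¹ * g = x * (t * (x⁻¹ * g * x)) * x⁻¹ := by group
      _ = x * ((x⁻¹ * g * x) * t) * x⁻¹ := by rw [h]
      _ = g * (x * t * x⁻¹) := by group

omit [Finite G] in
lemma mem_zpowers_conj_iff (x t g : G) :
    g ∈ Subgroup.zpowers (x * t * x⁻¹) ↔ x⁻¹ * g * x ∈ Subgroup.zpowers t := by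
  simp only [Subgroup.mem_zpowers_iff]
  constructor
  · rintro ⟨k, rfl⟩
    refine ⟨k, ?_⟩
    rw [conj_zpow]; group
  · rintro ⟨k, hk⟩
    refine ⟨k, ?_⟩
    rw [conj_zpow, hk]; group

theorem hyp_conj {t s : G} {K : Subgroup G} (h : Hyp t s K) (x : G) :
    Hyp (x * t * x⁻¹) (x * s * x⁻¹) (K.map (MulAut.conj x).toMonoidHom) := by
  refine
    { ht := by rw [orderOf_conj']; exact h.ht
      hKab := ?_
      hKH := ?_
      htK := ?_
      hs := by rw [orderOf_conj']; exact h.hs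
      hsH := ?_
      hsK := ?_
      hH := ?_
      hCK := ?_
      hinv := ?_
      hTI := ?_
      hconj := h.hconj }
  · -- commutative
    refine ⟨⟨?_⟩⟩
    rintro ⟨a, ha⟩ ⟨b, hb⟩
    apply Subtype.ext
    rw [mem_map_conj_iff] at ha hb
    have hc := h.hKab.is_comm.comm ⟨_, ha⟩ ⟨_, hb⟩
    have hc' : (x⁻¹ * a * x) * (x⁻¹ * b * x) = (x⁻¹ * b * x) * (x⁻¹ * a * x) :=
      congrArg Subtype.val hc
    show a * b = b * a
    calc a * b = x * ((x⁻¹ * a * x) * (x⁻¹ * b * x)) * x⁻¹ := by group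
      _ = x * ((x⁻¹ * b * x) * (x⁻¹ * a * x)) * x⁻¹ := by rw [hc']
      _ = b * a := by group
  · intro y hy
    rw [mem_map_conj_iff] at hy
    rw [mem_centralizer_conj_iff]
    exact h.hKH hy
  · rw [mem_map_conj_iff]
    have : x⁻¹ * (x * t * x⁻¹) * x = t := by group
    rw [this]; exact h.htK
  · rw [mem_centralizer_conj_iff]
    have : x⁻¹ * (x * s * x⁻¹) * x = s := by group
    rw [this]; exact h.hsH
  · rw [mem_map_conj_iff]
    have : x⁻¹ * (x * s * x⁻¹) * x = s := by group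
    rw [this]; exact h.hsK
  · ext g
    rw [mem_centralizer_conj_iff, ← h.hH]
    constructor
    · intro hg
      -- g ∈ K' ⊔ ⟨s'⟩ ; push through the automorphism
      have hle : K.map (MulAut.conj x).toMonoidHom ⊔ Subgroup.zpowers (x * s * x⁻¹) ≤
          (K ⊔ Subgroup.zpowers s).map (MulAut.conj x).toMonoidHom := by
        rw [sup_le_iff]
        constructor
        · exact Subgroup.map_mono le_sup_left
        · rw [Subgroup.zpowers_le]
          exact ⟨s, Subgroup.mem_sup_right (Subgroup.mem_zpowers s), by simp⟩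
      have := hle hg
      rwa [mem_map_conj_iff] at this
    · intro hg
      have hle : (K ⊔ Subgroup.zpowers s).map (MulAut.conj x).toMonoidHom ≤
          K.map (MulAut.conj x).toMonoidHom ⊔ Subgroup.zpowers (x * s * x⁻¹) := by
        rw [Subgroup.map_sup]
        apply sup_le_sup_left
        rw [MonoidHom.map_zpowers]
        simp
      apply hle
      rw [mem_map_conj_iff]; exact hg
  · ext g
    rw [Subgroup.mem_inf, mem_map_conj_iff, mem_centralizer_conj_iff, mem_zpowers_conj_iff,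
      ← h.hCK, Subgroup.mem_inf]
  · intro y hy
    rw [mem_map_conj_iff] at hy
    have := h.hinv _ hy
    calc x * s * x⁻¹ * y * (x * s * x⁻¹)⁻¹ = x * (s * (x⁻¹ * y * x) * s⁻¹) * x⁻¹ := by group
      _ = x * (x⁻¹ * y * x)⁻¹ * x⁻¹ := by rw [this]
      _ = y⁻¹ := by group
  · intro g hg
    rw [mem_centralizer_conj_iff] at hg
    have hb := h.hTI _ hg
    rw [eq_bot_iff]
    intro y hy
    rw [Subgroup.mem_inf] at hy
    obtain ⟨hy1, hy2⟩ := hy
    rw [mem_map_conj_iff] at hy1 hy2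
    rw [mem_map_conj_iff] at hy2
    have hmem : x⁻¹ * y * x ∈ K ⊓ K.map (MulAut.conj (x⁻¹ * g * x)).toMonoidHom := by
      rw [Subgroup.mem_inf]
      refine ⟨hy1, ?_⟩
      rw [mem_map_conj_iff]
      have : (x⁻¹ * g * x)⁻¹ * (x⁻¹ * y * x) * (x⁻¹ * g * x) = x⁻¹ * (g⁻¹ * y * g) * x := by group
      rw [this]; exact hy2
    rw [hb, Subgroup.mem_bot] at hmem
    rw [Subgroup.mem_bot]
    have : y = x * (x⁻¹ * y * x) * x⁻¹ := by group
    rw [this, hmem]; group

omit [Finite G] in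
theorem KK_map_conj' (K : Subgroup G) (x : G) :
    KK (K.map (MulAut.conj x).toMonoidHom) = KK K := by
  ext g
  unfold KK
  simp only [Set.mem_setOf_eq]
  constructor
  · rintro ⟨hg, y, hy⟩
    rw [mem_map_conj_iff] at hy
    refine ⟨hg, x⁻¹ * y, ?_⟩
    have : x⁻¹ * y * g * (x⁻¹ * y)⁻¹ = x⁻¹ * (y * g * y⁻¹) * x := by group
    rw [this]; exact hy
  · rintro ⟨hg, y, hy⟩
    refine ⟨hg, x * y, ?_⟩
    rw [mem_map_conj_iff]
    have : x⁻¹ * (x * y * g * (x * y)⁻¹) * x = y * g * y⁻¹ := by group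
    rw [this]; exact hy

theorem KK_map_conj (K : Subgroup G) (x : G) :
    KK (K.map (MulAut.conj x).toMonoidHom) = KK K := KK_map_conj' K x

theorem RR_map_conj (K : Subgroup G) (x : G) :
    RR (K.map (MulAut.conj x).toMonoidHom) = RR K := by
  ext g
  unfold RR
  simp only [Set.mem_setOf_eq]
  constructor
  · rintro ⟨hg, h⟩
    refine ⟨hg, fun y hy => h (x * y) ?_⟩
    rw [mem_map_conj_iff]
    have : x⁻¹ * (x * y * g * (x * y)⁻¹) * x = y * g * y⁻¹ := by group
    rw [this]; exact hy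
  · rintro ⟨hg, h⟩
    refine ⟨hg, fun y hy => h (x⁻¹ * y) ?_⟩
    rw [mem_map_conj_iff] at hy
    have : x⁻¹ * y * g * (x⁻¹ * y)⁻¹ = x⁻¹ * (y * g * y⁻¹) * x := by group
    rw [this]; exact hy

end Cfsg.Agent.Lib.Helper14.BSWB0b
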