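import Mathlib
import Cfsg.Prelude.Def_Characters
import Cfsg.Agent.Lib.Helper24.BSWDefs
import Cfsg.Agent.Lib.Helper1.BSWCDefs
import Cfsg.Agent.Lib.Helper10.PowTwistChar
import Cfsg.Agent.Lib.Helper5.BSWB2

/-!
# S3282 batch 2 leaf D1 (helper14): `exists_nu`
(the dual of the finite abelian group `K` is isomorphic to `K`, whose only involution is `t`)
-/

set_option autoImplicit false
open Cfsg Cfsg.Agent.Lib.Helper24.BSW Cfsg.Agent.CharLib Cfsg.Agent.Lib.Helper1.BSWC
open scoped ComplexConjugate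

namespace Cfsg.Agent.Lib.Helper14.BSWCD1

universe u

variable {G : Type u} [Group G] [Fintype G]

/-- in a finite commutative group with exactly one involution `t'`, the dual has exactly one
element of order 2 -/
theorem exists_nu_aux (H : Type*) [CommGroup H] [Finite H] (t' : H) (ht1 : t' ≠ 1)
    (ht2 : t' * t' = 1) (honly : ∀ x : H, x * x = 1 → x = 1 ∨ x = t') :
    ∃ ν : H →* ℂˣ, ν ≠ 1 ∧ ν * ν = 1 ∧ ∀ μ : H →* ℂˣ, μ * μ = 1 → μ = 1 ∨ μ = ν := by
  obtain ⟨e⟩ := CommGroup.monoidHom_mulEquiv_of_hasEnoughRootsOfUnity H ℂ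
  refine ⟨e.symm t', ?_, ?_, ?_⟩
  · intro h1
    apply ht1
    have := congrArg e h1
    simpa using this
  · rw [← map_mul, ht2, map_one]
  · intro μ hμ
    have h1 : e μ * e μ = 1 := by rw [← map_mul, hμ, map_one]
    rcases honly (e μ) h1 with h2 | h2
    · left
      have := congrArg e.symm h2
      simpa using this
    · right
      have := congrArg e.symm h2
      simpa using this

/-- **D1** -/
theorem exists_nu {t s : G} {K : Subgroup G} (h : Hyp t s K) :
    ∃ ν : ↥K →* ℂˣ, ν ≠ 1 ∧ ν * ν = 1 ∧ ∀ μ : ↥K →* ℂˣ, μ * μ = 1 → μ = 1 ∨ μ = ν := by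
  classical
  letI : CommGroup ↥K :=
    { (inferInstance : Group ↥K) with mul_comm := h.hKab.is_comm.comm }
  have htt : t * t = 1 := by
    have : t ^ 2 = 1 := by rw [← h.ht]; exact pow_orderOf_eq_one t
    rwa [pow_two] at this
  have ht1 : t ≠ 1 := by
    intro h1
    have := h.ht
    rw [h1, orderOf_one] at this
    norm_num at this
  exact exists_nu_aux ↥K ⟨t, h.htK⟩ (fun h1 => ht1 (congrArg Subtype.val h1))
    (Subtype.ext htt) (by
      intro x hx
      by_cases hx1 : x = 1
      · exact Or.inl hx1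
      · right
        have hxx : (x : G) * (x : G) = 1 := congrArg Subtype.val hx
        have ho : orderOf (x : G) = 2 := by
          apply orderOf_eq_prime
          · rw [pow_two]; exact hxx
          · intro h1; exact hx1 (Subtype.ext h1)
        exact Subtype.ext (Cfsg.Agent.Lib.Helper5.BSWB2.eq_t_of_mem h _ x.2 ho))

end Cfsg.Agent.Lib.Helper14.BSWCD1
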