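import Mathlib
import Cfsg.Prelude.Def_Characters
import Cfsg.Agent.Lib.Helper24.BSWDefs
import Cfsg.Agent.Lib.Helper5.BSWB3
import Cfsg.Agent.Lib.Helper12.BSWB8
import Cfsg.Agent.Lib.Helper2.BSWG
import Cfsg.Agent.Lib.Helper14.BSWB0a
import Cfsg.Agent.Lib.Helper14.BSWB0b

/-!
# S3282 leaf P2 (helper14): `card_normalizer_inf`

Double counting of `{(g, w) : g⁻¹ w g ∈ Q \ 1}`, `w` in the set `S` of `hP.le`:
`|G| (q-1) ≤ |S| |N(Q)|`.
-/

set_option autoImplicit false
open Cfsg Cfsg.Agent.Lib.Helper24.BSW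

namespace Cfsg.Agent.Lib.Helper14.BSWP2

variable {G : Type*} [Group G] [Finite G]

/-- G1-G4 in exact form (from helper2's `_of` forms + B3 (helper5) + B8 (helper12)). -/
theorem G1 {t s : G} {K : Subgroup G} (h : Hyp t s K) :
    ∀ y ∈ RR K, ∀ u : G, orderOf u = 2 → u * y * u⁻¹ = y⁻¹ →
      ∀ c ∈ Subgroup.centralizer ({y} : Set G), u * c * u⁻¹ = c⁻¹ :=
  Cfsg.Agent.Lib.Helper2.BSWG.inverts_centralizer_of (Cfsg.Agent.Lib.Helper12.BSWB8.RR_centralizer h)

theorem G2 {t s : G} {K : Subgroup G} (h : Hyp t s K) :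
    ∀ y ∈ RR K, ∀ u : G, orderOf u = 2 → u * y * u⁻¹ = y⁻¹ →
      invCount y = Nat.card (Subgroup.centralizer ({y} : Set G)) :=
  Cfsg.Agent.Lib.Helper2.BSWG.invCount_eq_card_of (Cfsg.Agent.Lib.Helper12.BSWB8.RR_centralizer h)

theorem G3 {t s : G} {K : Subgroup G} (h : Hyp t s K) :
    ∀ y ∈ RR K, ∀ u : G, orderOf u = 2 → u * y * u⁻¹ = y⁻¹ →
      (∀ a ∈ Subgroup.centralizer ({y} : Set G), ∀ b ∈ Subgroup.centralizer ({y} : Set G),
        a * b = b * a) ∧
      ∀ z ∈ Subgroup.centralizer ({y} : Set G), z ≠ 1 →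
        Subgroup.centralizer ({z} : Set G) = Subgroup.centralizer ({y} : Set G) :=
  Cfsg.Agent.Lib.Helper2.BSWG.centralizer_eq_of_mem_of
    (Cfsg.Agent.Lib.Helper12.BSWB8.RR_centralizer h)

theorem G4 {t s : G} {K : Subgroup G} (h : Hyp t s K) :
    ∀ y ∈ RR K, ∀ u : G, orderOf u = 2 → u * y * u⁻¹ = y⁻¹ →
      Nat.card (Subgroup.normalizer ((Subgroup.centralizer ({y} : Set G) : Subgroup G) : Set G)) =
        Nat.card (Subgroup.centralizer ({y} : Set G)) *
          Nat.card ↥(Subgroup.normalizer ((Subgroup.centralizer ({y} : Set G) : Subgroup G) : Set G)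
            ⊓ Subgroup.centralizer ({u} : Set G)) ∧
      (∀ x : G, x * t * x⁻¹ = u →
        Subgroup.normalizer ((Subgroup.centralizer ({y} : Set G) : Subgroup G) : Set G)
            ⊓ Subgroup.centralizer ({u} : Set G) ≤ K.map (MulAut.conj x).toMonoidHom) ∧
      Nat.card ↥(Subgroup.normalizer ((Subgroup.centralizer ({y} : Set G) : Subgroup G) : Set G)
            ⊓ Subgroup.centralizer ({u} : Set G)) ∣
        Nat.card (Subgroup.centralizer ({y} : Set G)) - 1 :=
  Cfsg.Agent.Lib.Helper2.BSWG.normalizer_struct_of h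
    (Cfsg.Agent.Lib.Helper5.BSWB3.mem_cent_cases h)
    (Cfsg.Agent.Lib.Helper12.BSWB8.RR_centralizer h)

omit [Finite G] in
/-- `c ∈ C(g z g⁻¹) ↔ g⁻¹ c g ∈ C(z)` -/
lemma mem_centralizer_conj (g z c : G) :
    c ∈ Subgroup.centralizer ({g * z * g⁻¹} : Set G) ↔
      g⁻¹ * c * g ∈ Subgroup.centralizer ({z} : Set G) :=
  Cfsg.Agent.Lib.Helper14.BSWB0b.mem_centralizer_conj_iff g z c

/-- the key facts about nonidentity elements of `Q = C(y)` and their conjugates -/
theorem conj_facts {t s : G} {K : Subgroup G} (h : Hyp t s K)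
    (y : G) (hy : y ∈ RR K) (u : G) (hu : orderOf u = 2) (huy : u * y * u⁻¹ = y⁻¹)
    (z : G) (hz : z ∈ Subgroup.centralizer ({y} : Set G)) (hz1 : z ≠ 1) (g : G) :
    g * z * g⁻¹ ∈ RR K ∧
    invCount (g * z * g⁻¹) = Nat.card (Subgroup.centralizer ({y} : Set G)) ∧
    ∀ c : G, c ∈ Subgroup.centralizer ({g * z * g⁻¹} : Set G) ↔
      g⁻¹ * c * g ∈ Subgroup.centralizer ({y} : Set G) := by
  have hB8 := Cfsg.Agent.Lib.Helper12.BSWB8.RR_centralizer h
  have hzRR : z ∈ RR K := (hB8 y hy).2 z hz hz1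
  have huz : u * z * u⁻¹ = z⁻¹ := G1 h y hy u hu huy z hz
  have hCz : Subgroup.centralizer ({z} : Set G) = Subgroup.centralizer ({y} : Set G) :=
    (G3 h y hy u hu huy).2 z hz hz1
  refine ⟨(Cfsg.Agent.Lib.Helper14.BSWB0a.conj_mem_RR_iff K g z).mpr hzRR, ?_, ?_⟩
  · rw [Cfsg.Agent.Lib.Helper14.BSWB0a.invCount_conj, G2 h z hzRR u hu huz, hCz]
  · intro c
    rw [mem_centralizer_conj, hCz]

/-- **P2** `card_normalizer_inf`. -/
theorem card_normalizer_inf {t s : G} {K : Subgroup G} (h : Hyp t s K) (hP : DataP K) :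
    ∀ y ∈ RR K, ∀ u : G, orderOf u = 2 → u * y * u⁻¹ = y⁻¹ →
      Nat.card (Subgroup.centralizer ({y} : Set G)) = 2 * Nat.card K + 1 →
      Nat.card ↥(Subgroup.normalizer ((Subgroup.centralizer ({y} : Set G) : Subgroup G) : Set G)
            ⊓ Subgroup.centralizer ({u} : Set G)) = Nat.card K := by
  classical
  intro y hy u hu huy hq
  haveI : Fintype G := Fintype.ofFinite G
  set Q : Subgroup G := Subgroup.centralizer ({y} : Set G) with hQ
  set N : Subgroup G := Subgroup.normalizer (Q : Set G) with hN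
  set E : Subgroup G := N ⊓ Subgroup.centralizer ({u} : Set G) with hE
  set k := Nat.card K with hk
  obtain ⟨hG4a, hG4b, -⟩ := G4 h y hy u hu huy
  -- `e ≤ k`
  obtain ⟨x, hx⟩ : ∃ x : G, x * t * x⁻¹ = u := by
    have := h.hconj t u h.ht hu
    rw [isConj_iff] at this
    exact this
  have hEle : Nat.card E ≤ k := by
    have h1 : Nat.card E ≤ Nat.card (K.map (MulAut.conj x).toMonoidHom) :=
      Subgroup.card_le_of_le (hG4b x hx)
    have h2 : Nat.card (K.map (MulAut.conj x).toMonoidHom) = Nat.card K :=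
      Subgroup.card_map_of_injective (MulAut.conj x).injective
    rw [h2] at h1; exact h1
  -- the finsets
  set S : Finset G := Finset.univ.filter (fun w => w ∈ RR K ∧ invCount w = 2 * k + 1) with hS
  set Q1 : Finset G := (Finset.univ.filter (fun z => z ∈ Q)).erase 1 with hQ1
  set Nf : Finset G := Finset.univ.filter (fun n => n ∈ N) with hNf
  have hQcard : (Finset.univ.filter (fun z => z ∈ Q)).card = 2 * k + 1 := by
    rw [← hq, Nat.card_eq_fintype_card, Fintype.card_subtype]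
  have hQ1card : Q1.card = 2 * k := by
    rw [hQ1, Finset.card_erase_of_mem (by simp [Q.one_mem]), hQcard]; simp
  have hNcard : Nf.card = (2 * k + 1) * Nat.card E := by
    rw [hNf, ← hq, ← hG4a, Nat.card_eq_fintype_card, Fintype.card_subtype]
  have hScard : S.card ≤ (2 * k + 1) ^ 2 - 1 := by
    have := hP.le
    rw [Nat.card_eq_fintype_card, Fintype.card_subtype] at this
    exact this
  -- the relation
  let r : G → G → Prop := fun g w => g⁻¹ * w * g ∈ Q
  have hdc := Finset.sum_card_bipartiteAbove_eq_sum_card_bipartiteBelow (s := (Finset.univ : Finset G))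
    (t := S) r
  -- lower bound for the left side
  have hleft : ∀ g ∈ (Finset.univ : Finset G), 2 * k ≤ (S.bipartiteAbove r g).card := by
    intro g _
    have hinj : Set.InjOn (fun z : G => g * z * g⁻¹) (Q1 : Set G) := by
      intro a _ b _ hab
      simpa using hab
    rw [← hQ1card, ← Finset.card_image_of_injOn hinj]
    apply Finset.card_le_card
    intro w hw
    obtain ⟨z, hzQ1, rfl⟩ := Finset.mem_image.mp hw
    rw [hQ1, Finset.mem_erase, Finset.mem_filter] at hzQ1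
    obtain ⟨hz1, -, hzQ⟩ := hzQ1
    obtain ⟨hRR, hic, -⟩ := conj_facts h y hy u hu huy z hzQ hz1 g
    rw [Finset.mem_bipartiteAbove, hS, Finset.mem_filter]
    refine ⟨⟨Finset.mem_univ _, hRR, ?_⟩, ?_⟩
    · rw [hic, hq]
    · show g⁻¹ * (g * z * g⁻¹) * g ∈ Q
      have : g⁻¹ * (g * z * g⁻¹) * g = z := by group
      rw [this]; exact hzQ
  -- upper bound for the right side
  have hright : ∀ w ∈ S, ((Finset.univ : Finset G).bipartiteBelow r w).card ≤ Nf.card := by
    intro w hw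
    rw [hS, Finset.mem_filter] at hw
    obtain ⟨-, hwRR, -⟩ := hw
    have hw1 : w ≠ 1 := hwRR.1
    by_cases hemp : ((Finset.univ : Finset G).bipartiteBelow r w) = ∅
    · rw [hemp]; simp
    obtain ⟨g₀, hg₀⟩ := Finset.nonempty_iff_ne_empty.mpr hemp
    rw [Finset.mem_bipartiteBelow] at hg₀
    have hg₀Q : g₀⁻¹ * w * g₀ ∈ Q := hg₀.2
    -- description of `C(w)` via `g₀`, and via any other `g`
    have hdesc : ∀ g : G, g⁻¹ * w * g ∈ Q → ∀ c : G,
        c ∈ Subgroup.centralizer ({w} : Set G) ↔ g⁻¹ * c * g ∈ Q := by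
      intro g hg c
      have hz1 : g⁻¹ * w * g ≠ 1 := by
        intro h1
        apply hw1
        have : w = g * (g⁻¹ * w * g) * g⁻¹ := by group
        rw [this, h1]; group
      have := (conj_facts h y hy u hu huy (g⁻¹ * w * g) hg hz1 g).2.2 c
      have e : g * (g⁻¹ * w * g) * g⁻¹ = w := by group
      rw [e] at this
      exact this
    apply Finset.card_le_card_of_injOn (fun g => g₀⁻¹ * g)
    · intro g hg
      rw [Finset.mem_coe, Finset.mem_bipartiteBelow] at hg
      have hgQ : g⁻¹ * w * g ∈ Q := hg.2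
      rw [Finset.mem_coe, hNf, Finset.mem_filter]
      refine ⟨Finset.mem_univ _, ?_⟩
      rw [hN, Subgroup.mem_normalizer_iff]
      intro c
      -- c ∈ Q ↔ (g₀⁻¹ g) c (g₀⁻¹ g)⁻¹ ∈ Q
      have e1 : g₀⁻¹ * g * c * (g₀⁻¹ * g)⁻¹ = g₀⁻¹ * (g * c * g⁻¹) * g₀ := by group
      rw [e1, ← hdesc g₀ hg₀Q (g * c * g⁻¹), hdesc g hgQ (g * c * g⁻¹)]
      have e2 : g⁻¹ * (g * c * g⁻¹) * g = c := by group
      rw [e2]
    · intro a _ b _ hab
      simpa using hab
  -- combine
  have h1 : Fintype.card G * (2 * k) ≤ S.card * Nf.card := by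
    calc Fintype.card G * (2 * k) = ∑ _g ∈ (Finset.univ : Finset G), 2 * k := by
          rw [Finset.sum_const, Finset.card_univ, smul_eq_mul]
      _ ≤ ∑ g ∈ (Finset.univ : Finset G), (S.bipartiteAbove r g).card := Finset.sum_le_sum hleft
      _ = ∑ w ∈ S, ((Finset.univ : Finset G).bipartiteBelow r w).card := hdc
      _ ≤ ∑ _w ∈ S, Nf.card := Finset.sum_le_sum hright
      _ = S.card * Nf.card := by rw [Finset.sum_const, smul_eq_mul]
  have hGcard : Fintype.card G = k * (2 * k + 1) * (2 * k + 2) := by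
    rw [← Nat.card_eq_fintype_card]; exact hP.card
  rw [hGcard, hNcard] at h1
  -- arithmetic: k ≤ e
  have hkpos : 0 < k := Nat.card_pos
  have h2 : k * (2 * k + 1) * (2 * k + 2) * (2 * k) ≤
      ((2 * k + 1) ^ 2 - 1) * ((2 * k + 1) * Nat.card E) :=
    h1.trans (Nat.mul_le_mul_right _ hScard)
  have h3 : (2 * k + 1) ^ 2 - 1 = 4 * k * (k + 1) := by
    have : (2 * k + 1) ^ 2 = 4 * k * (k + 1) + 1 := by ring
    omega
  rw [h3] at h2
  have h4 : (4 * k * (k + 1) * (2 * k + 1)) * k ≤ (4 * k * (k + 1) * (2 * k + 1)) * Nat.card E := by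
    calc (4 * k * (k + 1) * (2 * k + 1)) * k = k * (2 * k + 1) * (2 * k + 2) * (2 * k) := by ring
      _ ≤ 4 * k * (k + 1) * ((2 * k + 1) * Nat.card E) := h2
      _ = (4 * k * (k + 1) * (2 * k + 1)) * Nat.card E := by ring
  have hpos : 0 < 4 * k * (k + 1) * (2 * k + 1) := by positivity
  have h5 : k ≤ Nat.card E := Nat.le_of_mul_le_mul_left h4 hpos
  exact le_antisymm hEle h5

end Cfsg.Agent.Lib.Helper14.BSWP2
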