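import Mathlib
import Cfsg.Prelude.Def_Characters
import Cfsg.Agent.Lib.Helper24.BSWDefs
import Cfsg.Agent.Lib.Helper12.BSWB5
import Cfsg.Agent.Lib.Helper12.BSWB6
import Cfsg.Agent.Lib.Helper15.BSWM1Of
import Cfsg.Agent.Lib.Helper15.BSWM2Of
import Cfsg.Agent.Lib.Helper14.BSWP2

/-!
# S3282 leaf M6b (helper14): `sylow_central_in_odd`
-/

set_option autoImplicit false
open Cfsg Cfsg.Agent.Lib.Helper24.BSW

namespace Cfsg.Agent.Lib.Helper14.BSWM6b

variable {G : Type*} [Group G] [Finite G]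

omit [Finite G] in
/-- elements of `D ⊔ ⟨u⟩`, `u` an involution inverting `D`: they lie in `D` or square to `1` -/
lemma mem_or_sq_of_mem_sup (D : Subgroup G) (u : G) (huu : u * u = 1)
    (hinv : ∀ c ∈ D, u * c * u⁻¹ = c⁻¹) (g : G) (hg : g ∈ D ⊔ Subgroup.zpowers u) :
    g ∈ D ∨ g * g = 1 := by
  have huinv : u⁻¹ = u := inv_eq_of_mul_eq_one_left huu
  have hud : ∀ d ∈ D, u * d = d⁻¹ * u := by
    intro d hd
    have := hinv d hd
    rw [huinv] at this
    calc u * d = (u * d * u) * u := by rw [mul_assoc (u * d), huu, mul_one]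
      _ = d⁻¹ * u := by rw [this]
  -- the subgroup `T = D ∪ D u`
  let T : Subgroup G :=
    { carrier := {g | g ∈ D ∨ ∃ d ∈ D, g = d * u}
      one_mem' := Or.inl D.one_mem
      mul_mem' := by
        rintro a b (ha | ⟨d, hd, rfl⟩) (hb | ⟨d', hd', rfl⟩)
        · exact Or.inl (D.mul_mem ha hb)
        · exact Or.inr ⟨a * d', D.mul_mem ha hd', by group⟩
        · refine Or.inr ⟨d * b⁻¹, D.mul_mem hd (D.inv_mem hb), ?_⟩
          rw [mul_assoc, hud b hb]; group
        · refine Or.inl ?_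
          have : d * u * (d' * u) = d * d'⁻¹ := by
            rw [mul_assoc d u, ← mul_assoc u d' u, hud d' hd', mul_assoc d'⁻¹, huu, mul_one]
          rw [this]; exact D.mul_mem hd (D.inv_mem hd')
      inv_mem' := by
        rintro a (ha | ⟨d, hd, rfl⟩)
        · exact Or.inl (D.inv_mem ha)
        · refine Or.inr ⟨d, hd, ?_⟩
          rw [mul_inv_rev, huinv, hud d⁻¹ (D.inv_mem hd), inv_inv] }
  have hDT : D ≤ T := fun d hd => Or.inl hd
  have huT : Subgroup.zpowers u ≤ T := by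
    rw [Subgroup.zpowers_le]
    exact Or.inr ⟨1, D.one_mem, by simp⟩
  rcases (sup_le hDT huT) hg with h1 | ⟨d, hd, rfl⟩
  · exact Or.inl h1
  · right
    rw [mul_assoc d u, ← mul_assoc u d u, hud d hd, mul_assoc d⁻¹, huu, mul_one, mul_inv_cancel]

omit [Finite G] in
lemma eq_one_of_sq_of_odd_order (g : G) (h2 : g * g = 1) (hodd : Odd (orderOf g)) : g = 1 := by
  have h1 : orderOf g ∣ 2 := orderOf_dvd_of_pow_eq_one (by rw [pow_two]; exact h2)
  rcases (Nat.dvd_prime Nat.prime_two).1 h1 with h | h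
  · exact orderOf_eq_one_iff.mp h
  · rw [h] at hodd; exact absurd hodd (by decide)

/-- **M6b** `sylow_central_in_odd`. -/
theorem sylow_central_in_odd {t s : G} {K : Subgroup G} (h : Hyp t s K) (hk : 4 ≤ Nat.card K)
    {X : G → ℂ} (hM : DataM K X) (L : Subgroup G) (hL : Odd (Nat.card L))
    (r : ℕ) [Fact r.Prime] (R : Subgroup G) (hRL : R ≤ L) (hR : R ≠ ⊥) (hRr : IsPGroup r R)
    (hR0 : ∀ e ∈ R, e ≠ 1 → ¬ (e ∈ RR K ∧ X e = 0)) :
    Subgroup.normalizer (R : Set G) ⊓ L ≤ Subgroup.centralizer (R : Set G) := by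
  classical
  -- elements of `L` have odd order
  have hoddL : ∀ g ∈ L, Odd (orderOf g) := by
    intro g hg
    have h1 : orderOf g ∣ Nat.card L := by
      have := orderOf_dvd_natCard (⟨g, hg⟩ : L)
      rwa [Subgroup.orderOf_mk] at this
    exact Odd.of_dvd_nat hL h1
  -- a nonidentity central element of `R`
  haveI : Nontrivial R := (Subgroup.nontrivial_iff_ne_bot R).mpr hR
  haveI := hRr.center_nontrivial
  obtain ⟨⟨e', he'c⟩, hne⟩ := exists_ne (1 : Subgroup.center R)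
  have he1 : (e' : G) ≠ 1 := by
    intro h1
    apply hne
    apply Subtype.ext
    apply Subtype.ext
    simpa using h1
  have hecomm : ∀ a ∈ R, a * (e' : G) = (e' : G) * a := by
    intro a ha
    have := (Subgroup.mem_center_iff.mp he'c) ⟨a, ha⟩
    exact congrArg Subtype.val this
  set e : G := (e' : G) with he
  have heR : e ∈ R := e'.2
  have hRCe : R ≤ Subgroup.centralizer ({e} : Set G) := by
    intro a ha
    rw [Subgroup.mem_centralizer_singleton_iff]
    exact hecomm a ha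
  intro g hg
  rw [Subgroup.mem_inf] at hg
  obtain ⟨hgN, hgL⟩ := hg
  rw [Subgroup.mem_centralizer_iff]
  rcases Cfsg.Agent.Lib.Helper14.BSWB0a.mem_KK_or_mem_RR K e he1 with hKK | hRR
  · -- case `e ∈ KK`
    obtain ⟨-, x, hx⟩ := hKK
    have h' := Cfsg.Agent.Lib.Helper14.BSWB0b.hyp_conj h x⁻¹
    set K' : Subgroup G := K.map (MulAut.conj x⁻¹).toMonoidHom with hK'
    set t' : G := x⁻¹ * t * x⁻¹⁻¹ with ht'
    have heK' : e ∈ K' := by
      rw [hK', Cfsg.Agent.Lib.Helper14.BSWB0b.mem_map_conj_iff, inv_inv]; exact hx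
    obtain ⟨hB5a, hB5b⟩ := Cfsg.Agent.Lib.Helper12.BSWB5.normalizer_eq_cent h'
    have hB6 := Cfsg.Agent.Lib.Helper12.BSWB6.odd_mem_K h'
    have hRK' : R ≤ K' := by
      intro a ha
      exact hB6 a (hB5b e heK' he1 (hRCe ha)) (hoddL a (hRL ha))
    have hNR := hB5a R hRK' hR
    have hgK' : g ∈ K' := by
      apply hB6 g _ (hoddL g hgL)
      rw [← hNR]; exact hgN
    intro a ha
    have hc := h'.hKab.is_comm.comm ⟨a, hRK' ha⟩ ⟨g, hgK'⟩
    exact congrArg Subtype.val hc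
  · -- case `e ∈ RR`
    have hXe : X e = 1 ∧ invCount e = Nat.card K - 1 := by
      rcases hM.onRR e hRR with ⟨h0, -⟩ | h1
      · exact absurd ⟨hRR, h0⟩ (hR0 e heR he1)
      · exact h1
    have hne0 : invCount e ≠ 0 := by rw [hXe.2]; omega
    obtain ⟨u, hu, hue⟩ := (Cfsg.Agent.Lib.Helper14.BSWB0a.invCount_ne_zero_iff e).mp hne0
    have hG1 := Cfsg.Agent.Lib.Helper14.BSWP2.G1 h
    have hG2 := Cfsg.Agent.Lib.Helper14.BSWP2.G2 h
    have hG3 := Cfsg.Agent.Lib.Helper14.BSWP2.G3 h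
    have hG4 := Cfsg.Agent.Lib.Helper14.BSWP2.G4 h
    have hM1 := Cfsg.Agent.Lib.Helper15.BSWM1Of.normalizer_D_of h hk hM hG2 hG4
    have hM2 := Cfsg.Agent.Lib.Helper15.BSWM2Of.last_clause_D_of h hG1 hG3 hM1
    set D : Subgroup G := Subgroup.centralizer ({e} : Set G) with hD
    obtain ⟨hNRD, -⟩ := hM2 e hRR u hu hue R hRCe hR
    obtain ⟨-, hND⟩ := hM1 e hRR u hu hue
    have hinv := hG1 e hRR u hu hue
    have hab := (hG3 e hRR u hu hue).1
    have huu : u * u = 1 := by rw [← sq, ← hu]; exact pow_orderOf_eq_one u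
    have hgsup : g ∈ D ⊔ Subgroup.zpowers u := by
      rw [← hND, ← hNRD]; exact hgN
    have hgD : g ∈ D := by
      rcases mem_or_sq_of_mem_sup D u huu hinv g hgsup with h1 | h2
      · exact h1
      · rw [eq_one_of_sq_of_odd_order g h2 (hoddL g hgL)]; exact D.one_mem
    intro a ha
    exact hab a (hRCe ha) g hgD

end Cfsg.Agent.Lib.Helper14.BSWM6b
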