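import Mathlib
import Cfsg.Prelude.Def_Characters
import Cfsg.Agent.Lib.Helper24.BSWDefs
import Cfsg.Agent.Lib.Helper5.BSWB3
import Cfsg.Agent.Lib.Helper5.BSWB4
import Cfsg.Agent.Lib.Helper14.BSWB0b

/-!
# S3282 leaf P4 (helper14): `last_clause_conj`
-/

set_option autoImplicit false
open Cfsg Cfsg.Agent.Lib.Helper24.BSW

namespace Cfsg.Agent.Lib.Helper14.BSWP4

variable {G : Type*} [Group G] [Finite G]

/-- first half of B5 (from B3 + B4): the normalizer of a nontrivial subgroup of `K` is `C(t)` -/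
theorem normalizer_eq_cent_aux {t s : G} {K : Subgroup G} (h : Hyp t s K) :
    ∀ X : Subgroup G, X ≤ K → X ≠ ⊥ →
      Subgroup.normalizer (X : Set G) = Subgroup.centralizer ({t} : Set G) := by
  intro X hXK hX
  ext g
  constructor
  · intro hg
    obtain ⟨y, hy1⟩ := (Subgroup.ne_bot_iff_exists_ne_one).mp hX
    have hgy : g * (y : G) * g⁻¹ ∈ X := (Subgroup.mem_normalizer_iff.mp hg y).mp y.2
    exact Cfsg.Agent.Lib.Helper5.BSWB4.conj_mem_cent h g y (hXK y.2)
      (fun h1 => hy1 (Subtype.ext h1)) (hXK hgy)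
  · intro hg
    rw [Subgroup.mem_normalizer_iff]
    intro y
    rcases Cfsg.Agent.Lib.Helper5.BSWB3.mem_cent_cases h g hg with hgK | ⟨-, -, hinv⟩
    · -- g ∈ K commutes with X ≤ K
      have hcomm : ∀ z ∈ K, g * z * g⁻¹ = z := by
        intro z hz
        have hc := h.hKab.is_comm.comm ⟨g, hgK⟩ ⟨z, hz⟩
        have hc' : g * z = z * g := congrArg Subtype.val hc
        rw [hc']; group
      constructor
      · intro hy; rw [hcomm y (hXK hy)]; exact hy
      · intro hy
        -- y = g⁻¹ (g y g⁻¹) g and g y g⁻¹ ∈ X ≤ K is fixed by g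
        have h1 : g * (g * y * g⁻¹) * g⁻¹ = g * y * g⁻¹ := hcomm _ (hXK hy)
        have h2 : y = g * y * g⁻¹ := by
          have : g * y * g⁻¹ = g⁻¹ * (g * (g * y * g⁻¹) * g⁻¹) * g := by group
          rw [h1] at this
          calc y = g⁻¹ * (g * y * g⁻¹) * g := by group
            _ = g * y * g⁻¹ := this.symm
        rw [h2]; exact hy
    · constructor
      · intro hy; rw [hinv y (hXK hy)]; exact X.inv_mem hy
      · intro hy
        have h1 : g * (g * y * g⁻¹) * g⁻¹ = (g * y * g⁻¹)⁻¹ := hinv _ (hXK hy)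
        -- (g y g⁻¹)⁻¹ ∈ X, and it equals g (g y g⁻¹) g⁻¹; so g y g⁻¹ = g⁻¹ (..)⁻¹ g ... use K-membership
        have hyK : y ∈ K := by
          -- y = g⁻¹ (g y g⁻¹) g ; g⁻¹ ∈ C(t) also inverts K
          have hz : g * y * g⁻¹ ∈ K := hXK hy
          have hg' : g⁻¹ ∈ Subgroup.centralizer ({t} : Set G) := Subgroup.inv_mem _ hg
          rcases Cfsg.Agent.Lib.Helper5.BSWB3.mem_cent_cases h g⁻¹ hg' with hgK' | ⟨-, -, hinv'⟩
          · have : y = g⁻¹ * (g * y * g⁻¹) * g := by group
            rw [this]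
            exact K.mul_mem (K.mul_mem hgK' hz) (by simpa using K.inv_mem hgK')
          · have := hinv' _ hz
            have e : g⁻¹ * (g * y * g⁻¹) * g⁻¹⁻¹ = y := by group
            rw [e] at this
            rw [this]; exact K.inv_mem hz
        have := hinv y hyK
        rw [this] at hy
        simpa using X.inv_mem hy

/-- **P4** `last_clause_conj`. -/
theorem last_clause_conj {t s : G} {K : Subgroup G} (h : Hyp t s K) (x : G) :
    ∀ X : Subgroup G, X ≤ K.map (MulAut.conj x).toMonoidHom → X ≠ ⊥ →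
      Subgroup.normalizer (X : Set G) =
        Subgroup.normalizer ((K.map (MulAut.conj x).toMonoidHom : Subgroup G) : Set G) ∧
      ∃ u : G, orderOf u = 2 ∧ u ∉ K.map (MulAut.conj x).toMonoidHom ∧
        (∀ d ∈ K.map (MulAut.conj x).toMonoidHom, u * d * u⁻¹ = d⁻¹) ∧
        Subgroup.normalizer ((K.map (MulAut.conj x).toMonoidHom : Subgroup G) : Set G) =
          K.map (MulAut.conj x).toMonoidHom ⊔ Subgroup.zpowers u := by
  have h' := Cfsg.Agent.Lib.Helper14.BSWB0b.hyp_conj h x
  have key := normalizer_eq_cent_aux h'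
  have hne : K.map (MulAut.conj x).toMonoidHom ≠ ⊥ := by
    intro hbot
    have ht := h'.htK
    rw [hbot, Subgroup.mem_bot] at ht
    have h2 := h'.ht
    rw [ht, orderOf_one] at h2
    norm_num at h2
  intro X hX hXne
  refine ⟨(key X hX hXne).trans (key _ le_rfl hne).symm, x * s * x⁻¹, h'.hs, h'.hsK, h'.hinv, ?_⟩
  rw [key _ le_rfl hne, h'.hH]

end Cfsg.Agent.Lib.Helper14.BSWP4
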