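import Mathlib
import Cfsg.Prelude.Def_Characters
import Cfsg.Agent.Lib.Helper24.BSWDefs
import Cfsg.Agent.Lib.Helper14.BSWP2
import Cfsg.Agent.Lib.Helper14.BSWP4

/-!
# S3282 leaf P3 (helper14): `concl_of_dataP` (the conclusion in case P)
-/

set_option autoImplicit false
open Cfsg Cfsg.Agent.Lib.Helper24.BSW

namespace Cfsg.Agent.Lib.Helper14.BSWP3

variable {G : Type*} [Group G] [Finite G]

/-- **P3** the conclusion in case P. -/
theorem concl_of_dataP {t s : G} {K : Subgroup G} (h : Hyp t s K) (hP : DataP K) :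
    Concl G := by
  classical
  obtain ⟨y, hy, hcnt⟩ := hP.ex
  set k := Nat.card K with hk
  have hne : invCount y ≠ 0 := by rw [hcnt]; omega
  obtain ⟨u, hu, huy⟩ := (Cfsg.Agent.Lib.Helper14.BSWB0a.invCount_ne_zero_iff y).mp hne
  obtain ⟨x, hx⟩ : ∃ x : G, x * t * x⁻¹ = u := by
    have := h.hconj t u h.ht hu
    rw [isConj_iff] at this
    exact this
  set Q : Subgroup G := Subgroup.centralizer ({y} : Set G) with hQ
  set D : Subgroup G := K.map (MulAut.conj x).toMonoidHom with hD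
  set E : Subgroup G := Subgroup.normalizer (Q : Set G) ⊓ Subgroup.centralizer ({u} : Set G) with hE
  have hG1 := Cfsg.Agent.Lib.Helper14.BSWP2.G1 h y hy u hu huy
  have hG2 := Cfsg.Agent.Lib.Helper14.BSWP2.G2 h y hy u hu huy
  have hG3 := Cfsg.Agent.Lib.Helper14.BSWP2.G3 h y hy u hu huy
  obtain ⟨hG4a, hG4b, -⟩ := Cfsg.Agent.Lib.Helper14.BSWP2.G4 h y hy u hu huy
  have hQcard : Nat.card Q = 2 * k + 1 := by rw [← hG2, hcnt]
  have hEcard : Nat.card E = k :=
    Cfsg.Agent.Lib.Helper14.BSWP2.card_normalizer_inf h hP y hy u hu huy hQcard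
  have hDcard : Nat.card D = k := Subgroup.card_map_of_injective (MulAut.conj x).injective
  have hED : E = D := by
    apply Subgroup.eq_of_le_of_card_ge (hG4b x hx)
    rw [hEcard, hDcard]
  have hQodd : Odd (Nat.card Q) := by rw [hQcard]; exact ⟨k, rfl⟩
  -- Q ⊓ D = ⊥
  have hQD : Q ⊓ D = ⊥ := by
    rw [eq_bot_iff]
    intro z hz
    rw [Subgroup.mem_inf] at hz
    obtain ⟨hzQ, hzD⟩ := hz
    rw [← hED, hE, Subgroup.mem_inf] at hzD
    have hzu : z ∈ Subgroup.centralizer ({u} : Set G) := hzD.2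
    rw [Subgroup.mem_centralizer_singleton_iff] at hzu
    have h1 : u * z * u⁻¹ = z⁻¹ := hG1 z hzQ
    have h2 : u * z * u⁻¹ = z := by rw [← hzu]; group
    have h3 : z * z = 1 := by
      have : z⁻¹ = z := by rw [← h1, h2]
      calc z * z = z⁻¹ * z := by rw [this]
        _ = 1 := by group
    rw [Subgroup.mem_bot]
    exact Cfsg.Agent.Lib.Helper2.BSWG.eq_one_of_sq_of_odd Q hQodd z hzQ h3
  -- N(Q) = Q ⊔ D
  have hDN : D ≤ Subgroup.normalizer (Q : Set G) := by
    rw [← hED, hE]; exact inf_le_left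
  have hsup_le : Q ⊔ D ≤ Subgroup.normalizer (Q : Set G) :=
    sup_le Subgroup.le_normalizer hDN
  have hNQ : Subgroup.normalizer (Q : Set G) = Q ⊔ D := by
    symm
    apply Subgroup.eq_of_le_of_card_ge hsup_le
    rw [hG4a, hEcard, ← hDcard]
    -- |Q| |D| ≤ |Q ⊔ D| by the injection (a, b) ↦ a b
    have hinj : Function.Injective (fun p : Q × D =>
        (⟨(p.1 : G) * (p.2 : G), Subgroup.mul_mem _ (Subgroup.mem_sup_left p.1.2)
          (Subgroup.mem_sup_right p.2.2)⟩ : (Q ⊔ D : Subgroup G))) := by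
      rintro ⟨a, b⟩ ⟨a', b'⟩ hab
      have hab' : (a : G) * (b : G) = (a' : G) * (b' : G) := congrArg Subtype.val hab
      have hmem : (a' : G)⁻¹ * (a : G) ∈ Q ⊓ D := by
        rw [Subgroup.mem_inf]
        refine ⟨Q.mul_mem (Q.inv_mem a'.2) a.2, ?_⟩
        have : (a' : G)⁻¹ * (a : G) = (b' : G) * (b : G)⁻¹ := by
          calc (a' : G)⁻¹ * (a : G) = (a' : G)⁻¹ * ((a : G) * (b : G)) * (b : G)⁻¹ := by group
            _ = (a' : G)⁻¹ * ((a' : G) * (b' : G)) * (b : G)⁻¹ := by rw [hab']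
            _ = (b' : G) * (b : G)⁻¹ := by group
        rw [this]
        exact D.mul_mem b'.2 (D.inv_mem b.2)
      rw [hQD, Subgroup.mem_bot] at hmem
      have haa : (a : G) = (a' : G) := by
        have : (a : G) = (a' : G) * ((a' : G)⁻¹ * (a : G)) := by group
        rw [this, hmem, mul_one]
      have hbb : (b : G) = (b' : G) := by
        rw [haa] at hab'
        exact mul_left_cancel hab'
      exact Prod.ext (Subtype.ext haa) (Subtype.ext hbb)
    have := Nat.card_le_card_of_injective _ hinj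
    rwa [Nat.card_prod] at this
  have hlast := Cfsg.Agent.Lib.Helper14.BSWP4.last_clause_conj h x
  have h' := Cfsg.Agent.Lib.Helper14.BSWB0b.hyp_conj h x
  refine ⟨Q, D, ?_, ?_, h'.hKab, ?_, hQD, hNQ, hlast⟩
  · -- 2 |G| = q (q+1) (q-1)
    rw [hQcard, hP.card]
    have : 2 * k + 1 - 1 = 2 * k := by omega
    rw [this]; ring
  · intro z hz hz1
    exact hG3.2 z hz hz1
  · rw [hDcard, hQcard]

end Cfsg.Agent.Lib.Helper14.BSWP3
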