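import Mathlib

/-!
# Permuting isomorphic orbits

If a group `G` acts on `X` and `x : Fin r → X` are points in pairwise different orbits
with the same stabilizer, then `Perm (Fin r)` embeds into `Perm X` commuting with the action.
Also a pigeonhole lemma producing such points when `X` is large.
-/

namespace Cfsg.Agent.Lib.Helper14

open MulAction

section permOrbits

variable (G : Type*) {X : Type*} [Group G] [MulAction G X] {r : ℕ}

/-- `y` lies in the orbit of one of the base points. -/
def Covered (x : Fin r → X) (y : X) : Prop := ∃ i : Fin r, ∃ g : G, y = g • x i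

open Classical in
/-- move the orbit of `x i` to the orbit of `x (σ i)`. -/
noncomputable def permFun (x : Fin r → X) (σ : Fin r → Fin r) (y : X) : X :=
  if hy : Covered G x y then (hy.choose_spec.choose) • x (σ hy.choose) else y

variable {G}

theorem permFun_aux (x : Fin r → X)
    (hstab : ∀ i j, stabilizer G (x i) = stabilizer G (x j))
    (horb : ∀ i j, x i ∈ orbit G (x j) → i = j)
    (σ : Fin r → Fin r) (g g' : G) (i i' : Fin r) (spec : g • x i = g' • x i') :
    g' • x (σ i') = g • x (σ i) := by
  have hii : i = i' := by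
    apply horb
    refine ⟨g⁻¹ * g', ?_⟩
    show (g⁻¹ * g') • x i' = x i
    rw [mul_smul, ← spec, inv_smul_smul]
  subst hii
  have hmem : g'⁻¹ * g ∈ stabilizer G (x i) := by
    rw [mem_stabilizer_iff, mul_smul, spec, inv_smul_smul]
  rw [hstab i (σ i), mem_stabilizer_iff, mul_smul] at hmem
  calc g' • x (σ i) = g' • (g'⁻¹ • g • x (σ i)) := by rw [hmem]
    _ = g • x (σ i) := by rw [smul_inv_smul]

theorem permFun_smul (x : Fin r → X)
    (hstab : ∀ i j, stabilizer G (x i) = stabilizer G (x j))
    (horb : ∀ i j, x i ∈ orbit G (x j) → i = j)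
    (σ : Fin r → Fin r) (g : G) (i : Fin r) :
    permFun G x σ (g • x i) = g • x (σ i) := by
  have hy : Covered G x (g • x i) := ⟨i, g, rfl⟩
  unfold permFun
  rw [dif_pos hy]
  exact permFun_aux x hstab horb σ g _ i _ hy.choose_spec.choose_spec

theorem permFun_of_not_covered (x : Fin r → X) (σ : Fin r → Fin r) (y : X)
    (hy : ¬ Covered G x y) : permFun G x σ y = y := by
  unfold permFun
  rw [dif_neg hy]

theorem permFun_comp (x : Fin r → X)
    (hstab : ∀ i j, stabilizer G (x i) = stabilizer G (x j))
    (horb : ∀ i j, x i ∈ orbit G (x j) → i = j)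
    (σ τ : Fin r → Fin r) (y : X) :
    permFun G x σ (permFun G x τ y) = permFun G x (σ ∘ τ) y := by
  by_cases hy : Covered G x y
  · obtain ⟨i, g, rfl⟩ := hy
    rw [permFun_smul x hstab horb, permFun_smul x hstab horb, permFun_smul x hstab horb]
    rfl
  · rw [permFun_of_not_covered x τ y hy, permFun_of_not_covered x σ y hy,
      permFun_of_not_covered x _ y hy]

theorem permFun_id (x : Fin r → X)
    (hstab : ∀ i j, stabilizer G (x i) = stabilizer G (x j))
    (horb : ∀ i j, x i ∈ orbit G (x j) → i = j) (y : X) :
    permFun G x id y = y := by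
  by_cases hy : Covered G x y
  · obtain ⟨i, g, rfl⟩ := hy
    rw [permFun_smul x hstab horb]
    rfl
  · rw [permFun_of_not_covered x _ y hy]

theorem permFun_equivariant (x : Fin r → X)
    (hstab : ∀ i j, stabilizer G (x i) = stabilizer G (x j))
    (horb : ∀ i j, x i ∈ orbit G (x j) → i = j)
    (σ : Fin r → Fin r) (h : G) (y : X) :
    permFun G x σ (h • y) = h • permFun G x σ y := by
  by_cases hy : Covered G x y
  · obtain ⟨i, g, rfl⟩ := hy
    rw [permFun_smul x hstab horb, ← mul_smul, permFun_smul x hstab horb, mul_smul]
  · have hy' : ¬ Covered G x (h • y) := by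
      rintro ⟨i, g, hg⟩
      apply hy
      refine ⟨i, h⁻¹ * g, ?_⟩
      rw [mul_smul, ← hg, inv_smul_smul]
    rw [permFun_of_not_covered x σ y hy, permFun_of_not_covered x σ _ hy']

/-- The embedding `Perm (Fin r) →* Perm X` permuting the orbits of the base points. -/
noncomputable def permHom (x : Fin r → X)
    (hstab : ∀ i j, stabilizer G (x i) = stabilizer G (x j))
    (horb : ∀ i j, x i ∈ orbit G (x j) → i = j) :
    Equiv.Perm (Fin r) →* Equiv.Perm X where
  toFun σ :=
    { toFun := permFun G x σ
      invFun := permFun G x σ.symm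
      left_inv := fun y => by
        rw [permFun_comp x hstab horb]
        have : (⇑σ.symm ∘ ⇑σ) = id := by
          funext i; simp
        rw [this, permFun_id x hstab horb]
      right_inv := fun y => by
        rw [permFun_comp x hstab horb]
        have : (⇑σ ∘ ⇑σ.symm) = id := by
          funext i; simp
        rw [this, permFun_id x hstab horb] }
  map_one' := by
    ext y
    show permFun G x (⇑(1 : Equiv.Perm (Fin r))) y = y
    have : (⇑(1 : Equiv.Perm (Fin r))) = id := by
      funext i; simp
    rw [this, permFun_id x hstab horb]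
  map_mul' σ τ := by
    ext y
    show permFun G x (⇑(σ * τ)) y = permFun G x σ (permFun G x τ y)
    rw [permFun_comp x hstab horb]
    rfl

theorem permHom_apply (x : Fin r → X)
    (hstab : ∀ i j, stabilizer G (x i) = stabilizer G (x j))
    (horb : ∀ i j, x i ∈ orbit G (x j) → i = j) (σ : Equiv.Perm (Fin r)) (y : X) :
    permHom x hstab horb σ y = permFun G x σ y := rfl

theorem permHom_base (x : Fin r → X)
    (hstab : ∀ i j, stabilizer G (x i) = stabilizer G (x j))
    (horb : ∀ i j, x i ∈ orbit G (x j) → i = j) (σ : Equiv.Perm (Fin r)) (i : Fin r) :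
    permHom x hstab horb σ (x i) = x (σ i) := by
  rw [permHom_apply]
  have := permFun_smul x hstab horb σ (1 : G) i
  rwa [one_smul, one_smul] at this

theorem permHom_injective (x : Fin r → X)
    (hstab : ∀ i j, stabilizer G (x i) = stabilizer G (x j))
    (horb : ∀ i j, x i ∈ orbit G (x j) → i = j) :
    Function.Injective (permHom x hstab horb) := by
  intro σ τ h
  ext i
  have h1 := permHom_base x hstab horb σ i
  have h2 := permHom_base x hstab horb τ i
  rw [h] at h1
  have h3 : x (σ i) = x (τ i) := h1.symm.trans h2
  have : σ i = τ i := by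
    apply horb
    rw [h3]
    exact mem_orbit_self _
  rw [this]

theorem permHom_smul (x : Fin r → X)
    (hstab : ∀ i j, stabilizer G (x i) = stabilizer G (x j))
    (horb : ∀ i j, x i ∈ orbit G (x j) → i = j) (σ : Equiv.Perm (Fin r)) (h : G) (y : X) :
    permHom x hstab horb σ (h • y) = h • permHom x hstab horb σ y := by
  rw [permHom_apply, permHom_apply, permFun_equivariant x hstab horb]

end permOrbits

section pigeon

/-- Pigeonhole: a finite group acting on a large finite set has many orbits with equal stabilizers
of chosen base points. -/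
theorem exists_points_same_stabilizer (G X : Type*) [Group G] [MulAction G X] [Finite G] [Finite X]
    (r : ℕ) (h : Nat.card G * (2 ^ Nat.card G * r + 1) ≤ Nat.card X) :
    ∃ x : Fin r → X, (∀ i j, stabilizer G (x i) = stabilizer G (x j)) ∧
      (∀ i j, x i ∈ orbit G (x j) → i = j) := by
  classical
  letI : Fintype G := Fintype.ofFinite G
  letI : Fintype X := Fintype.ofFinite X
  set Ω := orbitRel.Quotient G X with hΩ
  letI : Fintype Ω := Fintype.ofFinite Ω
  rw [Nat.card_eq_fintype_card, Nat.card_eq_fintype_card] at h
  -- each y is g • out ⟦y⟧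
  have hrep : ∀ y : X, ∃ g : G, g • (Quotient.out (Quotient.mk'' y : Ω)) = y := by
    intro y
    have h1 : (Quotient.mk'' (Quotient.out (Quotient.mk'' y : Ω)) : Ω) = Quotient.mk'' y :=
      Quotient.out_eq' _
    have h2 := Quotient.exact' h1
    -- h2 : orbitRel relation
    have h3 : Quotient.out (Quotient.mk'' y : Ω) ∈ orbit G y := h2
    obtain ⟨g, hg⟩ := h3
    refine ⟨g⁻¹, ?_⟩
    rw [← hg]
    exact inv_smul_smul g y
  choose gy hgy using hrep
  have hinj : Function.Injective (fun y : X => ((Quotient.mk'' y : Ω), gy y)) := by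
    intro y y' hyy
    simp only [Prod.mk.injEq] at hyy
    rw [← hgy y, ← hgy y', hyy.1, hyy.2]
  have hcard : Fintype.card X ≤ Fintype.card Ω * Fintype.card G := by
    rw [← Fintype.card_prod]
    exact Fintype.card_le_of_injective _ hinj
  have hGpos : 0 < Fintype.card G := Fintype.card_pos
  have hΩcard : Fintype.card (Set G) * r < Fintype.card Ω := by
    rw [Fintype.card_set]
    have : Fintype.card G * (2 ^ Fintype.card G * r + 1) ≤ Fintype.card G * Fintype.card Ω := by
      rw [mul_comm (Fintype.card G) (Fintype.card Ω)]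
      exact h.trans hcard
    have := Nat.le_of_mul_le_mul_left this hGpos
    omega
  obtain ⟨S, hS⟩ := Fintype.exists_lt_card_fiber_of_mul_lt_card
    (fun ω : Ω => (stabilizer G (Quotient.out ω) : Set G)) hΩcard
  have hSr : Fintype.card (Fin r) ≤ Fintype.card {ω : Ω // (stabilizer G (Quotient.out ω) : Set G) = S} := by
    rw [Fintype.card_fin, Fintype.card_subtype]
    exact hS.le
  obtain ⟨ι⟩ := Function.Embedding.nonempty_of_card_le hSr
  refine ⟨fun i => Quotient.out (ι i).val, ?_, ?_⟩
  · intro i j
    apply SetLike.coe_injective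
    rw [(ι i).property, (ι j).property]
  · intro i j hij
    have h1 : (Quotient.mk'' (Quotient.out (ι i).val) : Ω) = Quotient.mk'' (Quotient.out (ι j).val) :=
      Quotient.sound' hij
    rw [Quotient.out_eq', Quotient.out_eq'] at h1
    exact ι.injective (Subtype.ext h1)

end pigeon

end Cfsg.Agent.Lib.Helper14
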