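import Mathlib
import Cfsg.Prelude.Def_Sporadic_a
import Cfsg.Prelude.Def_Spor_Conway
import Cfsg.Agent.Lib.Helper14.Leech
import Cfsg.Agent.Lib.Helper14.LeechShort
import Cfsg.Agent.Lib.Helper14.LeechGen
import Cfsg.Agent.Lib.Helper14.LeechMono
import Cfsg.Agent.Lib.Helper14.Co0Center

set_option autoImplicit false

/-! The reduction modulo 13 of the Leech lattice, and the faithful 23-dimensional representation
of the stabiliser of `(4, 4, 0, …)` obtained from it. -/

namespace Cfsg.Agent.Lib.Helper14.Co2Rep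

open Cfsg Cfsg.Agent.Lib.Helper14.Leech Cfsg.Agent.Lib.Helper14.LeechCount
  Cfsg.Agent.Lib.Helper14.LeechMono Cfsg.Agent.Lib.Helper14.Co0Center

abbrev K : Type := ZMod 13
abbrev V : Type := GolayPt → K
abbrev W : Type := ZMod 23 → K

/-- reduction modulo 13 -/
def rho : (GolayPt → ℤ) →+ V where
  toFun x := fun i => ((x i : ℤ) : K)
  map_zero' := by funext i; simp
  map_add' x y := by funext i; simp

theorem rho_apply (x : GolayPt → ℤ) (i : GolayPt) : rho x i = ((x i : ℤ) : K) := rfl

theorem rho_zsmul (n : ℤ) (x : GolayPt → ℤ) : rho (n • x) = (n : K) • rho x := by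
  funext i; simp [rho_apply]

theorem rho_sub (x y : GolayPt → ℤ) : rho (x - y) = rho x - rho y := map_sub rho x y

/-- the linear map attached to a permutation of the lattice -/
noncomputable def T (g : Equiv.Perm ↥leechLattice) : V →ₗ[K] V :=
  Fintype.linearCombination K
    (fun i => (5 : K) • rho ((g (E i) : ↥leechLattice) : GolayPt → ℤ))

theorem T_apply (g : Equiv.Perm ↥leechLattice) (x : V) :
    T g x = ∑ i, x i • ((5 : K) • rho ((g (E i) : ↥leechLattice) : GolayPt → ℤ)) :=
  Fintype.linearCombination_apply K _ x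

theorem eight_smul (y : ↥leechLattice) : (8 : ℤ) • y = ∑ i, (y.1 i) • E i := by
  apply Subtype.ext
  funext j
  rw [AddSubgroup.val_finsetSum]
  show (8 : ℤ) • (y.1 j) = _
  rw [Finset.sum_apply, Finset.sum_eq_single j]
  · show _ = (y.1 j) • ((E j : ↥leechLattice) : GolayPt → ℤ) j
    rw [E_coe, Pi.single_eq_same, smul_eq_mul, smul_eq_mul, mul_comm]
  · intro i _ hij
    show (y.1 i) • ((E i : ↥leechLattice) : GolayPt → ℤ) j = 0
    rw [E_coe, Pi.single_eq_of_ne (Ne.symm hij), smul_zero]
  · intro h; exact absurd (Finset.mem_univ j) h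

theorem five_eight : (5 : K) * 8 = 1 := by decide

/-- the key property: `T g` is the reduction of `g` -/
theorem T_rho (g : Equiv.Perm ↥leechLattice) (hg : g ∈ Co0) (y : ↥leechLattice) :
    T g (rho (y : GolayPt → ℤ)) = rho ((g y : ↥leechLattice) : GolayPt → ℤ) := by
  let G' : ↥leechLattice →+ ↥leechLattice := AddMonoidHom.mk' g hg.1
  have h1 : (8 : ℤ) • g y = ∑ i, (y.1 i) • g (E i) := by
    have := congrArg G' (eight_smul y)
    rw [map_zsmul, map_sum] at this
    simp only [map_zsmul] at this
    exact this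
  have h2 : (8 : K) • rho ((g y : ↥leechLattice) : GolayPt → ℤ)
      = ∑ i, ((y.1 i : ℤ) : K) • rho ((g (E i) : ↥leechLattice) : GolayPt → ℤ) := by
    have := congrArg (fun z : ↥leechLattice => rho (z : GolayPt → ℤ)) h1
    simp only [AddSubgroup.coe_zsmul, AddSubgroup.val_finsetSum, map_sum, rho_zsmul] at this
    simpa using this
  rw [T_apply]
  simp only [rho_apply, smul_comm _ ((5 : K)), ← Finset.smul_sum]
  have h3 : ∑ i, ((y.1 i : ℤ) : K) • rho ((g (E i) : ↥leechLattice) : GolayPt → ℤ)
      = (8 : K) • rho ((g y : ↥leechLattice) : GolayPt → ℤ) := h2.symm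
  rw [h3, smul_smul, five_eight, one_smul]

theorem rho_surj (x : V) : ∃ y : ↥leechLattice, rho (y : GolayPt → ℤ) = x := by
  refine ⟨∑ i, ((5 * (x i).val : ℕ) : ℤ) • E i, ?_⟩
  funext j
  rw [rho_apply, AddSubgroup.val_finsetSum, Finset.sum_apply, Finset.sum_eq_single j]
  · show ((((5 * (x j).val : ℕ) : ℤ) • ((E j : ↥leechLattice) : GolayPt → ℤ) j : ℤ) : K) = x j
    rw [E_coe, Pi.single_eq_same, smul_eq_mul]
    push_cast
    rw [ZMod.natCast_zmod_val]
    have : (5 : K) * x j * 8 = (40 : K) * x j := by ring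
    rw [this]
    have h40 : (40 : K) = 1 := by decide
    rw [h40, one_mul]
  · intro i _ hij
    show ((5 * (x i).val : ℕ) : ℤ) • ((E i : ↥leechLattice) : GolayPt → ℤ) j = 0
    rw [E_coe, Pi.single_eq_of_ne (Ne.symm hij), smul_zero]
  · intro h; exact absurd (Finset.mem_univ j) h

theorem T_one : T 1 = LinearMap.id := by
  apply LinearMap.ext
  intro x
  obtain ⟨y, rfl⟩ := rho_surj x
  rw [T_rho 1 (Subgroup.one_mem _)]
  rfl

theorem T_mul (g h : Equiv.Perm ↥leechLattice) (hg : g ∈ Co0) (hh : h ∈ Co0) :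
    T (g * h) = T g ∘ₗ T h := by
  apply LinearMap.ext
  intro x
  obtain ⟨y, rfl⟩ := rho_surj x
  rw [T_rho (g * h) (Subgroup.mul_mem _ hg hh), LinearMap.comp_apply, T_rho h hh, T_rho g hg]
  rfl

/-! ### the quotient by the fixed vector -/

/-- the fixed direction `e_∞ + e_0` -/
def d : V := fun i => if i = none ∨ i = some 0 then 1 else 0

/-- the projection with kernel spanned by `d` -/
def pr : V →ₗ[K] W where
  toFun x := fun j => x (some j) - (if j = 0 then x none else 0)
  map_add' x y := by
    funext j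
    by_cases hj : j = 0 <;> simp [hj] <;> ring
  map_smul' c x := by
    funext j
    by_cases hj : j = 0 <;> simp [hj] <;> ring

/-- a section of the projection -/
def sec : W →ₗ[K] V where
  toFun y := fun i => match i with
    | none => 0
    | some j => y j
  map_add' x y := by
    funext i
    cases i <;> simp
  map_smul' c x := by
    funext i
    cases i <;> simp

theorem pr_sec (y : W) : pr (sec y) = y := by
  funext j
  show sec y (some j) - (if j = 0 then sec y none else 0) = y j
  show y j - (if j = 0 then (0 : K) else 0) = y j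
  simp

theorem sub_sec_pr (x : V) : x - sec (pr x) = x none • d := by
  funext i
  cases i with
  | none =>
    show x none - 0 = x none * d none
    simp [d]
  | some j =>
    show x (some j) - (x (some j) - (if j = 0 then x none else 0)) = x none * d (some j)
    by_cases hj : j = 0
    · subst hj; simp [d]
    · have : (some j : GolayPt) ≠ some 0 := fun h => hj (Option.some.inj h)
      simp [d, hj, this]

theorem pr_d : pr d = 0 := by
  funext j
  show d (some j) - (if j = 0 then d none else 0) = 0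
  by_cases hj : j = 0
  · subst hj; simp [d]
  · have : (some j : GolayPt) ≠ some 0 := fun h => hj (Option.some.inj h)
    simp [d, hj, this]

theorem eq_smul_d (z : V) (hz : pr z = 0) : z = z none • d := by
  have := sub_sec_pr z
  rw [hz, map_zero, sub_zero] at this
  exact this

theorem rho_vecU : rho Spor.vecU = (4 : K) • d := by
  funext i
  rw [rho_apply]
  show ((Spor.vecU i : ℤ) : K) = 4 * d i
  unfold Spor.vecU d
  split_ifs <;> simp

theorem mem_Co2 (g : Equiv.Perm ↥leechLattice) (hg : g ∈ Spor.Co2) :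
    g ∈ Co0 ∧ g Spor.leechU = Spor.leechU := by
  unfold Spor.Co2 at hg
  rw [Subgroup.mem_inf, MulAction.mem_stabilizer_iff] at hg
  exact hg

theorem ten_four : (10 : K) * 4 = 1 := by decide

theorem T_d (g : Equiv.Perm ↥leechLattice) (hg : g ∈ Spor.Co2) : T g d = d := by
  obtain ⟨h0, hu⟩ := mem_Co2 g hg
  have h1 : d = (10 : K) • rho (Spor.leechU : GolayPt → ℤ) := by
    show d = (10 : K) • rho Spor.vecU
    rw [rho_vecU, smul_smul, ten_four, one_smul]
  rw [h1, map_smul, T_rho g h0, hu]

/-- the representation on the quotient -/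
noncomputable def Phi (g : Equiv.Perm ↥leechLattice) : Module.End K W := pr ∘ₗ T g ∘ₗ sec

theorem Phi_apply (g : Equiv.Perm ↥leechLattice) (y : W) : Phi g y = pr (T g (sec y)) := rfl

theorem pr_T (g : Equiv.Perm ↥leechLattice) (hg : g ∈ Spor.Co2) (x : V) :
    pr (T g x) = Phi g (pr x) := by
  rw [Phi_apply]
  have h1 : sec (pr x) = x - x none • d := by
    rw [← sub_sec_pr x]; abel
  rw [h1, map_sub, map_smul, T_d g hg, map_sub, map_smul, pr_d, smul_zero, sub_zero]

theorem Phi_one : Phi 1 = 1 := by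
  apply LinearMap.ext
  intro y
  rw [Phi_apply, T_one, LinearMap.id_apply, pr_sec]
  rfl

theorem Phi_mul (g h : Equiv.Perm ↥leechLattice) (hg : g ∈ Spor.Co2) (hh : h ∈ Spor.Co2) :
    Phi (g * h) = Phi g * Phi h := by
  apply LinearMap.ext
  intro y
  rw [Module.End.mul_apply, Phi_apply, T_mul g h (mem_Co2 g hg).1 (mem_Co2 h hh).1,
    LinearMap.comp_apply, pr_T g hg, Phi_apply h]

/-- the representation as a monoid homomorphism -/
noncomputable def PhiHom : ↥Spor.Co2 →* Module.End K W where
  toFun g := Phi g.1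
  map_one' := Phi_one
  map_mul' g h := Phi_mul g.1 h.1 g.2 h.2

/-! ### faithfulness -/

theorem dot_vecU (x : GolayPt → ℤ) : dotInt x Spor.vecU = 4 * x none + 4 * x (some 0) := by
  unfold dotInt
  have : ∀ i : GolayPt, x i * Spor.vecU i
      = (if i = none then 4 * x i else 0) + (if i = some 0 then 4 * x i else 0) := by
    intro i
    unfold Spor.vecU
    by_cases h1 : i = none
    · subst h1; simp; ring
    · by_cases h2 : i = some 0
      · subst h2; simp; ring
      · simp [h1, h2]
  rw [Finset.sum_congr rfl (fun i _ => this i), Finset.sum_add_distrib, Finset.sum_ite_eq',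
    Finset.sum_ite_eq']
  simp

theorem sq_le_sqNorm (x : GolayPt → ℤ) (i : GolayPt) : x i ^ 2 ≤ sqNorm x := by
  unfold sqNorm
  exact Finset.single_le_sum (f := fun i => x i ^ 2) (fun j _ => sq_nonneg (x j))
    (Finset.mem_univ i)

theorem fix_min (g : Equiv.Perm ↥leechLattice) (hg : g ∈ Spor.Co2) (hP : Phi g = 1)
    (y : ↥leechLattice) (hy : sqNorm (y : GolayPt → ℤ) = 32) : g y = y := by
  obtain ⟨h0, hu⟩ := mem_Co2 g hg
  set z : GolayPt → ℤ := ((g y : ↥leechLattice) : GolayPt → ℤ) - (y : GolayPt → ℤ) with hz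
  -- the reduction of `z` is a multiple of `d`
  have h1 : pr (rho z) = 0 := by
    rw [hz, rho_sub, map_sub, ← T_rho g h0, pr_T g hg, hP]
    simp
  have h2 := eq_smul_d (rho z) h1
  -- the coefficient vanishes
  have hdot : dotInt z Spor.vecU = 0 := by
    have e1 : dotInt ((g y : ↥leechLattice) : GolayPt → ℤ) Spor.vecU
        = dotInt (y : GolayPt → ℤ) Spor.vecU := by
      have := dot_pres g h0 y Spor.leechU
      rw [hu] at this
      exact this
    rw [hz]
    unfold dotInt at e1 ⊢
    rw [← sub_eq_zero, ← Finset.sum_sub_distrib] at e1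
    rw [← e1]
    refine Finset.sum_congr rfl fun i _ => ?_
    rw [Pi.sub_apply]; ring
  rw [dot_vecU] at hdot
  have hc : rho z none = 0 := by
    have e1 : rho z none = rho z none * d none := congrFun h2 none
    have e2 : rho z (some 0) = rho z none * d (some 0) := congrFun h2 (some 0)
    have hd1 : d none = 1 := by simp [d]
    have hd2 : d (some 0) = 1 := by simp [d]
    rw [hd2, mul_one] at e2
    have e3 : ((z none + z (some 0) : ℤ) : K) = 0 := by
      have : z none + z (some 0) = 0 := by omega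
      rw [this]; simp
    rw [Int.cast_add] at e3
    change rho z none + rho z (some 0) = 0 at e3
    rw [e2] at e3
    have h7 : (7 : K) * 2 = 1 := by decide
    have : (2 : K) * rho z none = 0 := by rw [two_mul]; exact e3
    calc rho z none = ((7 : K) * 2) * rho z none := by rw [h7, one_mul]
      _ = 7 * ((2 : K) * rho z none) := by ring
      _ = 0 := by rw [this, mul_zero]
  have h3 : rho z = 0 := by rw [h2, hc, zero_smul]
  -- all coordinates of `z` are divisible by 13
  have hdiv : ∀ i, (13 : ℤ) ∣ z i := by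
    intro i
    have := congrFun h3 i
    rw [rho_apply] at this
    exact (ZMod.intCast_zmod_eq_zero_iff_dvd (z i) 13).mp this
  -- but `z` is short
  have hn : sqNorm z ≤ 128 := by
    have e1 := Cfsg.Agent.Lib.Helper14.Leech.sqNorm_sub
      ((g y : ↥leechLattice) : GolayPt → ℤ) (y : GolayPt → ℤ)
    have e2 := Cfsg.Agent.Lib.Helper14.Leech.sqNorm_add
      ((g y : ↥leechLattice) : GolayPt → ℤ) (y : GolayPt → ℤ)
    have e3 : 0 ≤ sqNorm (((g y : ↥leechLattice) : GolayPt → ℤ) + (y : GolayPt → ℤ)) := by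
      unfold sqNorm
      exact Finset.sum_nonneg fun i _ => sq_nonneg _
    have e4 : sqNorm ((g y : ↥leechLattice) : GolayPt → ℤ) = 32 := by rw [h0.2 y, hy]
    rw [hz, e1, e4, hy]
    rw [e2, e4, hy] at e3
    linarith
  have hz0 : z = 0 := by
    funext i
    obtain ⟨t, ht⟩ := hdiv i
    have := sq_le_sqNorm z i
    rw [ht] at this
    rw [ht]
    have ht0 : t = 0 := by
      by_contra hne
      have : 1 ≤ t ^ 2 := by
        have := sq_nonneg t
        have h' : t ^ 2 ≠ 0 := pow_ne_zero 2 hne
        omega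
      nlinarith
    rw [ht0]; simp
  apply Subtype.ext
  have : ((g y : ↥leechLattice) : GolayPt → ℤ) - (y : GolayPt → ℤ) = 0 := hz0
  exact sub_eq_zero.mp this

theorem eq_one_of_Phi (g : Equiv.Perm ↥leechLattice) (hg : g ∈ Spor.Co2) (hP : Phi g = 1) :
    g = 1 := by
  obtain ⟨h0, -⟩ := mem_Co2 g hg
  apply Equiv.ext
  intro y
  have hy : (y : GolayPt → ℤ) ∈ Lmin := by rw [Lmin_eq]; exact y.2
  have key : ∀ x (hx : x ∈ Lmin), ∀ hx' : x ∈ leechLattice, g ⟨x, hx'⟩ = ⟨x, hx'⟩ := by
    intro x hx
    unfold Lmin at hx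
    induction hx using AddSubgroup.closure_induction with
    | mem x hx =>
      intro hx'
      exact fix_min g hg hP ⟨x, hx'⟩ hx.2
    | zero =>
      intro hx'
      exact co0_map_zero g h0
    | add x y hx hy ihx ihy =>
      intro hx'
      have hxL : x ∈ leechLattice := by
        have : x ∈ Lmin := hx
        rwa [Lmin_eq] at this
      have hyL : y ∈ leechLattice := by
        have : y ∈ Lmin := hy
        rwa [Lmin_eq] at this
      have : (⟨x + y, hx'⟩ : ↥leechLattice) = ⟨x, hxL⟩ + ⟨y, hyL⟩ := rfl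
      rw [this, h0.1, ihx hxL, ihy hyL]
    | neg x hx ihx =>
      intro hx'
      have hxL : x ∈ leechLattice := by
        have : x ∈ Lmin := hx
        rwa [Lmin_eq] at this
      have : (⟨-x, hx'⟩ : ↥leechLattice) = -⟨x, hxL⟩ := rfl
      rw [this, co0_map_neg g h0, ihx hxL]
  exact key y.1 hy y.2

/-- S5546 -/
theorem exists_embedding :
    ∃ f : ↥Spor.Co2 →* GL (Fin 23) (ZMod 13), Function.Injective f := by
  let e : ZMod 23 ≃ Fin 23 := Equiv.refl (Fin 23)
  let b : Module.Basis (Fin 23) K W := (Pi.basisFun K (ZMod 23)).reindex e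
  let A : Module.End K W ≃ₐ[K] Matrix (Fin 23) (Fin 23) K := LinearMap.toMatrixAlgEquiv b
  let f0 : ↥Spor.Co2 →* Matrix (Fin 23) (Fin 23) K :=
    (A : Module.End K W →* Matrix (Fin 23) (Fin 23) K).comp PhiHom
  refine ⟨f0.toHomUnits, ?_⟩
  rw [injective_iff_map_eq_one]
  intro g hg
  have h1 : ((f0.toHomUnits g : (Matrix (Fin 23) (Fin 23) K)ˣ) : Matrix (Fin 23) (Fin 23) K) = 1 := by
    rw [hg]; rfl
  have h2 : A (Phi g.1) = 1 := h1
  have h3 : Phi g.1 = 1 := by
    apply A.injective
    rw [h2, map_one]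
  exact Subtype.ext (eq_one_of_Phi g.1 g.2 h3)

end Cfsg.Agent.Lib.Helper14.Co2Rep
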