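import Mathlib

set_option autoImplicit false
set_option linter.style.haveILetI false

/-!
The orbits of a subgroup of order 6048 and index 100 on its cosets, from a list of distinct values
of a function constant on the cosets.
-/

namespace Cfsg.Agent.Lib.Helper14.CosetOrbits

open MulAction

variable {G : Type*} [Group G]

theorem ncard_orbit_dvd (H : Subgroup G) [Finite H] (c : G ⧸ H) :
    (orbit ↥H c).ncard ∣ Nat.card H := by
  rw [← Nat.card_coe_set_eq, Nat.card_congr (orbitEquivQuotientStabilizer ↥H c)]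
  exact Subgroup.index_dvd_card _

theorem orbits_36_63 (H : Subgroup G) (hidx : H.index = 100) (hcard : Nat.card H = 6048)
    {β : Type*} (Φ : G → β) (hΦ : ∀ g, ∀ h ∈ H, Φ (g * h) = Φ g) (g1 g2 : G)
    (L1 L2 : List G) (hL1 : ∀ x ∈ L1, x ∈ H) (hL2 : ∀ x ∈ L2, x ∈ H)
    (hlen1 : L1.length = 36) (hlen2 : L2.length = 63)
    (hnd : (Φ 1 :: ((L1.map fun x => Φ (x * g1)) ++ (L2.map fun x => Φ (x * g2)))).Nodup) :
    (orbit ↥H (g1 : G ⧸ H)).ncard = 36 ∧ (orbit ↥H (g2 : G ⧸ H)).ncard = 63 := by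
  classical
  haveI : Finite H := Nat.finite_of_card_ne_zero (by rw [hcard]; norm_num)
  have hQcard : Nat.card (G ⧸ H) = 100 := hidx
  haveI : Finite (G ⧸ H) := Nat.finite_of_card_ne_zero (by rw [hQcard]; norm_num)
  -- the function on the cosets
  let Ψ : G ⧸ H → β := fun c => Quotient.liftOn' c Φ (by
    intro a b hab
    have h1 : a⁻¹ * b ∈ H := QuotientGroup.leftRel_apply.mp hab
    have h2 := hΦ a _ h1
    rw [mul_inv_cancel_left] at h2
    exact h2.symm)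
  have hΨ : ∀ g : G, Ψ (g : G ⧸ H) = Φ g := fun g => rfl
  -- the list of cosets
  let ℓ1 : List (G ⧸ H) := L1.map fun x => ((x * g1 : G) : G ⧸ H)
  let ℓ2 : List (G ⧸ H) := L2.map fun x => ((x * g2 : G) : G ⧸ H)
  let ℓ : List (G ⧸ H) := ((1 : G) : G ⧸ H) :: (ℓ1 ++ ℓ2)
  have hmap : ℓ.map Ψ = Φ 1 :: ((L1.map fun x => Φ (x * g1)) ++ (L2.map fun x => Φ (x * g2))) := by
    simp only [ℓ, ℓ1, ℓ2, List.map_cons, List.map_append, List.map_map]
    rfl
  have hℓnd : ℓ.Nodup := List.Nodup.of_map Ψ (by rw [hmap]; exact hnd)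
  have hℓlen : ℓ.length = 100 := by
    simp only [ℓ, ℓ1, ℓ2, List.length_cons, List.length_append, List.length_map, hlen1, hlen2]
  -- memberships in the orbits
  have hmem1 : ∀ c ∈ ℓ1, c ∈ orbit ↥H (g1 : G ⧸ H) := by
    intro c hc
    obtain ⟨x, hx, rfl⟩ := List.mem_map.mp hc
    exact ⟨⟨x, hL1 x hx⟩, rfl⟩
  have hmem2 : ∀ c ∈ ℓ2, c ∈ orbit ↥H (g2 : G ⧸ H) := by
    intro c hc
    obtain ⟨x, hx, rfl⟩ := List.mem_map.mp hc
    exact ⟨⟨x, hL2 x hx⟩, rfl⟩
  have hnd' := hℓnd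
  simp only [ℓ, List.nodup_cons, List.nodup_append, List.mem_append, not_or] at hnd'
  obtain ⟨⟨h01, h02⟩, hnd1, hnd2, hdis⟩ := hnd'
  have hlen1' : ℓ1.length = 36 := by simp only [ℓ1, List.length_map, hlen1]
  have hlen2' : ℓ2.length = 63 := by simp only [ℓ2, List.length_map, hlen2]
  -- the trivial orbit
  have horb0 : ∀ c ∈ orbit ↥H (((1 : G) : G ⧸ H)), c = ((1 : G) : G ⧸ H) := by
    rintro c ⟨h, rfl⟩
    show (((h : G) * 1 : G) : G ⧸ H) = ((1 : G) : G ⧸ H)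
    rw [mul_one]
    apply QuotientGroup.eq.mpr
    rw [mul_one]
    exact H.inv_mem h.2
  have hne1 : ℓ1 ≠ [] := by intro h; rw [h] at hlen1'; simp at hlen1'
  have hne2 : ℓ2 ≠ [] := by intro h; rw [h] at hlen2'; simp at hlen2'
  have h0not1 : ((1 : G) : G ⧸ H) ∉ orbit ↥H (g1 : G ⧸ H) := by
    intro h
    obtain ⟨c, hc⟩ := List.exists_mem_of_ne_nil ℓ1 hne1
    have h1 := hmem1 c hc
    rw [← orbit_eq_iff.mpr h] at h1
    exact h01 (horb0 c h1 ▸ hc)
  have h0not2 : ((1 : G) : G ⧸ H) ∉ orbit ↥H (g2 : G ⧸ H) := by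
    intro h
    obtain ⟨c, hc⟩ := List.exists_mem_of_ne_nil ℓ2 hne2
    have h1 := hmem2 c hc
    rw [← orbit_eq_iff.mpr h] at h1
    exact h02 (horb0 c h1 ▸ hc)
  -- lower bounds
  have hlow1 : 36 ≤ (orbit ↥H (g1 : G ⧸ H)).ncard := by
    have h1 : (ℓ1.toFinset : Set (G ⧸ H)) ⊆ orbit ↥H (g1 : G ⧸ H) := by
      intro c hc
      exact hmem1 c (List.mem_toFinset.mp hc)
    have h2 := Set.ncard_le_ncard h1 (Set.toFinite _)
    rw [Set.ncard_coe_finset, List.toFinset_card_of_nodup hnd1, hlen1'] at h2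
    exact h2
  have hlow2 : 63 ≤ (orbit ↥H (g2 : G ⧸ H)).ncard := by
    have h1 : (ℓ2.toFinset : Set (G ⧸ H)) ⊆ orbit ↥H (g2 : G ⧸ H) := by
      intro c hc
      exact hmem2 c (List.mem_toFinset.mp hc)
    have h2 := Set.ncard_le_ncard h1 (Set.toFinite _)
    rw [Set.ncard_coe_finset, List.toFinset_card_of_nodup hnd2, hlen2'] at h2
    exact h2
  -- upper bound for a set avoiding the trivial coset
  have hup : ∀ s : Set (G ⧸ H), ((1 : G) : G ⧸ H) ∉ s → s.ncard ≤ 99 := by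
    intro s hs
    have h1 : s ⊆ {((1 : G) : G ⧸ H)}ᶜ := fun c hc hc' => hs (hc' ▸ hc)
    have h2 := Set.ncard_le_ncard h1 (Set.toFinite _)
    have h3 := Set.ncard_add_ncard_compl ({((1 : G) : G ⧸ H)} : Set (G ⧸ H))
    rw [Set.ncard_singleton, hQcard] at h3
    omega
  rcases orbit.eq_or_disjoint (G := ↥H) (g1 : G ⧸ H) (g2 : G ⧸ H) with heq | hdj
  · exfalso
    -- the orbit has 99 elements
    have h1 : ((ℓ1 ++ ℓ2).toFinset : Set (G ⧸ H)) ⊆ orbit ↥H (g1 : G ⧸ H) := by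
      intro c hc
      rcases List.mem_append.mp (List.mem_toFinset.mp hc) with h | h
      · exact hmem1 c h
      · rw [heq]; exact hmem2 c h
    have hnd12 : (ℓ1 ++ ℓ2).Nodup := List.nodup_append.mpr ⟨hnd1, hnd2, hdis⟩
    have h2 := Set.ncard_le_ncard h1 (Set.toFinite _)
    rw [Set.ncard_coe_finset, List.toFinset_card_of_nodup hnd12, List.length_append, hlen1',
      hlen2'] at h2
    have h3 := hup _ h0not1
    have h4 : (orbit ↥H (g1 : G ⧸ H)).ncard = 99 := by omega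
    have h5 := ncard_orbit_dvd H (g1 : G ⧸ H)
    rw [h4, hcard] at h5
    norm_num at h5
  · have h1 : ((1 : G) : G ⧸ H) ∉ orbit ↥H (g1 : G ⧸ H) ∪ orbit ↥H (g2 : G ⧸ H) := by
      rintro (h | h)
      · exact h0not1 h
      · exact h0not2 h
    have h2 := hup _ h1
    rw [Set.ncard_union_eq hdj (Set.toFinite _) (Set.toFinite _)] at h2
    omega

end Cfsg.Agent.Lib.Helper14.CosetOrbits
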