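import Mathlib

set_option autoImplicit false

/-! Generic lemmas for the maximality of the cross stabiliser: orbit divisibility, and the
arithmetic of the index. -/

namespace Cfsg.Agent.Lib.Helper14.CrossMax

open MulAction
open scoped Pointwise

/-- a finite invariant set all of whose orbits have length divisible by `n` has size divisible
by `n` -/
theorem dvd_ncard_of_orbits {E α : Type*} [Group E] [MulAction E α] (n : ℕ) :
    ∀ (k : ℕ) (S : Set α), S.ncard = k → S.Finite → (∀ e : E, ∀ a ∈ S, e • a ∈ S) →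
      (∀ a ∈ S, n ∣ (orbit E a).ncard) → n ∣ k := by
  intro k
  induction k using Nat.strong_induction_on with
  | _ k ih =>
    intro S hk hfin hS h
    by_cases hempty : S = ∅
    · subst hempty
      rw [Set.ncard_empty] at hk
      subst hk
      exact dvd_zero n
    · obtain ⟨a, ha⟩ := Set.nonempty_iff_ne_empty.mpr hempty
      have hsub : orbit E a ⊆ S := by
        rintro _ ⟨e, rfl⟩
        exact hS e a ha
      have hS' : ∀ e : E, ∀ b ∈ S \ orbit E a, e • b ∈ S \ orbit E a := by
        rintro e b ⟨hb, hnb⟩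
        refine ⟨hS e b hb, fun hmem => hnb ?_⟩
        obtain ⟨e', he'⟩ := hmem
        refine ⟨e⁻¹ * e', ?_⟩
        show (e⁻¹ * e') • a = b
        rw [mul_smul]
        have : e' • a = e • b := he'
        rw [this, inv_smul_smul]
      have hcard : (S \ orbit E a).ncard + (orbit E a).ncard = S.ncard :=
        Set.ncard_diff_add_ncard_of_subset hsub hfin
      have hpos : 0 < (orbit E a).ncard :=
        (Set.ncard_pos (hfin.subset hsub)).mpr ⟨a, mem_orbit_self a⟩
      have hlt : (S \ orbit E a).ncard < k := by omega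
      have := ih _ hlt (S \ orbit E a) rfl (hfin.subset Set.diff_subset) hS'
        (fun b hb => h b hb.1)
      rw [← hk, ← hcard]
      exact dvd_add this (h a ha)

/-- orbit lengths of a `2`-group with small stabiliser -/
theorem dvd_orbit_ncard {E α : Type*} [Group E] [MulAction E α] [Finite E] (a : α) (k j : ℕ)
    (hE : Nat.card E = 2 ^ k) (hst : Nat.card (stabilizer E a) ≤ 2 ^ j) (hjk : j ≤ k) :
    2 ^ (k - j) ∣ (orbit E a).ncard := by
  rw [← index_stabilizer]
  have hmul := (stabilizer E a).card_mul_index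
  rw [hE] at hmul
  have hdvd : Nat.card (stabilizer E a) ∣ 2 ^ k := ⟨_, hmul.symm⟩
  obtain ⟨i, hik, hi⟩ := (Nat.dvd_prime_pow Nat.prime_two).mp hdvd
  rw [hi] at hmul hst
  have hij : i ≤ j := (Nat.pow_le_pow_iff_right (by norm_num)).mp hst
  have hidx : (stabilizer E a).index = 2 ^ (k - i) := by
    have h2 : 2 ^ k = 2 ^ i * 2 ^ (k - i) := by rw [← pow_add]; congr 1; omega
    rw [h2] at hmul
    exact Nat.eq_of_mul_eq_mul_left (by positivity) hmul
  rw [hidx]
  exact pow_dvd_pow 2 (by omega)

theorem arith (d : ℕ) (hd : d ∣ 8292375) (h23 : d % 23 = 1)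
    (h64 : d % 64 = 1 ∨ d % 64 = 23) : d = 1 ∨ d = 8292375 := by
  have e1 : (8292375 : ℕ) = 3 ^ 6 * (5 ^ 3 * 91) := by norm_num
  rw [e1] at hd
  obtain ⟨a, b', ha, hb', rfl⟩ := (Nat.dvd_mul).mp hd
  obtain ⟨b, c, hb, hc, rfl⟩ := (Nat.dvd_mul).mp hb'
  obtain ⟨i, hi, rfl⟩ := (Nat.dvd_prime_pow Nat.prime_three).mp ha
  obtain ⟨j, hj, rfl⟩ := (Nat.dvd_prime_pow Nat.prime_five).mp hb
  have hc' : c = 1 ∨ c = 7 ∨ c = 13 ∨ c = 91 := by
    have hle : c ≤ 91 := Nat.le_of_dvd (by norm_num) hc
    have hpos : 0 < c := Nat.pos_of_dvd_of_pos hc (by norm_num)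
    clear ha hb hb' hd h23 h64 hi hj
    interval_cases c <;> omega
  clear ha hb hb' hd hc
  interval_cases i <;> interval_cases j <;> rcases hc' with rfl | rfl | rfl | rfl <;>
    (revert h23 h64; decide)

/-- the arithmetic skeleton of the maximality proof -/
theorem coatom_of_congruences {G : Type*} [Group G] (N : Subgroup G)
    (hidx : N.index = 8292375)
    (h : ∀ K : Subgroup G, N ≤ K → (N.relIndex K) % 23 = 1 ∧
      ((N.relIndex K) % 64 = 1 ∨ (N.relIndex K) % 64 = 23)) : IsCoatom N := by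
  refine ⟨?_, fun K hK => ?_⟩
  · intro htop
    rw [htop, Subgroup.index_top] at hidx
    norm_num at hidx
  · obtain ⟨h23, h64⟩ := h K hK.le
    have hmul : N.relIndex K * K.index = N.index := Subgroup.relIndex_mul_index hK.le
    have hdvd : N.relIndex K ∣ 8292375 := by
      rw [← hidx, ← hmul]
      exact dvd_mul_right _ _
    rcases arith _ hdvd h23 h64 with h1 | h1
    · exfalso
      have : K ≤ N := Subgroup.relIndex_eq_one.mp h1
      exact lt_irrefl _ (lt_of_lt_of_le hK this)
    · rw [h1, hidx] at hmul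
      have : K.index = 1 := by omega
      exact Subgroup.index_eq_one.mp this

/-- fixed point congruence for an element of prime order acting on a finite invariant set -/
theorem ncard_modEq_fixed {G α : Type*} [Group G] [MulAction G α] (p : ℕ) [hp : Fact p.Prime]
    (g : G) (hg : g ^ p = 1) (S : Set α) (hS : g • S = S) (hfin : S.Finite) :
    S.ncard ≡ {a ∈ S | g • a = a}.ncard [MOD p] := by
  have hle : Subgroup.zpowers g ≤ stabilizer G S :=
    (Subgroup.zpowers_le).mpr (mem_stabilizer_iff.mpr hS)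
  have hinv : ∀ q : ↥(Subgroup.zpowers g), ∀ a : ↥S, (q : G) • (a : α) ∈ S := by
    intro q a
    have h1 : (q : G) • S = S := mem_stabilizer_iff.mp (hle q.2)
    have h2 : (q : G) • (a : α) ∈ (q : G) • S := Set.smul_mem_smul_set a.2
    rw [h1] at h2
    exact h2
  let _ : MulAction ↥(Subgroup.zpowers g) ↥S :=
    { smul := fun q a => ⟨(q : G) • (a : α), hinv q a⟩
      one_smul := fun a => Subtype.ext (one_smul G (a : α))
      mul_smul := fun q q' a => Subtype.ext (mul_smul (q : G) (q' : G) (a : α)) }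
  have hP : IsPGroup p ↥(Subgroup.zpowers g) := by
    intro q
    refine ⟨1, ?_⟩
    obtain ⟨q, k, rfl⟩ := q
    apply Subtype.ext
    show (g ^ k) ^ p ^ 1 = 1
    rw [pow_one, ← zpow_natCast, ← zpow_mul, mul_comm, zpow_mul, zpow_natCast, hg, one_zpow]
  have : Finite ↥S := hfin
  have key := hP.card_modEq_card_fixedPoints (α := ↥S)
  rw [Nat.card_coe_set_eq] at key
  refine key.trans ?_
  have : Nat.card ↥(fixedPoints ↥(Subgroup.zpowers g) ↥S) = {a ∈ S | g • a = a}.ncard := by
    rw [← Nat.card_coe_set_eq]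
    refine Nat.card_congr ⟨fun a => ⟨a.1.1, a.1.2, ?_⟩, fun a => ⟨⟨a.1, a.2.1⟩, ?_⟩, ?_, ?_⟩
    · have := a.2 ⟨g, Subgroup.mem_zpowers g⟩
      exact congrArg Subtype.val this
    · intro q
      apply Subtype.ext
      show (q : G) • a.1 = a.1
      have h2 : Subgroup.zpowers g ≤ stabilizer G a.1 :=
        (Subgroup.zpowers_le).mpr (mem_stabilizer_iff.mpr a.2.2)
      exact mem_stabilizer_iff.mp (h2 q.2)
    · intro a; rfl
    · intro a; rfl
  rw [this]

end Cfsg.Agent.Lib.Helper14.CrossMax
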