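import Mathlib
import Cfsg.Prelude.Def_Sporadic_a
import Cfsg.Prelude.Def_SporadicCombinatorics
import Cfsg.Agent.Lib.Helper14.Co0Order
import Cfsg.Agent.Lib.Helper14.LeechCo2
import Cfsg.Agent.Lib.Helper14.CrossMaxA

set_option autoImplicit false

/-! Crosses of the Leech lattice as sets of lattice vectors, and the stabiliser of the standard
cross. -/

namespace Cfsg.Agent.Lib.Helper14.CrossMax

open Cfsg
open Cfsg.Agent.Lib.Helper14.Golay Cfsg.Agent.Lib.Helper14.Leech
  Cfsg.Agent.Lib.Helper14.LeechMono Cfsg.Agent.Lib.Helper14.LeechCross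
  Cfsg.Agent.Lib.Helper14.Co0Order Cfsg.Agent.Lib.Helper14.LeechCo2
open Cfsg.Agent.S1634 (smul_add' coe_add')
open Cfsg.Agent.S0403 (smul_sub' coe_sub')
open MulAction
open scoped Pointwise

theorem finite_Co0 : Finite ↥Co0 := Nat.finite_of_card_ne_zero (by rw [card_Co0]; norm_num)

/-- congruence modulo twice the lattice -/
def Cong (a b : ↥leechLattice) : Prop := ∃ u : ↥leechLattice, a - b = u + u

theorem Cong.rfl' (a : ↥leechLattice) : Cong a a := ⟨0, by simp⟩

theorem Cong.symm' {a b : ↥leechLattice} (h : Cong a b) : Cong b a := by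
  obtain ⟨u, hu⟩ := h
  refine ⟨-u, ?_⟩
  rw [← neg_sub, hu, neg_add]

theorem Cong.trans' {a b c : ↥leechLattice} (h : Cong a b) (h' : Cong b c) : Cong a c := by
  obtain ⟨u, hu⟩ := h
  obtain ⟨u', hu'⟩ := h'
  refine ⟨u + u', ?_⟩
  rw [← sub_add_sub_cancel a b c, hu, hu']
  abel

theorem Cong.smul' (g : ↥Co0) {a b : ↥leechLattice} (h : Cong a b) : Cong (g • a) (g • b) := by
  obtain ⟨u, hu⟩ := h
  refine ⟨g • u, ?_⟩
  rw [← smul_sub', hu, smul_add']

/-- the cross through `y`, as a set of lattice vectors -/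
def crossL (y : ↥leechLattice) : Set ↥leechLattice := {z | nrm z = nrm y ∧ Cong z y}

theorem mem_crossL_self (y : ↥leechLattice) : y ∈ crossL y := ⟨rfl, Cong.rfl' y⟩

theorem crossL_eq_of_mem {y z : ↥leechLattice} (h : z ∈ crossL y) : crossL z = crossL y := by
  ext a
  constructor
  · rintro ⟨h1, h2⟩
    exact ⟨h1.trans h.1, h2.trans' h.2⟩
  · rintro ⟨h1, h2⟩
    exact ⟨h1.trans h.1.symm, h2.trans' h.2.symm'⟩

theorem smul_crossL (g : ↥Co0) (y : ↥leechLattice) : g • crossL y = crossL (g • y) := by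
  ext z
  rw [Set.mem_smul_set_iff_inv_smul_mem]
  constructor
  · rintro ⟨h1, h2⟩
    refine ⟨?_, ?_⟩
    · rw [nrm_smul] at h1 ⊢
      exact h1
    · have := h2.smul' g
      rwa [smul_inv_smul] at this
  · rintro ⟨h1, h2⟩
    refine ⟨?_, ?_⟩
    · rw [nrm_smul] at h1 ⊢
      exact h1
    · have := h2.smul' g⁻¹
      rwa [inv_smul_smul] at this

/-- relation with the crosses of the definitions -/
theorem mem_crossL_iff (y z : ↥leechLattice) :
    z ∈ crossL y ↔ (z : GolayPt → ℤ) ∈ cross (y : GolayPt → ℤ) := by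
  constructor
  · rintro ⟨h1, u, hu⟩
    refine ⟨z.2, h1, (-u : ↥leechLattice).1, (-u : ↥leechLattice).2, ?_⟩
    have h2 : y - z = -u + -u := by rw [← neg_sub, hu, neg_add]
    have h3 := congrArg (fun a : ↥leechLattice => (a : GolayPt → ℤ)) h2
    simp only [coe_sub', coe_add'] at h3
    rw [two_nsmul]
    exact h3
  · rintro ⟨-, h1, w, hw, h2⟩
    refine ⟨h1, -⟨w, hw⟩, ?_⟩
    apply Subtype.ext
    have : ((z - y : ↥leechLattice) : GolayPt → ℤ) = -((y : GolayPt → ℤ) - (z : GolayPt → ℤ)) := by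
      rw [coe_sub']; abel
    rw [this, h2, two_nsmul, neg_add]
    rfl

theorem ncard_crossL (y : ↥leechLattice) (hy : nrm y = 64) : (crossL y).ncard = 48 := by
  rw [← ncard_cross (y : GolayPt → ℤ) y.2 hy,
    ← Set.ncard_image_of_injective _ Subtype.val_injective]
  congr 1
  ext x
  constructor
  · rintro ⟨z, hz, rfl⟩
    exact (mem_crossL_iff y z).mp hz
  · intro hx
    exact ⟨⟨x, hx.1⟩, (mem_crossL_iff y ⟨x, hx.1⟩).mpr hx, rfl⟩

theorem crossL_finite (y : ↥leechLattice) (hy : nrm y = 64) : (crossL y).Finite :=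
  Set.finite_of_ncard_ne_zero (by rw [ncard_crossL y hy]; norm_num)

/-- the standard cross as a set of lattice vectors -/
def X0 : Set ↥leechLattice := {v | (v : GolayPt → ℤ) ∈ stdCross}

theorem nrm_v8 : nrm v8 = 64 := sqNorm_v8

theorem X0_eq : X0 = crossL v8 := by
  ext v
  rw [mem_crossL_iff, cross_v8]
  rfl

theorem v8_mem_X0 : v8 ∈ X0 := by
  rw [X0_eq]; exact mem_crossL_self v8

/-- the stabiliser of the standard cross, as a set -/
def NSet : Set ↥Co0 := {g | ∀ v : ↥leechLattice, (v : GolayPt → ℤ) ∈ stdCross →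
  ((g • v : ↥leechLattice) : GolayPt → ℤ) ∈ stdCross}

theorem mem_NSet_of_smul_v8 (g : ↥Co0) (h : g • v8 ∈ X0) : g • X0 = X0 := by
  rw [X0_eq] at h ⊢
  rw [smul_crossL, crossL_eq_of_mem h]

theorem mem_NSet_iff (g : ↥Co0) : g ∈ NSet ↔ g • X0 = X0 := by
  constructor
  · intro hg
    exact mem_NSet_of_smul_v8 g (hg v8 v8_mem_X0)
  · intro h v hv
    have : g • v ∈ g • X0 := Set.smul_mem_smul_set hv
    rw [h] at this
    exact this

theorem mem_NSet_iff' (g : ↥Co0) : g ∈ NSet ↔ g • v8 ∈ X0 := by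
  constructor
  · intro hg
    exact hg v8 v8_mem_X0
  · intro h
    exact (mem_NSet_iff g).mpr (mem_NSet_of_smul_v8 g h)

theorem card_NSet : Nat.card ↥NSet = 4096 * 244823040 := card_stab

theorem index_N (H : Subgroup ↥Co0) (hH : (H : Set ↥Co0) = NSet) : H.index = 8292375 := by
  have h1 : Nat.card ↥H = 4096 * 244823040 := by
    rw [← card_NSet]
    exact Nat.card_congr (Equiv.setCongr hH)
  have h2 := H.card_mul_index
  rw [h1, card_Co0] at h2
  omega

theorem relIndex_eq (H : Subgroup ↥Co0) (hH : (H : Set ↥Co0) = NSet) (K : Subgroup ↥Co0) :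
    H.relIndex K = (orbit ↥K X0).ncard := by
  rw [← index_stabilizer]
  unfold Subgroup.relIndex
  congr 1
  ext k
  rw [Subgroup.mem_subgroupOf, mem_stabilizer_iff]
  have : (k : ↥Co0) ∈ H ↔ (k : ↥Co0) ∈ NSet := by rw [← hH]; rfl
  rw [this, mem_NSet_iff]
  rfl

/-- every cross in the orbit is the cross through a vector of norm 64 -/
theorem orbit_mem (K : Subgroup ↥Co0) (X : Set ↥leechLattice) (hX : X ∈ orbit ↥K X0) :
    ∃ k : ↥K, X = crossL ((k : ↥Co0) • v8) ∧ nrm ((k : ↥Co0) • v8) = 64 := by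
  obtain ⟨k, rfl⟩ := hX
  refine ⟨k, ?_, by rw [nrm_smul, nrm_v8]⟩
  show (k : ↥Co0) • X0 = _
  rw [X0_eq, smul_crossL]

end Cfsg.Agent.Lib.Helper14.CrossMax
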