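import Mathlib
import Cfsg.Prelude.Def_Sporadic_a
import Cfsg.Prelude.Def_SporadicCombinatorics
import Cfsg.Agent.Lib.Helper14.CrossMaxB
import Cfsg.Agent.S1584

set_option autoImplicit false

/-! The index of the cross stabiliser in an overgroup is congruent to `1` modulo `23`. -/

namespace Cfsg.Agent.Lib.Helper14.CrossMax

open Cfsg
open Cfsg.Agent.Lib.Helper14.Golay Cfsg.Agent.Lib.Helper14.Leech
  Cfsg.Agent.Lib.Helper14.LeechMono Cfsg.Agent.Lib.Helper14.LeechCross
  Cfsg.Agent.Lib.Helper14.Co0Order Cfsg.Agent.Lib.Helper14.LeechCo2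
open Cfsg.Agent.Lib.Helper3.Golay (gA)
open Cfsg.Agent.S1584 (permEl permEl_apply permEl_eq)
open MulAction
open scoped Pointwise

/-- coordinate permutations as a homomorphism -/
noncomputable def permHom : ↥M24 →* ↥Co0 where
  toFun π := permEl π.1 π.2
  map_one' := by
    apply Subtype.ext
    apply Equiv.ext
    intro y
    apply Subtype.ext
    funext i
    have := permEl_apply (1 : ↥M24).1 (1 : ↥M24).2 y i
    rw [smul_coe] at this
    rw [this]
    rfl
  map_mul' := by
    intro π π'
    apply Subtype.ext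
    apply Equiv.ext
    intro y
    apply Subtype.ext
    funext i
    have h1 := permEl_apply (π * π').1 (π * π').2 y i
    have h2 := permEl_apply π.1 π.2 (permEl π'.1 π'.2 • y) i
    have h3 := permEl_apply π'.1 π'.2 y (π.1.symm i)
    rw [smul_coe] at h1
    rw [h1]
    show _ = (((permEl π.1 π.2 * permEl π'.1 π'.2) • y : ↥leechLattice) : GolayPt → ℤ) i
    rw [mul_smul, h2, h3]
    rfl

theorem hgA : gA ∈ M24 := Cfsg.Agent.S0370.result

/-- the element of order 23 -/
noncomputable def sig : ↥Co0 := permHom ⟨gA, hgA⟩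

theorem sig_apply (y : ↥leechLattice) (i : GolayPt) :
    ((sig • y : ↥leechLattice) : GolayPt → ℤ) i = (y : GolayPt → ℤ) (gA.symm i) :=
  permEl_apply gA hgA y i

set_option maxRecDepth 100000 in
theorem gA_pow : gA ^ 23 = 1 := by
  decide +kernel

theorem sig_pow : sig ^ 23 = 1 := by
  unfold sig
  rw [← map_pow]
  have : (⟨gA, hgA⟩ : ↥M24) ^ 23 = 1 := by
    apply Subtype.ext
    rw [SubgroupClass.coe_pow]
    exact gA_pow
  rw [this, map_one]

theorem gA_symm_none : gA.symm none = none := rfl

theorem gA_symm_some (t : ZMod 23) : gA.symm (some t) = some (t - 1) := by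
  show (Equiv.optionCongr (Equiv.addRight (1 : ZMod 23))).symm (some t) = some (t - 1)
  simp [Equiv.optionCongr, sub_eq_add_neg]

theorem sig_v8 : sig • v8 = v8 := by
  apply Subtype.ext
  funext i
  rw [sig_apply, v8_coe]
  cases i with
  | none => rw [gA_symm_none]
  | some t => rw [gA_symm_some, Pi.single_eq_of_ne (by simp), Pi.single_eq_of_ne (by simp)]

theorem sig_mem : sig ∈ NSet := by
  rw [mem_NSet_iff', sig_v8]
  exact v8_mem_X0

/-- a vector of norm 64 fixed by the element of order 23 lies in the standard cross -/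
theorem sig_fixed (y : ↥leechLattice) (h : sig • y = y) (hn : nrm y = 64) : y ∈ X0 := by
  have h1 : ∀ i, (y : GolayPt → ℤ) (gA.symm i) = (y : GolayPt → ℤ) i := by
    intro i
    rw [← sig_apply, h]
  have h2 : ∀ n : ℕ, (y : GolayPt → ℤ) (some (n : ZMod 23)) = (y : GolayPt → ℤ) (some 0) := by
    intro n
    induction n with
    | zero => simp
    | succ n ih =>
      have := h1 (some ((n + 1 : ℕ) : ZMod 23))
      rw [gA_symm_some] at this
      rw [← this, ← ih]
      congr 2
      push_cast
      ring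
  have h3 : ∀ t : ZMod 23, (y : GolayPt → ℤ) (some t) = (y : GolayPt → ℤ) (some 0) := by
    intro t
    have := h2 t.val
    rwa [ZMod.natCast_zmod_val] at this
  have h4 : sqNorm (y : GolayPt → ℤ) = (y : GolayPt → ℤ) none ^ 2
      + 23 * (y : GolayPt → ℤ) (some 0) ^ 2 := by
    unfold sqNorm
    rw [Fintype.sum_option, Finset.sum_congr rfl (fun t _ => by rw [h3 t]), Finset.sum_const,
      Finset.card_univ, ZMod.card]
    simp
  have hn' : sqNorm (y : GolayPt → ℤ) = 64 := hn
  rw [h4] at hn'
  set a := (y : GolayPt → ℤ) none with ha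
  set b := (y : GolayPt → ℤ) (some 0) with hb
  have hb1 : -1 ≤ b ∧ b ≤ 1 := by constructor <;> nlinarith
  have hb0 : b = 0 := by
    obtain ⟨hb1, hb2⟩ := hb1
    have ha1 : -8 ≤ a ∧ a ≤ 8 := by constructor <;> nlinarith
    obtain ⟨ha1, ha2⟩ := ha1
    interval_cases b
    · exfalso; interval_cases a <;> omega
    · rfl
    · exfalso; interval_cases a <;> omega
  rw [hb0] at hn'
  have ha8 : a = 8 ∨ a = -8 := by
    have : (a - 8) * (a + 8) = 0 := by ring_nf; ring_nf at hn'; linarith
    rcases mul_eq_zero.mp this with h | h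
    · left; linarith
    · right; linarith
  refine ⟨none, a, ha8, ?_⟩
  funext i
  cases i with
  | none => rw [Pi.single_eq_same]
  | some t => rw [Pi.single_eq_of_ne (by simp), h3 t, hb0]

theorem mod23 (H : Subgroup ↥Co0) (hH : (H : Set ↥Co0) = NSet) (K : Subgroup ↥Co0)
    (hHK : H ≤ K) : (orbit ↥K X0).ncard % 23 = 1 := by
  have : Fact (Nat.Prime 23) := ⟨by norm_num⟩
  have := finite_Co0
  have hsH : sig ∈ H := by
    have : sig ∈ (H : Set ↥Co0) := by rw [hH]; exact sig_mem
    exact this
  have hfin : (orbit ↥K X0).Finite := Set.finite_range _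
  have hpow : (⟨sig, hHK hsH⟩ : ↥K) ^ 23 = 1 := by
    apply Subtype.ext
    rw [SubgroupClass.coe_pow]
    exact sig_pow
  have key := ncard_modEq_fixed 23 (⟨sig, hHK hsH⟩ : ↥K) hpow (orbit ↥K X0)
    (smul_orbit _ _) hfin
  have hfix : {X ∈ orbit ↥K X0 | (⟨sig, hHK hsH⟩ : ↥K) • X = X} = {X0} := by
    ext X
    simp only [Set.mem_ofPred_eq, Set.mem_singleton_iff]
    constructor
    · rintro ⟨hX, hsX⟩
      have hsX' : sig • X = X := hsX
      obtain ⟨k, rfl, hk⟩ := orbit_mem K X hX
      have h48 := ncard_crossL _ hk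
      have key2 := ncard_modEq_fixed 23 sig sig_pow _ hsX' (crossL_finite _ hk)
      rw [h48] at key2
      have hne : {a ∈ crossL ((k : ↥Co0) • v8) | sig • a = a}.Nonempty := by
        by_contra hemp
        rw [Set.not_nonempty_iff_eq_empty] at hemp
        rw [hemp, Set.ncard_empty] at key2
        exact absurd key2 (by decide)
      obtain ⟨z, hz, hsz⟩ := hne
      have hz0 : z ∈ X0 := sig_fixed z hsz (hz.1.trans hk)
      rw [← crossL_eq_of_mem hz]
      rw [X0_eq] at hz0 ⊢
      exact crossL_eq_of_mem hz0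
    · rintro rfl
      refine ⟨mem_orbit_self _, ?_⟩
      exact (mem_NSet_iff sig).mp sig_mem
  rw [hfix, Set.ncard_singleton] at key
  exact key

end Cfsg.Agent.Lib.Helper14.CrossMax
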