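import Mathlib
import Cfsg.Prelude.Def_Sporadic_a
import Cfsg.Agent.Lib.Helper3.Golay.Inter
import Cfsg.Agent.S0367
import Cfsg.Agent.S0368

set_option autoImplicit false

/-! Code words whose intersection with a given code word is again a code word: there are at
most 64 of them, unless the given word is zero or the all-ones word. -/

namespace Cfsg.Agent.Lib.Helper14.CrossMax

open Cfsg
open Cfsg.Agent.Lib.Helper3.Golay
open scoped Pointwise

local notation "SC" => supports (golayCode : Set (GolayPt → ZMod 2))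

/-- code words whose intersection with `o` is again a code word -/
def AS (o : Finset GolayPt) : Set (Finset GolayPt) := {b | b ∈ SC ∧ o ∩ b ∈ SC}

theorem AS_smul {g : Equiv.Perm GolayPt} (hg : g ∈ M24) (o : Finset GolayPt) :
    AS (g • o) = (fun b => g • b) '' AS o := by
  ext b
  simp only [AS, Set.mem_ofPred_eq, Set.mem_image]
  constructor
  · rintro ⟨hb, hob⟩
    refine ⟨g⁻¹ • b, ⟨smul_mem_supports (M24.inv_mem hg) hb, ?_⟩, smul_inv_smul g b⟩
    have : o ∩ g⁻¹ • b = g⁻¹ • (g • o ∩ b) := by
      rw [Finset.smul_finset_inter, inv_smul_smul]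
    rw [this]
    exact smul_mem_supports (M24.inv_mem hg) hob
  · rintro ⟨b, ⟨hb, hob⟩, rfl⟩
    refine ⟨smul_mem_supports hg hb, ?_⟩
    rw [← Finset.smul_finset_inter]
    exact smul_mem_supports hg hob

theorem ncard_AS_smul {g : Equiv.Perm GolayPt} (hg : g ∈ M24) (o : Finset GolayPt) :
    (AS (g • o)).ncard = (AS o).ncard := by
  rw [AS_smul hg, Set.ncard_image_of_injective _ (MulAction.injective g)]

theorem AS_finite (o : Finset GolayPt) : (AS o).Finite := Set.toFinite _

theorem AS_compl_subset (o : Finset GolayPt) : AS (Finset.univ \ o) ⊆ AS o := by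
  rintro b ⟨hb, hob⟩
  refine ⟨hb, ?_⟩
  have h1 : (Finset.univ \ o) ∩ b = b \ o := by
    ext x; simp [and_comm]
  have h2 : o ∩ b = symmDiff b (b \ o) := by
    ext x
    simp only [Finset.mem_inter, Finset.mem_symmDiff, Finset.mem_sdiff]
    tauto
  rw [h2]
  rw [h1] at hob
  exact symmDiff_mem_supports hb hob

/-- the test on code word indices -/
def asTest (m c : ℕ) : Bool := Nat.beq (codeMask ((m &&& codeMask c) % 4096)) (m &&& codeMask c)

theorem bitSet_mem_supports_iff {n : ℕ} (hn : n < 2 ^ 24) :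
    bitSet n ∈ SC ↔ codeMask (n % 4096) = n := by
  rw [mem_supports_iff]
  constructor
  · rintro ⟨c, hc, h⟩
    have := bitSet_injective hn (codeMask_lt c hc) h
    rw [this, codeMask_mod c hc]
  · intro h
    exact ⟨n % 4096, Nat.mod_lt _ (by norm_num), by rw [h]⟩

theorem AS_eq (m : ℕ) (hm : m < 2 ^ 24) :
    AS (bitSet m) = ↑(((Finset.range 4096).filter (fun c => asTest m c = true)).image
        (fun c => bitSet (codeMask c))) := by
  ext b
  simp only [AS, Set.mem_ofPred_eq, Finset.coe_image, Finset.coe_filter, Finset.mem_range,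
    Set.mem_image]
  have hlt : ∀ c, m &&& codeMask c < 2 ^ 24 := fun c => lt_of_le_of_lt Nat.and_le_left hm
  constructor
  · rintro ⟨hb, hob⟩
    obtain ⟨c, hc, rfl⟩ := (mem_supports_iff b).mp hb
    refine ⟨c, ⟨hc, ?_⟩, rfl⟩
    rw [← bitSet_and, bitSet_mem_supports_iff (hlt c)] at hob
    unfold asTest
    rw [hob]
    simp
  · rintro ⟨c, ⟨hc, ht⟩, rfl⟩
    refine ⟨(mem_supports_iff _).mpr ⟨c, hc, rfl⟩, ?_⟩
    rw [← bitSet_and, bitSet_mem_supports_iff (hlt c)]
    unfold asTest at ht
    exact Nat.eq_of_beq_eq_true ht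

theorem ncard_AS (m : ℕ) (hm : m < 2 ^ 24) :
    (AS (bitSet m)).ncard = countBelow 4096 (asTest m) := by
  rw [AS_eq m hm, Set.ncard_coe_finset, countBelow_eq, Finset.card_image_of_injOn]
  intro c hc c' hc' h
  simp only [Finset.coe_filter, Finset.mem_range, Set.mem_ofPred_eq] at hc hc'
  exact codeMask_injOn hc.1 hc'.1 h

set_option maxRecDepth 100000 in
theorem oct_rep : isOct 13062145 = true := by decide +kernel

set_option maxRecDepth 100000 in
theorem count_oct : countBelow 4096 (asTest 13062145) = 64 := by decide +kernel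

set_option maxRecDepth 100000 in
theorem count_dod : countBelow 4096 (asTest 8245261) = 4 := by decide +kernel

set_option maxRecDepth 100000 in
theorem dod_rep : codeMask (8245261 % 4096) = 8245261 ∧ pc24 8245261 = 12 := by decide +kernel

theorem dod_rep_mem : bitSet 8245261 ∈ dodecads := by
  refine ⟨(bitSet_mem_supports_iff (by norm_num)).mpr dod_rep.1, ?_⟩
  rw [card_bitSet', dod_rep.2]

theorem AS_octad (o : Finset GolayPt) (ho : o ∈ octads) : (AS o).ncard = 64 := by
  obtain ⟨g, hg⟩ := Cfsg.Agent.S0367.result (bitSet 13062145) o (isOct_mem oct_rep) ho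
  rw [← hg]
  show (AS ((g : Equiv.Perm GolayPt) • bitSet 13062145)).ncard = 64
  rw [ncard_AS_smul g.2, ncard_AS _ (by norm_num), count_oct]

theorem AS_dodecad (o : Finset GolayPt) (ho : o ∈ dodecads) : (AS o).ncard = 4 := by
  obtain ⟨g, hg⟩ := Cfsg.Agent.S0368.result (bitSet 8245261) o dod_rep_mem ho
  rw [← hg]
  show (AS ((g : Equiv.Perm GolayPt) • bitSet 8245261)).ncard = 4
  rw [ncard_AS_smul g.2, ncard_AS _ (by norm_num), count_dod]

/-- the main bound -/
theorem AS_bound (d : GolayPt → ZMod 2) (hd : d ∈ golayCode) (h0 : d ≠ 0) (h1 : d ≠ 1) :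
    (AS (support₂ d)).ncard ≤ 64 := by
  have hs : support₂ d ∈ SC := ⟨d, hd, rfl⟩
  have hs1 : support₂ (d + 1) ∈ SC := ⟨d + 1, Submodule.add_mem _ hd
    (by rw [one_eq_wordOf]; exact wordOf_genMask_mem (by norm_num)), rfl⟩
  have hcompl : support₂ (d + 1) = Finset.univ \ support₂ d := by
    ext x
    simp only [mem_support₂, Finset.mem_sdiff, Finset.mem_univ, true_and, Pi.add_apply,
      Pi.one_apply, not_not]
    have : ∀ a : ZMod 2, a + 1 ≠ 0 ↔ a = 0 := by decide
    exact this (d x)
  rcases card_mem_supports hs with h | h | h | h | h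
  · exfalso
    apply h0
    apply support₂_injective
    rw [Finset.card_eq_zero.mp h]
    ext x; simp [mem_support₂]
  · rw [AS_octad _ ⟨hs, h⟩]
  · rw [AS_dodecad _ ⟨hs, h⟩]; norm_num
  · have h8 : (support₂ (d + 1)).card = 8 := by
      rw [hcompl, Finset.card_sdiff_of_subset (Finset.subset_univ _), h, Finset.card_univ]
      rfl
    have hsub : AS (support₂ d) ⊆ AS (support₂ (d + 1)) := by
      have : support₂ d = Finset.univ \ support₂ (d + 1) := by
        rw [hcompl, Finset.sdiff_sdiff_eq_self (Finset.subset_univ _)]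
      rw [this]
      exact AS_compl_subset _
    calc (AS (support₂ d)).ncard ≤ (AS (support₂ (d + 1))).ncard :=
          Set.ncard_le_ncard hsub (AS_finite _)
      _ = 64 := AS_octad _ ⟨hs1, h8⟩
  · exfalso
    apply h1
    apply support₂_injective
    have huniv : support₂ d = Finset.univ := by
      apply Finset.eq_univ_of_card
      rw [h]; rfl
    rw [huniv]
    ext x; simp [mem_support₂]

end Cfsg.Agent.Lib.Helper14.CrossMax
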