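import Mathlib
import Cfsg.Prelude.Def_Sporadic_a
import Cfsg.Prelude.Def_SporadicCombinatorics
import Cfsg.Agent.Lib.Helper14.CrossMaxC
import Cfsg.Agent.Lib.Helper14.CrossMaxD

set_option autoImplicit false

/-! The sign changes, and the lengths of their orbits on crosses. -/

namespace Cfsg.Agent.Lib.Helper14.CrossMax

open Cfsg
open Cfsg.Agent.Lib.Helper14.Golay Cfsg.Agent.Lib.Helper14.Leech
  Cfsg.Agent.Lib.Helper14.LeechMono Cfsg.Agent.Lib.Helper14.LeechCross
  Cfsg.Agent.Lib.Helper14.Co0Order Cfsg.Agent.Lib.Helper14.LeechCo2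
open Cfsg.Agent.Lib.Helper3.Golay (mem_support₂ support₂_injective)
open Cfsg.Agent.S1634 (smul_add' coe_add')
open Cfsg.Agent.S0403 (smul_sub' coe_sub')
open MulAction
open scoped Pointwise

theorem co0_ext (g h : ↥Co0) (H : ∀ y : ↥leechLattice, g • y = h • y) : g = h :=
  Subtype.ext (Equiv.ext H)

/-- the sign change attached to a code word -/
noncomputable def sgnEl (w : ↥golayCode) : ↥Co0 := ⟨mono 1 w, mono_mem_Co0 1 w⟩

theorem sgnEl_apply (w : ↥golayCode) (y : ↥leechLattice) (i : GolayPt) :
    ((sgnEl w • y : ↥leechLattice) : GolayPt → ℤ) i =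
      if i ∈ support₂ (w : GolayPt → ZMod 2) then -(y : GolayPt → ℤ) i
      else (y : GolayPt → ℤ) i := by
  rw [smul_coe]
  show ((mono 1 w y : ↥leechLattice) : GolayPt → ℤ) i = _
  rw [mono_apply, signedPerm_apply]
  rfl

theorem sgnEl_mem (w : ↥golayCode) : sgnEl w ∈ NSet := fun v hv => mono_std 1 w v hv

theorem zmod2_add_ne : ∀ a b : ZMod 2, (a + b ≠ 0) ↔ ¬((a ≠ 0) ↔ (b ≠ 0)) := by decide

/-- the sign changes as a homomorphism -/
noncomputable def sgnHom : Multiplicative ↥golayCode →* ↥Co0 where
  toFun w := sgnEl (Multiplicative.toAdd w)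
  map_one' := by
    apply co0_ext
    intro y
    apply Subtype.ext
    funext i
    rw [sgnEl_apply, if_neg]
    · rfl
    · rw [mem_support₂]
      simp
  map_mul' := by
    intro a b
    apply co0_ext
    intro y
    apply Subtype.ext
    funext i
    rw [mul_smul, sgnEl_apply, sgnEl_apply, sgnEl_apply]
    have h := zmod2_add_ne (((Multiplicative.toAdd a : ↥golayCode) : GolayPt → ZMod 2) i)
      (((Multiplicative.toAdd b : ↥golayCode) : GolayPt → ZMod 2) i)
    simp only [mem_support₂]
    have e : ((Multiplicative.toAdd (a * b) : ↥golayCode) : GolayPt → ZMod 2) i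
        = ((Multiplicative.toAdd a : ↥golayCode) : GolayPt → ZMod 2) i
          + ((Multiplicative.toAdd b : ↥golayCode) : GolayPt → ZMod 2) i := rfl
    rw [e]
    by_cases ha : ((Multiplicative.toAdd a : ↥golayCode) : GolayPt → ZMod 2) i ≠ 0 <;>
      by_cases hb : ((Multiplicative.toAdd b : ↥golayCode) : GolayPt → ZMod 2) i ≠ 0
    · rw [if_neg (by rw [h]; tauto), if_pos ha, if_pos hb]; ring
    · rw [if_pos (by rw [h]; tauto), if_pos ha, if_neg hb]
    · rw [if_pos (by rw [h]; tauto), if_neg ha, if_pos hb]
    · rw [if_neg (by rw [h]; tauto), if_neg ha, if_neg hb]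

theorem sgnHom_apply (w : Multiplicative ↥golayCode) : sgnHom w = sgnEl (Multiplicative.toAdd w) := rfl

theorem sgnEl_injective : Function.Injective sgnEl := by
  intro w w' h
  have h1 : Phi ((1 : ↥M24), w) = Phi ((1 : ↥M24), w') := by
    apply Subtype.ext
    exact h
  have := Phi_injective h1
  exact (Prod.ext_iff.mp this).2

theorem sgnHom_injective : Function.Injective sgnHom := by
  intro a b h
  exact Multiplicative.toAdd.injective (sgnEl_injective h)

/-- the group of sign changes -/
noncomputable def EE : Subgroup ↥Co0 := sgnHom.range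

theorem card_EE : Nat.card ↥EE = 2 ^ 12 := by
  unfold EE
  rw [← Nat.card_congr (MonoidHom.ofInjective sgnHom_injective).toEquiv,
    Nat.card_congr Multiplicative.toAdd, card_golayCode]
  norm_num

theorem EE_le (H : Subgroup ↥Co0) (hH : (H : Set ↥Co0) = NSet) : EE ≤ H := by
  rintro _ ⟨w, rfl⟩
  have : sgnHom w ∈ (H : Set ↥Co0) := by rw [hH]; exact sgnEl_mem _
  exact this

/-! ### parity -/

theorem odd_or_even (x : GolayPt → ℤ) (hx : x ∈ leechLattice) :
    (∀ i, x i % 2 = 0) ∨ (∀ i, x i % 2 = 1) := by
  rw [mem_leechLattice_iff, mem_leechSet_iff] at hx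
  obtain ⟨m, w, -, h1, -⟩ := hx
  rcases Int.emod_two_eq_zero_or_one m with hm | hm
  · left; intro i; have := h1 i; omega
  · right; intro i; have := h1 i; omega

theorem zmod2_val_add_one : ∀ a : ZMod 2, ((a + 1).val : ℤ) = 1 - (a.val : ℤ) := by decide

theorem even_decomp (x : GolayPt → ℤ) (hx : x ∈ leechLattice) (hev : ∀ i, x i % 2 = 0) :
    ∃ d ∈ golayCode, ∀ i, x i % 4 = 2 * ((d i).val : ℤ) := by
  rw [mem_leechLattice_iff, mem_leechSet_iff] at hx
  obtain ⟨m, w, hw, h1, -⟩ := hx
  have hm : m % 2 = 0 := by
    have := h1 none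
    have := hev none
    omega
  have hm4 : m % 4 = 0 ∨ m % 4 = 2 := by omega
  rcases hm4 with hm4 | hm4
  · refine ⟨w, hw, fun i => ?_⟩
    have := h1 i
    rcases val_cases (w i) with hv | hv <;> rw [hv] at this ⊢ <;> push_cast at this ⊢ <;> omega
  · refine ⟨w + 1, Submodule.add_mem _ hw one_mem_golay, fun i => ?_⟩
    have := h1 i
    rw [Pi.add_apply, Pi.one_apply, zmod2_val_add_one]
    rcases val_cases (w i) with hv | hv <;> rw [hv] at this ⊢ <;> push_cast at this ⊢ <;> omega

/-! ### the stabiliser of a cross in the group of sign changes -/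

/-- the restriction of a vector to the support of a code word -/
def restV (w : ↥golayCode) (y : ↥leechLattice) : GolayPt → ℤ :=
  fun i => if i ∈ support₂ (w : GolayPt → ZMod 2) then (y : GolayPt → ℤ) i else 0

theorem rest_mem (w : ↥golayCode) (y : ↥leechLattice) (h : sgnEl w • crossL y = crossL y) :
    restV w y ∈ leechLattice := by
  have h1 : sgnEl w • y ∈ crossL y := by
    have := Set.smul_mem_smul_set (a := sgnEl w) (mem_crossL_self y)
    rwa [h] at this
  obtain ⟨-, u, hu⟩ := h1
  have : restV w y = ((-u : ↥leechLattice) : GolayPt → ℤ) := by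
    funext i
    have h2 := congrArg (fun a : ↥leechLattice => (a : GolayPt → ℤ) i) hu
    simp only [coe_sub', coe_add', Pi.sub_apply, Pi.add_apply] at h2
    rw [sgnEl_apply] at h2
    show _ = -(u : GolayPt → ℤ) i
    unfold restV
    by_cases hi : i ∈ support₂ (w : GolayPt → ZMod 2)
    · rw [if_pos hi] at h2 ⊢; omega
    · rw [if_neg hi] at h2 ⊢; omega
  rw [this]
  exact (-u).2

theorem stab_bound (y : ↥leechLattice) (hy : nrm y = 64)
    (h4 : ¬ ∀ i, (4 : ℤ) ∣ (y : GolayPt → ℤ) i) :
    Nat.card {w : ↥golayCode // sgnEl w • crossL y = crossL y} ≤ 64 := by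
  rcases odd_or_even y.1 y.2 with hev | hodd
  · obtain ⟨d, hd, hdy⟩ := even_decomp y.1 y.2 hev
    have hd0 : d ≠ 0 := by
      rintro rfl
      apply h4
      intro i
      have := hdy i
      simp only [Pi.zero_apply, ZMod.val_zero, Nat.cast_zero, mul_zero] at this
      omega
    have hd1 : d ≠ 1 := by
      rintro rfl
      have h2 : ∀ i, (4 : ℤ) ≤ (y : GolayPt → ℤ) i ^ 2 := by
        intro i
        have := hdy i
        simp only [Pi.one_apply, ZMod.val_one, Nat.cast_one, mul_one] at this
        have h3 : (y : GolayPt → ℤ) i ≤ -2 ∨ 2 ≤ (y : GolayPt → ℤ) i := by omega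
        rcases h3 with h3 | h3 <;> nlinarith
      have h96 : (96 : ℤ) ≤ sqNorm (y : GolayPt → ℤ) := by
        unfold sqNorm
        calc (96 : ℤ) = ∑ _i : GolayPt, (4 : ℤ) := by
              rw [Finset.sum_const, Finset.card_univ, card_golayPt]; norm_num
          _ ≤ _ := Finset.sum_le_sum fun i _ => h2 i
      have : sqNorm (y : GolayPt → ℤ) = 64 := hy
      omega
    have key : ∀ w : {w : ↥golayCode // sgnEl w • crossL y = crossL y},
        support₂ ((w : ↥golayCode) : GolayPt → ZMod 2) ∈ AS (support₂ d) := by
      rintro ⟨w, hw⟩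
      have hr := rest_mem w y hw
      have hrev : ∀ i, restV w y i % 2 = 0 := by
        intro i
        unfold restV
        split_ifs
        · exact hev i
        · rfl
      obtain ⟨d', hd', hdr⟩ := even_decomp _ hr hrev
      refine ⟨⟨w.1, w.2, rfl⟩, ⟨d', hd', ?_⟩⟩
      ext i
      rw [Finset.mem_inter, mem_support₂, mem_support₂]
      have e1 := hdr i
      have e2 := hdy i
      unfold restV at e1
      by_cases hi : i ∈ support₂ (w : GolayPt → ZMod 2)
      · rw [if_pos hi] at e1
        have hi' := mem_support₂.mp hi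
        have : ((d' i).val : ℤ) = ((d i).val : ℤ) := by omega
        constructor
        · intro h
          refine ⟨?_, hi⟩
          rw [ne_zero_iff_val] at h ⊢
          omega
        · rintro ⟨h, -⟩
          rw [ne_zero_iff_val] at h ⊢
          omega
      · rw [if_neg hi] at e1
        have hi' : ¬ ((w : GolayPt → ZMod 2) i ≠ 0) := fun h => hi (mem_support₂.mpr h)
        constructor
        · intro h
          rw [ne_zero_iff_val] at h
          omega
        · rintro ⟨-, h⟩
          exact absurd h hi
    have hfin : Finite ↥(AS (support₂ d)) := (AS_finite _).to_subtype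
    calc Nat.card {w : ↥golayCode // sgnEl w • crossL y = crossL y}
        ≤ Nat.card ↥(AS (support₂ d)) := by
          refine Nat.card_le_card_of_injective (fun w => ⟨_, key w⟩) ?_
          intro w w' h
          have h1 : support₂ ((w : ↥golayCode) : GolayPt → ZMod 2)
              = support₂ ((w' : ↥golayCode) : GolayPt → ZMod 2) := congrArg Subtype.val h
          exact Subtype.ext (Subtype.ext (support₂_injective h1))
      _ = (AS (support₂ d)).ncard := Nat.card_coe_set_eq _
      _ ≤ 64 := AS_bound d hd hd0 hd1
  · have key : ∀ w : {w : ↥golayCode // sgnEl w • crossL y = crossL y},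
        ∀ i, ((w : ↥golayCode) : GolayPt → ZMod 2) i = ((w : ↥golayCode) : GolayPt → ZMod 2) none := by
      rintro ⟨w, hw⟩ i
      have hr := rest_mem w y hw
      have h2 : ∀ a b : ZMod 2, ((a ≠ 0) ↔ (b ≠ 0)) → a = b := by decide
      apply h2
      rcases odd_or_even _ hr with hre | hro
      · have e1 := hre i
        have e2 := hre none
        unfold restV at e1 e2
        constructor
        · intro h
          rw [if_pos (mem_support₂.mpr h)] at e1
          have := hodd i
          omega
        · intro h
          rw [if_pos (mem_support₂.mpr h)] at e2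
          have := hodd none
          omega
      · have e1 := hro i
        have e2 := hro none
        unfold restV at e1 e2
        constructor
        · intro _
          by_contra h
          rw [if_neg (fun h' => (mem_support₂.mp h') h)] at e2
          omega
        · intro _
          by_contra h
          rw [if_neg (fun h' => (mem_support₂.mp h') h)] at e1
          omega
    calc Nat.card {w : ↥golayCode // sgnEl w • crossL y = crossL y}
        ≤ Nat.card (ZMod 2) := by
          refine Nat.card_le_card_of_injective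
            (fun w => ((w : ↥golayCode) : GolayPt → ZMod 2) none) ?_
          intro w w' h
          apply Subtype.ext
          apply Subtype.ext
          funext i
          rw [key w i, key w' i]
          exact h
      _ = 2 := Nat.card_zmod 2
      _ ≤ 64 := by norm_num

end Cfsg.Agent.Lib.Helper14.CrossMax
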