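import Mathlib
import Cfsg.Prelude.Def_Sporadic_a
import Cfsg.Prelude.Def_SporadicCombinatorics
import Cfsg.Agent.Lib.Helper14.CrossMaxE

set_option autoImplicit false

/-! Crosses of type `4ℤ`, and the orbits of the sign changes on the other crosses. -/

namespace Cfsg.Agent.Lib.Helper14.CrossMax

open Cfsg
open Cfsg.Agent.Lib.Helper14.Golay Cfsg.Agent.Lib.Helper14.Leech
  Cfsg.Agent.Lib.Helper14.LeechMono Cfsg.Agent.Lib.Helper14.LeechCross
  Cfsg.Agent.Lib.Helper14.Co0Order Cfsg.Agent.Lib.Helper14.LeechCo2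
  Cfsg.Agent.Lib.Helper14.LeechCount
open Cfsg.Agent.Lib.Helper3.Golay (mem_support₂ support₂_injective)
open Cfsg.Agent.S1634 (smul_add' coe_add')
open Cfsg.Agent.S0403 (smul_sub' coe_sub')
open MulAction
open scoped Pointwise

/-- a vector all of whose coordinates are divisible by `4` -/
def FourV (y : ↥leechLattice) : Prop := ∀ i, (4 : ℤ) ∣ (y : GolayPt → ℤ) i

/-- a cross of type `4ℤ` -/
def FourZ (X : Set ↥leechLattice) : Prop := ∃ y ∈ X, FourV y

theorem FourV_sgn (w : ↥golayCode) (y : ↥leechLattice) (h : FourV (sgnEl w • y)) : FourV y := by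
  intro i
  have := h i
  rw [sgnEl_apply] at this
  split_ifs at this
  · exact (Int.dvd_neg).mp this
  · exact this

/-- the other crosses of the orbit have a number divisible by `64` -/
theorem dvd_T2 (H : Subgroup ↥Co0) (hH : (H : Set ↥Co0) = NSet) (K : Subgroup ↥Co0)
    (hHK : H ≤ K) : 64 ∣ {X ∈ orbit ↥K X0 | ¬ FourZ X}.ncard := by
  have := finite_Co0
  have hfin : {X ∈ orbit ↥K X0 | ¬ FourZ X}.Finite :=
    (Set.finite_range _).subset fun X hX => hX.1
  refine dvd_ncard_of_orbits (E := ↥EE) 64 _ {X ∈ orbit ↥K X0 | ¬ FourZ X} rfl hfin ?_ ?_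
  · rintro ⟨e, he⟩ X ⟨hX, hnX⟩
    refine ⟨?_, ?_⟩
    · obtain ⟨k, rfl⟩ := hX
      refine ⟨⟨e, hHK (EE_le H hH he)⟩ * k, ?_⟩
      show (e * (k : ↥Co0)) • X0 = e • ((k : ↥Co0) • X0)
      rw [mul_smul]
    · rintro ⟨y', hy', h4⟩
      apply hnX
      have hy'' : y' ∈ e • X := hy'
      rw [Set.mem_smul_set] at hy''
      obtain ⟨y, hy, rfl⟩ := hy''
      obtain ⟨w, rfl⟩ := he
      exact ⟨y, hy, FourV_sgn _ y h4⟩
  · rintro X ⟨hX, hnX⟩
    obtain ⟨k, rfl, hk⟩ := orbit_mem K X hX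
    have h4 : ¬ ∀ i, (4 : ℤ) ∣ (((k : ↥Co0) • v8 : ↥leechLattice) : GolayPt → ℤ) i :=
      fun h => hnX ⟨_, mem_crossL_self _, h⟩
    have hb := stab_bound _ hk h4
    have hst : Nat.card ↥(stabilizer ↥EE (crossL ((k : ↥Co0) • v8))) ≤ 2 ^ 6 := by
      refine le_trans ?_ hb
      have hch : ∀ e : ↥(stabilizer ↥EE (crossL ((k : ↥Co0) • v8))),
          ∃ w : Multiplicative ↥golayCode, sgnHom w = ((e : ↥EE) : ↥Co0) := fun e => e.1.2
      choose f hf using hch
      refine Nat.card_le_card_of_injective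
        (fun e => ⟨Multiplicative.toAdd (f e), ?_⟩) ?_
      · have h1 : ((e : ↥EE) : ↥Co0) • crossL ((k : ↥Co0) • v8) = crossL ((k : ↥Co0) • v8) :=
          e.2
        rw [← hf e] at h1
        exact h1
      · intro e e' h
        have h1 : f e = f e' := Multiplicative.toAdd.injective (congrArg Subtype.val h)
        apply Subtype.ext
        apply Subtype.ext
        rw [← hf e, ← hf e', h1]
    have := dvd_orbit_ncard (E := ↥EE) (crossL ((k : ↥Co0) • v8)) 12 6 card_EE hst (by norm_num)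
    simpa using this

/-- counting by fibres of constant size -/
theorem ncard_eq_mul_of_fibers {α β : Type*} (S : Set α) (T : Set β) (f : α → β) (n : ℕ)
    (hS : S.Finite) (hT : T.Finite) (hf : ∀ a ∈ S, f a ∈ T)
    (hfib : ∀ b ∈ T, {a ∈ S | f a = b}.ncard = n) : S.ncard = n * T.ncard := by
  classical
  rw [Set.ncard_eq_toFinset_card S hS, Set.ncard_eq_toFinset_card T hT,
    Finset.card_eq_sum_card_fiberwise (f := f) (s := hS.toFinset) (t := hT.toFinset)
      (fun a ha => (Set.Finite.mem_toFinset hT).mpr (hf a ((Set.Finite.mem_toFinset hS).mp ha)))]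
  rw [Finset.sum_congr rfl (g := fun _ => n), Finset.sum_const, smul_eq_mul, mul_comm]
  intro b hb
  rw [← hfib b ((Set.Finite.mem_toFinset hT).mp hb), ← Set.ncard_coe_finset]
  congr 1
  ext a
  simp [Set.Finite.mem_toFinset]

end Cfsg.Agent.Lib.Helper14.CrossMax
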