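import Mathlib
import Cfsg.Prelude.Def_Sporadic_a
import Cfsg.Prelude.Def_SporadicCombinatorics
import Cfsg.Agent.Lib.Helper14.CrossMaxF

set_option autoImplicit false

/-! The crosses of type `4ℤ`: there are 3543 of them, and the stabiliser of the standard cross
permutes the other 3542 transitively. -/

namespace Cfsg.Agent.Lib.Helper14.CrossMax

open Cfsg
open Cfsg.Agent.Lib.Helper14.Golay Cfsg.Agent.Lib.Helper14.Leech
  Cfsg.Agent.Lib.Helper14.LeechMono Cfsg.Agent.Lib.Helper14.LeechCross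
  Cfsg.Agent.Lib.Helper14.Co0Order Cfsg.Agent.Lib.Helper14.LeechCo2
  Cfsg.Agent.Lib.Helper14.LeechCount
open Cfsg.Agent.Lib.Helper3.Golay (mem_support₂ support₂_injective bitSet codeMask wordOf
  wordOf_codeMask_mem support_wordOf)
open Cfsg.Agent.Lib.Helper14.LeechOrbit (exists_map_pair)
open Cfsg.Agent.S1634 (smul_add' coe_add')
open Cfsg.Agent.S0403 (smul_sub' coe_sub')
open Cfsg.Agent.S1584 (permEl permEl_apply)
open MulAction
open scoped Pointwise

/-- the vectors of norm 64 of type `4ℤ` -/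
def V4 : Set ↥leechLattice := {y | nrm y = 64 ∧ FourV y}

theorem sum_mod8_of_four (y : ↥leechLattice) (h : FourV y) :
    (∑ i, (y : GolayPt → ℤ) i) % 8 = 0 := by
  have hy := y.2
  rw [mem_leechLattice_iff, mem_leechSet_iff] at hy
  obtain ⟨m, w, -, h1, h2⟩ := hy
  have e1 := h1 none
  have e2 := h none
  rcases val_cases (w none) with hv | hv <;> rw [hv] at e1 <;> push_cast at e1 <;> omega

theorem V4_image : Subtype.val '' V4 = ↑(Gset ((0 : ℤ), (0 : GolayPt → ZMod 2))) := by
  ext x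
  constructor
  · rintro ⟨y, ⟨hn, h4⟩, rfl⟩
    unfold Gset
    rw [Finset.mem_coe, Finset.mem_filter, mem_Fset]
    refine ⟨⟨fun i => ?_, hn⟩, ?_⟩
    · have := h4 i
      unfold res
      simp only [Pi.zero_apply, ZMod.val_zero, Nat.cast_zero, mul_zero, add_zero]
      omega
    · rw [sum_mod8_of_four y h4]; norm_num
  · intro hx
    rw [Finset.mem_coe] at hx
    have hmem : x ∈ leechLattice ∧ sqNorm x = 64 := by
      rw [mem_S64]
      refine ⟨((0 : ℤ), (0 : GolayPt → ZMod 2)), ?_, hx⟩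
      rw [Finset.mem_product, mem_Cf]
      exact ⟨by simp, Submodule.zero_mem _⟩
    unfold Gset at hx
    rw [Finset.mem_filter, mem_Fset] at hx
    refine ⟨⟨x, hmem.1⟩, ⟨hmem.2, fun i => ?_⟩, rfl⟩
    have := hx.1.1 i
    unfold res at this
    simp only [Pi.zero_apply, ZMod.val_zero, Nat.cast_zero, mul_zero, add_zero] at this
    show (4 : ℤ) ∣ x i
    omega

theorem ncard_V4 : V4.ncard = 170064 := by
  rw [← Set.ncard_image_of_injective _ Subtype.val_injective, V4_image, Set.ncard_coe_finset,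
    card_G0 0 (Submodule.zero_mem _)]
  have : support₂ (0 : GolayPt → ZMod 2) = ∅ := by
    ext i; simp [mem_support₂]
  rw [this]
  rfl

theorem V4_finite : V4.Finite := Set.finite_of_ncard_ne_zero (by rw [ncard_V4]; norm_num)

/-- the entries of a vector of type `4ℤ` outside the standard cross -/
theorem V4_entries (y : ↥leechLattice) (hy : y ∈ V4) (hX : y ∉ X0) (i : GolayPt) :
    (y : GolayPt → ℤ) i = 0 ∨ (y : GolayPt → ℤ) i = 4 ∨ (y : GolayPt → ℤ) i = -4 := by
  obtain ⟨hn, h4⟩ := hy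
  have hn' : sqNorm (y : GolayPt → ℤ) = 64 := hn
  have hb := entry_bound _ hn' i
  have hd := h4 i
  have h5 : (y : GolayPt → ℤ) i = 8 ∨ (y : GolayPt → ℤ) i = -8 ∨ (y : GolayPt → ℤ) i = 0 ∨
      (y : GolayPt → ℤ) i = 4 ∨ (y : GolayPt → ℤ) i = -4 := by omega
  have hbig : ((y : GolayPt → ℤ) i = 8 ∨ (y : GolayPt → ℤ) i = -8) → False := by
    intro h8
    apply hX
    refine ⟨i, (y : GolayPt → ℤ) i, h8, ?_⟩
    have hsq : (y : GolayPt → ℤ) i ^ 2 = 64 := by rcases h8 with h | h <;> rw [h] <;> norm_num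
    have hsum : ∑ k ∈ Finset.univ.erase i, (y : GolayPt → ℤ) k ^ 2 = 0 := by
      have := Finset.add_sum_erase Finset.univ (fun k => (y : GolayPt → ℤ) k ^ 2)
        (Finset.mem_univ i)
      unfold sqNorm at hn'
      rw [hn', hsq] at this
      linarith
    have hz := (Finset.sum_eq_zero_iff_of_nonneg (fun k _ => sq_nonneg _)).mp hsum
    funext k
    by_cases hk : k = i
    · subst hk; rw [Pi.single_eq_same]
    · rw [Pi.single_eq_of_ne hk]
      have := hz k (Finset.mem_erase.mpr ⟨hk, Finset.mem_univ _⟩)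
      exact pow_eq_zero_iff (by norm_num) |>.mp this
  rcases h5 with h | h | h | h | h
  · exact absurd (Or.inl h) hbig
  · exact absurd (Or.inr h) hbig
  · exact Or.inl h
  · exact Or.inr (Or.inl h)
  · exact Or.inr (Or.inr h)

/-- the support of a vector -/
def suppV (y : ↥leechLattice) : Finset GolayPt :=
  Finset.univ.filter (fun i => (y : GolayPt → ℤ) i ≠ 0)

theorem mem_suppV (y : ↥leechLattice) (i : GolayPt) : i ∈ suppV y ↔ (y : GolayPt → ℤ) i ≠ 0 := by
  simp [suppV]

theorem card_suppV (y : ↥leechLattice) (hy : y ∈ V4) (hX : y ∉ X0) : (suppV y).card = 4 := by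
  have hn : sqNorm (y : GolayPt → ℤ) = 64 := hy.1
  have h1 : ∀ i, (y : GolayPt → ℤ) i ^ 2 = if (y : GolayPt → ℤ) i ≠ 0 then 16 else 0 := by
    intro i
    rcases V4_entries y hy hX i with h | h | h <;> rw [h] <;> norm_num
  unfold sqNorm at hn
  rw [Finset.sum_congr rfl (fun i _ => h1 i), Finset.sum_ite, Finset.sum_const, Finset.sum_const,
    smul_zero, add_zero, nsmul_eq_mul] at hn
  have : ((Finset.univ.filter (fun i => (y : GolayPt → ℤ) i ≠ 0)).card : ℤ) = 4 := by linarith
  unfold suppV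
  exact_mod_cast this

/-- the coordinate sum -/
def sumV (y : ↥leechLattice) : ℤ := ∑ i, (y : GolayPt → ℤ) i

theorem sumV_perm (π : Equiv.Perm GolayPt) (hπ : π ∈ M24) (y : ↥leechLattice) :
    sumV (permEl π hπ • y) = sumV y := by
  unfold sumV
  rw [Finset.sum_congr rfl (fun i _ => permEl_apply π hπ y i)]
  exact Equiv.sum_comp π.symm (fun i => (y : GolayPt → ℤ) i)

theorem sumV_sgn (w : ↥golayCode) (y : ↥leechLattice) :
    sumV (sgnEl w • y) = sumV y - 2 * ∑ i ∈ support₂ (w : GolayPt → ZMod 2), (y : GolayPt → ℤ) i := by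
  unfold sumV
  rw [Finset.sum_congr rfl (fun i _ => sgnEl_apply w y i)]
  have : ∀ i, (if i ∈ support₂ (w : GolayPt → ZMod 2) then -(y : GolayPt → ℤ) i
      else (y : GolayPt → ℤ) i) = (y : GolayPt → ℤ) i -
        (if i ∈ support₂ (w : GolayPt → ZMod 2) then 2 * (y : GolayPt → ℤ) i else 0) := by
    intro i; split_ifs <;> ring
  rw [Finset.sum_congr rfl (fun i _ => this i), Finset.sum_sub_distrib, Finset.sum_ite_mem,
    Finset.univ_inter, Finset.mul_sum]

/-- congruence of two vectors with differences divisible by `8` -/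
theorem cong_of_diff (a b : ↥leechLattice)
    (h8 : ∀ i, ((a : GolayPt → ℤ) i - (b : GolayPt → ℤ) i) % 8 = 0)
    (h16 : (sumV a - sumV b) % 16 = 0) : Cong a b := by
  have hu : (fun i => ((a : GolayPt → ℤ) i - (b : GolayPt → ℤ) i) / 2) ∈ leechLattice := by
    rw [mem_leechLattice_iff, mem_leechSet_iff]
    refine ⟨0, 0, Submodule.zero_mem _, fun i => ?_, ?_⟩
    · have := h8 i
      simp only [Pi.zero_apply, ZMod.val_zero, Nat.cast_zero, mul_zero, add_zero]
      omega
    · have h2 : 2 * ∑ i, ((a : GolayPt → ℤ) i - (b : GolayPt → ℤ) i) / 2 = sumV a - sumV b := by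
        unfold sumV
        rw [Finset.mul_sum, ← Finset.sum_sub_distrib]
        refine Finset.sum_congr rfl fun i _ => ?_
        have := h8 i
        omega
      omega
  refine ⟨⟨_, hu⟩, ?_⟩
  apply Subtype.ext
  funext i
  rw [coe_sub', coe_add']
  show (a : GolayPt → ℤ) i - (b : GolayPt → ℤ) i = _ + _
  have := h8 i
  simp only [Pi.add_apply]
  omega

/-! ### a code word meeting a four-set in one point -/

def base4 : Finset GolayPt := {none, some 0, some 1, some 2}

set_option maxRecDepth 100000 in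
theorem base4_facts : base4.card = 4 ∧ (bitSet 4845570 ∩ base4).card = 1 ∧
    codeMask 2 = 4845570 := by
  decide +kernel

theorem exists_word_one (s : Finset GolayPt) (hs : s.card = 4) :
    ∃ w : ↥golayCode, (support₂ (w : GolayPt → ZMod 2) ∩ s).card = 1 := by
  obtain ⟨g, hg, hgs, -⟩ := exists_map_pair base4 ∅ s ∅ (Finset.disjoint_empty_right _)
    (Finset.disjoint_empty_right _) (by rw [base4_facts.1, hs]) rfl
    (by rw [base4_facts.1]; norm_num)
  have hb : bitSet 4845570 ∈ supports (golayCode : Set (GolayPt → ZMod 2)) := by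
    rw [← base4_facts.2.2]
    exact ⟨wordOf (codeMask 2), wordOf_codeMask_mem 2, support_wordOf _⟩
  obtain ⟨w, hw, hwb⟩ := smul_mem_supports hg hb
  refine ⟨⟨w, hw⟩, ?_⟩
  show (support₂ w ∩ s).card = 1
  rw [hwb, ← hgs, ← Finset.smul_finset_inter, Finset.card_smul_finset, base4_facts.2.1]

/-! ### transitivity -/

theorem mul_mem_NSet (g g' : ↥Co0) (hg : g ∈ NSet) (hg' : g' ∈ NSet) : g * g' ∈ NSet := by
  rw [mem_NSet_iff] at hg hg' ⊢
  rw [mul_smul, hg', hg]

theorem permEl_mem_NSet (π : Equiv.Perm GolayPt) (hπ : π ∈ M24) : permEl π hπ ∈ NSet :=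
  fun v hv => mono_std ⟨π, hπ⟩ 0 v hv

theorem trans4 (y1 y2 : ↥leechLattice) (h1 : y1 ∈ V4) (h2 : y2 ∈ V4) (n1 : y1 ∉ X0)
    (n2 : y2 ∉ X0) : ∃ g ∈ NSet, Cong (g • y1) y2 := by
  obtain ⟨π, hπ, hπs, -⟩ := exists_map_pair (suppV y1) ∅ (suppV y2) ∅
    (Finset.disjoint_empty_right _) (Finset.disjoint_empty_right _)
    (by rw [card_suppV y1 h1 n1, card_suppV y2 h2 n2]) rfl
    (by rw [card_suppV y1 h1 n1]; norm_num)
  -- the entries of the permuted vector
  have hent : ∀ i, ((permEl π hπ • y1 : ↥leechLattice) : GolayPt → ℤ) i = 0 ∨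
      ((permEl π hπ • y1 : ↥leechLattice) : GolayPt → ℤ) i = 4 ∨
      ((permEl π hπ • y1 : ↥leechLattice) : GolayPt → ℤ) i = -4 := by
    intro i
    rw [permEl_apply]
    exact V4_entries y1 h1 n1 _
  have hsup : ∀ i, ((permEl π hπ • y1 : ↥leechLattice) : GolayPt → ℤ) i ≠ 0 ↔
      (y2 : GolayPt → ℤ) i ≠ 0 := by
    intro i
    rw [permEl_apply, ← mem_suppV, ← mem_suppV, ← hπs,
      Cfsg.Agent.Lib.Helper14.LeechOrbit.mem_smul_iff]
  have hdiff : ∀ i, (((permEl π hπ • y1 : ↥leechLattice) : GolayPt → ℤ) i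
      - (y2 : GolayPt → ℤ) i) % 8 = 0 := by
    intro i
    have e1 := hent i
    have e2 := V4_entries y2 h2 n2 i
    have e3 := hsup i
    rcases e1 with e1 | e1 | e1 <;> rcases e2 with e2 | e2 | e2 <;> rw [e1, e2] at e3 ⊢ <;>
      first | (exfalso; revert e3; norm_num; done) | norm_num
  have hs1 : sumV (permEl π hπ • y1) % 8 = 0 := by
    rw [sumV_perm]; exact sum_mod8_of_four y1 h1.2
  have hs2 : sumV y2 % 8 = 0 := sum_mod8_of_four y2 h2.2
  have hcase : (sumV (permEl π hπ • y1) - sumV y2) % 16 = 0 ∨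
      (sumV (permEl π hπ • y1) - sumV y2) % 16 = 8 := by omega
  rcases hcase with hc | hc
  · exact ⟨permEl π hπ, permEl_mem_NSet π hπ, cong_of_diff _ _ hdiff hc⟩
  · obtain ⟨w, hw⟩ := exists_word_one (suppV y2) (card_suppV y2 h2 n2)
    refine ⟨sgnEl w * permEl π hπ, mul_mem_NSet _ _ (sgnEl_mem w) (permEl_mem_NSet π hπ), ?_⟩
    rw [mul_smul]
    apply cong_of_diff
    · intro i
      rw [sgnEl_apply]
      have e0 := hdiff i
      have e1 := hent i
      split_ifs
      · rcases e1 with e1 | e1 | e1 <;> rw [e1] at e0 ⊢ <;> omega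
      · exact e0
    · rw [sumV_sgn]
      obtain ⟨j, hj⟩ := Finset.card_eq_one.mp hw
      have hsum : ∑ i ∈ support₂ (w : GolayPt → ZMod 2),
          ((permEl π hπ • y1 : ↥leechLattice) : GolayPt → ℤ) i
          = ((permEl π hπ • y1 : ↥leechLattice) : GolayPt → ℤ) j := by
        rw [← Finset.sum_subset (Finset.inter_subset_left (s₂ := suppV y2)), hj,
          Finset.sum_singleton]
        intro i hi hni
        by_contra hne
        apply hni
        rw [Finset.mem_inter]
        exact ⟨hi, (mem_suppV y2 i).mpr ((hsup i).mp hne)⟩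
      rw [hsum]
      have hjmem : j ∈ support₂ (w : GolayPt → ZMod 2) ∩ suppV y2 := by
        rw [hj]; exact Finset.mem_singleton_self j
      have hj2 : (y2 : GolayPt → ℤ) j ≠ 0 := (mem_suppV y2 j).mp (Finset.mem_inter.mp hjmem).2
      have hj1 := (hsup j).mpr hj2
      rcases hent j with e | e | e
      · exact absurd e hj1
      · rw [e]; omega
      · rw [e]; omega

end Cfsg.Agent.Lib.Helper14.CrossMax
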