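import Mathlib
import Cfsg.Prelude.Def_Sporadic_a
import Cfsg.Prelude.Def_SporadicCombinatorics
import Cfsg.Agent.Lib.Helper14.CrossMaxG

set_option autoImplicit false

/-! The index of the cross stabiliser in an overgroup is congruent to `1` or `23` modulo `64`. -/

namespace Cfsg.Agent.Lib.Helper14.CrossMax

open Cfsg
open Cfsg.Agent.Lib.Helper14.Golay Cfsg.Agent.Lib.Helper14.Leech
  Cfsg.Agent.Lib.Helper14.LeechMono Cfsg.Agent.Lib.Helper14.LeechCross
  Cfsg.Agent.Lib.Helper14.Co0Order Cfsg.Agent.Lib.Helper14.LeechCo2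
  Cfsg.Agent.Lib.Helper14.LeechCount
open Cfsg.Agent.S1634 (smul_add' coe_add')
open Cfsg.Agent.S0403 (smul_sub' coe_sub')
open MulAction
open scoped Pointwise

/-- the crosses of type `4ℤ` -/
def X4 : Set (Set ↥leechLattice) := crossL '' V4

theorem mem_V4_of_cong (y a : ↥leechLattice) (hy : y ∈ V4) (ha : a ∈ crossL y) : a ∈ V4 := by
  obtain ⟨hn, u, hu⟩ := ha
  have hna : nrm a = 64 := hn.trans hy.1
  refine ⟨hna, ?_⟩
  have hcoord : ∀ i, (a : GolayPt → ℤ) i = (y : GolayPt → ℤ) i + 2 * (u : GolayPt → ℤ) i := by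
    intro i
    have h2 := congrArg (fun b : ↥leechLattice => (b : GolayPt → ℤ) i) hu
    simp only [coe_sub', coe_add', Pi.sub_apply, Pi.add_apply] at h2
    omega
  rcases odd_or_even u.1 u.2 with hev | hodd
  · obtain ⟨d, -, hd⟩ := even_decomp u.1 u.2 hev
    intro i
    have e1 := hcoord i
    have e2 := hy.2 i
    have e3 := hd i
    rcases val_cases (d i) with hv | hv <;> rw [hv] at e3 <;> push_cast at e3 <;> omega
  · exfalso
    have h2 : ∀ i, (4 : ℤ) ≤ (a : GolayPt → ℤ) i ^ 2 := by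
      intro i
      have e1 := hcoord i
      have e2 := hy.2 i
      have e3 := hodd i
      have h3 : (a : GolayPt → ℤ) i ≤ -2 ∨ 2 ≤ (a : GolayPt → ℤ) i := by omega
      rcases h3 with h3 | h3 <;> nlinarith
    have h96 : (96 : ℤ) ≤ sqNorm (a : GolayPt → ℤ) := by
      unfold sqNorm
      calc (96 : ℤ) = ∑ _i : GolayPt, (4 : ℤ) := by
            rw [Finset.sum_const, Finset.card_univ, card_golayPt]; norm_num
        _ ≤ _ := Finset.sum_le_sum fun i _ => h2 i
    have : sqNorm (a : GolayPt → ℤ) = 64 := hna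
    omega

theorem ncard_X4 : X4.ncard = 3543 := by
  have h := ncard_eq_mul_of_fibers V4 X4 crossL 48 V4_finite (V4_finite.image _)
    (fun a ha => ⟨a, ha, rfl⟩) (by
      rintro b ⟨y, hy, rfl⟩
      rw [← ncard_crossL y hy.1]
      congr 1
      ext a
      constructor
      · rintro ⟨-, h2⟩
        rw [← h2]
        exact mem_crossL_self a
      · intro ha
        exact ⟨mem_V4_of_cong y a hy ha, crossL_eq_of_mem ha⟩)
  rw [ncard_V4] at h
  omega

theorem FourV_v8 : FourV v8 := by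
  intro i
  rw [v8_coe]
  by_cases hi : i = none
  · subst hi; rw [Pi.single_eq_same]; norm_num
  · rw [Pi.single_eq_of_ne hi]; exact dvd_zero _

theorem card_T1 (H : Subgroup ↥Co0) (hH : (H : Set ↥Co0) = NSet) (K : Subgroup ↥Co0)
    (hHK : H ≤ K) : {X ∈ orbit ↥K X0 | FourZ X}.ncard = 1 ∨
      {X ∈ orbit ↥K X0 | FourZ X}.ncard = 3543 := by
  have hsub : ∀ X ∈ {X ∈ orbit ↥K X0 | FourZ X}, ∃ y ∈ V4, X = crossL y := by
    rintro X ⟨hX, y, hy, h4⟩
    obtain ⟨k, rfl, hk⟩ := orbit_mem K X hX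
    exact ⟨y, ⟨hy.1.trans hk, h4⟩, (crossL_eq_of_mem hy).symm⟩
  have hX0 : X0 ∈ {X ∈ orbit ↥K X0 | FourZ X} :=
    ⟨mem_orbit_self _, v8, v8_mem_X0, FourV_v8⟩
  by_cases h : ∃ X1 ∈ {X ∈ orbit ↥K X0 | FourZ X}, X1 ≠ X0
  · right
    obtain ⟨X1, hX1, hne⟩ := h
    obtain ⟨y1, hy1, rfl⟩ := hsub X1 hX1
    have n1 : y1 ∉ X0 := by
      intro hmem
      apply hne
      rw [X0_eq] at hmem ⊢
      exact crossL_eq_of_mem hmem
    have : {X ∈ orbit ↥K X0 | FourZ X} = X4 := by
      apply Set.Subset.antisymm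
      · intro X hX
        obtain ⟨y, hy, rfl⟩ := hsub X hX
        exact ⟨y, hy, rfl⟩
      · rintro X ⟨y2, hy2, rfl⟩
        by_cases n2 : y2 ∈ X0
        · have : crossL y2 = X0 := by
            rw [X0_eq] at n2 ⊢
            exact crossL_eq_of_mem n2
          rw [this]
          exact hX0
        · obtain ⟨g, hg, hc⟩ := trans4 y1 y2 hy1 hy2 n1 n2
          have hgH : g ∈ H := by
            have : g ∈ (H : Set ↥Co0) := by rw [hH]; exact hg
            exact this
          have hmem : g • y1 ∈ crossL y2 :=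
            ⟨by rw [nrm_smul, hy1.1, hy2.1], hc⟩
          have heq : g • crossL y1 = crossL y2 := by
            rw [smul_crossL, crossL_eq_of_mem hmem]
          refine ⟨?_, y2, mem_crossL_self y2, hy2.2⟩
          obtain ⟨k, hk⟩ := hX1.1
          refine ⟨⟨g, hHK hgH⟩ * k, ?_⟩
          rw [← heq, ← hk]
          show (g * (k : ↥Co0)) • X0 = g • ((k : ↥Co0) • X0)
          rw [mul_smul]
    rw [this, ncard_X4]
  · left
    have : {X ∈ orbit ↥K X0 | FourZ X} = {X0} := by
      apply Set.Subset.antisymm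
      · intro X hX
        by_contra hne
        exact h ⟨X, hX, hne⟩
      · intro X hX
        rw [Set.mem_singleton_iff] at hX
        rw [hX]
        exact hX0
    rw [this, Set.ncard_singleton]

theorem mod64 (H : Subgroup ↥Co0) (hH : (H : Set ↥Co0) = NSet) (K : Subgroup ↥Co0)
    (hHK : H ≤ K) : (orbit ↥K X0).ncard % 64 = 1 ∨ (orbit ↥K X0).ncard % 64 = 23 := by
  have := finite_Co0
  have hfin : (orbit ↥K X0).Finite := Set.finite_range _
  have hsplit := Set.ncard_inter_add_ncard_sdiff_eq_ncard (orbit ↥K X0) {X | FourZ X} hfin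
  have e1 : orbit ↥K X0 ∩ {X | FourZ X} = {X ∈ orbit ↥K X0 | FourZ X} := rfl
  have e2 : orbit ↥K X0 \ {X | FourZ X} = {X ∈ orbit ↥K X0 | ¬ FourZ X} := rfl
  rw [e1, e2] at hsplit
  obtain ⟨c, hc⟩ := dvd_T2 H hH K hHK
  rcases card_T1 H hH K hHK with h1 | h1
  · left; omega
  · right; omega

end Cfsg.Agent.Lib.Helper14.CrossMax
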