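/-
helper14: S4645 leaf (LD): the local data of a subpair `(Q, f) ≤ (P, c)` (abelian defect group `P`)
read inside the group `H = C_G(Q)`.  Export of the first half of the proof of `S4650.core`.
-/
import Mathlib
import Cfsg.Agent.S4650

set_option autoImplicit false

namespace Cfsg.Agent.Lib.Helper14.CycLD

open Cfsg Cfsg.Agent.CharLib Cfsg.Agent.Lib.Helper24 Cfsg.Agent.Lib.Helper6
open scoped ComplexConjugate

universe u

section LD
variable {G : Type u} [Group G] [Fintype G] {M : Ideal AlgInt} {p : ℕ} [hpp : Fact p.Prime]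

/-- (LD) the local data in `H = C_G(Q)`. -/
theorem local_data (hM : IsPModular p M) (B : Set (IrrCharacter G)) (hB : IsPBlock M B)
    (P : Subgroup G) (hPD : IsDefectGroup p M B P) (hPab : ∀ x ∈ P, ∀ y ∈ P, x * y = y * x)
    (c : Set (IrrCharacter (Subgroup.centralizer (P : Set G))))
    (hc : IsInducedBlock M (Subgroup.centralizer (P : Set G)) c B)
    (Q : Subgroup G) (hQP : Q ≤ P)
    (f : Set (IrrCharacter (Subgroup.centralizer (Q : Set G))))
    (hf : IsInducedBlockIn M (Subgroup.centralizer (Q : Set G))
      (Subgroup.centralizer (P : Set G)) c f) :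
    IsMaximalBrauerPair p M B P c ∧ SubpairLE p M Q f P c ∧
    ∃ c' : Set (IrrCharacter (Subgroup.centralizer
        ((P.subgroupOf (Subgroup.centralizer (Q : Set G)) :
          Subgroup (Subgroup.centralizer (Q : Set G))) : Set (Subgroup.centralizer (Q : Set G))))),
      IsInducedBlock M _ c' f ∧
      IsMaximalBrauerPair p M f (P.subgroupOf (Subgroup.centralizer (Q : Set G))) c' ∧
      (∀ x : Subgroup.centralizer (Q : Set G),
        x ∈ Subgroup.normalizer ((P.subgroupOf (Subgroup.centralizer (Q : Set G)) :
          Subgroup (Subgroup.centralizer (Q : Set G))) : Set (Subgroup.centralizer (Q : Set G))) ↔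
          (x : G) ∈ Subgroup.normalizer (P : Set G)) ∧
      (∀ x : Subgroup.centralizer (Q : Set G),
        x ∈ Subgroup.normalizer ((P.subgroupOf (Subgroup.centralizer (Q : Set G)) :
          Subgroup (Subgroup.centralizer (Q : Set G))) : Set (Subgroup.centralizer (Q : Set G))) →
        (StabilizesBlock (Subgroup.centralizer ((P.subgroupOf (Subgroup.centralizer (Q : Set G)) :
          Subgroup (Subgroup.centralizer (Q : Set G))) : Set (Subgroup.centralizer (Q : Set G))))
            c' x ↔
          StabilizesBlock (Subgroup.centralizer (P : Set G)) c (x : G))) := by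
  classical
  have hp : M.IsPrime := isPrime_of_isPModular hM
  have hPp : IsPGroup p P := ExtFirstMain.isPGroup_of_isDefectGroup hPD
  have hQp : IsPGroup p Q := hPp.to_le hQP
  have hPH := Cfsg.Agent.S4650.le_centralizer_of_abelian P Q hPab hQP
  have hR := Cfsg.Agent.S4650.eq_sup_map P Q hQP hPH
  set P' : Subgroup (Subgroup.centralizer (Q : Set G)) :=
    P.subgroupOf (Subgroup.centralizer (Q : Set G)) with hP'
  set κ := centEquivQ Q P P' hR with hκdef
  have hP'p : IsPGroup p P' := by
    have h2 := hPp.comap_of_injective (Subgroup.centralizer (Q : Set G)).subtype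
      (Subgroup.subtype_injective _)
    exact h2
  have hPc : IsBrauerPairOf p M B P c := Cfsg.Agent.S4650.isBrauerPairOf_of_induced hM B P hPp c hc
  have hind' : IsInducedBlock M (Subgroup.centralizer (P' : Set (Subgroup.centralizer (Q : Set G))))
      (BlockIso.pullBlock κ c) f :=
    (Cfsg.Agent.S4650.isInducedBlockIn_iff _ _ _ κ (centEquivQ_coe Q P P' hR) c f).mp hf
  have hpair' : IsBrauerPairOf p M f P' (BlockIso.pullBlock κ c) :=
    Cfsg.Agent.S4650.isBrauerPairOf_of_induced hM f P' hP'p _ hind'
  have hnormal : IsNormalSubpair p M Q f P c :=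
    (isNormalSubpair_iff_isBrauerPairOf (M := M) Q P P' hQp hR f c).mpr hpair'
  have hQfB : IsBrauerPairOf p M B Q f :=
    (Cfsg.Agent.S4658.result' p M hM P Q c f (Relation.ReflTransGen.single hnormal) B hB).mp hPc
  have hf' : IsPBlock M f := hf.2.1
  -- maximality of `(P, c)` for `B`
  have hmaxB : IsMaximalBrauerPair p M B P c := by
    refine ⟨hPc, ?_⟩
    intro R g hRg hle
    have hPR : P ≤ R := Cfsg.Agent.S4681.le_of_subpairLE p M _ _ _ _ hle
    have hcard : Nat.card R ≤ Nat.card P := Cfsg.Agent.S4650.card_le_of_pair hM B hB P hPD R g hRg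
    exact (Subgroup.eq_of_le_of_card_ge hPR hcard).symm
  -- maximality
  have hmax' : IsMaximalBrauerPair p M f P' (BlockIso.pullBlock κ c) := by
    refine ⟨hpair', ?_⟩
    intro R' g' hR'g' hle
    have hP'R' : P' ≤ R' := Cfsg.Agent.S4681.le_of_subpairLE p M _ _ _ _ hle
    set R : Subgroup G := Q ⊔ R'.map (Subgroup.centralizer (Q : Set G)).subtype with hRdef
    set g := BlockIso.pullBlock (centEquivQ Q R R' rfl).symm g' with hgdef
    have hg : BlockIso.pullBlock (centEquivQ Q R R' rfl) g = g' := by
      rw [hgdef]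
      exact BlockIso.pullBlock_symm_pullBlock (centEquivQ Q R R' rfl).symm g'
    have hnormal2 : IsNormalSubpair p M Q f R g := by
      rw [isNormalSubpair_iff_isBrauerPairOf (M := M) Q R R' hQp rfl f g, hg]
      exact hR'g'
    have hRgB : IsBrauerPairOf p M B R g :=
      (Cfsg.Agent.S4658.result' p M hM R Q g f (Relation.ReflTransGen.single hnormal2) B hB).mpr hQfB
    have hcard : Nat.card R ≤ Nat.card P := Cfsg.Agent.S4650.card_le_of_pair hM B hB P hPD R g hRgB
    have hPR : P ≤ R := by
      rw [hR, hRdef]
      exact sup_le_sup_left (Subgroup.map_mono hP'R') Q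
    have hRP : R = P := (Subgroup.eq_of_le_of_card_ge hPR hcard).symm
    apply le_antisymm _ hP'R'
    intro r hr
    rw [hP', Subgroup.mem_subgroupOf, ← hRP, hRdef]
    exact (le_sup_right : R'.map (Subgroup.centralizer (Q : Set G)).subtype ≤ _) ⟨r, hr, rfl⟩
  -- membership lemmas
  have hnorm : ∀ x : Subgroup.centralizer (Q : Set G),
      x ∈ Subgroup.normalizer (P' : Set (Subgroup.centralizer (Q : Set G))) ↔
        (x : G) ∈ Subgroup.normalizer (P : Set G) := by
    intro x
    constructor
    · intro hx
      rw [Subgroup.mem_normalizer_iff]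
      intro k
      constructor
      · intro hk
        have := (Subgroup.mem_normalizer_iff.mp hx ⟨k, hPH hk⟩).mp (Subgroup.mem_subgroupOf.mpr hk)
        exact Subgroup.mem_subgroupOf.mp this
      · intro hk
        have hkH : k ∈ Subgroup.centralizer (Q : Set G) := by
          have h1 := hPH hk
          have h2 := Subgroup.mul_mem _ (Subgroup.mul_mem _ (Subgroup.inv_mem _ x.2) h1) x.2
          have e : (x : G)⁻¹ * ((x : G) * k * (x : G)⁻¹) * (x : G) = k := by group
          rwa [e] at h2
        have := (Subgroup.mem_normalizer_iff.mp hx ⟨k, hkH⟩).mpr (Subgroup.mem_subgroupOf.mpr hk)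
        exact Subgroup.mem_subgroupOf.mp this
    · intro hx
      rw [Subgroup.mem_normalizer_iff]
      intro k
      rw [hP', Subgroup.mem_subgroupOf, Subgroup.mem_subgroupOf]
      exact Subgroup.mem_normalizer_iff.mp hx (k : G)
  refine ⟨hmaxB, Relation.ReflTransGen.single hnormal, BlockIso.pullBlock κ c, hind', hmax', hnorm,
    ?_⟩
  intro x hxN
  constructor
  · intro hxst
    exact Cfsg.Agent.S4688.stabilizesBlock_of_pullBlock_centEquivQ Q P P' hR c x hxst
  · intro hxst
    exact Cfsg.Agent.S4650.stabilizesBlock_pullBlock_centEquivQ_of Q P P' hR c x hxN hxst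

end LD

end Cfsg.Agent.Lib.Helper14.CycLD
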