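/-
helper14: S4481 leaf (NPC) `index_pPrimeCore_centralizer_pow`: the centralizers of the `σ^k` have normal
2-complements (`O_{2'}` has 2-power index).  `_of` form over the (CARD2) statement.
-/
import Mathlib
import Cfsg.Prelude.Def_Blocks
import Cfsg.Agent.Lib.Lead.BrLeo12
import Cfsg.Agent.Lib.Lead.KleinBlock1
import Cfsg.Agent.Lib.Helper12.Cores
import Cfsg.Agent.S0514

set_option autoImplicit false

namespace Cfsg.Agent.Lib.Helper14.DIHNPC

open Cfsg Cfsg.Agent.CharLib

section group_part

variable {G : Type*} [Group G] [Finite G]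

/-- a group whose order has 2-part `2^a`, `a ≥ 1`, containing a cyclic subgroup of order `2^a`, has a normal
2-complement -/
theorem hasNormalPComplement_of_cyclic {X : Type*} [Group X] [Finite X] (Z : Subgroup X) (hZc : IsCyclic Z)
    (hZ : Nat.card Z = 2 ^ (Nat.card X).factorization 2) (h2 : 2 ∣ Nat.card X) :
    HasNormalPComplement 2 X := by
  have : Fact (Nat.Prime 2) := ⟨Nat.prime_two⟩
  let S : Sylow 2 X := Sylow.ofCard Z hZ
  have hS : (S : Subgroup X) = Z := Sylow.coe_ofCard Z hZ
  have hSc : IsCyclic S := by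
    have : IsCyclic (S : Subgroup X) := by rw [hS]; exact hZc
    exact this
  have hmf : (Nat.card X).minFac = 2 := (Nat.minFac_eq_two_iff _).mpr h2
  have hc := IsCyclic.isComplement' hmf hSc
  exact ⟨S, _, MonoidHom.normal_ker _, hc⟩

/-- **NPC**, over (CARD2). -/
theorem index_pPrimeCore_centralizer_pow_of (n : ℕ) (hn : 3 ≤ n) (P : Sylow 2 G)
    (hP : Nonempty ((P : Subgroup G) ≃* DihedralGroup (2 ^ (n - 1)))) (σ : G) (hσ : σ ∈ (P : Subgroup G))
    (hσo : orderOf σ = 2 ^ (n - 1)) (k : ℕ) (hk0 : 0 < k) (hk : k < 2 ^ (n - 1))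
    (hcard2 : (Nat.card (Subgroup.centralizer ({σ ^ k} : Set G))).factorization 2 =
      if k = 2 ^ (n - 2) then n else n - 1) :
    ∃ e : ℕ, (pPrimeCore 2 (Subgroup.centralizer ({σ ^ k} : Set G))).index = 2 ^ e := by
  have : Fact (Nat.Prime 2) := ⟨Nat.prime_two⟩
  have hn1 : n - 1 = (n - 2) + 1 := by omega
  by_cases hkk : k = 2 ^ (n - 2)
  · -- the central involution
    have ht : orderOf (σ ^ k) = 2 := by
      apply orderOf_eq_prime
      · rw [← pow_mul, hkk, ← pow_succ, ← hn1, ← hσo]
        exact pow_orderOf_eq_one σ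
      · intro h1
        have := orderOf_dvd_of_pow_eq_one h1
        rw [hσo] at this
        exact absurd (Nat.le_of_dvd hk0 this) (by omega)
    have h2n : 2 ≤ 2 ^ (n - 1) := by
      calc 2 = 2 ^ 1 := by norm_num
        _ ≤ 2 ^ (n - 1) := Nat.pow_le_pow_right (by norm_num) (by omega)
    obtain ⟨N, hN, hodd, j, hj⟩ := Cfsg.Agent.S0514.result P (2 ^ (n - 1)) h2n hP (σ ^ k) ht
    have hcop : (Nat.card N).Coprime 2 := hodd.coprime_two_right
    have hle := Cfsg.Agent.Lib.Helper12.le_pPrimeCore 2 N hN hcop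
    have h1 : (pPrimeCore 2 (Subgroup.centralizer ({σ ^ k} : Set G))).index ∣ 2 ^ j := by
      rw [← hj]
      exact Subgroup.index_dvd_of_le hle
    obtain ⟨e, -, he⟩ := (Nat.dvd_prime_pow Nat.prime_two).mp h1
    exact ⟨e, he⟩
  · -- cyclic Sylow 2-subgroup
    rw [if_neg hkk] at hcard2
    apply exists_index_pPrimeCore_of_hasNormalPComplement
    set C : Subgroup G := Subgroup.centralizer ({σ ^ k} : Set G) with hC
    have hle : Subgroup.zpowers σ ≤ C := by
      rw [Subgroup.zpowers_le, hC, Subgroup.mem_centralizer_iff]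
      intro y hy
      rw [Set.mem_singleton_iff] at hy
      subst hy
      rw [← pow_succ, ← pow_succ']
    have hcz : Nat.card ((Subgroup.zpowers σ).subgroupOf C) = 2 ^ (n - 1) := by
      rw [Nat.card_congr (Subgroup.subgroupOfEquivOfLe hle).toEquiv, Nat.card_zpowers, hσo]
    have hcyc : IsCyclic ((Subgroup.zpowers σ).subgroupOf C) :=
      isCyclic_of_surjective (Subgroup.subgroupOfEquivOfLe hle).symm.toMonoidHom
        (Subgroup.subgroupOfEquivOfLe hle).symm.surjective
    refine hasNormalPComplement_of_cyclic ((Subgroup.zpowers σ).subgroupOf C) hcyc ?_ ?_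
    · rw [hcz, hcard2]
    · have h1 : Nat.card ((Subgroup.zpowers σ).subgroupOf C) ∣ Nat.card C :=
        Subgroup.card_subgroup_dvd_card _
      rw [hcz] at h1
      refine dvd_trans ?_ h1
      exact dvd_pow_self 2 (by omega)

end group_part

end Cfsg.Agent.Lib.Helper14.DIHNPC
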