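/-
helper14: S4481 leaf (NPC) `index_pPrimeCore_centralizer_pow`, exact form (= `DIHNPC` `_of` form + helper12's (CARD2)).
-/
import Mathlib
import Cfsg.Prelude.Def_Blocks
import Cfsg.Agent.Lib.Helper14.DIHNPC
import Cfsg.Agent.Lib.Helper12.DIHCARD2

set_option autoImplicit false

namespace Cfsg.Agent.Lib.Helper14.DIHNPCX

open Cfsg Cfsg.Agent.CharLib

section group_part

variable {G : Type*} [Group G] [Finite G]

/-- **NPC** the centralizers of the `σ^k` have normal 2-complements. -/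
theorem index_pPrimeCore_centralizer_pow (n : ℕ) (hn : 3 ≤ n) (P : Sylow 2 G)
    (hP : Nonempty ((P : Subgroup G) ≃* DihedralGroup (2 ^ (n - 1)))) (σ : G) (hσ : σ ∈ (P : Subgroup G))
    (hσo : orderOf σ = 2 ^ (n - 1)) (k : ℕ) (hk0 : 0 < k) (hk : k < 2 ^ (n - 1)) :
    ∃ e : ℕ, (pPrimeCore 2 (Subgroup.centralizer ({σ ^ k} : Set G))).index = 2 ^ e :=
  Cfsg.Agent.Lib.Helper14.DIHNPC.index_pPrimeCore_centralizer_pow_of n hn P hP σ hσ hσo k hk0 hk
    (Cfsg.Agent.Lib.Helper12.DIHCARD2.factorization_centralizer_pow n hn P hP σ hσ hσo k hk0 hk)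

end group_part

end Cfsg.Agent.Lib.Helper14.DIHNPCX
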