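import Mathlib
import Cfsg.Agent.Lib.Helper14.CrossCount

set_option autoImplicit false

/-! An even positive definite form of rank 24 without roots and with the theta coefficients
196560, 16773120, 398034000: every class modulo 2 of a norm-8 vector contains exactly 48
vectors of norm 8. -/

namespace Cfsg.Agent.Lib.Helper14.EvenLattice48

open Matrix Cfsg.Agent.Lib.Helper14.CrossCount

variable (B : Matrix (Fin 24) (Fin 24) ℤ)

/-- the bilinear form -/
def bb (x y : Fin 24 → ℤ) : ℤ := x ⬝ᵥ (B *ᵥ y)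

theorem bb_add_left (x y u : Fin 24 → ℤ) : bb B (x + y) u = bb B x u + bb B y u := by
  unfold bb; rw [add_dotProduct]

theorem bb_smul_left (c : ℤ) (x u : Fin 24 → ℤ) : bb B (c • x) u = c * bb B x u := by
  unfold bb; rw [smul_dotProduct, smul_eq_mul]

theorem bb_add_right (x y u : Fin 24 → ℤ) : bb B x (y + u) = bb B x y + bb B x u := by
  unfold bb; rw [mulVec_add, dotProduct_add]

theorem bb_neg_left (x u : Fin 24 → ℤ) : bb B (-x) u = -bb B x u := by
  unfold bb; rw [neg_dotProduct]

theorem bb_neg_right (x u : Fin 24 → ℤ) : bb B x (-u) = -bb B x u := by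
  unfold bb; rw [mulVec_neg, dotProduct_neg]

theorem bb_symm (hsymm : B.IsSymm) (x y : Fin 24 → ℤ) : bb B x y = bb B y x := by
  unfold bb
  rw [dotProduct_mulVec, ← mulVec_transpose, hsymm.eq, dotProduct_comm]

theorem q_add (hsymm : B.IsSymm) (x y : Fin 24 → ℤ) :
    bb B (x + y) (x + y) = bb B x x + bb B y y + 2 * bb B x y := by
  rw [bb_add_left, bb_add_right, bb_add_right, bb_symm B hsymm y x]; ring

theorem q_sub (hsymm : B.IsSymm) (x y : Fin 24 → ℤ) :
    bb B (x - y) (x - y) = bb B x x + bb B y y - 2 * bb B x y := by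
  rw [sub_eq_add_neg, q_add B hsymm, bb_neg_left, bb_neg_right, bb_neg_right]; ring

theorem q_neg (x : Fin 24 → ℤ) : bb B (-x) (-x) = bb B x x := by
  rw [bb_neg_left, bb_neg_right]; ring

theorem q_double (hsymm : B.IsSymm) (z : Fin 24 → ℤ) : bb B (z + z) (z + z) = 4 * bb B z z := by
  rw [q_add B hsymm]; ring

section
variable (hsymm : B.IsSymm) (hpos : ∀ x : Fin 24 → ℤ, x ≠ 0 → 0 < bb B x x)
  (heven : ∀ x : Fin 24 → ℤ, (2 : ℤ) ∣ bb B x x) (h2 : ∀ x : Fin 24 → ℤ, bb B x x ≠ 2)
include hsymm hpos heven h2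

theorem four_le (z : Fin 24 → ℤ) (hz : z ≠ 0) : 4 ≤ bb B z z := by
  have h1 := hpos z hz
  have h3 := heven z
  have h4 := h2 z
  omega

/-- Two short vectors congruent modulo 2 are equal, opposite, or both of norm 8 and orthogonal. -/
theorem key (x y : Fin 24 → ℤ) (hqx : bb B x x ≤ 8) (hqy : bb B y y ≤ 8)
    (hdiv : ∀ i, (2 : ℤ) ∣ (x - y) i) :
    y = x ∨ y = -x ∨ (bb B x x = 8 ∧ bb B y y = 8 ∧ bb B y x = 0) := by
  choose z hz using hdiv
  have hxy : x - y = z + z := by
    funext i; rw [hz i, Pi.add_apply]; ring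
  have hxy' : x + y = (z + y) + (z + y) := by
    have : x + y = (x - y) + (y + y) := by abel
    rw [this, hxy]; abel
  have e1 := q_sub B hsymm x y
  rw [hxy, q_double B hsymm] at e1
  have e2 := q_add B hsymm x y
  rw [hxy', q_double B hsymm] at e2
  by_cases hz0 : z = 0
  · left
    rw [hz0, add_zero] at hxy
    exact (sub_eq_zero.mp hxy).symm
  by_cases hz1 : z + y = 0
  · right; left
    rw [hz1, add_zero] at hxy'
    exact eq_neg_of_add_eq_zero_right hxy'
  right; right
  have f1 := four_le B hsymm hpos heven h2 z hz0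
  have f2 := four_le B hsymm hpos heven h2 (z + y) hz1
  have hs := bb_symm B hsymm y x
  refine ⟨by linarith, by linarith, by linarith⟩

theorem q_eq_of_congr (x y : Fin 24 → ℤ) (hqx : bb B x x ≤ 8) (hqy : bb B y y ≤ 8)
    (hdiv : ∀ i, (2 : ℤ) ∣ (x - y) i) : bb B y y = bb B x x := by
  rcases key B hsymm hpos heven h2 x y hqx hqy hdiv with h | h | h
  · rw [h]
  · rw [h, q_neg]
  · rw [h.1, h.2.1]

theorem q_cases (x : Fin 24 → ℤ) (hqx : bb B x x ≤ 8) :
    x = 0 ∨ bb B x x = 4 ∨ bb B x x = 6 ∨ bb B x x = 8 := by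
  by_cases hx : x = 0
  · exact Or.inl hx
  · right
    have h1 := hpos x hx
    have h3 := heven x
    have h4 := h2 x
    omega

end

/-- the class map -/
def cls (x : Fin 24 → ℤ) : Fin 24 → ZMod 2 := fun i => (x i : ZMod 2)

theorem cls_eq_iff (x y : Fin 24 → ℤ) : cls y = cls x ↔ ∀ i, (2 : ℤ) ∣ (x - y) i := by
  unfold cls
  rw [funext_iff]
  refine forall_congr' fun i => ?_
  rw [ZMod.intCast_eq_intCast_iff_dvd_sub]
  rfl

/-- weights by norm -/
def wq (n : ℤ) : ℕ :=
  (if n = 0 then 48 else 0) + (if n = 4 then 24 else 0) + (if n = 6 then 24 else 0)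
    + (if n = 8 then 1 else 0)

theorem sum_ite_const {V : Type*} (S : Finset V) (p : V → Prop) [DecidablePred p] (c : ℕ) :
    ∑ v ∈ S, (if p v then c else 0) = (S.filter p).card * c := by
  rw [← Finset.sum_filter, Finset.sum_const, smul_eq_mul]

theorem main (hsymm : B.IsSymm) (hpos : ∀ x : Fin 24 → ℤ, x ≠ 0 → 0 < bb B x x)
    (heven : ∀ x : Fin 24 → ℤ, (2 : ℤ) ∣ bb B x x) (h2 : ∀ x : Fin 24 → ℤ, bb B x x ≠ 2)
    (h4 : {x : Fin 24 → ℤ | bb B x x = 4}.ncard = 196560)
    (h6 : {x : Fin 24 → ℤ | bb B x x = 6}.ncard = 16773120)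
    (h8 : {x : Fin 24 → ℤ | bb B x x = 8}.ncard = 398034000)
    (x : Fin 24 → ℤ) (hx : bb B x x = 8) :
    {y : Fin 24 → ℤ | bb B y y = 8 ∧ ∀ i, (2 : ℤ) ∣ (x - y) i}.ncard = 48 := by
  classical
  have hb00 : bb B 0 0 = 0 := by unfold bb; simp
  have f4 : {x : Fin 24 → ℤ | bb B x x = 4}.Finite :=
    Set.finite_of_ncard_ne_zero (by rw [h4]; norm_num)
  have f6 : {x : Fin 24 → ℤ | bb B x x = 6}.Finite :=
    Set.finite_of_ncard_ne_zero (by rw [h6]; norm_num)
  have f8 : {x : Fin 24 → ℤ | bb B x x = 8}.Finite :=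
    Set.finite_of_ncard_ne_zero (by rw [h8]; norm_num)
  have fS : {x : Fin 24 → ℤ | bb B x x ≤ 8}.Finite := by
    refine Set.Finite.subset (((Set.finite_singleton (0 : Fin 24 → ℤ)).union f4).union
      (f6.union f8)) ?_
    intro y hy
    rcases q_cases B hsymm hpos heven h2 y hy with h | h | h | h
    · exact Or.inl (Or.inl h)
    · exact Or.inl (Or.inr h)
    · exact Or.inr (Or.inl h)
    · exact Or.inr (Or.inr h)
  set S : Finset (Fin 24 → ℤ) := fS.toFinset with hS
  have memS : ∀ y, y ∈ S ↔ bb B y y ≤ 8 := by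
    intro y; rw [hS, Set.Finite.mem_toFinset]; rfl
  have c0 : (S.filter (fun v => bb B v v = 0)).card = 1 := by
    rw [Finset.card_eq_one]
    refine ⟨0, ?_⟩
    ext y
    rw [Finset.mem_filter, Finset.mem_singleton, memS]
    constructor
    · rintro ⟨_, h0⟩
      by_contra hne
      have := hpos y hne
      omega
    · rintro rfl
      rw [hb00]; exact ⟨by norm_num, rfl⟩
  have cn : ∀ n : ℤ, n ≤ 8 → (S.filter (fun v => bb B v v = n)).card
      = {x : Fin 24 → ℤ | bb B x x = n}.ncard := by
    intro n hn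
    rw [← Set.ncard_coe_finset]
    congr 1
    ext y
    rw [Finset.coe_filter]
    simp only [Set.mem_ofPred_eq, memS]
    constructor
    · exact fun h => h.2
    · exact fun h => ⟨by rw [h]; exact hn, h⟩
  have hN : ∑ v ∈ S, wq (bb B v v) = 48 * 16777216 := by
    unfold wq
    rw [Finset.sum_add_distrib, Finset.sum_add_distrib, Finset.sum_add_distrib,
      sum_ite_const, sum_ite_const, sum_ite_const, sum_ite_const, c0, cn 4 (by norm_num),
      cn 6 (by norm_num), cn 8 (by norm_num), h4, h6, h8]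
  have hK : Fintype.card (Fin 24 → ZMod 2) ≤ 16777216 := by
    rw [Fintype.card_fun, ZMod.card, Fintype.card_fin]; norm_num
  have hqeq : ∀ a ∈ S, ∀ y ∈ S, cls y = cls a → bb B y y = bb B a a := by
    intro a ha y hy h
    exact q_eq_of_congr B hsymm hpos heven h2 a y ((memS a).mp ha) ((memS y).mp hy)
      ((cls_eq_iff a y).mp h)
  have hwt : ∀ a ∈ S, ∀ y ∈ S, cls y = cls a → wq (bb B y y) = wq (bb B a a) := by
    intro a ha y hy h
    rw [hqeq a ha y hy h]
  have hfib : ∀ a ∈ S, (S.filter (fun y => cls y = cls a)).card * wq (bb B a a) ≤ 48 := by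
    intro a ha
    have hqa := (memS a).mp ha
    by_cases ha8 : bb B a a = 8
    · have hw : wq (bb B a a) = 1 := by rw [ha8]; rfl
      rw [hw, mul_one]
      have := orth_card_le (bb B) (bb_add_left B) (bb_smul_left B)
        (S.filter (fun y => cls y = cls a)) ?_ ?_
      · rw [Module.finrank_fin_fun] at this
        exact this
      · intro y hy
        rw [Finset.mem_filter] at hy
        rw [hqeq a ha y hy.1 hy.2, ha8]; norm_num
      · intro y hy y' hy'
        rw [Finset.mem_filter] at hy hy'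
        rcases key B hsymm hpos heven h2 y y' ((memS y).mp hy.1) ((memS y').mp hy'.1)
          ((cls_eq_iff y y').mp (by rw [hy'.2, hy.2])) with h | h | h
        · exact Or.inl h
        · exact Or.inr (Or.inl h)
        · exact Or.inr (Or.inr h.2.2)
    · have hsub : S.filter (fun y => cls y = cls a) ⊆ {a, -a} := by
        intro y hy
        rw [Finset.mem_filter] at hy
        rw [Finset.mem_insert, Finset.mem_singleton]
        rcases key B hsymm hpos heven h2 a y hqa ((memS y).mp hy.1)
          ((cls_eq_iff a y).mp hy.2) with h | h | h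
        · exact Or.inl h
        · exact Or.inr h
        · exact absurd h.1 ha8
      have hcard := Finset.card_le_card hsub
      rcases q_cases B hsymm hpos heven h2 a hqa with h | h | h | h
      · rw [h, neg_zero] at hcard
        have : ({0, 0} : Finset (Fin 24 → ℤ)).card = 1 := by simp
        rw [h, hb00]
        have hw : wq 0 = 48 := rfl
        rw [hw]; omega
      · have := Finset.card_le_two (a := a) (b := -a)
        have hw : wq (bb B a a) = 24 := by rw [h]; rfl
        rw [hw]; omega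
      · have := Finset.card_le_two (a := a) (b := -a)
        have hw : wq (bb B a a) = 24 := by rw [h]; rfl
        rw [hw]; omega
      · exact absurd h ha8
  obtain ⟨hres, -⟩ := fiber_count S cls (fun v => wq (bb B v v)) 16777216 hK hN hwt hfib
  have hxS : x ∈ S := (memS x).mpr (by rw [hx])
  have h48 := hres x hxS
  have hw : wq (bb B x x) = 1 := by rw [hx]; rfl
  simp only [hw, mul_one] at h48
  rw [← h48, ← Set.ncard_coe_finset]
  congr 1
  ext y
  rw [Finset.coe_filter]
  simp only [Set.mem_ofPred_eq, memS]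
  constructor
  · rintro ⟨h1, h3⟩
    exact ⟨by rw [h1], (cls_eq_iff x y).mpr h3⟩
  · rintro ⟨h1, h3⟩
    have h5 := q_eq_of_congr B hsymm hpos heven h2 x y (by rw [hx]) h1 ((cls_eq_iff x y).mp h3)
    exact ⟨by rw [h5, hx], (cls_eq_iff x y).mp h3⟩

end Cfsg.Agent.Lib.Helper14.EvenLattice48
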