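import Cfsg.Agent.Lib.Helper14.LargeESA

/-!
helper14: S5429, part B: elementwise conjugation facts inside `Q` and `Q^g`.
-/

set_option autoImplicit false
open scoped commutatorElement

namespace Cfsg.Agent.Lib.Helper14.LES

open Cfsg.Agent.Lib.Helper20.ES

variable {G : Type*} [Group G]

/-- a noncentral element `u` of `Q` is `Q`-conjugate to `z u` -/
theorem amb_exists_conj_mul {Q : Subgroup G} {z : G} (h : Amb Q z) (u : G) (hu : u ∈ Q)
    (hu1 : u ≠ 1) (huz : u ≠ z) : ∃ q ∈ Q, q * u * q⁻¹ = z * u := by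
  by_contra hcon
  push Not at hcon
  have hall : ∀ q ∈ Q, q * u = u * q := by
    intro q hq
    rcases h.comm q hq u hu with h1 | h1
    · exact commutatorElement_eq_one_iff_mul_comm.mp h1
    · exfalso
      apply hcon q hq
      rw [commutatorElement_def] at h1
      calc q * u * q⁻¹ = (q * u * q⁻¹ * u⁻¹) * u := by group
        _ = z * u := by rw [h1]
  rcases h.cen u hu hall with h1 | h1
  · exact hu1 h1
  · exact huz h1

/-- separation: if `w ∉ ⟨u, z⟩` then some element of `C_Q(u)` moves `w` to `z w` -/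
theorem amb_exists_sep {Q : Subgroup G} {z : G} (h : Amb Q z) (u : G) (hu : u ∈ Q)
    (hu1 : u ≠ 1) (huz : u ≠ z) (w : G) (hw : w ∈ Q) (hw1 : w ≠ 1) (hwz : w ≠ z)
    (hwu : w ≠ u) (hwzu : w ≠ z * u) :
    ∃ c ∈ Q, c * u = u * c ∧ c * w * c⁻¹ = z * w := by
  by_contra hcon
  push Not at hcon
  have hall : ∀ c ∈ Q, c * u = u * c → c * w = w * c := by
    intro c hc hcu
    rcases h.comm c hc w hw with h1 | h1
    · exact commutatorElement_eq_one_iff_mul_comm.mp h1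
    · exfalso
      apply hcon c hc hcu
      rw [commutatorElement_def] at h1
      calc c * w * c⁻¹ = (c * w * c⁻¹ * w⁻¹) * w := by group
        _ = z * w := by rw [h1]
  rcases h.dcen u hu hu1 huz w hw hall with h1 | h1 | h1 | h1
  · exact hw1 h1
  · exact hwz h1
  · exact hwu (mul_inv_eq_one.mp h1)
  · exact hwzu (mul_inv_eq_iff_eq_mul.mp h1)

/-- the data of S5429, elementwise -/
structure Ctx (Q : Subgroup G) (z g t : G) : Prop where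
  cfg : Cfg Q z g
  tQ : t ∈ Q
  tQ' : t ∈ Q.map (MulAut.conj g).toMonoidHom
  tt : t * t = 1
  t1 : t ≠ 1
  tz : ¬ IsConj z t

namespace Ctx

variable {Q : Subgroup G} {z g t : G}

theorem t_ne_z (h : Ctx Q z g t) : t ≠ z := fun h' => h.tz (h' ▸ IsConj.refl _)

theorem zt_not_conj (h : Ctx Q z g t) : ¬ IsConj z (z * t) := by
  intro hc
  obtain ⟨q, -, hq⟩ := amb_exists_conj_mul h.cfg.amb t h.tQ h.t1 h.t_ne_z
  apply h.tz
  refine hc.trans ?_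
  rw [← hq]
  exact (isConj_iff.mpr ⟨q, rfl⟩).symm

theorem zt_comm (h : Ctx Q z g t) : z * t = t * z := (h.cfg.amb.zc t h.tQ).symm

theorem a_ne_t (h : Ctx Q z g t) : g * z * g⁻¹ ≠ t := fun h' =>
  h.tz (isConj_iff.mpr ⟨g, h'⟩)

theorem a_ne_zt (h : Ctx Q z g t) : g * z * g⁻¹ ≠ z * t := fun h' =>
  h.zt_not_conj (isConj_iff.mpr ⟨g, h'⟩)

/-- `t` commutes with `a` -/
theorem ta_comm (h : Ctx Q z g t) : t * (g * z * g⁻¹) = (g * z * g⁻¹) * t :=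
  h.cfg.Q'u t h.tQ'

/-- an element of `C_Q(t)` moving `a` to `z a` -/
theorem exists_y (h : Ctx Q z g t) :
    ∃ y ∈ Q, y * t = t * y ∧ y * (g * z * g⁻¹) * y⁻¹ = z * (g * z * g⁻¹) :=
  amb_exists_sep h.cfg.amb t h.tQ h.t1 h.t_ne_z (g * z * g⁻¹) h.cfg.uQ h.cfg.u1 h.cfg.uz
    h.a_ne_t h.a_ne_zt

/-- an element of `C_{Q^g}(t)` moving `z` to `a z` -/
theorem exists_y' (h : Ctx Q z g t) :
    ∃ y ∈ Q.map (MulAut.conj g).toMonoidHom, y * t = t * y ∧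
      y * z * y⁻¹ = (g * z * g⁻¹) * z := by
  obtain ⟨t₀, ht₀, ht₀e⟩ := (Cfg.mem_Q' t).mp h.tQ'
  obtain ⟨z₀, hz₀, hz₀e⟩ := (Cfg.mem_Q' z).mp h.cfg.zQ'
  have hconj : ∀ u v : G, g * u * g⁻¹ = g * v * g⁻¹ → u = v := by
    intro u v huv
    have := congrArg (fun x => g⁻¹ * x * g) huv
    simpa [mul_assoc] using this
  have ht₀1 : t₀ ≠ 1 := by
    intro h'
    apply h.t1
    rw [← ht₀e, h']
    group
  have ht₀z : t₀ ≠ z := by
    intro h'
    apply h.a_ne_t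
    rw [← ht₀e, h']
  have hz₀1 : z₀ ≠ 1 := by
    intro h'
    apply h.cfg.amb.z1
    rw [← hz₀e, h']
    group
  have hz₀z : z₀ ≠ z := by
    intro h'
    apply h.cfg.uz
    have := hz₀e
    rw [h'] at this
    exact this
  have hz₀t : z₀ ≠ t₀ := by
    intro h'
    apply h.t_ne_z
    rw [← ht₀e, ← hz₀e, h']
  have hz₀zt : z₀ ≠ z * t₀ := by
    intro h'
    -- z = a * t, and t ~ a t inside Q^g
    have hzat : z = (g * z * g⁻¹) * t := by
      rw [← ht₀e]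
      calc z = g * z₀ * g⁻¹ := hz₀e.symm
        _ = g * (z * t₀) * g⁻¹ := by rw [h']
        _ = g * z * g⁻¹ * (g * t₀ * g⁻¹) := by group
    obtain ⟨q, -, hq⟩ := amb_exists_conj_mul h.cfg.amb t₀ ht₀ ht₀1 ht₀z
    apply h.tz
    have : (g * q * g⁻¹) * t * (g * q * g⁻¹)⁻¹ = z := by
      rw [← ht₀e]
      calc g * q * g⁻¹ * (g * t₀ * g⁻¹) * (g * q * g⁻¹)⁻¹ = g * (q * t₀ * q⁻¹) * g⁻¹ := by group
        _ = g * (z * t₀) * g⁻¹ := by rw [hq]
        _ = g * z₀ * g⁻¹ := by rw [h']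
        _ = z := hz₀e
    exact (isConj_iff.mpr ⟨_, this⟩).symm
  obtain ⟨c, hc, hct, hcz⟩ := amb_exists_sep h.cfg.amb t₀ ht₀ ht₀1 ht₀z z₀ hz₀ hz₀1 hz₀z hz₀t hz₀zt
  refine ⟨g * c * g⁻¹, (Cfg.mem_Q' _).mpr ⟨c, hc, rfl⟩, ?_, ?_⟩
  · rw [← ht₀e]
    calc g * c * g⁻¹ * (g * t₀ * g⁻¹) = g * (c * t₀) * g⁻¹ := by group
      _ = g * (t₀ * c) * g⁻¹ := by rw [hct]
      _ = g * t₀ * g⁻¹ * (g * c * g⁻¹) := by group
  · calc g * c * g⁻¹ * z * (g * c * g⁻¹)⁻¹ = g * c * g⁻¹ * (g * z₀ * g⁻¹) * (g * c * g⁻¹)⁻¹ := by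
          rw [hz₀e]
      _ = g * (c * z₀ * c⁻¹) * g⁻¹ := by group
      _ = g * (z * z₀) * g⁻¹ := by rw [hcz]
      _ = g * z * g⁻¹ * (g * z₀ * g⁻¹) := by group
      _ = g * z * g⁻¹ * z := by rw [hz₀e]

/-- the conjugating element of S5429 -/
theorem exists_x (h : Ctx Q z g t) :
    ∃ y ∈ Q, ∃ y' ∈ Q.map (MulAut.conj g).toMonoidHom, y * t = t * y ∧ y' * t = t * y' ∧
      (y' * y) * (g * z * g⁻¹) * (y' * y)⁻¹ = z ∧
      y * (g * z * g⁻¹) * y⁻¹ = z * (g * z * g⁻¹) := by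
  obtain ⟨y, hy, hyt, hya⟩ := h.exists_y
  obtain ⟨y', hy', hy't, hy'z⟩ := h.exists_y'
  refine ⟨y, hy, y', hy', hyt, hy't, ?_, hya⟩
  have hy'a : y' * (g * z * g⁻¹) * y'⁻¹ = g * z * g⁻¹ := by
    rw [h.cfg.Q'u y' hy']
    group
  calc (y' * y) * (g * z * g⁻¹) * (y' * y)⁻¹
      = y' * (y * (g * z * g⁻¹) * y⁻¹) * y'⁻¹ := by group
    _ = y' * (z * (g * z * g⁻¹)) * y'⁻¹ := by rw [hya]
    _ = (y' * z * y'⁻¹) * (y' * (g * z * g⁻¹) * y'⁻¹) := by group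
    _ = (g * z * g⁻¹ * z) * (g * z * g⁻¹) := by rw [hy'z, hy'a]
    _ = z * ((g * z * g⁻¹) * (g * z * g⁻¹)) := by
        rw [← h.cfg.zu]
        group
    _ = z := by rw [h.cfg.uu, mul_one]

end Ctx

end Cfsg.Agent.Lib.Helper14.LES
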