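import Mathlib
import Cfsg.Prelude.Def_Transfer
import Cfsg.Agent.Lib.Helper20.ESLargeConj
import Cfsg.Agent.Lib.Helper20.ESAmbient
import Cfsg.Agent.Lib.Helper16.AGLT
import Cfsg.Agent.Lib.Helper14.LargeESB

/-!
helper14: groups `G` with an involution `z` such that `E = O_2(C_G(z))` is extraspecial and
`C_G(E) ≤ E` (S3299, S3300, S3301).  Part A: the hypothesis package `Hyp z E`, its invariance under
conjugation, the ambient extraspecial facts, and `C_G(C_E(u)) = ⟨u, z⟩`.
-/

set_option autoImplicit false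
open scoped commutatorElement

namespace Cfsg.Agent.Lib.Helper14.EO2

open Cfsg.Agent.Lib.Helper20.ES Cfsg.Agent.Lib.Helper14.LES

variable {G : Type*} [Group G] [Finite G]

/-- `E` is an extraspecial 2-subgroup, normal in `C_G(z)`, with `C_G(E) ≤ E`, `z` an involution
centralizing `E`. -/
structure Hyp (z : G) (E : Subgroup G) : Prop where
  z1 : z ≠ 1
  zz : z * z = 1
  es : Cfsg.IsExtraspecial 2 ↥E
  le : ∀ e ∈ E, e * z = z * e
  nor : ∀ h : G, h * z = z * h → ∀ e ∈ E, h * e * h⁻¹ ∈ E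
  cen : ∀ x : G, (∀ e ∈ E, x * e = e * x) → x ∈ E

namespace Hyp

variable {z : G} {E : Subgroup G}

theorem zE (S : Hyp z E) : z ∈ E := S.cen z (fun e he => (S.le e he).symm)

theorem zinv (S : Hyp z E) : z⁻¹ = z := inv_eq_of_mul_eq_one_right S.zz

/-- the ambient extraspecial package, with `z` as the central involution -/
theorem exists_data (S : Hyp z E) :
    ∃ z₀ : ↥E, (z₀ : G) = z ∧ ESData 2 ↥E z₀ ∧ Amb E z := by
  obtain ⟨z', hz', hA⟩ := exists_amb E S.es
  have h1 : z = 1 ∨ z = (z' : G) := hA.cen z S.zE (fun q hq => S.le q hq)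
  have h2 : (z' : G) = z := (h1.resolve_left S.z1).symm
  refine ⟨z', h2, hz', ?_⟩
  rw [← h2]; exact hA

theorem amb (S : Hyp z E) : Amb E z := by
  obtain ⟨_, _, _, h⟩ := S.exists_data
  exact h

/-- `C_G(E) = ⟨z⟩` -/
theorem cent_eq (S : Hyp z E) (x : G) (hx : ∀ e ∈ E, x * e = e * x) : x = 1 ∨ x = z :=
  S.amb.cen x (S.cen x hx) (fun q hq => (hx q hq).symm)

/-- conjugation invariance of the hypothesis package -/
theorem conj (S : Hyp z E) (g : G) :
    Hyp (g * z * g⁻¹) (E.map (MulAut.conj g).toMonoidHom) := by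
  have hmem : ∀ x : G, x ∈ E.map (MulAut.conj g).toMonoidHom ↔ g⁻¹ * x * g ∈ E := by
    intro x
    constructor
    · rintro ⟨e, he, rfl⟩
      have : g⁻¹ * ((MulAut.conj g).toMonoidHom e) * g = e := by
        show g⁻¹ * (g * e * g⁻¹) * g = e
        group
      rw [this]; exact he
    · intro h
      refine ⟨g⁻¹ * x * g, h, ?_⟩
      show g * (g⁻¹ * x * g) * g⁻¹ = x
      group
  refine ⟨?_, ?_, ?_, ?_, ?_, ?_⟩
  · intro h
    exact S.z1 (conj_eq_one_iff.mp h)
  · calc g * z * g⁻¹ * (g * z * g⁻¹) = g * (z * z) * g⁻¹ := by group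
      _ = 1 := by rw [S.zz]; group
  · have e : ↥E ≃* ↥(E.map (MulAut.conj g).toMonoidHom) :=
      E.equivMapOfInjective _ (MulAut.conj g).injective
    exact Cfsg.Agent.Lib.Helper16.AGL.isExtraspecial_of_mulEquiv e S.es
  · intro e he
    have h1 := S.le _ ((hmem e).mp he)
    calc e * (g * z * g⁻¹) = g * ((g⁻¹ * e * g) * z) * g⁻¹ := by group
      _ = g * (z * (g⁻¹ * e * g)) * g⁻¹ := by rw [h1]
      _ = g * z * g⁻¹ * e := by group
  · intro h hh e he
    rw [hmem]
    have h1 : (g⁻¹ * h * g) * z = z * (g⁻¹ * h * g) := by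
      calc (g⁻¹ * h * g) * z = g⁻¹ * (h * (g * z * g⁻¹)) * g := by group
        _ = g⁻¹ * ((g * z * g⁻¹) * h) * g := by rw [hh]
        _ = z * (g⁻¹ * h * g) := by group
    have h2 := S.nor _ h1 _ ((hmem e).mp he)
    have h3 : g⁻¹ * (h * e * h⁻¹) * g = (g⁻¹ * h * g) * (g⁻¹ * e * g) * (g⁻¹ * h * g)⁻¹ := by group
    rw [h3]; exact h2
  · intro x hx
    rw [hmem]
    apply S.cen
    intro e he
    have h1 : g * e * g⁻¹ ∈ E.map (MulAut.conj g).toMonoidHom := ⟨e, he, rfl⟩
    have h2 := hx _ h1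
    calc g⁻¹ * x * g * e = g⁻¹ * (x * (g * e * g⁻¹)) * g := by group
      _ = g⁻¹ * ((g * e * g⁻¹) * x) * g := by rw [h2]
      _ = e * (g⁻¹ * x * g) := by group

/-- an element centralizing `C_E(u)`, `u` a noncentral involution of `E`, lies in `⟨u, z⟩` -/
theorem cent_cent (S : Hyp z E) (u : G) (hu : u ∈ E) (huu : u * u = 1) (hu1 : u ≠ 1) (huz : u ≠ z)
    (x : G) (hx : ∀ q ∈ E, q * u = u * q → x * q = q * x) :
    x = 1 ∨ x = z ∨ x = u ∨ x = u * z := by
  obtain ⟨z₀, hz₀, hES, hA⟩ := S.exists_data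
  have hxz : x * z = z * x := hx z S.zE (S.le u hu).symm
  have hxN : x ∈ Subgroup.normalizer (E : Set G) := by
    apply Subgroup.mem_normalizer_fintype
    intro e he
    exact S.nor x hxz e he
  have hL2 : ∀ y : G, (∀ q ∈ E, y * q = q * y) → y ∈ Subgroup.zpowers (z₀ : G) := by
    intro y hy
    rw [hz₀, hA.mem_zpowers]
    exact S.cent_eq y hy
  have huz' : (⟨u, hu⟩ : ↥E) ∉ Subgroup.zpowers z₀ := by
    intro h
    obtain ⟨k, hk⟩ := Subgroup.mem_zpowers_iff.mp h
    have h1 : u ∈ Subgroup.zpowers z := by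
      rw [← hz₀]
      refine Subgroup.mem_zpowers_iff.mpr ⟨k, ?_⟩
      have := congrArg Subtype.val hk
      simpa using this
    rcases (hA.mem_zpowers u).mp h1 with h2 | h2
    · exact hu1 h2
    · exact huz h2
  have key := mem_of_centralizes_cent E z₀ hES hL2 u hu huz' huu x hxN hx
  rw [hz₀, hA.mem_zpowers, hA.mem_zpowers] at key
  have huinv : u⁻¹ = u := inv_eq_of_mul_eq_one_right huu
  rcases key with (h | h) | (h | h)
  · left; exact h
  · right; left; exact h
  · right; right; left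
    rw [huinv] at h
    calc x = u * (u * x) := by rw [← mul_assoc, huu, one_mul]
      _ = u := by rw [h, mul_one]
  · right; right; right
    rw [huinv] at h
    calc x = u * (u * x) := by rw [← mul_assoc, huu, one_mul]
      _ = u * z := by rw [h]

/-- the centre of a 2-subgroup `P` with `E ≤ P ≤ C_G(z)` is `⟨z⟩` -/
theorem center_of_overgroup (S : Hyp z E) (P : Subgroup G) (hEP : E ≤ P) (x : G)
    (hx : ∀ p ∈ P, x * p = p * x) : x = 1 ∨ x = z :=
  S.cent_eq x (fun e he => hx e (hEP he))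

end Hyp

end Cfsg.Agent.Lib.Helper14.EO2
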