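import Cfsg.Agent.Lib.Helper14.ExtraO2A

/-!
helper14: `E = O_2(C_G(z))` extraspecial with `C_G(E) ≤ E`.  Part B: Sylow 2-subgroups, the
normalizer step, and the `S₃`-argument: a noncentral involution `u` of `E` that is `G`-conjugate
to `z` lies in `[C_G(z), C_G(z)]` (when `|E| > 8`).
-/

set_option autoImplicit false
open scoped commutatorElement

namespace Cfsg.Agent.Lib.Helper14.EO2

open Cfsg.Agent.Lib.Helper20.ES Cfsg.Agent.Lib.Helper14.LES

variable {G : Type*} [Group G] [Finite G]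

namespace Hyp

variable {z : G} {E : Subgroup G}

theorem isPGroup (S : Hyp z E) : IsPGroup 2 ↥E := S.amb.pgroup

/-- a Sylow 2-subgroup of `G` inside `C_G(z)` containing `E` and a given 2-subgroup of `C_G(z)` -/
theorem exists_sylow (S : Hyp z E) (R₀ : Subgroup G) (hR₀ : IsPGroup 2 R₀)
    (hle : ∀ r ∈ R₀, r * z = z * r) :
    ∃ T : Sylow 2 G, R₀ ≤ T ∧ E ≤ T ∧ ∀ t ∈ T, t * z = z * t := by
  haveI : Fact (Nat.Prime 2) := ⟨Nat.prime_two⟩
  have hnorm : R₀ ≤ Subgroup.normalizer (E : Set G) := by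
    intro r hr
    apply Subgroup.mem_normalizer_fintype
    intro e he
    exact S.nor r (hle r hr) e he
  have hP : IsPGroup 2 ↥(R₀ ⊔ E) := IsPGroup.to_sup_of_normal_right' hR₀ S.isPGroup hnorm
  obtain ⟨T, hT⟩ := hP.exists_le_sylow
  have hR₀T : R₀ ≤ T := le_trans le_sup_left hT
  have hET : E ≤ T := le_trans le_sup_right hT
  refine ⟨T, hR₀T, hET, ?_⟩
  haveI : Nontrivial ↥(T : Subgroup G) :=
    ⟨⟨⟨z, hET S.zE⟩, 1, fun h => S.z1 (congrArg Subtype.val h)⟩⟩
  haveI := T.isPGroup'.center_nontrivial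
  obtain ⟨c, hc⟩ := exists_ne (1 : Subgroup.center ↥(T : Subgroup G))
  have hcc : ∀ t ∈ T, ((c : ↥(T : Subgroup G)) : G) * t = t * ((c : ↥(T : Subgroup G)) : G) := by
    intro t ht
    have := Subgroup.mem_center_iff.mp c.2 ⟨t, ht⟩
    exact (congrArg Subtype.val this).symm
  have h1 := S.center_of_overgroup (T : Subgroup G) hET _ hcc
  have hcz : ((c : ↥(T : Subgroup G)) : G) = z := by
    rcases h1 with h | h
    · exfalso; apply hc
      apply Subtype.ext; apply Subtype.ext
      exact h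
    · exact h
  intro t ht
  rw [← hcz]
  exact (hcc t ht).symm

/-- the normalizer step: a maximal 2-subgroup `R` of `C_G(z) ∩ C_G(w)` containing `w ∉ ⟨z⟩` is
normalized by an element of `C_G(z)` not centralizing `w` -/
theorem exists_normalizing (S : Hyp z E) (w : G) (R : Subgroup G) (hR2 : IsPGroup 2 R)
    (hRz : ∀ r ∈ R, r * z = z * r) (hRw : ∀ r ∈ R, r * w = w * r)
    (hmax : ∀ R' : Subgroup G, IsPGroup 2 R' → R ≤ R' → (∀ r ∈ R', r * z = z * r) →
      (∀ r ∈ R', r * w = w * r) → R' = R)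
    (hw : w ∈ R) (hw1 : w ≠ 1) (hwz : w ≠ z) :
    ∃ y : G, y * z = z * y ∧ y ∈ Subgroup.normalizer (R : Set G) ∧ ¬ (y * w = w * y) := by
  haveI : Fact (Nat.Prime 2) := ⟨Nat.prime_two⟩
  obtain ⟨T, hRT, hET, hTz⟩ := S.exists_sylow R hR2 hRz
  have hR' : (T : Subgroup G) ⊓ Subgroup.centralizer ({w} : Set G) = R := by
    apply hmax
    · exact T.isPGroup'.to_le inf_le_left
    · intro r hr
      exact Subgroup.mem_inf.mpr ⟨hRT hr, (mem_cent_iff w r).mpr (hRw r hr)⟩
    · intro r hr
      exact hTz r (Subgroup.mem_inf.mp hr).1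
    · intro r hr
      exact (mem_cent_iff w r).mp (Subgroup.mem_inf.mp hr).2
  have hne : R ≠ (T : Subgroup G) := by
    intro h
    have h1 : ∀ t ∈ (T : Subgroup G), w * t = t * w := by
      intro t ht
      rw [← h] at ht
      exact (hRw t ht).symm
    rcases S.center_of_overgroup (T : Subgroup G) hET w h1 with h2 | h2
    · exact hw1 h2
    · exact hwz h2
  obtain ⟨y, hyT, hyN, hyR⟩ := exists_normalizing_of_ne (T : Subgroup G) R T.isPGroup' hRT hne
  refine ⟨y, hTz y hyT, hyN, ?_⟩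
  intro hyw
  apply hyR
  rw [← hR']
  exact Subgroup.mem_inf.mpr ⟨hyT, (mem_cent_iff w y).mpr hyw⟩

/-- when `|E| > 8`, the centralizer in `E` of a noncentral involution is nonabelian -/
theorem exists_comm_in_cent (S : Hyp z E) (hbig : 8 < Nat.card ↥E) (u : G) (hu : u ∈ E)
    (huu : u * u = 1) (hu1 : u ≠ 1) (huz : u ≠ z) :
    ∃ a ∈ E, ∃ b ∈ E, a * u = u * a ∧ b * u = u * b ∧ ⁅a, b⁆ = z := by
  have hA := S.amb
  by_contra hcon
  push Not at hcon
  have hab : ∀ c ∈ E, c * u = u * c → ∀ w ∈ E, w * u = u * w → c * w = w * c := by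
    intro c hc hcu w hw hwu
    rcases hA.comm c hc w hw with h | h
    · exact commutatorElement_eq_one_iff_mul_comm.mp h
    · exact absurd h (hcon c hc w hw hcu hwu)
  have huinv : u⁻¹ = u := inv_eq_of_mul_eq_one_right huu
  have hcent : ∀ w ∈ E, w * u = u * w → w = 1 ∨ w = z ∨ w = u ∨ w = z * u := by
    intro w hw hwu
    rcases hA.dcen u hu hu1 huz w hw (fun c hc hcu => hab c hc hcu w hw hwu) with h | h | h | h
    · left; exact h
    · right; left; exact h
    · right; right; left; exact mul_inv_eq_one.mp h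
    · right; right; right; exact mul_inv_eq_iff_eq_mul.mp h
  obtain ⟨s, hs, hsu⟩ := amb_exists_conj_mul hA u hu hu1 huz
  have hdec : ∀ e ∈ E, e * u = u * e ∨ (s⁻¹ * e) * u = u * (s⁻¹ * e) := by
    intro e he
    rcases hA.comm e he u hu with h | h
    · left; exact commutatorElement_eq_one_iff_mul_comm.mp h
    · right
      have h1 : e * u * e⁻¹ = z * u := by
        rw [commutatorElement_def] at h
        calc e * u * e⁻¹ = (e * u * e⁻¹ * u⁻¹) * u := by group
          _ = z * u := by rw [h]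
      have h2 : s⁻¹ * (z * u) * s = u := by
        rw [← hsu]; group
      have h3 : (s⁻¹ * e) * u * (s⁻¹ * e)⁻¹ = u := by
        calc (s⁻¹ * e) * u * (s⁻¹ * e)⁻¹ = s⁻¹ * (e * u * e⁻¹) * s := by group
          _ = u := by rw [h1, h2]
      exact mul_inv_eq_iff_eq_mul.mp h3
  let f : Bool × Bool × Bool → ↥E := fun t =>
    (if t.1 then ⟨s, hs⟩ else 1) * (if t.2.1 then ⟨u, hu⟩ else 1) * (if t.2.2 then ⟨z, S.zE⟩ else 1)
  have hf : Function.Surjective f := by
    rintro ⟨e, he⟩
    have hcase : ∀ w ∈ E, w * u = u * w → ∃ b c : Bool,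
        w = (if b then u else 1) * (if c then z else 1) := by
      intro w hw hwu
      rcases hcent w hw hwu with h | h | h | h
      · exact ⟨false, false, by simp [h]⟩
      · exact ⟨false, true, by simp [h]⟩
      · exact ⟨true, false, by simp [h]⟩
      · refine ⟨true, true, ?_⟩
        simp only [if_true]
        rw [h]; exact (S.le u hu).symm
    rcases hdec e he with h | h
    · obtain ⟨b, c, hbc⟩ := hcase e he h
      refine ⟨(false, b, c), ?_⟩
      apply Subtype.ext
      show ((if false = true then (⟨s, hs⟩ : ↥E) else 1) * (if b then ⟨u, hu⟩ else 1) *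
        (if c then ⟨z, S.zE⟩ else 1) : ↥E).1 = e
      rw [hbc]
      cases b <;> cases c <;> simp
    · obtain ⟨b, c, hbc⟩ := hcase (s⁻¹ * e) (E.mul_mem (E.inv_mem hs) he) h
      refine ⟨(true, b, c), ?_⟩
      apply Subtype.ext
      show ((if true = true then (⟨s, hs⟩ : ↥E) else 1) * (if b then ⟨u, hu⟩ else 1) *
        (if c then ⟨z, S.zE⟩ else 1) : ↥E).1 = e
      have he' : e = s * (s⁻¹ * e) := by group
      rw [he', hbc]
      cases b <;> cases c <;> simp [mul_assoc]
  have hcard := Nat.card_le_card_of_surjective f hf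
  have h8 : Nat.card (Bool × Bool × Bool) = 8 := by
    rw [Nat.card_eq_fintype_card]; rfl
  omega

end Hyp

end Cfsg.Agent.Lib.Helper14.EO2
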