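import Cfsg.Agent.Lib.Helper14.ExtraO2B

/-!
helper14: `E = O_2(C_G(z))` extraspecial with `C_G(E) ≤ E`.  Part C: the `S₃`-argument.
A noncentral involution `u` of `E` that is `G`-conjugate to `z` is a product of two commutators of
elements of `C_G(z)` (when `|E| > 8`).
-/

set_option autoImplicit false
open scoped commutatorElement

namespace Cfsg.Agent.Lib.Helper14.EO2

open Cfsg.Agent.Lib.Helper20.ES Cfsg.Agent.Lib.Helper14.LES

variable {G : Type*} [Group G] [Finite G]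

namespace Hyp

variable {z : G} {E : Subgroup G}

/-- conjugating an element of `R` by the inverse of a normalizing element -/
theorem conj_inv_mem_of_normalizer {R : Subgroup G} {y q : G}
    (hy : y ∈ Subgroup.normalizer (R : Set G)) (hq : q ∈ R) : y⁻¹ * q * y ∈ R := by
  have h1 := (Subgroup.mem_normalizer_iff.mp (Subgroup.inv_mem _ hy) q).mp hq
  rwa [inv_inv] at h1

/-- if `y` normalizes `R ⊇ C_E(u)`, `R` centralizes `w`, then `y w y⁻¹ ∈ ⟨u, z⟩` -/
theorem conj_mem_four (S : Hyp z E) (u : G) (hu : u ∈ E) (huu : u * u = 1) (hu1 : u ≠ 1)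
    (huz : u ≠ z) (R : Subgroup G) (hXR : ∀ q ∈ E, q * u = u * q → q ∈ R) (w : G)
    (hRw : ∀ r ∈ R, r * w = w * r) (y : G) (hy : y ∈ Subgroup.normalizer (R : Set G)) :
    y * w * y⁻¹ = 1 ∨ y * w * y⁻¹ = z ∨ y * w * y⁻¹ = u ∨ y * w * y⁻¹ = u * z := by
  apply S.cent_cent u hu huu hu1 huz
  intro q hq hqu
  have h1 : y⁻¹ * q * y ∈ R := conj_inv_mem_of_normalizer hy (hXR q hq hqu)
  have h2 := hRw _ h1
  calc y * w * y⁻¹ * q = y * (w * (y⁻¹ * q * y)) * y⁻¹ := by group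
    _ = y * ((y⁻¹ * q * y) * w) * y⁻¹ := by rw [h2]
    _ = q * (y * w * y⁻¹) := by group

/-- **the `S₃`-argument.** -/
theorem mem_comm_of_conj (S : Hyp z E) (hbig : 8 < Nat.card ↥E) (u : G) (hu : u ∈ E)
    (huu : u * u = 1) (hu1 : u ≠ 1) (huz : u ≠ z) (k₀ : G) (hk₀ : k₀ * z * k₀⁻¹ = u) :
    ∃ a b a' b' : G, a * z = z * a ∧ b * z = z * b ∧ a' * z = z * a' ∧ b' * z = z * b' ∧
      u = ⁅a', b'⁆ * ⁅a, b⁆ := by
  haveI : Fact (Nat.Prime 2) := ⟨Nat.prime_two⟩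
  have huzc : u * z = z * u := S.le u hu
  set C : Subgroup G := Subgroup.centralizer ({z} : Set G) ⊓ Subgroup.centralizer ({u} : Set G)
    with hC
  have hCmem : ∀ x : G, x ∈ C ↔ x * z = z * x ∧ x * u = u * x := by
    intro x
    rw [hC, Subgroup.mem_inf, mem_cent_iff, mem_cent_iff]
  set X : Subgroup G := E ⊓ Subgroup.centralizer ({u} : Set G) with hX
  have hXmem : ∀ x : G, x ∈ X ↔ x ∈ E ∧ x * u = u * x := by
    intro x
    rw [hX, Subgroup.mem_inf, mem_cent_iff]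
  have hX2 : IsPGroup 2 ↥X := S.isPGroup.to_le inf_le_left
  have hXC : X ≤ C := by
    intro x hx
    obtain ⟨h1, h2⟩ := (hXmem x).mp hx
    exact (hCmem x).mpr ⟨S.le x h1, h2⟩
  obtain ⟨R, hXR, hRC, hR2, hmaxR⟩ := exists_max_pgroup_in 2 C X hX2 hXC
  have hRz : ∀ r ∈ R, r * z = z * r := fun r hr => ((hCmem r).mp (hRC hr)).1
  have hRu : ∀ r ∈ R, r * u = u * r := fun r hr => ((hCmem r).mp (hRC hr)).2
  have hXR' : ∀ q ∈ E, q * u = u * q → q ∈ R := fun q hq hqu => hXR ((hXmem q).mpr ⟨hq, hqu⟩)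
  have huR : u ∈ R := hXR' u hu rfl
  have hzR : z ∈ R := hXR' z S.zE huzc.symm
  have hmax1 : ∀ R' : Subgroup G, IsPGroup 2 R' → R ≤ R' → (∀ r ∈ R', r * z = z * r) →
      (∀ r ∈ R', r * u = u * r) → R' = R := by
    intro R' h1 h2 h3 h4
    exact hmaxR R' h1 h2 (fun r hr => (hCmem r).mpr ⟨h3 r hr, h4 r hr⟩)
  have hmax2 : ∀ R' : Subgroup G, IsPGroup 2 R' → R ≤ R' → (∀ r ∈ R', r * u = u * r) →
      (∀ r ∈ R', r * z = z * r) → R' = R := fun R' h1 h2 h3 h4 => hmax1 R' h1 h2 h4 h3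
  -- the element `y'` of `C(z)` moving `u`
  obtain ⟨y', hy'z, hy'N, hy'u⟩ := S.exists_normalizing u R hR2 hRz hRu hmax1 huR hu1 huz
  -- the element `y` of `C(u)` moving `z`
  have S' : Hyp u (E.map (MulAut.conj k₀).toMonoidHom) := by
    have := S.conj k₀
    rwa [hk₀] at this
  obtain ⟨y, hyu, hyN, hyz⟩ := S'.exists_normalizing z R hR2 hRu hRz hmax2 hzR S.z1
    (fun h => huz h.symm)
  -- `y' u y'⁻¹ = u z`
  have h1 : y' * u * y'⁻¹ = u * z := by
    rcases S.conj_mem_four u hu huu hu1 huz R hXR' u hRu y' hy'N with h | h | h | h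
    · exact absurd (conj_eq_one_iff.mp h) hu1
    · exfalso
      apply huz
      have : u = y'⁻¹ * z * y' := by rw [← h]; group
      rw [this]
      calc y'⁻¹ * z * y' = y'⁻¹ * (z * y') := by group
        _ = y'⁻¹ * (y' * z) := by rw [hy'z]
        _ = z := by group
    · exact absurd (mul_inv_eq_iff_eq_mul.mp h) hy'u
    · exact h
  -- `y z y⁻¹ = u z`
  have h2 : y * z * y⁻¹ = u * z := by
    rcases S.conj_mem_four u hu huu hu1 huz R hXR' z hRz y hyN with h | h | h | h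
    · exact absurd (conj_eq_one_iff.mp h) S.z1
    · exact absurd (mul_inv_eq_iff_eq_mul.mp h) hyz
    · exfalso
      apply huz
      have : z = y⁻¹ * u * y := by rw [← h]; group
      rw [this]
      calc u = y⁻¹ * (y * u) := by group
        _ = y⁻¹ * (u * y) := by rw [hyu]
        _ = y⁻¹ * u * y := by group
    · exact h
  have hy'z' : y' * z * y'⁻¹ = z := by rw [hy'z]; group
  have hyu' : y * u * y⁻¹ = u := by rw [hyu]; group
  -- the element `k = y' y` with `k⁻¹ z k = u z`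
  have h3 : (y' * y) * (u * z) * (y' * y)⁻¹ = z := by
    calc (y' * y) * (u * z) * (y' * y)⁻¹
        = y' * ((y * u * y⁻¹) * (y * z * y⁻¹)) * y'⁻¹ := by group
      _ = y' * (u * (u * z)) * y'⁻¹ := by rw [hyu', h2]
      _ = y' * z * y'⁻¹ := by rw [← mul_assoc u u z, huu, one_mul]
      _ = z := hy'z'
  have h4 : (y' * y) * z * (y' * y)⁻¹ = u := by
    calc (y' * y) * z * (y' * y)⁻¹ = y' * (y * z * y⁻¹) * y'⁻¹ := by group
      _ = y' * (u * z) * y'⁻¹ := by rw [h2]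
      _ = (y' * u * y'⁻¹) * (y' * z * y'⁻¹) := by group
      _ = u * z * z := by rw [h1, hy'z']
      _ = u := by rw [mul_assoc, S.zz, mul_one]
  set k := y' * y with hk
  have h5 : k⁻¹ * z * k = u * z := by
    calc k⁻¹ * z * k = k⁻¹ * (k * (u * z) * k⁻¹) * k := by rw [h3]
      _ = u * z := by group
  obtain ⟨a, ha, b, hb, hau, hbu, hab⟩ := S.exists_comm_in_cent hbig u hu huu hu1 huz
  have hconj : ∀ c : G, c * u = u * c → (k⁻¹ * c * k) * z = z * (k⁻¹ * c * k) := by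
    intro c hc
    rw [← h4] at hc
    calc (k⁻¹ * c * k) * z = k⁻¹ * (c * (k * z * k⁻¹)) * k := by group
      _ = k⁻¹ * ((k * z * k⁻¹) * c) * k := by rw [hc]
      _ = z * (k⁻¹ * c * k) := by group
  refine ⟨a, b, k⁻¹ * a * k, k⁻¹ * b * k, S.le a ha, S.le b hb, hconj a hau, hconj b hbu, ?_⟩
  have h6 : ⁅k⁻¹ * a * k, k⁻¹ * b * k⁆ = k⁻¹ * ⁅a, b⁆ * k := by
    simp only [commutatorElement_def]; group
  rw [h6, hab, h5, mul_assoc, S.zz, mul_one]

end Hyp

end Cfsg.Agent.Lib.Helper14.EO2
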