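import Cfsg.Agent.Lib.Helper14.ExtraO2C
import Cfsg.Agent.Lib.Helper11.Extremal

/-!
helper14: `E = O_2(C_G(z))` extraspecial with `C_G(E) ≤ E`.  Part D: an index-two subgroup of an
extraspecial 2-group of order `> 8` misses an involution; the Thompson transfer step.
-/

set_option autoImplicit false
open scoped commutatorElement

namespace Cfsg.Agent.Lib.Helper14.EO2

open Cfsg.Agent.Lib.Helper20.ES Cfsg.Agent.Lib.Helper14.LES

section abstract

variable {Q : Type*} [Group Q] [Finite Q] {z : Q}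

/-- `(x y)² = x² y² [y, x]` in an extraspecial group -/
theorem es_mul_sq (h : ESData 2 Q z) (x y : Q) :
    (x * y) ^ 2 = x ^ 2 * (y ^ 2 * ⁅y, x⁆) := by
  have hcen := Subgroup.mem_center_iff.mp (h.comm_central y x)
  have h1 : y * x = ⁅y, x⁆ * (x * y) := by rw [commutatorElement_def]; group
  calc (x * y) ^ 2 = x * (y * x) * y := by rw [pow_two]; group
    _ = x * (⁅y, x⁆ * (x * y)) * y := by rw [h1]
    _ = x * (⁅y, x⁆ * x) * (y * y) := by group
    _ = x * (x * ⁅y, x⁆) * (y * y) := by rw [hcen x]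
    _ = x * x * (⁅y, x⁆ * (y * y)) := by group
    _ = x * x * (y * y * ⁅y, x⁆) := by rw [hcen (y * y)]
    _ = x ^ 2 * (y ^ 2 * ⁅y, x⁆) := by rw [pow_two, pow_two]

/-- a subgroup of index two of an extraspecial 2-group of order `> 8` misses an involution -/
theorem es_exists_invol_not_mem (h : ESData 2 Q z) (hbig : 8 < Nat.card Q) (M : Subgroup Q)
    (hidx : ∀ x y : Q, x ∉ M → y ∉ M → x⁻¹ * y ∈ M) (x : Q) (hx : x ∉ M) :
    ∃ u : Q, u * u = 1 ∧ u ∉ M := by
  by_contra hno
  push Not at hno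
  have hsq : ∀ w : Q, w ∉ M → w ^ 2 = z := by
    intro w hw
    rcases h.sq_eq w with h1 | h1
    · exact absurd (hno w (by rw [← pow_two]; exact h1)) hw
    · exact h1
  have hzsq : ∀ c : Q, c = 1 ∨ c = z → c * c = 1 := by
    rintro c (rfl | rfl)
    · simp
    · rw [← pow_two]; exact h.z_pow
  have key1 : ∀ x' : Q, x' ∉ M → ∀ y ∈ M, y ^ 2 = ⁅y, x'⁆ := by
    intro x' hx' y hy
    have hxy : x' * y ∉ M := by
      intro hc
      apply hx'
      have : x' = (x' * y) * y⁻¹ := by group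
      rw [this]; exact M.mul_mem hc (M.inv_mem hy)
    have h1 := es_mul_sq h x' y
    rw [hsq _ hxy, hsq _ hx'] at h1
    have h2 : y ^ 2 * ⁅y, x'⁆ = 1 := by
      have := mul_eq_left.mp h1.symm
      exact this
    have h3 := hzsq _ (h.comm_eq y x')
    calc y ^ 2 = y ^ 2 * (⁅y, x'⁆ * ⁅y, x'⁆) := by rw [h3, mul_one]
      _ = (y ^ 2 * ⁅y, x'⁆) * ⁅y, x'⁆ := by group
      _ = ⁅y, x'⁆ := by rw [h2, one_mul]
  have key2 : ∀ y ∈ M, ∀ y₁ ∈ M, ⁅y, y₁⁆ = 1 := by
    intro y hy y₁ hy₁
    have hxy : x * y₁ ∉ M := by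
      intro hc
      apply hx
      have : x = (x * y₁) * y₁⁻¹ := by group
      rw [this]; exact M.mul_mem hc (M.inv_mem hy₁)
    have h1 := key1 x hx y hy
    have h2 := key1 (x * y₁) hxy y hy
    rw [h.comm_mul_right, ← h1] at h2
    exact (mul_eq_left.mp h2.symm)
  have key3 : ∀ y ∈ M, ⁅y, x⁆ = 1 → y = 1 ∨ y = z := by
    intro y hy hyx
    apply h.mem_zpowers_two
    apply h.center_le
    rw [Subgroup.mem_center_iff]
    intro e
    have hcomm : ⁅y, e⁆ = 1 := by
      by_cases he : e ∈ M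
      · exact key2 y hy e he
      · have h1 : x⁻¹ * e ∈ M := hidx x e hx he
        have h2 : e = x * (x⁻¹ * e) := by group
        rw [h2, h.comm_mul_right, hyx, key2 y hy _ h1, mul_one]
    exact (commutatorElement_eq_one_iff_mul_comm.mp hcomm).symm
  -- a fixed element of `M` not commuting with `x`, if there is one
  obtain ⟨y₀, hy₀M, hy₀⟩ : ∃ y₀ ∈ M, ∀ y ∈ M, ⁅y, x⁆ = z → ⁅y₀, x⁆ = z := by
    by_cases hex : ∃ y ∈ M, ⁅y, x⁆ = z
    · obtain ⟨y, hy, hyx⟩ := hex
      exact ⟨y, hy, fun _ _ _ => hyx⟩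
    · push Not at hex
      exact ⟨1, M.one_mem, fun y hy hyx => absurd hyx (hex y hy)⟩
  have hM : ∀ e ∈ M, ∃ b c : Bool, e = (if b then y₀ else 1) * (if c then z else 1) := by
    intro e he
    rcases h.comm_eq e x with h1 | h1
    · rcases key3 e he h1 with h2 | h2
      · exact ⟨false, false, by simp [h2]⟩
      · exact ⟨false, true, by simp [h2]⟩
    · have h2 := hy₀ e he h1
      have h3 : ⁅y₀⁻¹ * e, x⁆ = 1 := by
        rw [h.comm_mul_left, h.comm_inv_left, h2, h1, inv_mul_cancel]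
      have h4 : e = y₀ * (y₀⁻¹ * e) := by group
      rcases key3 _ (M.mul_mem (M.inv_mem hy₀M) he) h3 with h5 | h5
      · exact ⟨true, false, by rw [h4, h5]; simp⟩
      · exact ⟨true, true, by rw [h4, h5]; simp⟩
  let f : Bool × Bool × Bool → Q := fun t =>
    (if t.1 then x else 1) * ((if t.2.1 then y₀ else 1) * (if t.2.2 then z else 1))
  have hf : Function.Surjective f := by
    intro e
    by_cases he : e ∈ M
    · obtain ⟨b, c, hbc⟩ := hM e he
      refine ⟨(false, b, c), ?_⟩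
      show (if false = true then x else 1) * ((if b then y₀ else 1) * (if c then z else 1)) = e
      rw [← hbc]; simp
    · obtain ⟨b, c, hbc⟩ := hM _ (hidx x e hx he)
      refine ⟨(true, b, c), ?_⟩
      show (if true = true then x else 1) * ((if b then y₀ else 1) * (if c then z else 1)) = e
      rw [← hbc]; simp
  have hcard := Nat.card_le_card_of_surjective f hf
  have h8 : Nat.card (Bool × Bool × Bool) = 8 := by
    rw [Nat.card_eq_fintype_card]; rfl
  omega

end abstract

variable {G : Type*} [Group G] [Finite G]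

namespace Hyp

variable {z : G} {E : Subgroup G}

/-- a subgroup meeting `E` in a subgroup of index two misses an involution of `E` -/
theorem exists_invol_not_mem (S : Hyp z E) (hbig : 8 < Nat.card ↥E) (K : Subgroup G)
    (hidx : ∀ x ∈ E, ∀ y ∈ E, x ∉ K → y ∉ K → x⁻¹ * y ∈ K)
    (x : G) (hx : x ∈ E) (hxK : x ∉ K) : ∃ u ∈ E, u * u = 1 ∧ u ∉ K := by
  obtain ⟨z₀, hz₀, hES, hA⟩ := S.exists_data
  obtain ⟨u, huu, hu⟩ := es_exists_invol_not_mem hES hbig (K.subgroupOf E)
    (fun a b ha hb => by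
      rw [Subgroup.mem_subgroupOf] at ha hb ⊢
      exact hidx a a.2 b b.2 ha hb) ⟨x, hx⟩ (by rw [Subgroup.mem_subgroupOf]; exact hxK)
  refine ⟨u, u.2, ?_, ?_⟩
  · have := congrArg Subtype.val huu
    simpa using this
  · rw [Subgroup.mem_subgroupOf] at hu
    exact hu

end Hyp

end Cfsg.Agent.Lib.Helper14.EO2
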