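import Cfsg.Agent.Lib.Helper14.ExtraO2D

/-!
helper14: `E = O_2(C_G(z))` extraspecial with `C_G(E) ≤ E`, `O^2(G) = G`.  Part E: the Thompson
transfer step, and the main consequence: every homomorphism from `C_G(z)` to a cyclic group kills
the involutions of `E` (when `|E| > 8`).
-/

set_option autoImplicit false
open scoped commutatorElement

namespace Cfsg.Agent.Lib.Helper14.EO2

open Cfsg.Agent.Lib.Helper20.ES Cfsg.Agent.Lib.Helper14.LES Cfsg.Agent.Lib.Helper11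

variable {G : Type*} [Group G] [Finite G]

/-- `C_G(z)` -/
abbrev Hz (z : G) : Subgroup G := Subgroup.centralizer ({z} : Set G)

theorem isCyclic_quot_of_eq {T : Type*} [Group T] (N M : Subgroup T) [hN : N.Normal] [hM : M.Normal]
    (h : N = M) (hc : IsCyclic (T ⧸ M)) : IsCyclic (T ⧸ N) := by
  subst h
  exact hc

namespace Hyp

variable {z : G} {E : Subgroup G}

/-- **Thompson transfer step.** -/
theorem conj_of_not_mem (S : Hyp z E) (hres : Cfsg.pResidual 2 G = ⊤)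
    (T : Sylow 2 G) (hET : E ≤ T) (hTz : ∀ t ∈ T, t * z = z * t)
    (T₁ : Subgroup G) (hT₁ : T₁ ≤ T) [hn : (T₁.subgroupOf (T : Subgroup G)).Normal]
    (hcyc : IsCyclic (↥(T : Subgroup G) ⧸ T₁.subgroupOf (T : Subgroup G)))
    (hzT₁ : z ∈ T₁)
    (hclosed : ∀ h : G, h * z = z * h → ∀ x ∈ T₁, h * x * h⁻¹ ∈ T → h * x * h⁻¹ ∈ T₁)
    (u : G) (hu : u ∈ E) (huu : u * u = 1) (huT₁ : u ∉ T₁) :
    ∃ g : G, g * z * g⁻¹ = u ∨ g * z * g⁻¹ = u * z := by
  have hu1 : u ≠ 1 := fun h => huT₁ (h ▸ T₁.one_mem)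
  have huz : u ≠ z := fun h => huT₁ (h ▸ hzT₁)
  have hord : orderOf u = 2 := orderOf_eq_prime (by rw [pow_two]; exact huu) hu1
  obtain ⟨g, hg1, -, hg3⟩ := exists_extremal_conj T T₁ hT₁ hcyc hres u hord (hET hu) huT₁
  have hw : ∀ q ∈ E, q * u = u * q → (g⁻¹ * z * g) * q = q * (g⁻¹ * z * g) := by
    intro q hq hqu
    have h1 : q ∈ (T : Subgroup G) ⊓ Subgroup.centralizer ({u} : Set G) :=
      Subgroup.mem_inf.mpr ⟨hET hq, (mem_cent_iff u q).mpr hqu⟩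
    have h2 : g * q * g⁻¹ ∈ (T : Subgroup G) ⊓ Subgroup.centralizer ({g * u * g⁻¹} : Set G) :=
      hg3 ⟨q, h1, rfl⟩
    have h3 := hTz _ (Subgroup.mem_inf.mp h2).1
    calc (g⁻¹ * z * g) * q = g⁻¹ * (z * (g * q * g⁻¹)) * g := by group
      _ = g⁻¹ * ((g * q * g⁻¹) * z) * g := by rw [h3]
      _ = q * (g⁻¹ * z * g) := by group
  rcases S.cent_cent u hu huu hu1 huz _ hw with h | h | h | h
  · exfalso
    apply S.z1
    have : z = g * (g⁻¹ * z * g) * g⁻¹ := by group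
    rw [this, h]; group
  · exfalso
    apply huT₁
    have hgz : g⁻¹ * z = z * g⁻¹ := by
      calc g⁻¹ * z = (g⁻¹ * z * g) * g⁻¹ := by group
        _ = z * g⁻¹ := by rw [h]
    have h1 := hclosed g⁻¹ hgz _ hg1
    have h2 : g⁻¹ * (g * u * g⁻¹) * g⁻¹⁻¹ = u := by group
    rw [h2] at h1
    exact h1 (hET hu)
  · exact ⟨g⁻¹, Or.inl (by rw [inv_inv]; exact h)⟩
  · exact ⟨g⁻¹, Or.inr (by rw [inv_inv]; exact h)⟩

/-- **Main consequence.** If `O^2(G) = G` and `|E| > 8`, then every homomorphism from `C_G(z)` to a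
cyclic group is trivial on the involutions of `E`. -/
theorem invol_map_eq_one (S : Hyp z E) (hbig : 8 < Nat.card ↥E) (hres : Cfsg.pResidual 2 G = ⊤)
    {A : Type*} [Group A] [IsCyclic A] (ψ : ↥(Subgroup.centralizer ({z} : Set G)) →* A)
    (u : G) (hu : u ∈ E) (huu : u * u = 1) :
    ψ ⟨u, (mem_cent_iff z u).mpr (S.le u hu)⟩ = 1 := by
  haveI : Fact (Nat.Prime 2) := ⟨Nat.prime_two⟩
  by_contra hψ
  have hHmem : ∀ x : G, x ∈ (Hz z) ↔ x * z = z * x := fun x => mem_cent_iff z x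
  have hcommA : ∀ p q : A, p * q = q * p := by
    intro p q
    letI : CommGroup A := IsCyclic.commGroup
    exact mul_comm p q
  -- `ψ` kills commutators
  have hψcomm : ∀ (a b : G) (ha : a * z = z * a) (hb : b * z = z * b)
      (hab : ⁅a, b⁆ ∈ (Hz z)), ψ ⟨⁅a, b⁆, hab⟩ = 1 := by
    intro a b ha hb hab
    have h1 : (⟨⁅a, b⁆, hab⟩ : ↥(Hz z)) = ⁅(⟨a, (hHmem a).mpr ha⟩ : ↥(Hz z)), ⟨b, (hHmem b).mpr hb⟩⁆ := by
      apply Subtype.ext
      simp [commutatorElement_def]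
    rw [h1, map_commutatorElement]
    exact commutatorElement_eq_one_iff_mul_comm.mpr (hcommA _ _)
  have hψmul : ∀ (a b : G) (ha : a ∈ (Hz z)) (hb : b ∈ (Hz z)) (hab : a * b ∈ (Hz z)),
      ψ ⟨a * b, hab⟩ = ψ ⟨a, ha⟩ * ψ ⟨b, hb⟩ := by
    intro a b ha hb hab
    rw [← map_mul]; rfl
  have hψcongr : ∀ (a b : G) (ha : a ∈ (Hz z)) (hb : b ∈ (Hz z)), a = b → ψ ⟨a, ha⟩ = ψ ⟨b, hb⟩ := by
    intro a b ha hb hab
    subst hab; rfl
  have hA := S.amb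
  -- `ψ z = 1`
  obtain ⟨x₀, y₀, hxy₀⟩ := exists_comm_ne_one S.es
  have hzcomm : ⁅(x₀ : G), (y₀ : G)⁆ = z := by
    rcases hA.comm x₀ x₀.2 y₀ y₀.2 with h | h
    · exfalso; apply hxy₀
      apply Subtype.ext
      simpa [commutatorElement_def] using h
    · exact h
  have hzH : z ∈ (Hz z) := (hHmem z).mpr rfl
  have hψz : ψ ⟨z, hzH⟩ = 1 := by
    have h1 := hψcomm x₀ y₀ (S.le _ x₀.2) (S.le _ y₀.2) (hzcomm ▸ hzH)
    rw [← h1]
    exact hψcongr _ _ _ _ hzcomm.symm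
  have huH : u ∈ (Hz z) := (hHmem u).mpr (S.le u hu)
  have hu1 : u ≠ 1 := by
    intro h
    apply hψ
    have : (⟨u, (mem_cent_iff z u).mpr (S.le u hu)⟩ : ↥(Hz z)) = 1 := Subtype.ext h
    rw [this, map_one]
  have huz : u ≠ z := by
    intro h
    apply hψ
    rw [← hψz]
    exact hψcongr _ _ _ _ h
  -- the Sylow subgroup and its subgroup `T₁ = T ∩ ker ψ`
  obtain ⟨T, -, hET, hTz⟩ := S.exists_sylow ⊥ IsPGroup.of_bot (fun r hr => by
    rw [Subgroup.mem_bot] at hr; subst hr; simp)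
  have hTH : (T : Subgroup G) ≤ (Hz z) := fun t ht => (hHmem t).mpr (hTz t ht)
  let φ : ↥(T : Subgroup G) →* A := ψ.comp (Subgroup.inclusion hTH)
  set T₁ : Subgroup G := (φ.ker).map (T : Subgroup G).subtype with hT₁def
  have hT₁T : T₁ ≤ (T : Subgroup G) := Subgroup.map_subtype_le _
  have hT₁mem : ∀ x : G, x ∈ T₁ ↔ ∃ hx : x ∈ (T : Subgroup G), ψ ⟨x, hTH hx⟩ = 1 := by
    intro x
    constructor
    · rintro ⟨t, ht, rfl⟩
      exact ⟨t.2, ht⟩
    · rintro ⟨hx, h⟩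
      exact ⟨⟨x, hx⟩, h, rfl⟩
  have hker : T₁.subgroupOf (T : Subgroup G) = φ.ker := by
    rw [hT₁def, Subgroup.subgroupOf,
      Subgroup.comap_map_eq_self_of_injective (Subgroup.subtype_injective _)]
  haveI hn : (T₁.subgroupOf (T : Subgroup G)).Normal := by rw [hker]; infer_instance
  have hcyc : IsCyclic (↥(T : Subgroup G) ⧸ T₁.subgroupOf (T : Subgroup G)) := by
    apply isCyclic_quot_of_eq _ _ hker
    have e := QuotientGroup.quotientKerEquivRange φ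
    exact isCyclic_of_surjective e.symm.toMonoidHom e.symm.surjective
  have hzT₁ : z ∈ T₁ := (hT₁mem z).mpr ⟨hET S.zE, hψz⟩
  have hclosed : ∀ h : G, h * z = z * h → ∀ x ∈ T₁, h * x * h⁻¹ ∈ (T : Subgroup G) →
      h * x * h⁻¹ ∈ T₁ := by
    intro h hh x hx hxT
    obtain ⟨hxT', hx1⟩ := (hT₁mem x).mp hx
    refine (hT₁mem _).mpr ⟨hxT, ?_⟩
    have hhH : h ∈ (Hz z) := (hHmem h).mpr hh
    have h1 : (⟨h * x * h⁻¹, hTH hxT⟩ : ↥(Hz z)) = ⟨h, hhH⟩ * ⟨x, hTH hxT'⟩ * ⟨h, hhH⟩⁻¹ :=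
      Subtype.ext rfl
    rw [h1, map_mul, map_mul, hx1, mul_one, map_inv, mul_inv_cancel]
  have huT₁ : u ∉ T₁ := by
    intro h
    obtain ⟨_, h1⟩ := (hT₁mem u).mp h
    exact hψ h1
  obtain ⟨g, hg⟩ := S.conj_of_not_mem hres T hET hTz T₁ hT₁T hcyc hzT₁ hclosed u hu huu huT₁
  -- both cases contradict the `S₃`-argument
  have hfin : ∀ v : G, v ∈ E → v * v = 1 → v ≠ 1 → v ≠ z → (∃ k : G, k * z * k⁻¹ = v) →
      ∀ hv : v ∈ (Hz z), ψ ⟨v, hv⟩ = 1 := by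
    intro v hv hvv hv1 hvz ⟨k, hk⟩ hvH
    obtain ⟨a, b, a', b', ha, hb, ha', hb', hv5⟩ := S.mem_comm_of_conj hbig v hv hvv hv1 hvz k hk
    have haH : a ∈ (Hz z) := (hHmem a).mpr ha
    have hbH : b ∈ (Hz z) := (hHmem b).mpr hb
    have ha'H : a' ∈ (Hz z) := (hHmem a').mpr ha'
    have hb'H : b' ∈ (Hz z) := (hHmem b').mpr hb'
    have hc1 : ⁅a, b⁆ ∈ (Hz z) := by
      rw [commutatorElement_def]
      exact (Hz z).mul_mem ((Hz z).mul_mem ((Hz z).mul_mem haH hbH) ((Hz z).inv_mem haH)) ((Hz z).inv_mem hbH)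
    have hc2 : ⁅a', b'⁆ ∈ (Hz z) := by
      rw [commutatorElement_def]
      exact (Hz z).mul_mem ((Hz z).mul_mem ((Hz z).mul_mem ha'H hb'H) ((Hz z).inv_mem ha'H)) ((Hz z).inv_mem hb'H)
    have h1 : ψ ⟨v, hvH⟩ = ψ ⟨⁅a', b'⁆ * ⁅a, b⁆, (Hz z).mul_mem hc2 hc1⟩ := hψcongr _ _ _ _ hv5
    rw [h1, hψmul _ _ hc2 hc1, hψcomm a' b' ha' hb' hc2, hψcomm a b ha hb hc1, mul_one]
  rcases hg with hg | hg
  · exact hψ (hfin u hu huu hu1 huz ⟨g, hg⟩ _)
  · have huzc : u * z = z * u := S.le u hu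
    have h1 : (u * z) * (u * z) = 1 := by
      calc (u * z) * (u * z) = u * (z * u) * z := by group
        _ = u * (u * z) * z := by rw [huzc]
        _ = (u * u) * (z * z) := by group
        _ = 1 := by rw [huu, S.zz, one_mul]
    have h2 : u * z ≠ 1 := by
      intro h
      apply huz
      calc u = u * z * z := by rw [mul_assoc, S.zz, mul_one]
        _ = z := by rw [h, one_mul]
    have h3 : u * z ≠ z := by
      intro h
      exact hu1 (mul_eq_right.mp h)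
    have huzH : u * z ∈ (Hz z) := (Hz z).mul_mem huH hzH
    have h4 := hfin (u * z) (E.mul_mem hu S.zE) h1 h2 h3 ⟨g, hg⟩ huzH
    rw [hψmul u z huH hzH huzH, hψz, mul_one] at h4
    exact hψ h4

end Hyp

end Cfsg.Agent.Lib.Helper14.EO2
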