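import Cfsg.Agent.Lib.Helper14.ExtraO2E

/-!
helper14: `E = O_2(C_G(z))` extraspecial with `C_G(E) ≤ E`, `O^2(G) = G`.  Part F: the hypothesis
package from the hypotheses of S3299--S3301, and S3299: `E` lies in every normal subgroup of index
two of `C_G(z)`.
-/

set_option autoImplicit false
open scoped commutatorElement

namespace Cfsg.Agent.Lib.Helper14.EO2

open Cfsg.Agent.Lib.Helper20.ES Cfsg.Agent.Lib.Helper14.LES Cfsg.Agent.Lib.Helper11

variable {G : Type*} [Group G] [Finite G]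

/-- the hypothesis package from the raw hypotheses -/
theorem hyp_of (z : G) (hz : orderOf z = 2) (E : Subgroup G)
    (hE : E = (Cfsg.pCore 2 ↥(Subgroup.centralizer ({z} : Set G))).map
      (Subgroup.centralizer ({z} : Set G)).subtype)
    (hext : Cfsg.IsExtraspecial 2 ↥E) (hcent : Subgroup.centralizer (E : Set G) ≤ E) :
    Hyp z E := by
  have hle : E ≤ Subgroup.centralizer ({z} : Set G) := by
    rw [hE]; exact Subgroup.map_subtype_le _
  refine ⟨?_, ?_, hext, ?_, ?_, ?_⟩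
  · intro h
    rw [h, orderOf_one] at hz
    omega
  · have := pow_orderOf_eq_one z
    rwa [hz, pow_two] at this
  · intro e he
    exact (mem_cent_iff z e).mp (hle he)
  · intro h hh e he
    have hhH : h ∈ Subgroup.centralizer ({z} : Set G) := (mem_cent_iff z h).mpr hh
    rw [hE] at he ⊢
    obtain ⟨e', he', rfl⟩ := he
    have hnorm : (Cfsg.pCore 2 ↥(Subgroup.centralizer ({z} : Set G))).Normal :=
      Subgroup.sSup_normal _ (fun _ h => h.1)
    exact ⟨⟨h, hhH⟩ * e' * ⟨h, hhH⟩⁻¹, hnorm.conj_mem e' he' ⟨h, hhH⟩, rfl⟩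
  · intro x hx
    apply hcent
    rw [Subgroup.mem_centralizer_iff]
    intro e he
    exact (hx e he).symm

/-- **S3299.** -/
theorem le_of_index_two (hres : Cfsg.pResidual 2 G = ⊤) (z : G) (E : Subgroup G) (S : Hyp z E)
    (hbig : 8 < Nat.card ↥E)
    (K : Subgroup G) (hKH : K ≤ Subgroup.centralizer ({z} : Set G))
    (hKn : ∀ h ∈ Subgroup.centralizer ({z} : Set G), K.map (MulAut.conj h).toMonoidHom = K)
    (hKi : K.relIndex (Subgroup.centralizer ({z} : Set G)) = 2) : E ≤ K := by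
  by_contra hEK
  obtain ⟨x, hxE, hxK⟩ := SetLike.not_le_iff_exists.mp hEK
  have hEH : ∀ e ∈ E, e ∈ Hz z := fun e he => (mem_cent_iff z e).mpr (S.le e he)
  -- `K` as a normal subgroup of index two of `C_G(z)`
  haveI hN : (K.subgroupOf (Hz z)).Normal := by
    constructor
    intro n hn g
    rw [Subgroup.mem_subgroupOf] at hn ⊢
    have h1 : (g : G) * (n : G) * (g : G)⁻¹ ∈ K.map (MulAut.conj (g : G)).toMonoidHom :=
      ⟨n, hn, rfl⟩
    rw [hKn g g.2] at h1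
    exact h1
  have hidx : (K.subgroupOf (Hz z)).index = 2 := hKi
  have hcard : Nat.card (↥(Hz z) ⧸ K.subgroupOf (Hz z)) = 2 := by
    rw [← Subgroup.index_eq_card, hidx]
  haveI : Fact (Nat.Prime 2) := ⟨Nat.prime_two⟩
  haveI hcyc : IsCyclic (↥(Hz z) ⧸ K.subgroupOf (Hz z)) := isCyclic_of_prime_card hcard
  let ψ : ↥(Hz z) →* (↥(Hz z) ⧸ K.subgroupOf (Hz z)) := QuotientGroup.mk' _
  have hψ : ∀ (a : G) (ha : a ∈ Hz z), ψ ⟨a, ha⟩ = 1 ↔ a ∈ K := by
    intro a ha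
    show QuotientGroup.mk' (K.subgroupOf (Hz z)) ⟨a, ha⟩ = 1 ↔ _
    rw [QuotientGroup.mk'_apply, QuotientGroup.eq_one_iff, Subgroup.mem_subgroupOf]
  -- two elements of `C_G(z)` outside `K` have quotient in `K`
  have hidx2 : ∀ a ∈ E, ∀ b ∈ E, a ∉ K → b ∉ K → a⁻¹ * b ∈ K := by
    intro a ha b hb haK hbK
    have h1 := (Subgroup.index_eq_two_iff.mp hidx)
    obtain ⟨c, hc⟩ := h1
    have hca := hc ⟨a, hEH a ha⟩
    have hcb := hc ⟨b, hEH b hb⟩
    have hca' : (⟨a, hEH a ha⟩ : ↥(Hz z)) * c ∈ K.subgroupOf (Hz z) := by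
      rcases hca with ⟨h, _⟩ | ⟨h, _⟩
      · exact h
      · exact absurd (Subgroup.mem_subgroupOf.mp h) haK
    have hcb' : (⟨b, hEH b hb⟩ : ↥(Hz z)) * c ∈ K.subgroupOf (Hz z) := by
      rcases hcb with ⟨h, _⟩ | ⟨h, _⟩
      · exact h
      · exact absurd (Subgroup.mem_subgroupOf.mp h) hbK
    have h2 := (K.subgroupOf (Hz z)).mul_mem ((K.subgroupOf (Hz z)).inv_mem hca') hcb'
    have h3 : ((⟨a, hEH a ha⟩ : ↥(Hz z)) * c)⁻¹ * ((⟨b, hEH b hb⟩ : ↥(Hz z)) * c) =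
        c⁻¹ * (⟨a⁻¹ * b, (Hz z).mul_mem ((Hz z).inv_mem (hEH a ha)) (hEH b hb)⟩ : ↥(Hz z)) * c := by
      apply Subtype.ext
      simp only [Subgroup.coe_mul, Subgroup.coe_inv]
      group
    rw [h3] at h2
    have h4 := hN.conj_mem _ h2 c
    have h5 : c * (c⁻¹ * (⟨a⁻¹ * b, (Hz z).mul_mem ((Hz z).inv_mem (hEH a ha)) (hEH b hb)⟩ :
        ↥(Hz z)) * c) * c⁻¹ = ⟨a⁻¹ * b, (Hz z).mul_mem ((Hz z).inv_mem (hEH a ha)) (hEH b hb)⟩ := by
      group
    rw [h5, Subgroup.mem_subgroupOf] at h4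
    exact h4
  obtain ⟨u, huE, huu, huK⟩ := S.exists_invol_not_mem hbig K hidx2 x hxE hxK
  have h1 := S.invol_map_eq_one hbig hres ψ u huE huu
  exact huK ((hψ u _).mp h1)

end Cfsg.Agent.Lib.Helper14.EO2
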