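/-
helper14: S3390 F2 market, leaf F2-CENT (`exists_centralizer_four`): if `T = P_α` has order 2 then
its involution has centralizer of order 4 in the 2-group `P` (fixity ≤ 2).
-/
import Mathlib
import Cfsg.Agent.Lib.Helper26.F2Defs

set_option autoImplicit false

namespace Cfsg.Agent.Lib.Helper14.F2CENT

open Cfsg.Agent.Lib.Helper26.F2 MulAction Subgroup

variable {G : Type*} [Group G] [Finite G] {Ω : Type*} [Finite Ω] [MulAction G Ω]

/-- **F2-CENT** (Step 2) if `|T| = 2` then the involution of `T` has centralizer of order 4 in `P`. -/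
theorem exists_centralizer_four (hfix3 : Fix3 G Ω) (P : Subgroup G) (hP : IsPGroup 2 P) (α : Ω)
    (hnot : ¬ P ≤ stabilizer G α) (h2 : Nat.card ↥(P ⊓ stabilizer G α) = 2) :
    ∃ t : ↥P, orderOf t = 2 ∧ Nat.card ↥(Subgroup.centralizer ({t} : Set ↥P)) = 4 := by
  classical
  have hprime : Fact (Nat.Prime 2) := ⟨Nat.prime_two⟩
  -- the involution of `T`
  obtain ⟨t', ht', huniq⟩ := (Nat.card_eq_two_iff' (1 : ↥(P ⊓ stabilizer G α))).1 h2
  have ht'ord : orderOf t' = 2 := by
    have hdvd : orderOf t' ∣ 2 := by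
      rw [← h2]; exact orderOf_dvd_natCard t'
    rcases (Nat.dvd_prime Nat.prime_two).1 hdvd with h | h
    · exact absurd (orderOf_eq_one_iff.1 h) ht'
    · exact h
  have ht'P : (t' : G) ∈ P := t'.2.1
  have ht'α : (t' : G) • α = α := t'.2.2
  have ht'1 : (t' : G) ≠ 1 := fun h => ht' (Subtype.ext h)
  have hTelts : ∀ x : G, x ∈ P → x • α = α → x = 1 ∨ x = (t' : G) := by
    intro x hxP hxα
    by_cases hx1 : x = 1
    · exact Or.inl hx1
    · right
      have : (⟨x, hxP, hxα⟩ : ↥(P ⊓ stabilizer G α)) = t' :=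
        huniq _ (fun h => hx1 (congrArg Subtype.val h))
      exact congrArg Subtype.val this
  refine ⟨⟨(t' : G), ht'P⟩, ?_, ?_⟩
  · rw [Subgroup.orderOf_mk, Subgroup.orderOf_coe]; exact ht'ord
  set t : ↥P := ⟨(t' : G), ht'P⟩ with ht
  set C : Subgroup ↥P := Subgroup.centralizer ({t} : Set ↥P) with hC
  have ht1 : t ≠ 1 := fun h => ht'1 (congrArg Subtype.val h)
  -- the fixed points of `t`
  have hF : {ω : Ω | (t' : G) • ω = ω}.ncard ≤ 2 := by
    by_contra hcon
    push Not at hcon
    obtain ⟨a, ha, b, hb, c, hc, hab, hac, hbc⟩ := (Set.two_lt_ncard (Set.toFinite _)).1 hcon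
    exact hfix3 (t' : G) ht'1 a b c hab hac hbc ha hb hc
  -- upper bound
  have horb : (MulAction.orbit ↥C α).ncard ≤ 2 := by
    refine le_trans (Set.ncard_le_ncard ?_ (Set.toFinite _)) hF
    rintro ω ⟨c, rfl⟩
    have hc : (c : ↥P) * t = t * (c : ↥P) := Subgroup.mem_centralizer_singleton_iff.1 c.2
    have hc' : ((c : ↥P) : G) * (t' : G) = (t' : G) * ((c : ↥P) : G) := congrArg Subtype.val hc
    show (t' : G) • (((c : ↥P) : G) • α) = ((c : ↥P) : G) • α
    rw [← mul_smul, ← hc', mul_smul, ht'α]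
  have hstab : Nat.card ↥(MulAction.stabilizer ↥C α) ≤ 2 := by
    rw [← h2]
    let f : ↥(MulAction.stabilizer ↥C α) → ↥(P ⊓ stabilizer G α) :=
      fun x => ⟨(((x : ↥C) : ↥P) : G), ((x : ↥C) : ↥P).2, x.2⟩
    apply Nat.card_le_card_of_injective f
    intro x y hxy
    have h3 : ((f x : ↥(P ⊓ stabilizer G α)) : G) = ((f y : ↥(P ⊓ stabilizer G α)) : G) :=
      congrArg Subtype.val hxy
    exact Subtype.ext (Subtype.ext (Subtype.ext h3))
  have hupper : Nat.card ↥C ≤ 4 := by
    have h1 := Subgroup.card_mul_index (MulAction.stabilizer ↥C α)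
    rw [MulAction.index_stabilizer] at h1
    calc Nat.card ↥C = Nat.card ↥(MulAction.stabilizer ↥C α) * (MulAction.orbit ↥C α).ncard := h1.symm
      _ ≤ 2 * 2 := Nat.mul_le_mul hstab horb
  -- lower bound: normalizers grow
  have hnil : Group.IsNilpotent ↥P := hP.isNilpotent
  set T' : Subgroup ↥P := (P ⊓ stabilizer G α).subgroupOf P with hT'
  have hT'top : T' < ⊤ := by
    rw [lt_top_iff_ne_top]
    intro h
    apply hnot
    intro x hx
    have : (⟨x, hx⟩ : ↥P) ∈ T' := by rw [h]; exact Subgroup.mem_top _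
    exact (Subgroup.mem_subgroupOf.1 this).2
  have hgrow := Group.normalizerCondition_of_isNilpotent (G := ↥P) T' hT'top
  have htT' : t ∈ T' := Subgroup.mem_subgroupOf.2 t'.2
  have hNC : Subgroup.normalizer (T' : Set ↥P) ≤ C := by
    intro n hn
    rw [hC, Subgroup.mem_centralizer_singleton_iff]
    have h1 : n * t * n⁻¹ ∈ T' := (Subgroup.mem_normalizer_iff.1 hn t).1 htT'
    have h1' := Subgroup.mem_subgroupOf.1 h1
    rcases hTelts _ h1'.1 h1'.2 with h | h
    · exfalso
      have : n * t * n⁻¹ = 1 := Subtype.ext h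
      apply ht1
      have h3 : t = n⁻¹ * (n * t * n⁻¹) * n := by group
      rw [h3, this]; group
    · have : n * t * n⁻¹ = t := Subtype.ext h
      calc n * t = n * t * n⁻¹ * n := by group
        _ = t * n := by rw [this]
  have hT'C : T' < C := lt_of_lt_of_le hgrow hNC
  have hT'card : Nat.card ↥T' = 2 := by
    rw [← h2]
    exact Nat.card_congr (Subgroup.subgroupOfEquivOfLe (inf_le_left : P ⊓ stabilizer G α ≤ P)).toEquiv
  have hlower : 2 < Nat.card ↥C := by
    by_contra hcon
    push Not at hcon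
    have := Subgroup.eq_of_le_of_card_ge hT'C.le (by rw [hT'card]; exact hcon)
    exact hT'C.ne this
  obtain ⟨k, hk⟩ := (hP.to_subgroup C).exists_card_eq
  have hk2 : 2 ≤ k := by
    by_contra hcon
    push Not at hcon
    interval_cases k <;> omega
  have h4 : 4 ∣ Nat.card ↥C := by
    rw [hk]
    exact pow_dvd_pow 2 hk2
  have hpos : 0 < Nat.card ↥C := Nat.card_pos
  obtain ⟨j, hj⟩ := h4
  have : j = 1 := by
    rcases Nat.lt_or_ge j 2 with h | h
    · interval_cases j <;> omega
    · rw [hj] at hupper; omega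
  rw [hj, this]

end Cfsg.Agent.Lib.Helper14.F2CENT
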