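/-
helper14: S3390 F2 market, leaf F2-ORB (`orbit_structure`): one orbit of length 2, all others regular.
-/
import Mathlib
import Cfsg.Agent.Lib.Helper26.F2Defs

set_option autoImplicit false

namespace Cfsg.Agent.Lib.Helper14.F2ORB

open Cfsg.Agent.Lib.Helper26.F2 MulAction Subgroup

variable {G : Type*} [Group G] [Finite G] {Ω : Type*} [Finite Ω] [MulAction G Ω]

omit [Finite G] [Finite Ω] in
theorem stabilizer_subgroup_eq (P : Subgroup G) (ω : Ω) :
    stabilizer ↥P ω = (stabilizer G ω).subgroupOf P := by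
  ext x
  simp only [mem_stabilizer_iff, Subgroup.mem_subgroupOf]
  rfl

omit [Finite G] [Finite Ω] in
theorem card_orbit_eq_relIndex (P : Subgroup G) (ω : Ω) :
    Nat.card (MulAction.orbit ↥P ω) = (P ⊓ stabilizer G ω).relIndex P := by
  rw [Subgroup.inf_relIndex_left, Subgroup.relIndex, ← stabilizer_subgroup_eq,
    MulAction.index_stabilizer]
  rfl

/-- **F2-ORB** the orbit structure. -/
theorem orbit_structure (P : Subgroup G) (α β : Ω)
    (hidx : (P ⊓ stabilizer G α).relIndex P = 2) (hβorb : ∃ y ∈ P, y • α = β)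
    (hreg : ∀ ω : Ω, ω ≠ α → ω ≠ β → P ⊓ stabilizer G ω = ⊥) :
    ∃ ω : Ω, Nat.card (MulAction.orbit ↥P ω) = 2 ∧
      ∀ ω' : Ω, ω' ∉ MulAction.orbit ↥P ω → Nat.card (MulAction.orbit ↥P ω') = Nat.card ↥P := by
  refine ⟨α, ?_, ?_⟩
  · rw [card_orbit_eq_relIndex, hidx]
  · intro ω' hω'
    have h1 : ω' ≠ α := by
      rintro rfl
      exact hω' (MulAction.mem_orbit_self _)
    have h2 : ω' ≠ β := by
      rintro rfl
      obtain ⟨y, hy, hyα⟩ := hβorb
      exact hω' ⟨⟨y, hy⟩, hyα⟩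
    rw [card_orbit_eq_relIndex, hreg ω' h1 h2, Subgroup.relIndex_bot_left]

end Cfsg.Agent.Lib.Helper14.F2ORB
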