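/-
helper14: S4642 leaf (COEF) `blockCoeff_irrOver`: the idempotent of `Irr(G | θ)`, `θ` a `G`-invariant irreducible
character of the normal subgroup `K`, is the extension by zero of the idempotent of `θ`.

Proof: `conjUnion K {θ} = {θ}`; by helper23 `omegaFun_extN_conjUnion` the central character of `χ` takes on
`extN K (blockCoeff {θ})` the value `[ψ = θ]` for ANY constituent `ψ` of `χ|_K` (so all constituents of `χ|_K`
are `θ` as soon as one is), which is `[χ ∈ Irr(G | θ)]`, the value on `blockCoeff (irrOver K θ)`.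
-/
import Mathlib
import Cfsg.Prelude.Def_BrauerPairs
import Cfsg.Agent.Lib.Helper2.FongPTDefs
import Cfsg.Agent.Lib.Helper6.Fong

set_option autoImplicit false

namespace Cfsg.Agent.Lib.Helper14.FPTCOEF

open Cfsg Cfsg.Agent.CharLib Cfsg.Agent.Lib.Helper24 Cfsg.Agent.Lib.Helper23
  Cfsg.Agent.Lib.Helper6 Cfsg.Agent.Lib.Helper2.FongPT
open scoped ComplexConjugate

universe u

variable {G : Type u} [Group G] [Fintype G]

theorem conjFun_eq_of_inv (K : Subgroup G) [hKn : K.Normal] (θ : K → ℂ)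
    (hθ : ∀ g : G, IsConjCharOf K g θ θ) (g : G) : conjFun K g θ = θ := by
  funext h
  rw [conjFun_apply]
  exact hθ g h ⟨g * h * g⁻¹, hKn.conj_mem h h.2 g⟩ rfl

theorem conjUnion_singleton (K : Subgroup G) [hKn : K.Normal] (θ : IrrCharacter K)
    (hθ : ∀ g : G, IsConjCharOf K g (θ : K → ℂ) (θ : K → ℂ)) :
    conjUnion K ({θ} : Set (IrrCharacter K)) = {θ} := by
  apply Set.Subset.antisymm
  · rintro ψ ⟨g, θ', hθ', hψ⟩
    rw [Set.mem_singleton_iff] at hθ'
    subst hθ'
    rw [Set.mem_singleton_iff]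
    apply Subtype.ext
    rw [hψ, conjFun_eq_of_inv K _ hθ g]
  · exact subset_conjUnion K _

/-- the extension by zero of the idempotent of `θ` is the idempotent of `Irr(G | θ)` -/
theorem extN_blockCoeff_singleton (K : Subgroup G) [hKn : K.Normal] [Fintype K] (θ : IrrCharacter K)
    (hθ : ∀ g : G, IsConjCharOf K g (θ : K → ℂ) (θ : K → ℂ)) :
    extN K (blockCoeff ({θ} : Set (IrrCharacter K))) = blockCoeff (irrOver K (θ : K → ℂ)) := by
  classical
  have hcu := conjUnion_singleton K θ hθ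
  have hcls : IsClassFunction G (extN K (blockCoeff ({θ} : Set (IrrCharacter K)))) := by
    have := extN_conjUnion_isClassFunction K ({θ} : Set (IrrCharacter K))
    rwa [hcu] at this
  apply eq_of_omegaFun_eq hcls (blockCoeff_isClassFunction _)
  intro χ
  rw [omegaFun_blockCoeff]
  obtain ⟨ψ, hψ⟩ := exists_constituent_res K χ
  have h1 := omegaFun_extN_conjUnion K ({θ} : Set (IrrCharacter K)) χ ψ hψ
  simp only [hcu] at h1
  rw [h1]
  by_cases hχ : χ ∈ irrOver K (θ : K → ℂ)
  · rw [if_pos hχ]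
    have h2 := omegaFun_extN_conjUnion K ({θ} : Set (IrrCharacter K)) χ θ hχ
    simp only [hcu] at h2
    rw [h1, if_pos (Set.mem_singleton θ)] at h2
    exact h2
  · rw [if_neg hχ, if_neg]
    intro hψθ
    rw [Set.mem_singleton_iff] at hψθ
    subst hψθ
    exact hχ hψ

/-- (COEF) The idempotent of `Irr(G | θ)` is the idempotent of `θ`. -/
theorem blockCoeff_irrOver (K : Subgroup G) [hKn : K.Normal] [Fintype K] (θ : IrrCharacter K)
    (hθ : ∀ g : G, IsConjCharOf K g (θ : K → ℂ) (θ : K → ℂ)) :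
    (∀ (g : G) (h : g ∈ K), blockCoeff (irrOver K (θ : K → ℂ)) g =
      (Nat.card K : ℂ)⁻¹ * ((θ : K → ℂ) 1 * conj ((θ : K → ℂ) ⟨g, h⟩))) ∧
    ∀ g : G, g ∉ K → blockCoeff (irrOver K (θ : K → ℂ)) g = 0 := by
  have key := extN_blockCoeff_singleton K θ hθ
  constructor
  · intro g h
    rw [← key]
    have := extN_apply_mem K (blockCoeff ({θ} : Set (IrrCharacter K))) ⟨g, h⟩
    rw [show ((⟨g, h⟩ : K) : G) = g from rfl] at this
    rw [this]
    unfold blockCoeff
    rw [finsum_mem_singleton]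
  · intro g hg
    rw [← key]
    exact extN_apply_not_mem K _ hg

end Cfsg.Agent.Lib.Helper14.FPTCOEF
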