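/-
helper14: S4642 leaf (OMEGA) `brauerOmega_irrOver`: the value of the Brauer-map central character of
`ξ ∈ Irr(C_G(R))` (lying over `η ∈ Irr(C_K(R))`) on the idempotent of `Irr(G | θ)`.

Proof: by (COEF) the idempotent restricted to `C = C_G(R)` is `(θ(1)/|K|) · extN C_K (conj θ|)`, and `conj θ|` is a
`C`-invariant function on the normal subgroup `C_K = K ∩ C` of `C`; by `omega_restrict_eq` (Clifford) the central
character of `ξ` on it equals that of its constituent `η`, i.e. `∑_{n ∈ C_K} conj θ(n) η(n) / η(1)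
= |C_K| [θ|, η] / η(1)`.
-/
import Mathlib
import Cfsg.Prelude.Def_BrauerPairs
import Cfsg.Agent.Lib.Helper2.FongPTDefs
import Cfsg.Agent.Lib.Helper6.Fong
import Cfsg.Agent.Lib.Helper14.FPTCOEF

set_option autoImplicit false

namespace Cfsg.Agent.Lib.Helper14.FPTOMEGA

open Cfsg Cfsg.Agent.CharLib Cfsg.Agent.Lib.Helper24 Cfsg.Agent.Lib.Helper23
  Cfsg.Agent.Lib.Helper6 Cfsg.Agent.Lib.Helper2.FongPT
open scoped ComplexConjugate

universe u

variable {G : Type u} [Group G] [Fintype G]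

/-- the computation for an arbitrary subgroup `C` in place of `C_G(R)` -/
theorem finsum_blockCoeff_irrOver (K : Subgroup G) [hKn : K.Normal] [Fintype K] (θ : IrrCharacter K)
    (hθ : ∀ g : G, IsConjCharOf K g (θ : K → ℂ) (θ : K → ℂ))
    (C : Subgroup G) [Fintype ↥(K.subgroupOf C)]
    (ξ : IrrCharacter ↥C) (η : IrrCharacter ↥(K.subgroupOf C))
    (hξη : ξ ∈ irrOver (K.subgroupOf C) (η : ↥(K.subgroupOf C) → ℂ)) :
    ∑ᶠ x : C, blockCoeff (irrOver K (θ : K → ℂ)) (x : G) * (ξ : C → ℂ) x / (ξ : C → ℂ) 1 =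
      (θ : K → ℂ) 1 * (Nat.card ↥(K.subgroupOf C) : ℂ) *
        classInner (resSub K C (θ : K → ℂ)) (η : ↥(K.subgroupOf C) → ℂ) /
        ((Nat.card K : ℂ) * (η : ↥(K.subgroupOf C) → ℂ) 1) := by
  classical
  let _ : Fintype ↥C := Fintype.ofFinite _
  obtain ⟨hin, hout⟩ := Cfsg.Agent.Lib.Helper14.FPTCOEF.blockCoeff_irrOver K θ hθ
  have hCKn : (K.subgroupOf C).Normal := inferInstance
  let a : ↥(K.subgroupOf C) → ℂ := fun y => conj (resSub K C (θ : K → ℂ) y)
  have ha : ∀ (g : C) (n : ↥(K.subgroupOf C)), a (conjN (K.subgroupOf C) g n) = a n := by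
    intro g n
    show conj (resSub K C (θ : K → ℂ) (conjN (K.subgroupOf C) g n)) =
      conj (resSub K C (θ : K → ℂ) n)
    congr 1
    rw [resSub_apply, resSub_apply]
    exact hθ (g : G) ⟨((n : C) : G), Subgroup.mem_subgroupOf.mp n.2⟩ _ rfl
  have hβ : ∀ x : C, blockCoeff (irrOver K (θ : K → ℂ)) (x : G) =
      ((Nat.card K : ℂ)⁻¹ * (θ : K → ℂ) 1) * extN (K.subgroupOf C) a x := by
    intro x
    by_cases hx : x ∈ K.subgroupOf C
    · have hxK : (x : G) ∈ K := Subgroup.mem_subgroupOf.mp hx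
      rw [hin (x : G) hxK]
      have h1 := extN_apply_mem (K.subgroupOf C) a ⟨x, hx⟩
      rw [show ((⟨x, hx⟩ : K.subgroupOf C) : C) = x from rfl] at h1
      rw [h1]
      show _ = _ * conj (resSub K C (θ : K → ℂ) ⟨x, hx⟩)
      rw [resSub_apply]
      ring
    · have hxK : (x : G) ∉ K := fun h => hx (Subgroup.mem_subgroupOf.mpr h)
      rw [hout _ hxK, extN_apply_not_mem (K.subgroupOf C) a hx, mul_zero]
  rw [finsum_eq_sum_of_fintype]
  have h1 : ∑ x : C, blockCoeff (irrOver K (θ : K → ℂ)) (x : G) * (ξ : C → ℂ) x / (ξ : C → ℂ) 1 =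
      ((Nat.card K : ℂ)⁻¹ * (θ : K → ℂ) 1) * omegaFun (ξ : C → ℂ) (extN (K.subgroupOf C) a) := by
    unfold omegaFun
    rw [Finset.sum_div, Finset.mul_sum]
    apply Finset.sum_congr rfl
    intro x _
    rw [hβ x]
    ring
  rw [h1, omegaFun_extN, omega_restrict_eq (K.subgroupOf C) ξ.2 η.2 hξη a ha]
  have h2 : ∑ n : ↥(K.subgroupOf C), a n * (η : ↥(K.subgroupOf C) → ℂ) n =
      (Nat.card ↥(K.subgroupOf C) : ℂ) *
        classInner (resSub K C (θ : K → ℂ)) (η : ↥(K.subgroupOf C) → ℂ) := by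
    unfold classInner
    rw [← mul_assoc, mul_inv_cancel₀ (Nat.cast_ne_zero.mpr Nat.card_pos.ne'), one_mul]
    rw [← Equiv.sum_comp (Equiv.inv ↥(K.subgroupOf C))]
    apply Finset.sum_congr rfl
    intro n _
    show conj (resSub K C (θ : K → ℂ) n⁻¹) * (η : ↥(K.subgroupOf C) → ℂ) n⁻¹ =
      resSub K C (θ : K → ℂ) n * conj ((η : ↥(K.subgroupOf C) → ℂ) n)
    rw [irr_apply_inv η n]
    congr 1
    rw [resSub_apply, resSub_apply]
    have h3 := irr_apply_inv θ ⟨((n : C) : G), Subgroup.mem_subgroupOf.mp n.2⟩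
    have h4 : (θ : K → ℂ) ⟨(((n⁻¹ : ↥(K.subgroupOf C)) : C) : G),
          Subgroup.mem_subgroupOf.mp (n⁻¹).2⟩ =
        (θ : K → ℂ) (⟨((n : C) : G), Subgroup.mem_subgroupOf.mp n.2⟩ : K)⁻¹ := rfl
    rw [h4, h3, Complex.conj_conj]
  rw [h2]
  have hK0 : (Nat.card K : ℂ) ≠ 0 := Nat.cast_ne_zero.mpr Nat.card_pos.ne'
  have hη0 : (η : ↥(K.subgroupOf C) → ℂ) 1 ≠ 0 := irr_apply_one_ne_zero η
  field_simp

/-- (OMEGA) The value of the Brauer-map central character on the idempotent of `Irr(G | θ)`. -/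
theorem brauerOmega_irrOver (K : Subgroup G) [hKn : K.Normal] [Fintype K] (θ : IrrCharacter K)
    (hθ : ∀ g : G, IsConjCharOf K g (θ : K → ℂ) (θ : K → ℂ))
    (R : Subgroup G) [Fintype ↥(K.subgroupOf (Subgroup.centralizer (R : Set G)))]
    (ξ : IrrCharacter ↥(Subgroup.centralizer (R : Set G)))
    (η : IrrCharacter ↥(K.subgroupOf (Subgroup.centralizer (R : Set G))))
    (hξη : ξ ∈ irrOver (K.subgroupOf (Subgroup.centralizer (R : Set G)))
      (η : ↥(K.subgroupOf (Subgroup.centralizer (R : Set G))) → ℂ)) :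
    brauerOmega R (blockCoeff (irrOver K (θ : K → ℂ)))
        (ξ : ↥(Subgroup.centralizer (R : Set G)) → ℂ) =
      (θ : K → ℂ) 1 * (Nat.card ↥(K.subgroupOf (Subgroup.centralizer (R : Set G))) : ℂ) *
        classInner (resSub K (Subgroup.centralizer (R : Set G)) (θ : K → ℂ))
          (η : ↥(K.subgroupOf (Subgroup.centralizer (R : Set G))) → ℂ) /
        ((Nat.card K : ℂ) *
          (η : ↥(K.subgroupOf (Subgroup.centralizer (R : Set G))) → ℂ) 1) :=
  finsum_blockCoeff_irrOver K θ hθ (Subgroup.centralizer (R : Set G)) ξ η hξη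

end Cfsg.Agent.Lib.Helper14.FPTOMEGA
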