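import Mathlib
import Cfsg.Agent.Lib.Helper9.FRBDefs

/-!
helper14: FRB-KER (S4427 market, planner helper9): for a `rev`-symmetric idempotent `f` of the real group
algebra, `{g | ctr g f = ctr 1 f}` is (the carrier of) a normal subgroup: the normal core of the stabiliser
of `f` under left translation, since `f(1) - f(k) = ½ ∑_x (f(k⁻¹ x) - f(x))²`.
-/

set_option autoImplicit false

namespace Cfsg.Agent.Lib.Helper14.FRBKER

open Cfsg Cfsg.Agent.Lib.Helper9.FRB

variable {G : Type*} [Group G]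

/-- the coefficient of a product as a sum over the group -/
theorem coeff_mul_eq_sum [Fintype G] (u v : MonoidAlgebra ℝ G) (k : G) :
    (u * v).coeff k = ∑ x : G, u.coeff x * v.coeff (x⁻¹ * k) := by
  rw [MonoidAlgebra.coeff_mul_apply_left, Finsupp.sum_fintype]
  intro i
  rw [zero_mul]

theorem coeff_inv_of_sym [Fintype G] (f : MonoidAlgebra ℝ G) (hsym : rev f = f) (y : G) :
    f.coeff y⁻¹ = f.coeff y := by
  rw [← rev_coeff, hsym]

/-- `f(k) = ⟨f, k·f⟩` -/
theorem coeff_eq_inner [Fintype G] (f : MonoidAlgebra ℝ G) (hff : f * f = f) (hsym : rev f = f)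
    (k : G) : f.coeff k = ∑ x : G, f.coeff x * f.coeff (k⁻¹ * x) := by
  conv_lhs => rw [← hff]
  rw [coeff_mul_eq_sum]
  apply Finset.sum_congr rfl
  intro x _
  rw [← coeff_inv_of_sym f hsym (x⁻¹ * k), mul_inv_rev, inv_inv]

/-- the key identity -/
theorem two_mul_sub [Fintype G] (f : MonoidAlgebra ℝ G) (hff : f * f = f) (hsym : rev f = f)
    (k : G) : 2 * (f.coeff 1 - f.coeff k) = ∑ x : G, (f.coeff (k⁻¹ * x) - f.coeff x) ^ 2 := by
  have h1 : f.coeff 1 = ∑ x : G, f.coeff x * f.coeff x := by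
    rw [coeff_eq_inner f hff hsym 1]
    apply Finset.sum_congr rfl
    intro x _
    rw [inv_one, one_mul]
  have h2 : ∑ x : G, f.coeff (k⁻¹ * x) * f.coeff (k⁻¹ * x) = ∑ x : G, f.coeff x * f.coeff x :=
    Fintype.sum_equiv (Equiv.mulLeft k⁻¹) _ _ (fun x => rfl)
  have h3 : ∑ x : G, (f.coeff (k⁻¹ * x) - f.coeff x) ^ 2 =
      ∑ x : G, f.coeff (k⁻¹ * x) * f.coeff (k⁻¹ * x) + ∑ x : G, f.coeff x * f.coeff x -
        2 * ∑ x : G, f.coeff x * f.coeff (k⁻¹ * x) := by
    rw [Finset.mul_sum, ← Finset.sum_add_distrib, ← Finset.sum_sub_distrib]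
    apply Finset.sum_congr rfl
    intro x _
    ring
  rw [h3, h2, ← h1, ← coeff_eq_inner f hff hsym k]
  ring

/-- the stabiliser of `f` under left translation -/
def stab (f : MonoidAlgebra ℝ G) : Subgroup G where
  carrier := {k | ∀ x, f.coeff (k⁻¹ * x) = f.coeff x}
  one_mem' := by
    intro x
    rw [inv_one, one_mul]
  mul_mem' := by
    intro a b ha hb x
    rw [mul_inv_rev, mul_assoc, hb, ha]
  inv_mem' := by
    intro a ha x
    rw [inv_inv]
    have := ha (a * x)
    rw [inv_mul_cancel_left] at this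
    exact this.symm

theorem mem_stab (f : MonoidAlgebra ℝ G) (k : G) :
    k ∈ stab f ↔ ∀ x, f.coeff (k⁻¹ * x) = f.coeff x := Iff.rfl

theorem coeff_le [Fintype G] (f : MonoidAlgebra ℝ G) (hff : f * f = f) (hsym : rev f = f)
    (k : G) : f.coeff k ≤ f.coeff 1 := by
  have h := two_mul_sub f hff hsym k
  have h2 : 0 ≤ ∑ x : G, (f.coeff (k⁻¹ * x) - f.coeff x) ^ 2 :=
    Finset.sum_nonneg (fun x _ => sq_nonneg _)
  linarith

theorem coeff_eq_iff [Fintype G] (f : MonoidAlgebra ℝ G) (hff : f * f = f) (hsym : rev f = f)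
    (k : G) : f.coeff k = f.coeff 1 ↔ k ∈ stab f := by
  have h := two_mul_sub f hff hsym k
  rw [mem_stab]
  constructor
  · intro hk x
    have h0 : ∑ x : G, (f.coeff (k⁻¹ * x) - f.coeff x) ^ 2 = 0 := by
      rw [← h, hk, sub_self, mul_zero]
    have h1 := (Finset.sum_eq_zero_iff_of_nonneg (fun x _ => sq_nonneg _)).mp h0 x (Finset.mem_univ x)
    have h2 : f.coeff (k⁻¹ * x) - f.coeff x = 0 := by
      exact pow_eq_zero_iff (two_ne_zero) |>.mp h1
    linarith
  · intro hk
    have h0 : ∑ x : G, (f.coeff (k⁻¹ * x) - f.coeff x) ^ 2 = 0 := by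
      apply Finset.sum_eq_zero
      intro x _
      rw [hk x, sub_self]
      ring
    rw [h0] at h
    linarith

/-- FRB-KER. -/
theorem ker_normal [Fintype G] (f : MonoidAlgebra ℝ G) (hff : f * f = f) (hsym : rev f = f) :
    ∃ N : Subgroup G, N.Normal ∧ ∀ g : G, g ∈ N ↔ ctr g f = ctr 1 f := by
  refine ⟨(stab f).normalCore, Subgroup.normalCore_normal _, ?_⟩
  intro g
  have h1 : ctr 1 f = ∑ h : G, f.coeff 1 := by
    unfold ctr
    apply Finset.sum_congr rfl
    intro h _
    rw [mul_one, inv_mul_cancel]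
  rw [h1]
  unfold ctr
  constructor
  · intro hg
    apply Finset.sum_congr rfl
    intro h _
    rw [coeff_eq_iff f hff hsym]
    have := hg h⁻¹
    rwa [inv_inv] at this
  · intro hsum b
    have hle : ∀ h ∈ (Finset.univ : Finset G), f.coeff (h⁻¹ * g * h) ≤ f.coeff 1 :=
      fun h _ => coeff_le f hff hsym _
    have h2 := (Finset.sum_eq_sum_iff_of_le hle).mp hsum b⁻¹ (Finset.mem_univ _)
    rw [inv_inv] at h2
    exact (coeff_eq_iff f hff hsym _).mp h2

end Cfsg.Agent.Lib.Helper14.FRBKER
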