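import Mathlib
import Cfsg.Agent.Lib.Helper9.FRBDefs
import Cfsg.Agent.Lib.Helper14.FRBKER
import Cfsg.Agent.Lib.Helper12.FRBAVG

/-!
helper14: FRB-DIM (S4427 market, planner helper9): `∑_g (ctr g f)² = |G| tr(v ↦ f v f) = |G| dim(f A f)
≤ |G| dim(e_Q A e_R) = |G| tr(v ↦ e_Q v e_R) = |G| |G| / (|Q||R|)`.
-/

set_option autoImplicit false

namespace Cfsg.Agent.Lib.Helper14.FRBDIM

open Cfsg Cfsg.Agent.Lib.Helper9.FRB Cfsg.Agent.Lib.Helper14.FRBKER

variable {G : Type*} [Group G]

section sandwich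

variable [Fintype G]

/-- `v ↦ a * (v * b)` -/
noncomputable def sandwich (a b : MonoidAlgebra ℝ G) :
    MonoidAlgebra ℝ G →ₗ[ℝ] MonoidAlgebra ℝ G :=
  (LinearMap.mulLeft ℝ a).comp (LinearMap.mulRight ℝ b)

omit [Fintype G] in
theorem sandwich_apply (a b v : MonoidAlgebra ℝ G) : sandwich a b v = a * (v * b) := rfl

/-- the trace of `v ↦ a v b` -/
theorem trace_sandwich (a b : MonoidAlgebra ℝ G) :
    LinearMap.trace ℝ (MonoidAlgebra ℝ G) (sandwich a b) =
      ∑ g : G, ∑ x : G, a.coeff x * b.coeff (g⁻¹ * (x⁻¹ * g)) := by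
  classical
  rw [LinearMap.trace_eq_matrix_trace ℝ (MonoidAlgebra.basis G ℝ), Matrix.trace]
  apply Finset.sum_congr rfl
  intro g _
  rw [Matrix.diag_apply, LinearMap.toMatrix_apply, MonoidAlgebra.basis_apply, sandwich_apply]
  show (a * (MonoidAlgebra.single g 1 * b)).coeff g = _
  rw [coeff_mul_eq_sum]
  apply Finset.sum_congr rfl
  intro x _
  rw [MonoidAlgebra.coeff_single_mul_apply, one_mul]

/-- for idempotents `a`, `b` the sandwich map is a projection onto its range -/
theorem isProj_sandwich (a b : MonoidAlgebra ℝ G) (ha : a * a = a) (hb : b * b = b) :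
    LinearMap.IsProj (LinearMap.range (sandwich a b)) (sandwich a b) := by
  constructor
  · intro v
    exact LinearMap.mem_range_self _ v
  · rintro _ ⟨v, rfl⟩
    rw [sandwich_apply, sandwich_apply, mul_assoc, mul_assoc, hb, ← mul_assoc, ha]

theorem trace_sandwich_eq_finrank (a b : MonoidAlgebra ℝ G) (ha : a * a = a) (hb : b * b = b) :
    LinearMap.trace ℝ (MonoidAlgebra ℝ G) (sandwich a b) =
      (Module.finrank ℝ (LinearMap.range (sandwich a b)) : ℝ) :=
  (isProj_sandwich a b ha hb).trace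

end sandwich

section numeric

variable [Fintype G]

theorem ctr_conj (f : MonoidAlgebra ℝ G) (k g : G) : ctr (k⁻¹ * g * k) f = ctr g f := by
  unfold ctr
  refine Fintype.sum_equiv (Equiv.mulLeft k) _ _ (fun h => ?_)
  congr 1
  show h⁻¹ * (k⁻¹ * g * k) * h = (k * h)⁻¹ * g * (k * h)
  group

theorem ctr_inv (f : MonoidAlgebra ℝ G) (hsym : rev f = f) (g : G) : ctr g⁻¹ f = ctr g f := by
  unfold ctr
  apply Finset.sum_congr rfl
  intro h _
  rw [← coeff_inv_of_sym f hsym (h⁻¹ * g * h)]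
  congr 1
  group

/-- `∑_g (ctr g f)² = |G| ∑_x f(x) ctr x f` -/
theorem sum_ctr_sq (f : MonoidAlgebra ℝ G) :
    ∑ g : G, (ctr g f) ^ 2 = (Fintype.card G : ℝ) * ∑ x : G, f.coeff x * ctr x f := by
  have h1 : ∀ g : G, (ctr g f) ^ 2 = ∑ h : G, ctr g f * f.coeff (h⁻¹ * g * h) := by
    intro g
    rw [pow_two, ← Finset.mul_sum]
    rfl
  simp_rw [h1]
  rw [Finset.sum_comm]
  have h2 : ∀ h : G, ∑ g : G, ctr g f * f.coeff (h⁻¹ * g * h) = ∑ x : G, f.coeff x * ctr x f := by
    intro h
    refine Fintype.sum_equiv (MulAut.conj h⁻¹).toEquiv _ _ (fun g => ?_)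
    have e : (MulAut.conj h⁻¹).toEquiv g = h⁻¹ * g * h := by
      show h⁻¹ * g * h⁻¹⁻¹ = h⁻¹ * g * h
      rw [inv_inv]
    rw [e, ctr_conj, mul_comm]
  simp_rw [h2]
  rw [Finset.sum_const, Finset.card_univ, nsmul_eq_mul]

/-- the trace of `v ↦ f v f` in terms of `ctr` -/
theorem trace_sum_eq (f : MonoidAlgebra ℝ G) (hsym : rev f = f) :
    ∑ g : G, ∑ x : G, f.coeff x * f.coeff (g⁻¹ * (x⁻¹ * g)) = ∑ x : G, f.coeff x * ctr x f := by
  rw [Finset.sum_comm]
  apply Finset.sum_congr rfl
  intro x _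
  rw [← Finset.mul_sum, ← ctr_inv f hsym x]
  congr 1
  unfold ctr
  apply Finset.sum_congr rfl
  intro g _
  rw [mul_assoc]

/-- the trace of `v ↦ e_Q v e_R` for subgroups of coprime orders -/
theorem trace_sum_avg (Q R : Subgroup G) (hcop : (Nat.card Q).Coprime (Nat.card R)) :
    ∑ g : G, ∑ x : G, (avg Q).coeff x * (avg R).coeff (g⁻¹ * (x⁻¹ * g)) =
      (Fintype.card G : ℝ) / ((Nat.card Q : ℝ) * (Nat.card R : ℝ)) := by
  classical
  have h1 : ∀ g : G, ∑ x : G, (avg Q).coeff x * (avg R).coeff (g⁻¹ * (x⁻¹ * g)) =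
      ((Nat.card Q : ℝ))⁻¹ * ((Nat.card R : ℝ))⁻¹ := by
    intro g
    rw [Finset.sum_eq_single (1 : G)]
    · rw [avg_coeff, avg_coeff, if_pos (one_mem Q), inv_one, one_mul, inv_mul_cancel,
        if_pos (one_mem R)]
    · intro x _ hx
      rw [avg_coeff, avg_coeff]
      by_cases hxQ : x ∈ Q
      · by_cases hxR : g⁻¹ * (x⁻¹ * g) ∈ R
        · exfalso
          apply hx
          have o1 : orderOf x ∣ Nat.card Q := Subgroup.orderOf_dvd_natCard Q hxQ
          have o2 : orderOf (g⁻¹ * (x⁻¹ * g)) ∣ Nat.card R := Subgroup.orderOf_dvd_natCard R hxR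
          have o3 : orderOf (g⁻¹ * (x⁻¹ * g)) = orderOf x := by
            have hs : SemiconjBy g (g⁻¹ * (x⁻¹ * g)) x⁻¹ := by
              show g * (g⁻¹ * (x⁻¹ * g)) = x⁻¹ * g
              group
            rw [hs.orderOf_eq, orderOf_inv]
          rw [o3] at o2
          have o4 : orderOf x ∣ 1 := by
            have := Nat.dvd_gcd o1 o2
            rwa [Nat.Coprime.gcd_eq_one hcop] at this
          exact orderOf_eq_one_iff.mp (Nat.dvd_one.mp o4)
        · rw [if_neg hxR, mul_zero]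
      · rw [if_neg hxQ, zero_mul]
    · intro h
      exact absurd (Finset.mem_univ _) h
  simp_rw [h1]
  rw [Finset.sum_const, Finset.card_univ, nsmul_eq_mul, ← mul_inv, div_eq_mul_inv]

end numeric

section final

variable [Fintype G]

/-- FRB-DIM. -/
theorem dim_bound (Q R : Subgroup G) (hcop : (Nat.card Q).Coprime (Nat.card R))
    (f y : MonoidAlgebra ℝ G) (hff : f * f = f) (hsym : rev f = f)
    (hfy : f = avg Q * avg R * avg Q * y) (hfQ : f * avg Q = f) (hQf : avg Q * f = f) :
    ∑ g : G, (ctr g f) ^ 2 ≤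
      (Fintype.card G : ℝ) * ((Fintype.card G : ℝ) / ((Nat.card Q : ℝ) * (Nat.card R : ℝ))) := by
  have hQQ : avg Q * avg Q = avg Q := Cfsg.Agent.Lib.Helper12.FRBAVG.avg_mul_self Q
  have hRR : avg R * avg R = avg R := Cfsg.Agent.Lib.Helper12.FRBAVG.avg_mul_self R
  -- the two traces
  have t1 : (Module.finrank ℝ (LinearMap.range (sandwich f f)) : ℝ) = ∑ x : G, f.coeff x * ctr x f := by
    rw [← trace_sandwich_eq_finrank f f hff hff, trace_sandwich, trace_sum_eq f hsym]
  have t2 : (Module.finrank ℝ (LinearMap.range (sandwich (avg Q) (avg R))) : ℝ) =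
      (Fintype.card G : ℝ) / ((Nat.card Q : ℝ) * (Nat.card R : ℝ)) := by
    rw [← trace_sandwich_eq_finrank (avg Q) (avg R) hQQ hRR, trace_sandwich, trace_sum_avg Q R hcop]
  -- the dimension inequality
  have hdim : Module.finrank ℝ (LinearMap.range (sandwich f f)) ≤
      Module.finrank ℝ (LinearMap.range (sandwich (avg Q) (avg R))) := by
    set φ : LinearMap.range (sandwich f f) →ₗ[ℝ] MonoidAlgebra ℝ G :=
      (LinearMap.mulRight ℝ (avg R)).domRestrict (LinearMap.range (sandwich f f)) with hφ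
    have hφapp : ∀ w : LinearMap.range (sandwich f f), φ w = (w : MonoidAlgebra ℝ G) * avg R :=
      fun w => rfl
    have hinj : Function.Injective φ := by
      rw [← LinearMap.ker_eq_bot, LinearMap.ker_eq_bot']
      rintro ⟨w, v, rfl⟩ hw
      apply Subtype.ext
      rw [hφapp] at hw
      show sandwich f f v = 0
      have hw' : sandwich f f v * avg R = 0 := hw
      have e1 : sandwich f f v * avg Q = sandwich f f v := by
        rw [sandwich_apply, mul_assoc, mul_assoc, hfQ]
      have e2 : sandwich f f v * f = sandwich f f v := by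
        rw [sandwich_apply, mul_assoc, mul_assoc, hff]
      calc sandwich f f v = sandwich f f v * f := e2.symm
        _ = sandwich f f v * (avg Q * avg R * avg Q * y) := by rw [← hfy]
        _ = ((sandwich f f v * avg Q) * avg R) * avg Q * y := by simp only [mul_assoc]
        _ = 0 := by rw [e1, hw', zero_mul, zero_mul]
    have hle : LinearMap.range φ ≤ LinearMap.range (sandwich (avg Q) (avg R)) := by
      rintro _ ⟨⟨w, v, rfl⟩, rfl⟩
      refine ⟨sandwich f f v, ?_⟩
      rw [hφapp]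
      show avg Q * (sandwich f f v * avg R) = sandwich f f v * avg R
      rw [← mul_assoc]
      congr 1
      rw [sandwich_apply, ← mul_assoc, hQf]
    calc Module.finrank ℝ (LinearMap.range (sandwich f f))
        = Module.finrank ℝ (LinearMap.range φ) := (LinearMap.finrank_range_of_inj hinj).symm
      _ ≤ _ := Submodule.finrank_mono hle
  rw [sum_ctr_sq, ← t1, ← t2]
  apply mul_le_mul_of_nonneg_left _ (Nat.cast_nonneg _)
  exact_mod_cast hdim

end final

end Cfsg.Agent.Lib.Helper14.FRBDIM
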