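import Mathlib

/-!
helper14: FRB-WORD (S4427 market, planner helper9): the number of words of length `p^k m` whose product is
conjugate to a `p`-singular element is divisible by `p^(k+1-a)` when all `p^a`-th powers are `p`-regular.
(Rotation of words; a word fixed by the rotation by `N / p^a` is a `p^a`-th power.)
-/

set_option autoImplicit false

namespace Cfsg.Agent.Lib.Helper14.FRBWORD

/-- a permutation of `p`-power order none of whose points is fixed by `σ ^ (p ^ j)`: `p ^ (j+1)` divides the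
number of points. -/
theorem pow_dvd_card_of_fixedPointFree {X : Type*} [Finite X] (σ : Equiv.Perm X) (p k j : ℕ)
    (hp : p.Prime) (hσ : σ ^ (p ^ k) = 1) (hfix : ∀ x, (σ ^ (p ^ j)) x ≠ x) :
    p ^ (j + 1) ∣ Nat.card X := by
  classical
  have := Fintype.ofFinite X
  have hsupp : σ.support = Finset.univ := by
    rw [Finset.eq_univ_iff_forall]
    intro x
    rw [Equiv.Perm.mem_support]
    intro hx
    exact hfix x (Equiv.Perm.pow_apply_eq_self_of_apply_eq_self hx _)
  rw [Nat.card_eq_fintype_card, ← Finset.card_univ, ← hsupp, ← Equiv.Perm.sum_cycleType]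
  apply Multiset.dvd_sum
  intro n hn
  have h1 : n ∣ p ^ k := dvd_trans (Equiv.Perm.dvd_of_mem_cycleType hn) (orderOf_dvd_of_pow_eq_one hσ)
  obtain ⟨i, -, rfl⟩ := (Nat.dvd_prime_pow hp).mp h1
  apply pow_dvd_pow
  by_contra hlt
  have hij : i ≤ j := by omega
  obtain ⟨c, τ, hστ, hdis, hc, hcard⟩ := Equiv.Perm.mem_cycleType_iff.mp hn
  obtain ⟨x, hx⟩ := hc.nonempty_support
  have hτx : τ x = x := by
    rcases hdis x with h | h
    · exact absurd h (Equiv.Perm.mem_support.mp hx)
    · exact h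
  have hcp : c ^ (p ^ j) = 1 := by
    have h2 : orderOf c ∣ p ^ j := by
      rw [hc.orderOf, hcard]
      exact pow_dvd_pow p hij
    exact orderOf_dvd_iff_pow_eq_one.mp h2
  apply hfix x
  rw [hστ, hdis.commute.mul_pow, Equiv.Perm.mul_apply,
    Equiv.Perm.pow_apply_eq_self_of_apply_eq_self hτx, hcp, Equiv.Perm.one_apply]

/-- the product of a word which is periodic with period `L` and has length `P * L` is a `P`-th power -/
theorem prod_pow_of_periodic {M : Type*} [Monoid M] (P L : ℕ) (f : Fin (P * L) → M)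
    (hper : ∀ i j : Fin (P * L), (i : ℕ) % L = (j : ℕ) % L → f i = f j) :
    ∃ h : M, (List.ofFn f).prod = h ^ P := by
  rcases Nat.eq_zero_or_pos P with rfl | hP
  · refine ⟨1, ?_⟩
    rw [List.ofFn_mul, List.ofFn_zero, List.flatten_nil, List.prod_nil, pow_zero]
  · have hL : ∀ j : Fin L, (j : ℕ) < P * L := fun j =>
      lt_of_lt_of_le j.2 (Nat.le_mul_of_pos_left L hP)
    refine ⟨(List.ofFn fun j : Fin L => f ⟨j, hL j⟩).prod, ?_⟩
    rw [List.ofFn_mul]
    have h1 : (fun i : Fin P => List.ofFn fun j : Fin L => f ⟨i * L + j,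
        calc (i : ℕ) * L + j < (i + 1) * L :=
              (Nat.add_lt_add_left j.prop _).trans_eq (by rw [Nat.add_mul, Nat.one_mul])
          _ ≤ _ := Nat.mul_le_mul_right _ i.prop⟩) =
        fun _ : Fin P => List.ofFn fun j : Fin L => f ⟨j, hL j⟩ := by
      funext i
      congr 1
      funext j
      apply hper
      show ((i : ℕ) * L + j) % L = (j : ℕ) % L
      rw [Nat.mul_add_mod_of_lt j.2, Nat.mod_eq_of_lt j.2]
    rw [h1, List.ofFn_const, List.prod_flatten, List.map_replicate, List.prod_replicate]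

theorem prod_pow_of_periodic' {M : Type*} [Monoid M] (N P L : ℕ) (hN : N = P * L) (f : Fin N → M)
    (hper : ∀ i j : Fin N, (i : ℕ) % L = (j : ℕ) % L → f i = f j) :
    ∃ h : M, (List.ofFn f).prod = h ^ P := by
  subst hN
  exact prod_pow_of_periodic P L f hper

section rot

variable {α : Type*}

/-- rotation of a word by `t` positions -/
def rotF (N : ℕ) [NeZero N] (t : ℕ) (w : Fin N → α) : Fin N → α :=
  fun i => w ⟨((i : ℕ) + t) % N, Nat.mod_lt _ (NeZero.pos N)⟩

theorem rotF_rotF (N : ℕ) [NeZero N] (t t' : ℕ) (w : Fin N → α) :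
    rotF N t (rotF N t' w) = rotF N (t + t') w := by
  funext i
  unfold rotF
  congr 1
  apply Fin.ext
  show (((i : ℕ) + t) % N + t') % N = ((i : ℕ) + (t + t')) % N
  rw [Nat.add_mod, Nat.mod_mod, ← Nat.add_mod, add_assoc]

theorem rotF_of_dvd (N : ℕ) [NeZero N] (t : ℕ) (h : N ∣ t) (w : Fin N → α) : rotF N t w = w := by
  funext i
  unfold rotF
  congr 1
  apply Fin.ext
  show ((i : ℕ) + t) % N = i
  obtain ⟨c, rfl⟩ := h
  rw [Nat.add_mul_mod_self_left, Nat.mod_eq_of_lt i.2]

theorem rotF_comp (N : ℕ) [NeZero N] (t : ℕ) {β : Type*} (ev : α → β) (w : Fin N → α) :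
    (fun i => ev (rotF N t w i)) = rotF N t (fun i => ev (w i)) := rfl

/-- rotation as a permutation of the set of words -/
def rotE (N : ℕ) [NeZero N] (t : ℕ) : Equiv.Perm (Fin N → α) where
  toFun := rotF N t
  invFun := rotF N (N - t % N)
  left_inv w := by
    show rotF N (N - t % N) (rotF N t w) = w
    rw [rotF_rotF]
    apply rotF_of_dvd
    have h1 := Nat.div_add_mod t N
    have h2 := Nat.mod_lt t (NeZero.pos N)
    refine ⟨1 + t / N, ?_⟩
    rw [Nat.mul_add, mul_one]
    omega
  right_inv w := by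
    show rotF N t (rotF N (N - t % N) w) = w
    rw [rotF_rotF]
    apply rotF_of_dvd
    have h1 := Nat.div_add_mod t N
    have h2 := Nat.mod_lt t (NeZero.pos N)
    refine ⟨1 + t / N, ?_⟩
    rw [Nat.mul_add, mul_one]
    omega

theorem rotE_apply (N : ℕ) [NeZero N] (t : ℕ) (w : Fin N → α) : rotE N t w = rotF N t w := rfl

/-- periodicity of a word fixed by the rotation by `L` -/
theorem periodic_of_rotF_eq (N : ℕ) [NeZero N] (L : ℕ) (w : Fin N → α) (h : rotF N L w = w)
    (i j : Fin N) (hij : (i : ℕ) % L = (j : ℕ) % L) : w i = w j := by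
  have key : ∀ (c : ℕ) (r : ℕ) (hr : r + c * L < N), w ⟨r + c * L, hr⟩ =
      w ⟨r, lt_of_le_of_lt (Nat.le_add_right _ _) hr⟩ := by
    intro c
    induction c with
    | zero =>
      intro r hr
      congr 1
      apply Fin.ext
      show r + 0 * L = r
      rw [zero_mul, add_zero]
    | succ c ih =>
      intro r hr
      have hr' : r + c * L < N := by
        have : r + c * L ≤ r + (c + 1) * L := by
          apply Nat.add_le_add_left
          exact Nat.mul_le_mul_right L (Nat.le_succ c)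
        omega
      rw [← ih r hr']
      have h1 := congrFun h ⟨r + c * L, hr'⟩
      rw [← h1]
      unfold rotF
      congr 1
      apply Fin.ext
      show r + (c + 1) * L = (r + c * L + L) % N
      rw [Nat.mod_eq_of_lt (by rw [Nat.add_mul, one_mul] at hr; omega)]
      rw [Nat.add_mul, one_mul, add_assoc]
  have hi : w i = w ⟨(i : ℕ) % L, lt_of_le_of_lt (Nat.mod_le _ _) i.2⟩ := by
    have h1 : (i : ℕ) % L + (i : ℕ) / L * L < N := by
      rw [mul_comm, Nat.mod_add_div]; exact i.2
    rw [← key ((i : ℕ) / L) ((i : ℕ) % L) h1]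
    congr 1
    apply Fin.ext
    show (i : ℕ) = (i : ℕ) % L + (i : ℕ) / L * L
    rw [mul_comm, Nat.mod_add_div]
  have hj : w j = w ⟨(j : ℕ) % L, lt_of_le_of_lt (Nat.mod_le _ _) j.2⟩ := by
    have h1 : (j : ℕ) % L + (j : ℕ) / L * L < N := by
      rw [mul_comm, Nat.mod_add_div]; exact j.2
    rw [← key ((j : ℕ) / L) ((j : ℕ) % L) h1]
    congr 1
    apply Fin.ext
    show (j : ℕ) = (j : ℕ) % L + (j : ℕ) / L * L
    rw [mul_comm, Nat.mod_add_div]
  rw [hi, hj]
  congr 1
  apply Fin.ext
  exact hij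

end rot

section conj

variable {G : Type*} [Group G]

theorem isConj_mul_comm (a b : G) : IsConj (b * a) (a * b) := by
  rw [isConj_iff]
  exact ⟨a, by group⟩

/-- rotating a word by one position conjugates its product -/
theorem isConj_rot_one (N : ℕ) [NeZero N] (f : Fin N → G) :
    IsConj (List.ofFn (rotF N 1 f)).prod (List.ofFn f).prod := by
  obtain ⟨n, rfl⟩ : ∃ n, N = n + 1 := ⟨N - 1, by have := NeZero.pos N; omega⟩
  rw [List.ofFn_succ (f := f), List.ofFn_succ' (f := rotF (n + 1) 1 f), List.concat_eq_append,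
    List.prod_append, List.prod_cons, List.prod_cons, List.prod_nil, mul_one]
  have h1 : (fun i : Fin n => rotF (n + 1) 1 f (Fin.castSucc i)) = fun i : Fin n => f i.succ := by
    funext i
    unfold rotF
    congr 1
    apply Fin.ext
    show ((i : ℕ) + 1) % (n + 1) = (i : ℕ) + 1
    exact Nat.mod_eq_of_lt (by have := i.2; omega)
  have h2 : rotF (n + 1) 1 f (Fin.last n) = f 0 := by
    unfold rotF
    congr 1
    apply Fin.ext
    show (n + 1) % (n + 1) = 0
    exact Nat.mod_self _
  rw [h1, h2]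
  exact isConj_mul_comm _ _

theorem isConj_rot (N : ℕ) [NeZero N] (t : ℕ) (f : Fin N → G) :
    IsConj (List.ofFn (rotF N t f)).prod (List.ofFn f).prod := by
  induction t with
  | zero =>
    rw [rotF_of_dvd N 0 (dvd_zero N)]
  | succ t ih =>
    have h : rotF N (t + 1) f = rotF N 1 (rotF N t f) := by rw [rotF_rotF, add_comm]
    rw [h]
    exact (isConj_rot_one N (rotF N t f)).trans ih

end conj

section main

variable {G : Type*} [Group G]

/-- the rotation by `t` positions on the set of words whose product is conjugate to `g` -/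
def rotX {𝔄 : Type*} (N : ℕ) [NeZero N] (ev : 𝔄 → G) (g : G) (t : ℕ) :
    Equiv.Perm {w : Fin N → 𝔄 // IsConj ((List.ofFn fun i => ev (w i)).prod) g} :=
  (rotE N t).subtypeEquiv (fun w => by
    show IsConj ((List.ofFn fun i => ev (w i)).prod) g ↔
      IsConj ((List.ofFn fun i => ev (rotF N t w i)).prod) g
    have h := isConj_rot N t (fun i => ev (w i))
    rw [← rotF_comp] at h
    exact ⟨fun h1 => h.trans h1, fun h1 => h.symm.trans h1⟩)

theorem rotX_coe {𝔄 : Type*} (N : ℕ) [NeZero N] (ev : 𝔄 → G) (g : G) (t : ℕ)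
    (x : {w : Fin N → 𝔄 // IsConj ((List.ofFn fun i => ev (w i)).prod) g}) :
    ((rotX N ev g t x : {w : Fin N → 𝔄 // IsConj ((List.ofFn fun i => ev (w i)).prod) g}) :
      Fin N → 𝔄) = rotF N t x.1 := rfl

theorem rotX_pow_coe {𝔄 : Type*} (N : ℕ) [NeZero N] (ev : 𝔄 → G) (g : G) (t e : ℕ)
    (x : {w : Fin N → 𝔄 // IsConj ((List.ofFn fun i => ev (w i)).prod) g}) :
    ((((rotX N ev g t) ^ e) x : {w : Fin N → 𝔄 // IsConj ((List.ofFn fun i => ev (w i)).prod) g}) :
      Fin N → 𝔄) = rotF N (e * t) x.1 := by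
  induction e generalizing x with
  | zero =>
    rw [pow_zero, zero_mul, rotF_of_dvd N 0 (dvd_zero N)]
    rfl
  | succ e ih =>
    rw [pow_succ, Equiv.Perm.mul_apply, ih, rotX_coe, rotF_rotF, Nat.add_mul, one_mul]

/-- FRB-WORD. -/
theorem word_count [Finite G] {𝔄 : Type*} [Finite 𝔄] (ev : 𝔄 → G) (p a k m : ℕ) (hp : p.Prime)
    (hm : 0 < m) (ha : ∀ h : G, ¬ p ∣ orderOf (h ^ p ^ a)) (g : G) (hg : p ∣ orderOf g) :
    p ^ (k + 1 - a) ∣
      Nat.card {w : Fin (p ^ k * m) → 𝔄 // IsConj ((List.ofFn fun i => ev (w i)).prod) g} := by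
  by_cases hak : k < a
  · have h0 : k + 1 - a = 0 := by omega
    rw [h0, pow_zero]
    exact one_dvd _
  · have hak' : a ≤ k := by omega
    have hN : 0 < p ^ k * m := Nat.mul_pos (pow_pos hp.pos k) hm
    have : NeZero (p ^ k * m) := ⟨hN.ne'⟩
    obtain ⟨j, hj⟩ : ∃ j, k = a + j := ⟨k - a, by omega⟩
    have h1 : k + 1 - a = j + 1 := by omega
    rw [h1]
    apply pow_dvd_card_of_fixedPointFree (rotX (p ^ k * m) ev g m) p k j hp
    · apply Equiv.ext
      intro x
      apply Subtype.ext
      rw [rotX_pow_coe, rotF_of_dvd _ _ (dvd_refl _)]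
      rfl
    · intro x hx
      have hx' : rotF (p ^ k * m) (p ^ j * m) x.1 = x.1 := by
        rw [← rotX_pow_coe, hx]
      have hNL : p ^ k * m = p ^ a * (p ^ j * m) := by rw [hj, pow_add, mul_assoc]
      obtain ⟨h, hh⟩ := prod_pow_of_periodic' (p ^ k * m) (p ^ a) (p ^ j * m) hNL
        (fun i => ev (x.1 i))
        (fun i i' hii' => by
          show ev (x.1 i) = ev (x.1 i')
          rw [periodic_of_rotF_eq (p ^ k * m) (p ^ j * m) x.1 hx' i i' hii'])
      have hc : IsConj (h ^ p ^ a) g := by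
        rw [← hh]
        exact x.2
      obtain ⟨c, hc'⟩ := hc
      have ho : orderOf (h ^ p ^ a) = orderOf g := SemiconjBy.orderOf_eq (c : G) hc'
      rw [← ho] at hg
      exact ha h hg

end main

end Cfsg.Agent.Lib.Helper14.FRBWORD
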