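import Mathlib
import Cfsg.Agent.Lib.Helper14.PGroupFixed

set_option autoImplicit false

namespace Cfsg.Agent.Lib.Helper14

variable {F : Type*} [Field F] {G : Type*} [Group G] {V : Type*} [AddCommGroup V] [Module F V]

/-- The ascending chain of submodules of a representation attached to a subgroup `U`:
`W₀ = 0` and `W_{j+1} = {v | ∀ u ∈ U, u v - v ∈ W_j}`. -/
def fixChain (ρ : Representation F G V) (U : Subgroup G) : ℕ → Submodule F V
  | 0 => ⊥
  | (j + 1) => ⨅ u : U, (fixChain ρ U j).comap (ρ (u : G) - 1)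

theorem fixChain_zero (ρ : Representation F G V) (U : Subgroup G) : fixChain ρ U 0 = ⊥ := rfl

theorem mem_fixChain_succ (ρ : Representation F G V) (U : Subgroup G) (j : ℕ) (v : V) :
    v ∈ fixChain ρ U (j + 1) ↔ ∀ u ∈ U, ρ u v - v ∈ fixChain ρ U j := by
  simp only [fixChain, Submodule.mem_iInf, Submodule.mem_comap, LinearMap.sub_apply,
    Module.End.one_apply, Subtype.forall]

theorem fixChain_le_succ (ρ : Representation F G V) (U : Subgroup G) (j : ℕ) :
    fixChain ρ U j ≤ fixChain ρ U (j + 1) := by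
  induction j with
  | zero => rw [fixChain_zero]; exact bot_le
  | succ j ih =>
    intro v hv
    rw [mem_fixChain_succ] at hv ⊢
    intro u hu
    exact ih (hv u hu)

theorem fixChain_apply_mem (ρ : Representation F G V) (U : Subgroup G) (j : ℕ) {g : G}
    (hg : g ∈ Subgroup.normalizer (U : Set G)) {v : V} (hv : v ∈ fixChain ρ U j) :
    ρ g v ∈ fixChain ρ U j := by
  induction j generalizing v with
  | zero =>
    rw [fixChain_zero, Submodule.mem_bot] at hv ⊢
    rw [hv, map_zero]
  | succ j ih =>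
    rw [mem_fixChain_succ] at hv ⊢
    intro u hu
    have h1 : g⁻¹ * u * g ∈ U := (Subgroup.mem_set_normalizer_iff''.mp hg u).mp hu
    have h2 := ih (hv _ h1)
    have h3 : ρ g (ρ (g⁻¹ * u * g) v - v) = ρ u (ρ g v) - ρ g v := by
      rw [map_sub]
      congr 1
      calc ρ g (ρ (g⁻¹ * u * g) v) = (ρ g * ρ (g⁻¹ * u * g)) v := rfl
        _ = ρ (g * (g⁻¹ * u * g)) v := by rw [map_mul ρ g (g⁻¹ * u * g)]
        _ = ρ (u * g) v := by
          have : g * (g⁻¹ * u * g) = u * g := by group
          rw [this]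
        _ = (ρ u * ρ g) v := by rw [map_mul ρ u g]
        _ = ρ u (ρ g v) := rfl
    rw [← h3]
    exact h2

theorem fixChain_map_eq (ρ : Representation F G V) (U : Subgroup G) (j : ℕ) {g : G}
    (hg : g ∈ Subgroup.normalizer (U : Set G)) :
    (fixChain ρ U j).map (ρ g) = fixChain ρ U j := by
  apply le_antisymm
  · rintro _ ⟨v, hv, rfl⟩
    exact fixChain_apply_mem ρ U j hg hv
  · intro v hv
    refine ⟨ρ g⁻¹ v, fixChain_apply_mem ρ U j (Subgroup.inv_mem _ hg) hv, ?_⟩
    rw [← Module.End.mul_apply, ← map_mul, mul_inv_cancel, map_one, Module.End.one_apply]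

theorem fixChain_lt_succ (p : ℕ) [Fact p.Prime] [CharP F p] [Finite V]
    (ρ : Representation F G V) (U : Subgroup G) (hU : IsPGroup p U) (j : ℕ)
    (h : fixChain ρ U j ≠ ⊤) : fixChain ρ U j < fixChain ρ U (j + 1) := by
  refine lt_of_le_of_ne (fixChain_le_succ ρ U j) ?_
  intro heq
  -- the quotient representation of `U`
  let ρU : Representation F U V := ρ.comp U.subtype
  have hinv : ∀ u : U, fixChain ρ U j ≤ (fixChain ρ U j).comap (ρU u) := by
    intro u v hv
    exact fixChain_apply_mem ρ U j (Subgroup.le_normalizer u.2) hv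
  have : Nontrivial (V ⧸ fixChain ρ U j) := Submodule.Quotient.nontrivial_iff.mpr h
  have : Finite (V ⧸ fixChain ρ U j) :=
    Finite.of_surjective (Submodule.Quotient.mk : V → V ⧸ fixChain ρ U j)
      (Submodule.Quotient.mk_surjective _)
  obtain ⟨x, hx0, hx⟩ := exists_ne_zero_fixed_of_isPGroup p hU
    (ρU.quotient (fixChain ρ U j) hinv)
  obtain ⟨v, rfl⟩ := Submodule.Quotient.mk_surjective _ x
  have hv : v ∈ fixChain ρ U (j + 1) := by
    rw [mem_fixChain_succ]
    intro u hu
    have := hx ⟨u, hu⟩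
    rw [Representation.quotient_apply, Submodule.mapQ_apply] at this
    rw [← sub_eq_zero, ← Submodule.Quotient.mk_sub, Submodule.Quotient.mk_eq_zero] at this
    exact this
  rw [← heq] at hv
  exact hx0 ((Submodule.Quotient.mk_eq_zero _).mpr hv)

theorem le_finrank_fixChain (p : ℕ) [Fact p.Prime] [CharP F p] [Finite V] [FiniteDimensional F V]
    (ρ : Representation F G V) (U : Subgroup G) (hU : IsPGroup p U) (j : ℕ)
    (h : ∀ i < j, fixChain ρ U i ≠ ⊤) : j ≤ Module.finrank F (fixChain ρ U j) := by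
  induction j with
  | zero => exact Nat.zero_le _
  | succ j ih =>
    have h1 := ih (fun i hi => h i (Nat.lt_succ_of_lt hi))
    have h2 := Submodule.finrank_lt_finrank_of_lt
      (fixChain_lt_succ p ρ U hU j (h j (Nat.lt_succ_self j)))
    omega

theorem exists_fixChain_eq_top (p : ℕ) [Fact p.Prime] [CharP F p] [Finite V]
    [FiniteDimensional F V] (ρ : Representation F G V) (U : Subgroup G) (hU : IsPGroup p U) :
    ∃ j, fixChain ρ U j = ⊤ := by
  by_contra hcon
  push Not at hcon
  have h1 := le_finrank_fixChain p ρ U hU (Module.finrank F V + 1) (fun i _ => hcon i)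
  have h2 := Submodule.finrank_le (fixChain ρ U (Module.finrank F V + 1))
  omega

/-- The flag form of the Borel–Tits property for a linear representation: a `p`-subgroup `U`
acting non-trivially in characteristic `p` stabilises a proper flag on which it acts unipotently,
and the flag is stabilised by the normaliser of `U`. -/
theorem exists_flag_of_isPGroup (p : ℕ) [Fact p.Prime] [CharP F p] [Finite V]
    [FiniteDimensional F V] (ρ : Representation F G V) (U : Subgroup G) (hU : IsPGroup p U)
    (hne : ∃ u ∈ U, ρ u ≠ 1) :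
    ∃ (k : ℕ) (W : Fin (k + 2) → Submodule F V), 1 ≤ k ∧ StrictMono W ∧ W 0 = ⊥ ∧
      W (Fin.last (k + 1)) = ⊤ ∧
      (∀ g ∈ Subgroup.normalizer (U : Set G), ∀ i, (W i).map (ρ g) = W i) ∧
      (∀ u ∈ U, ∀ i : Fin (k + 1), ∀ v ∈ W i.succ, ρ u v - v ∈ W (Fin.castSucc i)) := by
  classical
  have hex := exists_fixChain_eq_top p ρ U hU
  have hm := Nat.find_spec hex
  have hmin : ∀ i < Nat.find hex, fixChain ρ U i ≠ ⊤ := fun i hi => Nat.find_min hex hi
  -- `W 1 ≠ ⊤`
  have h1 : fixChain ρ U 1 ≠ ⊤ := by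
    intro htop
    obtain ⟨u, hu, hρ⟩ := hne
    apply hρ
    ext v
    have hv : v ∈ fixChain ρ U 1 := htop ▸ Submodule.mem_top
    rw [mem_fixChain_succ] at hv
    have := hv u hu
    rw [fixChain_zero, Submodule.mem_bot, sub_eq_zero] at this
    rw [this, Module.End.one_apply]
  have h0 : fixChain ρ U 0 ≠ ⊤ := by
    intro htop
    apply h1
    exact top_le_iff.mp (htop ▸ fixChain_le_succ ρ U 0)
  have hm2 : 2 ≤ Nat.find hex := by
    by_contra hlt
    rw [not_le] at hlt
    interval_cases hfind : Nat.find hex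
    · exact h0 hm
    · exact h1 hm
  obtain ⟨k, hk⟩ : ∃ k, Nat.find hex = k + 1 := ⟨Nat.find hex - 1, by omega⟩
  refine ⟨k, fun i => fixChain ρ U i.val, by omega, ?_, rfl, ?_, ?_, ?_⟩
  · rw [Fin.strictMono_iff_lt_succ]
    intro i
    simp only [Fin.val_castSucc, Fin.val_succ]
    exact fixChain_lt_succ p ρ U hU i.val (hmin _ (by have := i.isLt; omega))
  · simp only [Fin.val_last]
    rw [← hk]
    exact hm
  · intro g hg i
    exact fixChain_map_eq ρ U i.val hg
  · intro u hu i v hv
    simp only [Fin.val_succ] at hv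
    rw [mem_fixChain_succ] at hv
    simpa using hv u hu

end Cfsg.Agent.Lib.Helper14
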