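import Mathlib
import Cfsg.Agent.Lib.Helper27.GGDefs

/-!
# S2318 leaf B6 (helper14): `ℓ(w₀ w) + ℓ(w) = ℓ(w₀)` in the Weyl group of a finite (B,N)-pair
-/

set_option autoImplicit false

namespace Cfsg.Agent.Lib.Helper14.GG

open Cfsg Cfsg.Agent.Lib.Helper3.BN Cfsg.Agent.Lib.Helper3.WordLen Cfsg.Agent.Lib.Helper6.BNSt
open Cfsg.Agent.Lib.Helper6.CoxRed Cfsg.Agent.Lib.Helper27.GG

variable {G : Type*} [Group G] [Finite G]

/-- **B6**: `ℓ(w₀ w) + ℓ(w) = ℓ(w₀)` -/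
theorem len_w0_mul (P : Cfsg.BNPair G) (w : W P) :
    len (Sbar P) (w0 P * w) + len (Sbar P) w = len (Sbar P) (w0 P) := by
  have h := len_eq_add_of_all_descents (Sbar_sq P) (Sbar_closure P) (Sbar_len_ne P) (Sbar_exch P)
    (w0_left P) _ (w0 P * w) rfl
  rw [mul_inv_rev, inv_mul_cancel_right, len_inv (Sbar_sq P) (Sbar_closure P)] at h
  exact h.symm

end Cfsg.Agent.Lib.Helper14.GG
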