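import Mathlib
import Cfsg.Agent.Lib.Helper27.GGDefs

/-!
# S2318 leaf D1 (helper14): a `(ψ, μ)`-equivariant function is supported on the big cell `U n₀ B`
-/

set_option autoImplicit false

namespace Cfsg.Agent.Lib.Helper14.GG

open Cfsg Cfsg.Agent.Lib.Helper3.BN Cfsg.Agent.Lib.Helper3.WordLen Cfsg.Agent.Lib.Helper6.BNSt
open Cfsg.Agent.Lib.Helper6.CoxRed Cfsg.Agent.Lib.Helper27.GG
open scoped ComplexConjugate

variable {G : Type*} [Group G] [Finite G] {P : Cfsg.BNPair G} {U : Subgroup G} {q : ℕ}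

/-- **D1**: a function with `f(u g b) = ψ(u) μ(b) f(g)` (`ψ` a linear character of `U` nontrivial on
every `X i`, `μ` trivial on `U`) vanishing at a representative of the longest element vanishes
identically. -/
theorem gg_eq_zero (R : SplitBN P U q) (ψ : U →* ℂˣ)
    (hψ : ∀ i, ∃ x : U, (x : G) ∈ R.X i ∧ ψ x ≠ 1) (μ : G → ℂ) (hμ : ∀ u ∈ U, μ u = 1)
    (f : G → ℂ) (hf : ∀ (u : U) (g : G), ∀ b ∈ P.B, f ((u : G) * g * b) = (ψ u : ℂ) * μ b * f g)
    (n₀ : G) (hn₀ : n₀ ∈ P.N) (hw : mkW P n₀ hn₀ = w0 P) (h0 : f n₀ = 0) : ∀ g, f g = 0 := by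
  -- Step 1: `f` vanishes on `N`
  have hN : ∀ n (hn : n ∈ P.N), f n = 0 := by
    intro n hn
    by_cases hcase : mkW P n hn = w0 P
    · have hb : n₀⁻¹ * n ∈ P.B := (mkW_eq_iff P hn₀ hn).1 (hw.trans hcase.symm)
      have h1 := hf 1 n₀ _ hb
      have e : ((1 : U) : G) * n₀ * (n₀⁻¹ * n) = n := by
        rw [Subgroup.coe_one]; group
      rw [e, h0, mul_zero] at h1
      exact h1
    · have hex : ¬ ∀ s ∈ Sbar P, len (Sbar P) (s * mkW P n hn) < len (Sbar P) (mkW P n hn) :=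
        fun h => hcase (eq_w0_of_left P h)
      push Not at hex
      obtain ⟨s, hs, hle⟩ := hex
      obtain ⟨s', hs', rfl⟩ := hs
      have hrange : s' ∈ Set.range R.sOf := by rw [← R.hS]; exact hs'
      obtain ⟨i, rfl⟩ := hrange
      have hne := len_ne P hs' (w := mkW P n hn)
      have hlt : len (Sbar P) (mkW P n hn) <
          len (Sbar P) (sb P (R.sOf i) hs' * mkW P n hn) := by
        have hle' : len (Sbar P) (mkW P n hn) ≤
            len (Sbar P) (sb P (R.sOf i) hs' * mkW P n hn) := hle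
        omega
      obtain ⟨x, hxX, hx1⟩ := hψ i
      have hU := R.hpos i hs' n hn hlt x hxX
      have e1 := hf x n 1 P.B.one_mem
      have e2 := hf 1 n (n⁻¹ * (x : G) * n) (R.hUB hU)
      have e3 : ((1 : U) : G) * n * (n⁻¹ * (x : G) * n) = (x : G) * n * 1 := by
        rw [Subgroup.coe_one]; group
      rw [e3, e1, hμ 1 U.one_mem, hμ _ hU, map_one, Units.val_one] at e2
      simp only [mul_one, one_mul] at e2
      have hx1' : (ψ x : ℂ) ≠ 1 := by
        intro h
        exact hx1 (Units.ext h)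
      have e4 : ((ψ x : ℂ) - 1) * f n = 0 := by
        rw [sub_mul, one_mul, e2, sub_self]
      rcases mul_eq_zero.1 e4 with h | h
      · exact absurd (sub_eq_zero.1 h) hx1'
      · exact h
  -- Step 2: Bruhat decomposition
  intro g
  obtain ⟨n, hn, hg⟩ := exists_dc P g
  obtain ⟨b, hb, b', hb', rfl⟩ := (mem_dc P).1 hg
  obtain ⟨u, hu, h, hh, rfl⟩ := R.hBUH b hb
  have hhn : h * n ∈ P.N := P.N.mul_mem (Subgroup.mem_inf.1 hh).2 hn
  have h1 := hf ⟨u, hu⟩ (h * n) b' hb'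
  have e : ((⟨u, hu⟩ : U) : G) * (h * n) * b' = u * h * n * b' := by
    show u * (h * n) * b' = u * h * n * b'
    group
  rw [e, hN _ hhn, mul_zero] at h1
  exact h1

end Cfsg.Agent.Lib.Helper14.GG
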