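import Mathlib

/-!
# S2318, abstract core for leaf C10 (helper14): a linear character of `U` that is nontrivial on each
member of a family of abelian subgroups `X i` with normal complements `Y i` in `U`
(`U = Y i ⋊ X i`, `X j ≤ Y i` for `j ≠ i`).
-/

set_option autoImplicit false

namespace Cfsg.Agent.Lib.Helper14.GG

variable {G : Type*} [Group G]

/-- a nontrivial finite commutative group has a nontrivial complex linear character -/
theorem exists_complex_char_ne_one {A : Type*} [CommGroup A] [Finite A] {a : A} (ha : a ≠ 1) :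
    ∃ φ : A →* ℂˣ, φ a ≠ 1 := by
  have : NeZero (Monoid.exponent A) := ⟨Monoid.exponent_ne_zero_of_finite⟩
  exact CommGroup.exists_apply_ne_one_of_hasEnoughRootsOfUnity A ℂ ha

section proj

variable (U X Y : Subgroup G)
  (hnorm : ∀ x ∈ X, ∀ y ∈ Y, x * y * x⁻¹ ∈ Y)
  (hXY : ∀ u ∈ U, ∃ y ∈ Y, ∃ x ∈ X, u = y * x)
  (hinf : X ⊓ Y = ⊥)

include hXY in
theorem exists_xpart (u : U) : ∃ x : X, (u : G) * (x : G)⁻¹ ∈ Y := by
  obtain ⟨y, hy, x, hx, e⟩ := hXY u u.2
  refine ⟨⟨x, hx⟩, ?_⟩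
  rw [e]
  simpa using hy

include hinf in
theorem xpart_unique (u : G) (x x' : X) (h : u * (x : G)⁻¹ ∈ Y) (h' : u * (x' : G)⁻¹ ∈ Y) :
    x = x' := by
  have h1 : (x : G) * (x' : G)⁻¹ ∈ Y := by
    have := Y.mul_mem (Y.inv_mem h) h'
    have e : (u * (x : G)⁻¹)⁻¹ * (u * (x' : G)⁻¹) = (x : G) * (x' : G)⁻¹ := by group
    rwa [e] at this
  have h2 : (x : G) * (x' : G)⁻¹ ∈ X := X.mul_mem x.2 (X.inv_mem x'.2)
  have h3 : (x : G) * (x' : G)⁻¹ ∈ X ⊓ Y := ⟨h2, h1⟩
  rw [hinf, Subgroup.mem_bot] at h3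
  apply Subtype.ext
  exact mul_inv_eq_one.1 h3

/-- the projection `U → X` along `Y` -/
noncomputable def xproj : U →* X where
  toFun u := Classical.choose (exists_xpart U X Y hXY u)
  map_one' := by
    apply xpart_unique X Y hinf (1 : G)
    · have := Classical.choose_spec (exists_xpart U X Y hXY 1)
      simpa using this
    · simp
  map_mul' := by
    intro u u'
    have h1 := Classical.choose_spec (exists_xpart U X Y hXY u)
    have h2 := Classical.choose_spec (exists_xpart U X Y hXY u')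
    have h3 := Classical.choose_spec (exists_xpart U X Y hXY (u * u'))
    set a := Classical.choose (exists_xpart U X Y hXY u)
    set a' := Classical.choose (exists_xpart U X Y hXY u')
    apply xpart_unique X Y hinf ((u : G) * (u' : G))
    · simpa using h3
    · have h4 : (a : G) * ((u' : G) * (a' : G)⁻¹) * (a : G)⁻¹ ∈ Y := hnorm _ a.2 _ h2
      have h5 := Y.mul_mem h1 h4
      have e : (u : G) * (a : G)⁻¹ * ((a : G) * ((u' : G) * (a' : G)⁻¹) * (a : G)⁻¹) =
          (u : G) * (u' : G) * ((a * a' : X) : G)⁻¹ := by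
        rw [Subgroup.coe_mul]; group
      rwa [e] at h5

theorem xproj_spec (u : U) : (u : G) * ((xproj U X Y hnorm hXY hinf u : X) : G)⁻¹ ∈ Y :=
  Classical.choose_spec (exists_xpart U X Y hXY u)

theorem xproj_of_mem_X (u : U) (hu : (u : G) ∈ X) :
    xproj U X Y hnorm hXY hinf u = ⟨u, hu⟩ := by
  apply xpart_unique X Y hinf (u : G)
  · exact xproj_spec U X Y hnorm hXY hinf u
  · simp

theorem xproj_of_mem_Y (u : U) (hu : (u : G) ∈ Y) :
    xproj U X Y hnorm hXY hinf u = 1 := by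
  apply xpart_unique X Y hinf (u : G)
  · exact xproj_spec U X Y hnorm hXY hinf u
  · simpa using hu

end proj

/-- **abstract C10**: if `U = Y i ⋊ X i` for every `i` (finitely many), `X j ≤ Y i` for `j ≠ i`, and
every `X i` is a nontrivial finite abelian group, then `U` has a linear character which is
nontrivial on every `X i`. -/
theorem exists_char_nontrivial_on_family {ι : Type*} [Finite ι] (U : Subgroup G)
    (X Y : ι → Subgroup G) (hX : ∀ i, X i ≤ U)
    (hnorm : ∀ i, ∀ x ∈ X i, ∀ y ∈ Y i, x * y * x⁻¹ ∈ Y i)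
    (hXY : ∀ i, ∀ u ∈ U, ∃ y ∈ Y i, ∃ x ∈ X i, u = y * x)
    (hinf : ∀ i, X i ⊓ Y i = ⊥)
    (hle : ∀ i j, i ≠ j → X j ≤ Y i)
    (hcomm : ∀ i, ∀ a ∈ X i, ∀ b ∈ X i, a * b = b * a)
    (hfin : ∀ i, Finite (X i))
    (hnt : ∀ i, ∃ a ∈ X i, a ≠ 1) :
    ∃ ψ : U →* ℂˣ, ∀ i, ∃ x : U, (x : G) ∈ X i ∧ ψ x ≠ 1 := by
  classical
  have := Fintype.ofFinite ι
  -- characters of the `X i`
  have hχ : ∀ i, ∃ a : X i, ∃ φ : X i →* ℂˣ, φ a ≠ 1 := by
    intro i
    obtain ⟨a, ha, ha1⟩ := hnt i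
    letI : CommGroup (X i) :=
      { (inferInstance : Group (X i)) with
        mul_comm := fun a b => Subtype.ext (hcomm i a a.2 b b.2) }
    haveI := hfin i
    have hne : (⟨a, ha⟩ : X i) ≠ 1 := by
      intro h
      exact ha1 (congrArg Subtype.val h)
    obtain ⟨φ, hφ⟩ := exists_complex_char_ne_one hne
    exact ⟨⟨a, ha⟩, φ, hφ⟩
  choose a φ hφ using hχ
  let ψi : ι → (U →* ℂˣ) := fun i =>
    (φ i).comp (xproj U (X i) (Y i) (hnorm i) (hXY i) (hinf i))
  refine ⟨∏ i, ψi i, fun i => ⟨⟨(a i : G), hX i (a i).2⟩, (a i).2, ?_⟩⟩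
  rw [MonoidHom.finset_prod_apply, Finset.prod_eq_single i]
  · show φ i (xproj U (X i) (Y i) (hnorm i) (hXY i) (hinf i) ⟨(a i : G), hX i (a i).2⟩) ≠ 1
    rw [xproj_of_mem_X U (X i) (Y i) (hnorm i) (hXY i) (hinf i) _ (a i).2]
    exact hφ i
  · intro j _ hji
    show φ j (xproj U (X j) (Y j) (hnorm j) (hXY j) (hinf j) ⟨(a i : G), hX i (a i).2⟩) = 1
    rw [xproj_of_mem_Y U (X j) (Y j) (hnorm j) (hXY j) (hinf j) _ (hle j i hji (a i).2), map_one]
  · intro h
    exact absurd (Finset.mem_univ i) h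

end Cfsg.Agent.Lib.Helper14.GG
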