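import Mathlib
import Cfsg.Agent.Lib.Helper18.Glaub2Defs
import Cfsg.Prelude.Def_Solvable
import Cfsg.Prelude.Def_CaseTheorems
import Cfsg.Agent.Lib.Helper12.ThompsonNPC

set_option autoImplicit false

/-!
# S4385 (GLAUB2 market, planner helper18), leaf A1 (helper14, twin): if `M / O₂(M) ≅ D_n` (`n ≥ 2`) then `n` is odd
and `|M| = 2 n |O₂(M)|`.
-/

namespace Cfsg.Agent.Lib.Helper14.GLAUB2A1

open Cfsg

/-- for `n = k + k`, `k ≥ 1`, the rotation `r k` is a central involution of `D_n`. -/
theorem dihedral_central_invol (n k : ℕ) (hk : n = k + k) (hk1 : 1 ≤ k) :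
    (DihedralGroup.r (k : ZMod n) : DihedralGroup n) ≠ 1 ∧
    (DihedralGroup.r (k : ZMod n) : DihedralGroup n) * DihedralGroup.r (k : ZMod n) = 1 ∧
    ∀ g : DihedralGroup n, g * DihedralGroup.r (k : ZMod n) = DihedralGroup.r (k : ZMod n) * g := by
  have hkk : (k : ZMod n) + (k : ZMod n) = 0 := by
    rw [← Nat.cast_add, ← hk, ZMod.natCast_self]
  have hk0 : (k : ZMod n) ≠ 0 := by
    intro h
    rw [ZMod.natCast_eq_zero_iff] at h
    have := Nat.le_of_dvd (by omega) h
    omega
  refine ⟨?_, ?_, ?_⟩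
  · rw [DihedralGroup.one_def]
    intro h
    exact hk0 (DihedralGroup.r.inj h)
  · rw [DihedralGroup.r_mul_r, hkk, DihedralGroup.one_def]
  · intro g
    cases g with
    | r i => rw [DihedralGroup.r_mul_r, DihedralGroup.r_mul_r, add_comm]
    | sr i =>
      rw [DihedralGroup.sr_mul_r, DihedralGroup.r_mul_sr]
      congr 1
      linear_combination hkk

/-- LEAF A1 (`n` is odd, order formula). -/
theorem dihedral_quotient_data {M : Type*} [Group M] [Finite M] (n : ℕ) (hn : 2 ≤ n)
    (hD : Nonempty (M ⧸ Cfsg.pCore 2 M ≃* DihedralGroup n)) :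
    Odd n ∧ Nat.card M = 2 * n * Nat.card ↥(Cfsg.pCore 2 M) := by
  obtain ⟨e⟩ := hD
  have : Fact (Nat.Prime 2) := ⟨Nat.prime_two⟩
  constructor
  · by_contra hodd
    rw [Nat.not_odd_iff_even] at hodd
    obtain ⟨k, hk⟩ := hodd
    obtain ⟨hz1, hz2, hzc⟩ := dihedral_central_invol n k hk (by omega)
    set z : DihedralGroup n := DihedralGroup.r (k : ZMod n) with hz
    -- the normal subgroup `⟨z⟩` of `D_n`
    have hsq : ∀ g ∈ Subgroup.zpowers z, g * g = 1 := by
      intro g hg
      obtain ⟨j, rfl⟩ := Subgroup.mem_zpowers_iff.mp hg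
      rw [← (Commute.refl z).mul_zpow, hz2, one_zpow]
    have hcomm : ∀ g ∈ Subgroup.zpowers z, ∀ h : DihedralGroup n, h * g = g * h := by
      intro g hg h
      obtain ⟨j, rfl⟩ := Subgroup.mem_zpowers_iff.mp hg
      have hc : Commute h z := hzc h
      exact (hc.zpow_right j).eq
    have hZn : (Subgroup.zpowers z).Normal := by
      refine ⟨fun g hg h => ?_⟩
      have : h * g * h⁻¹ = g := by
        rw [hcomm g hg h]
        group
      rw [this]
      exact hg
    -- pull back to `M / O₂(M)`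
    have hNbn : ((Subgroup.zpowers z).comap e.toMonoidHom).Normal := hZn.comap _
    have hNbp : IsPGroup 2 ↥((Subgroup.zpowers z).comap e.toMonoidHom) := by
      intro g
      refine ⟨1, ?_⟩
      apply Subtype.ext
      have hg : e (g : M ⧸ Cfsg.pCore 2 M) ∈ Subgroup.zpowers z := g.2
      have h2 := hsq _ hg
      rw [← map_mul] at h2
      have h3 : (g : M ⧸ Cfsg.pCore 2 M) * (g : M ⧸ Cfsg.pCore 2 M) = 1 := by
        apply e.injective
        rw [h2, map_one]
      rw [pow_one, pow_two]
      exact h3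
    have hbot := Cfsg.Agent.Lib.Helper12.eq_bot_of_normal_isPGroup_quotient_pCore
      ((Subgroup.zpowers z).comap e.toMonoidHom) hNbp
    have hmem : e.symm z ∈ (Subgroup.zpowers z).comap e.toMonoidHom := by
      rw [Subgroup.mem_comap]
      change e (e.symm z) ∈ Subgroup.zpowers z
      rw [MulEquiv.apply_symm_apply]
      exact Subgroup.mem_zpowers z
    rw [hbot, Subgroup.mem_bot] at hmem
    apply hz1
    have := congrArg e hmem
    rwa [MulEquiv.apply_symm_apply, map_one] at this
  · have h1 := Subgroup.card_eq_card_quotient_mul_card_subgroup (Cfsg.pCore 2 M)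
    rw [Nat.card_congr e.toEquiv, DihedralGroup.nat_card] at h1
    exact h1
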