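import Mathlib
import Cfsg.Agent.Lib.Helper18.Glaub2Defs
import Cfsg.Agent.Lib.Helper20.SIMS2S8

set_option autoImplicit false

/-!
# S4385 (GLAUB2 market, planner helper18), leaf DS8 (helper14, twin): port of helper20's SIMS2-S8
from `TSData` to `PData 2`: a subgroup of order 8 of `⟨x_0, ..., x_4⟩` avoiding `x_2`.
-/

namespace Cfsg.Agent.Lib.Helper14.GLAUB2DS8

open Cfsg Cfsg.Agent.Lib.Helper29.TWPair Cfsg.Agent.Lib.Helper18.Sims3 Cfsg.Agent.Lib.Helper18.Glaub MulAction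

variable {G : Type*} [Group G]

/-- `g (cm (x i) (x j)) g⁻¹ = cm (x (i+1)) (x (j+1))` -/
theorem cm_shift_pd {p : ℕ} {g : G} {x : ℕ → G} {n : ℕ} (h : PData p g x n) (i j : ℕ) :
    g * cm (x i) (x j) * g⁻¹ = cm (x (i + 1)) (x (j + 1)) := by
  unfold cm
  rw [← h.shift i, ← h.shift j]
  group

/-- LEAF DS8 (port of SIMS2-S8). -/
theorem exists_card_eight_d [Finite G] {g : G} {x : ℕ → G} (h : PData 2 g x 4)
    (hsq : ∀ i, x i * x i = 1)
    (hcm : ∀ i j, i < j → j < i + 4 → cm (x i) (x j) ∈ Hx x (i + 1) (j - 1))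
    (hl : CommLt x 3) (hnc : ¬ Commute (x 0) (x 3)) :
    ∃ S : Subgroup G, S ≤ Hx x 0 4 ∧ Nat.card ↥S = 8 ∧ x 2 ∉ S := by
  have hcomm : ∀ s t : ℕ, s < t + 3 → t < s + 3 → x s * x t = x t * x s := fun s t h1 h2 =>
    Cfsg.Agent.Lib.Helper29.SIMSBase.commLt_comm hl ⟨by omega, by omega, h1, h2⟩
  set c := cm (x 0) (x 3) with hcdef
  have hc12 : c ∈ Hx x 1 2 := by
    have := hcm 0 3 (by norm_num) (by norm_num)
    simpa using this
  have hc1 : c ≠ 1 := fun h1 =>
    hnc ((Cfsg.Agent.Lib.Helper23.SIMSAux.cm_eq_one_iff _ _).mp h1)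
  have hcc : c * c = 1 :=
    Cfsg.Agent.Lib.Helper29.SIMSBase.Hx_sq hl hsq (by norm_num) c hc12
  have hceq : c = x 0 * x 3 * x 0 * x 3 :=
    Cfsg.Agent.Lib.Helper29.SIMSBase.cm_of_sq (hsq 0) (hsq 3)
  -- c commutes with x 0, x 2, x 3
  have hc0 : c * x 0 = x 0 * c :=
    Cfsg.Agent.Lib.Helper29.SIMSBase.Hx_comm hl (i := 0) (j := 2) (by norm_num) c
      (Cfsg.Agent.Lib.Helper29.SIMSBase.Hx_mono (by norm_num) le_rfl hc12) (x 0)
      (Cfsg.Agent.Lib.Helper29.SIMSBase.mem_Hx le_rfl (by norm_num))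
  have hc3 : c * x 3 = x 3 * c :=
    Cfsg.Agent.Lib.Helper29.SIMSBase.Hx_comm hl (i := 1) (j := 3) (by norm_num) c
      (Cfsg.Agent.Lib.Helper29.SIMSBase.Hx_mono le_rfl (by norm_num) hc12) (x 3)
      (Cfsg.Agent.Lib.Helper29.SIMSBase.mem_Hx (by norm_num) le_rfl)
  have hc2 : c * x 2 = x 2 * c :=
    Cfsg.Agent.Lib.Helper29.SIMSBase.Hx_comm hl (i := 1) (j := 2) (by norm_num) c hc12 (x 2)
      (Cfsg.Agent.Lib.Helper29.SIMSBase.mem_Hx (by norm_num) le_rfl)
  -- c ∈ {x 1, x 2, x 1 * x 2}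
  have hcases : c = x 1 ∨ c = x 2 ∨ c * x 2 = x 1 := by
    have h12 : Hx x 1 2 = Hx x 1 1 ⊔ Subgroup.zpowers (x 2) :=
      (Cfsg.Agent.Lib.Helper29.SIMSBase.Hx_succ (by norm_num)).symm
    have hcomm12 := Cfsg.Agent.Lib.Helper29.SIMSBase.Hx_comm hl (i := 1) (j := 2) (by norm_num)
    rw [h12] at hcomm12 hc12
    have := Cfsg.Agent.Lib.Helper29.SIMSBase.mem_or_mul_mem (Hx x 1 1) (x 2) (hsq 2) hcomm12 c hc12
    rw [Cfsg.Agent.Lib.Helper18.SIMSL1.Hx_self] at this
    rcases this with h1 | h1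
    · rcases Cfsg.Agent.Lib.Helper20.SIMS2S8.eq_one_or_eq_of_mem_zpowers (hsq 1) h1 with h2 | h2
      · exact absurd h2 hc1
      · exact Or.inl h2
    · rcases Cfsg.Agent.Lib.Helper20.SIMS2S8.eq_one_or_eq_of_mem_zpowers (hsq 1) h1 with h2 | h2
      · right; left
        have : c = (x 2)⁻¹ := eq_inv_of_mul_eq_one_left h2
        rw [this, Cfsg.Agent.Lib.Helper29.SIMSBase.inv_of_sq (hsq 2)]
      · exact Or.inr (Or.inr h2)
  by_cases hcx2 : c = x 2
  · -- mirror case: S = ⟨x 3, x 4, x 1⟩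
    have hc' : cm (x 1) (x 4) = x 3 := by
      have h1 := cm_shift_pd h 0 3
      rw [← hcdef, hcx2, h.shift 2] at h1
      simpa using h1.symm
    have hc'eq : x 1 * x 4 * x 1 * x 4 = x 3 := by
      rw [← Cfsg.Agent.Lib.Helper29.SIMSBase.cm_of_sq (hsq 1) (hsq 4)]
      exact hc'
    have hrel : x 1 * x 4 * (x 1)⁻¹ = x 4 * x 3 := by
      rw [Cfsg.Agent.Lib.Helper29.SIMSBase.inv_of_sq (hsq 1)]
      have h34 : x 4 * x 3 = x 3 * x 4 := hcomm 4 3 (by norm_num) (by norm_num)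
      rw [h34, ← hc'eq]
      calc x 1 * x 4 * x 1 = x 1 * x 4 * x 1 * (x 4 * x 4) := by rw [hsq 4, mul_one]
        _ = x 1 * x 4 * x 1 * x 4 * x 4 := by group
    have hM : Subgroup.closure ({x 3, x 4, x 1} : Set G) ⊔ Subgroup.zpowers (x 2) = Hx x 1 4 := by
      apply le_antisymm
      · refine sup_le ?_ ?_
        · rw [Subgroup.closure_le]
          intro s hs
          rcases hs with hs | hs | hs
          · rw [hs]; exact Cfsg.Agent.Lib.Helper29.SIMSBase.mem_Hx (by norm_num) (by norm_num)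
          · rw [hs]; exact Cfsg.Agent.Lib.Helper29.SIMSBase.mem_Hx (by norm_num) (by norm_num)
          · rw [Set.mem_singleton_iff] at hs
            rw [hs]; exact Cfsg.Agent.Lib.Helper29.SIMSBase.mem_Hx (by norm_num) (by norm_num)
        · rw [Subgroup.zpowers_le]
          exact Cfsg.Agent.Lib.Helper29.SIMSBase.mem_Hx (by norm_num) (by norm_num)
      · rw [Cfsg.Agent.Lib.Helper29.SIMSBase.Hx_le_iff]
        intro k hk1 hk2
        have hk : k = 1 ∨ k = 2 ∨ k = 3 ∨ k = 4 := by omega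
        rcases hk with rfl | rfl | rfl | rfl
        · exact Subgroup.mem_sup_left (Subgroup.subset_closure (by simp))
        · exact Subgroup.mem_sup_right (Subgroup.mem_zpowers _)
        · exact Subgroup.mem_sup_left (Subgroup.subset_closure (by simp))
        · exact Subgroup.mem_sup_left (Subgroup.subset_closure (by simp))
    have hMcard : Nat.card ↥(Subgroup.closure ({x 3, x 4, x 1} : Set G) ⊔ Subgroup.zpowers (x 2))
        = 16 := by
      rw [hM, h.card 1 4 (by norm_num) (by norm_num)]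
      norm_num
    obtain ⟨h8, hz⟩ := Cfsg.Agent.Lib.Helper20.SIMS2S8.card_eight (a := x 4) (b := x 1) (c := x 3) (z := x 2) (hsq 4) (hsq 1)
      (hsq 3) (hsq 2) (hcomm 3 4 (by norm_num) (by norm_num)) (hcomm 3 1 (by norm_num) (by norm_num))
      hrel (hcomm 4 2 (by norm_num) (by norm_num)) (hcomm 1 2 (by norm_num) (by norm_num))
      (hcomm 3 2 (by norm_num) (by norm_num)) hMcard
    refine ⟨_, ?_, h8, hz⟩
    rw [Subgroup.closure_le]
    intro s hs
    rcases hs with hs | hs | hs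
    · rw [hs]; exact Cfsg.Agent.Lib.Helper29.SIMSBase.mem_Hx (by norm_num) (by norm_num)
    · rw [hs]; exact Cfsg.Agent.Lib.Helper29.SIMSBase.mem_Hx (by norm_num) (by norm_num)
    · rw [Set.mem_singleton_iff] at hs
      rw [hs]; exact Cfsg.Agent.Lib.Helper29.SIMSBase.mem_Hx (by norm_num) (by norm_num)
  · -- main case: S = ⟨c, x 0, x 3⟩
    have hrel : x 3 * x 0 * (x 3)⁻¹ = x 0 * c := by
      rw [Cfsg.Agent.Lib.Helper29.SIMSBase.inv_of_sq (hsq 3), hceq]
      calc x 3 * x 0 * x 3 = (x 0 * x 0) * x 3 * x 0 * x 3 := by rw [hsq 0, one_mul]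
        _ = x 0 * (x 0 * x 3 * x 0 * x 3) := by group
    have hcH : c ∈ Hx x 0 3 :=
      Cfsg.Agent.Lib.Helper29.SIMSBase.Hx_mono (by norm_num) (by norm_num) hc12
    have hM : Subgroup.closure ({c, x 0, x 3} : Set G) ⊔ Subgroup.zpowers (x 2) = Hx x 0 3 := by
      apply le_antisymm
      · refine sup_le ?_ ?_
        · rw [Subgroup.closure_le]
          intro s hs
          rcases hs with hs | hs | hs
          · rw [hs]; exact hcH
          · rw [hs]; exact Cfsg.Agent.Lib.Helper29.SIMSBase.mem_Hx (by norm_num) (by norm_num)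
          · rw [Set.mem_singleton_iff] at hs
            rw [hs]; exact Cfsg.Agent.Lib.Helper29.SIMSBase.mem_Hx (by norm_num) (by norm_num)
        · rw [Subgroup.zpowers_le]
          exact Cfsg.Agent.Lib.Helper29.SIMSBase.mem_Hx (by norm_num) (by norm_num)
      · rw [Cfsg.Agent.Lib.Helper29.SIMSBase.Hx_le_iff]
        intro k hk1 hk2
        have hk : k = 0 ∨ k = 1 ∨ k = 2 ∨ k = 3 := by omega
        have hcS : c ∈ Subgroup.closure ({c, x 0, x 3} : Set G) ⊔ Subgroup.zpowers (x 2) :=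
          Subgroup.mem_sup_left (Subgroup.subset_closure (by simp))
        have h2S : x 2 ∈ Subgroup.closure ({c, x 0, x 3} : Set G) ⊔ Subgroup.zpowers (x 2) :=
          Subgroup.mem_sup_right (Subgroup.mem_zpowers _)
        rcases hk with rfl | rfl | rfl | rfl
        · exact Subgroup.mem_sup_left (Subgroup.subset_closure (by simp))
        · rcases hcases with h1 | h1 | h1
          · rw [← h1]; exact hcS
          · exact absurd h1 hcx2
          · rw [← h1]; exact Subgroup.mul_mem _ hcS h2S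
        · exact h2S
        · exact Subgroup.mem_sup_left (Subgroup.subset_closure (by simp))
    have hMcard : Nat.card ↥(Subgroup.closure ({c, x 0, x 3} : Set G) ⊔ Subgroup.zpowers (x 2))
        = 16 := by
      rw [hM, h.card 0 3 (by norm_num) (by norm_num)]
      norm_num
    obtain ⟨h8, hz⟩ := Cfsg.Agent.Lib.Helper20.SIMS2S8.card_eight (a := x 0) (b := x 3) (c := c) (z := x 2) (hsq 0) (hsq 3)
      hcc (hsq 2) hc0 hc3 hrel (hcomm 0 2 (by norm_num) (by norm_num))
      (hcomm 3 2 (by norm_num) (by norm_num)) hc2 hMcard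
    refine ⟨_, ?_, h8, hz⟩
    rw [Subgroup.closure_le]
    intro s hs
    rcases hs with hs | hs | hs
    · rw [hs]; exact Cfsg.Agent.Lib.Helper29.SIMSBase.Hx_mono (by norm_num) (by norm_num) hc12
    · rw [hs]; exact Cfsg.Agent.Lib.Helper29.SIMSBase.mem_Hx (by norm_num) (by norm_num)
    · rw [Set.mem_singleton_iff] at hs
      rw [hs]; exact Cfsg.Agent.Lib.Helper29.SIMSBase.mem_Hx (by norm_num) (by norm_num)

end Cfsg.Agent.Lib.Helper14.GLAUB2DS8
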