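import Mathlib
import Cfsg.Prelude.Def_Classical
import Cfsg.Agent.Lib.Helper14.QuadExt
import Cfsg.Agent.Lib.Helper14.OrthPlus
import Cfsg.Agent.Lib.Helper14.DihedralCrit

set_option autoImplicit false

/-!
# `GO⁻₂(q)` is dihedral of order `2(q+1)`
-/

namespace Cfsg.Agent.Lib.Helper14.GOMinus2

open QuadraticAlgebra Matrix Cfsg Cfsg.Agent.Lib.Helper14.QuadExt

variable {F : Type*} [Field F] (a b : F)

/-- The index type of the binary minus form. -/
abbrev I2 := (Fin 0 ⊕ Fin 0) ⊕ Fin 2

/-- The linear identification of `F²` with the quadratic algebra. -/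
def kap : (I2 → F) ≃ₗ[F] QuadraticAlgebra F (-b) a where
  toFun v := ⟨v (Sum.inr 0), v (Sum.inr 1)⟩
  invFun x := Sum.elim (fun i => Sum.elim (fun j => Fin.elim0 j) (fun j => Fin.elim0 j) i)
    ![x.re, x.im]
  map_add' u v := by ext <;> simp
  map_smul' c v := by ext <;> simp
  left_inv v := by
    funext i
    rcases i with i | i
    · rcases i with i | i <;> exact Fin.elim0 i
    · fin_cases i <;> simp
  right_inv x := by ext <;> simp

theorem kap_re (v : I2 → F) : (kap a b v).re = v (Sum.inr 0) := rfl

theorem kap_im (v : I2 → F) : (kap a b v).im = v (Sum.inr 1) := rfl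

theorem quad_eq_norm (v : I2 → F) :
    quadFormMinus 0 F a b v = norm (kap a b v) := by
  unfold quadFormMinus
  rw [norm_eq, kap_re, kap_im]
  simp

/-- The matrix of multiplication by `x`. -/
noncomputable def mulMat (x : QuadraticAlgebra F (-b) a) : Matrix I2 I2 F :=
  LinearMap.toMatrix' ((kap a b).symm.toLinearMap ∘ₗ LinearMap.mulLeft F x ∘ₗ (kap a b).toLinearMap)

theorem kap_mulMat_mulVec (x : QuadraticAlgebra F (-b) a) (v : I2 → F) :
    kap a b (mulMat a b x *ᵥ v) = x * kap a b v := by
  unfold mulMat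
  rw [LinearMap.toMatrix'_mulVec]
  simp

theorem kap_injective_eq {u v : I2 → F} (h : kap a b u = kap a b v) : u = v :=
  (kap a b).injective h

theorem mulMat_mul (x y : QuadraticAlgebra F (-b) a) :
    mulMat a b (x * y) = mulMat a b x * mulMat a b y := by
  rw [Matrix.ext_iff_mulVec]
  intro v
  apply kap_injective_eq a b
  rw [← Matrix.mulVec_mulVec, kap_mulMat_mulVec, kap_mulMat_mulVec, kap_mulMat_mulVec, mul_assoc]

theorem mulMat_one : mulMat a b 1 = 1 := by
  rw [Matrix.ext_iff_mulVec]
  intro v
  apply kap_injective_eq a b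
  rw [kap_mulMat_mulVec, one_mul, Matrix.one_mulVec]

/-- Multiplication matrices as a monoid hom. -/
noncomputable def mulHom : QuadraticAlgebra F (-b) a →* Matrix I2 I2 F where
  toFun := mulMat a b
  map_one' := mulMat_one a b
  map_mul' := mulMat_mul a b

/-- Conjugation as a linear map. -/
def starLin : QuadraticAlgebra F (-b) a →ₗ[F] QuadraticAlgebra F (-b) a where
  toFun := star
  map_add' := star_add
  map_smul' c x := by ext <;> simp <;> ring

/-- The matrix of the conjugation. -/
noncomputable def starMat : Matrix I2 I2 F :=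
  LinearMap.toMatrix' ((kap a b).symm.toLinearMap ∘ₗ starLin a b ∘ₗ (kap a b).toLinearMap)

theorem kap_starMat_mulVec (v : I2 → F) :
    kap a b (starMat a b *ᵥ v) = star (kap a b v) := by
  unfold starMat
  rw [LinearMap.toMatrix'_mulVec]
  simp [starLin]

theorem starMat_mul_starMat : starMat a b * starMat a b = 1 := by
  rw [Matrix.ext_iff_mulVec]
  intro v
  apply kap_injective_eq a b
  rw [← Matrix.mulVec_mulVec, kap_starMat_mulVec, kap_starMat_mulVec, star_star, Matrix.one_mulVec]

theorem starMat_mulMat_starMat (x : QuadraticAlgebra F (-b) a) :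
    starMat a b * mulMat a b x * starMat a b = mulMat a b (star x) := by
  rw [Matrix.ext_iff_mulVec]
  intro v
  apply kap_injective_eq a b
  rw [← Matrix.mulVec_mulVec, ← Matrix.mulVec_mulVec, kap_starMat_mulVec, kap_mulMat_mulVec,
    kap_starMat_mulVec, kap_mulMat_mulVec, star_mul, star_star, mul_comm]

theorem mulMat_injective : Function.Injective (mulMat a b) := by
  intro x y h
  have h1 := kap_mulMat_mulVec a b x ((kap a b).symm 1)
  rw [h, kap_mulMat_mulVec] at h1
  simpa using h1.symm

section group

variable [Fintype F] [Hab : Fact (∀ r : F, r ^ 2 ≠ -b + a * r)]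

/-- The norm-one units of the quadratic extension. -/
def U : Subgroup (QuadraticAlgebra F (-b) a)ˣ :=
  (Units.map (norm : QuadraticAlgebra F (-b) a →* F)).ker

theorem mem_U (u : (QuadraticAlgebra F (-b) a)ˣ) :
    u ∈ U a b ↔ norm (u : QuadraticAlgebra F (-b) a) = 1 := by
  unfold U
  rw [MonoidHom.mem_ker]
  constructor
  · intro h
    have := congrArg Units.val h
    simpa using this
  · intro h
    apply Units.ext
    simpa using h

/-- Rotations: multiplication by a unit, as an element of `GL`. -/
noncomputable def rot : (QuadraticAlgebra F (-b) a)ˣ →* Matrix.GeneralLinearGroup I2 F :=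
  Units.map (mulHom a b)

theorem rot_coe (u : (QuadraticAlgebra F (-b) a)ˣ) :
    ((rot a b u : Matrix.GeneralLinearGroup I2 F) : Matrix I2 I2 F)
      = mulMat a b (u : QuadraticAlgebra F (-b) a) := rfl

theorem rot_injective : Function.Injective (rot a b) := by
  intro u v h
  apply Units.ext
  apply mulMat_injective a b
  rw [← rot_coe, ← rot_coe, h]

theorem rot_mem (u : (QuadraticAlgebra F (-b) a)ˣ) (hu : u ∈ U a b) :
    rot a b u ∈ isometryGroup F (quadFormMinus 0 F a b) := by
  rw [mem_isometryGroup_iff]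
  intro v
  rw [quad_eq_norm, quad_eq_norm, rot_coe, kap_mulMat_mulVec, map_mul, (mem_U a b u).mp hu,
    one_mul]

/-- Rotations by norm-one units, as isometries. -/
noncomputable def rotU : U a b →* isometryGroup F (quadFormMinus 0 F a b) where
  toFun u := ⟨rot a b u.1, rot_mem a b u.1 u.2⟩
  map_one' := by
    apply Subtype.ext
    simp
  map_mul' u v := by
    apply Subtype.ext
    simp

theorem rotU_coe (u : U a b) :
    (((rotU a b u : isometryGroup F (quadFormMinus 0 F a b)) :
      Matrix.GeneralLinearGroup I2 F) : Matrix I2 I2 F)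
      = mulMat a b ((u : (QuadraticAlgebra F (-b) a)ˣ) : QuadraticAlgebra F (-b) a) := rfl

theorem rotU_injective : Function.Injective (rotU a b) := by
  intro u v h
  apply Subtype.ext
  apply rot_injective a b
  have := congrArg Subtype.val h
  exact this

/-- The reflection (conjugation) as an isometry. -/
noncomputable def refl : isometryGroup F (quadFormMinus 0 F a b) :=
  ⟨⟨starMat a b, starMat a b, starMat_mul_starMat a b, starMat_mul_starMat a b⟩, by
    rw [mem_isometryGroup_iff]
    intro v
    rw [quad_eq_norm, quad_eq_norm]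
    change norm (kap a b (starMat a b *ᵥ v)) = _
    rw [kap_starMat_mulVec, QuadraticAlgebra.norm_star]⟩

theorem refl_coe :
    (((refl a b : isometryGroup F (quadFormMinus 0 F a b)) :
      Matrix.GeneralLinearGroup I2 F) : Matrix I2 I2 F) = starMat a b := rfl

theorem refl_mul_refl : refl a b * refl a b = 1 := by
  apply Subtype.ext
  apply Units.ext
  exact starMat_mul_starMat a b

theorem star_eq_inv (u : U a b) :
    star ((u : (QuadraticAlgebra F (-b) a)ˣ) : QuadraticAlgebra F (-b) a)
      = (((u⁻¹ : U a b) : (QuadraticAlgebra F (-b) a)ˣ) : QuadraticAlgebra F (-b) a) := by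
  have h1 : norm ((u : (QuadraticAlgebra F (-b) a)ˣ) : QuadraticAlgebra F (-b) a) = 1 :=
    (mem_U a b u.1).mp u.2
  have h2 := algebraMap_norm_eq_mul_star ((u : (QuadraticAlgebra F (-b) a)ˣ) :
    QuadraticAlgebra F (-b) a)
  rw [h1, map_one] at h2
  have h3 : (((u⁻¹ : U a b) : (QuadraticAlgebra F (-b) a)ˣ) : QuadraticAlgebra F (-b) a)
      = ((u : (QuadraticAlgebra F (-b) a)ˣ) : QuadraticAlgebra F (-b) a)⁻¹ := by
    simp
  rw [h3]
  exact eq_inv_of_mul_eq_one_right h2.symm

theorem refl_rotU_refl (u : U a b) : refl a b * rotU a b u * refl a b = (rotU a b u)⁻¹ := by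
  rw [← map_inv]
  apply Subtype.ext
  apply Units.ext
  change starMat a b * mulMat a b _ * starMat a b = mulMat a b _
  rw [starMat_mulMat_starMat, star_eq_inv]

theorem refl_ne_rotU (u : U a b) : refl a b ≠ rotU a b u := by
  intro h
  have h1 : starMat a b = mulMat a b ((u : (QuadraticAlgebra F (-b) a)ˣ) :
      QuadraticAlgebra F (-b) a) := by
    rw [← refl_coe, h, rotU_coe]
  -- apply to 1
  have h2 := kap_starMat_mulVec a b ((kap a b).symm 1)
  rw [h1, kap_mulMat_mulVec] at h2
  simp only [LinearEquiv.apply_symm_apply, mul_one, star_one] at h2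
  -- so u = 1 and star = id
  have h3 := kap_starMat_mulVec a b ((kap a b).symm ω)
  rw [h1, kap_mulMat_mulVec, h2] at h3
  simp only [LinearEquiv.apply_symm_apply, one_mul] at h3
  exact star_omega_ne (a := a) (b := b) h3.symm

theorem card_U : Nat.card (U a b) = Fintype.card F + 1 := by
  rw [← card_norm_eq (a := a) (b := b) 1 one_ne_zero]
  apply Nat.card_congr
  refine ⟨fun u => ⟨((u : (QuadraticAlgebra F (-b) a)ˣ) : QuadraticAlgebra F (-b) a),
      (mem_U a b u.1).mp u.2⟩,
    fun x => ⟨Units.mk0 x.1 (by
      intro h0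
      have := x.2
      rw [h0, QuadraticAlgebra.norm_zero] at this
      exact zero_ne_one this), (mem_U a b _).mpr x.2⟩, ?_, ?_⟩
  · intro u
    apply Subtype.ext
    apply Units.ext
    rfl
  · intro x
    rfl

/-- Every isometry of the anisotropic binary form is a rotation or a rotation times the
reflection. -/
theorem isometry_classify (g : isometryGroup F (quadFormMinus 0 F a b)) :
    (∃ u : U a b, g = rotU a b u) ∨ (∃ u : U a b, g = rotU a b u * refl a b) := by
  classical
  set G : Matrix I2 I2 F := ((g : Matrix.GeneralLinearGroup I2 F) : Matrix I2 I2 F) with hG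
  have hiso : ∀ v, norm (kap a b (G *ᵥ v)) = norm (kap a b v) := by
    intro v
    rw [← quad_eq_norm, ← quad_eq_norm]
    exact (mem_isometryGroup_iff _ g.1).mp g.2 v
  set gh : QuadraticAlgebra F (-b) a → QuadraticAlgebra F (-b) a :=
    fun x => kap a b (G *ᵥ (kap a b).symm x) with hgh
  have gh_add : ∀ x y, gh (x + y) = gh x + gh y := by
    intro x y
    simp only [hgh, map_add, Matrix.mulVec_add]
  have gh_smul : ∀ (c : F) x, gh (algebraMap F _ c * x) = algebraMap F _ c * gh x := by
    intro c x
    simp only [hgh]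
    rw [← Algebra.smul_def, map_smul, Matrix.mulVec_smul, map_smul, Algebra.smul_def]
  have gh_norm : ∀ x, norm (gh x) = norm x := by
    intro x
    simp only [hgh]
    rw [hiso, LinearEquiv.apply_symm_apply]
  have gh_kap : ∀ v, gh (kap a b v) = kap a b (G *ᵥ v) := by
    intro v
    simp only [hgh, LinearEquiv.symm_apply_apply]
  set u0 := gh 1 with hu0def
  have hu0 : norm u0 = 1 := by rw [hu0def, gh_norm, QuadraticAlgebra.norm_one]
  have hu0ne : u0 ≠ 0 := by
    intro h0
    rw [h0, QuadraticAlgebra.norm_zero] at hu0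
    exact zero_ne_one hu0
  set u : U a b := ⟨Units.mk0 u0 hu0ne, (mem_U a b _).mpr hu0⟩ with hu
  have hinvnorm : norm (u0⁻¹) = 1 := by
    have h1 : norm (u0⁻¹) * norm u0 = 1 := by
      rw [← map_mul, inv_mul_cancel₀ hu0ne, QuadraticAlgebra.norm_one]
    rw [hu0, mul_one] at h1
    exact h1
  set w := u0⁻¹ * gh ω with hw
  have hw_norm : norm w = norm (ω : QuadraticAlgebra F (-b) a) := by
    rw [hw, map_mul, hinvnorm, one_mul, gh_norm]
  have hw1 : norm (1 + w) = norm (1 + (ω : QuadraticAlgebra F (-b) a)) := by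
    have : 1 + w = u0⁻¹ * gh (1 + ω) := by
      rw [gh_add, mul_add, ← hu0def, inv_mul_cancel₀ hu0ne]
    rw [this, map_mul, hinvnorm, one_mul, gh_norm]
  have e2 : w * star w = (ω : QuadraticAlgebra F (-b) a) * star ω := by
    rw [← algebraMap_norm_eq_mul_star, ← algebraMap_norm_eq_mul_star, hw_norm]
  have e1 : w + star w = (ω : QuadraticAlgebra F (-b) a) + star ω := by
    have h3 : (1 + w) * star (1 + w)
        = (1 + (ω : QuadraticAlgebra F (-b) a)) * star (1 + ω) := by
      rw [← algebraMap_norm_eq_mul_star, ← algebraMap_norm_eq_mul_star, hw1]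
    rw [star_add, star_add, star_one] at h3
    linear_combination h3 - e2
  have hprod : (w - ω) * (w - star (ω : QuadraticAlgebra F (-b) a)) = 0 := by
    linear_combination w * e1 - e2
  have hghω : gh ω = u0 * w := by
    rw [hw, ← mul_assoc, mul_inv_cancel₀ hu0ne, one_mul]
  have hgh_gen : ∀ x : QuadraticAlgebra F (-b) a,
      gh x = u0 * (algebraMap F _ x.re + algebraMap F _ x.im * w) := by
    intro x
    conv_lhs => rw [eq_re_add_im_omega x]
    rw [gh_add, gh_smul, hghω]
    have : gh (algebraMap F _ x.re) = algebraMap F _ x.re * u0 := by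
      have := gh_smul x.re 1
      rwa [mul_one] at this
    rw [this]
    ring
  rcases mul_eq_zero.mp hprod with h | h
  · left
    refine ⟨u, ?_⟩
    have hwω : w = ω := sub_eq_zero.mp h
    apply Subtype.ext
    apply Units.ext
    rw [rotU_coe]
    change G = _
    rw [Matrix.ext_iff_mulVec]
    intro v
    apply kap_injective_eq a b
    rw [kap_mulMat_mulVec, ← gh_kap, hgh_gen, hwω, ← eq_re_add_im_omega]
    rfl
  · right
    refine ⟨u, ?_⟩
    have hwω : w = star (ω : QuadraticAlgebra F (-b) a) := sub_eq_zero.mp h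
    apply Subtype.ext
    apply Units.ext
    change G = mulMat a b u0 * starMat a b
    rw [Matrix.ext_iff_mulVec]
    intro v
    apply kap_injective_eq a b
    rw [← Matrix.mulVec_mulVec, kap_mulMat_mulVec, kap_starMat_mulVec, ← gh_kap, hgh_gen, hwω,
      ← star_eq_re_add]

end group

/-- `GO⁻₂(q)` is dihedral of order `2(q+1)`. -/
theorem main [Fintype F] {q : ℕ} (hF : Fintype.card F = q) (hab : Aniso a b) :
    Nonempty (isometryGroup F (quadFormMinus 0 F a b) ≃* DihedralGroup (q + 1)) := by
  classical
  haveI := fact_of_aniso hab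
  haveI : IsCyclic (U a b) := Subgroup.isCyclic _
  obtain ⟨γ, hγ⟩ := IsCyclic.exists_generator (α := U a b)
  have hordγ : orderOf γ = q + 1 := by
    rw [orderOf_eq_card_of_forall_mem_zpowers hγ, card_U, hF]
  have hord : orderOf (rotU a b γ) = q + 1 := by
    rw [orderOf_injective (rotU a b) (rotU_injective a b), hordγ]
  have hr : rotU a b γ ^ (q + 1) = 1 := by
    rw [← hord]; exact pow_orderOf_eq_one _
  have hs' : refl a b ∉ Subgroup.zpowers (rotU a b γ) := by
    intro hmem
    obtain ⟨k, hk⟩ := Subgroup.mem_zpowers_iff.mp hmem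
    rw [← map_zpow] at hk
    exact refl_ne_rotU a b (γ ^ k) hk.symm
  have hinj := Cfsg.Agent.Lib.Helper3.dihLift_injective (rotU a b γ) (refl a b) hr
    (refl_mul_refl a b) (refl_rotU_refl a b γ) hord hs'
  have hsurj : Function.Surjective (Cfsg.Agent.Lib.Helper3.dihLift (rotU a b γ) (refl a b) hr
      (refl_mul_refl a b) (refl_rotU_refl a b γ)) := by
    intro g
    rw [← MonoidHom.mem_range, Cfsg.Agent.Lib.Helper3.dihLift_range]
    have hrot : ∀ u : U a b, rotU a b u ∈ Subgroup.closure {rotU a b γ, refl a b} := by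
      intro u
      obtain ⟨k, hk⟩ := Subgroup.mem_zpowers_iff.mp (hγ u)
      rw [← hk, map_zpow]
      exact Subgroup.zpow_mem _ (Subgroup.subset_closure (Set.mem_insert _ _)) k
    rcases isometry_classify a b g with ⟨u, rfl⟩ | ⟨u, rfl⟩
    · exact hrot u
    · exact Subgroup.mul_mem _ (hrot u)
        (Subgroup.subset_closure (Set.mem_insert_of_mem _ (Set.mem_singleton _)))
  exact ⟨(MulEquiv.ofBijective _ ⟨hinj, hsurj⟩).symm⟩

end Cfsg.Agent.Lib.Helper14.GOMinus2
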