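import Mathlib
import Cfsg.Prelude.Def_Classical
import Cfsg.Agent.Lib.Helper14.OrthPlus
import Cfsg.Agent.Lib.Helper14.DihedralCrit

set_option autoImplicit false
open Matrix Cfsg
open Cfsg.Agent.Lib.Helper14

namespace Cfsg.Agent.Lib.Helper14.GOPlus2
variable {F : Type*} [Field F]

/-- `diag(u, u⁻¹)` as a matrix. -/
def dMat (u : F) (v : F) : Matrix (Fin 1 ⊕ Fin 1) (Fin 1 ⊕ Fin 1) F :=
  Matrix.fromBlocks (u • 1) 0 0 (v • 1)

theorem dMat_mul (u v u' v' : F) : dMat u v * dMat u' v' = dMat (u * u') (v * v') := by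
  unfold dMat
  rw [Matrix.fromBlocks_multiply]
  simp [smul_smul, mul_comm]

theorem dMat_one : dMat (1 : F) 1 = 1 := by
  unfold dMat
  simp

def sMat : Matrix (Fin 1 ⊕ Fin 1) (Fin 1 ⊕ Fin 1) F := Matrix.fromBlocks 0 1 1 0

theorem sMat_mul_sMat : (sMat : Matrix (Fin 1 ⊕ Fin 1) (Fin 1 ⊕ Fin 1) F) * sMat = 1 := by
  unfold sMat
  rw [Matrix.fromBlocks_multiply]
  simp

theorem sMat_dMat_sMat (u v : F) : sMat * dMat u v * sMat = dMat v u := by
  unfold sMat dMat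
  rw [Matrix.fromBlocks_multiply, Matrix.fromBlocks_multiply]
  simp

theorem dMat_mulVec_inl (u v : F) (x : Fin 1 ⊕ Fin 1 → F) :
    (dMat u v *ᵥ x) (Sum.inl 0) = u * x (Sum.inl 0) := by
  unfold dMat
  simp [Matrix.mulVec, dotProduct, Fintype.sum_sum_type]

theorem dMat_mulVec_inr (u v : F) (x : Fin 1 ⊕ Fin 1 → F) :
    (dMat u v *ᵥ x) (Sum.inr 0) = v * x (Sum.inr 0) := by
  unfold dMat
  simp [Matrix.mulVec, dotProduct, Fintype.sum_sum_type]

theorem sMat_mulVec_inl (x : Fin 1 ⊕ Fin 1 → F) :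
    ((sMat : Matrix (Fin 1 ⊕ Fin 1) (Fin 1 ⊕ Fin 1) F) *ᵥ x) (Sum.inl 0) = x (Sum.inr 0) := by
  unfold sMat
  simp [Matrix.mulVec, dotProduct, Fintype.sum_sum_type]

theorem sMat_mulVec_inr (x : Fin 1 ⊕ Fin 1 → F) :
    ((sMat : Matrix (Fin 1 ⊕ Fin 1) (Fin 1 ⊕ Fin 1) F) *ᵥ x) (Sum.inr 0) = x (Sum.inl 0) := by
  unfold sMat
  simp [Matrix.mulVec, dotProduct, Fintype.sum_sum_type]

theorem quad_dMat (u v : F) (huv : u * v = 1) (x : Fin 1 ⊕ Fin 1 → F) :
    quadFormPlus 1 F (dMat u v *ᵥ x) = quadFormPlus 1 F x := by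
  unfold quadFormPlus
  simp only [Fin.sum_univ_one, Fin.isValue]
  rw [dMat_mulVec_inl, dMat_mulVec_inr]
  linear_combination (x (Sum.inl 0) * x (Sum.inr 0)) * huv

theorem quad_sMat (x : Fin 1 ⊕ Fin 1 → F) :
    quadFormPlus 1 F (sMat *ᵥ x) = quadFormPlus 1 F x := by
  unfold quadFormPlus
  simp only [Fin.sum_univ_one, Fin.isValue]
  rw [sMat_mulVec_inl, sMat_mulVec_inr, mul_comm]

theorem dMat_apply_inl (u v : F) : dMat u v (Sum.inl 0) (Sum.inl 0) = u := by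
  unfold dMat
  simp

theorem sMat_apply_inl : (sMat : Matrix (Fin 1 ⊕ Fin 1) (Fin 1 ⊕ Fin 1) F) (Sum.inl 0) (Sum.inl 0) = 0 := by
  unfold sMat
  simp

/-- The torus element `diag(u, u⁻¹)` of `GL₂`. -/
def dGL (u : Fˣ) : Matrix.GeneralLinearGroup (Fin 1 ⊕ Fin 1) F :=
  ⟨dMat (u : F) ((u⁻¹ : Fˣ) : F), dMat ((u⁻¹ : Fˣ) : F) (u : F),
    by rw [dMat_mul, Units.mul_inv, Units.inv_mul, dMat_one],
    by rw [dMat_mul, Units.mul_inv, Units.inv_mul, dMat_one]⟩

theorem dGL_mem (u : Fˣ) : dGL u ∈ isometryGroup F (quadFormPlus 1 F) := by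
  rw [mem_isometryGroup_iff]
  intro x
  exact quad_dMat _ _ (Units.mul_inv u) x

/-- The torus `Fˣ →* GO⁺₂(F)`. -/
def torus : Fˣ →* isometryGroup F (quadFormPlus 1 F) where
  toFun u := ⟨dGL u, dGL_mem u⟩
  map_one' := by
    apply Subtype.ext
    apply Units.ext
    change dMat ((1 : Fˣ) : F) (((1 : Fˣ)⁻¹ : Fˣ) : F) = 1
    simp [dMat_one]
  map_mul' u v := by
    apply Subtype.ext
    apply Units.ext
    change dMat ((u * v : Fˣ) : F) (((u * v)⁻¹ : Fˣ) : F)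
      = dMat (u : F) ((u⁻¹ : Fˣ) : F) * dMat (v : F) ((v⁻¹ : Fˣ) : F)
    rw [dMat_mul, mul_inv]
    simp

theorem torus_apply_inl (u : Fˣ) :
    (((torus u : isometryGroup F (quadFormPlus 1 F)) : Matrix.GeneralLinearGroup (Fin 1 ⊕ Fin 1) F) :
      Matrix (Fin 1 ⊕ Fin 1) (Fin 1 ⊕ Fin 1) F) (Sum.inl 0) (Sum.inl 0) = (u : F) :=
  dMat_apply_inl _ _

theorem torus_injective : Function.Injective (torus : Fˣ →* isometryGroup F (quadFormPlus 1 F)) := by
  intro u v h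
  apply Units.ext
  rw [← torus_apply_inl u, ← torus_apply_inl v, h]

/-- The swap element of `GO⁺₂(F)`. -/
def sEl : isometryGroup F (quadFormPlus 1 F) :=
  ⟨⟨sMat, sMat, sMat_mul_sMat, sMat_mul_sMat⟩, by
    rw [mem_isometryGroup_iff]
    intro x
    exact quad_sMat x⟩

theorem sEl_mul_sEl : (sEl : isometryGroup F (quadFormPlus 1 F)) * sEl = 1 := by
  apply Subtype.ext
  apply Units.ext
  exact sMat_mul_sMat

theorem sEl_torus_sEl (u : Fˣ) : sEl * torus u * sEl = (torus u)⁻¹ := by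
  rw [← map_inv]
  apply Subtype.ext
  apply Units.ext
  change sMat * dMat (u : F) ((u⁻¹ : Fˣ) : F) * sMat = dMat ((u⁻¹ : Fˣ) : F) (((u⁻¹)⁻¹ : Fˣ) : F)
  rw [sMat_dMat_sMat, inv_inv]

theorem main [Fintype F] {q : ℕ} (hF : Fintype.card F = q) :
    Nonempty (Cfsg.isometryGroup F (Cfsg.quadFormPlus 1 F) ≃* DihedralGroup (q - 1)) := by
  classical
  obtain ⟨g, hg⟩ := IsCyclic.exists_generator (α := Fˣ)
  have hordg : orderOf g = q - 1 := by
    rw [orderOf_eq_card_of_forall_mem_zpowers hg, Nat.card_eq_fintype_card, Fintype.card_units, hF]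
  have hord : orderOf (torus g) = q - 1 := by
    rw [orderOf_injective torus torus_injective, hordg]
  have hcard : Nat.card (Cfsg.isometryGroup F (Cfsg.quadFormPlus 1 F)) = 2 * (q - 1) := by
    have := card_isometry_plus (F := F) 0
    simp only [zero_add, mul_zero, pow_zero, mul_one, pow_one, Finset.range_zero,
      Finset.prod_empty] at this
    rw [this, hF]
  have : Finite (Cfsg.isometryGroup F (Cfsg.quadFormPlus 1 F)) :=
    Nat.finite_of_card_ne_zero (by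
      rw [hcard]
      have : 2 ≤ q := by rw [← hF]; exact Fintype.one_lt_card
      omega)
  refine nonempty_mulEquiv_dihedral (q - 1) hcard (torus g) sEl ?_ sEl_mul_sEl (sEl_torus_sEl g)
    hord ?_
  · rw [← hord]; exact pow_orderOf_eq_one _
  · intro hmem
    obtain ⟨k, hk⟩ := Subgroup.mem_zpowers_iff.mp hmem
    rw [← map_zpow] at hk
    have h1 := torus_apply_inl (g ^ k)
    rw [hk] at h1
    have h2 : (((sEl : isometryGroup F (quadFormPlus 1 F)) :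
        Matrix.GeneralLinearGroup (Fin 1 ⊕ Fin 1) F) :
        Matrix (Fin 1 ⊕ Fin 1) (Fin 1 ⊕ Fin 1) F) (Sum.inl 0) (Sum.inl 0) = 0 := sMat_apply_inl
    rw [h2] at h1
    exact (Units.ne_zero (g ^ k)) h1.symm

end Cfsg.Agent.Lib.Helper14.GOPlus2
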