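import Mathlib
import Cfsg.Prelude.Def_Sporadic_a
import Cfsg.Agent.Lib.Helper3.Golay.Bits
import Cfsg.Agent.Lib.Helper3.Golay.Code
import Cfsg.Agent.Lib.Helper3.Golay.Weights
import Cfsg.Agent.Lib.Helper14.GolayMin

set_option autoImplicit false

/-! The punctured length-23 code: size, minimum weight, weight distribution, perfectness. -/

namespace Cfsg.Agent.Lib.Helper14.Golay23

open Cfsg Cfsg.Agent.Lib.Helper3.Golay

section generic

variable {ι : Type*} [Fintype ι] [DecidableEq ι]

theorem norm_sub_le (u v : ι → ZMod 2) :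
    hammingNorm (u - v) ≤ hammingNorm u + hammingNorm v := by
  rw [← neg_add_eq_sub, ← hammingDist_eq_hammingNorm]
  calc hammingDist v u ≤ hammingDist v 0 + hammingDist 0 u := hammingDist_triangle v 0 u
    _ = hammingNorm u + hammingNorm v := by
        rw [hammingDist_zero_right, hammingDist_zero_left, add_comm]

theorem dist_eq_norm_sub (u v : ι → ZMod 2) : hammingDist u v = hammingNorm (u - v) := by
  rw [hammingDist_comm, hammingDist_eq_hammingNorm, neg_add_eq_sub]

/-- support -/
def supp (u : ι → ZMod 2) : Finset ι := Finset.univ.filter (fun i => u i ≠ 0)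

/-- indicator word -/
def ind (s : Finset ι) : ι → ZMod 2 := fun i => if i ∈ s then 1 else 0

theorem supp_ind (s : Finset ι) : supp (ind s) = s := by
  ext i
  by_cases h : i ∈ s <;> simp [supp, ind, h]

theorem ind_supp (u : ι → ZMod 2) : ind (supp u) = u := by
  funext i
  have h2 : ∀ a : ZMod 2, (if a ≠ 0 then (1 : ZMod 2) else 0) = a := by decide
  simp only [ind, supp, Finset.mem_filter, Finset.mem_univ, true_and]
  exact h2 (u i)

theorem supp_injective : Function.Injective (supp (ι := ι)) := by
  intro u v h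
  rw [← ind_supp u, ← ind_supp v, h]

theorem card_weight (k : ℕ) :
    (Finset.univ.filter (fun u : ι → ZMod 2 => hammingNorm u = k)).card
      = Nat.choose (Fintype.card ι) k := by
  have h : (Finset.univ.filter (fun u : ι → ZMod 2 => hammingNorm u = k)).card
      = (Finset.powersetCard k (Finset.univ : Finset ι)).card := by
    apply Finset.card_bij (fun u _ => supp u)
    · intro u hu
      rw [Finset.mem_powersetCard]
      exact ⟨Finset.subset_univ _, (Finset.mem_filter.mp hu).2⟩
    · intro u _ v _ h; exact supp_injective h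
    · intro b hb
      refine ⟨ind b, ?_, supp_ind b⟩
      rw [Finset.mem_filter]
      refine ⟨Finset.mem_univ _, ?_⟩
      have : hammingNorm (ind b) = (supp (ind b)).card := rfl
      rw [this, supp_ind]
      exact (Finset.mem_powersetCard.mp hb).2
  rw [h, Finset.card_powersetCard, Finset.card_univ]

end generic

/-- words of length 23 -/
abbrev W23 : Type := ZMod 23 → ZMod 2

theorem card_ball :
    (Finset.univ.filter (fun u : W23 => hammingNorm u ≤ 3)).card = 2048 := by
  have h : Finset.univ.filter (fun u : W23 => hammingNorm u ≤ 3)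
      = (Finset.range 4).biUnion (fun k => Finset.univ.filter (fun u : W23 => hammingNorm u = k)) := by
    ext u
    simp only [Finset.mem_filter, Finset.mem_univ, true_and, Finset.mem_biUnion, Finset.mem_range]
    constructor
    · intro h; exact ⟨hammingNorm u, by omega, rfl⟩
    · rintro ⟨k, hk, rfl⟩; omega
  rw [h, Finset.card_biUnion]
  · simp only [card_weight, ZMod.card]
    decide
  · intro i _ j _ hij
    rw [Function.onFun, Finset.disjoint_left]
    intro u hu hu'
    rw [Finset.mem_filter] at hu hu'
    exact hij (hu.2.symm.trans hu'.2)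

/-- restriction to the 23 residues -/
def rho : (GolayPt → ZMod 2) →ₗ[ZMod 2] W23 :=
  LinearMap.funLeft (ZMod 2) (ZMod 2) (some : ZMod 23 → GolayPt)

theorem rho_apply (w : GolayPt → ZMod 2) (x : ZMod 23) : rho w x = w (some x) := rfl

/-- the punctured code, in the form used in the statements -/
def P : Set W23 := {u | ∃ w ∈ golayCode, ∀ x : ZMod 23, u x = w (some x)}

theorem mem_P_iff (u : W23) : u ∈ P ↔ ∃ w ∈ golayCode, rho w = u := by
  constructor
  · rintro ⟨w, hw, h⟩
    exact ⟨w, hw, funext fun x => (h x).symm⟩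
  · rintro ⟨w, hw, rfl⟩
    exact ⟨w, hw, fun x => rfl⟩

theorem norm_rho (w : GolayPt → ZMod 2) :
    hammingNorm (rho w) + (if w none ≠ 0 then 1 else 0) = hammingNorm w := by
  unfold hammingNorm
  rw [Finset.card_filter, Finset.card_filter, Fintype.sum_option, add_comm]
  rfl

theorem norm_rho_le (w : GolayPt → ZMod 2) : hammingNorm w ≤ hammingNorm (rho w) + 1 := by
  have := norm_rho w
  split_ifs at this <;> omega

theorem rho_eq_zero {w : GolayPt → ZMod 2} (hw : w ∈ golayCode) (h : rho w = 0) : w = 0 := by
  by_contra h0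
  have h8 := Cfsg.Agent.Lib.Helper14.GolayMin.eight_le_card w hw h0
  have h1 := norm_rho_le w
  rw [h, hammingNorm_zero] at h1
  have : hammingNorm w = (support₂ w).card := rfl
  omega

theorem rho_injOn : Set.InjOn rho (golayCode : Set (GolayPt → ZMod 2)) := by
  intro v hv w hw h
  have := rho_eq_zero (Submodule.sub_mem _ hv hw) (by rw [map_sub, h, sub_self])
  exact sub_eq_zero.mp this

theorem P_eq_image : P = rho '' (golayCode : Set (GolayPt → ZMod 2)) := by
  ext u
  rw [mem_P_iff]
  rfl

theorem sub_mem_P {u v : W23} (hu : u ∈ P) (hv : v ∈ P) : u - v ∈ P := by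
  rw [mem_P_iff] at *
  obtain ⟨a, ha, rfl⟩ := hu
  obtain ⟨b, hb, rfl⟩ := hv
  exact ⟨a - b, Submodule.sub_mem _ ha hb, map_sub _ _ _⟩

theorem seven_le {u : W23} (hu : u ∈ P) (h0 : u ≠ 0) : 7 ≤ hammingNorm u := by
  rw [mem_P_iff] at hu
  obtain ⟨w, hw, rfl⟩ := hu
  have hw0 : w ≠ 0 := by
    rintro rfl
    exact h0 (map_zero _)
  have h8 := Cfsg.Agent.Lib.Helper14.GolayMin.eight_le_card w hw hw0
  have h1 := norm_rho_le w
  have : hammingNorm w = (support₂ w).card := rfl
  omega

theorem ncard_P : P.ncard = 4096 := by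
  rw [P_eq_image, Set.ncard_image_of_injOn rho_injOn]
  have h1 : (golayCode : Set (GolayPt → ZMod 2)).ncard = Nat.card golayCode := by
    rw [← Nat.card_coe_set_eq]; rfl
  rw [h1, Module.natCard_eq_pow_finrank (K := ZMod 2), finrank_golayCode, Nat.card_zmod]
  norm_num

theorem finite_P : P.Finite := Set.toFinite _

/-- the code is perfect -/
theorem perfect (u : W23) : ∃! c : W23, c ∈ P ∧ hammingDist u c ≤ 3 := by
  classical
  set Pf : Finset W23 := finite_P.toFinset with hPf
  have hPfc : Pf.card = 4096 := by
    rw [hPf, ← Set.ncard_eq_toFinset_card P finite_P, ncard_P]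
  set B : Finset W23 := Finset.univ.filter (fun e : W23 => hammingNorm e ≤ 3) with hB
  have hinj : Set.InjOn (fun p : W23 × W23 => p.1 + p.2) ↑(Pf ×ˢ B) := by
    rintro ⟨c, e⟩ hce ⟨c', e'⟩ hce' h
    simp only [Finset.coe_product, Set.mem_prod, Finset.mem_coe, hPf, Set.Finite.mem_toFinset,
      hB, Finset.mem_filter, Finset.mem_univ, true_and] at hce hce'
    simp only at h
    have hd : c - c' = e' - e := by
      rw [sub_eq_sub_iff_add_eq_add, h, add_comm]
    have hcc : c = c' := by
      by_contra hne
      have h7 := seven_le (sub_mem_P hce.1 hce'.1) (sub_ne_zero.mpr hne)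
      rw [hd] at h7
      have := norm_sub_le e' e
      omega
    subst hcc
    rw [add_right_inj] at h
    rw [h]
  have hcard : ((Pf ×ˢ B).image (fun p : W23 × W23 => p.1 + p.2)).card = Fintype.card W23 := by
    rw [Finset.card_image_of_injOn hinj, Finset.card_product, hPfc, hB, card_ball,
      Fintype.card_fun, ZMod.card, ZMod.card]
    norm_num
  have huniv := Finset.eq_univ_of_card _ hcard
  have hu : u ∈ (Pf ×ˢ B).image (fun p : W23 × W23 => p.1 + p.2) := by
    rw [huniv]; exact Finset.mem_univ u
  obtain ⟨⟨c, e⟩, hce, rfl⟩ := Finset.mem_image.mp hu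
  simp only [Finset.mem_product, hPf, Set.Finite.mem_toFinset,
      hB, Finset.mem_filter, Finset.mem_univ, true_and] at hce
  refine ⟨c, ⟨hce.1, ?_⟩, ?_⟩
  · rw [dist_eq_norm_sub]
    simp only [add_sub_cancel_left]
    exact hce.2
  · rintro c' ⟨hc', hd'⟩
    by_contra hne
    have h7 := seven_le (sub_mem_P hc' hce.1) (sub_ne_zero.mpr hne)
    rw [dist_eq_norm_sub] at hd'
    change hammingNorm (c + e - c') ≤ 3 at hd'
    have hd : c' - c = e - (c + e - c') := by abel
    rw [hd] at h7
    have := norm_sub_le e (c + e - c')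
    omega

end Cfsg.Agent.Lib.Helper14.Golay23
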