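import Mathlib
import Cfsg.Prelude.Def_Sporadic_a
import Cfsg.Agent.Lib.Helper14.Golay23

set_option autoImplicit false

/-! Weight distribution of the punctured length-23 code. -/

namespace Cfsg.Agent.Lib.Helper14.Golay23

open Cfsg Cfsg.Agent.Lib.Helper3.Golay

/-- weight of the restriction of the word with mask `m` -/
def wt23 (m : ℕ) : ℕ := pc24 m - bit m 23

theorem norm_rho_wordOf (m : ℕ) : hammingNorm (rho (wordOf m)) = wt23 m := by
  have h := norm_rho (wordOf m)
  rw [hammingNorm_wordOf, ← pc24_eq] at h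
  unfold wt23
  rw [bit_eq]
  have h2 : (if wordOf m none ≠ 0 then 1 else 0) = (m.testBit 23).toNat := by
    rw [wordOf_apply]
    show (if (if m.testBit 23 = true then (1 : ZMod 2) else 0) ≠ 0 then 1 else 0) = _
    cases m.testBit 23 <;> simp
  rw [h2] at h
  omega

theorem word_injOn {c d : ℕ} (hc : c < 4096) (hd : d < 4096)
    (h : rho (wordOf (codeMask c)) = rho (wordOf (codeMask d))) : c = d := by
  have h1 := rho_injOn (wordOf_codeMask_mem c) (wordOf_codeMask_mem d) h
  have h2 := wordOf_injective (codeMask_lt c hc) (codeMask_lt d hd) h1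
  rw [← codeMask_mod c hc, ← codeMask_mod d hd, h2]

theorem weight_set_eq (n : ℕ) :
    {u : W23 | u ∈ P ∧ hammingNorm u = n} =
      ↑(((Finset.range 4096).filter (fun c => Nat.beq (wt23 (codeMask c)) n = true)).image
        (fun c => rho (wordOf (codeMask c)))) := by
  ext u
  simp only [Set.mem_ofPred_eq, Finset.coe_image, Finset.coe_filter, Finset.mem_range, Set.mem_image,
    mem_P_iff]
  constructor
  · rintro ⟨⟨w, hw, rfl⟩, hn⟩
    obtain ⟨c, hc, rfl⟩ := (mem_golayCode_iff w).mp hw
    refine ⟨c, ⟨hc, ?_⟩, rfl⟩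
    rw [norm_rho_wordOf] at hn
    simpa using hn
  · rintro ⟨c, ⟨hc, hn⟩, rfl⟩
    refine ⟨⟨_, wordOf_codeMask_mem c, rfl⟩, ?_⟩
    rw [norm_rho_wordOf]
    simpa using hn

theorem ncard_weight (n : ℕ) :
    {u : W23 | u ∈ P ∧ hammingNorm u = n}.ncard =
      countBelow 4096 (fun c => Nat.beq (wt23 (codeMask c)) n) := by
  rw [weight_set_eq, Set.ncard_coe_finset, countBelow_eq, Finset.card_image_of_injOn]
  intro c hc d hd h
  simp only [Finset.coe_filter, Finset.mem_range, Set.mem_ofPred_eq] at hc hd
  exact word_injOn hc.1 hd.1 h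

set_option maxRecDepth 100000 in
theorem cnt7 : countBelow 4096 (fun c => Nat.beq (wt23 (codeMask c)) 7) = 253 := by
  decide +kernel

set_option maxRecDepth 100000 in
theorem cnt8 : countBelow 4096 (fun c => Nat.beq (wt23 (codeMask c)) 8) = 506 := by
  decide +kernel

set_option maxRecDepth 100000 in
theorem cnt11 : countBelow 4096 (fun c => Nat.beq (wt23 (codeMask c)) 11) = 1288 := by
  decide +kernel

set_option maxRecDepth 100000 in
theorem cnt12 : countBelow 4096 (fun c => Nat.beq (wt23 (codeMask c)) 12) = 1288 := by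
  decide +kernel

set_option maxRecDepth 100000 in
theorem cnt15 : countBelow 4096 (fun c => Nat.beq (wt23 (codeMask c)) 15) = 506 := by
  decide +kernel

set_option maxRecDepth 100000 in
theorem cnt16 : countBelow 4096 (fun c => Nat.beq (wt23 (codeMask c)) 16) = 253 := by
  decide +kernel

end Cfsg.Agent.Lib.Helper14.Golay23
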