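import Mathlib
import Cfsg.Prelude.Def_Sporadic_a
import Cfsg.Agent.Lib.Helper3.Golay.Perm
import Cfsg.Agent.Lib.Helper3.Golay.Inter
import Cfsg.Agent.S0362
import Cfsg.Agent.S1635

set_option autoImplicit false

/-!
# Linear functionals on the Golay code: self-duality and coset leaders
-/

namespace Cfsg.Agent.Lib.Helper14.GolayLin

open Cfsg Cfsg.Agent.Lib.Helper3.Golay Finset

/-- the functional `w ↦ ∑_{p ∈ ℓ} w p` -/
def fs (ℓ : Finset GolayPt) (w : GolayPt → ZMod 2) : ZMod 2 := ∑ p ∈ ℓ, w p

lemma fs_add (ℓ : Finset GolayPt) (v w : GolayPt → ZMod 2) : fs ℓ (v + w) = fs ℓ v + fs ℓ w := by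
  simp [fs, Finset.sum_add_distrib]

lemma zmod2_eq_ite (x : ZMod 2) : x = if x ≠ 0 then 1 else 0 := by
  revert x; decide

lemma eq_ite_mem_support (w : GolayPt → ZMod 2) (p : GolayPt) :
    w p = if p ∈ support₂ w then (1 : ZMod 2) else 0 := by
  by_cases h : w p = 0
  · rw [if_neg (by rw [mem_support₂]; exact not_not.2 h), h]
  · rw [if_pos (mem_support₂.2 h)]
    have := zmod2_eq_ite (w p)
    rw [if_pos h] at this
    exact this

lemma fs_eq_card (ℓ : Finset GolayPt) (w : GolayPt → ZMod 2) :
    fs ℓ w = ((support₂ w ∩ ℓ).card : ZMod 2) := by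
  unfold fs
  have h1 : ∀ p ∈ ℓ, w p = if p ∈ support₂ w then (1 : ZMod 2) else 0 := by
    intro p _
    exact eq_ite_mem_support w p
  rw [Finset.sum_congr rfl h1, Finset.sum_ite, Finset.sum_const_zero, add_zero, Finset.sum_const,
    nsmul_eq_mul, mul_one]
  congr 2
  ext p
  simp [and_comm]

lemma natCast_zmod2_eq_zero_iff (n : ℕ) : ((n : ZMod 2) = 0) ↔ Even n := by
  rw [ZMod.natCast_eq_zero_iff, even_iff_two_dvd]

lemma fs_eq_zero_iff (ℓ : Finset GolayPt) (w : GolayPt → ZMod 2) :
    fs ℓ w = 0 ↔ Even (support₂ w ∩ ℓ).card := by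
  rw [fs_eq_card, natCast_zmod2_eq_zero_iff]

/-- the indicator word of a finset -/
def ind (ℓ : Finset GolayPt) : GolayPt → ZMod 2 := fun p => if p ∈ ℓ then 1 else 0

lemma support_ind (ℓ : Finset GolayPt) : support₂ (ind ℓ) = ℓ := by
  ext p
  rw [mem_support₂]
  unfold ind
  split_ifs with h <;> simp [h]

lemma fs_eq_dot (ℓ : Finset GolayPt) (w : GolayPt → ZMod 2) : fs ℓ w = ∑ p, w p * ind ℓ p := by
  unfold fs ind
  simp [Finset.sum_ite_mem]

lemma ind_symmDiff (a b : Finset GolayPt) : ind (symmDiff a b) = ind a + ind b := by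
  funext p
  simp only [ind, Finset.mem_symmDiff, Pi.add_apply]
  by_cases ha : p ∈ a <;> by_cases hb : p ∈ b <;> simp [ha, hb]
  decide

lemma fs_symmDiff (a b : Finset GolayPt) (w : GolayPt → ZMod 2) :
    fs (symmDiff a b) w = fs a w + fs b w := by
  rw [fs_eq_dot, fs_eq_dot, fs_eq_dot, ind_symmDiff, ← Finset.sum_add_distrib]
  refine Finset.sum_congr rfl fun p _ => ?_
  rw [Pi.add_apply, mul_add]

lemma hammingNorm_eq (v : GolayPt → ZMod 2) : hammingNorm v = (support₂ v).card := rfl

/-- self-duality: a word orthogonal to the code lies in the code -/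
theorem mem_of_orth (u : GolayPt → ZMod 2) (h : ∀ c ∈ golayCode, ∑ p, c p * u p = 0) :
    u ∈ golayCode := by
  classical
  let E := dotProductEquiv (ZMod 2) GolayPt
  have hle : golayCode.map E.toLinearMap ≤ golayCode.dualAnnihilator := by
    rintro _ ⟨c, hc, rfl⟩
    rw [Submodule.mem_dualAnnihilator]
    intro w hw
    show c ⬝ᵥ w = 0
    exact Cfsg.Agent.S0362.result c w hc hw
  have hfin1 : Module.finrank (ZMod 2) (golayCode.map E.toLinearMap) = 12 := by
    rw [LinearEquiv.finrank_map_eq, finrank_golayCode]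
  have hfin2 : Module.finrank (ZMod 2) golayCode.dualAnnihilator = 12 := by
    have := Subspace.finrank_add_finrank_dualAnnihilator_eq (K := ZMod 2) golayCode
    rw [finrank_golayCode, Module.finrank_fintype_fun_eq_card, show Fintype.card GolayPt = 24 by decide] at this
    omega
  have heq := Submodule.eq_of_le_of_finrank_eq hle (by rw [hfin1, hfin2])
  have hu : E u ∈ golayCode.dualAnnihilator := by
    rw [Submodule.mem_dualAnnihilator]
    intro w hw
    show u ⬝ᵥ w = 0
    rw [dotProduct_comm]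
    exact h w hw
  rw [← heq] at hu
  obtain ⟨c, hc, hcu⟩ := hu
  have : c = u := E.injective hcu
  rw [← this]; exact hc

/-- a word of weight less than 8 orthogonal to the code is zero -/
theorem eq_zero_of_orth (u : GolayPt → ZMod 2) (h : ∀ c ∈ golayCode, ∑ p, c p * u p = 0)
    (hw : (support₂ u).card < 8) : u = 0 := by
  have hu := mem_of_orth u h
  have := weight_mem hu
  rw [hammingNorm_eq] at this
  have h0 : (support₂ u).card = 0 := by omega
  rw [Finset.card_eq_zero] at h0
  funext p
  by_contra hp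
  have : p ∈ support₂ u := mem_support₂.2 hp
  rw [h0] at this
  exact absurd this (Finset.notMem_empty p)

/-- two small sets inducing the same functional on the code are equal -/
theorem eq_of_fs_eq (a b : Finset GolayPt) (hab : a.card + b.card < 8)
    (h : ∀ c ∈ golayCode, fs a c = fs b c) : a = b := by
  have h0 : ind (symmDiff a b) = 0 := by
    apply eq_zero_of_orth
    · intro c hc
      rw [← fs_eq_dot, fs_symmDiff, h c hc]
      exact CharTwo.add_self_eq_zero _
    · rw [support_ind]
      calc (symmDiff a b).card ≤ (a ∪ b).card := Finset.card_le_card (by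
            intro p hp
            rw [Finset.mem_symmDiff] at hp
            rcases hp with h | h
            · exact Finset.mem_union_left _ h.1
            · exact Finset.mem_union_right _ h.1)
        _ ≤ a.card + b.card := Finset.card_union_le a b
        _ < 8 := hab
  have h1 : symmDiff a b = ∅ := by rw [← support_ind (symmDiff a b), h0]; ext p; simp [mem_support₂]
  exact symmDiff_eq_bot.1 h1

/-- every functional on the code is `fs ℓ` for a set of at most four points -/
theorem exists_rep (ψ : golayCode →ₗ[ZMod 2] ZMod 2) :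
    ∃ ℓ : Finset GolayPt, ℓ.card ≤ 4 ∧ ∀ c : golayCode, ψ c = fs ℓ (c : GolayPt → ZMod 2) := by
  classical
  obtain ⟨ψ', hψ'⟩ := LinearMap.exists_extend ψ
  let E := dotProductEquiv (ZMod 2) GolayPt
  let u := E.symm ψ'
  have hu : ∀ w, ψ' w = ∑ p, w p * u p := by
    intro w
    have : E u = ψ' := E.apply_symm_apply ψ'
    rw [← this]
    show u ⬝ᵥ w = _
    rw [dotProduct_comm]; rfl
  obtain ⟨v, hv4, hvmem⟩ : ∃ v : GolayPt → ZMod 2, hammingNorm v ≤ 4 ∧ u - v ∈ golayCode := by
    rcases Cfsg.Agent.S1635.result u with ⟨_, v, hv, hm⟩ | ⟨h6, _⟩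
    · exact ⟨v, by omega, hm⟩
    · have hne : {v : GolayPt → ZMod 2 | hammingNorm v ≤ 4 ∧ u - v ∈ golayCode}.Nonempty := by
        apply Set.nonempty_of_ncard_ne_zero
        rw [h6]; norm_num
      obtain ⟨v, hv⟩ := hne
      exact ⟨v, hv.1, hv.2⟩
  refine ⟨support₂ v, hv4, fun c => ?_⟩
  have h1 : ψ c = ψ' (c : GolayPt → ZMod 2) := by
    rw [← hψ']; rfl
  rw [h1, hu, fs_eq_dot]
  have h2 : ind (support₂ v) = v := by
    funext p
    unfold ind
    exact (eq_ite_mem_support v p).symm
  rw [h2]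
  have h3 : ∑ p, (c : GolayPt → ZMod 2) p * (u - v) p = 0 :=
    Cfsg.Agent.S0362.result _ _ c.2 hvmem
  have h4 : ∑ p, (c : GolayPt → ZMod 2) p * u p =
      ∑ p, (c : GolayPt → ZMod 2) p * v p + ∑ p, (c : GolayPt → ZMod 2) p * (u - v) p := by
    rw [← Finset.sum_add_distrib]
    refine Finset.sum_congr rfl fun p _ => ?_
    rw [Pi.sub_apply]; ring
  rw [h4, h3, add_zero]

end Cfsg.Agent.Lib.Helper14.GolayLin
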