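import Mathlib
import Cfsg.Prelude.Def_Sporadic_a
import Cfsg.Agent.Lib.Helper3.Golay.Perm
import Cfsg.Agent.Lib.Helper3.Golay.Inter
import Cfsg.Agent.Lib.Helper14.LeechOrbit
import Cfsg.Agent.Lib.Helper14.GolayLinA

set_option autoImplicit false

/-!
# Counting octad-type code words in the kernel of a functional
-/

namespace Cfsg.Agent.Lib.Helper14.GolayLin

open Cfsg Cfsg.Agent.Lib.Helper3.Golay Finset
open scoped Pointwise

/-- general count of code words by a test on the weight and the intersection with a mask -/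
theorem ncard_gen (T : ℕ → ℕ → Bool) (m : ℕ) :
    {b : Finset GolayPt | b ∈ supports (golayCode : Set (GolayPt → ZMod 2)) ∧
        T b.card (b ∩ bitSet m).card = true}.ncard =
      countBelow 4096 (fun c => T (pc24 (codeMask c)) (pc24 (codeMask c &&& m))) := by
  have heq : {b : Finset GolayPt | b ∈ supports (golayCode : Set (GolayPt → ZMod 2)) ∧
        T b.card (b ∩ bitSet m).card = true} =
      ↑(((Finset.range 4096).filter
        (fun c => T (pc24 (codeMask c)) (pc24 (codeMask c &&& m)) = true)).image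
        (fun c => bitSet (codeMask c))) := by
    ext b
    simp only [Set.mem_ofPred_eq, Finset.coe_image, Finset.coe_filter, Finset.mem_range,
      Set.mem_image]
    constructor
    · rintro ⟨hb, hT⟩
      obtain ⟨c, hc, rfl⟩ := (mem_supports_iff b).mp hb
      refine ⟨c, ⟨hc, ?_⟩, rfl⟩
      rw [← bitSet_and, card_bitSet', card_bitSet'] at hT
      exact hT
    · rintro ⟨c, ⟨hc, ht⟩, rfl⟩
      refine ⟨(mem_supports_iff _).mpr ⟨c, hc, rfl⟩, ?_⟩
      rw [← bitSet_and, card_bitSet', card_bitSet']
      exact ht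
  rw [heq, Set.ncard_coe_finset, countBelow_eq, Finset.card_image_of_injOn]
  intro c hc c' hc' h
  simp only [Finset.coe_filter, Finset.mem_range, Set.mem_ofPred_eq] at hc hc'
  exact codeMask_injOn hc.1 hc'.1 h

/-- transport of the general count along `M24` -/
theorem ncard_gen_smul {g : Equiv.Perm GolayPt} (hg : g ∈ M24) (T : ℕ → ℕ → Bool)
    (d : Finset GolayPt) :
    {b : Finset GolayPt | b ∈ supports (golayCode : Set (GolayPt → ZMod 2)) ∧
        T b.card (b ∩ g • d).card = true}.ncard =
    {b : Finset GolayPt | b ∈ supports (golayCode : Set (GolayPt → ZMod 2)) ∧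
        T b.card (b ∩ d).card = true}.ncard := by
  classical
  have : {b : Finset GolayPt | b ∈ supports (golayCode : Set (GolayPt → ZMod 2)) ∧
        T b.card (b ∩ g • d).card = true} =
      (fun o => g • o) '' {b : Finset GolayPt |
        b ∈ supports (golayCode : Set (GolayPt → ZMod 2)) ∧ T b.card (b ∩ d).card = true} := by
    ext o'
    simp only [Set.mem_ofPred_eq, Set.mem_image]
    constructor
    · rintro ⟨ho', hk⟩
      refine ⟨g⁻¹ • o', ⟨smul_mem_supports (M24.inv_mem hg) ho', ?_⟩, smul_inv_smul g o'⟩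
      have : g⁻¹ • o' ∩ d = g⁻¹ • (o' ∩ g • d) := by
        rw [Finset.smul_finset_inter, inv_smul_smul]
      rw [this, Finset.card_smul_finset, Finset.card_smul_finset]
      exact hk
    · rintro ⟨o, ⟨ho, hk⟩, rfl⟩
      refine ⟨smul_mem_supports hg ho, ?_⟩
      rw [← Finset.smul_finset_inter, Finset.card_smul_finset, Finset.card_smul_finset]
      exact hk
  rw [this, Set.ncard_image_of_injective _ (MulAction.injective g)]

/-- the test: weight 8 or 16 and even intersection -/
def TT (w k : ℕ) : Bool := (Nat.beq w 8 || Nat.beq w 16) && Nat.beq (k % 2) 0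

/-- the number of octad-type words meeting `ℓ` evenly -/
noncomputable def cntS (ℓ : Finset GolayPt) : ℕ :=
  {b : Finset GolayPt | b ∈ supports (golayCode : Set (GolayPt → ZMod 2)) ∧
      TT b.card (b ∩ ℓ).card = true}.ncard

set_option maxRecDepth 100000 in
lemma cnt0 : countBelow 4096 (fun c => TT (pc24 (codeMask c)) (pc24 (codeMask c &&& 0))) = 1518 := by
  decide +kernel

set_option maxRecDepth 100000 in
lemma cnt2 : countBelow 4096 (fun c => TT (pc24 (codeMask c)) (pc24 (codeMask c &&& 3))) = 814 := by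
  decide +kernel

set_option maxRecDepth 100000 in
lemma cnt4 : countBelow 4096 (fun c => TT (pc24 (codeMask c)) (pc24 (codeMask c &&& 15))) = 750 := by
  decide +kernel

lemma card_bitSet_3 : (bitSet 3).card = 2 := by rw [card_bitSet']; decide
lemma card_bitSet_15 : (bitSet 15).card = 4 := by rw [card_bitSet']; decide

theorem cntS_of_card (ℓ : Finset GolayPt) :
    (ℓ.card = 0 → cntS ℓ = 1518) ∧ (ℓ.card = 2 → cntS ℓ = 814) ∧ (ℓ.card = 4 → cntS ℓ = 750) := by
  refine ⟨fun h => ?_, fun h => ?_, fun h => ?_⟩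
  · rw [Finset.card_eq_zero] at h
    rw [h, ← bitSet_zero]
    unfold cntS
    rw [ncard_gen, cnt0]
  · obtain ⟨g, hg, hgl, -⟩ := Cfsg.Agent.Lib.Helper14.LeechOrbit.exists_map_pair (bitSet 3) ∅ ℓ ∅
      (Finset.disjoint_empty_right _) (Finset.disjoint_empty_right _)
      (by rw [card_bitSet_3, h]) rfl (by rw [card_bitSet_3]; simp)
    unfold cntS
    rw [← hgl, ncard_gen_smul hg, ncard_gen, cnt2]
  · obtain ⟨g, hg, hgl, -⟩ := Cfsg.Agent.Lib.Helper14.LeechOrbit.exists_map_pair (bitSet 15) ∅ ℓ ∅
      (Finset.disjoint_empty_right _) (Finset.disjoint_empty_right _)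
      (by rw [card_bitSet_15, h]) rfl (by rw [card_bitSet_15]; simp)
    unfold cntS
    rw [← hgl, ncard_gen_smul hg, ncard_gen, cnt4]

end Cfsg.Agent.Lib.Helper14.GolayLin
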