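import Mathlib
import Cfsg.Prelude.Def_Sporadic_a
import Cfsg.Agent.Lib.Helper3.Golay.Perm
import Cfsg.Agent.Lib.Helper3.Golay.Inter
import Cfsg.Agent.Lib.Helper14.GolayLinA
import Cfsg.Agent.Lib.Helper14.GolayLinB

set_option autoImplicit false

/-!
# Linear automorphisms of the Golay code preserving weights up to complement
-/

namespace Cfsg.Agent.Lib.Helper14.GolayLin

open Cfsg Cfsg.Agent.Lib.Helper3.Golay Finset
open scoped Pointwise

/-- the all-ones word -/
def oneW : GolayPt → ZMod 2 := fun _ => 1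

lemma oneW_mem : oneW ∈ golayCode := by
  have : oneW = (1 : GolayPt → ZMod 2) := rfl
  rw [this]
  exact Submodule.subset_span (Or.inr rfl)

/-- the hypotheses on the linear automorphism -/
structure Hyp (x : ↥golayCode ≃ₗ[ZMod 2] ↥golayCode) : Prop where
  one : ∀ e : ↥golayCode, (e : GolayPt → ZMod 2) = oneW → x e = e
  orb : ∀ c : ↥golayCode, ∃ σ ∈ M24,
    ((x c : ↥golayCode) : GolayPt → ZMod 2) = (fun p => (c : GolayPt → ZMod 2) (σ.symm p)) ∨
    ((x c : ↥golayCode) : GolayPt → ZMod 2) = (fun p => (c : GolayPt → ZMod 2) (σ.symm p)) + oneW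

lemma support_add_one (w : GolayPt → ZMod 2) : support₂ (w + oneW) = (support₂ w)ᶜ := by
  ext p
  rw [Finset.mem_compl, mem_support₂, mem_support₂, Pi.add_apply]
  unfold oneW
  generalize w p = t
  revert t; decide

/-- octad type: weight 8 or 16 -/
def octType (w : GolayPt → ZMod 2) : Prop := (support₂ w).card = 8 ∨ (support₂ w).card = 16

variable {x : ↥golayCode ≃ₗ[ZMod 2] ↥golayCode}

lemma wt_x (hx : Hyp x) (c : ↥golayCode) :
    (support₂ ((x c : ↥golayCode) : GolayPt → ZMod 2)).card =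
        (support₂ (c : GolayPt → ZMod 2)).card ∨
      (support₂ ((x c : ↥golayCode) : GolayPt → ZMod 2)).card =
        24 - (support₂ (c : GolayPt → ZMod 2)).card := by
  obtain ⟨σ, _, h | h⟩ := hx.orb c
  · left
    rw [h]
    have : (fun p => (c : GolayPt → ZMod 2) (σ.symm p)) = permWord σ c := rfl
    rw [this, support_permWord, Finset.card_smul_finset]
  · right
    rw [h, support_add_one, Finset.card_compl]
    have : (fun p => (c : GolayPt → ZMod 2) (σ.symm p)) = permWord σ c := rfl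
    rw [this, support_permWord, Finset.card_smul_finset]
    rfl

lemma octType_x (hx : Hyp x) (c : ↥golayCode) :
    octType ((x c : ↥golayCode) : GolayPt → ZMod 2) ↔ octType (c : GolayPt → ZMod 2) := by
  unfold octType
  have hle : (support₂ (c : GolayPt → ZMod 2)).card ≤ 24 := by
    calc _ ≤ (Finset.univ : Finset GolayPt).card := Finset.card_le_card (Finset.subset_univ _)
      _ = 24 := by decide
  rcases wt_x hx c with h | h <;> rw [h] <;> omega

/-- the set of octad-type code words killed by `fs ℓ` -/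
def SV (ℓ : Finset GolayPt) : Set ↥golayCode :=
  {c | octType (c : GolayPt → ZMod 2) ∧ fs ℓ (c : GolayPt → ZMod 2) = 0}

lemma TT_iff (w k : ℕ) : TT w k = true ↔ (w = 8 ∨ w = 16) ∧ k % 2 = 0 := by
  unfold TT
  simp [Nat.beq_eq_true_eq]

lemma ncard_SV (ℓ : Finset GolayPt) : (SV ℓ).ncard = cntS ℓ := by
  unfold cntS
  have hinj : Function.Injective (fun c : ↥golayCode => support₂ (c : GolayPt → ZMod 2)) := by
    intro c c' h
    exact Subtype.ext (support₂_injective h)
  rw [← Set.ncard_image_of_injective (SV ℓ) hinj]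
  congr 1
  ext b
  simp only [Set.mem_image, Set.mem_ofPred_eq, SV, TT_iff]
  constructor
  · rintro ⟨c, ⟨hc, hf⟩, rfl⟩
    refine ⟨⟨c, c.2, rfl⟩, hc, ?_⟩
    rw [fs_eq_zero_iff] at hf
    exact Nat.even_iff.1 hf
  · rintro ⟨⟨w, hw, rfl⟩, ht, hk⟩
    refine ⟨⟨w, hw⟩, ⟨ht, ?_⟩, rfl⟩
    rw [fs_eq_zero_iff]
    exact Nat.even_iff.2 hk

lemma ncard_SV_eq (hx : Hyp x) (d ℓ : Finset GolayPt)
    (h : ∀ c : ↥golayCode, fs d ((x c : ↥golayCode) : GolayPt → ZMod 2) =
      fs ℓ (c : GolayPt → ZMod 2)) : (SV ℓ).ncard = (SV d).ncard := by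
  have himg : x '' SV ℓ = SV d := by
    ext c'
    constructor
    · rintro ⟨c, ⟨hc, hf⟩, rfl⟩
      exact ⟨(octType_x hx c).2 hc, by rw [h c]; exact hf⟩
    · rintro ⟨hc', hf'⟩
      refine ⟨x.symm c', ⟨?_, ?_⟩, x.apply_symm_apply c'⟩
      · rw [← octType_x hx, x.apply_symm_apply]; exact hc'
      · rw [← h, x.apply_symm_apply]; exact hf'
  rw [← himg, Set.ncard_image_of_injective _ x.injective]

/-- `fs ℓ` as a linear map -/
def fsL (ℓ : Finset GolayPt) : (GolayPt → ZMod 2) →ₗ[ZMod 2] ZMod 2 where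
  toFun := fs ℓ
  map_add' := fs_add ℓ
  map_smul' := by
    intro a w
    simp [fs, Finset.mul_sum]

lemma fs_oneW (ℓ : Finset GolayPt) : fs ℓ oneW = (ℓ.card : ZMod 2) := by
  simp [fs, oneW]

/-- existence of the image duad -/
theorem exists_duad (hx : Hyp x) (a b : GolayPt) (hab : a ≠ b) :
    ∃ ℓ : Finset GolayPt, ℓ.card = 2 ∧ ∀ c : ↥golayCode,
      ((x c : ↥golayCode) : GolayPt → ZMod 2) a + ((x c : ↥golayCode) : GolayPt → ZMod 2) b =
        fs ℓ (c : GolayPt → ZMod 2) := by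
  classical
  let ψ : ↥golayCode →ₗ[ZMod 2] ZMod 2 :=
    (fsL {a, b}).comp (golayCode.subtype.comp x.toLinearMap)
  obtain ⟨ℓ, hl4, hl⟩ := exists_rep ψ
  have hψ : ∀ c : ↥golayCode, ψ c =
      ((x c : ↥golayCode) : GolayPt → ZMod 2) a + ((x c : ↥golayCode) : GolayPt → ZMod 2) b := by
    intro c
    show fs {a, b} ((x c : ↥golayCode) : GolayPt → ZMod 2) = _
    unfold fs
    rw [Finset.sum_pair hab]
  have hfs : ∀ c : ↥golayCode, fs {a, b} ((x c : ↥golayCode) : GolayPt → ZMod 2) =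
      fs ℓ (c : GolayPt → ZMod 2) := fun c => hl c
  -- parity
  have heven : Even ℓ.card := by
    have h1 := hl ⟨oneW, oneW_mem⟩
    have h2 : x ⟨oneW, oneW_mem⟩ = ⟨oneW, oneW_mem⟩ := hx.one _ rfl
    rw [hψ, h2] at h1
    simp only [fs_oneW] at h1
    have h3 : oneW a + oneW b = 0 := by unfold oneW; decide
    rw [h3] at h1
    exact (natCast_zmod2_eq_zero_iff _).1 h1.symm
  have hcnt : cntS ℓ = cntS {a, b} := by
    rw [← ncard_SV, ← ncard_SV]
    exact ncard_SV_eq hx {a, b} ℓ hfs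
  have hab2 : ({a, b} : Finset GolayPt).card = 2 := Finset.card_pair hab
  rw [(cntS_of_card {a, b}).2.1 hab2] at hcnt
  have hc := cntS_of_card ℓ
  have hcard : ℓ.card = 2 := by
    obtain ⟨k, hk⟩ := heven
    have hk2 : k ≤ 2 := by omega
    interval_cases k
    · have := hc.1 (by omega); omega
    · omega
    · have := hc.2.2 (by omega); omega
  exact ⟨ℓ, hcard, fun c => by rw [← hψ]; exact hl c⟩

end Cfsg.Agent.Lib.Helper14.GolayLin
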