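import Mathlib
import Cfsg.Prelude.Def_Sporadic_a
import Cfsg.Agent.Lib.Helper3.Golay.Perm
import Cfsg.Agent.Lib.Helper14.GolayLinA
import Cfsg.Agent.Lib.Helper14.GolayLinB
import Cfsg.Agent.Lib.Helper14.GolayLinC

set_option autoImplicit false

/-!
# A linear automorphism of the Golay code preserving weights up to complement is induced by `M24`
-/

namespace Cfsg.Agent.Lib.Helper14.GolayLin

open Cfsg Cfsg.Agent.Lib.Helper3.Golay Finset
open scoped Pointwise

variable {x : ↥golayCode ≃ₗ[ZMod 2] ↥golayCode}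

/-- the image duad -/
noncomputable def G (hx : Hyp x) (a b : GolayPt) : Finset GolayPt :=
  if h : a ≠ b then Classical.choose (exists_duad hx a b h) else ∅

lemma G_card (hx : Hyp x) {a b : GolayPt} (h : a ≠ b) : (G hx a b).card = 2 := by
  unfold G; rw [dif_pos h]
  exact (Classical.choose_spec (exists_duad hx a b h)).1

lemma G_spec (hx : Hyp x) {a b : GolayPt} (h : a ≠ b) (c : ↥golayCode) :
    ((x c : ↥golayCode) : GolayPt → ZMod 2) a + ((x c : ↥golayCode) : GolayPt → ZMod 2) b =
      fs (G hx a b) (c : GolayPt → ZMod 2) := by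
  unfold G; rw [dif_pos h]
  exact (Classical.choose_spec (exists_duad hx a b h)).2 c

lemma G_unique (hx : Hyp x) {a b : GolayPt} (h : a ≠ b) (ℓ : Finset GolayPt) (hl : ℓ.card ≤ 5)
    (hs : ∀ c : ↥golayCode,
      ((x c : ↥golayCode) : GolayPt → ZMod 2) a + ((x c : ↥golayCode) : GolayPt → ZMod 2) b =
        fs ℓ (c : GolayPt → ZMod 2)) : ℓ = G hx a b := by
  apply eq_of_fs_eq
  · rw [G_card hx h]; omega
  · intro c hc
    rw [← hs ⟨c, hc⟩, G_spec hx h ⟨c, hc⟩]

lemma G_symm (hx : Hyp x) {a b : GolayPt} (h : a ≠ b) : G hx a b = G hx b a := by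
  symm
  apply G_unique hx h
  · rw [G_card hx h.symm]; omega
  · intro c
    rw [add_comm]; exact G_spec hx h.symm c

lemma card_pair_le (a b : GolayPt) : ({a, b} : Finset GolayPt).card ≤ 2 := Finset.card_le_two

lemma G_inj (hx : Hyp x) {a b a' b' : GolayPt} (h : a ≠ b) (h' : a' ≠ b')
    (hG : G hx a b = G hx a' b') : ({a, b} : Finset GolayPt) = {a', b'} := by
  apply eq_of_fs_eq
  · have := card_pair_le a b; have := card_pair_le a' b'; omega
  · intro c hc
    set c0 := x.symm ⟨c, hc⟩ with hc0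
    have hxc : x c0 = ⟨c, hc⟩ := x.apply_symm_apply _
    have h1 := G_spec hx h c0
    have h2 := G_spec hx h' c0
    rw [hxc] at h1 h2
    unfold fs
    rw [Finset.sum_pair h, Finset.sum_pair h']
    show c a + c b = c a' + c b'
    rw [show c a + c b = fs (G hx a b) (c0 : GolayPt → ZMod 2) from h1, hG]
    exact h2.symm

lemma card_symmDiff_le (A B : Finset GolayPt) : (symmDiff A B).card ≤ A.card + B.card := by
  calc (symmDiff A B).card ≤ (A ∪ B).card := Finset.card_le_card (by
        intro p hp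
        rw [Finset.mem_symmDiff] at hp
        rcases hp with h | h
        · exact Finset.mem_union_left _ h.1
        · exact Finset.mem_union_right _ h.1)
    _ ≤ A.card + B.card := Finset.card_union_le A B

lemma zmod2_tri : ∀ p q r : ZMod 2, (p + q) + (p + r) = q + r := by decide

lemma G_tri (hx : Hyp x) {a b e : GolayPt} (hab : a ≠ b) (hae : a ≠ e) (hbe : b ≠ e) :
    symmDiff (G hx a b) (G hx a e) = G hx b e := by
  apply G_unique hx hbe
  · have := card_symmDiff_le (G hx a b) (G hx a e)
    rw [G_card hx hab, G_card hx hae] at this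
    omega
  · intro c
    rw [fs_symmDiff, ← G_spec hx hab c, ← G_spec hx hae c, zmod2_tri]

lemma inter_card_of_symmDiff {A B : Finset GolayPt} (hA : A.card = 2) (hB : B.card = 2)
    (h : (symmDiff A B).card = 2) : (A ∩ B).card = 1 := by
  have h1 : (symmDiff A B).card = (A \ B).card + (B \ A).card := by
    rw [symmDiff_def, Finset.sup_eq_union, Finset.card_union_of_disjoint]
    exact disjoint_sdiff_sdiff
  have h2 := Finset.card_sdiff_add_card_inter A B
  have h3 := Finset.card_sdiff_add_card_inter B A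
  rw [Finset.inter_comm B A] at h3
  omega

lemma pair_eq_of_mem {S : Finset GolayPt} (hS : S.card = 2) {p q : GolayPt} (hp : p ∈ S)
    (hq : q ∈ S) (hpq : p ≠ q) : S = {p, q} := by
  symm
  apply Finset.eq_of_subset_of_card_le
  · intro z hz
    rw [Finset.mem_insert, Finset.mem_singleton] at hz
    rcases hz with rfl | rfl <;> assumption
  · rw [hS, Finset.card_pair hpq]

lemma star_or_tri {A B E : Finset GolayPt} (hA : A.card = 2) (hB : B.card = 2) (hE : E.card = 2)
    (hAE : (A ∩ E).card = 1) (hBE : (B ∩ E).card = 1) {t : GolayPt}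
    (hAB : A ∩ B = {t}) : t ∈ E ∨ E = symmDiff A B := by
  by_cases htE : t ∈ E
  · exact Or.inl htE
  right
  have htA : t ∈ A := (Finset.mem_inter.1 (by rw [hAB]; exact Finset.mem_singleton_self t)).1
  have htB : t ∈ B := (Finset.mem_inter.1 (by rw [hAB]; exact Finset.mem_singleton_self t)).2
  obtain ⟨y, hy⟩ := Finset.card_eq_one.1 hAE
  obtain ⟨z, hz⟩ := Finset.card_eq_one.1 hBE
  have hyA : y ∈ A := (Finset.mem_inter.1 (by rw [hy]; exact Finset.mem_singleton_self y)).1
  have hyE : y ∈ E := (Finset.mem_inter.1 (by rw [hy]; exact Finset.mem_singleton_self y)).2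
  have hzB : z ∈ B := (Finset.mem_inter.1 (by rw [hz]; exact Finset.mem_singleton_self z)).1
  have hzE : z ∈ E := (Finset.mem_inter.1 (by rw [hz]; exact Finset.mem_singleton_self z)).2
  have hyt : y ≠ t := fun h => htE (h ▸ hyE)
  have hzt : z ≠ t := fun h => htE (h ▸ hzE)
  have hyz : y ≠ z := by
    intro h
    have : y ∈ A ∩ B := Finset.mem_inter.2 ⟨hyA, h ▸ hzB⟩
    rw [hAB, Finset.mem_singleton] at this
    exact hyt this
  have eA : A = {t, y} := pair_eq_of_mem hA htA hyA (Ne.symm hyt)
  have eB : B = {t, z} := pair_eq_of_mem hB htB hzB (Ne.symm hzt)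
  have eE : E = {y, z} := pair_eq_of_mem hE hyE hzE hyz
  rw [eA, eB, eE]
  ext p
  simp only [Finset.mem_symmDiff, Finset.mem_insert, Finset.mem_singleton]
  constructor
  · rintro (rfl | rfl)
    · left; exact ⟨Or.inr rfl, fun h => h.elim hyt hyz⟩
    · right; exact ⟨Or.inr rfl, fun h => h.elim hzt (Ne.symm hyz)⟩
  · rintro (⟨h1, h2⟩ | ⟨h1, h2⟩)
    · rcases h1 with rfl | rfl
      · exact absurd (Or.inl rfl) h2
      · exact Or.inl rfl
    · rcases h1 with rfl | rfl
      · exact absurd (Or.inl rfl) h2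
      · exact Or.inr rfl

lemma exists_two_ne : ∀ a : GolayPt, ∃ b c : GolayPt, b ≠ a ∧ c ≠ a ∧ b ≠ c := by decide
lemma exists_third : ∀ a b : GolayPt, ∃ c : GolayPt, c ≠ a ∧ c ≠ b := by decide

lemma inter_card (hx : Hyp x) {a b e : GolayPt} (hab : a ≠ b) (hae : a ≠ e) (hbe : b ≠ e) :
    (G hx a b ∩ G hx a e).card = 1 := by
  apply inter_card_of_symmDiff (G_card hx hab) (G_card hx hae)
  rw [G_tri hx hab hae hbe, G_card hx hbe]

/-- all the duads `G a e` share a point -/
theorem exists_center (hx : Hyp x) (a : GolayPt) : ∃ t, ∀ e, e ≠ a → t ∈ G hx a e := by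
  obtain ⟨b, c, hba, hca, hbc⟩ := exists_two_ne a
  obtain ⟨t, ht⟩ := Finset.card_eq_one.1 (inter_card hx (Ne.symm hba) (Ne.symm hca) hbc)
  have htb : t ∈ G hx a b := (Finset.mem_inter.1 (by rw [ht]; exact Finset.mem_singleton_self t)).1
  have htc : t ∈ G hx a c := (Finset.mem_inter.1 (by rw [ht]; exact Finset.mem_singleton_self t)).2
  refine ⟨t, fun e hea => ?_⟩
  by_cases heb : e = b
  · rw [heb]; exact htb
  by_cases hec : e = c
  · rw [hec]; exact htc
  have hbe : b ≠ e := fun h => heb h.symm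
  have hce : c ≠ e := fun h => hec h.symm
  rcases star_or_tri (G_card hx (Ne.symm hba)) (G_card hx (Ne.symm hca)) (G_card hx (Ne.symm hea))
    (inter_card hx (Ne.symm hba) (Ne.symm hea) hbe)
    (inter_card hx (Ne.symm hca) (Ne.symm hea) hce) ht with h | h
  · exact h
  · exfalso
    rw [G_tri hx (Ne.symm hba) (Ne.symm hca) hbc] at h
    have := G_inj hx (Ne.symm hea) hbc h
    have ha : a ∈ ({b, c} : Finset GolayPt) := by rw [← this]; exact Finset.mem_insert_self _ _
    rw [Finset.mem_insert, Finset.mem_singleton] at ha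
    rcases ha with h | h
    · exact hba h.symm
    · exact hca h.symm

/-- the induced map on points -/
noncomputable def tau (hx : Hyp x) (a : GolayPt) : GolayPt := Classical.choose (exists_center hx a)

lemma tau_mem (hx : Hyp x) {a e : GolayPt} (h : e ≠ a) : tau hx a ∈ G hx a e :=
  Classical.choose_spec (exists_center hx a) e h

lemma tau_ne (hx : Hyp x) {a b : GolayPt} (hab : a ≠ b) : tau hx a ≠ tau hx b := by
  intro h
  obtain ⟨c, hca, hcb⟩ := exists_third a b
  have h1 : tau hx a ∈ G hx c a := by rw [G_symm hx hca]; exact tau_mem hx hca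
  have h2 : tau hx a ∈ G hx c b := by rw [h, G_symm hx hcb]; exact tau_mem hx hcb
  have h3 : tau hx a ∈ G hx a b := tau_mem hx (Ne.symm hab)
  rw [← G_tri hx hca hcb hab, Finset.mem_symmDiff] at h3
  rcases h3 with ⟨_, h3⟩ | ⟨_, h3⟩
  · exact h3 h2
  · exact h3 h1

lemma G_eq (hx : Hyp x) {a b : GolayPt} (hab : a ≠ b) : G hx a b = {tau hx a, tau hx b} := by
  apply pair_eq_of_mem (G_card hx hab) (tau_mem hx (Ne.symm hab))
  · rw [G_symm hx hab]; exact tau_mem hx hab
  · exact tau_ne hx hab

lemma tau_injective (hx : Hyp x) : Function.Injective (tau hx) := by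
  intro a b h
  by_contra hab
  exact tau_ne hx hab h

lemma zmod2_cases2 : ∀ t : ZMod 2, t = 0 ∨ t = 1 := by decide

lemma zmod2_solve : ∀ A B C D : ZMod 2, A + B = C + D → A = C + (B + D) := by decide

/-- the main theorem -/
theorem main (hx : Hyp x) : ∃ σ ∈ M24, ∀ c : ↥golayCode,
    ((x c : ↥golayCode) : GolayPt → ZMod 2) = (fun p => (c : GolayPt → ZMod 2) (σ.symm p)) ∨
    ((x c : ↥golayCode) : GolayPt → ZMod 2) =
      (fun p => (c : GolayPt → ZMod 2) (σ.symm p)) + fun _ => (1 : ZMod 2) := by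
  classical
  let τe : Equiv.Perm GolayPt :=
    Equiv.ofBijective (tau hx) (Finite.injective_iff_bijective.1 (tau_injective hx))
  have hτe : ∀ p, τe p = tau hx p := fun p => rfl
  let σ : Equiv.Perm GolayPt := τe.symm
  have hσ : ∀ p, σ.symm p = tau hx p := fun p => rfl
  -- the key pointwise relation
  have hkey : ∀ c : ↥golayCode, ∀ p : GolayPt,
      ((x c : ↥golayCode) : GolayPt → ZMod 2) p = (c : GolayPt → ZMod 2) (tau hx p) +
        (((x c : ↥golayCode) : GolayPt → ZMod 2) none + (c : GolayPt → ZMod 2) (tau hx none)) := by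
    intro c p
    by_cases hp : p = none
    · rw [hp]
      generalize ((x c : ↥golayCode) : GolayPt → ZMod 2) none = A
      generalize (c : GolayPt → ZMod 2) (tau hx none) = B
      revert A B; decide
    · have h1 := G_spec hx hp c
      rw [G_eq hx hp] at h1
      unfold fs at h1
      rw [Finset.sum_pair (tau_ne hx hp)] at h1
      exact zmod2_solve _ _ _ _ h1
  have hform : ∀ c : ↥golayCode,
      ((x c : ↥golayCode) : GolayPt → ZMod 2) = (fun p => (c : GolayPt → ZMod 2) (σ.symm p)) ∨
      ((x c : ↥golayCode) : GolayPt → ZMod 2) =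
        (fun p => (c : GolayPt → ZMod 2) (σ.symm p)) + fun _ => (1 : ZMod 2) := by
    intro c
    rcases zmod2_cases2 (((x c : ↥golayCode) : GolayPt → ZMod 2) none +
      (c : GolayPt → ZMod 2) (tau hx none)) with h | h
    · left
      funext p
      rw [hkey c p, h, add_zero, hσ]
    · right
      funext p
      rw [hkey c p, h, Pi.add_apply, hσ]
  refine ⟨σ, ?_, hform⟩
  rw [mem_M24_iff]
  intro w hw
  have hpw : permWord σ w = fun p => w (σ.symm p) := rfl
  rcases hform ⟨w, hw⟩ with h | h
  · rw [hpw]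
    have : (fun p => w (σ.symm p)) = ((x ⟨w, hw⟩ : ↥golayCode) : GolayPt → ZMod 2) := h.symm
    rw [this]
    exact (x ⟨w, hw⟩).2
  · rw [hpw]
    have h2 : (fun p => w (σ.symm p)) =
        ((x ⟨w, hw⟩ : ↥golayCode) : GolayPt → ZMod 2) + oneW := by
      have h' : ((x ⟨w, hw⟩ : ↥golayCode) : GolayPt → ZMod 2) =
          (fun p => w (σ.symm p)) + oneW := h
      rw [h', add_assoc]
      have : oneW + oneW = 0 := by
        funext p
        show (1 : ZMod 2) + 1 = 0
        decide
      rw [this, add_zero]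
    rw [h2]
    exact golayCode.add_mem (x ⟨w, hw⟩).2 oneW_mem

end Cfsg.Agent.Lib.Helper14.GolayLin
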