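import Cfsg.Agent.Lib.Helper14.HSRecC
import Cfsg.Agent.S0405
import Cfsg.Prelude.Def_Spor_Conway

set_option autoImplicit false
set_option linter.unusedSectionVars false
set_option linter.unusedVariables false
set_option linter.style.haveILetI false

/-! Part D: the Higman–Sims group of the Prelude (a joint stabilizer in the Leech lattice) is a
rank 3 group of the kind recognised in part C. -/

namespace Cfsg.Agent.Lib.Helper14.HSRec

open Cfsg
open Cfsg.Agent.Lib.Helper14.LeechMono (dot_pres smul_coe)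
open Cfsg.Agent.S0405 (G0 S100 x0 A100 B100 card_S100 trans_S100 cover100 x0_notMem_A x0_notMem_B
  ncard_A ncard_B trans_A trans_B faithful100 card_G0 conjEquiv smul_val)
open Cfsg.Agent.S1584 (U0 WS V0)
open Cfsg.Agent.Lib.Helper14.LeechPairs (v0)
open MulAction
open scoped Classical

noncomputable instance fintypeS100 : Fintype ↥S100 :=
  haveI : Finite ↥S100 := Nat.finite_of_card_ne_zero (by rw [card_S100]; norm_num)
  Fintype.ofFinite _

instance faithfulS100 : FaithfulSMul ↥G0 ↥S100 where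
  eq_of_smul_eq_smul := by
    intro g h hgh
    have : h⁻¹ * g = 1 := by
      apply faithful100
      intro y
      rw [mul_smul, hgh y, inv_smul_smul]
    rw [inv_mul_eq_one] at this
    exact this.symm

theorem invA100 (g : ↥G0) (hg : g • x0 = x0) (a : ↥S100) (ha : a ∈ A100) : g • a ∈ A100 := by
  have h := dot_pres g.1.1 g.1.2 V0 a.1
  have hfix : g.1.1 V0 = V0 := by
    have := congrArg Subtype.val hg
    exact this
  rw [hfix] at h
  show dotInt v0 (((g • a : ↥S100) : ↥leechLattice) : GolayPt → ℤ) = 8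
  rw [smul_val]
  have ha' : dotInt v0 ((a : ↥leechLattice) : GolayPt → ℤ) = 8 := ha
  rw [← ha']
  exact h

theorem R3_G0 : R3 ↥G0 x0 A100 B100 where
  cardV := by rw [← Nat.card_eq_fintype_card, card_S100]
  trans := trans_S100
  cover := cover100
  notA := x0_notMem_A
  notB := x0_notMem_B
  cardA := ncard_A
  cardB := ncard_B
  invA := invA100
  transA := trans_A
  transB := trans_B

/-! ### the Prelude's `HS` -/

/-- the second vector: `-(leechV + leechU')` -/
noncomputable def leechW : ↥leechLattice := -(Spor.leechV + Spor.leechU')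

theorem leechV_norm : sqNorm ((Spor.leechV : ↥leechLattice) : GolayPt → ℤ) = 48 := by
  show sqNorm Spor.vecV = 48
  decide +kernel

theorem leechW_norm : sqNorm ((leechW : ↥leechLattice) : GolayPt → ℤ) = 48 := by
  show sqNorm (-(Spor.vecV + Spor.vecU')) = 48
  decide +kernel

theorem leechVW_dot : dotInt ((Spor.leechV : ↥leechLattice) : GolayPt → ℤ)
    ((leechW : ↥leechLattice) : GolayPt → ℤ) = -32 := by
  show dotInt Spor.vecV (-(Spor.vecV + Spor.vecU')) = -32
  decide +kernel

theorem map_neg_of_mem {g : Equiv.Perm ↥leechLattice} (hg : g ∈ Co0) (x : ↥leechLattice) :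
    g (-x) = -g x := by
  have h0 : g 0 = 0 := by
    have := hg.1 0 0
    rw [add_zero] at this
    exact left_eq_add.mp this
  have := hg.1 x (-x)
  rw [add_neg_cancel, h0] at this
  exact (neg_eq_of_add_eq_zero_right this.symm).symm

theorem mem_HS_iff (g : Equiv.Perm ↥leechLattice) :
    g ∈ Spor.HS ↔ g ∈ Co0 ∧ g Spor.leechV = Spor.leechV ∧ g leechW = leechW := by
  unfold Spor.HS Spor.Co3
  rw [Subgroup.mem_inf, Subgroup.mem_inf, MulAction.mem_stabilizer_iff,
    MulAction.mem_stabilizer_iff, and_assoc]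
  constructor
  · rintro ⟨h0, h1, h2⟩
    have h1' : g Spor.leechV = Spor.leechV := h1
    have h2' : g Spor.leechU' = Spor.leechU' := h2
    refine ⟨h0, h1', ?_⟩
    unfold leechW
    rw [map_neg_of_mem h0, h0.1, h1', h2']
  · rintro ⟨h0, h1, h2⟩
    refine ⟨h0, h1, ?_⟩
    show g Spor.leechU' = Spor.leechU'
    have hU : Spor.leechU' = -leechW + -Spor.leechV := by
      unfold leechW
      abel
    rw [hU, h0.1, map_neg_of_mem h0, map_neg_of_mem h0, h1, h2]

/-- the Prelude's `HS` as a joint stabilizer inside `Co0` -/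
noncomputable def hsEquivStab :
    ↥Spor.HS ≃* ↥(stabilizer ↥Co0 Spor.leechV ⊓ stabilizer ↥Co0 leechW) where
  toFun g := ⟨⟨g.1, ((mem_HS_iff g.1).mp g.2).1⟩, by
    constructor
    · show (⟨g.1, _⟩ : ↥Co0) • Spor.leechV = Spor.leechV
      exact ((mem_HS_iff g.1).mp g.2).2.1
    · show (⟨g.1, _⟩ : ↥Co0) • leechW = leechW
      exact ((mem_HS_iff g.1).mp g.2).2.2⟩
  invFun g := ⟨g.1.1, (mem_HS_iff g.1.1).mpr ⟨g.1.2, g.2.1, g.2.2⟩⟩
  left_inv g := rfl
  right_inv g := rfl
  map_mul' g h := rfl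

theorem hs_iso_G0 : Nonempty (↥Spor.HS ≃* ↥G0) := by
  obtain ⟨k, hkv, hkw⟩ := Cfsg.Agent.Lib.Helper14.LeechHS.pair_move Spor.leechV leechW U0 WS
    leechV_norm leechW_norm leechVW_dot Cfsg.Agent.S1578.u0_norm Cfsg.Agent.S1583.ws_norm
    Cfsg.Agent.S1583.dot_u0_ws
  exact ⟨hsEquivStab.trans (conjEquiv k Spor.leechV U0 leechW WS hkv hkw)⟩

/-- recognition: a faithful rank 3 group of order `44352000` with subdegrees `1, 22, 77` is
isomorphic to the Higman–Sims group -/
theorem isoHS_of_R3 {H V : Type*} [Group H] [MulAction H V] [Fintype V] [FaithfulSMul H V]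
    {v₀ : V} {A B : Set V} (hR : R3 H v₀ A B) (hc : Nat.card H = 44352000) :
    Spor.IsoHS H := by
  obtain ⟨e1⟩ := iso_of_R3 hR R3_G0 hc card_G0
  obtain ⟨e2⟩ := hs_iso_G0
  exact ⟨e1.trans e2.symm⟩

end Cfsg.Agent.Lib.Helper14.HSRec
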