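import Cfsg.Agent.Lib.Helper14.HSOutB
import Cfsg.Agent.Lib.Helper10.OutGen

set_option autoImplicit false
set_option linter.unusedSectionVars false
set_option linter.unusedVariables false
set_option linter.style.haveILetI false

/-! Part C: automorphisms of the group are induced by automorphisms of the orbital graph; the
outer automorphism group has order two. -/

namespace Cfsg.Agent.Lib.Helper14.HSRec

open Finset MulAction
open scoped Classical

variable {H V : Type*} [Group H] [MulAction H V] [Fintype V]
variable {v₀ : V} {A B : Set V}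

section sigma

variable (hR : R3 H v₀ A B) (hc : Nat.card H = 44352000)
  (hM : ∀ L : Subgroup H, L ≤ stabilizer H v₀ → Nat.card ↥L ≠ 7920)

include hR hc hM in
/-- the image of a point stabilizer under an automorphism is a point stabilizer -/
theorem exists_stab_eq (α : MulAut H) (v : V) :
    ∃ w : V, (stabilizer H v).map α.toMonoidHom = stabilizer H w := by
  haveI : Finite H := finite_of_card _ hc (by norm_num)
  have hcard : Nat.card ↥((stabilizer H v).map α.toMonoidHom) = 443520 := by
    rw [Subgroup.card_map_of_injective α.injective, card_stab hR hc]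
  obtain ⟨w, hw⟩ := exists_fixed hR hc hM _ hcard
  refine ⟨w, ?_⟩
  apply Subgroup.eq_of_le_of_card_ge (fun k hk => hw k hk)
  rw [hcard, card_stab hR hc]

/-- the permutation of the points induced by an automorphism -/
noncomputable def sig (α : MulAut H) (v : V) : V :=
  Classical.choose (exists_stab_eq hR hc hM α v)

theorem stab_sig (α : MulAut H) (v : V) :
    stabilizer H (sig hR hc hM α v) = (stabilizer H v).map α.toMonoidHom :=
  (Classical.choose_spec (exists_stab_eq hR hc hM α v)).symm

theorem sig_smul (α : MulAut H) (h : H) (v : V) :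
    sig hR hc hM α (h • v) = α h • sig hR hc hM α v := by
  apply stab_injective hR hc
  rw [stab_sig, stabilizer_smul_eq_stabilizer_map_conj, stabilizer_smul_eq_stabilizer_map_conj,
    stab_sig, Subgroup.map_map, Subgroup.map_map]
  congr 1
  ext x
  simp only [MonoidHom.coe_comp, MulEquiv.coe_toMonoidHom, Function.comp_apply,
    MulAut.conj_apply, map_mul, map_inv]

theorem sig_inv (α : MulAut H) (v : V) : sig hR hc hM α⁻¹ (sig hR hc hM α v) = v := by
  apply stab_injective hR hc
  rw [stab_sig, stab_sig, Subgroup.map_map]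
  have : (α⁻¹ : MulAut H).toMonoidHom.comp α.toMonoidHom = MonoidHom.id H := by
    ext x
    show α⁻¹ (α x) = x
    rw [MulAut.inv_apply_self]
  rw [this, Subgroup.map_id]

theorem sig_adj (α : MulAut H) (x y : V) :
    adj H v₀ A (sig hR hc hM α x) (sig hR hc hM α y) ↔ adj H v₀ A x y := by
  rw [adj_iff_card hR hc, adj_iff_card hR hc, stab_sig, stab_sig,
    ← Subgroup.map_inf _ _ _ α.injective, Subgroup.card_map_of_injective α.injective]

/-- the graph automorphism induced by an automorphism of the group -/
noncomputable def sigAut (α : MulAut H) : Gr hR ≃g Gr hR where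
  toFun := sig hR hc hM α
  invFun := sig hR hc hM α⁻¹
  left_inv := sig_inv hR hc hM α
  right_inv := by
    intro v
    have := sig_inv hR hc hM α⁻¹ v
    rwa [inv_inv] at this
  map_rel_iff' := fun {x y} => sig_adj hR hc hM α x y

theorem sigAut_apply (α : MulAut H) (v : V) : sigAut hR hc hM α v = sig hR hc hM α v := rfl

theorem sigAut_conj (α : MulAut H) (h : H) :
    sigAut hR hc hM α * toAut hR h = toAut hR (α h) * sigAut hR hc hM α := by
  ext v
  exact sig_smul hR hc hM α h v

theorem sigAut_injective [FaithfulSMul H V] : Function.Injective (sigAut hR hc hM) := by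
  intro α β hαβ
  ext h
  apply toAut_injective hR
  have h1 := sigAut_conj hR hc hM α h
  have h2 := sigAut_conj hR hc hM β h
  rw [hαβ] at h1
  exact mul_right_cancel (h1.symm.trans h2)

include hR hc hM in
theorem card_mulAut_le [FaithfulSMul H V] : Nat.card (MulAut H) ≤ 2 * Nat.card H := by
  have := Nat.card_le_card_of_injective _ (sigAut_injective hR hc hM)
  rw [card_aut (isSRG hR)] at this
  rw [hc]
  exact this

end sigma

section outer

variable (hR : R3 H v₀ A B) (hc : Nat.card H = 44352000)

include hc in
/-- a graph automorphism commuting with the group is trivial -/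
theorem eq_one_of_commute (c : Gr hR ≃g Gr hR) (hcomm : ∀ h : H, c * toAut hR h = toAut hR h * c) :
    c = 1 := by
  ext v
  show c v = v
  apply eq_of_stab_fixes hR hc
  intro s hs
  have h1 := DFunLike.congr_fun (hcomm s) v
  have h2 : c (s • v) = s • c v := h1
  rw [hs] at h2
  exact h2.symm

include hR hc in
theorem center_eq_bot [FaithfulSMul H V] : Subgroup.center H = ⊥ := by
  rw [Subgroup.eq_bot_iff_forall]
  intro z hz
  apply FaithfulSMul.eq_of_smul_eq_smul (α := V)
  intro v
  rw [one_smul]
  apply eq_of_stab_fixes hR hc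
  intro s hs
  have hs' : s • v = v := hs
  rw [Subgroup.mem_center_iff] at hz
  rw [← mul_smul, hz s, mul_smul, hs']

include hR hc in
/-- an automorphism of the group that is not inner -/
theorem exists_not_inner [FaithfulSMul H V] : ∃ φ : MulAut H, φ ∉ Cfsg.Inn H := by
  have hinj := toAut_injective hR
  set K : Subgroup (Gr hR ≃g Gr hR) := (toAut hR).range with hKdef
  have hcK : Nat.card ↥K = 44352000 := by
    rw [← hc]
    exact (Nat.card_congr (MonoidHom.ofInjective hinj).toEquiv).symm
  have hcA := card_aut (isSRG hR)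
  have hidx : K.index = 2 := by
    have := K.card_mul_index
    rw [hcK, hcA] at this
    omega
  haveI : K.Normal := Subgroup.normal_of_index_eq_two hidx
  -- an automorphism of the graph outside the group
  obtain ⟨τ, hτ⟩ : ∃ τ : Gr hR ≃g Gr hR, τ ∉ K := by
    by_contra hall
    push Not at hall
    have : K = ⊤ := (Subgroup.eq_top_iff' K).mpr hall
    rw [this, Subgroup.index_top] at hidx
    omega
  let ι : H ≃* ↥K := MonoidHom.ofInjective hinj
  let φ : MulAut H := ι.trans ((MulAut.conjNormal τ : MulAut ↥K).trans ι.symm)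
  have hφ : ∀ h : H, toAut hR (φ h) = τ * toAut hR h * τ⁻¹ := by
    intro h
    have h1 : ι (φ h) = (MulAut.conjNormal τ : MulAut ↥K) (ι h) := by
      show ι (ι.symm ((MulAut.conjNormal τ : MulAut ↥K) (ι h))) = _
      rw [MulEquiv.apply_symm_apply]
    have h2 := congrArg (fun k : ↥K => (k : Gr hR ≃g Gr hR)) h1
    simp only [MulAut.conjNormal_apply] at h2
    exact h2
  refine ⟨φ, ?_⟩
  rintro ⟨h₀, hh₀⟩
  apply hτ
  have hcomm : ∀ h : H, ((toAut hR h₀)⁻¹ * τ) * toAut hR h = toAut hR h * ((toAut hR h₀)⁻¹ * τ) := by
    intro h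
    have h1 := hφ h
    rw [← hh₀, MulAut.conj_apply, map_mul, map_mul, map_inv] at h1
    -- `a h a⁻¹ = τ h τ⁻¹`
    have h2 : toAut hR h₀ * toAut hR h * (toAut hR h₀)⁻¹ * τ = τ * toAut hR h := by
      rw [h1]; group
    calc ((toAut hR h₀)⁻¹ * τ) * toAut hR h = (toAut hR h₀)⁻¹ * (τ * toAut hR h) := by group
      _ = (toAut hR h₀)⁻¹ * (toAut hR h₀ * toAut hR h * (toAut hR h₀)⁻¹ * τ) := by rw [h2]
      _ = toAut hR h * ((toAut hR h₀)⁻¹ * τ) := by group
  have h1 := eq_one_of_commute hR hc _ hcomm
  have h2 : τ = toAut hR h₀ := by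
    have := congrArg (fun x => toAut hR h₀ * x) h1
    simpa using this
  rw [h2]
  exact ⟨h₀, rfl⟩

end outer

/-- the outer automorphism group has order two -/
theorem card_out_of_R3 [FaithfulSMul H V] (hR : R3 H v₀ A B) (hc : Nat.card H = 44352000)
    (hM : ∀ L : Subgroup H, L ≤ stabilizer H v₀ → Nat.card ↥L ≠ 7920) :
    Nat.card (Cfsg.Out H) = 2 := by
  haveI : Finite H := finite_of_card _ hc (by norm_num)
  obtain ⟨φ, hφ⟩ := exists_not_inner hR hc
  exact Cfsg.Agent.Lib.Helper10.OutG.card_out_eq_two (center_eq_bot hR hc)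
    (card_mulAut_le hR hc hM) φ hφ

end Cfsg.Agent.Lib.Helper14.HSRec
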