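import Cfsg.Agent.Lib.Helper14.HSRecD
import Cfsg.Agent.Lib.Helper14.HSOutC

set_option autoImplicit false
set_option linter.unusedSectionVars false
set_option linter.unusedVariables false
set_option linter.style.haveILetI false

/-! The automorphism group of a strongly regular graph with parameters `(100, 22, 0, 6)`: it has a
normal simple subgroup of index two isomorphic to the Higman–Sims group, and a trivial centre. -/

namespace Cfsg.Agent.Lib.Helper14.HSRec

open Cfsg
open Cfsg.Agent.S0405 (G0 S100 x0 A100 B100 card_G0)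
open scoped Classical

variable {V : Type*} [Fintype V] {Γ : SimpleGraph V}

theorem aut_structure (hΓ : Γ.IsSRGWith 100 22 0 6) :
    ∃ S : Subgroup (Γ ≃g Γ), S.Normal ∧ S.index = 2 ∧ IsSimpleGroup S ∧
      Nat.card S = 44352000 ∧ Nonempty (S ≃* Spor.HS) ∧ Subgroup.center (Γ ≃g Γ) = ⊥ := by
  obtain ⟨S, hSs, hSc⟩ := exists_simple hΓ
  have hA := card_aut hΓ
  have hSi : S.index = 2 := by
    have := S.card_mul_index
    rw [hSc, hA] at this
    omega
  have hΓ₀ := isSRG R3_G0
  obtain ⟨e⟩ := Cfsg.Agent.Lib.Helper10.Srg100.srg_unique hΓ hΓ₀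
  let ψ : (Γ ≃g Γ) ≃* (Gr R3_G0 ≃g Gr R3_G0) := autCongr e
  refine ⟨S, Subgroup.normal_of_index_eq_two hSi, hSi, hSs, hSc, ?_, ?_⟩
  · -- the image of `S` is the image of `G0`
    let S₀ : Subgroup (Gr R3_G0 ≃g Gr R3_G0) := S.map ψ.toMonoidHom
    let ε : S ≃* S₀ := ψ.subgroupMap S
    haveI : IsSimpleGroup S₀ := ε.symm.isSimpleGroup
    have hS₀c : Nat.card S₀ = 44352000 := by
      rw [← hSc]
      exact (Nat.card_congr ε.toEquiv).symm
    have hinj := toAut_injective R3_G0
    have hTc : Nat.card (toAut R3_G0).range = 44352000 := by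
      rw [← card_G0]
      exact (Nat.card_congr (MonoidHom.ofInjective hinj).toEquiv).symm
    have hT : (toAut R3_G0).range = S₀ := unique_sub hΓ₀ S₀ _ hS₀c hTc
    obtain ⟨e2⟩ := hs_iso_G0
    exact ⟨ε.trans ((MulEquiv.subgroupCongr hT.symm).trans
      ((MonoidHom.ofInjective hinj).symm.trans e2.symm))⟩
  · rw [Subgroup.eq_bot_iff_forall]
    intro c hc
    have h1 : ψ c = 1 := by
      apply eq_one_of_commute R3_G0 card_G0
      intro h
      have := (Subgroup.mem_center_iff.mp hc) (ψ.symm (toAut R3_G0 h))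
      have h2 := congrArg ψ this
      rw [map_mul, map_mul, ψ.apply_symm_apply] at h2
      exact h2.symm
    exact (MulEquiv.map_eq_one_iff ψ).mp h1

end Cfsg.Agent.Lib.Helper14.HSRec
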