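import Cfsg.Agent.Lib.Helper14.HSRecC
import Cfsg.Agent.Lib.Helper3.Golay.OrbitStab

set_option autoImplicit false
set_option linter.unusedSectionVars false
set_option linter.unusedVariables false
set_option linter.style.haveILetI false

/-! Automorphisms of a rank 3 group of order `44352000` on `100` points with subdegrees
`1, 22, 77`.  Part A: orders of one and two point stabilizers. -/

namespace Cfsg.Agent.Lib.Helper14.HSRec

open Finset MulAction
open scoped Classical

variable {H V : Type*} [Group H] [MulAction H V] [Fintype V]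
variable {v₀ : V} {A B : Set V}

theorem finite_of_card {G : Type*} (n : ℕ) (h : Nat.card G = n) (hn : n ≠ 0) : Finite G :=
  Nat.finite_of_card_ne_zero (by rw [h]; exact hn)

theorem card_stab (hR : R3 H v₀ A B) (hc : Nat.card H = 44352000) (v : V) :
    Nat.card ↥(stabilizer H v) = 443520 := by
  haveI : IsPretransitive H V := ⟨hR.trans⟩
  have h1 := Subgroup.card_eq_card_quotient_mul_card_subgroup (stabilizer H v)
  rw [← Nat.card_congr (MulAction.orbitEquivQuotientStabilizer H v),
    MulAction.orbit_eq_univ, Nat.card_congr (Equiv.Set.univ V), Nat.card_eq_fintype_card (α := V),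
    hR.cardV, hc] at h1
  omega

theorem card_stab2_smul (g : H) (x y : V) :
    Nat.card ↥(stabilizer H (g • x) ⊓ stabilizer H (g • y))
      = Nat.card ↥(stabilizer H x ⊓ stabilizer H y) := by
  rw [stabilizer_smul_eq_stabilizer_map_conj, stabilizer_smul_eq_stabilizer_map_conj,
    ← Subgroup.map_inf _ _ _ (MulAut.conj g).injective]
  exact Subgroup.card_map_of_injective (MulAut.conj g).injective

theorem orbit_stab_A (hR : R3 H v₀ A B) {y : V} (hy : y ∈ A) :
    orbit ↥(stabilizer H v₀) y = A := by
  ext z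
  constructor
  · rintro ⟨s, rfl⟩
    exact hR.invA s.1 s.2 y hy
  · intro hz
    obtain ⟨h, hh, hz'⟩ := hR.transA y hy z hz
    exact ⟨⟨h, hh⟩, hz'⟩

theorem orbit_stab_B (hR : R3 H v₀ A B) {y : V} (hy : y ∈ B) :
    orbit ↥(stabilizer H v₀) y = B := by
  ext z
  constructor
  · rintro ⟨s, rfl⟩
    exact invB hR s.1 s.2 hy
  · intro hz
    obtain ⟨h, hh, hz'⟩ := hR.transB y hy z hz
    exact ⟨⟨h, hh⟩, hz'⟩

theorem card_stab2_base_A (hR : R3 H v₀ A B) (hc : Nat.card H = 44352000) {y : V} (hy : y ∈ A) :
    Nat.card ↥(stabilizer H v₀ ⊓ stabilizer H y) = 20160 := by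
  have h1 := Cfsg.Agent.Lib.Helper3.Golay.card_eq_orbit_mul (stabilizer H v₀) y
  have h2 : Nat.card ↥(orbit ↥(stabilizer H v₀) y) = 22 := by
    rw [orbit_stab_A hR hy, Nat.card_coe_set_eq, hR.cardA]
  rw [h2, card_stab hR hc] at h1
  omega

theorem card_stab2_base_B (hR : R3 H v₀ A B) (hc : Nat.card H = 44352000) {y : V} (hy : y ∈ B) :
    Nat.card ↥(stabilizer H v₀ ⊓ stabilizer H y) = 5760 := by
  have h1 := Cfsg.Agent.Lib.Helper3.Golay.card_eq_orbit_mul (stabilizer H v₀) y
  have h2 : Nat.card ↥(orbit ↥(stabilizer H v₀) y) = 77 := by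
    rw [orbit_stab_B hR hy, Nat.card_coe_set_eq, hR.cardB]
  rw [h2, card_stab hR hc] at h1
  omega

theorem card_stab2_adj (hR : R3 H v₀ A B) (hc : Nat.card H = 44352000) {x y : V}
    (h : adj H v₀ A x y) : Nat.card ↥(stabilizer H x ⊓ stabilizer H y) = 20160 := by
  obtain ⟨g, rfl⟩ := hR.trans v₀ x
  have h1 : adj H v₀ A v₀ (g⁻¹ • y) := by
    have := adj_smul_of g⁻¹ h
    rwa [inv_smul_smul] at this
  rw [adj_base hR] at h1
  have := card_stab2_smul g v₀ (g⁻¹ • y)
  rw [smul_inv_smul] at this
  rw [this, card_stab2_base_A hR hc h1]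

theorem card_stab2_not_adj (hR : R3 H v₀ A B) (hc : Nat.card H = 44352000) {x y : V}
    (hne : x ≠ y) (h : ¬ adj H v₀ A x y) :
    Nat.card ↥(stabilizer H x ⊓ stabilizer H y) = 5760 := by
  obtain ⟨g, rfl⟩ := hR.trans v₀ x
  have h1 : g⁻¹ • y ∈ B := by
    rw [mem_B_iff hR]
    constructor
    · intro h2
      apply hne
      rw [← h2, smul_inv_smul]
    · intro h2
      apply h
      have := adj_smul_of g h2
      rwa [smul_inv_smul] at this
  have := card_stab2_smul g v₀ (g⁻¹ • y)
  rw [smul_inv_smul] at this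
  rw [this, card_stab2_base_B hR hc h1]

/-- adjacency is visible in the order of the two point stabilizer -/
theorem adj_iff_card (hR : R3 H v₀ A B) (hc : Nat.card H = 44352000) (x y : V) :
    adj H v₀ A x y ↔ Nat.card ↥(stabilizer H x ⊓ stabilizer H y) = 20160 := by
  constructor
  · exact card_stab2_adj hR hc
  · intro h
    by_contra hn
    by_cases hxy : x = y
    · subst hxy
      rw [inf_idem, card_stab hR hc] at h
      omega
    · rw [card_stab2_not_adj hR hc hxy hn] at h
      omega

/-- a point stabilizer fixes only its point -/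
theorem eq_of_stab_fixes (hR : R3 H v₀ A B) (hc : Nat.card H = 44352000) {v w : V}
    (h : ∀ s ∈ stabilizer H v, s • w = w) : w = v := by
  by_contra hne
  have hle : stabilizer H v ≤ stabilizer H w := fun s hs => h s hs
  have h1 : stabilizer H v ⊓ stabilizer H w = stabilizer H v := inf_eq_left.mpr hle
  by_cases ha : adj H v₀ A v w
  · have := card_stab2_adj hR hc ha
    rw [h1, card_stab hR hc] at this
    omega
  · have := card_stab2_not_adj hR hc (Ne.symm hne) ha
    rw [h1, card_stab hR hc] at this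
    omega

theorem stab_injective (hR : R3 H v₀ A B) (hc : Nat.card H = 44352000) {v w : V}
    (h : stabilizer H v = stabilizer H w) : v = w := by
  apply eq_of_stab_fixes hR hc
  intro s hs
  rw [← h] at hs
  exact hs

/-- the order of a two point stabilizer divides `20160` or `5760` -/
theorem card_stab2_cases (hR : R3 H v₀ A B) (hc : Nat.card H = 44352000) {x y : V}
    (hne : x ≠ y) : (adj H v₀ A x y ∧ Nat.card ↥(stabilizer H x ⊓ stabilizer H y) = 20160) ∨
      Nat.card ↥(stabilizer H x ⊓ stabilizer H y) = 5760 := by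
  by_cases ha : adj H v₀ A x y
  · exact Or.inl ⟨ha, card_stab2_adj hR hc ha⟩
  · exact Or.inr (card_stab2_not_adj hR hc hne ha)

end Cfsg.Agent.Lib.Helper14.HSRec
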