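import Cfsg.Agent.Lib.Helper14.HSOutA

set_option autoImplicit false
set_option linter.unusedSectionVars false
set_option linter.unusedVariables false
set_option linter.style.haveILetI false

/-! Part B: a subgroup of the order of a point stabilizer fixes a point. -/

namespace Cfsg.Agent.Lib.Helper14.HSRec

open Finset MulAction
open scoped Classical

/-- fixed points of an element of prime order -/
theorem card_modEq_fixed {G X : Type*} [Group G] [MulAction G X] [Finite X] (z : G) (p : ℕ)
    [Fact p.Prime] (hz : orderOf z = p) :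
    Nat.card X ≡ Nat.card {x : X // z • x = x} [MOD p] := by
  have hZ : IsPGroup p ↥(Subgroup.zpowers z) :=
    IsPGroup.of_card (n := 1) (by rw [Nat.card_zpowers, hz, pow_one])
  have h := hZ.card_modEq_card_fixedPoints X
  have hset : fixedPoints ↥(Subgroup.zpowers z) X = {x : X | z • x = x} := by
    ext x
    constructor
    · intro hx
      exact hx ⟨z, Subgroup.mem_zpowers z⟩
    · intro hx s
      have hle : Subgroup.zpowers z ≤ stabilizer G x := by
        rw [Subgroup.zpowers_le]
        exact hx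
      exact hle s.2
  rw [hset] at h
  exact h

variable {H V : Type*} [Group H] [MulAction H V] [Fintype V]
variable {v₀ : V} {A B : Set V}

/-- an element whose order divides neither `20160` nor `5760` fixes at most one point -/
theorem fix_unique_of_order (hR : R3 H v₀ A B) (hc : Nat.card H = 44352000) {z : H} {p : ℕ}
    (hz : orderOf z = p) (hp1 : ¬ p ∣ 20160) (hp2 : ¬ p ∣ 5760) {x y : V} (hx : z • x = x)
    (hy : z • y = y) : x = y := by
  by_contra hne
  have hmem : z ∈ stabilizer H x ⊓ stabilizer H y := ⟨hx, hy⟩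
  have hdvd := Subgroup.orderOf_dvd_natCard _ hmem
  rw [hz] at hdvd
  rcases card_stab2_cases hR hc hne with ⟨_, h⟩ | h
  · rw [h] at hdvd; exact hp1 hdvd
  · rw [h] at hdvd; exact hp2 hdvd

theorem orbit_sizes : ∀ s : ℕ, s ≤ 100 → s % 11 = 1 → 443520 % s = 0 →
    s = 1 ∨ s = 12 ∨ s = 45 ∨ s = 56 := by
  decide

theorem not_seven_dvd : ∀ t : ℕ, t ≤ 55 → 0 < t → t % 11 = 0 → ¬ 7 ∣ t := by
  decide

instance fact11 : Fact (Nat.Prime 11) := ⟨by norm_num⟩

/-- a subgroup of the order of a point stabilizer fixes a point, provided the point stabilizers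
have no subgroups of order `7920` -/
theorem exists_fixed (hR : R3 H v₀ A B) (hc : Nat.card H = 44352000)
    (hM : ∀ L : Subgroup H, L ≤ stabilizer H v₀ → Nat.card ↥L ≠ 7920)
    (K : Subgroup H) (hK : Nat.card ↥K = 443520) : ∃ w : V, ∀ k ∈ K, k • w = w := by
  haveI : Finite ↥K := finite_of_card _ hK (by norm_num)
  -- an element of order `11`
  obtain ⟨z, hz⟩ := exists_prime_orderOf_dvd_card' (G := ↥K) 11 (by rw [hK]; norm_num)
  have hz' : orderOf (z : H) = 11 := by rw [Subgroup.orderOf_coe, hz]
  -- it fixes a point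
  have h1 := card_modEq_fixed (X := V) (z : H) 11 hz'
  rw [Nat.card_eq_fintype_card (α := V), hR.cardV] at h1
  have hne0 : Nat.card {x : V // (z : H) • x = x} ≠ 0 := by
    intro h0
    rw [h0] at h1
    exact absurd h1 (by decide)
  obtain ⟨⟨v', hv'⟩⟩ : Nonempty {x : V // (z : H) • x = x} := by
    by_contra hemp
    rw [not_nonempty_iff] at hemp
    exact hne0 (Nat.card_eq_zero.mpr (Or.inl hemp))
  have huniq : ∀ x : V, (z : H) • x = x → x = v' := fun x hx =>
    fix_unique_of_order hR hc hz' (by norm_num) (by norm_num) hx hv'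
  -- the orbit of the fixed point
  set L : Subgroup H := K ⊓ stabilizer H v' with hL
  have hcard : Nat.card ↥K = Nat.card ↥(orbit ↥K v') * Nat.card ↥L :=
    Cfsg.Agent.Lib.Helper3.Golay.card_eq_orbit_mul K v'
  set s := Nat.card ↥(orbit ↥K v') with hs
  have hsle : s ≤ 100 := by
    have := Finite.card_subtype_le (fun x : V => x ∈ orbit ↥K v')
    rw [Nat.card_eq_fintype_card (α := V), hR.cardV] at this
    exact this
  have hsmod : s % 11 = 1 := by
    have h2 := card_modEq_fixed (X := ↥(orbit ↥K v')) z 11 hz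
    have h3 : Nat.card {x : ↥(orbit ↥K v') // z • x = x} = 1 := by
      rw [Nat.card_eq_one_iff_unique]
      constructor
      · constructor
        rintro ⟨⟨x, hx⟩, hfx⟩ ⟨⟨y, hy⟩, hfy⟩
        have hx' : (z : H) • x = x := congrArg Subtype.val hfx
        have hy' : (z : H) • y = y := congrArg Subtype.val hfy
        have : x = y := (huniq x hx').trans (huniq y hy').symm
        subst this
        rfl
      · exact ⟨⟨⟨v', mem_orbit_self _⟩, Subtype.ext hv'⟩⟩
    rw [h3] at h2
    exact h2
  have hsdvd : 443520 % s = 0 := by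
    rw [hK] at hcard
    exact Nat.mod_eq_zero_of_dvd ⟨_, hcard⟩
  have hzL : (z : H) ∈ L := ⟨z.2, hv'⟩
  -- the suborbits of `L`
  have hsub : 7 ∣ Nat.card ↥L → s ≤ 56 → ∀ x ∈ orbit ↥K v', x ≠ v' → adj H v₀ A v' x := by
    intro h7 hs56 x hx hxne
    have hc2 : Nat.card ↥L = Nat.card ↥(orbit ↥L x) * Nat.card ↥(L ⊓ stabilizer H x) :=
      Cfsg.Agent.Lib.Helper3.Golay.card_eq_orbit_mul L x
    set t := Nat.card ↥(orbit ↥L x) with ht
    have hv'not : v' ∉ orbit ↥L x := by
      rintro ⟨l, hl⟩
      apply hxne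
      have hl' : (l : H) • x = v' := hl
      have hfix : (l : H) • v' = v' := l.2.2
      have : (l : H)⁻¹ • ((l : H) • x) = (l : H)⁻¹ • v' := by rw [hl']
      rw [inv_smul_smul] at this
      rw [this, inv_smul_eq_iff, hfix]
    have htmod : t % 11 = 0 := by
      have h2 := card_modEq_fixed (X := ↥(orbit ↥L x)) (⟨(z : H), hzL⟩ : ↥L) 11 (by
        rw [Subgroup.orderOf_mk, hz'])
      have h3 : Nat.card {y : ↥(orbit ↥L x) // (⟨(z : H), hzL⟩ : ↥L) • y = y} = 0 := by
        rw [Nat.card_eq_zero]
        left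
        constructor
        rintro ⟨⟨y, hy⟩, hfy⟩
        have hy' : (z : H) • y = y := congrArg Subtype.val hfy
        rw [huniq y hy'] at hy
        exact hv'not hy
      rw [h3] at h2
      exact h2
    have htpos : 0 < t := by
      haveI : Nonempty ↥(orbit ↥L x) := ⟨⟨x, mem_orbit_self _⟩⟩
      exact Nat.card_pos
    have htle : t ≤ 55 := by
      -- the orbit of `L` lies in the orbit of `K` and misses `v'`
      have hss : orbit ↥L x ⊆ orbit ↥K v' \ {v'} := by
        rintro y ⟨l, rfl⟩
        refine ⟨?_, ?_⟩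
        · obtain ⟨k, rfl⟩ := hx
          refine ⟨⟨(l : H), l.2.1⟩ * k, ?_⟩
          show ((⟨(l : H), l.2.1⟩ : ↥K) * k) • v' = l • (k • v')
          rw [mul_smul]
          rfl
        · intro hy
          exact hv'not ⟨l, hy⟩
      have h4 := Set.ncard_le_ncard hss (Set.toFinite _)
      rw [Set.ncard_diff_singleton_of_mem (mem_orbit_self _)] at h4
      rw [← Nat.card_coe_set_eq, ← Nat.card_coe_set_eq] at h4
      omega
    have h7t : ¬ 7 ∣ t := not_seven_dvd t htle htpos htmod
    have h7' : 7 ∣ Nat.card ↥(L ⊓ stabilizer H x) := by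
      rw [hc2] at h7
      exact ((Nat.Prime.dvd_mul (by norm_num)).mp h7).resolve_left h7t
    have hle : L ⊓ stabilizer H x ≤ stabilizer H v' ⊓ stabilizer H x :=
      inf_le_inf_right _ inf_le_right
    have hdvd := h7'.trans (Subgroup.card_dvd_of_le hle)
    rcases card_stab2_cases hR hc (Ne.symm hxne) with ⟨ha, _⟩ | h
    · exact ha
    · rw [h] at hdvd
      exact absurd hdvd (by norm_num)
  have hclique : 7 ∣ Nat.card ↥L → s ≤ 56 → 2 < s → False := by
    intro h7 hs56 hs2
    have hadj := hsub h7 hs56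
    rw [hs, Nat.card_coe_set_eq, Set.two_lt_ncard_iff] at hs2
    obtain ⟨a, b, c, ha, hb, hc', hab, hac, hbc⟩ := hs2
    -- two points of the orbit different from `v'`
    obtain ⟨x, y, hx, hy, hxv, hyv, hxy⟩ : ∃ x y, x ∈ orbit ↥K v' ∧ y ∈ orbit ↥K v' ∧ x ≠ v' ∧
        y ≠ v' ∧ x ≠ y := by
      by_cases h1 : a = v'
      · exact ⟨b, c, hb, hc', fun h => hab (h1.trans h.symm), fun h => hac (h1.trans h.symm), hbc⟩
      · by_cases h2 : b = v'
        · exact ⟨a, c, ha, hc', h1, fun h => hbc (h2.trans h.symm), hac⟩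
        · exact ⟨a, b, ha, hb, h1, h2, hab⟩
    have hvx := hadj x hx hxv
    have hvy := hadj y hy hyv
    obtain ⟨k, hk⟩ := hx
    have hk' : (k : H) • v' = x := hk
    have hy' : (k : H)⁻¹ • y ∈ orbit ↥K v' := by
      obtain ⟨k2, hk2⟩ := hy
      refine ⟨k⁻¹ * k2, ?_⟩
      show ((k⁻¹ * k2 : ↥K) : H) • v' = (k : H)⁻¹ • y
      rw [Subgroup.coe_mul, mul_smul, Subgroup.coe_inv]
      congr 1
    have hyne : (k : H)⁻¹ • y ≠ v' := by
      intro h
      apply hxy
      rw [← hk', ← h, smul_inv_smul]
    have h3 := adj_smul_of (k : H) (hadj _ hy' hyne)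
    rw [hk', smul_inv_smul] at h3
    -- a triangle
    have h4 := card_cn_adj hR h3
    rw [lam_eq hR, card_eq_zero] at h4
    have : v' ∈ cn H v₀ A x y := by
      rw [mem_cn]
      exact ⟨adj_symm hR hvx, adj_symm hR hvy⟩
    rw [h4] at this
    exact absurd this (notMem_empty _)
  rw [hK] at hcard
  rcases orbit_sizes s hsle hsmod hsdvd with h | h | h | h
  · -- the orbit is a point
    refine ⟨v', ?_⟩
    have hLK : L = K := by
      apply Subgroup.eq_of_le_of_card_ge inf_le_left
      rw [h] at hcard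
      rw [hK]
      show 443520 ≤ Nat.card ↥L
      omega
    intro k hk
    rw [← hLK] at hk
    exact hk.2
  · exfalso
    rw [h] at hcard
    apply hclique
    · have : Nat.card ↥L = 36960 := by omega
      rw [this]; norm_num
    · omega
    · omega
  · exfalso
    rw [h] at hcard
    apply hclique
    · have : Nat.card ↥L = 9856 := by omega
      rw [this]; norm_num
    · omega
    · omega
  · exfalso
    rw [h] at hcard
    have hL7920 : Nat.card ↥L = 7920 := by omega
    obtain ⟨g, hg⟩ := hR.trans v' v₀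
    apply hM (L.map (MulAut.conj g).toMonoidHom)
    · have : stabilizer H v₀ = (stabilizer H v').map (MulAut.conj g).toMonoidHom := by
        rw [← hg, stabilizer_smul_eq_stabilizer_map_conj]
      rw [this]
      exact Subgroup.map_mono inf_le_right
    · rw [Subgroup.card_map_of_injective (MulAut.conj g).injective, hL7920]

end Cfsg.Agent.Lib.Helper14.HSRec
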