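import Mathlib
import Cfsg.Agent.Lib.Helper14.CrossMaxA

set_option autoImplicit false

/-! Abstract Sylow-type congruences used for the maximality of `PSL(2,23)` in `M24`
and of `23:11` in `M23`. -/

namespace Cfsg.Agent.Lib.Helper14.L223

open MulAction
open scoped Pointwise

/-- Sylow conjugacy for elements of order `p` when `p ^ 2` does not divide the group order. -/
theorem exists_conj_mem_zpowers {K : Type*} [Group K] [Finite K] (p : ℕ) [hp : Fact p.Prime]
    (σ τ : K) (hσ : orderOf σ = p) (hτ : orderOf τ = p) (hp2 : ¬ p ^ 2 ∣ Nat.card K) :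
    ∃ k : K, k * τ * k⁻¹ ∈ Subgroup.zpowers σ := by
  have key : ∀ ρ : K, orderOf ρ = p → ∃ P : Sylow p K, (P : Subgroup K) = Subgroup.zpowers ρ := by
    intro ρ hρ
    have hPg : IsPGroup p (Subgroup.zpowers ρ) :=
      IsPGroup.of_card (n := 1) (by rw [Nat.card_zpowers, hρ, pow_one])
    obtain ⟨P, hP⟩ := hPg.exists_le_sylow
    refine ⟨P, ?_⟩
    have hcard : Nat.card (P : Subgroup K) = p ^ (Nat.card K).factorization p :=
      P.card_eq_multiplicity
    have hle : (Nat.card K).factorization p ≤ 1 := by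
      by_contra hcon
      push Not at hcon
      apply hp2
      exact (pow_dvd_pow p hcon).trans (Nat.ordProj_dvd _ _)
    have hdvd : Nat.card (Subgroup.zpowers ρ) ∣ Nat.card (P : Subgroup K) :=
      Subgroup.card_dvd_of_le hP
    rw [Nat.card_zpowers, hρ] at hdvd
    have hge : 1 ≤ (Nat.card K).factorization p := by
      by_contra hcon
      push Not at hcon
      have h0 : (Nat.card K).factorization p = 0 := by omega
      rw [hcard, h0, pow_zero] at hdvd
      exact hp.out.one_lt.ne' (Nat.dvd_one.mp hdvd)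
    have h1 : (Nat.card K).factorization p = 1 := le_antisymm hle hge
    rw [h1, pow_one] at hcard
    symm
    apply Subgroup.eq_of_le_of_card_ge hP
    rw [hcard, Nat.card_zpowers, hρ]
  obtain ⟨P, hP⟩ := key σ hσ
  obtain ⟨Q, hQ⟩ := key τ hτ
  obtain ⟨k, hk⟩ := MulAction.exists_smul_eq K Q P
  refine ⟨k, ?_⟩
  rw [← hP, ← hk, Sylow.coe_subgroup_smul]
  have hτQ : τ ∈ (Q : Subgroup K) := by rw [hQ]; exact Subgroup.mem_zpowers τ
  have := Subgroup.smul_mem_pointwise_smul τ (MulAut.conj k) (Q : Subgroup K) hτQ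
  rwa [MulAut.smul_def, MulAut.conj_apply] at this

/-- if the conjugate of a generator lies in the finite cyclic group, the element normalises it -/
theorem mem_normalizer_zpowers {G : Type*} [Group G] [Finite G] (σ g : G)
    (h : g * σ * g⁻¹ ∈ Subgroup.zpowers σ) :
    g ∈ Subgroup.normalizer (Subgroup.zpowers σ : Set G) := by
  have hle : (Subgroup.zpowers σ).map (MulAut.conj g).toMonoidHom ≤ Subgroup.zpowers σ := by
    rw [MonoidHom.map_zpowers, Subgroup.zpowers_le]
    simpa [MulAut.conj_apply] using h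
  have heq : (Subgroup.zpowers σ).map (MulAut.conj g).toMonoidHom = Subgroup.zpowers σ := by
    apply Subgroup.eq_of_le_of_card_ge hle
    rw [Subgroup.card_map_of_injective (MulAut.conj g).injective]
  rw [Subgroup.mem_normalizer_iff]
  intro x
  constructor
  · intro hx
    rw [← heq]
    exact ⟨x, hx, by simp [MulAut.conj_apply]⟩
  · intro hx
    rw [← heq] at hx
    obtain ⟨z, hz, he⟩ := hx
    have : z = x := by
      have he' : g * z * g⁻¹ = g * x * g⁻¹ := by simpa [MulAut.conj_apply] using he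
      have := mul_right_cancel he'
      exact mul_left_cancel this
    rw [← this]
    exact hz

/-- the fixed point congruence: if `σ ∈ K ≤ H` has order `p` and `h⁻¹ σ h ∈ K` forces `h ∈ K`
for `h ∈ H`, then `|H : K| ≡ 1 mod p`. -/
theorem relIndex_mod_eq_one {G : Type*} [Group G] (K H : Subgroup G) [Finite H] (hKH : K ≤ H)
    (p : ℕ) [hp : Fact p.Prime] (σ : G) (hσK : σ ∈ K) (hσp : σ ^ p = 1)
    (hfix : ∀ h ∈ H, h⁻¹ * σ * h ∈ K → h ∈ K) : K.relIndex H % p = 1 := by
  let σ' : ↥H := ⟨σ, hKH hσK⟩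
  have hσ'p : σ' ^ p = 1 := Subtype.ext (by simpa using hσp)
  have hfinq : Finite (↥H ⧸ K.subgroupOf H) := inferInstance
  have key := Cfsg.Agent.Lib.Helper14.CrossMax.ncard_modEq_fixed (G := ↥H)
    (α := ↥H ⧸ K.subgroupOf H) p σ' hσ'p Set.univ (by simp) Set.finite_univ
  rw [Set.ncard_univ] at key
  have hfixset : {a ∈ (Set.univ : Set (↥H ⧸ K.subgroupOf H)) | σ' • a = a} =
      {((1 : ↥H) : ↥H ⧸ K.subgroupOf H)} := by
    ext a
    simp only [Set.mem_univ, true_and, Set.mem_ofPred_eq, Set.mem_singleton_iff]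
    induction a using QuotientGroup.induction_on with
    | H h =>
      constructor
      · intro hh
        have h1 : ((σ' * h : ↥H) : ↥H ⧸ K.subgroupOf H) = (h : ↥H ⧸ K.subgroupOf H) := hh
        rw [QuotientGroup.eq, Subgroup.mem_subgroupOf] at h1
        have h2 : (h : G)⁻¹ * σ * (h : G) ∈ K := by
          have := K.inv_mem h1
          simpa [mul_assoc, σ'] using this
        have h3 : (h : G) ∈ K := hfix _ h.2 h2
        rw [QuotientGroup.eq, Subgroup.mem_subgroupOf]
        simpa using K.inv_mem h3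
      · intro hh
        show ((σ' * h : ↥H) : ↥H ⧸ K.subgroupOf H) = (h : ↥H ⧸ K.subgroupOf H)
        rw [QuotientGroup.eq, Subgroup.mem_subgroupOf] at hh ⊢
        have h3 : (h : G) ∈ K := by simpa using K.inv_mem hh
        have : ((σ' * h)⁻¹ * h : ↥H) = h⁻¹ * σ'⁻¹ * h := by group
        rw [this]
        simp only [Subgroup.coe_mul, InvMemClass.coe_inv]
        exact K.mul_mem (K.mul_mem (K.inv_mem h3) (K.inv_mem hσK)) h3
  rw [hfixset, Set.ncard_singleton] at key
  have h1 : Nat.card (↥H ⧸ K.subgroupOf H) = K.relIndex H := rfl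
  rw [h1] at key
  have h2 : K.relIndex H % p = 1 % p := key
  rw [h2]
  exact Nat.mod_eq_of_lt hp.out.one_lt

/-- `N/C`: a finite group normalising a cyclic group `Q` that it contains, in which only the
elements of `Q` centralise `Q`, has order dividing `|Q| φ(|Q|)`. -/
theorem card_dvd_of_normalizes {G : Type*} [Group G] (Q N : Subgroup G) [Finite N] [Finite Q]
    [IsCyclic Q] (hN : N ≤ Subgroup.normalizer (Q : Set G))
    (hC : ∀ n ∈ N, (∀ q ∈ Q, n * q = q * n) → n ∈ Q) :
    Nat.card N ∣ Nat.card Q * Nat.totient (Nat.card Q) := by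
  let f : ↥N →* MulAut ↥Q := Q.normalizerMonoidHom.comp (Subgroup.inclusion hN)
  have h1 : Nat.card f.ker * f.ker.index = Nat.card ↥N := Subgroup.card_mul_index f.ker
  rw [Subgroup.index_ker] at h1
  rw [← h1]
  apply mul_dvd_mul
  · -- the kernel embeds in Q
    let φ : ↥f.ker →* ↥Q :=
      { toFun := fun n => ⟨(n : ↥N), by
          apply hC _ n.1.2
          intro q hq
          have hn : f n.1 = 1 := n.2
          have := congrArg (fun e : MulAut ↥Q => ((e ⟨q, hq⟩ : ↥Q) : G)) hn
          simp only [f, MonoidHom.comp_apply, MulAut.one_apply] at this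
          have h2 : (n.1 : G) * q * (n.1 : G)⁻¹ = q := this
          calc (n.1 : G) * q = (n.1 : G) * q * (n.1 : G)⁻¹ * (n.1 : G) := by group
            _ = q * (n.1 : G) := by rw [h2]⟩
        map_one' := rfl
        map_mul' := fun a b => rfl }
    have hinj : Function.Injective φ := by
      intro a b hab
      apply Subtype.ext
      apply Subtype.ext
      exact congrArg (fun e : ↥Q => (e : G)) hab
    exact Subgroup.card_dvd_of_injective φ hinj
  · rw [← IsCyclic.card_mulAut ↥Q]
    exact Subgroup.card_subgroup_dvd_card _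

theorem arith_divs (k : ℕ) (hk : k ∣ 40320) (h23 : k % 23 = 1) :
    k = 1 ∨ k = 24 ∨ k = 70 ∨ k = 576 ∨ k = 1680 ∨ k = 40320 := by
  have e1 : (40320 : ℕ) = 2 ^ 7 * (3 ^ 2 * 35) := by norm_num
  rw [e1] at hk
  obtain ⟨a, b', ha, hb', rfl⟩ := (Nat.dvd_mul).mp hk
  obtain ⟨b, c, hb, hc, rfl⟩ := (Nat.dvd_mul).mp hb'
  obtain ⟨i, hi, rfl⟩ := (Nat.dvd_prime_pow Nat.prime_two).mp ha
  obtain ⟨j, hj, rfl⟩ := (Nat.dvd_prime_pow Nat.prime_three).mp hb
  have hc' : c = 1 ∨ c = 5 ∨ c = 7 ∨ c = 35 := by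
    have hle : c ≤ 35 := Nat.le_of_dvd (by norm_num) hc
    have hpos : 0 < c := Nat.pos_of_dvd_of_pos hc (by norm_num)
    clear ha hb hb' hk h23 hi hj
    interval_cases c <;> omega
  clear ha hb hb' hk hc
  interval_cases i <;> interval_cases j <;> rcases hc' with rfl | rfl | rfl | rfl <;>
    (revert h23; decide)

/-- arithmetic for the maximality of `PSL(2,23)` in `M24` -/
theorem arith1 (k n j : ℕ) (hk : k ∣ 40320) (h23 : k % 23 = 1) (hn : n ∣ 110) (h2 : 2 ∣ n)
    (h11 : 11 ∣ n) (hj : j % 11 = 1) (heq : 6072 * k = n * j) : k = 1 ∨ k = 40320 := by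
  have hn' : n = 22 ∨ n = 110 := by
    have hle : n ≤ 110 := Nat.le_of_dvd (by norm_num) hn
    have hpos : 0 < n := Nat.pos_of_dvd_of_pos hn (by norm_num)
    clear heq hj h23 hk
    interval_cases n <;> omega
  rcases arith_divs k hk h23 with rfl | rfl | rfl | rfl | rfl | rfl <;>
    rcases hn' with rfl | rfl <;> omega

/-- arithmetic for the maximality of `23:11` in `M23` -/
theorem arith2 (k n j : ℕ) (hk : k ∣ 40320) (h23 : k % 23 = 1) (hn : n ∣ 55)
    (h11 : 11 ∣ n) (hj : j % 11 = 1) (heq : 253 * k = n * j) : k = 1 ∨ k = 40320 := by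
  have hn' : n = 11 ∨ n = 55 := by
    have hle : n ≤ 55 := Nat.le_of_dvd (by norm_num) hn
    have hpos : 0 < n := Nat.pos_of_dvd_of_pos hn (by norm_num)
    clear heq hj h23 hk
    interval_cases n <;> omega
  rcases arith_divs k hk h23 with rfl | rfl | rfl | rfl | rfl | rfl <;>
    rcases hn' with rfl | rfl <;> omega

end Cfsg.Agent.Lib.Helper14.L223
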