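import Mathlib
import Cfsg.Prelude.Def_Sporadic_a
import Cfsg.Agent.Lib.Helper3.Golay.Perm

set_option autoImplicit false

/-! The affine group `23:11` inside `M24`, tables of permutations, and the normaliser
of the translation subgroup. -/

namespace Cfsg.Agent.Lib.Helper14.L223

open Cfsg Cfsg.Agent.Lib.Helper3.Golay

/-- `t ↦ u t + b`, fixing the extra point -/
def aff (u : (ZMod 23)ˣ) (b : ZMod 23) : Equiv.Perm GolayPt :=
  Equiv.optionCongr ((Units.mulLeft u).trans (Equiv.addRight b))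

@[simp] theorem aff_none (u : (ZMod 23)ˣ) (b : ZMod 23) : aff u b none = none := rfl

@[simp] theorem aff_some (u : (ZMod 23)ˣ) (b t : ZMod 23) :
    aff u b (some t) = some ((u : ZMod 23) * t + b) := rfl

theorem aff_mul (u v : (ZMod 23)ˣ) (b c : ZMod 23) :
    aff u b * aff v c = aff (u * v) ((u : ZMod 23) * c + b) := by
  ext x
  cases x with
  | none => simp [Equiv.Perm.mul_apply]
  | some t =>
    simp only [Equiv.Perm.mul_apply, aff_some, Units.val_mul, Option.some.injEq]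
    ring_nf

theorem aff_one : aff 1 0 = 1 := by
  ext x
  cases x with
  | none => simp
  | some t => simp

theorem aff_inv (u : (ZMod 23)ˣ) (b : ZMod 23) :
    (aff u b)⁻¹ = aff u⁻¹ (-((u⁻¹ : (ZMod 23)ˣ) : ZMod 23) * b) := by
  rw [inv_eq_iff_mul_eq_one, aff_mul, mul_inv_cancel]
  have : ((u : ZMod 23)) * (-((u⁻¹ : (ZMod 23)ˣ) : ZMod 23) * b) + b = 0 := by
    have h : (u : ZMod 23) * ((u⁻¹ : (ZMod 23)ˣ) : ZMod 23) = 1 := by
      rw [← Units.val_mul, mul_inv_cancel, Units.val_one]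
    linear_combination (-b) * h
  rw [this, aff_one]

theorem aff_injective (u v : (ZMod 23)ˣ) (b c : ZMod 23) (h : aff u b = aff v c) :
    u = v ∧ b = c := by
  have h0 := congrArg (fun g : Equiv.Perm GolayPt => g (some 0)) h
  have h1 := congrArg (fun g : Equiv.Perm GolayPt => g (some 1)) h
  simp only [aff_some, mul_zero, zero_add, mul_one, Option.some.injEq] at h0 h1
  refine ⟨?_, h0⟩
  apply Units.ext
  rw [h0] at h1
  exact add_right_cancel h1

/-- the affine maps with square multiplier -/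
def AffSq : Subgroup (Equiv.Perm GolayPt) where
  carrier := {g | ∃ (u : (ZMod 23)ˣ) (b : ZMod 23), IsSquare u ∧ g = aff u b}
  mul_mem' := by
    rintro _ _ ⟨u, b, hu, rfl⟩ ⟨v, c, hv, rfl⟩
    exact ⟨u * v, _, hu.mul hv, aff_mul u v b c⟩
  one_mem' := ⟨1, 0, IsSquare.one, aff_one.symm⟩
  inv_mem' := by
    rintro _ ⟨u, b, hu, rfl⟩
    exact ⟨u⁻¹, _, hu.inv, aff_inv u b⟩

theorem mem_AffSq {g : Equiv.Perm GolayPt} :
    g ∈ AffSq ↔ ∃ (u : (ZMod 23)ˣ) (b : ZMod 23), IsSquare u ∧ g = aff u b := Iff.rfl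

/-- the translation `t ↦ t + 1` -/
abbrev gA : Equiv.Perm GolayPt := Equiv.optionCongr (Equiv.addRight (1 : ZMod 23))

/-- multiplication by a unit -/
abbrev mU (u : (ZMod 23)ˣ) : Equiv.Perm GolayPt := Equiv.optionCongr (Units.mulLeft u)

theorem gA_eq : gA = aff 1 1 := by
  ext x
  cases x with
  | none => rfl
  | some t => simp [gA]

theorem mU_eq (u : (ZMod 23)ˣ) : mU u = aff u 0 := by
  ext x
  cases x with
  | none => rfl
  | some t => simp [mU]

/-- translations as a homomorphism -/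
def transHom : Multiplicative (ZMod 23) →* Equiv.Perm GolayPt where
  toFun b := aff 1 (Multiplicative.toAdd b)
  map_one' := aff_one
  map_mul' a b := by
    rw [aff_mul, mul_one]
    congr 1
    simp only [Units.val_one, one_mul, toAdd_mul]
    exact add_comm _ _

theorem gA_pow (n : ℕ) : gA ^ n = aff 1 (n : ZMod 23) := by
  have h1 : gA = transHom (Multiplicative.ofAdd 1) := gA_eq
  rw [h1, ← map_pow, ← ofAdd_nsmul]
  show aff 1 (n • (1 : ZMod 23)) = _
  simp

theorem gA_zpow (n : ℤ) : gA ^ n = aff 1 (n : ZMod 23) := by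
  have h1 : gA = transHom (Multiplicative.ofAdd 1) := gA_eq
  rw [h1, ← map_zpow, ← ofAdd_zsmul]
  show aff 1 (n • (1 : ZMod 23)) = _
  simp

theorem gA_pow_23 : gA ^ 23 = 1 := by
  rw [gA_pow]
  have : ((23 : ℕ) : ZMod 23) = 0 := by decide
  rw [this, aff_one]

theorem gA_ne_one : gA ≠ 1 := by
  intro h
  have := congrArg (fun g : Equiv.Perm GolayPt => g (some 0)) h
  revert this
  decide

/-- multipliers as a homomorphism -/
def mulHom : (ZMod 23)ˣ →* Equiv.Perm GolayPt where
  toFun u := mU u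
  map_one' := by rw [mU_eq, aff_one]
  map_mul' u v := by
    rw [mU_eq, mU_eq, mU_eq, aff_mul, mul_zero, add_zero]

theorem mU_pow (u : (ZMod 23)ˣ) (n : ℕ) : mU u ^ n = mU (u ^ n) := by
  show mulHom u ^ n = mulHom (u ^ n)
  rw [map_pow]

theorem aff_eq_mul (u : (ZMod 23)ˣ) (b : ZMod 23) : aff u b = gA ^ b.val * mU u := by
  rw [gA_pow, mU_eq, aff_mul, one_mul, Units.val_one, one_mul, zero_add, ZMod.natCast_zmod_val]

/-- the generating set of the statement for `23:11` -/
def S2 : Set (Equiv.Perm GolayPt) :=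
  {Equiv.optionCongr (Equiv.addRight (1 : ZMod 23))} ∪
    {g : Equiv.Perm Cfsg.GolayPt | ∃ u : (ZMod 23)ˣ, IsSquare u ∧
      g = Equiv.optionCongr (Units.mulLeft u)}

theorem closure_S2 : Subgroup.closure S2 = AffSq := by
  apply le_antisymm
  · rw [Subgroup.closure_le]
    rintro g (hg | ⟨u, hu, rfl⟩)
    · rw [Set.mem_singleton_iff] at hg
      rw [hg]
      exact ⟨1, 1, IsSquare.one, gA_eq⟩
    · exact ⟨u, 0, hu, mU_eq u⟩
  · rintro g ⟨u, b, hu, rfl⟩
    rw [aff_eq_mul]
    apply Subgroup.mul_mem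
    · apply Subgroup.pow_mem
      exact Subgroup.subset_closure (Or.inl rfl)
    · exact Subgroup.subset_closure (Or.inr ⟨u, hu, rfl⟩)

set_option maxRecDepth 100000 in
theorem card_squares : Fintype.card {u : (ZMod 23)ˣ // IsSquare u} = 11 := by decide +kernel

theorem card_AffSq : Nat.card ↥AffSq = 253 := by
  have e : ({u : (ZMod 23)ˣ // IsSquare u} × ZMod 23) ≃ ↥AffSq :=
    Equiv.ofBijective (fun x => ⟨aff x.1.1 x.2, ⟨x.1.1, x.2, x.1.2, rfl⟩⟩) (by
      constructor
      · rintro ⟨⟨u, hu⟩, b⟩ ⟨⟨v, hv⟩, c⟩ h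
        have h' : aff u b = aff v c := congrArg Subtype.val h
        obtain ⟨h1, h2⟩ := aff_injective u v b c h'
        subst h1; subst h2; rfl
      · rintro ⟨g, u, b, hu, rfl⟩
        exact ⟨⟨⟨u, hu⟩, b⟩, rfl⟩)
  rw [← Nat.card_congr e, Nat.card_prod, Nat.card_eq_fintype_card, card_squares,
    Nat.card_eq_fintype_card, ZMod.card]

end Cfsg.Agent.Lib.Helper14.L223
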