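import Mathlib
import Cfsg.Prelude.Def_Sporadic_a
import Cfsg.Agent.Lib.Helper3.Golay.Perm
import Cfsg.Agent.Lib.Helper14.L223B

set_option autoImplicit false

/-! Table check for membership in `M24`; the normaliser of the translations. -/

namespace Cfsg.Agent.Lib.Helper14.L223

open Cfsg Cfsg.Agent.Lib.Helper3.Golay

/-- the Boolean test that the permutation with table `tbl` preserves the code -/
def chkTbl (tbl : ℕ → ℕ) : Bool :=
  allBelow 12 (fun j => Nat.beq (codeMask (pmAux tbl 24 (basisMask j) % 4096))
    (pmAux tbl 24 (basisMask j)))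

theorem chkTbl_of_mem (g : Equiv.Perm GolayPt) (hg : g ∈ M24) (tbl : ℕ → ℕ)
    (hσ : ∀ i < 24, idx (g (pt i)) = tbl i) : chkTbl tbl = true := by
  unfold chkTbl
  rw [allBelow_iff]
  intro j hj
  have h1 : permWord g (bvec ⟨j, hj⟩) ∈ golayCode := (mem_M24_iff g).mp hg _ (bvec_mem _)
  unfold bvec at h1
  rw [permWord_wordOf g tbl hσ] at h1
  have hlt : pmAux tbl 24 (basisMask j) < 2 ^ 24 := by
    apply pmAux_lt
    intro i hi
    rw [← hσ i hi]
    exact idx_lt _
  rw [wordOf_mem_iff hlt] at h1
  show Nat.beq _ _ = true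
  rw [h1]
  exact Nat.beq_refl _

/-- table of the affine map `t ↦ a t + b` -/
def affTbl (a b : ℕ) (i : ℕ) : ℕ := if i = 23 then 23 else (a * i + b) % 23

set_option maxRecDepth 100000 in
theorem affTbl_ok : ∀ (u : (ZMod 23)ˣ) (b : ZMod 23), ∀ i < 24,
    idx (aff u b (pt i)) = affTbl (u : ZMod 23).val b.val i := by
  decide +kernel

set_option maxRecDepth 100000 in
theorem affTbl_check : ∀ (u : (ZMod 23)ˣ) (b : ZMod 23),
    chkTbl (affTbl (u : ZMod 23).val b.val) = true → IsSquare u := by
  decide +kernel

theorem isSquare_of_aff_mem (u : (ZMod 23)ˣ) (b : ZMod 23) (h : aff u b ∈ M24) : IsSquare u :=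
  affTbl_check u b (chkTbl_of_mem _ h _ (affTbl_ok u b))

set_option maxRecDepth 100000 in
theorem exists_unit : ∀ a : ZMod 23, a ≠ 0 → ∃ u : (ZMod 23)ˣ, (u : ZMod 23) = a := by
  decide +kernel

/-- an element normalising the translation group and lying in `M24` is affine with square
multiplier -/
theorem mem_AffSq_of_normalizes (g : Equiv.Perm GolayPt) (hg : g ∈ M24)
    (hn : g * gA * g⁻¹ ∈ Subgroup.zpowers gA) : g ∈ AffSq := by
  obtain ⟨n, hn⟩ := Subgroup.mem_zpowers_iff.mp hn
  rw [gA_zpow] at hn
  set a : ZMod 23 := (n : ZMod 23) with ha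
  have hcomm : ∀ x, g (gA x) = aff 1 a (g x) := by
    intro x
    have := congrArg (fun e : Equiv.Perm GolayPt => e (g x)) hn
    simp only [Equiv.Perm.mul_apply] at this
    rw [show g⁻¹ (g x) = x from by simp] at this
    exact this.symm
  have ha0 : a ≠ 0 := by
    intro h0
    rw [h0, aff_one] at hn
    have : gA = 1 := by
      have h1 : g * gA * g⁻¹ = 1 := hn.symm
      have h2 : gA = g⁻¹ * (g * gA * g⁻¹) * g := by group
      rw [h2, h1]; group
    exact gA_ne_one this
  have hnone : g none = none := by
    have h1 := hcomm none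
    have h2 : gA none = none := rfl
    rw [h2] at h1
    cases hx : g none with
    | none => rfl
    | some y =>
      rw [hx, aff_some, Option.some.injEq, Units.val_one, one_mul] at h1
      exfalso
      apply ha0
      have : y + a = y + 0 := by rw [add_zero]; exact h1.symm
      exact add_left_cancel this
  have hsome : ∀ t : ZMod 23, ∃ s, g (some t) = some s := by
    intro t
    cases hx : g (some t) with
    | none =>
      exfalso
      have : g (some t) = g none := by rw [hx, hnone]
      exact Option.some_ne_none t (g.injective this)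
    | some s => exact ⟨s, rfl⟩
  obtain ⟨b, hb⟩ := hsome 0
  have hind : ∀ m : ℕ, g (some (m : ZMod 23)) = some (a * (m : ZMod 23) + b) := by
    intro m
    induction m with
    | zero => simp [hb]
    | succ m ih =>
      have h1 := hcomm (some (m : ZMod 23))
      have h2 : gA (some (m : ZMod 23)) = some ((m : ZMod 23) + 1) := by simp [gA]
      rw [h2, ih, aff_some, Units.val_one, one_mul] at h1
      rw [Nat.cast_succ, h1, Option.some.injEq]
      ring
  obtain ⟨u, hu⟩ := exists_unit a ha0
  have hg_eq : g = aff u b := by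
    ext x
    cases x with
    | none => rw [hnone, aff_none]
    | some t =>
      have := hind t.val
      rw [ZMod.natCast_zmod_val] at this
      rw [this, aff_some, hu]
  refine ⟨u, b, ?_, hg_eq⟩
  apply isSquare_of_aff_mem _ b
  rw [← hg_eq]
  exact hg

end Cfsg.Agent.Lib.Helper14.L223
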