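import Mathlib
import Cfsg.Prelude.Def_Sporadic_a
import Cfsg.Agent.Lib.Helper3.Golay.Perm
import Cfsg.Agent.Lib.Helper14.L223C

set_option autoImplicit false

/-! The element `t ↦ 2 t` of order 11 is self-centralising in `M24`. -/

namespace Cfsg.Agent.Lib.Helper14.L223

open Cfsg Cfsg.Agent.Lib.Helper3.Golay

/-- the unit `2` of `ZMod 23` -/
def u2 : (ZMod 23)ˣ := ZMod.unitOfCoprime 2 (by norm_num)

/-- `t ↦ 2 t` -/
def m2 : Equiv.Perm GolayPt := mU u2

theorem m2_pow (k : ℕ) : m2 ^ k = mU (u2 ^ k) := mU_pow u2 k

theorem mU_none (u : (ZMod 23)ˣ) : mU u none = none := rfl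

theorem mU_some (u : (ZMod 23)ˣ) (t : ZMod 23) : mU u (some t) = some ((u : ZMod 23) * t) := rfl

set_option maxRecDepth 100000 in
theorem m2_fixed : ∀ x : GolayPt, m2 x = x → x = none ∨ x = some 0 := by decide +kernel

set_option maxRecDepth 100000 in
theorem sq_pow : ∀ t : ZMod 23, t ≠ 0 → IsSquare t →
    ∃ k : Fin 11, t = ((u2 ^ (k : ℕ) : (ZMod 23)ˣ) : ZMod 23) := by decide +kernel

set_option maxRecDepth 100000 in
theorem nsq_pow : ∀ t : ZMod 23, ¬ IsSquare t →
    ∃ k : Fin 11, t = -((u2 ^ (k : ℕ) : (ZMod 23)ˣ) : ZMod 23) := by decide +kernel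

set_option maxRecDepth 100000 in
theorem unit_sq_pow : ∀ u : (ZMod 23)ˣ, IsSquare (u : ZMod 23) →
    ∃ k : Fin 11, u = u2 ^ (k : ℕ) := by decide +kernel

set_option maxRecDepth 100000 in
theorem unit_sq_pow' : ∀ u : (ZMod 23)ˣ, IsSquare u →
    ∃ k : Fin 11, u = u2 ^ (k : ℕ) := by decide +kernel

/-- the candidate for an element centralising `m2` -/
def cand (e : Bool) (c d : ZMod 23) : GolayPt → GolayPt
  | none => if e then some 0 else none
  | some t => if t = 0 then (if e then none else some 0)
      else if IsSquare t then some (t * c) else some (-t * d)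

/-- the table of the candidate -/
def cenTbl (e : Bool) (c d : ℕ) (i : ℕ) : ℕ :=
  if i = 23 then (if e then 0 else 23) else if i = 0 then (if e then 23 else 0)
  else if i ∈ [1, 2, 3, 4, 6, 8, 9, 12, 13, 16, 18] then (i * c) % 23 else ((23 - i) * d) % 23

set_option maxRecDepth 100000 in
theorem cenTbl_ok : ∀ (e : Bool) (c d : ZMod 23), ∀ i < 24,
    idx (cand e c d (pt i)) = cenTbl e c.val d.val i := by
  decide +kernel

set_option maxRecDepth 100000 in
theorem cenTbl_check : ∀ (e : Bool) (c d : ZMod 23), c ≠ 0 → d ≠ 0 →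
    chkTbl (cenTbl e c.val d.val) = true → e = false ∧ IsSquare c ∧ d = -c := by
  decide +kernel

theorem mem_zpowers_of_commute (g : Equiv.Perm GolayPt) (hg : g ∈ M24)
    (hcomm : ∀ x, g (m2 x) = m2 (g x)) : g ∈ Subgroup.zpowers m2 := by
  have hpow : ∀ (k : ℕ) (x : GolayPt), g ((m2 ^ k) x) = (m2 ^ k) (g x) := by
    intro k
    induction k with
    | zero => intro x; simp
    | succ k ih =>
      intro x
      rw [pow_succ, Equiv.Perm.mul_apply, Equiv.Perm.mul_apply, ih, hcomm]
  have hfixed : ∀ x, m2 x = x → (g x = none ∨ g x = some 0) := by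
    intro x hx
    apply m2_fixed
    rw [← hcomm, hx]
  have hnonfixed : ∀ x, m2 x ≠ x → ∃ c : ZMod 23, c ≠ 0 ∧ g x = some c := by
    intro x hx
    have h1 : m2 (g x) ≠ g x := by
      intro h
      rw [← hcomm] at h
      exact hx (g.injective h)
    cases hgx : g x with
    | none => rw [hgx] at h1; exact absurd rfl h1
    | some c =>
      refine ⟨c, ?_, rfl⟩
      rintro rfl
      rw [hgx] at h1
      exact h1 (by decide)
  obtain ⟨c, hc0, hc⟩ := hnonfixed (some 1) (by decide)
  obtain ⟨d, hd0, hd⟩ := hnonfixed (some (-1)) (by decide)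
  have hN := hfixed none rfl
  have hZ := hfixed (some 0) (by decide)
  have hNZ : g none ≠ g (some 0) := fun h => by simpa using g.injective h
  set e : Bool := decide (g none = some 0) with he
  have hcand : ∀ x, g x = cand e c d x := by
    intro x
    cases x with
    | none =>
      rcases hN with h | h
      · have : e = false := by rw [he, h]; decide
        rw [this, h]; rfl
      · have : e = true := by rw [he, h]; decide
        rw [this, h]; rfl
    | some t =>
      by_cases ht : t = 0
      · subst ht
        rcases hN with h | h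
        · have : e = false := by rw [he, h]; decide
          rw [this]
          rcases hZ with h' | h'
          · exact absurd (h.trans h'.symm) hNZ
          · rw [h']; rfl
        · have : e = true := by rw [he, h]; decide
          rw [this]
          rcases hZ with h' | h'
          · rw [h']; rfl
          · exact absurd (h.trans h'.symm) hNZ
      · by_cases hsq : IsSquare t
        · obtain ⟨k, hk⟩ := sq_pow t ht hsq
          have h1 : some t = (m2 ^ (k : ℕ)) (some 1) := by
            rw [m2_pow, mU_some, mul_one, hk]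
          have hL : g (some t) = some (t * c) := by
            rw [h1, hpow, hc, m2_pow, mU_some, ← hk]
          rw [hL]
          simp only [cand, if_neg ht, if_pos hsq]
        · obtain ⟨k, hk⟩ := nsq_pow t hsq
          have h1 : some t = (m2 ^ (k : ℕ)) (some (-1)) := by
            rw [m2_pow, mU_some, mul_neg, mul_one, hk]
          have hL : g (some t) = some (-t * d) := by
            rw [h1, hpow, hd, m2_pow, mU_some, hk, neg_neg]
          rw [hL]
          simp only [cand, if_neg ht, if_neg hsq]
  have htbl : ∀ i < 24, idx (g (pt i)) = cenTbl e c.val d.val i := by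
    intro i hi
    rw [hcand]
    exact cenTbl_ok e c d i hi
  obtain ⟨he', hsqc, hdc⟩ := cenTbl_check e c d hc0 hd0 (chkTbl_of_mem g hg _ htbl)
  obtain ⟨u, hu⟩ := exists_unit c hc0
  obtain ⟨k, hk⟩ := unit_sq_pow u (by rw [hu]; exact hsqc)
  have hg_eq : g = m2 ^ (k : ℕ) := by
    ext x
    rw [hcand, he', hdc, m2_pow, ← hk]
    cases x with
    | none => rfl
    | some t =>
      rw [mU_some, hu]
      by_cases ht : t = 0
      · subst ht; simp [cand]
      · by_cases hsq : IsSquare t
        · simp only [cand, if_neg ht, if_pos hsq]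
          rw [mul_comm]
        · simp only [cand, if_neg ht, if_neg hsq]
          rw [neg_mul_neg, mul_comm]
  rw [hg_eq]
  exact Subgroup.pow_mem _ (Subgroup.mem_zpowers m2) _

end Cfsg.Agent.Lib.Helper14.L223
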