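import Mathlib
import Cfsg.Prelude.Def_Sporadic_a
import Cfsg.Agent.Lib.Helper13.SL2Gen
import Cfsg.Agent.Lib.Helper14.L223D

set_option autoImplicit false

/-! The Möbius action of `SL₂(23)` on the 24 points; the order of `PSL(2,23)`. -/

namespace Cfsg.Agent.Lib.Helper14.L223

open Cfsg Matrix Cfsg.Agent.Lib.Helper13

instance fact23 : Fact (Nat.Prime 23) := ⟨by norm_num⟩

/-- the Möbius action of `SL₂(23)` on the 24 points -/
noncomputable def psi : SpecialLinearGroup (Fin 2) (ZMod 23) →* Equiv.Perm GolayPt :=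
  (MulAction.toPermHom (GL (Fin 2) (ZMod 23)) (OnePoint (ZMod 23))).comp SpecialLinearGroup.toGL

theorem psi_none (s : SpecialLinearGroup (Fin 2) (ZMod 23)) :
    psi s none = if (s : Matrix (Fin 2) (Fin 2) (ZMod 23)) 1 0 = 0 then none
      else some ((s : Matrix (Fin 2) (Fin 2) (ZMod 23)) 0 0 / (s : Matrix (Fin 2) (Fin 2) (ZMod 23)) 1 0) :=
  OnePoint.smul_infty_eq_ite (SpecialLinearGroup.toGL s)

theorem psi_some (s : SpecialLinearGroup (Fin 2) (ZMod 23)) (k : ZMod 23) :
    psi s (some k) = if (s : Matrix (Fin 2) (Fin 2) (ZMod 23)) 1 0 * k + (s : Matrix (Fin 2) (Fin 2) (ZMod 23)) 1 1 = 0 then none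
      else some (((s : Matrix (Fin 2) (Fin 2) (ZMod 23)) 0 0 * k + (s : Matrix (Fin 2) (Fin 2) (ZMod 23)) 0 1) /
        ((s : Matrix (Fin 2) (Fin 2) (ZMod 23)) 1 0 * k + (s : Matrix (Fin 2) (Fin 2) (ZMod 23)) 1 1)) :=
  OnePoint.smul_some_eq_ite (g := SpecialLinearGroup.toGL s) (k := k)

/-- the Weyl element -/
def wSL : SpecialLinearGroup (Fin 2) (ZMod 23) := ⟨!![0, -1; 1, 0], by simp [Matrix.det_fin_two]⟩

theorem psi_tSL (t : ZMod 23) : psi (tSL t) = aff 1 t := by
  apply Equiv.ext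
  intro x
  have e00 : (tSL t : Matrix (Fin 2) (Fin 2) (ZMod 23)) 0 0 = 1 := rfl
  have e01 : (tSL t : Matrix (Fin 2) (Fin 2) (ZMod 23)) 0 1 = t := rfl
  have e10 : (tSL t : Matrix (Fin 2) (Fin 2) (ZMod 23)) 1 0 = 0 := rfl
  have e11 : (tSL t : Matrix (Fin 2) (Fin 2) (ZMod 23)) 1 1 = 1 := rfl
  cases x with
  | none => rw [psi_none, e10, if_pos rfl]; rfl
  | some k =>
    rw [psi_some, e00, e01, e10, e11, zero_mul, zero_add, if_neg one_ne_zero, div_one, aff_some,
      Units.val_one]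

theorem psi_dSL (v : (ZMod 23)ˣ) : psi (dSL (v : ZMod 23) v.ne_zero) = mU (v * v) := by
  apply Equiv.ext
  intro x
  have hv : (v : ZMod 23) ≠ 0 := v.ne_zero
  have e00 : (dSL (v : ZMod 23) hv : Matrix (Fin 2) (Fin 2) (ZMod 23)) 0 0 = v := rfl
  have e01 : (dSL (v : ZMod 23) hv : Matrix (Fin 2) (Fin 2) (ZMod 23)) 0 1 = 0 := rfl
  have e10 : (dSL (v : ZMod 23) hv : Matrix (Fin 2) (Fin 2) (ZMod 23)) 1 0 = 0 := rfl
  have e11 : (dSL (v : ZMod 23) hv : Matrix (Fin 2) (Fin 2) (ZMod 23)) 1 1 = (v : ZMod 23)⁻¹ := rfl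
  cases x with
  | none => rw [psi_none, e10, if_pos rfl]; rfl
  | some k =>
    rw [psi_some, e00, e01, e10, e11, zero_mul, zero_add, add_zero, if_neg (inv_ne_zero hv),
      mU_some, Units.val_mul, div_inv_eq_mul, Option.some.injEq]
    ring

set_option maxRecDepth 100000 in
theorem projInv_formula : ∀ k : ZMod 23,
    (if (1 : ZMod 23) * k + 0 = 0 then (none : GolayPt) else some ((0 * k + -1) / (1 * k + 0))) =
      projInv (some k) := by
  decide +kernel

theorem psi_wSL : psi wSL = projInv := by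
  apply Equiv.ext
  intro x
  have e00 : (wSL : Matrix (Fin 2) (Fin 2) (ZMod 23)) 0 0 = 0 := rfl
  have e01 : (wSL : Matrix (Fin 2) (Fin 2) (ZMod 23)) 0 1 = -1 := rfl
  have e10 : (wSL : Matrix (Fin 2) (Fin 2) (ZMod 23)) 1 0 = 1 := rfl
  have e11 : (wSL : Matrix (Fin 2) (Fin 2) (ZMod 23)) 1 1 = 0 := rfl
  cases x with
  | none => rw [psi_none, e00, e10, if_neg one_ne_zero, zero_div]; rfl
  | some k =>
    rw [psi_some, e00, e01, e10, e11, ← projInv_formula k]

theorem lSL_eq (s : ZMod 23) : lSL s * wSL = wSL * tSL (-s) := by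
  apply Subtype.ext
  show (!![1, 0; s, 1] * !![0, -1; 1, 0] : Matrix (Fin 2) (Fin 2) (ZMod 23)) =
    !![0, -1; 1, 0] * !![1, -s; 0, 1]
  ext i j
  fin_cases i <;> fin_cases j <;> simp [Matrix.mul_apply, Fin.sum_univ_two]

/-- the generating set of the statement for `PSL(2,23)` -/
def S1 : Set (Equiv.Perm GolayPt) :=
  {Equiv.optionCongr (Equiv.addRight (1 : ZMod 23)), Cfsg.projInv} ∪
    {g : Equiv.Perm Cfsg.GolayPt | ∃ u : (ZMod 23)ˣ, IsSquare u ∧
      g = Equiv.optionCongr (Units.mulLeft u)}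

theorem S2_subset_S1 : S2 ⊆ S1 := by
  rintro g (hg | hg)
  · rw [Set.mem_singleton_iff] at hg
    exact Or.inl (Or.inl hg)
  · exact Or.inr hg

theorem AffSq_le : AffSq ≤ Subgroup.closure S1 := by
  rw [← closure_S2]
  exact Subgroup.closure_mono S2_subset_S1

theorem range_psi : psi.range = Subgroup.closure S1 := by
  apply le_antisymm
  · rintro _ ⟨s, rfl⟩
    have hT : ∀ t : ZMod 23, psi (tSL t) ∈ Subgroup.closure S1 := by
      intro t
      rw [psi_tSL]
      exact AffSq_le ⟨1, t, IsSquare.one, rfl⟩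
    have hw : psi wSL ∈ Subgroup.closure S1 := by
      rw [psi_wSL]
      exact Subgroup.subset_closure (Or.inl (Or.inr rfl))
    have := mem_of_tSL_lSL_mem ((Subgroup.closure S1).comap psi) hT (fun s => by
      rw [Subgroup.mem_comap]
      have h1 : lSL s = wSL * tSL (-s) * wSL⁻¹ := by
        rw [← lSL_eq]; group
      rw [h1, map_mul, map_mul, map_inv]
      exact Subgroup.mul_mem _ (Subgroup.mul_mem _ hw (hT _)) (Subgroup.inv_mem _ hw)) s
    exact this
  · rw [Subgroup.closure_le]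
    rintro g ((hg | hg) | ⟨u, ⟨v, rfl⟩, rfl⟩)
    · rw [hg]
      exact ⟨tSL 1, by rw [psi_tSL, ← gA_eq]⟩
    · rw [Set.mem_singleton_iff] at hg
      rw [hg]
      exact ⟨wSL, psi_wSL⟩
    · exact ⟨dSL (v : ZMod 23) v.ne_zero, psi_dSL v⟩

theorem psi_neg_one : psi (-1) = 1 := by
  apply Equiv.ext
  intro x
  have e00 : ((-1 : SpecialLinearGroup (Fin 2) (ZMod 23)) : Matrix (Fin 2) (Fin 2) (ZMod 23)) 0 0 = -1 := by
    simp
  have e01 : ((-1 : SpecialLinearGroup (Fin 2) (ZMod 23)) : Matrix (Fin 2) (Fin 2) (ZMod 23)) 0 1 = 0 := by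
    simp
  have e10 : ((-1 : SpecialLinearGroup (Fin 2) (ZMod 23)) : Matrix (Fin 2) (Fin 2) (ZMod 23)) 1 0 = 0 := by
    simp
  have e11 : ((-1 : SpecialLinearGroup (Fin 2) (ZMod 23)) : Matrix (Fin 2) (Fin 2) (ZMod 23)) 1 1 = -1 := by
    simp
  cases x with
  | none => rw [psi_none, e10, if_pos rfl]; rfl
  | some k =>
    rw [psi_some, e00, e01, e10, e11, zero_mul, zero_add, add_zero,
      if_neg (neg_ne_zero.mpr one_ne_zero), neg_one_mul, neg_div_neg_eq, div_one]
    rfl

theorem ker_psi (s : SpecialLinearGroup (Fin 2) (ZMod 23)) : s ∈ psi.ker ↔ s = 1 ∨ s = -1 := by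
  constructor
  · intro hs
    rw [MonoidHom.mem_ker] at hs
    set m : Matrix (Fin 2) (Fin 2) (ZMod 23) := (s : Matrix (Fin 2) (Fin 2) (ZMod 23)) with hm
    have hdet : m 0 0 * m 1 1 - m 0 1 * m 1 0 = 1 := by
      have := s.2
      rwa [Matrix.det_fin_two] at this
    have h1 : m 1 0 = 0 := by
      have := psi_none s
      rw [hs] at this
      by_contra hne
      rw [if_neg hne] at this
      exact absurd this (by simp)
    have h2 := psi_some s 0
    rw [hs, ← hm, h1] at h2
    simp only [mul_zero, zero_add, Equiv.Perm.coe_one, id_eq] at h2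
    have h11 : m 1 1 ≠ 0 := by
      intro h
      rw [if_pos h] at h2
      exact absurd h2 (by simp)
    rw [if_neg h11, Option.some.injEq] at h2
    have h01 : m 0 1 = 0 := by
      have := h2.symm
      rw [div_eq_zero_iff] at this
      exact this.resolve_right h11
    have h3 := psi_some s 1
    rw [hs, ← hm, h1, h01] at h3
    simp only [mul_one, zero_mul, zero_add, add_zero, Equiv.Perm.coe_one, id_eq] at h3
    rw [if_neg h11, Option.some.injEq] at h3
    have h00 : m 0 0 = m 1 1 := by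
      have := h3.symm
      rwa [div_eq_one_iff_eq h11] at this
    rw [h01, h00] at hdet
    have hsq : (m 1 1 - 1) * (m 1 1 + 1) = 0 := by linear_combination hdet
    rcases mul_eq_zero.mp hsq with h | h
    · left
      apply Subtype.ext
      have h11' : m 1 1 = 1 := by linear_combination h
      ext i j
      fin_cases i <;> fin_cases j
      · show m 0 0 = _; rw [h00, h11']; simp
      · show m 0 1 = _; rw [h01]; simp
      · show m 1 0 = _; rw [h1]; simp
      · show m 1 1 = _; rw [h11']; simp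
    · right
      apply Subtype.ext
      have h11' : m 1 1 = -1 := by linear_combination h
      ext i j
      fin_cases i <;> fin_cases j
      · show m 0 0 = _; rw [h00, h11']; simp
      · show m 0 1 = _; rw [h01]; simp
      · show m 1 0 = _; rw [h1]; simp
      · show m 1 1 = _; rw [h11']; simp
  · rintro (rfl | rfl)
    · exact Subgroup.one_mem _
    · exact psi_neg_one

theorem card_ker_psi : Nat.card ↥psi.ker = 2 := by
  have hne : (1 : SpecialLinearGroup (Fin 2) (ZMod 23)) ≠ -1 := by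
    intro h
    have := congrArg (fun s : SpecialLinearGroup (Fin 2) (ZMod 23) =>
      (s : Matrix (Fin 2) (Fin 2) (ZMod 23)) 0 0) h
    simp at this
    revert this
    decide
  have hset : (psi.ker : Set (SpecialLinearGroup (Fin 2) (ZMod 23))) = {1, -1} := by
    ext s
    rw [SetLike.mem_coe, ker_psi]
    simp
  have : Nat.card ↥psi.ker = (psi.ker : Set (SpecialLinearGroup (Fin 2) (ZMod 23))).ncard :=
    (Nat.card_coe_set_eq _)
  rw [this, hset, Set.ncard_pair hne]

theorem card_closure_S1 : Nat.card ↥(Subgroup.closure S1) = 6072 := by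
  rw [← range_psi]
  have h1 : Nat.card ↥psi.ker * psi.ker.index = Nat.card (SpecialLinearGroup (Fin 2) (ZMod 23)) :=
    Subgroup.card_mul_index psi.ker
  rw [Subgroup.index_ker, card_ker_psi, card_SL2, ZMod.card] at h1
  omega

end Cfsg.Agent.Lib.Helper14.L223
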