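import Mathlib
import Cfsg.Prelude.Def_Sporadic_a
import Cfsg.Prelude.Def_Spor_Mathieu
import Cfsg.Agent.S0370
import Cfsg.Agent.S0371
import Cfsg.Agent.S0372
import Cfsg.Agent.Lib.Helper3.Golay.M24Order
import Cfsg.Agent.Lib.Helper3.OutAut.M23
import Cfsg.Agent.Lib.Helper14.L223A
import Cfsg.Agent.Lib.Helper14.L223E

set_option autoImplicit false

/-! Maximality of `PSL(2,23)` in `M24` and of `23:11` in `M23`: the assembly. -/

namespace Cfsg.Agent.Lib.Helper14.L223

open Cfsg Cfsg.Agent.Lib.Helper3.Golay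

/-- `PSL(2,23)` -/
def LL : Subgroup (Equiv.Perm GolayPt) := Subgroup.closure S1

/-- the cyclic group of order 11 -/
def QQ : Subgroup (Equiv.Perm GolayPt) := Subgroup.zpowers m2

theorem card_mul_relIndex {G : Type*} [Group G] {K H : Subgroup G} (h : K ≤ H) :
    Nat.card K * K.relIndex H = Nat.card H := by
  have := Subgroup.relIndex_mul_relIndex (⊥ : Subgroup G) K H bot_le h
  rwa [Subgroup.relIndex_bot_left, Subgroup.relIndex_bot_left] at this

theorem LL_le : LL ≤ M24 := by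
  unfold LL
  rw [Subgroup.closure_le]
  rintro g ((hg | hg) | ⟨u, hu, rfl⟩)
  · rw [hg]; exact Cfsg.Agent.S0370.result
  · rw [Set.mem_singleton_iff] at hg
    rw [hg]; exact Cfsg.Agent.S0372.result
  · exact Cfsg.Agent.S0371.result u hu

theorem AffSq_le_LL : AffSq ≤ LL := AffSq_le

theorem AffSq_le_M24 : AffSq ≤ M24 := AffSq_le_LL.trans LL_le

theorem card_LL : Nat.card ↥LL = 6072 := card_closure_S1

theorem gA_mem_AffSq : gA ∈ AffSq := ⟨1, 1, IsSquare.one, gA_eq⟩

set_option maxRecDepth 100000 in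
theorem isSquare_u2 : IsSquare u2 := by decide +kernel

theorem m2_mem_AffSq : m2 ∈ AffSq := ⟨u2, 0, isSquare_u2, mU_eq u2⟩

theorem projInv_mem_LL : projInv ∈ LL := Subgroup.subset_closure (Or.inl (Or.inr rfl))

theorem orderOf_gA : orderOf gA = 23 :=
  orderOf_eq_prime gA_pow_23 gA_ne_one

set_option maxRecDepth 100000 in
theorem m2_pow_11 : m2 ^ 11 = 1 := by
  rw [m2_pow]
  have : u2 ^ 11 = 1 := by decide +kernel
  rw [this, mU_eq, aff_one]

theorem m2_ne_one : m2 ≠ 1 := by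
  intro h
  have := congrArg (fun g : Equiv.Perm GolayPt => g (some 1)) h
  revert this
  decide

instance fact11 : Fact (Nat.Prime 11) := ⟨by norm_num⟩

theorem orderOf_m2 : orderOf m2 = 11 :=
  orderOf_eq_prime m2_pow_11 m2_ne_one

instance isCyclic_QQ : IsCyclic ↥QQ := by
  unfold QQ
  infer_instance

theorem card_QQ : Nat.card ↥QQ = 11 := by
  unfold QQ
  rw [Nat.card_zpowers, orderOf_m2]

set_option maxRecDepth 100000 in
theorem projInv_conj : ∀ x : GolayPt, (projInv * m2 * projInv⁻¹) x = (m2 ^ 10) x := by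
  decide +kernel

theorem projInv_normalizes : projInv ∈ Subgroup.normalizer (QQ : Set (Equiv.Perm GolayPt)) := by
  apply mem_normalizer_zpowers
  have : projInv * m2 * projInv⁻¹ = m2 ^ 10 := Equiv.ext projInv_conj
  rw [this]
  exact Subgroup.pow_mem _ (Subgroup.mem_zpowers m2) _

theorem projInv_sq : projInv ^ 2 = 1 := by
  apply Equiv.ext
  decide

theorem projInv_ne_one : projInv ≠ 1 := by
  intro h
  have := congrArg (fun g : Equiv.Perm GolayPt => g none) h
  revert this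
  decide

theorem orderOf_projInv : orderOf projInv = 2 :=
  orderOf_eq_prime projInv_sq projInv_ne_one

/-- `H ∩ N(Q)` -/
def NN (H : Subgroup (Equiv.Perm GolayPt)) : Subgroup (Equiv.Perm GolayPt) :=
  H ⊓ Subgroup.normalizer (QQ : Set (Equiv.Perm GolayPt))

theorem card_NN_dvd (H : Subgroup (Equiv.Perm GolayPt)) (hH : H ≤ M24) :
    Nat.card ↥(NN H) ∣ 110 := by
  have := card_dvd_of_normalizes QQ (NN H) inf_le_right (by
    intro n hn hq
    apply mem_zpowers_of_commute n (hH hn.1)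
    intro x
    have := hq m2 (Subgroup.mem_zpowers m2)
    have h2 := congrArg (fun e : Equiv.Perm GolayPt => e x) this
    exact h2)
  rwa [card_QQ, show Nat.totient 11 = 10 from by decide] at this

theorem QQ_le_normalizer : QQ ≤ Subgroup.normalizer (QQ : Set (Equiv.Perm GolayPt)) :=
  Subgroup.le_normalizer

theorem dvd_card_of_mem {G : Type*} [Group G] (K : Subgroup G) [Finite K] (g : G) (hg : g ∈ K) :
    orderOf g ∣ Nat.card K := by
  have := orderOf_dvd_natCard (⟨g, hg⟩ : ↥K)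
  rwa [Subgroup.orderOf_mk] at this

/-- Sylow-type fixed point property for an element `σ` of prime order `p` -/
theorem fix_property (p : ℕ) [Fact p.Prime] (σ : Equiv.Perm GolayPt) (hσ : orderOf σ = p)
    (K H : Subgroup (Equiv.Perm GolayPt)) (hKH : K ≤ H) (hσK : σ ∈ K)
    (hp2 : ¬ p ^ 2 ∣ Nat.card ↥K)
    (hnorm : ∀ n ∈ H, n * σ * n⁻¹ ∈ Subgroup.zpowers σ → n ∈ K) :
    ∀ h ∈ H, h⁻¹ * σ * h ∈ K → h ∈ K := by
  intro h hh hmem
  have ho1 : orderOf (⟨σ, hσK⟩ : ↥K) = p := by rw [Subgroup.orderOf_mk, hσ]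
  have ho2 : orderOf (⟨h⁻¹ * σ * h, hmem⟩ : ↥K) = p := by
    rw [Subgroup.orderOf_mk]
    have := orderOf_injective (MulAut.conj h⁻¹).toMonoidHom (MulAut.conj h⁻¹).injective σ
    simp only [MulEquiv.toMonoidHom_eq_coe, MonoidHom.coe_coe, MulAut.conj_apply, inv_inv] at this
    rw [this, hσ]
  obtain ⟨k, hk⟩ := exists_conj_mem_zpowers p (⟨σ, hσK⟩ : ↥K) ⟨h⁻¹ * σ * h, hmem⟩ ho1 ho2 hp2
  obtain ⟨i, hi⟩ := Subgroup.mem_zpowers_iff.mp hk
  have hi' : σ ^ i = (k : Equiv.Perm GolayPt) * (h⁻¹ * σ * h) * (k : Equiv.Perm GolayPt)⁻¹ := by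
    have := congrArg (fun e : ↥K => (e : Equiv.Perm GolayPt)) hi
    simpa using this
  have hn : ((k : Equiv.Perm GolayPt) * h⁻¹) ∈ K := by
    apply hnorm _ (H.mul_mem (hKH k.2) (H.inv_mem hh))
    rw [Subgroup.mem_zpowers_iff]
    refine ⟨i, ?_⟩
    rw [hi']
    group
  have : h⁻¹ ∈ K := by
    have h2 := K.mul_mem (K.inv_mem k.2) hn
    rwa [← mul_assoc, inv_mul_cancel, one_mul] at h2
  simpa using K.inv_mem this

/-- the `23`-congruence -/
theorem mod23 (K H : Subgroup (Equiv.Perm GolayPt)) (hAK : AffSq ≤ K) (hKH : K ≤ H) (hH : H ≤ M24)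
    (hp2 : ¬ 23 ^ 2 ∣ Nat.card ↥K) : K.relIndex H % 23 = 1 := by
  apply relIndex_mod_eq_one K H hKH 23 gA (hAK gA_mem_AffSq) gA_pow_23
  apply fix_property 23 gA orderOf_gA K H hKH (hAK gA_mem_AffSq) hp2
  intro n hn hmem
  exact hAK (mem_AffSq_of_normalizes n (hH hn) hmem)

/-- the `11`-congruence -/
theorem mod11 (H : Subgroup (Equiv.Perm GolayPt)) (hAH : AffSq ≤ H) (hH : H ≤ M24) :
    (NN H).relIndex H % 11 = 1 := by
  have hm : m2 ∈ NN H := ⟨hAH m2_mem_AffSq, QQ_le_normalizer (Subgroup.mem_zpowers m2)⟩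
  apply relIndex_mod_eq_one (NN H) H inf_le_left 11 m2 hm m2_pow_11
  apply fix_property 11 m2 orderOf_m2 (NN H) H inf_le_left hm
  · intro hdvd
    have := hdvd.trans (card_NN_dvd H hH)
    revert this
    decide
  · intro n hn hmem
    exact ⟨hn, mem_normalizer_zpowers m2 n hmem⟩

theorem eleven_dvd_NN (H : Subgroup (Equiv.Perm GolayPt)) (hAH : AffSq ≤ H) :
    11 ∣ Nat.card ↥(NN H) := by
  have hm : m2 ∈ NN H := ⟨hAH m2_mem_AffSq, QQ_le_normalizer (Subgroup.mem_zpowers m2)⟩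
  have := dvd_card_of_mem (NN H) m2 hm
  rwa [orderOf_m2] at this

/-- overgroups of `PSL(2,23)` in `M24` -/
theorem main1 (H : Subgroup (Equiv.Perm GolayPt)) (hLH : LL ≤ H) (hH : H ≤ M24) :
    H = LL ∨ H = M24 := by
  have hAH : AffSq ≤ H := AffSq_le_LL.trans hLH
  have h23 := mod23 LL H AffSq_le_LL hLH hH (by rw [card_LL]; decide)
  have h11 := mod11 H hAH hH
  have hN := card_NN_dvd H hH
  have h2 : 2 ∣ Nat.card ↥(NN H) := by
    have hp : projInv ∈ NN H := ⟨hLH projInv_mem_LL, projInv_normalizes⟩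
    have := dvd_card_of_mem (NN H) projInv hp
    rwa [orderOf_projInv] at this
  have h11' := eleven_dvd_NN H hAH
  have e1 : Nat.card ↥LL * LL.relIndex H = Nat.card ↥H := card_mul_relIndex hLH
  have e2 : Nat.card ↥(NN H) * (NN H).relIndex H = Nat.card ↥H :=
    card_mul_relIndex (inf_le_left : NN H ≤ H)
  have e3 : Nat.card ↥H ∣ 244823040 := by
    rw [← card_M24]
    exact Subgroup.card_dvd_of_le hH
  rw [card_LL] at e1
  have hk : LL.relIndex H ∣ 40320 := by
    rw [← e1] at e3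
    have : (244823040 : ℕ) = 6072 * 40320 := by norm_num
    rw [this] at e3
    exact Nat.dvd_of_mul_dvd_mul_left (by norm_num) e3
  rcases arith1 _ _ _ hk h23 hN h2 h11' h11 (e1.trans e2.symm) with h | h
  · left
    exact le_antisymm (Subgroup.relIndex_eq_one.mp h) hLH
  · right
    apply Subgroup.eq_of_le_of_card_ge hH
    rw [card_M24, ← e1, h]

end Cfsg.Agent.Lib.Helper14.L223
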