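import Mathlib
import Cfsg.Prelude.Def_Sporadic_a
import Cfsg.Agent.S0373
import Cfsg.Agent.Lib.Helper28.M24Fix
import Cfsg.Agent.Lib.Helper28.M24Classes
import Cfsg.Agent.Lib.Helper14.L223D

set_option autoImplicit false

/-! The centraliser of the cube twist `δ` (an element of order `5`) in the two point stabiliser
`M22` of `M24` (the stabiliser of the extra point and of `0`) is `⟨δ⟩`. -/

namespace Cfsg.Agent.Lib.Helper14.M22Idx

open Cfsg
open Cfsg.Agent.Lib.Helper28.GolayCode
open Cfsg.Agent.Lib.Helper28.M24OctadFix (card_fixed_invol)

/-- the cube twist `δ` -/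
noncomputable def dl : Equiv.Perm GolayPt := cubeTwist

theorem dl_apply (x : GolayPt) : dl x = cubeTwistFun x := rfl

theorem dl_mem : dl ∈ M24 := Cfsg.Agent.S0373.result

theorem dl_none : dl none = none := rfl

theorem dl_zero : dl (some 0) = some 0 := by rw [dl_apply]; decide +kernel

theorem ct_fixed : ∀ x : GolayPt, cubeTwistFun x = x →
    x = none ∨ x = some 0 ∨ x = some 3 ∨ x = some 15 := by decide +kernel

theorem dl_fixed (x : GolayPt) (h : dl x = x) :
    x = none ∨ x = some 0 ∨ x = some 3 ∨ x = some 15 := ct_fixed x h

theorem dl_three : dl (some 3) = some 3 := by rw [dl_apply]; decide +kernel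

theorem dl_fifteen : dl (some 15) = some 15 := by rw [dl_apply]; decide +kernel

/-- masks of the four sets `Fix δ ∪ Z_i` -/
def Fm (i : Fin 4) : ℕ := [0x84805f, 0xb084a9, 0x81b309, 0xcac809].getD i.val 0

/-- masks of the four sets `{∞, 0} ∪ Z_i` -/
def Sm (i : Fin 4) : ℕ := [0x840057, 0xb004a1, 0x813301, 0xca4801].getD i.val 0

/-- the nine points -/
def P9 (x : GolayPt) (i : Fin 4) : Prop :=
  ∀ p ∈ bset (Fm i), p = none ∨ p = some 0 ∨ p = some 3 ∨ p = some 15 ∨ p = x ∨
      p = cubeTwistFun x ∨ p = cubeTwistFun (cubeTwistFun x) ∨
      p = cubeTwistFun (cubeTwistFun (cubeTwistFun x)) ∨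
      p = cubeTwistFun (cubeTwistFun (cubeTwistFun (cubeTwistFun x)))

/-- the seven points -/
def P7 (x : GolayPt) (i : Fin 4) : Prop :=
  ∀ p ∈ bset (Sm i), p = none ∨ p = some 0 ∨ p = x ∨
      p = cubeTwistFun x ∨ p = cubeTwistFun (cubeTwistFun x) ∨
      p = cubeTwistFun (cubeTwistFun (cubeTwistFun x)) ∨
      p = cubeTwistFun (cubeTwistFun (cubeTwistFun (cubeTwistFun x)))

instance (x : GolayPt) (i : Fin 4) : Decidable (P9 x i) := by
  unfold P9; exact Finset.decidableDforallFinset

instance (x : GolayPt) (i : Fin 4) : Decidable (P7 x i) := by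
  unfold P7; exact Finset.decidableDforallFinset

set_option maxRecDepth 100000 in
theorem cyc_cases : ∀ x : GolayPt, cubeTwistFun x ≠ x → ∃ i : Fin 4, P9 x i ∧ P7 x i := by
  decide +kernel

/-- closure certificates for the nine point sets -/
def steps9 (i : Fin 4) : List (ℕ × ℕ) :=
  [[(9347075, 3416079), (9347075, 843820), (9347075, 9347075), (1302533, 12222476),
    (1302533, 6053905), (1302533, 1302533), (11100169, 11100169), (6053905, 6053905),
    (11952160, 11952160), (14254209, 14254209), (4038912, 4038912), (8077824, 8077824),
    (7767041, 7767041), (14919680, 14919680), (13062145, 13062145)],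
   [(12222476, 3719203), (11100169, 3719203), (11100169, 11952160), (9347075, 1302533),
    (9347075, 6053905), (9347075, 9347075), (1302533, 11100169), (1302533, 1302533),
    (6053905, 15515712), (6053905, 6053905), (15515712, 15515712), (4038912, 4038912),
    (8077824, 8077824), (14919680, 14919680), (13062145, 13062145)],
   [(11100169, 9748745), (1302533, 9543722), (1302533, 11731203), (9347075, 11100169),
    (9347075, 6053905), (9347075, 9347075), (1302533, 1302533), (11100169, 11100169),
    (6053905, 15515712), (6053905, 6053905), (11952160, 11952160), (15515712, 15515712),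
    (14254209, 14254209), (7767041, 7767041), (14919680, 14919680)],
   [(9347075, 11100169), (9347075, 6053905), (9347075, 9347075), (1302533, 11100169),
    (1302533, 6053905), (1302533, 1302533), (11100169, 11100169), (6053905, 6053905),
    (11952160, 11952160), (15515712, 15515712), (14254209, 14254209), (4038912, 4038912),
    (8077824, 8077824), (7767041, 7767041), (13062145, 13062145)]].getD i.val []

/-- closure certificates for the seven point sets -/
def steps7 (i : Fin 4) : List (ℕ × ℕ) :=
  [[(12656663, 13893731), (12656663, 4989254), (9347075, 6053905), (9347075, 15335473),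
    (9347075, 9347075)],
   [(11535529, 11535529)],
   [(8499969, 8499969)],
   [(15335473, 15747077), (11100169, 6447171), (9347075, 6053905), (9347075, 15515712)]].getD
    i.val []

set_option maxRecDepth 100000 in
theorem full9 : ∀ i : Fin 4, Nat.land (fixClosure (Fm i) (steps9 i)) 0xffffff = 0xffffff := by
  decide +kernel

set_option maxRecDepth 100000 in
theorem reach7 : ∀ i : Fin 4, (some 3 : GolayPt) ∈ bset (fixClosure (Sm i) (steps7 i)) ∨
    (some 15 : GolayPt) ∈ bset (fixClosure (Sm i) (steps7 i)) := by
  decide +kernel

/-- an element of `M24` fixing the nine points `Fix δ ∪ Z_i` is trivial -/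
theorem eq_one_of_nine {g : Equiv.Perm GolayPt} (hg : g ∈ M24) (i : Fin 4)
    (hF : ∀ p ∈ bset (Fm i), g p = p) : g = 1 :=
  eq_one_of_fixClosure hg (Fm i) (steps9 i) hF (full9 i)

/-- an element of `M24` fixing the seven points `{∞, 0} ∪ Z_i` fixes `3` or `15` -/
theorem fix_of_seven {g : Equiv.Perm GolayPt} (hg : g ∈ M24) (i : Fin 4)
    (hF : ∀ p ∈ bset (Sm i), g p = p) : g (some 3) = some 3 ∨ g (some 15) = some 15 := by
  rcases reach7 i with h | h
  · exact Or.inl (fixClosure_sound hg (steps7 i) (Sm i) hF _ h)
  · exact Or.inr (fixClosure_sound hg (steps7 i) (Sm i) hF _ h)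

section cent

variable {g : Equiv.Perm GolayPt} (hg : g ∈ M24) (hN : g none = none)
  (hZ : g (some 0) = some 0) (hcomm : ∀ y, g (dl y) = dl (g y))

include hN hZ hcomm

theorem image_fixed (x : GolayPt) (hx : dl x = x) (hx1 : x ≠ none) (hx2 : x ≠ some 0) :
    g x = some 3 ∨ g x = some 15 := by
  have h1 : dl (g x) = g x := by rw [← hcomm, hx]
  rcases dl_fixed _ h1 with h | h | h | h
  · exact absurd (g.injective (h.trans hN.symm)) hx1
  · exact absurd (g.injective (h.trans hZ.symm)) hx2
  · exact Or.inl h
  · exact Or.inr h

theorem three_iff : g (some 3) = some 3 ↔ g (some 15) = some 15 := by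
  have h3 := image_fixed hN hZ hcomm (some 3) dl_three (by decide) (by decide)
  have h15 := image_fixed hN hZ hcomm (some 15) dl_fifteen (by decide) (by decide)
  constructor
  · intro h
    rcases h15 with h' | h'
    · exact absurd (g.injective (h'.trans h.symm)) (by decide)
    · exact h'
  · intro h
    rcases h3 with h' | h'
    · exact h'
    · exact absurd (g.injective (h'.trans h.symm)) (by decide)

include hg in
/-- an element of the centraliser fixing a point moved by `δ` is trivial -/
theorem eq_one_of_fixes_moved (x : GolayPt) (hx : dl x ≠ x) (hgx : g x = x) : g = 1 := by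
  have e1 : g (cubeTwistFun x) = cubeTwistFun x := by
    have := hcomm x; rw [hgx] at this; exact this
  have e2 : g (cubeTwistFun (cubeTwistFun x)) = cubeTwistFun (cubeTwistFun x) := by
    have := hcomm (cubeTwistFun x); rw [e1] at this; exact this
  have e3 : g (cubeTwistFun (cubeTwistFun (cubeTwistFun x))) =
      cubeTwistFun (cubeTwistFun (cubeTwistFun x)) := by
    have := hcomm (cubeTwistFun (cubeTwistFun x)); rw [e2] at this; exact this
  have e4 : g (cubeTwistFun (cubeTwistFun (cubeTwistFun (cubeTwistFun x)))) =
      cubeTwistFun (cubeTwistFun (cubeTwistFun (cubeTwistFun x))) := by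
    have := hcomm (cubeTwistFun (cubeTwistFun (cubeTwistFun x))); rw [e3] at this; exact this
  obtain ⟨i, h9, h7⟩ := cyc_cases x hx
  have hS : ∀ p ∈ bset (Sm i), g p = p := by
    intro p hp
    rcases h7 p hp with h | h | h | h | h | h | h <;> rw [h]
    · exact hN
    · exact hZ
    · exact hgx
    · exact e1
    · exact e2
    · exact e3
    · exact e4
  have h315 : g (some 3) = some 3 ∧ g (some 15) = some 15 := by
    rcases fix_of_seven hg i hS with h | h
    · exact ⟨h, (three_iff hN hZ hcomm).mp h⟩
    · exact ⟨(three_iff hN hZ hcomm).mpr h, h⟩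
  apply eq_one_of_nine hg i
  intro p hp
  rcases h9 p hp with h | h | h | h | h | h | h | h | h <;> rw [h]
  · exact hN
  · exact hZ
  · exact h315.1
  · exact h315.2
  · exact hgx
  · exact e1
  · exact e2
  · exact e3
  · exact e4

include hg in
/-- no element of prime order `r ≠ 5` of `M22` centralises `δ` -/
theorem no_prime (r : ℕ) (hr : r.Prime) (hr5 : r ≠ 5) (hord : orderOf g = r) : False := by
  have hg1 : g ≠ 1 := by
    intro h
    rw [h, orderOf_one] at hord
    exact hr.one_lt.ne hord
  have hpow : g ^ r = 1 := by rw [← hord]; exact pow_orderOf_eq_one g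
  have hnomoved : ∀ x, g x = x → dl x = x := by
    intro x hgx
    by_contra hx
    exact hg1 (eq_one_of_fixes_moved hg hN hZ hcomm x hx hgx)
  have hsub : (Finset.univ.filter fun p => g p = p) ⊆
      ({none, some 0, some 3, some 15} : Finset GolayPt) := by
    intro p hp
    rw [Finset.mem_filter] at hp
    rcases dl_fixed p (hnomoved p hp.2) with h | h | h | h <;> rw [h] <;> decide
  rcases hr.eq_two_or_odd' with h2 | hodd
  · -- involutions
    subst h2
    rcases card_fixed_invol hg hpow hg1 with h | h
    · have := Finset.card_le_card hsub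
      rw [h] at this
      have h4 : ({none, some 0, some 3, some 15} : Finset GolayPt).card = 4 := by decide
      omega
    · have : (none : GolayPt) ∈ (Finset.univ.filter fun p => g p = p) := by
        rw [Finset.mem_filter]; exact ⟨Finset.mem_univ _, hN⟩
      rw [Finset.card_eq_zero] at h
      rw [h] at this
      exact absurd this (Finset.notMem_empty _)
  · -- odd order
    have h3 : g (some 3) = some 3 := by
      rcases image_fixed hN hZ hcomm (some 3) dl_three (by decide) (by decide) with h | h
      · exact h
      · exfalso
        have h15 : g (some 15) = some 3 := by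
          rcases image_fixed hN hZ hcomm (some 15) dl_fifteen (by decide) (by decide) with h' | h'
          · exact h'
          · exact absurd (g.injective (h'.trans h.symm)) (by decide)
        have hsq : ∀ k : ℕ, (g ^ (2 * k)) (some 3) = some 3 := by
          intro k
          induction k with
          | zero => simp
          | succ k ih =>
            rw [show 2 * (k + 1) = 2 * k + 2 by ring, pow_add, Equiv.Perm.mul_apply, pow_two,
              Equiv.Perm.mul_apply, h, h15, ih]
        obtain ⟨k, hk⟩ := hodd
        have : g ^ (2 * (k + 1)) = g := by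
          rw [show 2 * (k + 1) = r + 1 by omega, pow_succ, hpow, one_mul]
        have h' := hsq (k + 1)
        rw [this, h] at h'
        exact absurd h' (by decide)
    have h15 : g (some 15) = some 15 := (three_iff hN hZ hcomm).mp h3
    have hfix : (Finset.univ.filter fun p => g p = p) =
        ({none, some 0, some 3, some 15} : Finset GolayPt) := by
      apply Finset.Subset.antisymm hsub
      intro p hp
      rw [Finset.mem_filter]
      refine ⟨Finset.mem_univ _, ?_⟩
      simp only [Finset.mem_insert, Finset.mem_singleton] at hp
      rcases hp with h | h | h | h <;> rw [h]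
      · exact hN
      · exact hZ
      · exact h3
      · exact h15
    haveI : Fact r.Prime := ⟨hr⟩
    have hmod := Equiv.Perm.card_compl_support_modEq (p := r) (n := 1) (σ := g)
      (by rw [pow_one]; exact hpow)
    have hc : g.supportᶜ = Finset.univ.filter fun p => g p = p := by
      ext p
      simp [Equiv.Perm.mem_support]
    rw [hc, hfix] at hmod
    have h4 : ({none, some 0, some 3, some 15} : Finset GolayPt).card = 4 := by decide
    have h24 : Fintype.card GolayPt = 24 := by decide
    rw [h4, h24] at hmod
    have hdvd : r ∣ 20 := by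
      have := (Nat.modEq_iff_dvd' (by norm_num : 4 ≤ 24)).mp hmod
      simpa using this
    have hr20 : r ∈ Nat.primeFactors 20 := Nat.mem_primeFactors.mpr ⟨hr, hdvd, by norm_num⟩
    have : Nat.primeFactors 20 = {2, 5} := by decide +kernel
    rw [this] at hr20
    simp only [Finset.mem_insert, Finset.mem_singleton] at hr20
    rcases hr20 with h | h
    · obtain ⟨k, hk⟩ := hodd; omega
    · exact hr5 h

end cent

end Cfsg.Agent.Lib.Helper14.M22Idx
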