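import Mathlib
import Cfsg.Prelude.Def_Sporadic_a
import Cfsg.Agent.Lib.Helper3.Golay.TblPerm
import Cfsg.Agent.Lib.Helper3.Golay.M24Trans
import Cfsg.Agent.Lib.Helper14.L223F
import Cfsg.Agent.Lib.Helper14.M22IdxA

set_option autoImplicit false

/-! The two point stabiliser `M22` of `M24` has no subgroup of order `7920` (index `56`) and none
of order `2112` (index `210`): Sylow arguments with the normalisers `11:5` and `5:4`. -/

namespace Cfsg.Agent.Lib.Helper14.M22Idx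

open Cfsg Cfsg.Agent.Lib.Helper3.Golay Cfsg.Agent.Lib.Helper14.L223
open scoped Pointwise

/-- `M22`, the stabiliser of the extra point and of `0`, as a flat subgroup -/
def G22 : Subgroup (Equiv.Perm GolayPt) :=
  M24 ⊓ MulAction.stabilizer (Equiv.Perm GolayPt) (none : GolayPt) ⊓
    MulAction.stabilizer (Equiv.Perm GolayPt) (some 0 : GolayPt)

theorem card_G22 : Nat.card ↥G22 = 443520 := card_stab_two (by decide)

theorem mem_G22 {g : Equiv.Perm GolayPt} :
    g ∈ G22 ↔ g ∈ M24 ∧ g none = none ∧ g (some 0) = some 0 := by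
  unfold G22
  rw [Subgroup.mem_inf, Subgroup.mem_inf, MulAction.mem_stabilizer_iff,
    MulAction.mem_stabilizer_iff, and_assoc]
  rfl

theorem G22_le : G22 ≤ M24 := fun _ hg => (mem_G22.mp hg).1

/-! ### the element `δ` of order five -/

set_option maxRecDepth 100000 in
theorem ct_pow5 : ∀ x : GolayPt,
    cubeTwistFun (cubeTwistFun (cubeTwistFun (cubeTwistFun (cubeTwistFun x)))) = x := by
  decide +kernel

theorem dl_pow5 : dl ^ 5 = 1 := by
  apply Equiv.ext
  intro x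
  simp only [pow_succ, pow_zero, one_mul, Equiv.Perm.mul_apply, dl_apply, Equiv.Perm.one_apply]
  exact ct_pow5 x

theorem dl_ne_one : dl ≠ 1 := by
  intro h
  have := congrArg (fun g : Equiv.Perm GolayPt => g (some 1)) h
  revert this
  simp only [dl_apply, Equiv.Perm.one_apply]
  decide +kernel

instance fact5 : Fact (Nat.Prime 5) := ⟨by norm_num⟩

theorem orderOf_dl : orderOf dl = 5 := orderOf_eq_prime dl_pow5 dl_ne_one

theorem dl_mem_G22 : dl ∈ G22 := mem_G22.mpr ⟨dl_mem, dl_none, dl_zero⟩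

theorem m2_mem_M24 : m2 ∈ M24 := AffSq_le_M24 m2_mem_AffSq

theorem m2_mem_G22 : m2 ∈ G22 := mem_G22.mpr ⟨m2_mem_M24, rfl, by decide⟩

set_option maxRecDepth 100000 in
theorem ct_m2 : ∀ x : GolayPt, cubeTwistFun (m2 x) = m2 (m2 (m2 (cubeTwistFun x))) := by
  decide +kernel

theorem dl_conj_m2 : dl * m2 * dl⁻¹ = m2 ^ 3 := by
  rw [mul_inv_eq_iff_eq_mul]
  apply Equiv.ext
  intro x
  simp only [pow_succ, pow_zero, one_mul, Equiv.Perm.mul_apply, dl_apply]
  exact ct_m2 x

theorem dl_mem_normalizer : dl ∈ Subgroup.normalizer (QQ : Set (Equiv.Perm GolayPt)) := by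
  apply mem_normalizer_zpowers m2 dl
  rw [dl_conj_m2]
  exact Subgroup.pow_mem _ (Subgroup.mem_zpowers m2) 3

/-! ### the centraliser of `δ` -/

/-- the centraliser of `δ` in `M22` -/
def CD : Subgroup (Equiv.Perm GolayPt) := G22 ⊓ Subgroup.centralizer {dl}

theorem mem_CD {g : Equiv.Perm GolayPt} : g ∈ CD ↔ g ∈ G22 ∧ ∀ y, g (dl y) = dl (g y) := by
  unfold CD
  rw [Subgroup.mem_inf, Subgroup.mem_centralizer_iff]
  constructor
  · rintro ⟨h1, h2⟩
    refine ⟨h1, fun y => ?_⟩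
    have := h2 dl (Set.mem_singleton _)
    have h3 := congrArg (fun e : Equiv.Perm GolayPt => e y) this
    exact h3.symm
  · rintro ⟨h1, h2⟩
    refine ⟨h1, ?_⟩
    intro h hh
    rw [Set.mem_singleton_iff] at hh
    subst hh
    apply Equiv.ext
    intro y
    exact (h2 y).symm

theorem prime_dvd_CD (r : ℕ) (hr : r.Prime) (hdvd : r ∣ Nat.card ↥CD) : r = 5 := by
  by_contra h5
  haveI : Fact r.Prime := ⟨hr⟩
  obtain ⟨g, hg⟩ := exists_prime_orderOf_dvd_card' r hdvd
  have hg' : orderOf (g : Equiv.Perm GolayPt) = r := by rw [Subgroup.orderOf_coe, hg]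
  obtain ⟨h1, h2⟩ := mem_CD.mp g.2
  obtain ⟨hM, hN, hZ⟩ := mem_G22.mp h1
  exact no_prime hM hN hZ h2 r hr h5 hg'

theorem card_CD : Nat.card ↥CD = 5 := by
  have h1 : Nat.card ↥CD ∣ 443520 := by
    rw [← card_G22]; exact Subgroup.card_dvd_of_le inf_le_left
  have hcop : Nat.Coprime (Nat.card ↥CD) 88704 := by
    apply Nat.coprime_of_dvd
    intro k hk hk1 hk2
    have := prime_dvd_CD k hk hk1
    subst this
    revert hk2
    decide
  have h2 : Nat.card ↥CD ∣ 5 := by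
    have : Nat.card ↥CD ∣ 5 * 88704 := by norm_num; exact h1
    exact hcop.dvd_of_dvd_mul_right this
  have h3 : 5 ∣ Nat.card ↥CD := by
    have hd : dl ∈ CD := mem_CD.mpr ⟨dl_mem_G22, fun _ => rfl⟩
    have := dvd_card_of_mem CD dl hd
    rwa [orderOf_dl] at this
  exact Nat.dvd_antisymm h2 h3

theorem CD_eq : CD = Subgroup.zpowers dl := by
  symm
  apply Subgroup.eq_of_le_of_card_ge
  · rw [Subgroup.zpowers_le]
    exact mem_CD.mpr ⟨dl_mem_G22, fun _ => rfl⟩
  · rw [card_CD, Nat.card_zpowers, orderOf_dl]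

/-- `H ∩ N(⟨δ⟩)` -/
def ND (H : Subgroup (Equiv.Perm GolayPt)) : Subgroup (Equiv.Perm GolayPt) :=
  H ⊓ Subgroup.normalizer (Subgroup.zpowers dl : Set (Equiv.Perm GolayPt))

theorem card_ND_dvd (H : Subgroup (Equiv.Perm GolayPt)) (hH : H ≤ G22) :
    Nat.card ↥(ND H) ∣ 20 := by
  have := card_dvd_of_normalizes (Subgroup.zpowers dl) (ND H) inf_le_right (by
    intro n hn hq
    rw [← CD_eq]
    apply mem_CD.mpr ⟨hH hn.1, ?_⟩
    intro y
    have := hq dl (Subgroup.mem_zpowers dl)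
    exact congrArg (fun e : Equiv.Perm GolayPt => e y) this)
  rwa [Nat.card_zpowers, orderOf_dl, show Nat.totient 5 = 4 from by decide] at this

theorem mod5 (H : Subgroup (Equiv.Perm GolayPt)) (hH : H ≤ G22) (hd : dl ∈ H) :
    (ND H).relIndex H % 5 = 1 := by
  have hm : dl ∈ ND H := ⟨hd, Subgroup.le_normalizer (Subgroup.mem_zpowers dl)⟩
  apply relIndex_mod_eq_one (ND H) H inf_le_left 5 dl hm dl_pow5
  apply fix_property 5 dl orderOf_dl (ND H) H inf_le_left hm
  · intro hdvd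
    have := hdvd.trans (card_ND_dvd H hH)
    revert this
    decide
  · intro n hn hmem
    exact ⟨hn, mem_normalizer_zpowers dl n hmem⟩

theorem mod11' (H : Subgroup (Equiv.Perm GolayPt)) (hH : H ≤ M24) (hm2 : m2 ∈ H) :
    (NN H).relIndex H % 11 = 1 := by
  have hm : m2 ∈ NN H := ⟨hm2, QQ_le_normalizer (Subgroup.mem_zpowers m2)⟩
  apply relIndex_mod_eq_one (NN H) H inf_le_left 11 m2 hm m2_pow_11
  apply fix_property 11 m2 orderOf_m2 (NN H) H inf_le_left hm
  · intro hdvd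
    have := hdvd.trans (card_NN_dvd H hH)
    revert this
    decide
  · intro n hn hmem
    exact ⟨hn, mem_normalizer_zpowers m2 n hmem⟩

/-! ### the element of order four normalising `⟨δ⟩` -/

def f0T : List ℕ :=
  [0, 1, 18, 15, 6, 13, 2, 8, 10, 7, 9, 14, 21, 20, 17, 3, 5, 19, 4, 11, 16, 12, 22, 23]

def f0T' : List ℕ :=
  [0, 1, 6, 15, 18, 16, 4, 9, 7, 10, 8, 19, 21, 5, 11, 3, 20, 14, 2, 17, 13, 12, 22, 23]

/-- an element of order four of `M22` normalising `⟨δ⟩` -/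
def f0 : Equiv.Perm GolayPt := permOfTbl f0T f0T' (by decide +kernel) (by decide +kernel)

theorem hasTbl_f0 : HasTbl f0 f0T := hasTbl_permOfTbl _ _ _ _

set_option maxRecDepth 100000 in
theorem f0_mem_M24 : f0 ∈ M24 := hasTbl_f0.mem_M24 (by decide +kernel)

theorem f0_apply (x : GolayPt) : f0 x = pt (f0T.getD (idx x) 0) := rfl

theorem f0_mem_G22 : f0 ∈ G22 := mem_G22.mpr ⟨f0_mem_M24, by decide +kernel, by decide +kernel⟩

set_option maxRecDepth 100000 in
theorem f0_ct : ∀ x : GolayPt, f0 (cubeTwistFun x) = cubeTwistFun (cubeTwistFun (f0 x)) := by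
  decide +kernel

theorem f0_conj_dl : f0 * dl * f0⁻¹ = dl ^ 2 := by
  rw [mul_inv_eq_iff_eq_mul]
  apply Equiv.ext
  intro x
  simp only [pow_succ, pow_zero, one_mul, Equiv.Perm.mul_apply, dl_apply]
  exact f0_ct x

theorem f0_mem_ND : f0 ∈ ND G22 := by
  refine ⟨f0_mem_G22, ?_⟩
  apply mem_normalizer_zpowers dl f0
  rw [f0_conj_dl]
  exact Subgroup.pow_mem _ (Subgroup.mem_zpowers dl) 2

/-- the word of order seven -/
noncomputable def w7 : Equiv.Perm GolayPt := m2 * dl * f0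

set_option maxRecDepth 100000 in
theorem w7_pow : ∀ x : GolayPt,
    m2 (cubeTwistFun (f0 (m2 (cubeTwistFun (f0 (m2 (cubeTwistFun (f0 (m2 (cubeTwistFun (f0
      (m2 (cubeTwistFun (f0 (m2 (cubeTwistFun (f0 (m2 (cubeTwistFun (f0 x))))))))))))))))))))
      = x := by
  decide +kernel

theorem w7_pow7 : w7 ^ 7 = 1 := by
  apply Equiv.ext
  intro x
  simp only [w7, pow_succ, pow_zero, one_mul, Equiv.Perm.mul_apply, dl_apply,
    Equiv.Perm.one_apply]
  exact w7_pow x

theorem w7_ne_one : w7 ≠ 1 := by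
  intro h
  have := congrArg (fun g : Equiv.Perm GolayPt => g (some 1)) h
  revert this
  simp only [w7, Equiv.Perm.mul_apply, dl_apply, Equiv.Perm.one_apply]
  decide +kernel

instance fact7 : Fact (Nat.Prime 7) := ⟨by norm_num⟩

theorem orderOf_w7 : orderOf w7 = 7 := orderOf_eq_prime w7_pow7 w7_ne_one

/-! ### generic lemmas -/

/-- a nontrivial element of a cyclic group of prime order generates it -/
theorem mem_zpowers_of_mem_zpowers {G : Type*} [Group G] (p : ℕ) [hp : Fact p.Prime] (σ c : G)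
    (hσ : orderOf σ = p) (hc : c ∈ Subgroup.zpowers σ) (hc1 : c ≠ 1) :
    σ ∈ Subgroup.zpowers c := by
  have hle : Subgroup.zpowers c ≤ Subgroup.zpowers σ := by
    rw [Subgroup.zpowers_le]; exact hc
  haveI : Finite ↥(Subgroup.zpowers σ) := by
    apply Nat.finite_of_card_ne_zero
    rw [Nat.card_zpowers, hσ]; exact hp.out.ne_zero
  have hdvd : Nat.card ↥(Subgroup.zpowers c) ∣ Nat.card ↥(Subgroup.zpowers σ) :=
    Subgroup.card_dvd_of_le hle
  rw [Nat.card_zpowers, Nat.card_zpowers, hσ] at hdvd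
  have hoc : orderOf c = p := by
    rcases (Nat.dvd_prime hp.out).mp hdvd with h | h
    · exact absurd (orderOf_eq_one_iff.mp h) hc1
    · exact h
  have : Subgroup.zpowers c = Subgroup.zpowers σ := by
    apply Subgroup.eq_of_le_of_card_ge hle
    rw [Nat.card_zpowers, Nat.card_zpowers, hσ, hoc]
  rw [this]
  exact Subgroup.mem_zpowers σ

/-- the conjugate subgroup -/
def cj (k : Equiv.Perm GolayPt) (H : Subgroup (Equiv.Perm GolayPt)) :
    Subgroup (Equiv.Perm GolayPt) := H.map (MulAut.conj k).toMonoidHom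

theorem mem_cj {k g : Equiv.Perm GolayPt} {H : Subgroup (Equiv.Perm GolayPt)} :
    g ∈ cj k H ↔ k⁻¹ * g * k ∈ H := by
  unfold cj
  rw [Subgroup.mem_map]
  constructor
  · rintro ⟨h, hh, rfl⟩
    simp only [MulEquiv.toMonoidHom_eq_coe, MonoidHom.coe_coe, MulAut.conj_apply]
    have : k⁻¹ * (k * h * k⁻¹) * k = h := by group
    rw [this]; exact hh
  · intro h
    refine ⟨k⁻¹ * g * k, h, ?_⟩
    simp only [MulEquiv.toMonoidHom_eq_coe, MonoidHom.coe_coe, MulAut.conj_apply]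
    group

theorem card_cj (k : Equiv.Perm GolayPt) (H : Subgroup (Equiv.Perm GolayPt)) :
    Nat.card ↥(cj k H) = Nat.card ↥H :=
  Subgroup.card_map_of_injective (MulAut.conj k).injective

theorem cj_le {k : Equiv.Perm GolayPt} {H K : Subgroup (Equiv.Perm GolayPt)} (hk : k ∈ K)
    (hH : H ≤ K) : cj k H ≤ K := by
  intro g hg
  have := hH (mem_cj.mp hg)
  have h2 := K.mul_mem (K.mul_mem hk this) (K.inv_mem hk)
  have : k * (k⁻¹ * g * k) * k⁻¹ = g := by group
  rwa [this] at h2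

theorem conj_mem_cj {k h : Equiv.Perm GolayPt} {H : Subgroup (Equiv.Perm GolayPt)} (hh : h ∈ H) :
    k * h * k⁻¹ ∈ cj k H := by
  rw [mem_cj]
  have : k⁻¹ * (k * h * k⁻¹) * k = h := by group
  rw [this]; exact hh

/-! ### the main argument -/

theorem divisors110 (a : ℕ) (h : a ∣ 110) :
    a = 1 ∨ a = 2 ∨ a = 5 ∨ a = 10 ∨ a = 11 ∨ a = 22 ∨ a = 55 ∨ a = 110 := by
  have h1 : a ∈ Nat.divisors 110 := Nat.mem_divisors.mpr ⟨h, by norm_num⟩
  have h2 : Nat.divisors 110 = {1, 2, 5, 10, 11, 22, 55, 110} := by decide +kernel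
  rw [h2] at h1
  simpa using h1

theorem divisors20 (a : ℕ) (h : a ∣ 20) :
    a = 1 ∨ a = 2 ∨ a = 4 ∨ a = 5 ∨ a = 10 ∨ a = 20 := by
  have h1 : a ∈ Nat.divisors 20 := Nat.mem_divisors.mpr ⟨h, by norm_num⟩
  have h2 : Nat.divisors 20 = {1, 2, 4, 5, 10, 20} := by decide +kernel
  rw [h2] at h1
  simpa using h1

/-- last step: a subgroup of order `7920` of `M22` cannot contain `m2` and `δ` -/
theorem aux2 (H : Subgroup (Equiv.Perm GolayPt)) (hH : H ≤ G22) (hm2 : m2 ∈ H) (hd : dl ∈ H)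
    (hc : Nat.card ↥H = 7920) : False := by
  have e1 : Nat.card ↥(ND H) * (ND H).relIndex H = Nat.card ↥H :=
    card_mul_relIndex (inf_le_left : ND H ≤ H)
  have e2 := mod5 H hH hd
  have e3 := card_ND_dvd H hH
  rw [hc] at e1
  have h20 : Nat.card ↥(ND H) = 20 := by
    rcases divisors20 _ e3 with h | h | h | h | h | h <;> rw [h] at e1 <;> omega
  have hle : ND H ≤ ND G22 := inf_le_inf_right _ hH
  have heq : ND H = ND G22 := by
    apply Subgroup.eq_of_le_of_card_ge hle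
    rw [h20]
    exact Nat.le_of_dvd (by norm_num) (card_ND_dvd G22 le_rfl)
  have hf : f0 ∈ H := by
    have : f0 ∈ ND H := by rw [heq]; exact f0_mem_ND
    exact this.1
  have hw : w7 ∈ H := H.mul_mem (H.mul_mem hm2 hd) hf
  haveI : Finite ↥H := Nat.finite_of_card_ne_zero (by rw [hc]; norm_num)
  have := dvd_card_of_mem H w7 hw
  rw [orderOf_w7, hc] at this
  revert this
  decide

/-- middle step -/
theorem aux1 (H : Subgroup (Equiv.Perm GolayPt)) (hH : H ≤ G22) (hm2 : m2 ∈ H)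
    (hc : Nat.card ↥H = 7920) : False := by
  have e1 : Nat.card ↥(NN H) * (NN H).relIndex H = Nat.card ↥H :=
    card_mul_relIndex (inf_le_left : NN H ≤ H)
  have e2 := mod11' H (hH.trans G22_le) hm2
  have e3 := card_NN_dvd H (hH.trans G22_le)
  rw [hc] at e1
  have h55 : Nat.card ↥(NN H) = 55 := by
    rcases divisors110 _ e3 with h | h | h | h | h | h | h | h <;> rw [h] at e1 <;> omega
  have h5 : 5 ∣ Nat.card ↥(NN H) := by rw [h55]; norm_num
  obtain ⟨b, hb⟩ := exists_prime_orderOf_dvd_card' 5 h5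
  have hbB : (b : Equiv.Perm GolayPt) ∈ NN G22 := (inf_le_inf_right _ hH) b.2
  have hdB : dl ∈ NN G22 := ⟨dl_mem_G22, dl_mem_normalizer⟩
  have hB110 := card_NN_dvd G22 G22_le
  have hob : orderOf (⟨(b : Equiv.Perm GolayPt), hbB⟩ : ↥(NN G22)) = 5 := by
    rw [Subgroup.orderOf_mk, Subgroup.orderOf_coe, hb]
  have hod : orderOf (⟨dl, hdB⟩ : ↥(NN G22)) = 5 := by
    rw [Subgroup.orderOf_mk, orderOf_dl]
  obtain ⟨k, hk⟩ := exists_conj_mem_zpowers 5 (⟨dl, hdB⟩ : ↥(NN G22)) ⟨(b : Equiv.Perm GolayPt), hbB⟩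
    hod hob (by
      intro hdvd
      have := hdvd.trans hB110
      revert this
      decide)
  -- the conjugate in the ambient group
  have hk' : (k : Equiv.Perm GolayPt) * (b : Equiv.Perm GolayPt) * (k : Equiv.Perm GolayPt)⁻¹ ∈
      Subgroup.zpowers dl := by
    obtain ⟨i, hi⟩ := Subgroup.mem_zpowers_iff.mp hk
    have := congrArg (fun e : ↥(NN G22) => (e : Equiv.Perm GolayPt)) hi
    simp only [Subgroup.coe_zpow, Subgroup.coe_mul, InvMemClass.coe_inv] at this
    rw [← this]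
    exact Subgroup.zpow_mem _ (Subgroup.mem_zpowers dl) i
  have hb1 : (b : Equiv.Perm GolayPt) ≠ 1 := by
    intro h
    have : orderOf (b : Equiv.Perm GolayPt) = 5 := by rw [Subgroup.orderOf_coe, hb]
    rw [h, orderOf_one] at this
    omega
  have hc1 : (k : Equiv.Perm GolayPt) * (b : Equiv.Perm GolayPt) * (k : Equiv.Perm GolayPt)⁻¹ ≠ 1 := by
    intro h
    apply hb1
    have := congrArg (fun e => (k : Equiv.Perm GolayPt)⁻¹ * e * (k : Equiv.Perm GolayPt)) h
    simpa [mul_assoc] using this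
  have hkG : (k : Equiv.Perm GolayPt) ∈ G22 := k.2.1
  have hkN : (k : Equiv.Perm GolayPt) ∈ Subgroup.normalizer (QQ : Set (Equiv.Perm GolayPt)) := k.2.2
  apply aux2 (cj (k : Equiv.Perm GolayPt) H) (cj_le hkG hH)
  · -- m2
    rw [mem_cj]
    have h1 : (k : Equiv.Perm GolayPt)⁻¹ ∈ Subgroup.normalizer (QQ : Set (Equiv.Perm GolayPt)) :=
      Subgroup.inv_mem _ hkN
    have h2 := (Subgroup.mem_normalizer_iff.mp h1 m2).mp (Subgroup.mem_zpowers m2)
    rw [inv_inv] at h2
    have h3 : QQ ≤ H := by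
      unfold QQ; rw [Subgroup.zpowers_le]; exact hm2
    exact h3 h2
  · -- dl
    have h1 := mem_zpowers_of_mem_zpowers 5 dl _ orderOf_dl hk' hc1
    have h2 : Subgroup.zpowers ((k : Equiv.Perm GolayPt) * (b : Equiv.Perm GolayPt) *
        (k : Equiv.Perm GolayPt)⁻¹) ≤ cj (k : Equiv.Perm GolayPt) H := by
      rw [Subgroup.zpowers_le]
      exact conj_mem_cj b.2.1
    exact h2 h1
  · rw [card_cj, hc]

/-- a subgroup of `M22` of order divisible by `11` has a conjugate containing `m2` -/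
theorem exists_conj_m2 (H : Subgroup (Equiv.Perm GolayPt)) (hH : H ≤ G22)
    (h11 : 11 ∣ Nat.card ↥H) :
    ∃ H' : Subgroup (Equiv.Perm GolayPt), H' ≤ G22 ∧ m2 ∈ H' ∧ Nat.card ↥H' = Nat.card ↥H := by
  obtain ⟨t, ht⟩ := exists_prime_orderOf_dvd_card' 11 h11
  have htG : (t : Equiv.Perm GolayPt) ∈ G22 := hH t.2
  have hot : orderOf (⟨(t : Equiv.Perm GolayPt), htG⟩ : ↥G22) = 11 := by
    rw [Subgroup.orderOf_mk, Subgroup.orderOf_coe, ht]
  have hom : orderOf (⟨m2, m2_mem_G22⟩ : ↥G22) = 11 := by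
    rw [Subgroup.orderOf_mk, orderOf_m2]
  haveI : Finite ↥G22 := Nat.finite_of_card_ne_zero (by rw [card_G22]; norm_num)
  obtain ⟨k, hk⟩ := exists_conj_mem_zpowers 11 (⟨m2, m2_mem_G22⟩ : ↥G22)
    ⟨(t : Equiv.Perm GolayPt), htG⟩ hom hot (by rw [card_G22]; decide)
  have hk' : (k : Equiv.Perm GolayPt) * (t : Equiv.Perm GolayPt) * (k : Equiv.Perm GolayPt)⁻¹ ∈
      Subgroup.zpowers m2 := by
    obtain ⟨i, hi⟩ := Subgroup.mem_zpowers_iff.mp hk
    have := congrArg (fun e : ↥G22 => (e : Equiv.Perm GolayPt)) hi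
    simp only [Subgroup.coe_zpow, Subgroup.coe_mul, InvMemClass.coe_inv] at this
    rw [← this]
    exact Subgroup.zpow_mem _ (Subgroup.mem_zpowers m2) i
  have ht1 : (t : Equiv.Perm GolayPt) ≠ 1 := by
    intro h
    have : orderOf (t : Equiv.Perm GolayPt) = 11 := by rw [Subgroup.orderOf_coe, ht]
    rw [h, orderOf_one] at this
    omega
  have hc1 : (k : Equiv.Perm GolayPt) * (t : Equiv.Perm GolayPt) * (k : Equiv.Perm GolayPt)⁻¹ ≠ 1 := by
    intro h
    apply ht1
    have := congrArg (fun e => (k : Equiv.Perm GolayPt)⁻¹ * e * (k : Equiv.Perm GolayPt)) h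
    simpa [mul_assoc] using this
  refine ⟨cj (k : Equiv.Perm GolayPt) H, cj_le k.2 hH, ?_, card_cj _ _⟩
  have h1 := mem_zpowers_of_mem_zpowers 11 m2 _ orderOf_m2 hk' hc1
  have h2 : Subgroup.zpowers ((k : Equiv.Perm GolayPt) * (t : Equiv.Perm GolayPt) *
      (k : Equiv.Perm GolayPt)⁻¹) ≤ cj (k : Equiv.Perm GolayPt) H := by
    rw [Subgroup.zpowers_le]
    exact conj_mem_cj t.2
  exact h2 h1

/-- `M22` has no subgroup of order `7920` -/
theorem no7920 (H : Subgroup (Equiv.Perm GolayPt)) (hH : H ≤ G22) : Nat.card ↥H ≠ 7920 := by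
  intro hc
  obtain ⟨H', hH', hm, hc'⟩ := exists_conj_m2 H hH (by rw [hc]; norm_num)
  exact aux1 H' hH' hm (hc'.trans hc)

/-- `M22` has no subgroup of order `2112` -/
theorem no2112 (H : Subgroup (Equiv.Perm GolayPt)) (hH : H ≤ G22) : Nat.card ↥H ≠ 2112 := by
  intro hc
  obtain ⟨H', hH', hm, hc'⟩ := exists_conj_m2 H hH (by rw [hc]; norm_num)
  have e1 : Nat.card ↥(NN H') * (NN H').relIndex H' = Nat.card ↥H' :=
    card_mul_relIndex (inf_le_left : NN H' ≤ H')
  have e2 := mod11' H' (hH'.trans G22_le) hm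
  have e3 := card_NN_dvd H' (hH'.trans G22_le)
  rw [hc', hc] at e1
  rcases divisors110 _ e3 with h | h | h | h | h | h | h | h <;> rw [h] at e1 <;> omega

end Cfsg.Agent.Lib.Helper14.M22Idx
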