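import Cfsg.Agent.Lib.Helper14.HSOutC
import Cfsg.Agent.Lib.Helper14.HSRecD
import Cfsg.Agent.Lib.Helper14.M22IdxB

set_option autoImplicit false
set_option linter.unusedSectionVars false
set_option linter.unusedVariables false
set_option linter.style.haveILetI false

/-! Part D: the outer automorphism group of the Higman–Sims group of the Prelude. -/

namespace Cfsg.Agent.Lib.Helper14.HSRec

open Cfsg
open Cfsg.Agent.S0405 (G0 S100 x0 A100 B100 card_G0 phi phi_mul phi_bijective)
open MulAction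
open scoped Classical

/-- the point stabilizer of the standard copy is `M22` -/
noncomputable def stabEquivG22 :
    ↥(Cfsg.Agent.Lib.Helper3.Golay.G22 none (some 0)) ≃* ↥(stabilizer ↥G0 x0) :=
  MulEquiv.ofBijective (MonoidHom.mk' phi phi_mul) phi_bijective

theorem no7920_G0 (L : Subgroup ↥G0) (hL : L ≤ stabilizer ↥G0 x0) : Nat.card ↥L ≠ 7920 := by
  intro hc
  -- transport to the Golay side
  let L1 : Subgroup ↥(stabilizer ↥G0 x0) := L.subgroupOf (stabilizer ↥G0 x0)
  let L2 : Subgroup ↥(Cfsg.Agent.Lib.Helper3.Golay.G22 none (some 0)) :=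
    L1.map stabEquivG22.symm.toMonoidHom
  let L3 : Subgroup (Equiv.Perm GolayPt) :=
    L2.map (Cfsg.Agent.Lib.Helper3.Golay.G22 none (some 0)).subtype
  have h1 : Nat.card ↥L1 = 7920 := by
    rw [← hc]
    exact Nat.card_congr (Subgroup.subgroupOfEquivOfLe hL).toEquiv
  have h2 : Nat.card ↥L2 = 7920 := by
    rw [← h1]
    exact Subgroup.card_map_of_injective stabEquivG22.symm.injective
  have h3 : Nat.card ↥L3 = 7920 := by
    rw [← h2]
    exact Subgroup.card_map_of_injective (Subgroup.subtype_injective _)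
  have hle : L3 ≤ Cfsg.Agent.Lib.Helper14.M22Idx.G22 := by
    rintro _ ⟨x, _, rfl⟩
    exact x.2
  exact Cfsg.Agent.Lib.Helper14.M22Idx.no7920 L3 hle h3

theorem card_out_G0 : Nat.card (Cfsg.Out ↥G0) = 2 :=
  card_out_of_R3 R3_G0 card_G0 no7920_G0

theorem card_out_HS : Nat.card (Cfsg.Out ↥Spor.HS) = 2 := by
  obtain ⟨e⟩ := hs_iso_G0
  rw [Cfsg.Agent.Lib.Helper10.OutG.card_out_congr e]
  exact card_out_G0

end Cfsg.Agent.Lib.Helper14.HSRec
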