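import Mathlib

set_option autoImplicit false
set_option linter.unusedSectionVars false
set_option linter.unusedVariables false

/-! Rank 3 actions on 100 points with subdegrees 1, 22, 77: the orbital graph is strongly regular
with parameters (100, 22, 0, 6).  Part A: the relation, invariance, symmetry. -/

namespace Cfsg.Agent.Lib.Helper14.HSRec

open Finset
open scoped Classical

/-- rank-3 data with subdegrees 1, 22, 77 on 100 points -/
structure R3 (H : Type*) {V : Type*} [Group H] [MulAction H V] [Fintype V] (v₀ : V)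
    (A B : Set V) : Prop where
  cardV : Fintype.card V = 100
  trans : ∀ x y : V, ∃ h : H, h • x = y
  cover : ∀ y : V, y = v₀ ∨ y ∈ A ∨ y ∈ B
  notA : v₀ ∉ A
  notB : v₀ ∉ B
  cardA : A.ncard = 22
  cardB : B.ncard = 77
  invA : ∀ h : H, h • v₀ = v₀ → ∀ a ∈ A, h • a ∈ A
  transA : ∀ a ∈ A, ∀ a' ∈ A, ∃ h : H, h • v₀ = v₀ ∧ h • a = a'
  transB : ∀ b ∈ B, ∀ b' ∈ B, ∃ h : H, h • v₀ = v₀ ∧ h • b = b'

variable {H V : Type*} [Group H] [MulAction H V] [Fintype V]

variable (H) in
/-- the orbital relation -/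
def adj (v₀ : V) (A : Set V) (x y : V) : Prop := ∃ h : H, h • v₀ = x ∧ h⁻¹ • y ∈ A

variable {v₀ : V} {A B : Set V}

theorem adj_smul_of (g : H) {x y : V} (h : adj H v₀ A x y) : adj H v₀ A (g • x) (g • y) := by
  obtain ⟨k, hk, hy⟩ := h
  refine ⟨g * k, by rw [mul_smul, hk], ?_⟩
  rw [mul_inv_rev, mul_smul, inv_smul_smul]
  exact hy

theorem adj_smul (g : H) (x y : V) : adj H v₀ A (g • x) (g • y) ↔ adj H v₀ A x y := by
  constructor
  · intro h
    have := adj_smul_of g⁻¹ h
    rwa [inv_smul_smul, inv_smul_smul] at this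
  · exact adj_smul_of g

theorem adj_base (hR : R3 H v₀ A B) (y : V) : adj H v₀ A v₀ y ↔ y ∈ A := by
  constructor
  · rintro ⟨h, hh, hy⟩
    have := hR.invA h hh _ hy
    rwa [smul_inv_smul] at this
  · intro hy
    exact ⟨1, one_smul _ _, by rwa [inv_one, one_smul]⟩

theorem adj_irrefl (hR : R3 H v₀ A B) (x : V) : ¬ adj H v₀ A x x := by
  rintro ⟨h, hh, hx⟩
  rw [← hh, inv_smul_smul] at hx
  exact hR.notA hx

/-- finset versions of the two suborbits -/
noncomputable def FA (A : Set V) : Finset V := univ.filter (· ∈ A)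

theorem mem_FA {y : V} : y ∈ FA A ↔ y ∈ A := by simp [FA]

theorem card_FA (A : Set V) : (FA A).card = A.ncard := by
  rw [Set.ncard_eq_toFinset_card']
  congr 1
  ext y
  simp [FA]

theorem disjAB (hR : R3 H v₀ A B) : ∀ y, y ∈ A → y ∉ B := by
  have hu : (univ : Finset V) = insert v₀ (FA A ∪ FA B) := by
    ext y
    simp only [mem_univ, mem_insert, mem_union, mem_FA, true_iff]
    exact hR.cover y
  have h1 : (univ : Finset V).card = 100 := by rw [card_univ, hR.cardV]
  rw [hu] at h1
  have h2 := card_insert_le v₀ (FA A ∪ FA B)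
  have h3 := card_union_add_card_inter (FA A) (FA B)
  rw [card_FA, card_FA, hR.cardA, hR.cardB] at h3
  have h4 : (FA A ∩ FA B).card = 0 := by omega
  intro y hyA hyB
  have : y ∈ FA A ∩ FA B := by
    rw [mem_inter, mem_FA, mem_FA]; exact ⟨hyA, hyB⟩
  rw [card_eq_zero] at h4
  rw [h4] at this
  exact absurd this (notMem_empty y)

theorem invB (hR : R3 H v₀ A B) (h : H) (hh : h • v₀ = v₀) {b : V} (hb : b ∈ B) : h • b ∈ B := by
  have hinv : h⁻¹ • v₀ = v₀ := by
    rw [inv_smul_eq_iff, hh]
  rcases hR.cover (h • b) with h1 | h1 | h1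
  · exfalso
    have : b = v₀ := by
      have := congrArg (fun z => h⁻¹ • z) h1
      simpa [hinv] using this
    rw [this] at hb
    exact hR.notB hb
  · exfalso
    have := hR.invA h⁻¹ hinv _ h1
    rw [inv_smul_smul] at this
    exact disjAB hR b this hb
  · exact h1

/-- out-neighbours and in-neighbours -/
noncomputable def nbr (H : Type*) [Group H] [MulAction H V] (v₀ : V) (A : Set V) (x : V) :
    Finset V := univ.filter fun y => adj H v₀ A x y

noncomputable def inb (H : Type*) [Group H] [MulAction H V] (v₀ : V) (A : Set V) (y : V) :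
    Finset V := univ.filter fun x => adj H v₀ A x y

theorem mem_nbr {x y : V} : y ∈ nbr H v₀ A x ↔ adj H v₀ A x y := by simp [nbr]

theorem mem_inb {x y : V} : x ∈ inb H v₀ A y ↔ adj H v₀ A x y := by simp [inb]

theorem card_nbr_smul (g : H) (x : V) : (nbr H v₀ A (g • x)).card = (nbr H v₀ A x).card := by
  symm
  apply Finset.card_equiv (MulAction.toPerm g)
  intro y
  rw [mem_nbr, mem_nbr, MulAction.toPerm_apply, adj_smul]

theorem card_inb_smul (g : H) (y : V) : (inb H v₀ A (g • y)).card = (inb H v₀ A y).card := by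
  symm
  apply Finset.card_equiv (MulAction.toPerm g)
  intro x
  rw [mem_inb, mem_inb, MulAction.toPerm_apply, adj_smul]

theorem nbr_base (hR : R3 H v₀ A B) : nbr H v₀ A v₀ = FA A := by
  ext y
  rw [mem_nbr, mem_FA, adj_base hR]

theorem card_nbr (hR : R3 H v₀ A B) (x : V) : (nbr H v₀ A x).card = 22 := by
  obtain ⟨g, rfl⟩ := hR.trans v₀ x
  rw [card_nbr_smul, nbr_base hR, card_FA, hR.cardA]

theorem card_inb_eq (hR : R3 H v₀ A B) (y : V) :
    (inb H v₀ A y).card = (inb H v₀ A v₀).card := by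
  obtain ⟨g, rfl⟩ := hR.trans v₀ y
  rw [card_inb_smul]

theorem card_inb (hR : R3 H v₀ A B) : (inb H v₀ A v₀).card = 22 := by
  have h1 : ∑ x : V, (nbr H v₀ A x).card = ∑ y : V, (inb H v₀ A y).card := by
    simp only [nbr, inb, card_filter]
    exact Finset.sum_comm
  rw [Finset.sum_congr rfl (fun x _ => card_nbr hR x),
    Finset.sum_congr rfl (fun y _ => card_inb_eq hR y)] at h1
  simp only [sum_const, card_univ, hR.cardV, smul_eq_mul] at h1
  omega

theorem inb_base (hR : R3 H v₀ A B) : inb H v₀ A v₀ = FA A := by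
  have hsub : inb H v₀ A v₀ ⊆ FA A := by
    intro x hx
    rw [mem_inb] at hx
    rw [mem_FA]
    rcases hR.cover x with h1 | h1 | h1
    · rw [h1] at hx
      exact absurd hx (adj_irrefl hR v₀)
    · exact h1
    · exfalso
      -- then all of `B` lies in the in-neighbourhood
      have hB : FA B ⊆ inb H v₀ A v₀ := by
        intro b hb
        rw [mem_FA] at hb
        obtain ⟨h, hh, hxb⟩ := hR.transB x h1 b hb
        rw [mem_inb, ← hxb]
        have := adj_smul_of h hx
        rwa [hh] at this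
      have := card_le_card hB
      rw [card_FA, hR.cardB, card_inb hR] at this
      omega
  apply eq_of_subset_of_card_le hsub
  rw [card_FA, hR.cardA, card_inb hR]

theorem adj_base' (hR : R3 H v₀ A B) (x : V) : adj H v₀ A x v₀ ↔ x ∈ A := by
  rw [← mem_inb, inb_base hR, mem_FA]

theorem adj_symm (hR : R3 H v₀ A B) {x y : V} (h : adj H v₀ A x y) : adj H v₀ A y x := by
  obtain ⟨g, rfl⟩ := hR.trans v₀ y
  have h1 : adj H v₀ A (g⁻¹ • x) v₀ := by
    have := adj_smul_of g⁻¹ h
    rwa [inv_smul_smul] at this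
  have h2 : adj H v₀ A v₀ (g⁻¹ • x) := by
    rw [adj_base hR, ← adj_base' hR]; exact h1
  have := adj_smul_of g h2
  rwa [smul_inv_smul] at this

theorem adj_comm (hR : R3 H v₀ A B) (x y : V) : adj H v₀ A x y ↔ adj H v₀ A y x :=
  ⟨adj_symm hR, adj_symm hR⟩

/-- non-adjacent distinct from the base point means in `B` -/
theorem mem_B_iff (hR : R3 H v₀ A B) (y : V) : y ∈ B ↔ y ≠ v₀ ∧ ¬ adj H v₀ A v₀ y := by
  rw [adj_base hR]
  constructor
  · intro hy
    refine ⟨?_, fun h => disjAB hR y h hy⟩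
    rintro rfl
    exact hR.notB hy
  · rintro ⟨h1, h2⟩
    rcases hR.cover y with h | h | h
    · exact absurd h h1
    · exact absurd h h2
    · exact h

end Cfsg.Agent.Lib.Helper14.HSRec
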