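import Cfsg.Agent.Lib.Helper14.HSRecA

set_option autoImplicit false
set_option linter.unusedSectionVars false
set_option linter.unusedVariables false

/-! Part B: the parameters `λ`, `μ` of the orbital graph. -/

namespace Cfsg.Agent.Lib.Helper14.HSRec

open Finset
open scoped Classical

variable {H V : Type*} [Group H] [MulAction H V] [Fintype V]
variable {v₀ : V} {A B : Set V}

/-- common neighbours -/
noncomputable def cn (H : Type*) [Group H] [MulAction H V] (v₀ : V) (A : Set V) (x y : V) :
    Finset V := univ.filter fun z => adj H v₀ A x z ∧ adj H v₀ A y z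

theorem mem_cn {x y z : V} : z ∈ cn H v₀ A x y ↔ adj H v₀ A x z ∧ adj H v₀ A y z := by
  simp [cn]

theorem card_cn_smul (g : H) (x y : V) :
    (cn H v₀ A (g • x) (g • y)).card = (cn H v₀ A x y).card := by
  symm
  apply Finset.card_equiv (MulAction.toPerm g)
  intro z
  rw [mem_cn, mem_cn, MulAction.toPerm_apply, adj_smul, adj_smul]

theorem A_nonempty (hR : R3 H v₀ A B) : ∃ a, a ∈ A := by
  by_contra h
  push Not at h
  have : A = ∅ := Set.eq_empty_of_forall_notMem h
  have h2 := hR.cardA
  rw [this, Set.ncard_empty] at h2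
  omega

theorem B_nonempty (hR : R3 H v₀ A B) : ∃ b, b ∈ B := by
  by_contra h
  push Not at h
  have : B = ∅ := Set.eq_empty_of_forall_notMem h
  have h2 := hR.cardB
  rw [this, Set.ncard_empty] at h2
  omega

/-- the parameter `λ` -/
noncomputable def lam (hR : R3 H v₀ A B) : ℕ :=
  (cn H v₀ A v₀ (Classical.choose (A_nonempty hR))).card

/-- the parameter `μ` -/
noncomputable def mu (hR : R3 H v₀ A B) : ℕ :=
  (cn H v₀ A v₀ (Classical.choose (B_nonempty hR))).card

theorem card_cn_base_A (hR : R3 H v₀ A B) {a : V} (ha : a ∈ A) :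
    (cn H v₀ A v₀ a).card = lam hR := by
  obtain ⟨h, hh, hha⟩ := hR.transA _ (Classical.choose_spec (A_nonempty hR)) a ha
  unfold lam
  have := card_cn_smul (v₀ := v₀) (A := A) h v₀ (Classical.choose (A_nonempty hR))
  rw [hh, hha] at this
  exact this

theorem card_cn_base_B (hR : R3 H v₀ A B) {b : V} (hb : b ∈ B) :
    (cn H v₀ A v₀ b).card = mu hR := by
  obtain ⟨h, hh, hhb⟩ := hR.transB _ (Classical.choose_spec (B_nonempty hR)) b hb
  unfold mu
  have := card_cn_smul (v₀ := v₀) (A := A) h v₀ (Classical.choose (B_nonempty hR))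
  rw [hh, hhb] at this
  exact this

theorem card_cn_adj (hR : R3 H v₀ A B) {x y : V} (h : adj H v₀ A x y) :
    (cn H v₀ A x y).card = lam hR := by
  obtain ⟨g, rfl⟩ := hR.trans v₀ x
  have h1 : adj H v₀ A v₀ (g⁻¹ • y) := by
    have := adj_smul_of g⁻¹ h
    rwa [inv_smul_smul] at this
  rw [adj_base hR] at h1
  have := card_cn_smul (v₀ := v₀) (A := A) g v₀ (g⁻¹ • y)
  rw [smul_inv_smul] at this
  rw [this, card_cn_base_A hR h1]

theorem card_cn_not_adj (hR : R3 H v₀ A B) {x y : V} (hne : x ≠ y) (h : ¬ adj H v₀ A x y) :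
    (cn H v₀ A x y).card = mu hR := by
  obtain ⟨g, rfl⟩ := hR.trans v₀ x
  have h1 : g⁻¹ • y ∈ B := by
    rw [mem_B_iff hR]
    constructor
    · intro h2
      apply hne
      rw [← h2, smul_inv_smul]
    · intro h2
      apply h
      have := adj_smul_of g h2
      rwa [smul_inv_smul] at this
  have := card_cn_smul (v₀ := v₀) (A := A) g v₀ (g⁻¹ • y)
  rw [smul_inv_smul] at this
  rw [this, card_cn_base_B hR h1]

/-- the counting identity `22 · 21 = 22 λ + 77 μ` -/
theorem count_paths (hR : R3 H v₀ A B) : 22 * 21 = 22 * lam hR + 77 * mu hR := by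
  -- count pairs `(y, z)` with `y ∈ A`, `z ≠ v₀`, `y ~ z`
  have h1 : ∑ y ∈ FA A, ((univ.erase v₀).filter fun z => adj H v₀ A y z).card = 22 * 21 := by
    have : ∀ y ∈ FA A, ((univ.erase v₀).filter fun z => adj H v₀ A y z).card = 21 := by
      intro y hy
      rw [mem_FA] at hy
      have e : ((univ.erase v₀).filter fun z => adj H v₀ A y z) = (nbr H v₀ A y).erase v₀ := by
        ext z
        simp only [mem_filter, mem_erase, mem_univ, and_true, mem_nbr]
      rw [e, card_erase_of_mem, card_nbr hR]
      rw [mem_nbr, adj_base' hR]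
      exact hy
    rw [Finset.sum_congr rfl this, sum_const, card_FA, hR.cardA, smul_eq_mul]
  have h2 : ∑ y ∈ FA A, ((univ.erase v₀).filter fun z => adj H v₀ A y z).card
      = ∑ z ∈ univ.erase v₀, (cn H v₀ A v₀ z).card := by
    simp only [card_filter]
    rw [Finset.sum_comm]
    apply Finset.sum_congr rfl
    intro z _
    rw [← card_filter]
    congr 1
    ext y
    simp only [mem_filter, mem_FA, mem_univ, true_and, mem_cn, adj_base hR, adj_comm hR z y]
  have h3 : ∑ z ∈ univ.erase v₀, (cn H v₀ A v₀ z).card = 22 * lam hR + 77 * mu hR := by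
    have hsplit : univ.erase v₀ = FA A ∪ FA B := by
      ext z
      simp only [mem_erase, mem_univ, and_true, mem_union, mem_FA]
      constructor
      · intro hz
        rcases hR.cover z with h | h | h
        · exact absurd h hz
        · exact Or.inl h
        · exact Or.inr h
      · rintro (h | h) rfl
        · exact hR.notA h
        · exact hR.notB h
    have hdisj : Disjoint (FA A) (FA B) := by
      rw [Finset.disjoint_left]
      intro z hz hz'
      rw [mem_FA] at hz hz'
      exact disjAB hR z hz hz'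
    rw [hsplit, sum_union hdisj,
      Finset.sum_congr rfl (fun z hz => card_cn_base_A hR (mem_FA.mp hz)),
      Finset.sum_congr rfl (fun z hz => card_cn_base_B hR (mem_FA.mp hz)),
      sum_const, sum_const, card_FA, card_FA, hR.cardA, hR.cardB, smul_eq_mul, smul_eq_mul]
  rw [← h1, h2, h3]

/-! ### triangles -/

/-- ordered triangles -/
abbrev Tri (H : Type*) [Group H] [MulAction H V] (v₀ : V) (A : Set V) : Type _ :=
  {t : V × V × V // adj H v₀ A t.1 t.2.1 ∧ adj H v₀ A t.2.1 t.2.2 ∧ adj H v₀ A t.2.2 t.1}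

/-- rotation of a triangle -/
def rot (t : Tri H v₀ A) : Tri H v₀ A :=
  ⟨(t.1.2.1, t.1.2.2, t.1.1), t.2.2.1, t.2.2.2, t.2.1⟩

/-- rotation as a permutation -/
def rotP : Equiv.Perm (Tri H v₀ A) where
  toFun := rot
  invFun := fun t => rot (rot t)
  left_inv := fun t => rfl
  right_inv := fun t => rfl

theorem three_dvd_card_Tri (hR : R3 H v₀ A B) : 3 ∣ Fintype.card (Tri H v₀ A) := by
  haveI : Fact (Nat.Prime 3) := ⟨by norm_num⟩
  by_contra hnd
  have h3 : (rotP : Equiv.Perm (Tri H v₀ A)) ^ 3 ^ 1 = 1 := by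
    rw [pow_one, pow_succ, pow_succ, pow_one]
    refine Equiv.ext fun t => ?_
    rfl
  obtain ⟨t, ht⟩ := Equiv.Perm.exists_fixed_point_of_prime (p := 3) (n := 1) hnd h3
  have h1 : rot t = t := ht
  have h2 := congrArg (fun s : Tri H v₀ A => s.1.1) h1
  simp only [rot] at h2
  have := t.2.1
  rw [← h2] at this
  exact adj_irrefl hR _ this

theorem card_Tri (hR : R3 H v₀ A B) : Fintype.card (Tri H v₀ A) = 100 * (22 * lam hR) := by
  have h1 : Fintype.card (Tri H v₀ A)
      = (univ.filter fun t : V × V × V =>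
          adj H v₀ A t.1 t.2.1 ∧ adj H v₀ A t.2.1 t.2.2 ∧ adj H v₀ A t.2.2 t.1).card := by
    rw [Fintype.card_subtype]
  rw [h1, card_filter, Fintype.sum_prod_type]
  have h2 : ∀ x : V, (∑ yz : V × V,
      if adj H v₀ A (x, yz).1 (x, yz).2.1 ∧ adj H v₀ A (x, yz).2.1 (x, yz).2.2 ∧
        adj H v₀ A (x, yz).2.2 (x, yz).1 then 1 else 0) = 22 * lam hR := by
    intro x
    rw [Fintype.sum_prod_type]
    have h3 : ∀ y : V, (∑ z : V,
        if adj H v₀ A x y ∧ adj H v₀ A y z ∧ adj H v₀ A z x then 1 else 0)
        = if adj H v₀ A x y then lam hR else 0 := by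
      intro y
      by_cases hxy : adj H v₀ A x y
      · rw [if_pos hxy, ← card_cn_adj hR hxy, cn, card_filter]
        apply Finset.sum_congr rfl
        intro z _
        simp only [hxy, true_and, adj_comm hR z x, and_comm]
      · rw [if_neg hxy]
        apply Finset.sum_eq_zero
        intro z _
        simp [hxy]
    simp only [h3]
    rw [← Finset.sum_filter]
    have : (univ.filter fun y => adj H v₀ A x y) = nbr H v₀ A x := rfl
    rw [this, sum_const, card_nbr hR, smul_eq_mul]
  rw [Finset.sum_congr rfl (fun x _ => h2 x), sum_const, card_univ, hR.cardV, smul_eq_mul]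

theorem three_dvd_lam (hR : R3 H v₀ A B) : 3 ∣ lam hR := by
  have h := three_dvd_card_Tri hR
  rw [card_Tri hR] at h
  have h1 : (3 : ℕ).Coprime 2200 := by norm_num
  have h2 : 3 ∣ 2200 * lam hR := by
    have : 100 * (22 * lam hR) = 2200 * lam hR := by ring
    rwa [this] at h
  exact h1.dvd_of_dvd_mul_left h2

/-! ### excluding `λ = 21` -/

theorem lam_ne_21 (hR : R3 H v₀ A B) : lam hR ≠ 21 := by
  intro h21
  -- closed neighbourhoods
  let c : V → Finset V := fun x => insert x (nbr H v₀ A x)
  have hcard : ∀ x, (c x).card = 23 := by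
    intro x
    rw [card_insert_of_notMem, card_nbr hR]
    rw [mem_nbr]
    exact adj_irrefl hR x
  -- adjacent vertices have the same closed neighbourhood
  have hsub : ∀ x y, adj H v₀ A x y → c x ⊆ c y := by
    intro x y hxy
    have h1 : cn H v₀ A x y ⊆ (nbr H v₀ A x).erase y := by
      intro z hz
      rw [mem_cn] at hz
      rw [mem_erase, mem_nbr]
      refine ⟨?_, hz.1⟩
      rintro rfl
      exact adj_irrefl hR _ hz.2
    have h2 : ((nbr H v₀ A x).erase y).card = 21 := by
      rw [card_erase_of_mem (mem_nbr.mpr hxy), card_nbr hR]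
    have h3 : cn H v₀ A x y = (nbr H v₀ A x).erase y := by
      apply eq_of_subset_of_card_le h1
      rw [h2, card_cn_adj hR hxy, h21]
    intro z hz
    rw [mem_insert] at hz
    rw [mem_insert, mem_nbr]
    rcases hz with rfl | hz
    · exact Or.inr (adj_symm hR hxy)
    · by_cases hzy : z = y
      · exact Or.inl hzy
      · right
        have : z ∈ cn H v₀ A x y := by
          rw [h3, mem_erase]; exact ⟨hzy, hz⟩
        exact (mem_cn.mp this).2
  have heq : ∀ x y, y ∈ c x → c y = c x := by
    intro x y hy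
    rw [mem_insert] at hy
    rcases hy with rfl | hy
    · rfl
    · rw [mem_nbr] at hy
      exact Finset.Subset.antisymm (hsub y x (adj_symm hR hy)) (hsub x y hy)
  have hfib : ∀ s ∈ (univ : Finset V).image c, ((univ : Finset V).filter fun a => c a = s).card = 23 := by
    intro s hs
    obtain ⟨x, -, rfl⟩ := mem_image.mp hs
    have : ((univ : Finset V).filter fun a => c a = c x) = c x := by
      ext a
      simp only [mem_filter, mem_univ, true_and]
      constructor
      · intro h
        rw [← h]
        exact mem_insert_self a _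
      · intro h
        exact heq x a h
    rw [this, hcard]
  have h := Finset.card_eq_sum_card_image c (univ : Finset V)
  rw [Finset.sum_congr rfl hfib, sum_const, card_univ, hR.cardV, smul_eq_mul] at h
  omega

theorem lam_eq (hR : R3 H v₀ A B) : lam hR = 0 := by
  have h1 := count_paths hR
  have h2 := three_dvd_lam hR
  have h3 := lam_ne_21 hR
  obtain ⟨k, hk⟩ := h2
  omega

theorem mu_eq (hR : R3 H v₀ A B) : mu hR = 6 := by
  have h1 := count_paths hR
  have h2 := lam_eq hR
  omega

end Cfsg.Agent.Lib.Helper14.HSRec
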