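import Cfsg.Agent.Lib.Helper14.HSRecB
import Cfsg.Agent.Lib.Helper10.HSFinal

set_option autoImplicit false
set_option linter.unusedSectionVars false
set_option linter.unusedVariables false
set_option linter.style.haveILetI false

/-! Part C: the orbital graph as a strongly regular graph, and recognition of the group as the
unique subgroup of index 2 in the automorphism group of the graph. -/

namespace Cfsg.Agent.Lib.Helper14.HSRec

open Finset
open scoped Classical

section graph

variable {H V : Type*} [Group H] [MulAction H V] [Fintype V]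
variable {v₀ : V} {A B : Set V}

/-- the orbital graph -/
def Gr (hR : R3 H v₀ A B) : SimpleGraph V where
  Adj := adj H v₀ A
  symm := ⟨fun _ _ h => adj_symm hR h⟩
  loopless := ⟨fun x => adj_irrefl hR x⟩

theorem Gr_adj (hR : R3 H v₀ A B) (x y : V) : (Gr hR).Adj x y ↔ adj H v₀ A x y := Iff.rfl

theorem isSRG (hR : R3 H v₀ A B) : (Gr hR).IsSRGWith 100 22 0 6 where
  card := hR.cardV
  regular := by
    intro v
    rw [← SimpleGraph.card_neighborFinset_eq_degree]
    have : (Gr hR).neighborFinset v = nbr H v₀ A v := by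
      ext y
      rw [SimpleGraph.mem_neighborFinset, mem_nbr, Gr_adj]
    rw [this, card_nbr hR]
  of_adj := by
    intro v w h
    rw [← Set.toFinset_card]
    have : ((Gr hR).commonNeighbors v w).toFinset = cn H v₀ A v w := by
      ext z
      rw [Set.mem_toFinset, SimpleGraph.mem_commonNeighbors, mem_cn, Gr_adj, Gr_adj]
    rw [this, card_cn_adj hR h, lam_eq]
  of_not_adj := by
    intro v w hne h
    rw [← Set.toFinset_card]
    have : ((Gr hR).commonNeighbors v w).toFinset = cn H v₀ A v w := by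
      ext z
      rw [Set.mem_toFinset, SimpleGraph.mem_commonNeighbors, mem_cn, Gr_adj, Gr_adj]
    rw [this, card_cn_not_adj hR hne h, mu_eq]

/-- the group acts by automorphisms of the orbital graph -/
def toAut (hR : R3 H v₀ A B) : H →* (Gr hR ≃g Gr hR) where
  toFun g := { toEquiv := MulAction.toPerm g, map_rel_iff' := fun {x y} => adj_smul g x y }
  map_one' := by
    ext x
    show (1 : H) • x = x
    rw [one_smul]
  map_mul' g h := by
    ext x
    show (g * h) • x = g • h • x
    rw [mul_smul]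

theorem toAut_apply (hR : R3 H v₀ A B) (g : H) (x : V) : toAut hR g x = g • x := rfl

theorem toAut_injective [FaithfulSMul H V] (hR : R3 H v₀ A B) :
    Function.Injective (toAut hR) := by
  intro g h hgh
  apply FaithfulSMul.eq_of_smul_eq_smul (α := V)
  intro x
  have := DFunLike.congr_fun hgh x
  exact this

end graph

section aut

/-- conjugation of automorphism groups along a graph isomorphism -/
def autCongr {V W : Type*} {G : SimpleGraph V} {G' : SimpleGraph W} (e : G ≃g G') :
    (G ≃g G) ≃* (G' ≃g G') where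
  toFun f := e.symm.trans (f.trans e)
  invFun f := e.trans (f.trans e.symm)
  left_inv f := by
    ext x
    simp
  right_inv f := by
    ext x
    simp
  map_mul' f g := by
    ext x
    simp [RelIso.mul_apply]

/-- a simple subgroup of index two is the only subgroup of its order -/
theorem eq_of_card_eq_of_simple {G : Type*} [Group G] [Finite G] (S K : Subgroup G)
    [IsSimpleGroup S] (hS : Nat.card S * 2 = Nat.card G) (hK : Nat.card K = Nat.card S)
    (h2 : 2 < Nat.card S) : K = S := by
  have hKi : K.index = 2 := by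
    have := K.card_mul_index
    rw [hK, ← hS] at this
    have hpos : 0 < Nat.card S := by omega
    exact Nat.eq_of_mul_eq_mul_left hpos this
  haveI : K.Normal := Subgroup.normal_of_index_eq_two hKi
  have hdvd : K.relIndex S ∣ 2 := by
    rw [← hKi]
    exact Subgroup.relIndex_dvd_index_of_normal K S
  have hN : (K.subgroupOf S).Normal := inferInstance
  rcases hN.eq_bot_or_eq_top with h | h
  · exfalso
    have : K.relIndex S = Nat.card S := by
      unfold Subgroup.relIndex
      rw [h, Subgroup.index_bot]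
    rw [this] at hdvd
    have := Nat.le_of_dvd (by norm_num) hdvd
    omega
  · rw [Subgroup.subgroupOf_eq_top] at h
    exact (Subgroup.eq_of_le_of_card_ge h (le_of_eq hK)).symm

variable {V : Type*} [Fintype V] {Γ : SimpleGraph V}

instance finite_aut : Finite (Γ ≃g Γ) :=
  Finite.of_injective (fun g => g.toEquiv) (fun g g' h => RelIso.ext fun x => by
    have := congrArg (fun e : V ≃ V => e x) h
    exact this)

theorem card_aut (hΓ : Γ.IsSRGWith 100 22 0 6) : Nat.card (Γ ≃g Γ) = 88704000 := by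
  have hV : Nonempty V := by
    rw [← Fintype.card_pos_iff, hΓ.card]; norm_num
  obtain ⟨v₀⟩ := hV
  have e := Cfsg.Agent.Lib.Helper10.Srg100.isoPB hΓ v₀
  rw [Nat.card_congr (autCongr e).toEquiv]
  exact Cfsg.Agent.Lib.Helper10.HSMain.hs_graph_full_aut
    (Cfsg.Agent.Lib.Helper10.Srg100.card_points hΓ v₀)
    (Cfsg.Agent.Lib.Helper10.Srg100.isSteiner_Blk hΓ v₀)

theorem exists_simple (hΓ : Γ.IsSRGWith 100 22 0 6) :
    ∃ S : Subgroup (Γ ≃g Γ), IsSimpleGroup S ∧ Nat.card S = 44352000 := by
  have hV : Nonempty V := by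
    rw [← Fintype.card_pos_iff, hΓ.card]; norm_num
  obtain ⟨v₀⟩ := hV
  have e := Cfsg.Agent.Lib.Helper10.Srg100.isoPB hΓ v₀
  obtain ⟨S, hS1, hS2⟩ := Cfsg.Agent.Lib.Helper10.HSMain.hs_graph_aut_contains_hs
    (Cfsg.Agent.Lib.Helper10.Srg100.card_points hΓ v₀)
    (Cfsg.Agent.Lib.Helper10.Srg100.isSteiner_Blk hΓ v₀)
  let ψ := (autCongr e).symm
  refine ⟨S.map ψ.toMonoidHom, ?_, ?_⟩
  · exact (ψ.subgroupMap S).symm.isSimpleGroup
  · rw [← hS2]
    exact Nat.card_congr (ψ.subgroupMap S).symm.toEquiv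

/-- every subgroup of order `44352000` of the automorphism group is the simple one -/
theorem unique_sub (hΓ : Γ.IsSRGWith 100 22 0 6) (S K : Subgroup (Γ ≃g Γ)) [IsSimpleGroup S]
    (hS : Nat.card S = 44352000) (hK : Nat.card K = 44352000) : K = S := by
  apply eq_of_card_eq_of_simple S K
  · rw [hS, card_aut hΓ]
  · rw [hS, hK]
  · rw [hS]; norm_num

end aut

section main

variable {H₁ V₁ H₂ V₂ : Type*} [Group H₁] [MulAction H₁ V₁] [Fintype V₁] [FaithfulSMul H₁ V₁]
  [Group H₂] [MulAction H₂ V₂] [Fintype V₂] [FaithfulSMul H₂ V₂]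
  {v₁ : V₁} {A₁ B₁ : Set V₁} {v₂ : V₂} {A₂ B₂ : Set V₂}

/-- two faithful rank 3 groups of order `44352000` with subdegrees `1, 22, 77` are isomorphic -/
theorem iso_of_R3 (hR₁ : R3 H₁ v₁ A₁ B₁) (hR₂ : R3 H₂ v₂ A₂ B₂)
    (hc₁ : Nat.card H₁ = 44352000) (hc₂ : Nat.card H₂ = 44352000) : Nonempty (H₁ ≃* H₂) := by
  have hΓ₁ := isSRG hR₁
  have hΓ₂ := isSRG hR₂
  obtain ⟨e⟩ := Cfsg.Agent.Lib.Helper10.Srg100.srg_unique hΓ₁ hΓ₂
  obtain ⟨S₂, hS₂s, hS₂c⟩ := exists_simple hΓ₂
  -- the two images in `Aut Γ₂`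
  let f₁ : H₁ →* (Gr hR₂ ≃g Gr hR₂) := (autCongr e).toMonoidHom.comp (toAut hR₁)
  let f₂ : H₂ →* (Gr hR₂ ≃g Gr hR₂) := toAut hR₂
  have hf₁ : Function.Injective f₁ := (autCongr e).injective.comp (toAut_injective hR₁)
  have hf₂ : Function.Injective f₂ := toAut_injective hR₂
  have hc1 : Nat.card f₁.range = 44352000 := by
    rw [← hc₁]
    exact (Nat.card_congr (MonoidHom.ofInjective hf₁).toEquiv).symm
  have hc2 : Nat.card f₂.range = 44352000 := by
    rw [← hc₂]
    exact (Nat.card_congr (MonoidHom.ofInjective hf₂).toEquiv).symm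
  have h1 : f₁.range = S₂ := unique_sub hΓ₂ S₂ _ hS₂c hc1
  have h2 : f₂.range = S₂ := unique_sub hΓ₂ S₂ _ hS₂c hc2
  exact ⟨(MonoidHom.ofInjective hf₁).trans
    ((MulEquiv.subgroupCongr (h1.trans h2.symm)).trans (MonoidHom.ofInjective hf₂).symm)⟩

end main

end Cfsg.Agent.Lib.Helper14.HSRec
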