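import Mathlib

/-!
# Number theory for Thompson's theorem on Hall subgroups of symmetric groups (helper14)

* `exists_prime_le_dvd_choose`: for `2 ≤ m ≤ k`, `(k, m) ≠ (4, 3)`, the binomial coefficient
  `C(k + m, m)` has a prime factor `≤ k`.
* `wreath_factorial`: `(a * b)! = (b!)^a * a! * ∏_{j = 2}^{a} C(j * b - 1, b - 1)`.
-/

set_option autoImplicit false

namespace Cfsg.Agent.Lib.Helper14.HallNT

open Nat

/-- If every prime factor of `x` is `≤ k` and no prime `≤ k` divides `c`, then `x`, `c` are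
coprime. -/
theorem coprime_of_smooth {x c k : ℕ} (hx : ∀ s : ℕ, s.Prime → s ∣ x → s ≤ k)
    (hc : ∀ s : ℕ, s.Prime → s ≤ k → ¬ s ∣ c) : Nat.Coprime x c :=
  Nat.coprime_of_dvd fun s hs hsx hsc => hc s hs (hx s hs hsx) hsc

/-- A non-prime number `x ≥ 1` has all prime factors `≤ x / 2`. -/
theorem prime_factor_le_half {x s : ℕ} (hx : ¬ x.Prime) (hx0 : 0 < x) (hs : s.Prime) (hsx : s ∣ x) :
    2 * s ≤ x := by
  obtain ⟨t, rfl⟩ := hsx
  rcases t with _ | _ | t
  · simp at hx0
  · simp at hx; exact absurd hs hx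
  · nlinarith [hs.two_le]

theorem exists_prime_le_dvd_choose {k m : ℕ} (hm : 2 ≤ m) (hmk : m ≤ k)
    (h43 : ¬ (k = 4 ∧ m = 3)) :
    ∃ s : ℕ, s.Prime ∧ s ≤ k ∧ s ∣ (k + m).choose m := by
  by_contra hcon
  push Not at hcon
  have hc : ∀ s : ℕ, s.Prime → s ≤ k → ¬ s ∣ (k + m).choose m := hcon
  have hck : (k + m).choose k = (k + m).choose m := by
    rw [← Nat.choose_symm (Nat.le_add_left m k)]; simp
  -- Step 1: m < k
  have hlt : m < k := by
    rcases Nat.lt_or_ge m k with h | h
    · exact h
    · exfalso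
      have hkm : k = m := le_antisymm h hmk
      subst hkm
      have h2 : 2 ∣ (k + k).choose k := by
        have := Nat.two_dvd_centralBinom_of_one_le (n := k) (by omega)
        rwa [Nat.centralBinom, two_mul] at this
      exact hc 2 Nat.prime_two (by omega) h2
  -- Step 2: (m+1) ∣ k
  have h2 : (m + 1) ∣ k := by
    have hid := Nat.choose_succ_right_eq (k + m) m
    have hcop : Nat.Coprime (m + 1) ((k + m).choose m) :=
      coprime_of_smooth (fun s hs hsx => (Nat.le_of_dvd (by omega) hsx).trans (by omega)) hc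
    have : (m + 1) ∣ (k + m).choose m * (k + m - m) := ⟨_, by rw [← hid]; ring⟩
    rw [Nat.add_sub_cancel] at this
    exact hcop.dvd_of_dvd_mul_left this
  -- Step 3: k + 1 is prime
  have h3 : (k + 1).Prime := by
    by_contra hnp
    have hid := Nat.choose_succ_right_eq (k + m) k
    have hcop : Nat.Coprime (k + 1) ((k + m).choose m) :=
      coprime_of_smooth (fun s hs hsx => by
        have := prime_factor_le_half hnp (by omega) hs hsx; omega) hc
    have : (k + 1) ∣ (k + m).choose m * (k + m - k) := ⟨_, by rw [← hck, ← hid]; ring⟩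
    rw [Nat.add_sub_cancel_left] at this
    have := Nat.le_of_dvd (by omega) (hcop.dvd_of_dvd_mul_left this)
    omega
  -- Step 4: n = k + m is prime
  have h4 : (k + m).Prime := by
    by_contra hnp
    have hid := Nat.add_one_mul_choose_eq (k + m - 1) (m - 1)
    rw [show k + m - 1 + 1 = k + m by omega, show m - 1 + 1 = m by omega] at hid
    have hcop : Nat.Coprime (k + m) ((k + m).choose m) :=
      coprime_of_smooth (fun s hs hsx => by
        have := prime_factor_le_half hnp (by omega) hs hsx; omega) hc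
    have : (k + m) ∣ (k + m).choose m * m := ⟨_, hid.symm⟩
    have := Nat.le_of_dvd (by omega) (hcop.dvd_of_dvd_mul_left this)
    omega
  -- Step 5: (n - 1) ∣ m (m - 1)
  have hodd : (k + m) % 2 = 1 := by
    rcases h4.eq_two_or_odd with h | h
    · omega
    · exact h
  have h5 : (k + m - 1) ∣ m * (m - 1) := by
    have hnp : ¬ (k + m - 1).Prime := by
      intro hp
      rcases hp.eq_two_or_odd with h | h <;> omega
    have hid1 := Nat.add_one_mul_choose_eq (k + m - 1) (m - 1)
    rw [show k + m - 1 + 1 = k + m by omega, show m - 1 + 1 = m by omega] at hid1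
    have hid2 := Nat.add_one_mul_choose_eq (k + m - 2) (m - 2)
    rw [show k + m - 2 + 1 = k + m - 1 by omega, show m - 2 + 1 = m - 1 by omega] at hid2
    have hcop : Nat.Coprime (k + m - 1) ((k + m).choose m) :=
      coprime_of_smooth (fun s hs hsx => by
        have := prime_factor_le_half hnp (by omega) hs hsx; omega) hc
    have : (k + m - 1) ∣ (k + m).choose m * (m * (m - 1)) := by
      refine ⟨(k + m) * (k + m - 2).choose (m - 2), ?_⟩
      calc (k + m).choose m * (m * (m - 1)) = ((k + m).choose m * m) * (m - 1) := by ring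
        _ = ((k + m) * (k + m - 1).choose (m - 1)) * (m - 1) := by rw [hid1]
        _ = (k + m) * ((k + m - 1).choose (m - 1) * (m - 1)) := by ring
        _ = (k + m) * ((k + m - 1) * (k + m - 2).choose (m - 2)) := by rw [hid2]
        _ = _ := by ring
    exact hcop.dvd_of_dvd_mul_left this
  -- Step 6: k = m + 1
  have h6 : k = m + 1 := by
    obtain ⟨v, hv⟩ := h2
    obtain ⟨w, hw⟩ := h5
    have hv1 : 1 ≤ v := by
      rcases v with _ | v
      · simp at hv; omega
      · omega
    obtain ⟨m', rfl⟩ : ∃ m', m = m' + 2 := ⟨m - 2, by omega⟩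
    have hw' : (m' + 2) * (m' + 1) = (k + m' + 1) * w := by
      have e1 : m' + 2 - 1 = m' + 1 := by omega
      have e2 : k + (m' + 2) - 1 = k + m' + 1 := by omega
      rw [e1, e2] at hw; exact hw
    have hw1 : 1 ≤ w := by
      rcases w with _ | w
      · simp at hw'
      · omega
    -- (m+1) ∣ 2 w + 2, in the form  (m'+3) * t = 2 w + 2
    have hdiv : (m' + 3) ∣ 2 * w + 2 := by
      have : ((m' : ℤ) + 3) ∣ 2 * (w : ℤ) + 2 := by
        refine ⟨(v : ℤ) * w + w - m', ?_⟩
        have hk : (k : ℤ) = (m' + 2 + 1) * v := by exact_mod_cast hv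
        have hwz : ((m' : ℤ) + 2) * (m' + 1) = (k + m' + 1) * w := by exact_mod_cast hw'
        rw [hk] at hwz
        linear_combination hwz
      exact_mod_cast this
    have hle : 2 * (m' + 2) * w ≤ (m' + 2) * (m' + 1) := by
      rw [hw']
      have : 2 * (m' + 2) ≤ k + m' + 1 := by
        have : m' + 2 + 1 ≤ k := by rw [hv]; nlinarith
        omega
      nlinarith
    have hle2 : 2 * w ≤ m' + 1 := by nlinarith
    have hge := Nat.le_of_dvd (by omega) hdiv
    have hweq : 2 * w = m' + 1 := by omega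
    have : (k + m' + 1) * w = 2 * (m' + 2) * w := by
      rw [← hw']; nlinarith
    have := Nat.eq_of_mul_eq_mul_right (by omega) this
    omega
  -- Step 7: (m + 3) ∣ m (m - 1)
  subst h6
  have h7 : (m + 3) ∣ m * (m - 1) := by
    have hnp : ¬ (m + 3).Prime := by
      intro hp
      rcases hp.eq_two_or_odd with h | h
      · omega
      · have : (m + 1 + 1) % 2 = 1 := by
          rcases h3.eq_two_or_odd with h' | h' <;> omega
        omega
    have hid1 := Nat.choose_succ_right_eq (m + 1 + m) (m + 1)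
    have hid2 := Nat.choose_succ_right_eq (m + 1 + m) (m + 1 + 1)
    have hcop : Nat.Coprime (m + 3) ((m + 1 + m).choose m) :=
      coprime_of_smooth (fun s hs hsx => by
        have := prime_factor_le_half hnp (by omega) hs hsx; omega) hc
    have e1 : m + 1 + m - (m + 1) = m := by omega
    have e2 : m + 1 + m - (m + 1 + 1) = m - 1 := by omega
    rw [e1, hck] at hid1
    rw [e2] at hid2
    have : (m + 3) ∣ (m + 1 + m).choose m * (m * (m - 1)) := by
      refine ⟨(m + 1 + m).choose (m + 1 + 1 + 1) * (m + 1 + 1), ?_⟩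
      calc (m + 1 + m).choose m * (m * (m - 1))
          = ((m + 1 + m).choose m * m) * (m - 1) := by ring
        _ = ((m + 1 + m).choose (m + 1 + 1) * (m + 1 + 1)) * (m - 1) := by rw [hid1]
        _ = ((m + 1 + m).choose (m + 1 + 1) * (m - 1)) * (m + 1 + 1) := by ring
        _ = ((m + 1 + m).choose (m + 1 + 1 + 1) * (m + 1 + 1 + 1)) * (m + 1 + 1) := by rw [hid2]
        _ = _ := by ring
    exact hcop.dvd_of_dvd_mul_left this
  have h8 : (m + 3) ∣ 12 := by
    obtain ⟨m', rfl⟩ : ∃ m', m = m' + 1 := ⟨m - 1, by omega⟩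
    have e : m' + 1 - 1 = m' := by omega
    rw [e] at h7
    have h9 : (m' + 1 + 3) ∣ (m' + 1) * m' + 4 * (m' + 1 + 3) := Dvd.dvd.add h7 (Dvd.intro_left _ rfl)
    have h10 : (m' + 1) * m' + 4 * (m' + 1 + 3) = (m' + 1) * (m' + 1 + 3) + 12 := by ring
    rw [h10] at h9
    exact (Nat.dvd_add_right (Dvd.intro_left _ rfl)).mp h9
  have hle := Nat.le_of_dvd (by norm_num) h8
  have hm9 : m = 3 ∨ m = 9 := by
    have hm12 : m ≤ 9 := by omega
    interval_cases m <;> first | omega | (exfalso; revert h8; decide)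
  rcases hm9 with rfl | rfl
  · exact h43 ⟨rfl, rfl⟩
  · exact hc 2 Nat.prime_two (by norm_num) (by decide)

/-- `C((a+1) b, b) = (a+1) * C((a+1) b - 1, b - 1)`. -/
theorem choose_mul_block (a b : ℕ) (hb : 1 ≤ b) :
    ((a + 1) * b).choose b = (a + 1) * ((a + 1) * b - 1).choose (b - 1) := by
  have h := Nat.add_one_mul_choose_eq ((a + 1) * b - 1) (b - 1)
  have e1 : (a + 1) * b - 1 + 1 = (a + 1) * b := by
    have : 1 ≤ (a + 1) * b := by nlinarith
    omega
  have e2 : b - 1 + 1 = b := by omega
  rw [e1, e2] at h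
  have : b * ((a + 1) * ((a + 1) * b - 1).choose (b - 1)) = b * ((a + 1) * b).choose b := by
    rw [mul_comm b (((a + 1) * b).choose b), ← h]; ring
  exact (Nat.eq_of_mul_eq_mul_left (by omega) this).symm

theorem wreath_factorial (a b : ℕ) (hb : 1 ≤ b) :
    (a * b)! = (b !) ^ a * a ! * ∏ j ∈ Finset.Ico 2 (a + 1), (j * b - 1).choose (b - 1) := by
  induction a with
  | zero => simp
  | succ a ih =>
    rcases Nat.eq_zero_or_pos a with rfl | ha
    · simp
    · rw [Finset.prod_Ico_succ_top (by omega)]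
      have h1 : ((a + 1) * b)! = ((a + 1) * b).choose b * (a * b)! * b ! := by
        have := Nat.add_choose_mul_factorial_mul_factorial (a * b) b
        rw [show a * b + b = (a + 1) * b by ring] at this
        exact this.symm
      rw [h1, choose_mul_block a b hb, ih, Nat.factorial_succ, pow_succ]
      ring

theorem wreath_dvd2 (a b : ℕ) (hb : 1 ≤ b) (ha : 2 ≤ a) :
    (b !) ^ a * a ! * (2 * b - 1).choose (b - 1) ∣ (a * b)! := by
  rw [wreath_factorial a b hb]
  apply Nat.mul_dvd_mul_left
  have : ({2} : Finset ℕ) ⊆ Finset.Ico 2 (a + 1) := by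
    intro x hx; simp at hx; subst hx; simp; omega
  have h := Finset.prod_dvd_prod_of_subset _ _ (fun j => (j * b - 1).choose (b - 1)) this
  simpa using h

theorem wreath_dvd3 (a b : ℕ) (hb : 1 ≤ b) (ha : 3 ≤ a) :
    (b !) ^ a * a ! * ((2 * b - 1).choose (b - 1) * (3 * b - 1).choose (b - 1)) ∣ (a * b)! := by
  rw [wreath_factorial a b hb]
  apply Nat.mul_dvd_mul_left
  have : ({2, 3} : Finset ℕ) ⊆ Finset.Ico 2 (a + 1) := by
    intro x hx; simp at hx; rcases hx with rfl | rfl <;> simp <;> omega
  have h := Finset.prod_dvd_prod_of_subset _ _ (fun j => (j * b - 1).choose (b - 1)) this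
  simpa using h

/-- If the full `s`-part of `N` divides `X` and `X * C ∣ N`, then `s ∤ C`. -/
theorem not_dvd_of_ordProj_dvd {s N X C : ℕ} (hs : s.Prime) (hN : N ≠ 0)
    (h1 : s ^ N.factorization s ∣ X) (h2 : X * C ∣ N) : ¬ s ∣ C := by
  intro hsC
  have : s ^ (N.factorization s + 1) ∣ N := by
    rw [pow_succ]
    exact (Nat.mul_dvd_mul h1 hsC).trans h2
  exact Nat.pow_succ_factorization_not_dvd hN hs this

/-- If the full `s`-part of `N` divides `X * Y` where `X' * Y ∣ N` and `X ∣ X'`, then the full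
`s`-part of `X'` divides `X`. -/
theorem ordProj_dvd_of_mul {s N X X' Y : ℕ} (hs : s.Prime) (hN : N ≠ 0)
    (h1 : s ^ N.factorization s ∣ X * Y) (h2 : X' * Y ∣ N) (hX : X ≠ 0) :
    s ^ X'.factorization s ∣ X := by
  have hX' : X' ≠ 0 := by rintro rfl; simp at h2; exact hN h2
  have hY : Y ≠ 0 := by rintro rfl; simp at h2; exact hN h2
  rw [hs.pow_dvd_iff_le_factorization hX]
  have ha : N.factorization s ≤ (X * Y).factorization s :=
    (hs.pow_dvd_iff_le_factorization (mul_ne_zero hX hY)).mp h1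
  have hb : (X' * Y).factorization s ≤ N.factorization s :=
    (Nat.factorization_le_iff_dvd (mul_ne_zero hX' hY) hN).mpr h2 s
  rw [Nat.factorization_mul hX hY] at ha
  rw [Nat.factorization_mul hX' hY] at hb
  simp only [Finsupp.coe_add, Pi.add_apply] at ha hb
  omega

/-- If the full `s`-part of `(a b)!` divides `(b!)^a a!` (`b ≥ 2`, `s ≤ a b`), then `s ≤ b`. -/
theorem prime_le_block {s a b : ℕ} (hs : s.Prime) (hb : 2 ≤ b) (hsn : s ≤ a * b)
    (h : s ^ ((a * b)!).factorization s ∣ (b !) ^ a * a !) : s ≤ b := by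
  by_contra hlt
  push Not at hlt
  have hsb : ¬ s ∣ b ! := fun hd => by
    have := (hs.dvd_factorial).mp hd; omega
  have hcop : Nat.Coprime (s ^ ((a * b)!).factorization s) ((b !) ^ a) :=
    Nat.Coprime.pow _ _ ((Nat.Prime.coprime_iff_not_dvd hs).mpr hsb)
  have h1 : s ^ ((a * b)!).factorization s ∣ a ! := hcop.dvd_of_dvd_mul_left h
  have hv : 1 ≤ ((a * b)!).factorization s :=
    (hs.pow_dvd_iff_le_factorization (Nat.factorial_ne_zero _)).mp
      (by rw [pow_one]; exact (hs.dvd_factorial).mpr hsn)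
  have hsa : s ∣ a ! := (dvd_pow_self s (by omega)).trans h1
  have hsa' : s ≤ a := (hs.dvd_factorial).mp hsa
  have hle : a ≤ a * b := Nat.le_mul_of_pos_right a (by omega)
  have h2 : a ! * (a * b - a)! ∣ (a * b)! := Nat.factorial_mul_factorial_dvd_factorial hle
  have h3 : s ∣ (a * b - a)! := by
    rw [hs.dvd_factorial]
    have : a * 2 ≤ a * b := Nat.mul_le_mul_left a hb
    omega
  have h4 : s ^ (((a * b)!).factorization s + 1) ∣ (a * b)! := by
    rw [pow_succ]
    exact (Nat.mul_dvd_mul h1 h3).trans h2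
  exact Nat.pow_succ_factorization_not_dvd (Nat.factorial_ne_zero _) hs h4

end Cfsg.Agent.Lib.Helper14.HallNT
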