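import Mathlib
import Cfsg.Prelude.Def_HallClasses
import Cfsg.Agent.Lib.Helper14.HallNT

/-!
# Hall subgroups of symmetric and alternating groups: basic machinery (helper14)

`Good π H` : `H ≤ Perm α` is a `π`-group which is a Hall `π`-subgroup of `Perm α`, or is contained
in `alternatingGroup α` and is a Hall `π`-subgroup of it (valuation form).
-/

set_option autoImplicit false

namespace Cfsg.Agent.Lib.Helper14.Hall

open Equiv Equiv.Perm Nat
open Cfsg.Agent.Lib.Helper14.HallNT

/-- `π`-group. -/
def PiGrp {G : Type*} [Group G] (π : Set ℕ) (H : Subgroup G) : Prop :=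
  ∀ p : ℕ, p.Prime → p ∣ Nat.card H → p ∈ π

section general

variable {G : Type*} [Group G] [Finite G]

theorem PiGrp.of_card_dvd {G' : Type*} [Group G'] {π : Set ℕ} {H : Subgroup G} {K : Subgroup G'}
    (hH : PiGrp π H) (h : Nat.card K ∣ Nat.card H) : PiGrp π K :=
  fun p hp hpK => hH p hp (hpK.trans h)

/-- A subgroup whose order is divisible by the full `s`-part of `|G|` contains a conjugate of
every `s`-subgroup. -/
theorem exists_conj_mem_of_pow_dvd {s : ℕ} [hs : Fact s.Prime] {H : Subgroup G}
    (h : s ^ (Nat.card G).factorization s ∣ Nat.card H) (Q : Subgroup G) (hQ : IsPGroup s Q) :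
    ∃ g : G, ∀ x ∈ Q, g * x * g⁻¹ ∈ H := by
  classical
  -- a Sylow subgroup of `H`, mapped to `G`, is Sylow in `G`
  obtain ⟨S⟩ : Nonempty (Sylow s H) := inferInstance
  have hScard : Nat.card S = s ^ (Nat.card H).factorization s := Sylow.card_eq_multiplicity S
  have hle : (Nat.card G).factorization s ≤ (Nat.card H).factorization s :=
    (hs.out.pow_dvd_iff_le_factorization Nat.card_pos.ne').mp h
  have hge : (Nat.card H).factorization s ≤ (Nat.card G).factorization s :=
    (Nat.factorization_le_iff_dvd Nat.card_pos.ne' Nat.card_pos.ne').mpr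
      (Subgroup.card_subgroup_dvd_card H) s
  have heq : (Nat.card H).factorization s = (Nat.card G).factorization s := le_antisymm hge hle
  let S' : Subgroup G := (S : Subgroup H).map H.subtype
  have hS'card : Nat.card S' = s ^ (Nat.card G).factorization s := by
    rw [← heq, ← hScard]
    exact Nat.card_congr ((S : Subgroup H).equivMapOfInjective H.subtype H.subtype_injective).symm.toEquiv
  let P : Sylow s G := Sylow.ofCard S' hS'card
  obtain ⟨P', hP'⟩ := hQ.exists_le_sylow
  obtain ⟨g, hg⟩ := MulAction.exists_smul_eq G P' P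
  refine ⟨g, fun x hx => ?_⟩
  have hx' : x ∈ (P' : Subgroup G) := hP' hx
  have : g * x * g⁻¹ ∈ ((g • P' : Sylow s G) : Subgroup G) := by
    rw [Sylow.coe_subgroup_smul]
    have := Subgroup.smul_mem_pointwise_smul x (MulAut.conj g) (P' : Subgroup G) hx'
    simpa [MulAut.smul_def, MulAut.conj_apply] using this
  rw [hg] at this
  have h3 : g * x * g⁻¹ ∈ S' := this
  obtain ⟨y, _, hy⟩ := h3
  rw [← hy]
  exact y.2

end general

variable {α : Type*} [Fintype α] [DecidableEq α]

/-- `H` is a Hall `π`-subgroup of `Perm α`, or lies in `alternatingGroup α` and is a Hall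
`π`-subgroup of it. -/
def Good (π : Set ℕ) (H : Subgroup (Perm α)) : Prop :=
  PiGrp π H ∧ ∀ s : ℕ, s.Prime → s ∈ π →
    s ^ (Fintype.card α)!.factorization s ∣ Nat.card H ∨
    (H ≤ alternatingGroup α ∧ s ^ (Fintype.card α)!.factorization s ∣ 2 * Nat.card H)

theorem good_of_isPiHall {π : Set ℕ} {H : Subgroup (Perm α)} (h : Cfsg.IsPiHall π H) :
    Good π H := by
  refine ⟨h.1, fun s hs hsπ => Or.inl ?_⟩
  have hidx := h.2 s hs hsπ
  have hmul : Nat.card H * H.index = (Fintype.card α)! := by
    rw [Subgroup.card_mul_index, Nat.card_perm, Nat.card_eq_fintype_card]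
  have hidx0 : H.index ≠ 0 := Subgroup.index_ne_zero_of_finite
  rw [hs.pow_dvd_iff_le_factorization Nat.card_pos.ne', ← hmul,
    Nat.factorization_mul Nat.card_pos.ne' hidx0]
  simp [Nat.factorization_eq_zero_of_not_dvd hidx]

/-- A subgroup not contained in the alternating group meets it in a subgroup of index 2. -/
theorem card_inf_alt {Y : Subgroup (Perm α)} (hY : ¬ Y ≤ alternatingGroup α) :
    2 * Nat.card (Y ⊓ alternatingGroup α : Subgroup (Perm α)) = Nat.card Y := by
  have hnt : Nontrivial α := by
    by_contra hnt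
    rw [not_nontrivial_iff_subsingleton] at hnt
    apply hY
    intro g _
    have : g = 1 := Subsingleton.elim _ _
    rw [this]; exact Subgroup.one_mem _
  have h1 : (alternatingGroup α).relIndex Y ∣ 2 := by
    have := Subgroup.relIndex_dvd_index_of_normal (alternatingGroup α) Y
    rwa [alternatingGroup.index_eq_two] at this
  have h2 : (alternatingGroup α).relIndex Y ≠ 1 := by
    rw [Ne, Subgroup.relIndex_eq_one]; exact hY
  have h3 : (alternatingGroup α).relIndex Y = 2 := by
    rcases (Nat.dvd_prime Nat.prime_two).mp h1 with h | h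
    · exact absurd h h2
    · exact h
  have h4 := Subgroup.card_mul_index ((alternatingGroup α).subgroupOf Y)
  rw [← Subgroup.relIndex, h3] at h4
  have h5 : Nat.card ((alternatingGroup α).subgroupOf Y) =
      Nat.card (Y ⊓ alternatingGroup α : Subgroup (Perm α)) := by
    rw [inf_comm, ← Subgroup.inf_subgroupOf_right]
    exact Nat.card_congr (Subgroup.subgroupOfEquivOfLe inf_le_right).toEquiv
  rw [← h5, ← h4]; ring

theorem Good.piGrp {π : Set ℕ} {H : Subgroup (Perm α)} (h : Good π H) : PiGrp π H := h.1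

/-- For odd `s ∈ π`, a good subgroup has order divisible by the full `s`-part of `n!`. -/
theorem Good.pow_dvd_of_ne_two {π : Set ℕ} {H : Subgroup (Perm α)} (h : Good π H) {s : ℕ}
    (hs : s.Prime) (hsπ : s ∈ π) (hs2 : s ≠ 2) :
    s ^ (Fintype.card α)!.factorization s ∣ Nat.card H := by
  rcases h.2 s hs hsπ with h1 | ⟨_, h1⟩
  · exact h1
  · have : Nat.Coprime (s ^ (Fintype.card α)!.factorization s) 2 := by
      apply Nat.Coprime.pow_left
      rw [Nat.coprime_primes hs Nat.prime_two]; exact hs2
    exact this.dvd_of_dvd_mul_left h1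

/-- **Numerics**: a good subgroup contained in `Y ⊄ Alt` forces the full `s`-part of `n!` to
divide `|Y|`. -/
theorem Good.pow_dvd_card_of_le {π : Set ℕ} {H Y : Subgroup (Perm α)} (h : Good π H)
    (hHY : H ≤ Y) (hY : ¬ Y ≤ alternatingGroup α) {s : ℕ} (hs : s.Prime) (hsπ : s ∈ π) :
    s ^ (Fintype.card α)!.factorization s ∣ Nat.card Y := by
  rcases h.2 s hs hsπ with h1 | ⟨h0, h1⟩
  · exact h1.trans (Subgroup.card_dvd_of_le hHY)
  · rw [← card_inf_alt hY]
    exact h1.trans (Nat.mul_dvd_mul_left 2 (Subgroup.card_dvd_of_le (le_inf hHY h0)))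

theorem good_of_alt {π : Set ℕ} {M : Subgroup (alternatingGroup α)} (h : Cfsg.IsPiHall π M) :
    Good π (M.map (alternatingGroup α).subtype) := by
  have hcard : Nat.card (M.map (alternatingGroup α).subtype) = Nat.card M :=
    Nat.card_congr (M.equivMapOfInjective _ (alternatingGroup α).subtype_injective).symm.toEquiv
  refine ⟨fun p hp hpd => h.1 p hp (by rwa [hcard] at hpd), fun s hs hsπ => ?_⟩
  rw [hcard]
  have hidx := h.2 s hs hsπ
  have hidx0 : M.index ≠ 0 := Subgroup.index_ne_zero_of_finite
  have hmul : Nat.card M * M.index = Nat.card (alternatingGroup α) := Subgroup.card_mul_index M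
  rcases subsingleton_or_nontrivial α with hα | hα
  · left
    have : Fintype.card α ≤ 1 := Fintype.card_le_one_iff_subsingleton.mpr hα
    have h1 : (Fintype.card α)! = 1 := by
      interval_cases (Fintype.card α) <;> rfl
    rw [h1]; simp
  · right
    refine ⟨?_, ?_⟩
    · rintro _ ⟨x, _, rfl⟩; exact x.2
    · have h2 : 2 * Nat.card (alternatingGroup α) = (Fintype.card α)! := by
        rw [Nat.card_eq_fintype_card, two_mul_card_alternatingGroup, Fintype.card_perm]
      have hM0 : Nat.card M ≠ 0 := Nat.card_pos.ne'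
      rw [hs.pow_dvd_iff_le_factorization (mul_ne_zero two_ne_zero hM0), ← h2, ← hmul, ← mul_assoc,
        Nat.factorization_mul (mul_ne_zero two_ne_zero hM0) hidx0]
      simp [Nat.factorization_eq_zero_of_not_dvd hidx]

/-- Existence of a cycle of given length. -/
theorem exists_isCycle_card (k : ℕ) (hk : 2 ≤ k) (hkn : k ≤ Fintype.card α) :
    ∃ c : Perm α, c.IsCycle ∧ c.support.card = k := by
  obtain ⟨t, ht⟩ := Finset.exists_subset_card_eq (s := (Finset.univ : Finset α)) (n := k)
    (by simpa using hkn)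
  have hnd : t.toList.Nodup := Finset.nodup_toList t
  have hlen : t.toList.length = k := by rw [Finset.length_toList]; exact ht.2
  refine ⟨t.toList.formPerm, List.isCycle_formPerm hnd (by omega), ?_⟩
  rw [List.support_formPerm_of_nodup _ hnd, Finset.toList_toFinset]
  · exact ht.2
  · intro x hx
    rw [hx] at hlen; simp at hlen; omega

/-- A good subgroup contains an `s`-cycle for every `s ∈ π`, `s ≤ n`, `s` odd or `H` of
symmetric type at `s`. -/
theorem exists_cycle_mem_of_pow_dvd {H : Subgroup (Perm α)} {s : ℕ} (hs : s.Prime)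
    (hsn : s ≤ Fintype.card α) (h : s ^ (Fintype.card α)!.factorization s ∣ Nat.card H) :
    ∃ c ∈ H, c.IsCycle ∧ c.support.card = s := by
  haveI : Fact s.Prime := ⟨hs⟩
  obtain ⟨c, hc, hcs⟩ := exists_isCycle_card (α := α) s hs.two_le hsn
  have hQ : IsPGroup s (Subgroup.zpowers c) := by
    apply IsPGroup.of_card (n := 1)
    rw [Nat.card_zpowers, hc.orderOf, hcs, pow_one]
  have h' : s ^ (Nat.card (Perm α)).factorization s ∣ Nat.card H := by
    rwa [Nat.card_perm, Nat.card_eq_fintype_card]
  obtain ⟨g, hg⟩ := exists_conj_mem_of_pow_dvd h' _ hQ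
  refine ⟨g * c * g⁻¹, hg c (Subgroup.mem_zpowers c), hc.conj, ?_⟩
  rw [Equiv.Perm.card_support_conj, hcs]

end Cfsg.Agent.Lib.Helper14.Hall
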