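import Mathlib
import Cfsg.Agent.Lib.Helper14.HallCore

/-!
# Hall subgroups of symmetric groups: restriction to invariant subsets (helper14)
-/

set_option autoImplicit false

namespace Cfsg.Agent.Lib.Helper14.Hall

open Equiv Equiv.Perm Nat
open Cfsg.Agent.Lib.Helper14.HallNT

variable {α : Type*} [Fintype α] [DecidableEq α]

/-- Permutations preserving the fibres of `f`. -/
def fixf {ι : Type*} (f : α → ι) : Subgroup (Perm α) where
  carrier := {g | ∀ x, f (g x) = f x}
  mul_mem' := fun {a b} ha hb x => by rw [Perm.mul_apply, ha, hb]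
  one_mem' := fun _ => rfl
  inv_mem' := fun {a} ha x => by
    have := ha (a⁻¹ x)
    rw [show a (a⁻¹ x) = x from Equiv.apply_symm_apply a x] at this
    exact this.symm

theorem mem_fixf {ι : Type*} (f : α → ι) (g : Perm α) : g ∈ fixf f ↔ ∀ x, f (g x) = f x := Iff.rfl

theorem card_fixf {ι : Type*} [Fintype ι] [DecidableEq ι] (f : α → ι) :
    Nat.card (fixf f) = ∏ i, (Fintype.card {a // f a = i})! := by
  rw [← DomMulAct.stabilizer_card f, ← Nat.card_eq_fintype_card]
  apply Nat.card_congr
  exact Equiv.subtypeEquivRight fun g => ⟨fun h => funext h, fun h x => congrFun h x⟩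

theorem fixf_not_le_alt {ι : Type*} (f : α → ι) {x y : α} (hxy : x ≠ y) (hf : f x = f y) :
    ¬ fixf f ≤ alternatingGroup α := by
  intro h
  have hmem : swap x y ∈ fixf f := by
    intro z
    by_cases hzx : z = x
    · subst hzx; rw [swap_apply_left]; exact hf.symm
    · by_cases hzy : z = y
      · subst hzy; rw [swap_apply_right]; exact hf
      · rw [swap_apply_of_ne_of_ne hzx hzy]
  have := h hmem
  rw [Equiv.Perm.mem_alternatingGroup, Equiv.Perm.sign_swap hxy] at this
  exact absurd this (by decide)

/-- `p` is invariant under `H`. -/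
def Inv (H : Subgroup (Perm α)) (p : α → Prop) : Prop := ∀ g ∈ H, ∀ x, p (g x) ↔ p x

theorem Inv.not {H : Subgroup (Perm α)} {p : α → Prop} (h : Inv H p) : Inv H (fun x => ¬ p x) :=
  fun g hg x => not_congr (h g hg x)

theorem Inv.mono {H K : Subgroup (Perm α)} {p : α → Prop} (h : Inv H p) (hK : K ≤ H) : Inv K p :=
  fun g hg x => h g (hK hg) x

/-- Restriction homomorphism to an invariant subset. -/
def res (H : Subgroup (Perm α)) (p : α → Prop) (hp : Inv H p) : H →* Perm {x // p x} where
  toFun g := (g : Perm α).subtypePerm (hp g g.2)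
  map_one' := by ext x; rfl
  map_mul' := fun a b => by ext x; rfl

@[simp] theorem res_apply (H : Subgroup (Perm α)) (p : α → Prop) (hp : Inv H p) (g : H)
    (x : {x // p x}) : ((res H p hp g x : {x // p x}) : α) = (g : Perm α) x := rfl

theorem card_range_res_dvd (H : Subgroup (Perm α)) (p : α → Prop) [DecidablePred p]
    (hp : Inv H p) : Nat.card (res H p hp).range ∣ (Fintype.card {x // p x})! := by
  have := Subgroup.card_subgroup_dvd_card (res H p hp).range
  rwa [Nat.card_perm, Nat.card_eq_fintype_card (α := {x // p x})] at this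

section restriction

variable {π : Set ℕ} {H : Subgroup (Perm α)} (p : α → Prop) [DecidablePred p] (hp : Inv H p)

theorem card_subtype_add_compl :
    Fintype.card {x // p x} + Fintype.card {x // ¬ p x} = Fintype.card α := by
  rw [Fintype.card_subtype_compl]
  have := Fintype.card_subtype_le p
  omega

/-- The kernel of restriction to the complement embeds in the restriction. -/
theorem card_ker_dvd :
    Nat.card (res H (fun x => ¬ p x) hp.not).ker ∣ Nat.card (res H p hp).range := by
  set rq := res H (fun x => ¬ p x) hp.not with hrq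
  set rp := res H p hp with hrp
  let th : rq.ker →* Perm {x // p x} := rp.comp rq.ker.subtype
  have hth : Function.Injective th := by
    rw [injective_iff_map_eq_one]
    intro g hg
    have hg2 : rq g.1 = 1 := g.2
    ext x
    by_cases hx : p x
    · have := congrArg (fun σ : Perm {x // p x} => ((σ ⟨x, hx⟩ : {x // p x}) : α)) hg
      exact this
    · have := congrArg (fun σ : Perm {x // ¬ p x} => ((σ ⟨x, hx⟩ : {x // ¬ p x}) : α)) hg2
      exact this
  have h1 : Nat.card rq.ker = Nat.card th.range :=
    Nat.card_congr (MonoidHom.ofInjective hth).toEquiv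
  rw [h1]
  apply Subgroup.card_dvd_of_le
  rintro _ ⟨g, rfl⟩
  exact ⟨g.1, rfl⟩

theorem card_ker_mul_card_range :
    Nat.card (res H (fun x => ¬ p x) hp.not).ker * Nat.card (res H (fun x => ¬ p x) hp.not).range
      = Nat.card H := by
  rw [← Subgroup.index_ker, Subgroup.card_mul_index]

/-- For `H ≤ Alt`, the kernel of restriction to the complement embeds in the even part of the
restriction. -/
theorem card_ker_dvd_alt (hH : H ≤ alternatingGroup α) :
    Nat.card (res H (fun x => ¬ p x) hp.not).ker ∣
      Nat.card ((res H p hp).range ⊓ alternatingGroup {x // p x} : Subgroup (Perm {x // p x})) := by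
  set rq := res H (fun x => ¬ p x) hp.not with hrq
  set rp := res H p hp with hrp
  let th : rq.ker →* Perm {x // p x} := rp.comp rq.ker.subtype
  have hth : Function.Injective th := by
    rw [injective_iff_map_eq_one]
    intro g hg
    have hg2 : rq g.1 = 1 := g.2
    ext x
    by_cases hx : p x
    · have := congrArg (fun σ : Perm {x // p x} => ((σ ⟨x, hx⟩ : {x // p x}) : α)) hg
      exact this
    · have := congrArg (fun σ : Perm {x // ¬ p x} => ((σ ⟨x, hx⟩ : {x // ¬ p x}) : α)) hg2
      exact this
  have h1 : Nat.card rq.ker = Nat.card th.range :=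
    Nat.card_congr (MonoidHom.ofInjective hth).toEquiv
  rw [h1]
  apply Subgroup.card_dvd_of_le
  rintro _ ⟨g, rfl⟩
  refine ⟨⟨g.1, rfl⟩, ?_⟩
  have hg2 : rq g.1 = 1 := g.2
  have hmove : ∀ x, (g.1 : Perm α) x ≠ x → p x := by
    intro x hx
    by_contra hpx
    have := congrArg (fun σ : Perm {x // ¬ p x} => ((σ ⟨x, hpx⟩ : {x // ¬ p x}) : α)) hg2
    exact hx this
  show th g ∈ alternatingGroup {x // p x}
  rw [Equiv.Perm.mem_alternatingGroup]
  have : th g = (g.1 : Perm α).subtypePerm (hp g.1 g.1.2) := rfl
  rw [this, Equiv.Perm.sign_subtypePerm _ _ hmove]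
  exact Equiv.Perm.mem_alternatingGroup.mp (hH g.1.2)

/-- **Restriction lemma**: the restriction of a good subgroup to an invariant subset is good. -/
theorem Good.restrict (h : Good π H) : Good π (res H p hp).range := by
  classical
  set rq := res H (fun x => ¬ p x) hp.not with hrq
  set rp := res H p hp with hrp
  have hn := card_subtype_add_compl (α := α) p
  set k := Fintype.card {x // p x} with hk
  set m := Fintype.card {x // ¬ p x} with hm
  have hkm : k ! * m ! ∣ (Fintype.card α)! := by
    rw [← hn]; exact Nat.factorial_mul_factorial_dvd_factorial_add k m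
  have hfac0 : (Fintype.card α)! ≠ 0 := Nat.factorial_ne_zero _
  have hrqr : Nat.card rq.range ∣ m ! := card_range_res_dvd H _ hp.not
  have hmul := card_ker_mul_card_range (H := H) p hp
  refine ⟨PiGrp.of_card_dvd h.1 (Subgroup.card_range_dvd rp), fun s hs hsπ => ?_⟩
  rcases h.2 s hs hsπ with h1 | ⟨h0, h1⟩
  · left
    have h2 : s ^ (Fintype.card α)!.factorization s ∣ Nat.card rp.range * m ! := by
      refine h1.trans ?_
      rw [← hmul]
      exact Nat.mul_dvd_mul (card_ker_dvd p hp) hrqr
    exact ordProj_dvd_of_mul hs hfac0 h2 hkm Nat.card_pos.ne'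
  · by_cases hA : rp.range ≤ alternatingGroup {x // p x}
    · right
      refine ⟨hA, ?_⟩
      have h2 : s ^ (Fintype.card α)!.factorization s ∣ (2 * Nat.card rp.range) * m ! := by
        refine h1.trans ?_
        rw [← hmul, mul_assoc]
        exact Nat.mul_dvd_mul_left 2 (Nat.mul_dvd_mul (card_ker_dvd p hp) hrqr)
      exact ordProj_dvd_of_mul hs hfac0 h2 hkm (mul_ne_zero two_ne_zero Nat.card_pos.ne')
    · left
      have h3 := card_inf_alt hA
      have h2 : s ^ (Fintype.card α)!.factorization s ∣ Nat.card rp.range * m ! := by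
        refine h1.trans ?_
        rw [← hmul, ← h3, ← mul_assoc]
        exact Nat.mul_dvd_mul (Nat.mul_dvd_mul_left 2 (card_ker_dvd_alt p hp h0)) hrqr
      exact ordProj_dvd_of_mul hs hfac0 h2 hkm Nat.card_pos.ne'

/-- **Numerics for an invariant subset**: no prime of `π` divides `C(n, k)`. -/
theorem Good.not_dvd_choose (h : Good π H) (hp : Inv H p)
    (hk : 2 ≤ Fintype.card {x // p x} ∨ 2 ≤ Fintype.card {x // ¬ p x}) {s : ℕ} (hs : s.Prime)
    (hsπ : s ∈ π) : ¬ s ∣ (Fintype.card α).choose (Fintype.card {x // p x}) := by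
  classical
  have hn := card_subtype_add_compl (α := α) p
  set k := Fintype.card {x // p x} with hkdef
  set m := Fintype.card {x // ¬ p x} with hmdef
  let f : α → Bool := fun x => decide (p x)
  have hHY : H ≤ fixf f := by
    intro g hg x
    show decide (p (g x)) = decide (p x)
    exact decide_eq_decide.mpr (hp g hg x)
  have hYalt : ¬ fixf f ≤ alternatingGroup α := by
    rcases hk with hk | hk
    · obtain ⟨x, y, hxy⟩ := Fintype.one_lt_card_iff.mp (show 1 < Fintype.card {x // p x} by omega)
      refine fixf_not_le_alt f (x := x.1) (y := y.1) (fun h => hxy (Subtype.ext h)) ?_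
      show decide (p x.1) = decide (p y.1)
      rw [decide_eq_true x.2, decide_eq_true y.2]
    · obtain ⟨x, y, hxy⟩ := Fintype.one_lt_card_iff.mp (show 1 < Fintype.card {x // ¬ p x} by omega)
      refine fixf_not_le_alt f (x := x.1) (y := y.1) (fun h => hxy (Subtype.ext h)) ?_
      show decide (p x.1) = decide (p y.1)
      rw [decide_eq_false x.2, decide_eq_false y.2]
  have hcard : Nat.card (fixf f) = k ! * m ! := by
    rw [card_fixf, Fintype.prod_bool]
    congr 1
    · congr 1
      apply Fintype.card_congr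
      exact Equiv.subtypeEquivRight fun x => by simp [f]
    · congr 1
      apply Fintype.card_congr
      exact Equiv.subtypeEquivRight fun x => by simp [f]
  have h1 := h.pow_dvd_card_of_le hHY hYalt hs hsπ
  rw [hcard] at h1
  refine not_dvd_of_ordProj_dvd hs (Nat.factorial_ne_zero _) h1 ?_
  rw [← hn]
  have := Nat.add_choose_mul_factorial_mul_factorial m k
  rw [add_comm m k] at this
  rw [← this]
  exact ⟨1, by ring⟩

end restriction

/-- Orbit predicate. -/
def orbP (H : Subgroup (Perm α)) (x₀ : α) : α → Prop := fun x => ∃ g ∈ H, g x₀ = x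

theorem orbP_self (H : Subgroup (Perm α)) (x₀ : α) : orbP H x₀ x₀ := ⟨1, H.one_mem, rfl⟩

theorem orbP_inv (H : Subgroup (Perm α)) (x₀ : α) : Inv H (orbP H x₀) := by
  intro g hg x
  constructor
  · rintro ⟨h, hh, hx⟩
    refine ⟨g⁻¹ * h, H.mul_mem (H.inv_mem hg) hh, ?_⟩
    rw [Perm.mul_apply, hx]; exact Equiv.symm_apply_apply g x
  · rintro ⟨h, hh, hx⟩
    exact ⟨g * h, H.mul_mem hg hh, by rw [Perm.mul_apply, hx]⟩

/-- Transitivity of a subgroup of `Perm β`, elementary form. -/
def Trans {β : Type*} (A : Subgroup (Perm β)) : Prop := ∀ x y : β, ∃ g ∈ A, g x = y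

theorem trans_res_orbP (H : Subgroup (Perm α)) (x₀ : α) :
    Trans (res H (orbP H x₀) (orbP_inv H x₀)).range := by
  rintro ⟨x, g, hg, rfl⟩ ⟨y, h, hh, rfl⟩
  refine ⟨res H _ (orbP_inv H x₀) ⟨h * g⁻¹, H.mul_mem hh (H.inv_mem hg)⟩, ⟨_, rfl⟩, ?_⟩
  apply Subtype.ext
  simp [Perm.mul_apply]

theorem Trans.isPretransitive {β : Type*} {A : Subgroup (Perm β)} (h : Trans A) :
    MulAction.IsPretransitive A β :=
  ⟨fun x y => by obtain ⟨g, hg, hxy⟩ := h x y; exact ⟨⟨g, hg⟩, hxy⟩⟩

theorem trans_of_isPretransitive {β : Type*} {A : Subgroup (Perm β)}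
    (h : MulAction.IsPretransitive A β) : Trans A :=
  fun x y => by obtain ⟨g, hg⟩ := h.exists_smul_eq x y; exact ⟨g.1, g.2, hg⟩

end Cfsg.Agent.Lib.Helper14.Hall
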