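import Mathlib
import Cfsg.Agent.Lib.Helper14.HallRes

/-!
# Hall subgroups of symmetric groups: numerics of a system of imprimitivity (helper14)

Abstract setting: a labelling `f : α → ι` all of whose fibres have `b` elements, and a
homomorphism `φ : H →* Perm ι` with `f (h x) = φ h (f x)`.
-/

set_option autoImplicit false

namespace Cfsg.Agent.Lib.Helper14.Hall

open Equiv Equiv.Perm Nat
open Cfsg.Agent.Lib.Helper14.HallNT

variable {α : Type*} [Fintype α] [DecidableEq α]
variable {ι : Type*} [Fintype ι] [DecidableEq ι]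

theorem card_fixf_of_fib (f : α → ι) (b : ℕ) (hfib : ∀ i, Fintype.card {x // f x = i} = b) :
    Nat.card (fixf f) = (b !) ^ Fintype.card ι := by
  rw [card_fixf]
  simp [hfib]

theorem card_eq_of_fib (f : α → ι) (b : ℕ) (hfib : ∀ i, Fintype.card {x // f x = i} = b) :
    Fintype.card α = Fintype.card ι * b := by
  have h1 : Fintype.card α = Fintype.card (Σ i, {x // f x = i}) :=
    Fintype.card_congr (Equiv.sigmaFiberEquiv f).symm
  rw [h1, Fintype.card_sigma]
  simp [hfib]

variable {π : Set ℕ} {H : Subgroup (Perm α)}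

theorem card_dvd_label (f : α → ι) (φ' : H →* Perm ι)
    (heq : ∀ (h : H) (x : α), f ((h : Perm α) x) = φ' h (f x)) :
    Nat.card H ∣ Nat.card (H ⊓ fixf f : Subgroup (Perm α)) * (Fintype.card ι)! := by
  have h1 : Nat.card φ'.ker * Nat.card φ'.range = Nat.card H := by
    rw [← Subgroup.index_ker, Subgroup.card_mul_index]
  rw [← h1]
  apply Nat.mul_dvd_mul
  · have h2 : Nat.card φ'.ker = Nat.card (φ'.ker.map H.subtype) :=
      Nat.card_congr (φ'.ker.equivMapOfInjective _ H.subtype_injective).toEquiv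
    rw [h2]
    apply Subgroup.card_dvd_of_le
    rintro _ ⟨h, hh, rfl⟩
    refine ⟨h.2, fun x => ?_⟩
    have : φ' h = 1 := hh
    rw [Subgroup.coe_subtype, heq, this]; rfl
  · have := Subgroup.card_subgroup_dvd_card φ'.range
    rwa [Nat.card_perm, Nat.card_eq_fintype_card (α := ι)] at this

/-- **Numerics of a block system.** -/
theorem label_numerics (f : α → ι) (b : ℕ) (hb : 2 ≤ b)
    (hfib : ∀ i, Fintype.card {x // f x = i} = b) (φ' : H →* Perm ι)
    (heq : ∀ (h : H) (x : α), f ((h : Perm α) x) = φ' h (f x)) (hG : Good π H)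
    {s : ℕ} (hs : s.Prime) (hsπ : s ∈ π) :
    s ^ (Fintype.card α)!.factorization s ∣ (b !) ^ Fintype.card ι * (Fintype.card ι)! := by
  rcases isEmpty_or_nonempty ι with hι | ⟨⟨i⟩⟩
  · have : IsEmpty α := ⟨fun x => hι.false (f x)⟩
    simp
  have hdvd := card_dvd_label f φ' heq
  have hfx := card_fixf_of_fib f b hfib
  rcases hG.2 s hs hsπ with h1 | ⟨h0, h1⟩
  · refine h1.trans (hdvd.trans ?_)
    rw [← hfx]
    exact Nat.mul_dvd_mul_right (Subgroup.card_dvd_of_le inf_le_right) _
  · have hnalt : ¬ fixf f ≤ alternatingGroup α := by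
      obtain ⟨x, y, hxy⟩ := Fintype.one_lt_card_iff.mp
        (show 1 < Fintype.card {x // f x = i} by rw [hfib]; omega)
      exact fixf_not_le_alt f (x := x.1) (y := y.1) (fun h => hxy (Subtype.ext h))
        (x.2.trans y.2.symm)
    have h3 := card_inf_alt hnalt
    refine h1.trans ((Nat.mul_dvd_mul_left 2 hdvd).trans ?_)
    rw [← hfx, ← h3, ← mul_assoc]
    apply Nat.mul_dvd_mul_right
    apply Nat.mul_dvd_mul_left
    apply Subgroup.card_dvd_of_le
    exact le_inf inf_le_right (inf_le_left.trans h0)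

/-- Setwise stabilizer of the fibre over `i`. -/
def stabf (f : α → ι) (i : ι) : Subgroup (Perm α) where
  carrier := {g | ∀ x, f (g x) = i ↔ f x = i}
  mul_mem' := fun {a c} ha hc x => by rw [Perm.mul_apply, ha, hc]
  one_mem' := fun _ => Iff.rfl
  inv_mem' := fun {a} ha x => by
    have := ha (a⁻¹ x)
    rw [show a (a⁻¹ x) = x from Equiv.apply_symm_apply a x] at this
    exact this.symm

theorem inv_stabf (f : α → ι) (i : ι) (H : Subgroup (Perm α)) :
    Inv (H ⊓ stabf f i) (fun x => f x = i) := fun g hg x => hg.2 x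

theorem inv_fixf (f : α → ι) (i : ι) (H : Subgroup (Perm α)) :
    Inv (H ⊓ fixf f) (fun x => f x = i) := fun g hg x => by
  show f (g x) = i ↔ f x = i
  rw [hg.2 x]

theorem fixf_le_stabf (f : α → ι) (i : ι) : fixf f ≤ stabf f i := fun g hg x => by rw [hg x]

/-- The kernel of the action on labels embeds in the product of its restrictions to fibres. -/
theorem card_fix_dvd_prod (f : α → ι) (H : Subgroup (Perm α)) :
    Nat.card (H ⊓ fixf f : Subgroup (Perm α)) ∣
      ∏ i, Nat.card (res (H ⊓ fixf f) (fun x => f x = i) (inv_fixf f i H)).range := by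
  set K : Subgroup (Perm α) := H ⊓ fixf f with hK
  let Θ : K →* ∀ i, (res K (fun x => f x = i) (inv_fixf f i H)).range :=
    MonoidHom.pi fun i => (res K (fun x => f x = i) (inv_fixf f i H)).rangeRestrict
  have hinj : Function.Injective Θ := by
    rw [injective_iff_map_eq_one]
    intro g hg
    ext x
    have h1 := congrFun hg (f x)
    have h2 : res K (fun y => f y = f x) (inv_fixf f (f x) H) g = 1 := by
      have := congrArg Subtype.val h1
      exact this
    have h3 := congrArg (fun σ : Perm {y // f y = f x} => ((σ ⟨x, rfl⟩ : {y // f y = f x}) : α)) h2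
    exact h3
  have := Subgroup.card_dvd_of_injective Θ hinj
  rwa [Nat.card_pi] at this

/-- Key inequality on `s`-adic valuations. -/
theorem label_val_ineq (f : α → ι) (b : ℕ) (hb : 2 ≤ b)
    (hfib : ∀ i, Fintype.card {x // f x = i} = b) (φ' : H →* Perm ι)
    (heq : ∀ (h : H) (x : α), f ((h : Perm α) x) = φ' h (f x))
    {s c : ℕ} (hs : s.Prime) (hc : c ≠ 0)
    (hdiv : s ^ (Fintype.card α)!.factorization s ∣ c * Nat.card H) :
    Fintype.card ι * (b !).factorization s ≤ c.factorization s +
      ∑ i, (Nat.card (res (H ⊓ fixf f) (fun x => f x = i) (inv_fixf f i H)).range).factorization s := by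
  set a := Fintype.card ι with ha
  have hn := card_eq_of_fib f b hfib
  have hwr : (b !) ^ a * a ! ∣ (Fintype.card α)! := by
    rw [hn, wreath_factorial a b (by omega)]
    exact Dvd.intro _ rfl
  have hfac0 : (Fintype.card α)! ≠ 0 := Nat.factorial_ne_zero _
  have hprod0 : (∏ i, Nat.card (res (H ⊓ fixf f) (fun x => f x = i) (inv_fixf f i H)).range) ≠ 0 :=
    Finset.prod_ne_zero_iff.mpr fun i _ => Nat.card_pos.ne'
  have h1 : s ^ (Fintype.card α)!.factorization s ∣
      c * ((∏ i, Nat.card (res (H ⊓ fixf f) (fun x => f x = i) (inv_fixf f i H)).range) * a !) := by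
    refine hdiv.trans (Nat.mul_dvd_mul_left c ((card_dvd_label f φ' heq).trans ?_))
    exact Nat.mul_dvd_mul_right (card_fix_dvd_prod f H) _
  have h2 : (Fintype.card α)!.factorization s ≤ c.factorization s +
      ((∑ i, (Nat.card (res (H ⊓ fixf f) (fun x => f x = i)
        (inv_fixf f i H)).range).factorization s) + (a !).factorization s) := by
    have := (hs.pow_dvd_iff_le_factorization
      (mul_ne_zero hc (mul_ne_zero hprod0 (Nat.factorial_ne_zero _)))).mp h1
    rw [Nat.factorization_mul hc (mul_ne_zero hprod0 (Nat.factorial_ne_zero _)),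
      Nat.factorization_mul hprod0 (Nat.factorial_ne_zero _),
      Nat.factorization_prod (fun i _ => Nat.card_pos.ne')] at this
    simpa using this
  have h3 : a * (b !).factorization s + (a !).factorization s ≤ (Fintype.card α)!.factorization s := by
    have := (Nat.factorization_le_iff_dvd
      (mul_ne_zero (pow_ne_zero _ (Nat.factorial_ne_zero _)) (Nat.factorial_ne_zero _)) hfac0).mpr hwr s
    rw [Nat.factorization_mul (pow_ne_zero _ (Nat.factorial_ne_zero _)) (Nat.factorial_ne_zero _),
      Nat.factorization_pow] at this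
    simpa using this
  omega

theorem card_range_fix_dvd (f : α → ι) (b : ℕ)
    (hfib : ∀ i, Fintype.card {x // f x = i} = b) (H : Subgroup (Perm α)) (i : ι) :
    Nat.card (res (H ⊓ fixf f) (fun x => f x = i) (inv_fixf f i H)).range ∣ b ! := by
  have := card_range_res_dvd (H ⊓ fixf f) (fun x => f x = i) (inv_fixf f i H)
  rwa [hfib] at this

/-- If the full `s`-part of `n!` divides `|H|`, every fibre restriction of the kernel has the
full `s`-part of `b!`. -/
theorem label_all_full (f : α → ι) (b : ℕ) (hb : 2 ≤ b)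
    (hfib : ∀ i, Fintype.card {x // f x = i} = b) (φ' : H →* Perm ι)
    (heq : ∀ (h : H) (x : α), f ((h : Perm α) x) = φ' h (f x))
    {s : ℕ} (hs : s.Prime)
    (hdiv : s ^ (Fintype.card α)!.factorization s ∣ Nat.card H) (i : ι) :
    s ^ (b !).factorization s ∣
      Nat.card (res (H ⊓ fixf f) (fun x => f x = i) (inv_fixf f i H)).range := by
  have hineq := label_val_ineq f b hb hfib φ' heq hs one_ne_zero (by simpa using hdiv)
  simp only [Nat.factorization_one, Finsupp.coe_zero, Pi.zero_apply, zero_add] at hineq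
  rw [hs.pow_dvd_iff_le_factorization Nat.card_pos.ne']
  by_contra hlt
  push Not at hlt
  have hle : ∀ j ∈ Finset.univ, (Nat.card (res (H ⊓ fixf f) (fun x => f x = j)
      (inv_fixf f j H)).range).factorization s ≤ (b !).factorization s := fun j _ =>
    (Nat.factorization_le_iff_dvd Nat.card_pos.ne' (Nat.factorial_ne_zero _)).mpr
      (card_range_fix_dvd f b hfib H j) s
  have hsum := Finset.sum_lt_sum hle ⟨i, Finset.mem_univ i, hlt⟩
  simp only [Finset.sum_const, Finset.card_univ, smul_eq_mul] at hsum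
  omega

/-- If the full `s`-part of `n!` divides `2 |H|` and there are at least two fibres, some fibre
restriction of the kernel has the full `s`-part of `b!`. -/
theorem label_some_full (f : α → ι) (b : ℕ) (hb : 2 ≤ b)
    (hfib : ∀ i, Fintype.card {x // f x = i} = b) (φ' : H →* Perm ι)
    (heq : ∀ (h : H) (x : α), f ((h : Perm α) x) = φ' h (f x)) (ha : 2 ≤ Fintype.card ι)
    (hdiv : 2 ^ (Fintype.card α)!.factorization 2 ∣ 2 * Nat.card H) :
    ∃ i : ι, 2 ^ (b !).factorization 2 ∣
      Nat.card (res (H ⊓ fixf f) (fun x => f x = i) (inv_fixf f i H)).range := by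
  have hineq := label_val_ineq f b hb hfib φ' heq Nat.prime_two two_ne_zero hdiv
  have h21 : (2 : ℕ).factorization 2 = 1 := Nat.prime_two.factorization_self
  rw [h21] at hineq
  by_contra hcon
  push Not at hcon
  have hlt : ∀ j ∈ Finset.univ, (Nat.card (res (H ⊓ fixf f) (fun x => f x = j)
      (inv_fixf f j H)).range).factorization 2 + 1 ≤ (b !).factorization 2 := fun j _ => by
    have := hcon j
    rw [Nat.prime_two.pow_dvd_iff_le_factorization Nat.card_pos.ne'] at this
    omega
  have hsum := Finset.sum_le_sum hlt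
  simp only [Finset.sum_add_distrib, Finset.sum_const, Finset.card_univ, smul_eq_mul,
    mul_one] at hsum
  omega

theorem label_block_good (f : α → ι) (b : ℕ) (hb : 2 ≤ b)
    (hfib : ∀ i, Fintype.card {x // f x = i} = b) (φ' : H →* Perm ι)
    (heq : ∀ (h : H) (x : α), f ((h : Perm α) x) = φ' h (f x)) (hG : Good π H) (hT : Trans H)
    (ha : 2 ≤ Fintype.card ι) :
    ∃ i₀ : ι, Good π (res (H ⊓ stabf f i₀) (fun x => f x = i₀) (inv_stabf f i₀ H)).range ∧
      Trans (res (H ⊓ stabf f i₀) (fun x => f x = i₀) (inv_stabf f i₀ H)).range := by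
  classical
  -- choice of the fibre
  obtain ⟨i₀, hi₀⟩ : ∃ i₀ : ι, ∀ s : ℕ, s.Prime → s ∈ π → s ^ (b !).factorization s ∣
      Nat.card (res (H ⊓ fixf f) (fun x => f x = i₀) (inv_fixf f i₀ H)).range := by
    by_cases h2 : (2 ∈ π ∧ ¬ 2 ^ (Fintype.card α)!.factorization 2 ∣ Nat.card H)
    · have hd : 2 ^ (Fintype.card α)!.factorization 2 ∣ 2 * Nat.card H := by
        rcases hG.2 2 Nat.prime_two h2.1 with h | ⟨_, h⟩
        · exact absurd h h2.2
        · exact h
      obtain ⟨i₀, hi₀⟩ := label_some_full f b hb hfib φ' heq ha hd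
      refine ⟨i₀, fun s hs hsπ => ?_⟩
      by_cases hs2 : s = 2
      · subst hs2; exact hi₀
      · exact label_all_full f b hb hfib φ' heq hs (hG.pow_dvd_of_ne_two hs hsπ hs2) i₀
    · obtain ⟨i₀⟩ : Nonempty ι := Fintype.card_pos_iff.mp (by omega)
      refine ⟨i₀, fun s hs hsπ => ?_⟩
      by_cases hs2 : s = 2
      · subst hs2
        push Not at h2
        exact label_all_full f b hb hfib φ' heq hs (h2 hsπ) i₀
      · exact label_all_full f b hb hfib φ' heq hs (hG.pow_dvd_of_ne_two hs hsπ hs2) i₀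
  refine ⟨i₀, ?_, ?_⟩
  · -- goodness
    have hle : (res (H ⊓ fixf f) (fun x => f x = i₀) (inv_fixf f i₀ H)).range ≤
        (res (H ⊓ stabf f i₀) (fun x => f x = i₀) (inv_stabf f i₀ H)).range := by
      rintro _ ⟨g, rfl⟩
      exact ⟨⟨g.1, g.2.1, fixf_le_stabf f i₀ g.2.2⟩, rfl⟩
    refine ⟨?_, fun s hs hsπ => Or.inl ?_⟩
    · refine PiGrp.of_card_dvd hG.1 ((Subgroup.card_range_dvd _).trans ?_)
      exact Subgroup.card_dvd_of_le inf_le_left
    · rw [hfib]
      exact (hi₀ s hs hsπ).trans (Subgroup.card_dvd_of_le hle)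
  · -- transitivity
    rintro ⟨x, hx⟩ ⟨y, hy⟩
    obtain ⟨h, hh, hxy⟩ := hT x y
    have hfix : φ' ⟨h, hh⟩ i₀ = i₀ := by
      have := heq ⟨h, hh⟩ x
      simp only at this
      rw [hxy, hx, hy] at this
      exact this.symm
    have hst : h ∈ stabf f i₀ := by
      intro z
      have := heq ⟨h, hh⟩ z
      simp only at this
      rw [this]
      constructor
      · intro hz
        rw [← hfix] at hz
        exact (φ' ⟨h, hh⟩).injective hz
      · intro hz
        rw [hz, hfix]
    refine ⟨_, ⟨⟨h, hh, hst⟩, rfl⟩, ?_⟩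
    apply Subtype.ext
    exact hxy

end Cfsg.Agent.Lib.Helper14.Hall
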