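import Mathlib
import Cfsg.Agent.Lib.Helper14.HallPart
import Cfsg.Agent.Lib.Helper26.HallKlein
import Cfsg.Agent.Lib.Helper18.AGenA

/-!
# Hall subgroups of symmetric groups: the primitive case (helper14)
-/

set_option autoImplicit false

namespace Cfsg.Agent.Lib.Helper14.Hall

open Equiv Equiv.Perm Nat MulAction
open Cfsg.Agent.Lib.Helper14.HallNT

variable {α : Type*} [Fintype α] [DecidableEq α]

/-- Every prime `≤ n` lies in `π`. -/
def AllIn (π : Set ℕ) (n : ℕ) : Prop := ∀ r : ℕ, r.Prime → r ≤ n → r ∈ π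

/-- At least two primes `≤ n` lie in `π`. -/
def Two (π : Set ℕ) (n : ℕ) : Prop :=
  ∃ r s : ℕ, r.Prime ∧ s.Prime ∧ r ≠ s ∧ r ∈ π ∧ s ∈ π ∧ r ≤ n ∧ s ≤ n

/-- The primes `≤ n` in `π` are exactly `2` and `3`. -/
def P23 (π : Set ℕ) (n : ℕ) : Prop := ∀ r : ℕ, r.Prime → r ≤ n → (r ∈ π ↔ (r = 2 ∨ r = 3))

theorem allIn_small {π : Set ℕ} {n : ℕ} (h2 : Two π n) (hn : n ≤ 4) : AllIn π n := by
  obtain ⟨r, s, hr, hs, hrs, hrπ, hsπ, hrn, hsn⟩ := h2
  intro t ht htn
  have ht4 : t ≤ 4 := htn.trans hn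
  have hr4 : r ≤ 4 := hrn.trans hn
  have hs4 : s ≤ 4 := hsn.trans hn
  have key : ∀ x : ℕ, x.Prime → x ≤ 4 → x = 2 ∨ x = 3 := by
    intro x hx hx4
    interval_cases x <;> first | omega | (exfalso; revert hx; decide)
  rcases key t ht ht4 with rfl | rfl <;> rcases key r hr hr4 with rfl | rfl <;>
    rcases key s hs hs4 with rfl | rfl <;> first | assumption | exact absurd rfl hrs

theorem allIn_of_alt_le {π : Set ℕ} {H : Subgroup (Perm α)} (hG : PiGrp π H)
    (hle : alternatingGroup α ≤ H) (hn : 4 ≤ Fintype.card α) : AllIn π (Fintype.card α) := by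
  intro r hr hrn
  haveI : Nontrivial α := Fintype.one_lt_card_iff_nontrivial.mp (by omega)
  have h2 : 2 * Nat.card (alternatingGroup α) = (Fintype.card α)! := by
    rw [Nat.card_eq_fintype_card, two_mul_card_alternatingGroup, Fintype.card_perm]
  apply hG r hr
  refine Dvd.dvd.trans ?_ (Subgroup.card_dvd_of_le hle)
  by_cases hr2 : r = 2
  · subst hr2
    have h4 : 4 ∣ (Fintype.card α)! := by
      have : (4 : ℕ)! ∣ (Fintype.card α)! := Nat.factorial_dvd_factorial hn
      exact Dvd.dvd.trans (by decide) this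
    rw [← h2] at h4
    obtain ⟨c, hc⟩ := h4
    exact ⟨c, by omega⟩
  · have : r ∣ 2 * Nat.card (alternatingGroup α) := by
      rw [h2]; exact (hr.dvd_factorial).mpr hrn
    exact (Nat.Coprime.dvd_of_dvd_mul_left ((Nat.coprime_primes hr Nat.prime_two).mpr hr2) this)

/-- `3`-transitivity forces even order. -/
theorem two_dvd_of_three_trans {H : Subgroup (Perm α)} (hn : 3 ≤ Fintype.card α)
    (h3 : IsMultiplyPretransitive H α 3) : 6 ∣ Nat.card H := by
  obtain ⟨s, _, hs⟩ := Set.exists_subset_card_eq (s := (Set.univ : Set α)) (n := 3)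
    (by rw [Set.ncard_univ, Nat.card_eq_fintype_card]; exact hn)
  have h := h3.index_of_fixingSubgroup_mul hs
  rw [Nat.card_eq_fintype_card] at h
  obtain ⟨m, hm⟩ : ∃ m, Fintype.card α = m + 3 := ⟨Fintype.card α - 3, by omega⟩
  rw [hm, Nat.add_sub_cancel] at h
  have h' : (fixingSubgroup H s).index * m ! = ((m + 3) * (m + 2) * (m + 1)) * m ! := by
    rw [h, Nat.factorial_succ, Nat.factorial_succ, Nat.factorial_succ]; ring
  have h'' := Nat.eq_of_mul_eq_mul_right (Nat.factorial_pos m) h'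
  have h6 : 6 ∣ (m + 3) * (m + 2) * (m + 1) := by
    have := Nat.factorial_dvd_descFactorial (m + 3) 3
    have e : (m + 3).descFactorial 3 = (m + 3) * (m + 2) * (m + 1) := by
      simp [Nat.descFactorial_succ]; ring
    rw [e] at this
    exact this
  rw [← h''] at h6
  exact h6.trans (Subgroup.index_dvd_card _)

theorem prim_contra {π : Set ℕ} {H : Subgroup (Perm α)} (hG : Good π H)
    (hprim : IsPreprimitive H α) (h2 : Two π (Fintype.card α))
    (hall : ¬ AllIn π (Fintype.card α)) : False := by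
  have hn5 : 5 ≤ Fintype.card α := by
    by_contra hlt
    exact hall (allIn_small h2 (by omega))
  have hnalt : ¬ alternatingGroup α ≤ H := fun hle => hall (allIn_of_alt_le hG.1 hle (by omega))
  -- 3 ∉ π
  have h3 : 3 ∉ π := by
    intro h3π
    obtain ⟨c, hc, hcyc, hcard⟩ := exists_cycle_mem_of_pow_dvd Nat.prime_three (by omega)
      (hG.pow_dvd_of_ne_two Nat.prime_three h3π (by norm_num))
    have h3c : c.IsThreeCycle := card_support_eq_three_iff.mp hcard
    exact hnalt (alternatingGroup_le_of_isPreprimitive_of_isThreeCycle_mem hprim h3c hc)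
  -- odd primes of π are ≥ n - 2
  have hodd : ∀ q : ℕ, q.Prime → q ∈ π → q ≤ Fintype.card α → q ≠ 2 →
      Fintype.card α ≤ q + 2 := by
    intro q hq hqπ hqn hq2
    by_contra hlt
    obtain ⟨c, hc, hcyc, hcard⟩ := exists_cycle_mem_of_pow_dvd hq hqn
      (hG.pow_dvd_of_ne_two hq hqπ hq2)
    exact hnalt (Cfsg.Agent.Lib.Helper18.AGen.jordan_prime_cycle hprim hq (by omega) hcyc hcard hc)
  by_cases h2π : 2 ∈ π
  · rcases hG.2 2 Nat.prime_two h2π with h1 | ⟨h0, h1⟩
    · obtain ⟨c, hc, hcyc, hcard⟩ := exists_cycle_mem_of_pow_dvd Nat.prime_two (by omega) h1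
      have hsw : c.IsSwap := card_support_eq_two.mp hcard
      have := subgroup_eq_top_of_isPreprimitive_of_isSwap_mem hprim c hsw hc
      exact hnalt (this ▸ le_top)
    · have := Cfsg.Agent.Lib.Helper26.HallKlein.three_dvd_of_prim_alt h0 hprim hn5 h1
      exact h3 (hG.1 3 Nat.prime_three this)
  · obtain ⟨r, s, hr, hs, hrs, hrπ, hsπ, hrn, hsn⟩ := h2
    have hr2 : r ≠ 2 := fun h => h2π (h ▸ hrπ)
    have hs2 : s ≠ 2 := fun h => h2π (h ▸ hsπ)
    have hr1 : r % 2 = 1 := hr.eq_two_or_odd.resolve_left hr2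
    have hs1 : s % 2 = 1 := hs.eq_two_or_odd.resolve_left hs2
    have h1 := hodd r hr hrπ hrn hr2
    have h1' := hodd s hs hsπ hsn hs2
    -- the smaller one is `n - 2`
    have key : ∀ q : ℕ, q.Prime → q ∈ π → q ≤ Fintype.card α → q ≠ 2 →
        Fintype.card α = q + 2 → False := by
      intro q hq hqπ hqn hq2 hcardq
      obtain ⟨c, hc, hcyc, hcard⟩ := exists_cycle_mem_of_pow_dvd hq hqn
        (hG.pow_dvd_of_ne_two hq hqπ hq2)
      have hmt := Cfsg.Agent.Lib.Helper18.AGen.multTrans_of_prime_cycle hprim hq (by norm_num)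
        hcardq hcyc hcard hc
      have h6 := two_dvd_of_three_trans (by omega) hmt
      exact h2π (hG.1 2 Nat.prime_two (Dvd.dvd.trans (by decide) h6))
    rcases Nat.lt_or_ge r s with hlt | hge
    · exact key r hr hrπ hrn hr2 (by omega)
    · exact key s hs hsπ hsn hs2 (by omega)

end Cfsg.Agent.Lib.Helper14.Hall
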