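import Mathlib

/-!
# Set stabilizers in `Perm α` used for Hall subgroups of symmetric groups (helper14)

* `setStab Δ` : permutations `g` with `g Δ = Δ`.
* `bipStab Δ` : permutations `g` with `g Δ = Δ` or `g Δ = Δᶜ`.
-/

set_option autoImplicit false

namespace Cfsg.Agent.Lib.Helper14.Hall

open Equiv Equiv.Perm

variable {α : Type*} [Fintype α] [DecidableEq α]

/-- Setwise stabilizer of a finset. -/
def setStab (Δ : Finset α) : Subgroup (Perm α) where
  carrier := {g | ∀ x, g x ∈ Δ ↔ x ∈ Δ}
  mul_mem' := fun {a c} ha hc x => by rw [Perm.mul_apply, ha, hc]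
  one_mem' := fun _ => Iff.rfl
  inv_mem' := fun {a} ha x => by
    have := ha (a⁻¹ x)
    rw [show a (a⁻¹ x) = x from Equiv.apply_symm_apply a x] at this
    exact this.symm

theorem mem_setStab (Δ : Finset α) (g : Perm α) : g ∈ setStab Δ ↔ ∀ x, g x ∈ Δ ↔ x ∈ Δ := Iff.rfl

/-- Stabilizer of the partition `{Δ, Δᶜ}`. -/
def bipStab (Δ : Finset α) : Subgroup (Perm α) where
  carrier := {g | (∀ x, g x ∈ Δ ↔ x ∈ Δ) ∨ (∀ x, g x ∈ Δ ↔ x ∉ Δ)}
  mul_mem' := fun {a c} ha hc => by
    rcases ha with ha | ha <;> rcases hc with hc | hc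
    · left; intro x; rw [Perm.mul_apply, ha, hc]
    · right; intro x; rw [Perm.mul_apply, ha, hc]
    · right; intro x; rw [Perm.mul_apply, ha, hc]
    · left; intro x; rw [Perm.mul_apply, ha, hc, not_not]
  one_mem' := Or.inl fun _ => Iff.rfl
  inv_mem' := fun {a} ha => by
    rcases ha with ha | ha
    · left; intro x
      have := ha (a⁻¹ x)
      rw [show a (a⁻¹ x) = x from Equiv.apply_symm_apply a x] at this
      exact this.symm
    · right; intro x
      have := ha (a⁻¹ x)
      rw [show a (a⁻¹ x) = x from Equiv.apply_symm_apply a x] at this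
      rw [this, not_not]

theorem mem_bipStab (Δ : Finset α) (g : Perm α) :
    g ∈ bipStab Δ ↔ (∀ x, g x ∈ Δ ↔ x ∈ Δ) ∨ (∀ x, g x ∈ Δ ↔ x ∉ Δ) := Iff.rfl

theorem setStab_le_bipStab (Δ : Finset α) : setStab Δ ≤ bipStab Δ := fun _ hg => Or.inl hg

/-- Order of a set stabilizer. -/
theorem card_setStab (Δ : Finset α) :
    Nat.card (setStab Δ) = (Δ.card).factorial * (Fintype.card α - Δ.card).factorial := by
  classical
  let f : α → Bool := fun x => decide (x ∈ Δ)
  have h1 : Nat.card (setStab Δ) = Fintype.card {g : Perm α // f ∘ g = f} := by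
    rw [← Nat.card_eq_fintype_card]
    apply Nat.card_congr
    refine Equiv.subtypeEquivRight fun g => ⟨fun h => funext fun x => ?_, fun h x => ?_⟩
    · exact decide_eq_decide.mpr (h x)
    · exact decide_eq_decide.mp (congrFun h x)
  rw [h1, DomMulAct.stabilizer_card f, Fintype.prod_bool]
  congr 1
  · congr 1
    rw [← Fintype.card_coe Δ]
    apply Fintype.card_congr
    exact Equiv.subtypeEquivRight fun x => by simp [f]
  · congr 1
    have : Fintype.card {a // f a = false} = Fintype.card {a // a ∉ Δ} :=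
      Fintype.card_congr (Equiv.subtypeEquivRight fun x => by simp [f])
    rw [this, Fintype.card_subtype_compl, Fintype.card_coe]

end Cfsg.Agent.Lib.Helper14.Hall
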