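import Mathlib
import Cfsg.Agent.Lib.Helper14.HallPrim
import Cfsg.Agent.Lib.Helper14.HallStab

/-!
# Hall subgroups of symmetric groups: the transitive case (helper14)
-/

set_option autoImplicit false

namespace Cfsg.Agent.Lib.Helper14.Hall

open Equiv Equiv.Perm Nat MulAction
open scoped Pointwise
open Cfsg.Agent.Lib.Helper14.HallNT

universe u

variable {α : Type u} [Fintype α] [DecidableEq α]

/-- A transitive imprimitive group has a labelling by a system of imprimitivity. -/
theorem exists_labelling {H : Subgroup (Perm α)} (hT : Trans H) (hnp : ¬ IsPreprimitive H α) :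
    ∃ (ι : Type u) (_ : Fintype ι) (_ : DecidableEq ι) (f : α → ι) (b : ℕ) (φ' : H →* Perm ι),
      2 ≤ b ∧ 2 ≤ Fintype.card ι ∧ (∀ i, Fintype.card {x // f x = i} = b) ∧
        (∀ (h : H) (x : α), f ((h : Perm α) x) = φ' h (f x)) := by
  classical
  haveI hpre : IsPretransitive H α := hT.isPretransitive
  obtain ⟨B, hB, hBt⟩ : ∃ B : Set α, IsBlock H B ∧ ¬ IsTrivialBlock B := by
    by_contra hcon
    push Not at hcon
    exact hnp ⟨fun {B} hB => hcon B hB⟩
  rw [IsTrivialBlock, not_or] at hBt
  have hBnt : B.Nontrivial := Set.not_subsingleton_iff.mp hBt.1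
  obtain ⟨x₀, hx₀⟩ := hBnt.nonempty
  let ι : Type u := ↥(orbit H B)
  haveI : Fintype ι := Fintype.ofFinite ι
  have memT : ∀ x : α, ∃ i : ι, x ∈ (i : Set α) := by
    intro x
    obtain ⟨h, hh, hx⟩ := hT x₀ x
    refine ⟨⟨(⟨h, hh⟩ : H) • B, mem_orbit _ _⟩, ?_⟩
    rw [← hx]
    exact Set.smul_mem_smul_set (a := (⟨h, hh⟩ : H)) hx₀
  have uniq : ∀ (x : α) (i j : ι), x ∈ (i : Set α) → x ∈ (j : Set α) → i = j := by
    intro x i j hi hj
    obtain ⟨g, hg⟩ := mem_orbit_iff.mp i.2
    obtain ⟨g', hg'⟩ := mem_orbit_iff.mp j.2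
    apply Subtype.ext
    by_contra hne
    rw [← hg, ← hg'] at hne
    have := hB hne
    rw [hg, hg'] at this
    exact Set.disjoint_left.mp this hi hj
  let f : α → ι := fun x => Classical.choose (memT x)
  have hf : ∀ x, x ∈ ((f x : ι) : Set α) := fun x => Classical.choose_spec (memT x)
  let φ' : H →* Perm ι := MulAction.toPermHom H ι
  refine ⟨ι, inferInstance, inferInstance, f, B.ncard, φ', ?_, ?_, ?_, ?_⟩
  · obtain ⟨a, ha, c, hc, hac⟩ := hBnt
    exact (Set.one_lt_ncard_iff (Set.toFinite B)).mpr ⟨a, c, ha, hc, hac⟩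
  · obtain ⟨y, hy⟩ := (Set.ne_univ_iff_exists_notMem B).mp hBt.2
    apply Fintype.one_lt_card_iff.mpr
    refine ⟨⟨B, mem_orbit_self B⟩, f y, fun h => hy ?_⟩
    have := hf y
    rw [← h] at this
    exact this
  · intro i
    have h1 : Fintype.card {x // f x = i} = Nat.card ↥(i : Set α) := by
      rw [← Nat.card_eq_fintype_card]
      apply Nat.card_congr
      exact Equiv.subtypeEquivRight fun x =>
        ⟨fun h => h ▸ hf x, fun h => uniq x _ _ (hf x) h⟩
    rw [h1, Nat.card_coe_set_eq]
    obtain ⟨g, hg⟩ := mem_orbit_iff.mp i.2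
    rw [← hg, Set.ncard_smul_set]
  · intro h x
    apply uniq ((h : Perm α) x)
    · exact hf _
    · show (h : Perm α) x ∈ ((h • (f x) : ι) : Set α)
      rw [MulAction.orbit.coe_smul]
      exact Set.smul_mem_smul_set (a := h) (hf x)

/-- In a two-element type, a permutation moving `i` sends `j` to `i` iff `j ≠ i`. -/
theorem perm_two_swap {ι : Type*} [Fintype ι] [DecidableEq ι] (h2 : Fintype.card ι = 2)
    (σ : Perm ι) (i j : ι) (hσ : σ i ≠ i) : σ j = i ↔ j ≠ i := by
  constructor
  · rintro h rfl; exact hσ h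
  · intro hji
    by_contra hne
    have h3 : ({σ j, σ i, i} : Finset ι).card = 3 := by
      rw [Finset.card_insert_of_notMem, Finset.card_insert_of_notMem, Finset.card_singleton]
      · simpa using hσ
      · simp only [Finset.mem_insert, Finset.mem_singleton, not_or]
        exact ⟨fun h => hji (σ.injective h), hne⟩
    have := Finset.card_le_univ ({σ j, σ i, i} : Finset ι)
    omega

/-- **The transitive case.** A transitive good subgroup with at least two primes of `π` up to the
degree is the whole symmetric/alternating group, or the degree is `8`. -/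
theorem trans_main (π : Set ℕ) : ∀ (n : ℕ) (α : Type u) [Fintype α] [DecidableEq α]
    (H : Subgroup (Perm α)), Fintype.card α = n → Good π H → Trans H → Two π n →
    AllIn π n ∨ (n = 8 ∧ P23 π 8 ∧ ∃ Δ : Finset α, Δ.card = 4 ∧ H ≤ bipStab Δ) := by
  intro n
  induction n using Nat.strong_induction_on with
  | _ n IH =>
  intro α _ _ H hcard hG hT h2
  by_cases hall : AllIn π n
  · exact Or.inl hall
  right
  by_cases hprim : IsPreprimitive H α
  · exact (prim_contra hG hprim (hcard ▸ h2) (hcard ▸ hall)).elim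
  obtain ⟨ι, _, _, f, b, φ', hb, ha, hfib, heq⟩ := exists_labelling hT hprim
  have hn : n = Fintype.card ι * b := by rw [← hcard]; exact card_eq_of_fib f b hfib
  have hnum : ∀ s : ℕ, s.Prime → s ∈ π →
      s ^ (n !).factorization s ∣ (b !) ^ Fintype.card ι * (Fintype.card ι)! := by
    intro s hs hsπ
    have := label_numerics f b hb hfib φ' heq hG hs hsπ
    rwa [hcard] at this
  have hle : ∀ s : ℕ, s.Prime → s ∈ π → s ≤ n → s ≤ b := by
    intro s hs hsπ hsn
    refine prime_le_block (a := Fintype.card ι) hs hb (hn ▸ hsn) ?_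
    rw [← hn]; exact hnum s hs hsπ
  have h2b : Two π b := by
    obtain ⟨r, s, hr, hs, hrs, hrπ, hsπ, hrn, hsn⟩ := h2
    exact ⟨r, s, hr, hs, hrs, hrπ, hsπ, hle r hr hrπ hrn, hle s hs hsπ hsn⟩
  obtain ⟨i₀, hGA, hTA⟩ := label_block_good f b hb hfib φ' heq hG hT ha
  have hbn : b < n := by rw [hn]; nlinarith
  have IHb := IH b hbn {x // f x = i₀} _ (hfib i₀) hGA hTA h2b
  have hchoose : ∀ s : ℕ, s.Prime → s ∈ π → ¬ s ∣ (2 * b - 1).choose (b - 1) := by
    intro s hs hsπ
    refine not_dvd_of_ordProj_dvd hs (Nat.factorial_ne_zero n) (hnum s hs hsπ) ?_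
    rw [hn]; exact wreath_dvd2 _ b (by omega) ha
  rcases IHb with hAll | ⟨hb8, hP, _⟩
  · have hb3 : 3 ≤ b := by
      obtain ⟨r, s, hr, hs, hrs, _, _, hrb, hsb⟩ := h2b
      have := hr.two_le; have := hs.two_le
      omega
    have hb4 : b = 4 := by
      by_contra hne
      obtain ⟨s, hs, hsb, hsd⟩ := exists_prime_le_dvd_choose (k := b) (m := b - 1)
        (by omega) (by omega) (by omega)
      have e : b + (b - 1) = 2 * b - 1 := by omega
      rw [e] at hsd
      exact hchoose s hs (hAll s hs hsb) hsd
    subst hb4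
    have ha2 : Fintype.card ι = 2 := by
      by_contra hne
      have ha3 : 3 ≤ Fintype.card ι := by omega
      have h3π : 3 ∈ π := hAll 3 Nat.prime_three (by norm_num)
      have := not_dvd_of_ordProj_dvd Nat.prime_three (Nat.factorial_ne_zero n)
        (hnum 3 Nat.prime_three h3π) (by rw [hn]; exact wreath_dvd3 _ 4 (by norm_num) ha3)
      exact this (by decide)
    have hn8 : n = 8 := by rw [hn, ha2]
    refine ⟨hn8, ?_, ?_⟩
    · intro r hr hr8
      constructor
      · intro hrπ
        have h4 := hle r hr hrπ (by omega)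
        interval_cases r <;> first | omega | (exfalso; revert hr; decide)
      · rintro (rfl | rfl)
        · exact hAll 2 Nat.prime_two (by norm_num)
        · exact hAll 3 Nat.prime_three (by norm_num)
    · obtain ⟨i₁⟩ : Nonempty ι := Fintype.card_pos_iff.mp (by omega)
      refine ⟨Finset.univ.filter (fun x => f x = i₁), ?_, ?_⟩
      · rw [← Fintype.card_subtype]; exact hfib i₁
      · intro h hh
        by_cases hfix : φ' ⟨h, hh⟩ i₁ = i₁
        · left
          intro x
          simp only [Finset.mem_filter, Finset.mem_univ, true_and]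
          have := heq ⟨h, hh⟩ x
          simp only at this
          rw [this]
          constructor
          · intro hz; rw [← hfix] at hz; exact (φ' ⟨h, hh⟩).injective hz
          · intro hz; rw [hz, hfix]
        · right
          intro x
          simp only [Finset.mem_filter, Finset.mem_univ, true_and]
          have := heq ⟨h, hh⟩ x
          simp only at this
          rw [this]
          exact perm_two_swap ha2 _ i₁ (f x) hfix
  · exfalso
    have h3π : 3 ∈ π := (hP 3 Nat.prime_three (by norm_num)).mpr (Or.inr rfl)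
    have := hchoose 3 Nat.prime_three h3π
    rw [hb8] at this
    exact this (by decide)

end Cfsg.Agent.Lib.Helper14.Hall
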