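import Mathlib
import Cfsg.Agent.Lib.Helper14.HallTrans

/-!
# Hall subgroups of symmetric groups: the general (intransitive) case (helper14)
-/

set_option autoImplicit false

namespace Cfsg.Agent.Lib.Helper14.Hall

open Equiv Equiv.Perm Nat MulAction
open Cfsg.Agent.Lib.Helper14.HallNT

universe u

variable {α : Type u} [Fintype α] [DecidableEq α]

/-- **Numerics for two disjoint invariant subsets.** -/
theorem Good.not_dvd_choose3 {π : Set ℕ} {H : Subgroup (Perm α)} (hG : Good π H)
    (p p' : α → Prop) [DecidablePred p] [DecidablePred p']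
    (hdisj : ∀ x, p x → ¬ p' x) (hp : Inv H p) (hp' : Inv H p')
    (hk : 2 ≤ Fintype.card {x // p x} ∨ 2 ≤ Fintype.card {x // p' x}) {s : ℕ} (hs : s.Prime)
    (hsπ : s ∈ π) :
    ¬ s ∣ (Fintype.card {x // p x} + Fintype.card {x // p' x}).choose
      (Fintype.card {x // p x}) := by
  classical
  set k := Fintype.card {x // p x} with hkdef
  set m := Fintype.card {x // p' x} with hmdef
  set r := Fintype.card {x // ¬ p x ∧ ¬ p' x} with hrdef
  let f : α → Fin 3 := fun x => if p x then 0 else if p' x then 1 else 2
  have hf0 : ∀ x, f x = 0 ↔ p x := by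
    intro x; simp only [f]; split_ifs <;> simp_all
  have hf1 : ∀ x, f x = 1 ↔ p' x := by
    intro x; simp only [f]
    split_ifs with h1 h2
    · simp; exact hdisj x h1
    · simp [h2]
    · simp [h2]
  have hf2 : ∀ x, f x = 2 ↔ (¬ p x ∧ ¬ p' x) := by
    intro x; simp only [f]; split_ifs <;> simp_all
  have hHY : H ≤ fixf f := by
    intro g hg x
    show (if p (g x) then (0 : Fin 3) else if p' (g x) then 1 else 2) =
      if p x then 0 else if p' x then 1 else 2
    simp only [hp g hg x, hp' g hg x]
  have hYalt : ¬ fixf f ≤ alternatingGroup α := by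
    rcases hk with hk | hk
    · obtain ⟨x, y, hxy⟩ := Fintype.one_lt_card_iff.mp (show 1 < Fintype.card {x // p x} by omega)
      exact fixf_not_le_alt f (x := x.1) (y := y.1) (fun h => hxy (Subtype.ext h))
        (((hf0 _).mpr x.2).trans ((hf0 _).mpr y.2).symm)
    · obtain ⟨x, y, hxy⟩ := Fintype.one_lt_card_iff.mp (show 1 < Fintype.card {x // p' x} by omega)
      exact fixf_not_le_alt f (x := x.1) (y := y.1) (fun h => hxy (Subtype.ext h))
        (((hf1 _).mpr x.2).trans ((hf1 _).mpr y.2).symm)
  have hcard : Nat.card (fixf f) = k ! * m ! * r ! := by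
    rw [card_fixf, Fin.prod_univ_three]
    congr 1
    · congr 1
      · congr 1
        exact Fintype.card_congr (Equiv.subtypeEquivRight hf0)
      · congr 1
        exact Fintype.card_congr (Equiv.subtypeEquivRight hf1)
    · congr 1
      exact Fintype.card_congr (Equiv.subtypeEquivRight hf2)
  have hn : k + m + r = Fintype.card α := by
    have h1 : Fintype.card α = Fintype.card (Σ i, {x // f x = i}) :=
      Fintype.card_congr (Equiv.sigmaFiberEquiv f).symm
    rw [h1, Fintype.card_sigma, Fin.sum_univ_three]
    rw [Fintype.card_congr (Equiv.subtypeEquivRight hf0),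
      Fintype.card_congr (Equiv.subtypeEquivRight hf1),
      Fintype.card_congr (Equiv.subtypeEquivRight hf2)]
  have h1 := hG.pow_dvd_card_of_le hHY hYalt hs hsπ
  rw [hcard] at h1
  have h2 : ¬ s ∣ (k + m).choose k * (k + m + r).choose (k + m) := by
    refine not_dvd_of_ordProj_dvd hs (Nat.factorial_ne_zero _) h1 ?_
    rw [← hn]
    have e1 := Nat.add_choose_mul_factorial_mul_factorial m k
    have e2 := Nat.add_choose_mul_factorial_mul_factorial r (k + m)
    rw [add_comm m k] at e1
    rw [add_comm r (k + m)] at e2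
    refine ⟨1, ?_⟩
    rw [mul_one, ← e2, ← e1]
    ring
  exact fun h => h2 (Dvd.dvd.mul_right h _)

theorem orbP_disjoint (H : Subgroup (Perm α)) {x y : α} (hxy : ¬ orbP H x y) :
    ∀ z, orbP H x z → ¬ orbP H y z := by
  rintro z ⟨g, hg, hgz⟩ ⟨h, hh, hhz⟩
  refine hxy ⟨h⁻¹ * g, H.mul_mem (H.inv_mem hh) hg, ?_⟩
  rw [Perm.mul_apply, hgz, ← hhz]
  exact Equiv.symm_apply_apply h y

theorem card_support_le_orbit {H : Subgroup (Perm α)} {c : Perm α} (hc : c ∈ H)
    (hcyc : c.IsCycle) {x₀ : α} (hx₀ : x₀ ∈ c.support) [DecidablePred (orbP H x₀)] :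
    c.support.card ≤ Fintype.card {y // orbP H x₀ y} := by
  rw [Fintype.card_subtype]
  apply Finset.card_le_card
  intro y hy
  simp only [Finset.mem_filter, Finset.mem_univ, true_and]
  obtain ⟨i, hi⟩ := hcyc.sameCycle (mem_support.mp hx₀) (mem_support.mp hy)
  exact ⟨c ^ i, H.zpow_mem hc i, hi⟩

theorem card_of_cover (p p' : α → Prop) [DecidablePred p] [DecidablePred p']
    (hdisj : ∀ x, p x → ¬ p' x) (hcov : ∀ x, p x ∨ p' x) :
    Fintype.card α = Fintype.card {x // p x} + Fintype.card {x // p' x} := by
  rw [← card_subtype_add_compl (α := α) p]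
  congr 1
  apply Fintype.card_congr
  exact Equiv.subtypeEquivRight fun x =>
    ⟨fun h => (hcov x).resolve_left h, fun h hp => hdisj x hp h⟩

/-- **Thompson's theorem, structural form**, for good subgroups. -/
theorem main_good (π : Set ℕ) (H : Subgroup (Perm α)) (hG : Good π H)
    (h2 : Two π (Fintype.card α)) (hall : ¬ AllIn π (Fintype.card α)) :
    ((Fintype.card α).Prime ∧
        (∀ r : ℕ, r.Prime → r ≤ Fintype.card α → (r ∈ π ↔ r < Fintype.card α)) ∧
        ∃ x : α, H ≤ setStab {x}) ∨
    (Fintype.card α = 7 ∧ P23 π 7 ∧ ∃ Δ : Finset α, Δ.card = 3 ∧ H ≤ setStab Δ) ∨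
    (Fintype.card α = 8 ∧ P23 π 8 ∧ ∃ Δ : Finset α, Δ.card = 4 ∧ H ≤ bipStab Δ) := by
  classical
  by_cases hT : Trans H
  · rcases trans_main π _ α H rfl hG hT h2 with h | h
    · exact absurd h hall
    · exact Or.inr (Or.inr h)
  obtain ⟨r0, s0, hr0, hs0, hrs0, hr0π, hs0π, hr0n, hs0n⟩ := h2
  let P : ℕ → Prop := fun r => r.Prime ∧ r ∈ π
  set q := Nat.findGreatest P (Fintype.card α) with hq
  have hqP : P q := Nat.findGreatest_spec (P := P) hr0n ⟨hr0, hr0π⟩
  have hqn : q ≤ Fintype.card α := Nat.findGreatest_le _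
  have hqmax : ∀ r : ℕ, r.Prime → r ∈ π → r ≤ Fintype.card α → r ≤ q :=
    fun r hr hrπ hrn => Nat.le_findGreatest hrn ⟨hr, hrπ⟩
  have hq3 : 3 ≤ q := by
    have h1 := hqmax r0 hr0 hr0π hr0n
    have h2 := hqmax s0 hs0 hs0π hs0n
    have := hr0.two_le
    have := hs0.two_le
    omega
  obtain ⟨c, hc, hcyc, hcard⟩ := exists_cycle_mem_of_pow_dvd hqP.1 hqn
    (hG.pow_dvd_of_ne_two hqP.1 hqP.2 (by omega))
  obtain ⟨x₀, hx₀⟩ : c.support.Nonempty := hcyc.nonempty_support
  obtain ⟨x₁, -, hx₁⟩ := Finset.exists_max_image Finset.univ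
    (fun x => Fintype.card {y // orbP H x y}) ⟨x₀, Finset.mem_univ _⟩
  set k := Fintype.card {y // orbP H x₁ y} with hk
  have hqk : q ≤ k := by
    calc q = c.support.card := hcard.symm
      _ ≤ Fintype.card {y // orbP H x₀ y} := card_support_le_orbit hc hcyc hx₀
      _ ≤ k := hx₁ x₀ (Finset.mem_univ _)
  have hGA := hG.restrict (orbP H x₁) (orbP_inv H x₁)
  have hTA := trans_res_orbP H x₁
  have h2k : Two π k := ⟨r0, s0, hr0, hs0, hrs0, hr0π, hs0π,
    (hqmax r0 hr0 hr0π hr0n).trans hqk, (hqmax s0 hs0 hs0π hs0n).trans hqk⟩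
  obtain ⟨y₀, hy₀⟩ : ∃ y, ¬ orbP H x₁ y := by
    by_contra hcon
    push Not at hcon
    apply hT
    intro x y
    obtain ⟨g, hg, hgx⟩ := hcon x
    obtain ⟨h, hh, hhy⟩ := hcon y
    refine ⟨h * g⁻¹, H.mul_mem hh (H.inv_mem hg), ?_⟩
    rw [Perm.mul_apply, ← hgx, ← hhy]
    congr 1
    exact Equiv.symm_apply_apply g x₁
  have hposorb : ∀ y, 1 ≤ Fintype.card {z // orbP H y z} := fun y =>
    Fintype.card_pos_iff.mpr ⟨⟨y, orbP_self H y⟩⟩
  rcases trans_main π k _ _ rfl hGA hTA h2k with hAllk | ⟨hk8, hP8, _⟩
  · have keyP : ∀ (p' : α → Prop) [DecidablePred p'], (∀ x, orbP H x₁ x → ¬ p' x) → Inv H p' →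
        2 ≤ Fintype.card {x // p' x} → Fintype.card {x // p' x} ≤ k →
        k = 4 ∧ Fintype.card {x // p' x} = 3 := by
      intro p' _ hdisj hinv hm2 hmk
      by_contra hne
      obtain ⟨s, hs, hsk, hsd⟩ := exists_prime_le_dvd_choose hm2 hmk hne
      have := hG.not_dvd_choose3 (orbP H x₁) p' hdisj (orbP_inv H x₁) hinv (Or.inr hm2) hs
        (hAllk s hs hsk)
      rw [← hk, Nat.choose_symm_add] at this
      exact this hsd
    have horb : ∀ y, ¬ orbP H x₁ y → Fintype.card {z // orbP H y z} = 1 ∨
        (k = 4 ∧ Fintype.card {z // orbP H y z} = 3) := by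
      intro y hy
      have hle := hx₁ y (Finset.mem_univ _)
      have hpos := hposorb y
      by_cases h1 : Fintype.card {z // orbP H y z} = 1
      · exact Or.inl h1
      · exact Or.inr (keyP (orbP H y) (fun z hz hz' => orbP_disjoint H hy z hz hz')
          (orbP_inv H y) (by omega) hle)
    by_cases hex3 : ∃ y, ¬ orbP H x₁ y ∧ Fintype.card {z // orbP H y z} = 3
    · obtain ⟨y, hy, hy3⟩ := hex3
      have hk4 : k = 4 := by
        rcases horb y hy with h | h
        · omega
        · exact h.1
      right; left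
      have h2π : 2 ∈ π := hAllk 2 Nat.prime_two (by omega)
      have hcov : ∀ z, orbP H x₁ z ∨ orbP H y z := by
        by_contra hcon
        push Not at hcon
        obtain ⟨z, hz1, hz2⟩ := hcon
        have hz := horb z hz1
        have hnd := hG.not_dvd_choose3 (orbP H y) (orbP H z)
          (fun w hw hw' => orbP_disjoint H hz2 w hw hw') (orbP_inv H y) (orbP_inv H z)
          (Or.inl (by omega)) Nat.prime_two h2π
        rw [hy3] at hnd
        rcases hz with h | ⟨_, h⟩ <;> rw [h] at hnd <;> exact hnd (by decide)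
      have hn7 : Fintype.card α = 7 := by
        rw [card_of_cover (orbP H x₁) (orbP H y) (fun w hw hw' => orbP_disjoint H hy w hw hw')
          hcov, ← hk, hk4, hy3]
      refine ⟨hn7, ?_, Finset.univ.filter (orbP H y), ?_, ?_⟩
      · intro r hr hr7
        constructor
        · intro hrπ
          have h4 : r ≤ 4 := by
            have := hqmax r hr hrπ (by omega); omega
          interval_cases r <;> first | omega | (exfalso; revert hr; decide)
        · rintro (rfl | rfl)
          · exact h2π
          · exact hAllk 3 Nat.prime_three (by omega)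
      · rw [← Fintype.card_subtype]; exact hy3
      · intro g hg x
        simp only [Finset.mem_filter, Finset.mem_univ, true_and]
        exact orbP_inv H y g hg x
    · push Not at hex3
      have hfixpt : ∀ y, ¬ orbP H x₁ y → ∀ g ∈ H, g y = y := by
        intro y hy g hg
        have h1 : Fintype.card {z // orbP H y z} = 1 := by
          rcases horb y hy with h | h
          · exact h
          · exact absurd h.2 (hex3 y hy)
        obtain ⟨w, hw⟩ := Fintype.card_eq_one_iff.mp h1
        have e1 := hw ⟨y, orbP_self H y⟩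
        have e2 := hw ⟨g y, ⟨g, hg, rfl⟩⟩
        have := e2.trans e1.symm
        exact congrArg Subtype.val this
      have huniq : ∀ y, ¬ orbP H x₁ y → y = y₀ := by
        intro y hy
        by_contra hne
        let p' : α → Prop := fun w => w = y ∨ w = y₀
        have hinv : Inv H p' := by
          intro g hg w
          show (g w = y ∨ g w = y₀) ↔ (w = y ∨ w = y₀)
          have e1 : g w = y ↔ w = y := by
            constructor
            · intro h; rw [← hfixpt y hy g hg] at h; exact g.injective h
            · rintro rfl; exact hfixpt _ hy g hg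
          have e2 : g w = y₀ ↔ w = y₀ := by
            constructor
            · intro h; rw [← hfixpt y₀ hy₀ g hg] at h; exact g.injective h
            · rintro rfl; exact hfixpt _ hy₀ g hg
          rw [e1, e2]
        have hc2 : Fintype.card {w // p' w} = 2 := by
          rw [Fintype.card_subtype]
          have : Finset.univ.filter p' = {y, y₀} := by
            ext w; simp [p']
          rw [this, Finset.card_pair hne]
        have hdisj : ∀ x, orbP H x₁ x → ¬ p' x := by
          rintro x hx (rfl | rfl)
          · exact hy hx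
          · exact hy₀ hx
        have := keyP p' hdisj hinv (by omega) (by omega)
        omega
      left
      have hn1 : Fintype.card α = k + 1 := by
        rw [card_of_cover (orbP H x₁) (fun w => w = y₀) (fun w hw hw' => hy₀ (hw' ▸ hw))
          (fun w => by by_cases h : orbP H x₁ w; exact Or.inl h; exact Or.inr (huniq w h)), ← hk]
        congr 1
        rw [Fintype.card_subtype]
        have : Finset.univ.filter (fun w => w = y₀) = {y₀} := by ext w; simp
        rw [this, Finset.card_singleton]
      have hnall : ∃ r : ℕ, r.Prime ∧ r ≤ Fintype.card α ∧ r ∉ π := by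
        by_contra hcon
        push Not at hcon
        exact hall fun r hr hrn => hcon r hr hrn
      obtain ⟨r, hr, hrn, hrπ⟩ := hnall
      have hrk : k < r := by
        by_contra hle
        exact hrπ (hAllk r hr (by omega))
      have hrn' : r = Fintype.card α := by omega
      refine ⟨hrn' ▸ hr, ?_, y₀, ?_⟩
      · intro t ht htn
        constructor
        · intro htπ
          rcases Nat.lt_or_ge t (Fintype.card α) with h | h
          · exact h
          · exfalso
            have : t = r := by omega
            exact hrπ (this ▸ htπ)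
        · intro htlt
          exact hAllk t ht (by omega)
      · intro g hg x
        simp only [Finset.mem_singleton]
        constructor
        · intro h; rw [← hfixpt y₀ hy₀ g hg] at h; exact g.injective h
        · rintro rfl; exact hfixpt _ hy₀ g hg
  · exfalso
    have h3π : 3 ∈ π := (hP8 3 Nat.prime_three (by norm_num)).mpr (Or.inr rfl)
    have hle := hx₁ y₀ (Finset.mem_univ _)
    have hpos := hposorb y₀
    have hnd := hG.not_dvd_choose3 (orbP H x₁) (orbP H y₀)
      (fun w hw hw' => orbP_disjoint H hy₀ w hw hw') (orbP_inv H x₁) (orbP_inv H y₀)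
      (Or.inl (by omega)) Nat.prime_three h3π
    rw [← hk, hk8] at hnd
    rw [hk8] at hle
    interval_cases (Fintype.card {z // orbP H y₀ z}) <;> exact hnd (by decide)

end Cfsg.Agent.Lib.Helper14.Hall
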