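import Mathlib
import Cfsg.Agent.Lib.Helper14.HallMain
import Cfsg.Agent.Lib.Helper5.HallBip

/-!
# Hall subgroups of symmetric groups: existence of the exceptional Hall subgroups (helper14)
-/

set_option autoImplicit false

namespace Cfsg.Agent.Lib.Helper14.Hall

open Equiv Equiv.Perm Nat
open Cfsg.Agent.Lib.Helper5.HallBip

universe u

variable {α : Type u} [Fintype α] [DecidableEq α]

theorem isPiHall_of_card {π : Set ℕ} {Y : Subgroup (Perm α)} {c idx : ℕ} (hc : Nat.card Y = c)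
    (hmul : c * idx = (Fintype.card α)!)
    (h1 : ∀ p : ℕ, p.Prime → p ∣ c → p ∈ π) (h2 : ∀ p : ℕ, p.Prime → p ∈ π → ¬ p ∣ idx) :
    Cfsg.IsPiHall π Y := by
  have hidx : Y.index = idx := by
    have h := Subgroup.card_mul_index Y
    rw [Nat.card_perm, Nat.card_eq_fintype_card (α := α), hc, ← hmul] at h
    exact Nat.eq_of_mul_eq_mul_left (by rw [← hc]; exact Nat.card_pos) h
  exact ⟨fun p hp hpd => h1 p hp (hc ▸ hpd), fun p hp hpπ => hidx ▸ h2 p hp hpπ⟩

theorem prime_dvd_144 {p : ℕ} (hp : p.Prime) (h : p ∣ 144) : p = 2 ∨ p = 3 := by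
  have e : (144 : ℕ) = 2 ^ 4 * 3 ^ 2 := by norm_num
  rw [e] at h
  rcases (Nat.Prime.dvd_mul hp).mp h with h | h
  · exact Or.inl ((Nat.prime_dvd_prime_iff_eq hp Nat.prime_two).mp (hp.dvd_of_dvd_pow h))
  · exact Or.inr ((Nat.prime_dvd_prime_iff_eq hp Nat.prime_three).mp (hp.dvd_of_dvd_pow h))

theorem prime_dvd_1152 {p : ℕ} (hp : p.Prime) (h : p ∣ 1152) : p = 2 ∨ p = 3 := by
  have e : (1152 : ℕ) = 2 ^ 7 * 3 ^ 2 := by norm_num
  rw [e] at h
  rcases (Nat.Prime.dvd_mul hp).mp h with h | h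
  · exact Or.inl ((Nat.prime_dvd_prime_iff_eq hp Nat.prime_two).mp (hp.dvd_of_dvd_pow h))
  · exact Or.inr ((Nat.prime_dvd_prime_iff_eq hp Nat.prime_three).mp (hp.dvd_of_dvd_pow h))

theorem prime_dvd_35 {p : ℕ} (hp : p.Prime) (h : p ∣ 35) : p = 5 ∨ p = 7 := by
  have e : (35 : ℕ) = 5 * 7 := by norm_num
  rw [e] at h
  rcases (Nat.Prime.dvd_mul hp).mp h with h | h
  · exact Or.inl ((Nat.prime_dvd_prime_iff_eq hp (by norm_num)).mp h)
  · exact Or.inr ((Nat.prime_dvd_prime_iff_eq hp (by norm_num)).mp h)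

/-- Point stabilizers are Hall subgroups when the degree is a prime not in `π` and all smaller
primes are in `π`. -/
theorem isPiHall_point {π : Set ℕ} (hn : (Fintype.card α).Prime)
    (hπ : ∀ r : ℕ, r.Prime → r ≤ Fintype.card α → (r ∈ π ↔ r < Fintype.card α)) (x : α) :
    Cfsg.IsPiHall π (setStab ({x} : Finset α)) := by
  have hc := card_setStab ({x} : Finset α)
  rw [Finset.card_singleton, Nat.factorial_one, one_mul] at hc
  refine isPiHall_of_card (idx := Fintype.card α) hc ?_ ?_ ?_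
  · rw [mul_comm]; exact Nat.mul_factorial_pred hn.pos.ne'
  · intro p hp hpd
    have := (hp.dvd_factorial).mp hpd
    exact (hπ p hp (by omega)).mpr (by have := hn.pos; omega)
  · intro p hp hpπ hpd
    have := (Nat.prime_dvd_prime_iff_eq hp hn).mp hpd
    have h2 := (hπ p hp (by omega)).mp hpπ
    omega

theorem isPiHall_seven {π : Set ℕ} (hn : Fintype.card α = 7) (hπ : P23 π 7) (Δ : Finset α)
    (hΔ : Δ.card = 3) : Cfsg.IsPiHall π (setStab Δ) := by
  have hc := card_setStab Δ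
  rw [hΔ, hn] at hc
  refine isPiHall_of_card (c := 144) (idx := 35) (by rw [hc]; decide) (by rw [hn]; decide) ?_ ?_
  · intro p hp hpd
    rcases prime_dvd_144 hp hpd with rfl | rfl
    · exact (hπ 2 hp (by norm_num)).mpr (Or.inl rfl)
    · exact (hπ 3 hp (by norm_num)).mpr (Or.inr rfl)
  · intro p hp hpπ hpd
    rcases prime_dvd_35 hp hpd with rfl | rfl
    · have := (hπ 5 hp (by norm_num)).mp hpπ; omega
    · have := (hπ 7 hp (by norm_num)).mp hpπ; omega

theorem isPiHall_eight {π : Set ℕ} (hn : Fintype.card α = 8) (hπ : P23 π 8) (Δ : Finset α)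
    (hΔ : Δ.card = 4) : Cfsg.IsPiHall π (bipStab Δ) := by
  have hc := card_bipStab Δ (by rw [hΔ, hn]) (by rw [hΔ]; norm_num)
  rw [hΔ] at hc
  refine isPiHall_of_card (c := 1152) (idx := 35) (by rw [hc]; decide) (by rw [hn]; decide) ?_ ?_
  · intro p hp hpd
    rcases prime_dvd_1152 hp hpd with rfl | rfl
    · exact (hπ 2 hp (by norm_num)).mpr (Or.inl rfl)
    · exact (hπ 3 hp (by norm_num)).mpr (Or.inr rfl)
  · intro p hp hpπ hpd
    rcases prime_dvd_35 hp hpd with rfl | rfl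
    · have := (hπ 5 hp (by norm_num)).mp hpπ; omega
    · have := (hπ 7 hp (by norm_num)).mp hpπ; omega

end Cfsg.Agent.Lib.Helper14.Hall
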