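import Mathlib
import Cfsg.Prelude.Def_HallClasses
import Cfsg.Agent.Lib.Helper14.HallCore

/-!
# Generic lemmas on Hall `π`-subgroups of finite groups (helper14)
-/

set_option autoImplicit false

namespace Cfsg.Agent.Lib.Helper14.Hall

variable {G : Type*} [Group G] [Finite G] {π : Set ℕ}

theorem card_inf_mul_relIndex (H K : Subgroup G) :
    Nat.card (H ⊓ K : Subgroup G) * H.relIndex K = Nat.card K := by
  have h := Subgroup.card_mul_index (H.subgroupOf K)
  rw [← Subgroup.relIndex] at h
  rw [← h]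
  congr 1
  rw [← Subgroup.inf_subgroupOf_right]
  exact (Nat.card_congr (Subgroup.subgroupOfEquivOfLe inf_le_right).toEquiv).symm

/-- A `π`-subgroup containing a Hall `π`-subgroup is equal to it. -/
theorem eq_of_le_of_hall {H Y : Subgroup G} (hH : Cfsg.IsPiHall π H) (hY : PiGrp π Y)
    (hle : H ≤ Y) : H = Y := by
  apply le_antisymm hle
  rw [← Subgroup.relIndex_eq_one]
  by_contra hne
  obtain ⟨p, hp, hpd⟩ := Nat.exists_prime_and_dvd hne
  have hpπ : p ∈ π := hY p hp (hpd.trans (Subgroup.relIndex_dvd_card H Y))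
  have h1 : p ∣ H.index := by
    rw [← Subgroup.relIndex_mul_index hle]
    exact Dvd.dvd.mul_right hpd _
  exact hH.2 p hp hpπ h1

/-- For `N` normal, `[N : H ∩ N]` divides `[G : H]`. -/
theorem relIndex_dvd_index_of_normal_right (H N : Subgroup G) [N.Normal] :
    H.relIndex N ∣ H.index := by
  have h1 := card_inf_mul_relIndex H N
  have h2 := card_inf_mul_relIndex N H
  rw [inf_comm] at h2
  have h3 : N.relIndex (H ⊔ N) = N.relIndex H := Subgroup.relIndex_sup_right H N
  have h4 := card_inf_mul_relIndex N (H ⊔ N)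
  rw [inf_of_le_left (le_sup_right : N ≤ H ⊔ N), h3] at h4
  have h5 : Nat.card (H ⊔ N : Subgroup G) = Nat.card H * H.relIndex N := by
    have hpos : 0 < Nat.card (H ⊓ N : Subgroup G) := Nat.card_pos
    apply Nat.eq_of_mul_eq_mul_left hpos
    calc Nat.card (H ⊓ N : Subgroup G) * Nat.card (H ⊔ N : Subgroup G)
        = Nat.card (H ⊓ N : Subgroup G) * (Nat.card N * N.relIndex H) := by rw [h4]
      _ = (Nat.card (H ⊓ N : Subgroup G) * N.relIndex H) * Nat.card N := by ring
      _ = Nat.card H * (Nat.card (H ⊓ N : Subgroup G) * H.relIndex N) := by rw [h2, h1]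
      _ = _ := by ring
  have h6 := Subgroup.card_mul_index (H ⊔ N)
  have h7 := Subgroup.card_mul_index H
  rw [h5, ← h7, mul_assoc] at h6
  have h8 := Nat.eq_of_mul_eq_mul_left Nat.card_pos h6
  exact Dvd.intro _ h8

/-- The intersection of a Hall subgroup with a normal subgroup is a Hall subgroup of it. -/
theorem isPiHall_subgroupOf_normal {H N : Subgroup G} [N.Normal] (hH : Cfsg.IsPiHall π H) :
    Cfsg.IsPiHall π (H.subgroupOf N) := by
  refine ⟨fun p hp hpd => hH.1 p hp (hpd.trans ?_), fun p hp hpπ hpd => hH.2 p hp hpπ ?_⟩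
  · have : Nat.card (H.subgroupOf N) = Nat.card (H ⊓ N : Subgroup G) := by
      rw [← Subgroup.inf_subgroupOf_right]
      exact Nat.card_congr (Subgroup.subgroupOfEquivOfLe inf_le_right).toEquiv
    rw [this]
    exact Subgroup.card_dvd_of_le inf_le_left
  · exact hpd.trans (relIndex_dvd_index_of_normal_right H N)

theorem isPiSubgroup_iff (K : Subgroup G) : Cfsg.IsPiSubgroup π K ↔ PiGrp π K := Iff.rfl

/-- A Hall subgroup is a maximal `π`-subgroup. -/
theorem maximal_of_hall {H : Subgroup G} (hH : Cfsg.IsPiHall π H) :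
    Maximal (Cfsg.IsPiSubgroup π) H :=
  ⟨hH.1, fun K hK hle => (eq_of_le_of_hall hH hK hle).ge⟩

/-- The full Sylow property implies existence of Hall subgroups. -/
theorem exists_hall_of_D (hD : Cfsg.IsDPiGroup π G) : Cfsg.IsEPiGroup π G := by
  classical
  have hbot : Cfsg.IsPiSubgroup π (⊥ : Subgroup G) := by
    intro p hp hpd
    rw [Subgroup.card_bot] at hpd
    exact absurd (Nat.le_of_dvd one_pos hpd) (by have := hp.two_le; omega)
  obtain ⟨M, -, hM⟩ := Finite.exists_le_maximal (p := Cfsg.IsPiSubgroup π) hbot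
  refine ⟨M, hM.prop, fun p hp hpπ hpd => ?_⟩
  haveI : Fact p.Prime := ⟨hp⟩
  obtain ⟨S⟩ : Nonempty (Sylow p G) := inferInstance
  have hScard : Nat.card S = p ^ (Nat.card G).factorization p := Sylow.card_eq_multiplicity S
  have hSpi : Cfsg.IsPiSubgroup π (S : Subgroup G) := by
    intro q hq hqd
    rw [hScard] at hqd
    have := (Nat.prime_dvd_prime_iff_eq hq hp).mp (hq.dvd_of_dvd_pow hqd)
    exact this ▸ hpπ
  obtain ⟨K, hSK, hK⟩ := Finite.exists_le_maximal (p := Cfsg.IsPiSubgroup π) hSpi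
  obtain ⟨g, hg⟩ := hD M K hM hK
  have hcardK : Nat.card K = Nat.card M := by
    rw [hg]
    exact (Nat.card_congr (M.equivMapOfInjective _ (MulAut.conj g).injective).toEquiv).symm
  have h1 : p ^ (Nat.card G).factorization p ∣ Nat.card M := by
    rw [← hcardK, ← hScard]
    exact Subgroup.card_dvd_of_le hSK
  have h2 : p ^ ((Nat.card G).factorization p + 1) ∣ Nat.card G := by
    rw [pow_succ]
    exact (Nat.mul_dvd_mul h1 hpd).trans (Subgroup.card_mul_index M).dvd
  exact Nat.pow_succ_factorization_not_dvd Nat.card_pos.ne' hp h2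

end Cfsg.Agent.Lib.Helper14.Hall
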