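import Mathlib
import Cfsg.Agent.Lib.Helper14.HallExist
import Cfsg.Agent.Lib.Helper14.HallGen

/-!
# Hall subgroups of symmetric and alternating groups: existence and conjugacy (helper14)
-/

set_option autoImplicit false

namespace Cfsg.Agent.Lib.Helper14.Hall

open Equiv Equiv.Perm Nat
open Cfsg.Agent.Lib.Helper5.HallBip

universe u

section generic

variable {G : Type*} [Group G] [Finite G] {π : Set ℕ}

theorem card_eq_one_of_no_prime {K : Subgroup G} (hK : PiGrp π K)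
    (h : ∀ p : ℕ, p.Prime → p ∣ Nat.card G → p ∉ π) : K = ⊥ := by
  apply Subgroup.eq_bot_of_card_eq
  by_contra hne
  obtain ⟨p, hp, hpd⟩ := Nat.exists_prime_and_dvd hne
  exact h p hp (hpd.trans (Subgroup.card_subgroup_dvd_card K)) (hK p hp hpd)

theorem isPGroup_of_one_prime {K : Subgroup G} (hK : PiGrp π K) {s : ℕ}
    (h : ∀ p : ℕ, p.Prime → p ∣ Nat.card G → p ∈ π → p = s) : IsPGroup s K := by
  have hpow : Nat.card K = s ^ (Nat.card K).primeFactorsList.length := by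
    apply Nat.eq_prime_pow_of_unique_prime_dvd Nat.card_pos.ne'
    intro d hd hdd
    exact h d hd (hdd.trans (Subgroup.card_subgroup_dvd_card K)) (hK d hd hdd)
  exact IsPGroup.of_card hpow

theorem piGrp_of_isPGroup {K : Subgroup G} {s : ℕ} [Fact s.Prime] (hs : s ∈ π)
    (hK : IsPGroup s K) : PiGrp π K := by
  intro p hp hpd
  obtain ⟨k, hk⟩ := IsPGroup.iff_card.mp hK
  rw [hk] at hpd
  have := (Nat.prime_dvd_prime_iff_eq hp (Fact.out : s.Prime)).mp (hp.dvd_of_dvd_pow hpd)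
  exact this ▸ hs

/-- A Hall `π`-subgroup which is an `s`-group (`s ∈ π`) is a Sylow subgroup. -/
theorem exists_sylow_eq {H : Subgroup G} {s : ℕ} [Fact s.Prime] (hs : s ∈ π)
    (hH : Cfsg.IsPiHall π H) (hHp : IsPGroup s H) : ∃ P : Sylow s G, (P : Subgroup G) = H := by
  obtain ⟨P, hP⟩ := hHp.exists_le_sylow
  exact ⟨P, (eq_of_le_of_hall hH (piGrp_of_isPGroup hs P.isPGroup') hP).symm⟩

theorem conj_of_pgroup_hall {H K : Subgroup G} {s : ℕ} [Fact s.Prime] (hs : s ∈ π)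
    (hH : Cfsg.IsPiHall π H) (hK : Cfsg.IsPiHall π K) (hHp : IsPGroup s H)
    (hKp : IsPGroup s K) : ∃ g : G, K = H.map (MulAut.conj g).toMonoidHom := by
  obtain ⟨P, hP⟩ := exists_sylow_eq hs hH hHp
  obtain ⟨P', hP'⟩ := exists_sylow_eq hs hK hKp
  obtain ⟨g, hg⟩ := MulAction.exists_smul_eq G P P'
  refine ⟨g, ?_⟩
  rw [← hP, ← hP', ← hg, Sylow.coe_subgroup_smul]
  rfl

theorem eq_top_of_hall_of_all {H : Subgroup G} (hH : Cfsg.IsPiHall π H)
    (h : ∀ p : ℕ, p.Prime → p ∣ Nat.card G → p ∈ π) : H = ⊤ := by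
  rw [← Subgroup.index_eq_one]
  by_contra hne
  obtain ⟨p, hp, hpd⟩ := Nat.exists_prime_and_dvd hne
  exact hH.2 p hp (h p hp (hpd.trans (Subgroup.index_dvd_card H))) hpd

theorem subgroupOf_conj {N A B : Subgroup G} (g : N)
    (h : B = A.map (MulAut.conj (g : G)).toMonoidHom) :
    B.subgroupOf N = (A.subgroupOf N).map (MulAut.conj g).toMonoidHom := by
  ext x
  simp only [Subgroup.mem_subgroupOf, Subgroup.mem_map, MulEquiv.coe_toMonoidHom,
    MulAut.conj_apply]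
  rw [h]
  simp only [Subgroup.mem_map, MulEquiv.coe_toMonoidHom, MulAut.conj_apply]
  constructor
  · rintro ⟨y, hy, hyx⟩
    refine ⟨g⁻¹ * x * g, ?_, ?_⟩
    · have : ((g⁻¹ * x * g : N) : G) = y := by
        push_cast
        rw [← hyx]; group
      rw [this]; exact hy
    · group
  · rintro ⟨y, hy, hyx⟩
    exact ⟨y, hy, by rw [← hyx]; rfl⟩

end generic

variable {α : Type u} [Fintype α] [DecidableEq α] {π : Set ℕ}

theorem cases_primes (π : Set ℕ) (n : ℕ) :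
    (∀ r : ℕ, r.Prime → r ≤ n → r ∉ π) ∨
    (∃ s : ℕ, s.Prime ∧ s ≤ n ∧ s ∈ π ∧ ∀ r : ℕ, r.Prime → r ≤ n → r ∈ π → r = s) ∨ Two π n := by
  by_cases h1 : ∃ s : ℕ, s.Prime ∧ s ≤ n ∧ s ∈ π
  · obtain ⟨s, hs, hsn, hsπ⟩ := h1
    by_cases h2 : ∃ r : ℕ, r.Prime ∧ r ≤ n ∧ r ∈ π ∧ r ≠ s
    · obtain ⟨r, hr, hrn, hrπ, hrs⟩ := h2
      exact Or.inr (Or.inr ⟨r, s, hr, hs, hrs, hrπ, hsπ, hrn, hsn⟩)
    · push Not at h2
      exact Or.inr (Or.inl ⟨s, hs, hsn, hsπ, fun r hr hrn hrπ => h2 r hr hrn hrπ⟩)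
  · push Not at h1
    exact Or.inl fun r hr hrn hrπ => h1 r hr hrn hrπ

theorem prime_le_of_dvd_card_perm {p : ℕ} (hp : p.Prime) (h : p ∣ Nat.card (Perm α)) :
    p ≤ Fintype.card α := by
  rw [Nat.card_perm, Nat.card_eq_fintype_card] at h
  exact (hp.dvd_factorial).mp h

theorem prime_le_of_dvd_card_alt {p : ℕ} (hp : p.Prime)
    (h : p ∣ Nat.card (alternatingGroup α)) : p ≤ Fintype.card α :=
  prime_le_of_dvd_card_perm hp (h.trans (Subgroup.card_subgroup_dvd_card _))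

/-- The three exceptional cases exclude each other. -/
theorem main_cases_exclusive {n : ℕ} :
    ¬ ((n.Prime ∧ ∀ r : ℕ, r.Prime → r ≤ n → (r ∈ π ↔ r < n)) ∧ (n = 7 ∧ P23 π 7)) ∧
    ¬ ((n.Prime ∧ ∀ r : ℕ, r.Prime → r ≤ n → (r ∈ π ↔ r < n)) ∧ (n = 8 ∧ P23 π 8)) ∧
    ¬ ((n = 7 ∧ P23 π 7) ∧ (n = 8 ∧ P23 π 8)) := by
  refine ⟨?_, ?_, ?_⟩
  · rintro ⟨⟨_, h1⟩, rfl, h2⟩
    have h5 : (5 : ℕ) ∈ π := (h1 5 (by norm_num) (by norm_num)).mpr (by norm_num)
    have := (h2 5 (by norm_num) (by norm_num)).mp h5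
    omega
  · rintro ⟨⟨h1, _⟩, rfl, _⟩
    exact absurd h1 (by decide)
  · rintro ⟨⟨rfl, _⟩, h, _⟩
    omega

/-- Every Hall subgroup of the alternating group lies in a Hall subgroup of the symmetric
group. -/
theorem exists_hall_ge {M : Subgroup (alternatingGroup α)} (hM : Cfsg.IsPiHall π M) :
    ∃ M₀ : Subgroup (Perm α), Cfsg.IsPiHall π M₀ ∧
      M.map (alternatingGroup α).subtype ≤ M₀ := by
  classical
  have hG := good_of_alt hM
  rcases cases_primes π (Fintype.card α) with h0 | ⟨s, hs, hsn, hsπ, h1⟩ | h2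
  · refine ⟨⊥, ⟨?_, ?_⟩, ?_⟩
    · intro p hp hpd
      rw [Subgroup.card_bot] at hpd
      exact absurd (Nat.le_of_dvd one_pos hpd) (by have := hp.two_le; omega)
    · intro p hp hpπ hpd
      rw [Subgroup.index_bot] at hpd
      exact h0 p hp (prime_le_of_dvd_card_perm hp hpd) hpπ
    · rw [card_eq_one_of_no_prime hG.1
        (fun p hp hpd => h0 p hp (prime_le_of_dvd_card_perm hp hpd))]
  · haveI : Fact s.Prime := ⟨hs⟩
    have hp := isPGroup_of_one_prime hG.1 (s := s)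
      (fun p hp hpd hpπ => h1 p hp (prime_le_of_dvd_card_perm hp hpd) hpπ)
    obtain ⟨P, hP⟩ := hp.exists_le_sylow
    refine ⟨P, ⟨piGrp_of_isPGroup hsπ P.isPGroup', ?_⟩, hP⟩
    intro p hp' hpπ hpd
    have hps : p = s := h1 p hp' (prime_le_of_dvd_card_perm hp'
      (hpd.trans (Subgroup.index_dvd_card _))) hpπ
    subst hps
    exact P.not_dvd_index hpd
  · by_cases hall : AllIn π (Fintype.card α)
    · refine ⟨⊤, ⟨?_, ?_⟩, le_top⟩
      · intro p hp hpd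
        rw [Subgroup.card_top] at hpd
        exact hall p hp (prime_le_of_dvd_card_perm hp hpd)
      · intro p hp _ hpd
        rw [Subgroup.index_top] at hpd
        exact absurd (Nat.le_of_dvd one_pos hpd) (by have := hp.two_le; omega)
    · rcases main_good π _ hG h2 hall with ⟨hn, hP, x, hx⟩ | ⟨hn, hP, Δ, hΔ, hx⟩ | ⟨hn, hP, Δ, hΔ, hx⟩
      · exact ⟨_, isPiHall_point hn hP x, hx⟩
      · exact ⟨_, isPiHall_seven hn hP Δ hΔ, hx⟩
      · exact ⟨_, isPiHall_eight hn hP Δ hΔ, hx⟩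

/-- A Hall subgroup of `Alt` is the intersection of `Alt` with a Hall subgroup of `Sym`. -/
theorem exists_hall_eq {M : Subgroup (alternatingGroup α)} (hM : Cfsg.IsPiHall π M) :
    ∃ M₀ : Subgroup (Perm α), Cfsg.IsPiHall π M₀ ∧ M = M₀.subgroupOf (alternatingGroup α) := by
  obtain ⟨M₀, hM₀, hle⟩ := exists_hall_ge hM
  refine ⟨M₀, hM₀, eq_of_le_of_hall hM (isPiHall_subgroupOf_normal hM₀).1 ?_⟩
  intro x hx
  rw [Subgroup.mem_subgroupOf]
  exact hle ⟨x, hx, rfl⟩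

end Cfsg.Agent.Lib.Helper14.Hall
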