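import Mathlib
import Cfsg.Agent.Lib.Helper14.HallAlt

/-!
# Hall subgroups of symmetric and alternating groups: conjugacy (helper14)
-/

set_option autoImplicit false

namespace Cfsg.Agent.Lib.Helper14.Hall

open Equiv Equiv.Perm Nat
open Cfsg.Agent.Lib.Helper5.HallBip

universe u

variable {α : Type u} [Fintype α] [DecidableEq α] {π : Set ℕ}

/-- Structural description of a Hall subgroup in the exceptional range: it is one of the
standard subgroups. -/
theorem hall_eq_standard {H : Subgroup (Perm α)} (hH : Cfsg.IsPiHall π H)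
    (h2 : Two π (Fintype.card α)) (hall : ¬ AllIn π (Fintype.card α)) :
    (((Fintype.card α).Prime ∧
        ∀ r : ℕ, r.Prime → r ≤ Fintype.card α → (r ∈ π ↔ r < Fintype.card α)) ∧
        ∃ x : α, H = setStab {x}) ∨
    ((Fintype.card α = 7 ∧ P23 π 7) ∧ ∃ Δ : Finset α, Δ.card = 3 ∧ H = setStab Δ) ∨
    ((Fintype.card α = 8 ∧ P23 π 8) ∧ ∃ Δ : Finset α, Δ.card = 4 ∧ H = bipStab Δ) := by
  classical
  rcases main_good π H (good_of_isPiHall hH) h2 hall with
    ⟨hn, hP, x, hx⟩ | ⟨hn, hP, Δ, hΔ, hx⟩ | ⟨hn, hP, Δ, hΔ, hx⟩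
  · exact Or.inl ⟨⟨hn, hP⟩, x, eq_of_le_of_hall hH (isPiHall_point hn hP x).1 hx⟩
  · exact Or.inr (Or.inl ⟨⟨hn, hP⟩, Δ, hΔ,
      eq_of_le_of_hall hH (isPiHall_seven hn hP Δ hΔ).1 hx⟩)
  · exact Or.inr (Or.inr ⟨⟨hn, hP⟩, Δ, hΔ,
      eq_of_le_of_hall hH (isPiHall_eight hn hP Δ hΔ).1 hx⟩)

/-- Conjugacy of Hall subgroups of the symmetric group. -/
theorem conj_perm {H K : Subgroup (Perm α)} (hH : Cfsg.IsPiHall π H) (hK : Cfsg.IsPiHall π K) :
    ∃ g : Perm α, K = H.map (MulAut.conj g).toMonoidHom := by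
  classical
  rcases cases_primes π (Fintype.card α) with h0 | ⟨s, hs, hsn, hsπ, h1⟩ | h2
  · have e1 := card_eq_one_of_no_prime hH.1
      (fun p hp hpd => h0 p hp (prime_le_of_dvd_card_perm hp hpd))
    have e2 := card_eq_one_of_no_prime hK.1
      (fun p hp hpd => h0 p hp (prime_le_of_dvd_card_perm hp hpd))
    exact ⟨1, by rw [e1, e2, Subgroup.map_bot]⟩
  · haveI : Fact s.Prime := ⟨hs⟩
    exact conj_of_pgroup_hall hsπ hH hK
      (isPGroup_of_one_prime hH.1
        (fun p hp hpd hpπ => h1 p hp (prime_le_of_dvd_card_perm hp hpd) hpπ))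
      (isPGroup_of_one_prime hK.1
        (fun p hp hpd hpπ => h1 p hp (prime_le_of_dvd_card_perm hp hpd) hpπ))
  · by_cases hall : AllIn π (Fintype.card α)
    · have e1 := eq_top_of_hall_of_all hH
        (fun p hp hpd => hall p hp (prime_le_of_dvd_card_perm hp hpd))
      have e2 := eq_top_of_hall_of_all hK
        (fun p hp hpd => hall p hp (prime_le_of_dvd_card_perm hp hpd))
      refine ⟨1, ?_⟩
      rw [e1, e2]
      exact (Subgroup.map_top_of_surjective _ (MulAut.conj (1 : Perm α)).surjective).symm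
    · have hex := main_cases_exclusive (π := π) (n := Fintype.card α)
      rcases hall_eq_standard hH h2 hall with ⟨k1, x, rfl⟩ | ⟨k2, Δ, hΔ, rfl⟩ | ⟨k3, Δ, hΔ, rfl⟩ <;>
        rcases hall_eq_standard hK h2 hall with ⟨k1', y, rfl⟩ | ⟨k2', Δ', hΔ', rfl⟩ |
          ⟨k3', Δ', hΔ', rfl⟩
      · obtain ⟨g, hg⟩ := exists_perm_finset ({x} : Finset α) {y} (by simp)
        exact ⟨g, setStab_conj _ _ g hg⟩
      · exact absurd ⟨k1, k2'⟩ hex.1
      · exact absurd ⟨k1, k3'⟩ hex.2.1
      · exact absurd ⟨k1', k2⟩ hex.1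
      · obtain ⟨g, hg⟩ := exists_perm_finset Δ Δ' (by rw [hΔ, hΔ'])
        exact ⟨g, setStab_conj _ _ g hg⟩
      · exact absurd ⟨k2, k3'⟩ hex.2.2
      · exact absurd ⟨k1', k3⟩ hex.2.1
      · exact absurd ⟨k2', k3⟩ hex.2.2
      · obtain ⟨g, hg⟩ := exists_perm_finset Δ Δ' (by rw [hΔ, hΔ'])
        exact ⟨g, bipStab_conj _ _ g hg⟩

/-- If `B` is a conjugate of `A ⊄ Alt`, it is conjugate to `A` by an even permutation. -/
theorem exists_even_conj {A B : Subgroup (Perm α)} (g₀ : Perm α)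
    (h : B = A.map (MulAut.conj g₀).toMonoidHom) (hA : ¬ A ≤ alternatingGroup α) :
    ∃ g : alternatingGroup α, B = A.map (MulAut.conj (g : Perm α)).toMonoidHom := by
  by_cases hg : g₀ ∈ alternatingGroup α
  · exact ⟨⟨g₀, hg⟩, h⟩
  · obtain ⟨t, htA, htalt⟩ := SetLike.not_le_iff_exists.mp hA
    have hgt : g₀ * t ∈ alternatingGroup α := by
      rw [Equiv.Perm.mem_alternatingGroup] at hg htalt ⊢
      rw [map_mul]
      rcases Int.units_eq_one_or (sign g₀) with h1 | h1
      · exact absurd h1 hg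
      · rcases Int.units_eq_one_or (sign t) with h2 | h2
        · exact absurd h2 htalt
        · rw [h1, h2]; rfl
    refine ⟨⟨g₀ * t, hgt⟩, ?_⟩
    rw [h]
    ext x
    simp only [Subgroup.mem_map, MulEquiv.coe_toMonoidHom, MulAut.conj_apply]
    constructor
    · rintro ⟨y, hy, rfl⟩
      refine ⟨t⁻¹ * y * t, A.mul_mem (A.mul_mem (A.inv_mem htA) hy) htA, ?_⟩
      group
    · rintro ⟨y, hy, rfl⟩
      refine ⟨t * y * t⁻¹, A.mul_mem (A.mul_mem htA hy) (A.inv_mem htA), ?_⟩
      group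

theorem bipStab_not_le_alt (Δ : Finset α) (h : 2 ≤ Δ.card) : ¬ bipStab Δ ≤ alternatingGroup α :=
  fun hle => setStab_not_le_alt Δ (Or.inl h) ((setStab_le_bipStab Δ).trans hle)

/-- Conjugacy of Hall subgroups of the alternating group. -/
theorem conj_alt {M M' : Subgroup (alternatingGroup α)} (hM : Cfsg.IsPiHall π M)
    (hM' : Cfsg.IsPiHall π M') :
    ∃ g : alternatingGroup α, M' = M.map (MulAut.conj g).toMonoidHom := by
  classical
  rcases cases_primes π (Fintype.card α) with h0 | ⟨s, hs, hsn, hsπ, h1⟩ | h2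
  · have e1 := card_eq_one_of_no_prime hM.1
      (fun p hp hpd => h0 p hp (prime_le_of_dvd_card_alt hp hpd))
    have e2 := card_eq_one_of_no_prime hM'.1
      (fun p hp hpd => h0 p hp (prime_le_of_dvd_card_alt hp hpd))
    exact ⟨1, by rw [e1, e2, Subgroup.map_bot]⟩
  · haveI : Fact s.Prime := ⟨hs⟩
    exact conj_of_pgroup_hall hsπ hM hM'
      (isPGroup_of_one_prime hM.1
        (fun p hp hpd hpπ => h1 p hp (prime_le_of_dvd_card_alt hp hpd) hpπ))
      (isPGroup_of_one_prime hM'.1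
        (fun p hp hpd hpπ => h1 p hp (prime_le_of_dvd_card_alt hp hpd) hpπ))
  · by_cases hall : AllIn π (Fintype.card α)
    · have e1 := eq_top_of_hall_of_all hM
        (fun p hp hpd => hall p hp (prime_le_of_dvd_card_alt hp hpd))
      have e2 := eq_top_of_hall_of_all hM'
        (fun p hp hpd => hall p hp (prime_le_of_dvd_card_alt hp hpd))
      refine ⟨1, ?_⟩
      rw [e1, e2]
      exact (Subgroup.map_top_of_surjective _
        (MulAut.conj (1 : alternatingGroup α)).surjective).symm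
    · obtain ⟨M₀, hM₀, hMeq⟩ := exists_hall_eq hM
      obtain ⟨M₀', hM₀', hMeq'⟩ := exists_hall_eq hM'
      obtain ⟨g₀, hg₀⟩ := conj_perm hM₀ hM₀'
      have hnalt : ¬ M₀ ≤ alternatingGroup α := by
        have hn5 : 5 ≤ Fintype.card α := by
          by_contra hlt
          exact hall (allIn_small h2 (by omega))
        rcases hall_eq_standard hM₀ h2 hall with ⟨_, x, rfl⟩ | ⟨k2, Δ, hΔ, rfl⟩ | ⟨_, Δ, hΔ, rfl⟩
        · apply setStab_not_le_alt
          right
          rw [Finset.card_singleton]; omega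
        · apply setStab_not_le_alt
          left; omega
        · apply bipStab_not_le_alt
          omega
      obtain ⟨g, hg⟩ := exists_even_conj g₀ hg₀ hnalt
      refine ⟨g, ?_⟩
      rw [hMeq, hMeq']
      exact subgroupOf_conj g hg

end Cfsg.Agent.Lib.Helper14.Hall
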