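import Mathlib
import Cfsg.Agent.Lib.Helper14.HallConj
import Cfsg.Agent.Lib.Helper5.HallCex

/-!
# The full Sylow property `D_π` for alternating groups (helper14)
-/

set_option autoImplicit false

namespace Cfsg.Agent.Lib.Helper14.Hall

open Equiv Equiv.Perm Nat
open Cfsg.Agent.Lib.Helper5.HallBip Cfsg.Agent.Lib.Helper5.HallCex

universe u

section generic

variable {G : Type*} [Group G] [Finite G] {π : Set ℕ}

/-- Maximal `π`-subgroups which are `s`-groups (`s ∈ π`) are Sylow, hence conjugate. -/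
theorem conj_of_maximal_pgroup {H K : Subgroup G} {s : ℕ} [Fact s.Prime] (hs : s ∈ π)
    (hH : Maximal (Cfsg.IsPiSubgroup π) H) (hK : Maximal (Cfsg.IsPiSubgroup π) K)
    (hHp : IsPGroup s H) (hKp : IsPGroup s K) :
    ∃ g : G, K = H.map (MulAut.conj g).toMonoidHom := by
  obtain ⟨P, hP⟩ := hHp.exists_le_sylow
  obtain ⟨P', hP'⟩ := hKp.exists_le_sylow
  have e1 : (P : Subgroup G) = H :=
    le_antisymm (hH.2 (piGrp_of_isPGroup hs P.isPGroup') hP) hP
  have e2 : (P' : Subgroup G) = K :=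
    le_antisymm (hK.2 (piGrp_of_isPGroup hs P'.isPGroup') hP') hP'
  obtain ⟨g, hg⟩ := MulAction.exists_smul_eq G P P'
  refine ⟨g, ?_⟩
  rw [← e1, ← e2, ← hg, Sylow.coe_subgroup_smul]
  rfl

end generic

variable {α : Type u} [Fintype α] [DecidableEq α] {π : Set ℕ}

theorem prime_dvd_card_alt_iff (hn : 4 ≤ Fintype.card α) {r : ℕ} (hr : r.Prime) :
    r ∣ Nat.card (alternatingGroup α) ↔ r ≤ Fintype.card α := by
  constructor
  · exact prime_le_of_dvd_card_alt hr
  · intro hrn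
    have := allIn_of_alt_le (π := {p | p ∣ Nat.card (alternatingGroup α)})
      (H := alternatingGroup α) (fun p _ hpd => hpd) le_rfl hn
    exact this r hr hrn

/-- `D_π` holds for `Alt α` when at most one prime of `π` is `≤ n`, or all are. -/
theorem dpi_alt_of_easy (h : ¬ Two π (Fintype.card α) ∨ AllIn π (Fintype.card α)) :
    Cfsg.IsDPiGroup π (alternatingGroup α) := by
  classical
  intro H K hH hK
  rcases h with h | h
  · rcases cases_primes π (Fintype.card α) with h0 | ⟨s, hs, hsn, hsπ, h1⟩ | h2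
    · have e1 := card_eq_one_of_no_prime hH.prop
        (fun p hp hpd => h0 p hp (prime_le_of_dvd_card_alt hp hpd))
      have e2 := card_eq_one_of_no_prime hK.prop
        (fun p hp hpd => h0 p hp (prime_le_of_dvd_card_alt hp hpd))
      exact ⟨1, by rw [e1, e2, Subgroup.map_bot]⟩
    · haveI : Fact s.Prime := ⟨hs⟩
      exact conj_of_maximal_pgroup hsπ hH hK
        (isPGroup_of_one_prime hH.prop
          (fun p hp hpd hpπ => h1 p hp (prime_le_of_dvd_card_alt hp hpd) hpπ))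
        (isPGroup_of_one_prime hK.prop
          (fun p hp hpd hpπ => h1 p hp (prime_le_of_dvd_card_alt hp hpd) hpπ))
    · exact absurd h2 h
  · have htop : Cfsg.IsPiSubgroup π (⊤ : Subgroup (alternatingGroup α)) := by
      intro p hp hpd
      rw [Subgroup.card_top] at hpd
      exact h p hp (prime_le_of_dvd_card_alt hp hpd)
    have e1 : H = ⊤ := top_le_iff.mp (hH.2 htop le_top)
    have e2 : K = ⊤ := top_le_iff.mp (hK.2 htop le_top)
    refine ⟨1, ?_⟩
    rw [e1, e2]
    exact (Subgroup.map_top_of_surjective _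
      (MulAut.conj (1 : alternatingGroup α)).surjective).symm

/-- Under `D_π`, every `{2,3}`-subgroup `Q ≤ Alt` (with `2, 3 ∈ π`) lies in a conjugate (by an even
permutation) of any Hall subgroup `M`. -/
theorem le_conj_of_D (hD : Cfsg.IsDPiGroup π (alternatingGroup α))
    {M : Subgroup (alternatingGroup α)} (hM : Cfsg.IsPiHall π M) (h2 : 2 ∈ π) (h3 : 3 ∈ π)
    {Q : Subgroup (Perm α)} (hQalt : Q ≤ alternatingGroup α)
    (hQ : ∀ p : ℕ, p.Prime → p ∣ Nat.card Q → p = 2 ∨ p = 3) :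
    ∃ g : Perm α, ∀ q ∈ Q, ∃ m ∈ M.map (alternatingGroup α).subtype, q = g * m * g⁻¹ := by
  classical
  have hQ' : Cfsg.IsPiSubgroup π (Q.subgroupOf (alternatingGroup α)) := by
    intro p hp hpd
    have hc : Nat.card (Q.subgroupOf (alternatingGroup α)) = Nat.card Q :=
      Nat.card_congr (Subgroup.subgroupOfEquivOfLe hQalt).toEquiv
    rw [hc] at hpd
    rcases hQ p hp hpd with rfl | rfl
    · exact h2
    · exact h3
  obtain ⟨K, hQK, hK⟩ := Finite.exists_le_maximal (p := Cfsg.IsPiSubgroup π) hQ'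
  obtain ⟨g, hg⟩ := hD M K (maximal_of_hall hM) hK
  refine ⟨g, fun q hq => ?_⟩
  have hqK : (⟨q, hQalt hq⟩ : alternatingGroup α) ∈ K := hQK (by
    rw [Subgroup.mem_subgroupOf]; exact hq)
  rw [hg] at hqK
  obtain ⟨m, hm, hmq⟩ := hqK
  refine ⟨m, ⟨m, hm, rfl⟩, ?_⟩
  have := congrArg Subtype.val hmq
  simp only [MulEquiv.coe_toMonoidHom, MulAut.conj_apply] at this
  exact this.symm

theorem le_setStab_map_of_conj {Q Y : Subgroup (Perm α)} (Δ : Finset α) (g : Perm α)
    (hY : Y ≤ setStab Δ) (h : ∀ q ∈ Q, ∃ m ∈ Y, q = g * m * g⁻¹) :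
    Q ≤ setStab (Δ.map g.toEmbedding) := by
  rw [setStab_conj Δ (Δ.map g.toEmbedding) g (by intro x; simp)]
  intro q hq
  obtain ⟨m, hm, rfl⟩ := h q hq
  exact ⟨m, hY hm, rfl⟩

theorem le_bipStab_map_of_conj {Q Y : Subgroup (Perm α)} (Δ : Finset α) (g : Perm α)
    (hY : Y ≤ bipStab Δ) (h : ∀ q ∈ Q, ∃ m ∈ Y, q = g * m * g⁻¹) :
    Q ≤ bipStab (Δ.map g.toEmbedding) := by
  rw [bipStab_conj Δ (Δ.map g.toEmbedding) g (by intro x; simp)]
  intro q hq
  obtain ⟨m, hm, rfl⟩ := h q hq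
  exact ⟨m, hY hm, rfl⟩

/-- `D_π` fails for `Alt (Fin n)`, `n ≥ 5`, when at least two but not all primes `≤ n` lie in `π`. -/
theorem not_D_of_hard {n : ℕ} (hn : 5 ≤ n) {π : Set ℕ}
    (hD : Cfsg.IsDPiGroup π (alternatingGroup (Fin n)))
    (h2 : Two π n) (hall : ¬ AllIn π n) : False := by
  classical
  obtain ⟨M, hM⟩ := exists_hall_of_D hD
  have hc : Fintype.card (Fin n) = n := Fintype.card_fin n
  rcases main_good π (M.map (alternatingGroup (Fin n)).subtype) (good_of_alt hM)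
      (by rw [hc]; exact h2) (by rw [hc]; exact hall) with
    ⟨hp, hπ, x, hx⟩ | ⟨h7, hP, Δ, hΔ, hle⟩ | ⟨h8, hP, Δ, hΔ, hle⟩
  · rw [hc] at hp hπ
    have hodd : n % 2 = 1 := by
      rcases hp.eq_two_or_odd with h | h
      · omega
      · exact h
    have h2π : 2 ∈ π := (hπ 2 Nat.prime_two (by omega)).mpr (by omega)
    have h3π : 3 ∈ π := (hπ 3 Nat.prime_three (by omega)).mpr (by omega)
    obtain ⟨Q, hQalt, hQ, hfpf⟩ := exists_fpf_23 n hodd hn
    obtain ⟨g, hg⟩ := le_conj_of_D hD hM h2π h3π hQalt hQ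
    have hQle := le_setStab_map_of_conj {x} g hx hg
    obtain ⟨q, hq, hqx⟩ := hfpf (g x)
    have := (mem_setStab _ q).mp (hQle hq) (g x)
    simp only [Finset.map_singleton, Equiv.coe_toEmbedding, Finset.mem_singleton,
      iff_true] at this
    exact hqx this
  · rw [hc] at h7
    subst h7
    have h2π : 2 ∈ π := (hP 2 Nat.prime_two (by omega)).mpr (Or.inl rfl)
    have h3π : 3 ∈ π := (hP 3 Nat.prime_three (by omega)).mpr (Or.inr rfl)
    obtain ⟨Q, hQalt, hQ, hno⟩ := exists_no3_23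
    obtain ⟨g, hg⟩ := le_conj_of_D hD hM h2π h3π hQalt hQ
    exact hno _ (by rw [Finset.card_map]; exact hΔ) (le_setStab_map_of_conj Δ g hle hg)
  · rw [hc] at h8
    subst h8
    have h2π : 2 ∈ π := (hP 2 Nat.prime_two (by omega)).mpr (Or.inl rfl)
    have h3π : 3 ∈ π := (hP 3 Nat.prime_three (by omega)).mpr (Or.inr rfl)
    obtain ⟨Q, hQalt, hQ, hno⟩ := exists_nobip_23
    obtain ⟨g, hg⟩ := le_conj_of_D hD hM h2π h3π hQalt hQ
    exact hno _ (by rw [Finset.card_map]; exact hΔ) (le_bipStab_map_of_conj Δ g hle hg)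

/-- `D_π(A_n)`, `n ≥ 5`, in terms of `Two` / `AllIn`. -/
theorem dpi_alt_iff {n : ℕ} (hn : 5 ≤ n) (π : Set ℕ) :
    Cfsg.IsDPiGroup π (alternatingGroup (Fin n)) ↔ (¬ Two π n ∨ AllIn π n) := by
  constructor
  · intro hD
    by_contra hcon
    rw [not_or, not_not] at hcon
    exact not_D_of_hard hn hD hcon.1 hcon.2
  · intro h
    have := dpi_alt_of_easy (α := Fin n) (π := π) (by rw [Fintype.card_fin]; exact h)
    exact this

end Cfsg.Agent.Lib.Helper14.Hall
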