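/-
helper14: S4715 leaf (FR) in `_of` form: a conjugating element `g` with `g.(majBlock z) = majBlock z'`
can be replaced by one in `N_G(D)` (conjugacy of the defect groups of `majBlock z` inside `C_G(z)`).
Hypotheses = block-ness of the two blocks (from EX) and (FD) for `z`, `z'`.
-/
import Mathlib
import Cfsg.Agent.Lib.Helper6.HtBoundDefs
import Cfsg.Agent.Lib.Helper6.BlockIso
import Cfsg.Agent.Lib.Helper23.PairIndB

set_option autoImplicit false

namespace Cfsg.Agent.Lib.Helper14.HtBoundFRof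

open Cfsg Cfsg.Agent.CharLib Cfsg.Agent.Lib.Helper24 Cfsg.Agent.Lib.Helper6 Cfsg.Agent.Lib.Helper23
open Cfsg.Agent.Lib.Helper6.HtBound
open scoped ComplexConjugate

universe u

variable {G : Type u} [Group G] [Fintype G] {M : Ideal AlgInt} {p : ℕ} [hpp : Fact p.Prime]

/-- general form: two blocks `β` of `C_G(z)`, `β'` of `C_G(z')` with defect group `D`. -/
theorem exists_normalizer_conj_gen (hM : IsPModular p M) (D : Subgroup G)
    (z z' g : G) (hzc' : ∀ x ∈ D, x * z' = z' * x) (hzz' : z' = g * z * g⁻¹)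
    (β : Set (IrrCharacter (Cz z))) (β' : Set (IrrCharacter (Cz z')))
    (hβ : IsPBlock M β) (hβ' : IsPBlock M β')
    (hFD : IsDefectGroup p M β (D.subgroupOf (Cz z)))
    (hFD' : IsDefectGroup p M β' (D.subgroupOf (Cz z')))
    (hzc : ∀ x ∈ D, x * z = z * x)
    (hconj : BlockConjTo g β β') :
    ∃ n ∈ Subgroup.normalizer (D : Set G), z' = n * z * n⁻¹ ∧ BlockConjTo n β β' := by
  classical
  have hprime : M.IsPrime := isPrime_of_isPModular hM
  have hX : ∀ x : G, x ∈ Cz z ↔ g * x * g⁻¹ ∈ Cz z' := by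
    intro x
    rw [Subgroup.mem_centralizer_singleton_iff, Subgroup.mem_centralizer_singleton_iff, hzz']
    constructor
    · intro h
      calc g * x * g⁻¹ * (g * z * g⁻¹) = g * (x * z) * g⁻¹ := by group
        _ = g * (z * x) * g⁻¹ := by rw [h]
        _ = g * z * g⁻¹ * (g * x * g⁻¹) := by group
    · intro h
      have h2 : g⁻¹ * (g * x * g⁻¹ * (g * z * g⁻¹)) * g = g⁻¹ * (g * z * g⁻¹ * (g * x * g⁻¹)) * g := by
        rw [h]
      calc x * z = g⁻¹ * (g * x * g⁻¹ * (g * z * g⁻¹)) * g := by group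
        _ = g⁻¹ * (g * z * g⁻¹ * (g * x * g⁻¹)) * g := h2
        _ = z * x := by group
  set ψ := cjX g (Cz z) (Cz z') hX with hψ
  let _ : Fintype (Cz z) := Fintype.ofFinite _
  -- `β` is the pull-back of `β'`
  have hβne : β.Nonempty := by
    obtain ⟨χ, rfl⟩ := hβ
    exact ⟨χ, mem_blockOf_self χ⟩
  have hpull : BlockIso.pullBlock ψ β' = β := by
    obtain ⟨ζ, hζ⟩ := hβne
    obtain ⟨ζ', hζ', hval⟩ := hconj ζ hζ
    have hζeq : ζ = irrCompIso ψ ζ' := by
      apply Subtype.ext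
      funext c
      rw [irrCompIso_apply]
      exact (hval c (ψ c) (cjX_coe g (Cz z) (Cz z') hX c)).symm
    have hmem : ζ ∈ BlockIso.pullBlock ψ β' := by
      rw [hζeq]
      exact BlockIso.irrCompIso_mem_pullBlock ψ hζ'
    exact isPBlock_eq_of_mem (BlockIso.isPBlock_pullBlock ψ hβ') hβ hmem hζ
  -- the two defect groups of `β`
  have hD2 : IsDefectGroup p M β ((D.subgroupOf (Cz z')).comap ψ.toMonoidHom) := by
    have := BlockIso.isDefectGroup_pullBlock (p := p) (M := M) ψ hFD'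
    rwa [hpull] at this
  obtain ⟨x, hx⟩ := PairInd.exists_conj_eq_of_isDefectGroup hM β hβ _ _ hFD hD2
  -- `D ≤ C_G(z)`, `D ≤ C_G(z')`
  have hDX : D ≤ Cz z := by
    intro d hd
    rw [Subgroup.mem_centralizer_singleton_iff]
    exact hzc d hd
  have hDX' : D ≤ Cz z' := by
    intro d hd
    rw [Subgroup.mem_centralizer_singleton_iff]
    exact hzc' d hd
  -- the element `m = x g⁻¹` maps `D` into `D`
  have hm : ∀ d ∈ D, (x : G) * g⁻¹ * d * g * (x : G)⁻¹ ∈ D := by
    intro d hd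
    have hdX : g⁻¹ * d * g ∈ Cz z := by
      rw [hX]
      have : g * (g⁻¹ * d * g) * g⁻¹ = d := by group
      rw [this]
      exact hDX' hd
    have h1 : (⟨g⁻¹ * d * g, hdX⟩ : Cz z) ∈ (D.subgroupOf (Cz z')).comap ψ.toMonoidHom := by
      rw [Subgroup.mem_comap, Subgroup.mem_subgroupOf]
      change ((ψ ⟨g⁻¹ * d * g, hdX⟩ : Cz z') : G) ∈ D
      rw [hψ, cjX_coe]
      have : g * (g⁻¹ * d * g) * g⁻¹ = d := by group
      change g * (g⁻¹ * d * g) * g⁻¹ ∈ D
      rw [this]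
      exact hd
    have h2 : (MulAut.conj x).toMonoidHom ⟨g⁻¹ * d * g, hdX⟩ ∈ D.subgroupOf (Cz z) := by
      rw [← hx]
      exact Subgroup.mem_map_of_mem _ h1
    rw [Subgroup.mem_subgroupOf] at h2
    have h3 : (((MulAut.conj x).toMonoidHom ⟨g⁻¹ * d * g, hdX⟩ : Cz z) : G) =
        (x : G) * g⁻¹ * d * g * (x : G)⁻¹ := by
      change (x : G) * (g⁻¹ * d * g) * (x : G)⁻¹ = _
      group
    rw [h3] at h2
    exact h2
  -- `n = g x⁻¹ = m⁻¹`
  have hmN : (x : G) * g⁻¹ ∈ Subgroup.normalizer (D : Set G) := by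
    have hle : D.map (MulAut.conj ((x : G) * g⁻¹)).toMonoidHom ≤ D := by
      rintro _ ⟨d, hd, rfl⟩
      have := hm d hd
      change (x : G) * g⁻¹ * d * ((x : G) * g⁻¹)⁻¹ ∈ D
      have e : (x : G) * g⁻¹ * d * ((x : G) * g⁻¹)⁻¹ = (x : G) * g⁻¹ * d * g * (x : G)⁻¹ := by group
      rw [e]
      exact this
    have hcard : Nat.card D ≤ Nat.card (D.map (MulAut.conj ((x : G) * g⁻¹)).toMonoidHom) := by
      rw [Subgroup.card_map_of_injective (MulAut.conj ((x : G) * g⁻¹)).injective]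
    have heq : D.map (MulAut.conj ((x : G) * g⁻¹)).toMonoidHom = D :=
      Subgroup.eq_of_le_of_card_ge hle hcard
    rw [Subgroup.mem_normalizer_iff]
    intro d
    constructor
    · intro hd
      rw [← heq]
      exact ⟨d, hd, rfl⟩
    · intro hd
      rw [← heq] at hd
      obtain ⟨d', hd', hdd'⟩ := hd
      have : d' = d := by
        have h1 : (x : G) * g⁻¹ * d' * ((x : G) * g⁻¹)⁻¹ = (x : G) * g⁻¹ * d * ((x : G) * g⁻¹)⁻¹ := hdd'
        exact mul_left_cancel (mul_right_cancel h1)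
      rw [← this]
      exact hd'
  refine ⟨g * (x : G)⁻¹, ?_, ?_, ?_⟩
  · have : g * (x : G)⁻¹ = ((x : G) * g⁻¹)⁻¹ := by group
    rw [this]
    exact Subgroup.inv_mem _ hmN
  · have hxz : (x : G) * z = z * (x : G) := Subgroup.mem_centralizer_singleton_iff.mp x.2
    have hxz' : (x : G)⁻¹ * z * (x : G) = z := by
      calc (x : G)⁻¹ * z * (x : G) = (x : G)⁻¹ * (z * (x : G)) := by group
        _ = (x : G)⁻¹ * ((x : G) * z) := by rw [hxz]
        _ = z := by group
    calc z' = g * z * g⁻¹ := hzz'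
      _ = g * ((x : G)⁻¹ * z * (x : G)) * g⁻¹ := by rw [hxz']
      _ = g * (x : G)⁻¹ * z * (g * (x : G)⁻¹)⁻¹ := by group
  · intro ζ hζ
    obtain ⟨ζ', hζ', hval⟩ := hconj ζ hζ
    refine ⟨ζ', hζ', ?_⟩
    intro c c' hcc'
    have hcl : IsClassFunction (Cz z) (ζ : Cz z → ℂ) :=
      IsCharacter.isClassFunction (IsIrrCharacter.isCharacter ζ.2)
    have h1 := hval (x⁻¹ * c * x⁻¹⁻¹) c' (by
      rw [hcc']
      push_cast
      group)
    rw [h1]
    exact hcl c x⁻¹

/-- (FR) in `_of` form: `hEX` = what is needed of (EX), `hFD` = (FD). -/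
theorem exists_normalizer_conj_of (hM : IsPModular p M) (D : Subgroup G) (H : Subgroup G)
    (b : Set (IrrCharacter H))
    (hEX : ∀ z ∈ D, (∀ x ∈ D, x * z = z * x) →
      ∃ β : Set (IrrCharacter (Cz z)), IsInducedBlockIn M (Cz z) H b β)
    (hFD : ∀ z ∈ D, (∀ x ∈ D, x * z = z * x) →
      IsDefectGroup p M (majBlock M H b z) (D.subgroupOf (Cz z)))
    (z z' g : G) (hzD : z ∈ D) (hzc : ∀ x ∈ D, x * z = z * x)
    (hzD' : z' ∈ D) (hzc' : ∀ x ∈ D, x * z' = z' * x) (hzz' : z' = g * z * g⁻¹)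
    (hconj : BlockConjTo g (majBlock M H b z) (majBlock M H b z')) :
    ∃ n ∈ Subgroup.normalizer (D : Set G), z' = n * z * n⁻¹ ∧
      BlockConjTo n (majBlock M H b z) (majBlock M H b z') :=
  exists_normalizer_conj_gen hM D z z' g hzc' hzz' _ _
    (majBlock_spec (hEX z hzD hzc)).2.1 (majBlock_spec (hEX z' hzD' hzc')).2.1
    (hFD z hzD hzc) (hFD z' hzD' hzc') hzc hconj

end Cfsg.Agent.Lib.Helper14.HtBoundFRof
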