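import Mathlib
import Cfsg.Prelude.Def_Spor_J2

set_option autoImplicit false

/-!
Icosian model, part A: quaternions over `ℤ[τ]` in doubled coordinates (`x = ½ Σ (aₘ + bₘ τ) eₘ`),
the embedding into `ℍ[ℝ]`, the product formula and injectivity.
-/

namespace Cfsg.Agent.Lib.Helper14.J2

open Quaternion Cfsg.Spor

/-- doubled coordinates of a quaternion with coefficients in `½ ℤ[τ]` -/
@[ext] structure ZQ where
  a0 : ℤ
  b0 : ℤ
  a1 : ℤ
  b1 : ℤ
  a2 : ℤ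
  b2 : ℤ
  a3 : ℤ
  b3 : ℤ
  deriving DecidableEq

namespace ZQ

instance : Zero ZQ := ⟨⟨0, 0, 0, 0, 0, 0, 0, 0⟩⟩

instance : Add ZQ :=
  ⟨fun p q => ⟨p.a0 + q.a0, p.b0 + q.b0, p.a1 + q.a1, p.b1 + q.b1, p.a2 + q.a2, p.b2 + q.b2,
    p.a3 + q.a3, p.b3 + q.b3⟩⟩

instance : Neg ZQ :=
  ⟨fun p => ⟨-p.a0, -p.b0, -p.a1, -p.b1, -p.a2, -p.b2, -p.a3, -p.b3⟩⟩

instance : Sub ZQ :=
  ⟨fun p q => ⟨p.a0 - q.a0, p.b0 - q.b0, p.a1 - q.a1, p.b1 - q.b1, p.a2 - q.a2, p.b2 - q.b2,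
    p.a3 - q.a3, p.b3 - q.b3⟩⟩

/-- integer multiples -/
def zs (n : ℤ) (p : ZQ) : ZQ :=
  ⟨n * p.a0, n * p.b0, n * p.a1, n * p.b1, n * p.a2, n * p.b2, n * p.a3, n * p.b3⟩

@[simp] theorem zero_a0 : (0 : ZQ).a0 = 0 := rfl
@[simp] theorem zero_b0 : (0 : ZQ).b0 = 0 := rfl
@[simp] theorem zero_a1 : (0 : ZQ).a1 = 0 := rfl
@[simp] theorem zero_b1 : (0 : ZQ).b1 = 0 := rfl
@[simp] theorem zero_a2 : (0 : ZQ).a2 = 0 := rfl
@[simp] theorem zero_b2 : (0 : ZQ).b2 = 0 := rfl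
@[simp] theorem zero_a3 : (0 : ZQ).a3 = 0 := rfl
@[simp] theorem zero_b3 : (0 : ZQ).b3 = 0 := rfl

@[simp] theorem add_a0 (p q : ZQ) : (p + q).a0 = p.a0 + q.a0 := rfl
@[simp] theorem add_b0 (p q : ZQ) : (p + q).b0 = p.b0 + q.b0 := rfl
@[simp] theorem add_a1 (p q : ZQ) : (p + q).a1 = p.a1 + q.a1 := rfl
@[simp] theorem add_b1 (p q : ZQ) : (p + q).b1 = p.b1 + q.b1 := rfl
@[simp] theorem add_a2 (p q : ZQ) : (p + q).a2 = p.a2 + q.a2 := rfl
@[simp] theorem add_b2 (p q : ZQ) : (p + q).b2 = p.b2 + q.b2 := rfl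
@[simp] theorem add_a3 (p q : ZQ) : (p + q).a3 = p.a3 + q.a3 := rfl
@[simp] theorem add_b3 (p q : ZQ) : (p + q).b3 = p.b3 + q.b3 := rfl

@[simp] theorem neg_a0 (p : ZQ) : (-p).a0 = -p.a0 := rfl
@[simp] theorem neg_b0 (p : ZQ) : (-p).b0 = -p.b0 := rfl
@[simp] theorem neg_a1 (p : ZQ) : (-p).a1 = -p.a1 := rfl
@[simp] theorem neg_b1 (p : ZQ) : (-p).b1 = -p.b1 := rfl
@[simp] theorem neg_a2 (p : ZQ) : (-p).a2 = -p.a2 := rfl
@[simp] theorem neg_b2 (p : ZQ) : (-p).b2 = -p.b2 := rfl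
@[simp] theorem neg_a3 (p : ZQ) : (-p).a3 = -p.a3 := rfl
@[simp] theorem neg_b3 (p : ZQ) : (-p).b3 = -p.b3 := rfl

@[simp] theorem sub_a0 (p q : ZQ) : (p - q).a0 = p.a0 - q.a0 := rfl
@[simp] theorem sub_b0 (p q : ZQ) : (p - q).b0 = p.b0 - q.b0 := rfl
@[simp] theorem sub_a1 (p q : ZQ) : (p - q).a1 = p.a1 - q.a1 := rfl
@[simp] theorem sub_b1 (p q : ZQ) : (p - q).b1 = p.b1 - q.b1 := rfl
@[simp] theorem sub_a2 (p q : ZQ) : (p - q).a2 = p.a2 - q.a2 := rfl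
@[simp] theorem sub_b2 (p q : ZQ) : (p - q).b2 = p.b2 - q.b2 := rfl
@[simp] theorem sub_a3 (p q : ZQ) : (p - q).a3 = p.a3 - q.a3 := rfl
@[simp] theorem sub_b3 (p q : ZQ) : (p - q).b3 = p.b3 - q.b3 := rfl

@[simp] theorem zs_a0 (n : ℤ) (p : ZQ) : (zs n p).a0 = n * p.a0 := rfl
@[simp] theorem zs_b0 (n : ℤ) (p : ZQ) : (zs n p).b0 = n * p.b0 := rfl
@[simp] theorem zs_a1 (n : ℤ) (p : ZQ) : (zs n p).a1 = n * p.a1 := rfl
@[simp] theorem zs_b1 (n : ℤ) (p : ZQ) : (zs n p).b1 = n * p.b1 := rfl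
@[simp] theorem zs_a2 (n : ℤ) (p : ZQ) : (zs n p).a2 = n * p.a2 := rfl
@[simp] theorem zs_b2 (n : ℤ) (p : ZQ) : (zs n p).b2 = n * p.b2 := rfl
@[simp] theorem zs_a3 (n : ℤ) (p : ZQ) : (zs n p).a3 = n * p.a3 := rfl
@[simp] theorem zs_b3 (n : ℤ) (p : ZQ) : (zs n p).b3 = n * p.b3 := rfl

/-- conjugate -/
def conj (p : ZQ) : ZQ := ⟨p.a0, p.b0, -p.a1, -p.b1, -p.a2, -p.b2, -p.a3, -p.b3⟩

/-- the `1`-part of the product `(a + bτ)(c + dτ)` -/
@[reducible] def mA (a b c d : ℤ) : ℤ := a * c + b * d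
/-- the `τ`-part of the product `(a + bτ)(c + dτ)` -/
@[reducible] def mB (a b c d : ℤ) : ℤ := a * d + b * c + b * d

/-- raw Hamilton product of the doubled coordinates (so `x y = ¼ mulR`, doubled: `½ mulR`) -/
def mulR (p q : ZQ) : ZQ :=
  ⟨mA p.a0 p.b0 q.a0 q.b0 - mA p.a1 p.b1 q.a1 q.b1 - mA p.a2 p.b2 q.a2 q.b2 - mA p.a3 p.b3 q.a3 q.b3,
   mB p.a0 p.b0 q.a0 q.b0 - mB p.a1 p.b1 q.a1 q.b1 - mB p.a2 p.b2 q.a2 q.b2 - mB p.a3 p.b3 q.a3 q.b3,
   mA p.a0 p.b0 q.a1 q.b1 + mA p.a1 p.b1 q.a0 q.b0 + mA p.a2 p.b2 q.a3 q.b3 - mA p.a3 p.b3 q.a2 q.b2,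
   mB p.a0 p.b0 q.a1 q.b1 + mB p.a1 p.b1 q.a0 q.b0 + mB p.a2 p.b2 q.a3 q.b3 - mB p.a3 p.b3 q.a2 q.b2,
   mA p.a0 p.b0 q.a2 q.b2 - mA p.a1 p.b1 q.a3 q.b3 + mA p.a2 p.b2 q.a0 q.b0 + mA p.a3 p.b3 q.a1 q.b1,
   mB p.a0 p.b0 q.a2 q.b2 - mB p.a1 p.b1 q.a3 q.b3 + mB p.a2 p.b2 q.a0 q.b0 + mB p.a3 p.b3 q.a1 q.b1,
   mA p.a0 p.b0 q.a3 q.b3 + mA p.a1 p.b1 q.a2 q.b2 - mA p.a2 p.b2 q.a1 q.b1 + mA p.a3 p.b3 q.a0 q.b0,
   mB p.a0 p.b0 q.a3 q.b3 + mB p.a1 p.b1 q.a2 q.b2 - mB p.a2 p.b2 q.a1 q.b1 + mB p.a3 p.b3 q.a0 q.b0⟩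

theorem add_comm' (p q : ZQ) : p + q = q + p := by ext <;> simp [add_comm]
theorem add_assoc' (p q r : ZQ) : p + q + r = p + (q + r) := by ext <;> simp [add_assoc]
theorem add_zero' (p : ZQ) : p + 0 = p := by ext <;> simp
theorem zero_add' (p : ZQ) : 0 + p = p := by ext <;> simp
theorem sub_eq' (p q : ZQ) : p - q = p + -q := by ext <;> simp [sub_eq_add_neg]
theorem neg_add_cancel' (p : ZQ) : -p + p = 0 := by ext <;> simp

instance : AddCommGroup ZQ where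
  add_assoc := add_assoc'
  zero_add := zero_add'
  add_zero := add_zero'
  add_comm := add_comm'
  neg_add_cancel := neg_add_cancel'
  sub_eq_add_neg := sub_eq'
  nsmul := fun n p => zs (n : ℤ) p
  nsmul_zero := by
    intro p
    show zs ((0 : ℕ) : ℤ) p = 0
    ext <;> simp
  nsmul_succ := by
    intro n p
    show zs ((n + 1 : ℕ) : ℤ) p = zs (n : ℤ) p + p
    ext <;> simp <;> ring
  zsmul := zs
  zsmul_zero' := by
    intro p
    show zs 0 p = 0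
    ext <;> simp
  zsmul_succ' := by
    intro n p
    show zs ((n.succ : ℕ) : ℤ) p = zs (n : ℤ) p + p
    ext <;> simp <;> ring
  zsmul_neg' := by
    intro n p
    show zs (Int.negSucc n) p = -(zs ((n.succ : ℕ) : ℤ) p)
    ext <;> simp [Int.negSucc_eq] <;> ring

theorem zsmul_eq (n : ℤ) (p : ZQ) : n • p = zs n p := rfl

theorem mulR_add_left (p p' q : ZQ) : mulR (p + p') q = mulR p q + mulR p' q := by
  ext <;> simp [mulR] <;> ring

theorem mulR_add_right (p q q' : ZQ) : mulR p (q + q') = mulR p q + mulR p q' := by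
  ext <;> simp [mulR] <;> ring

theorem mulR_neg_left (p q : ZQ) : mulR (-p) q = -mulR p q := by
  ext <;> simp [mulR] <;> ring

theorem mulR_neg_right (p q : ZQ) : mulR p (-q) = -mulR p q := by
  ext <;> simp [mulR] <;> ring

theorem mulR_sub_left (p p' q : ZQ) : mulR (p - p') q = mulR p q - mulR p' q := by
  ext <;> simp [mulR] <;> ring

theorem mulR_sub_right (p q q' : ZQ) : mulR p (q - q') = mulR p q - mulR p q' := by
  ext <;> simp [mulR] <;> ring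

theorem mulR_zero_left (q : ZQ) : mulR 0 q = 0 := by
  ext <;> simp [mulR, mA, mB]

theorem mulR_zero_right (p : ZQ) : mulR p 0 = 0 := by
  ext <;> simp [mulR, mA, mB]

theorem mulR_zs_left (n : ℤ) (p q : ZQ) : mulR (zs n p) q = zs n (mulR p q) := by
  ext <;> simp [mulR] <;> ring

theorem mulR_zs_right (n : ℤ) (p q : ZQ) : mulR p (zs n q) = zs n (mulR p q) := by
  ext <;> simp [mulR] <;> ring

theorem conj_add (p q : ZQ) : conj (p + q) = conj p + conj q := by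
  ext <;> simp [conj] <;> ring

theorem conj_neg (p : ZQ) : conj (-p) = -conj p := by
  ext <;> simp [conj]

theorem conj_sub (p q : ZQ) : conj (p - q) = conj p - conj q := by
  ext <;> simp [conj] <;> ring

theorem conj_conj (p : ZQ) : conj (conj p) = p := by
  ext <;> simp [conj]

theorem conj_mulR (p q : ZQ) : conj (mulR p q) = mulR (conj q) (conj p) := by
  ext <;> simp [conj, mulR] <;> ring

theorem zs_add (n : ℤ) (p q : ZQ) : zs n (p + q) = zs n p + zs n q := by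
  ext <;> simp <;> ring

theorem zs_two (p : ZQ) : zs 2 p = p + p := by
  ext <;> simp <;> ring

end ZQ

/-! ### the golden ratio -/

theorem sqrt5_sq : Real.sqrt 5 * Real.sqrt 5 = 5 := Real.mul_self_sqrt (by norm_num)

theorem tau_sq : tau * tau = tau + 1 := by
  unfold tau
  have := sqrt5_sq
  nlinarith

theorem sig_eq : sig = 1 - tau := by
  unfold sig tau
  ring

theorem sqrt5_eq : Real.sqrt 5 = 2 * tau - 1 := by
  unfold tau
  ring

theorem tau_irrational : Irrational tau := by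
  have h5 : Irrational (Real.sqrt 5) := by
    have : Nat.Prime 5 := by norm_num
    simpa using this.irrational_sqrt
  have h : tau = (1 / 2 : ℚ) + (1 / 2 : ℚ) * Real.sqrt 5 := by
    unfold tau
    push_cast
    ring
  rw [h]
  exact (h5.ratCast_mul (by norm_num)).ratCast_add _

theorem int_tau_eq {a b c d : ℤ} (h : (a : ℝ) + b * tau = c + d * tau) : a = c ∧ b = d := by
  by_cases hbd : b = d
  · subst hbd
    refine ⟨?_, rfl⟩
    have : (a : ℝ) = c := by linarith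
    exact_mod_cast this
  · exfalso
    have hne : ((b : ℝ) - d) ≠ 0 := by
      intro h0
      apply hbd
      have : (b : ℝ) = d := by linarith
      exact_mod_cast this
    have : tau = ((c - a : ℤ) : ℝ) / ((b - d : ℤ) : ℝ) := by
      push_cast
      field_simp
      linarith
    have hr : tau = (((c - a : ℤ) : ℚ) / ((b - d : ℤ) : ℚ) : ℚ) := by
      rw [this]
      push_cast
      rfl
    exact tau_irrational ⟨_, hr.symm⟩

/-! ### the embedding -/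

/-- the real quaternion with the given doubled coordinates -/
noncomputable def toH (p : ZQ) : ℍ[ℝ] :=
  ⟨((p.a0 : ℝ) + p.b0 * tau) / 2, ((p.a1 : ℝ) + p.b1 * tau) / 2, ((p.a2 : ℝ) + p.b2 * tau) / 2,
    ((p.a3 : ℝ) + p.b3 * tau) / 2⟩

@[simp] theorem toH_re (p : ZQ) : (toH p).re = ((p.a0 : ℝ) + p.b0 * tau) / 2 := rfl
@[simp] theorem toH_imI (p : ZQ) : (toH p).imI = ((p.a1 : ℝ) + p.b1 * tau) / 2 := rfl
@[simp] theorem toH_imJ (p : ZQ) : (toH p).imJ = ((p.a2 : ℝ) + p.b2 * tau) / 2 := rfl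
@[simp] theorem toH_imK (p : ZQ) : (toH p).imK = ((p.a3 : ℝ) + p.b3 * tau) / 2 := rfl

theorem toH_zero : toH 0 = 0 := by
  ext <;> simp

theorem toH_add (p q : ZQ) : toH (p + q) = toH p + toH q := by
  ext <;> simp <;> ring

theorem toH_neg (p : ZQ) : toH (-p) = -toH p := by
  ext <;> simp <;> ring

theorem toH_sub (p q : ZQ) : toH (p - q) = toH p - toH q := by
  ext <;> simp <;> ring

theorem toH_zs (n : ℤ) (p : ZQ) : toH (ZQ.zs n p) = (n : ℝ) • toH p := by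
  ext <;> simp <;> ring

theorem toH_conj (p : ZQ) : toH (ZQ.conj p) = star (toH p) := by
  ext <;> simp [ZQ.conj] <;> ring

theorem toH_injective : Function.Injective toH := by
  intro p q h
  have h0 := congrArg (fun x : ℍ[ℝ] => x.re) h
  have h1 := congrArg (fun x : ℍ[ℝ] => x.imI) h
  have h2 := congrArg (fun x : ℍ[ℝ] => x.imJ) h
  have h3 := congrArg (fun x : ℍ[ℝ] => x.imK) h
  simp only [toH_re, toH_imI, toH_imJ, toH_imK] at h0 h1 h2 h3
  have e0 := int_tau_eq (a := p.a0) (b := p.b0) (c := q.a0) (d := q.b0) (by linarith)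
  have e1 := int_tau_eq (a := p.a1) (b := p.b1) (c := q.a1) (d := q.b1) (by linarith)
  have e2 := int_tau_eq (a := p.a2) (b := p.b2) (c := q.a2) (d := q.b2) (by linarith)
  have e3 := int_tau_eq (a := p.a3) (b := p.b3) (c := q.a3) (d := q.b3) (by linarith)
  ext
  · exact e0.1
  · exact e0.2
  · exact e1.1
  · exact e1.2
  · exact e2.1
  · exact e2.2
  · exact e3.1
  · exact e3.2

/-- the product formula -/
theorem toH_mul (p q : ZQ) : toH p * toH q = (1 / 2 : ℝ) • toH (ZQ.mulR p q) := by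
  have ht := tau_sq
  ext
  · simp only [Quaternion.re_mul, toH_re, toH_imI, toH_imJ, toH_imK, Quaternion.re_smul, ZQ.mulR,
      smul_eq_mul]
    push_cast
    linear_combination ((p.b0 * q.b0 - p.b1 * q.b1 - p.b2 * q.b2 - p.b3 * q.b3 : ℝ) / 4) * ht
  · simp only [Quaternion.imI_mul, toH_re, toH_imI, toH_imJ, toH_imK, Quaternion.imI_smul, ZQ.mulR,
      smul_eq_mul]
    push_cast
    linear_combination ((p.b0 * q.b1 + p.b1 * q.b0 + p.b2 * q.b3 - p.b3 * q.b2 : ℝ) / 4) * ht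
  · simp only [Quaternion.imJ_mul, toH_re, toH_imI, toH_imJ, toH_imK, Quaternion.imJ_smul, ZQ.mulR,
      smul_eq_mul]
    push_cast
    linear_combination ((p.b0 * q.b2 - p.b1 * q.b3 + p.b2 * q.b0 + p.b3 * q.b1 : ℝ) / 4) * ht
  · simp only [Quaternion.imK_mul, toH_re, toH_imI, toH_imJ, toH_imK, Quaternion.imK_smul, ZQ.mulR,
      smul_eq_mul]
    push_cast
    linear_combination ((p.b0 * q.b3 + p.b1 * q.b2 - p.b2 * q.b1 + p.b3 * q.b0 : ℝ) / 4) * ht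

/-- if the raw product is `r + r` then `toH r` is the product -/
theorem toH_mul_of_eq {p q r : ZQ} (h : ZQ.mulR p q = r + r) : toH p * toH q = toH r := by
  rw [toH_mul, h, toH_add]
  ext <;> simp <;> ring

end Cfsg.Agent.Lib.Helper14.J2
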