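import Cfsg.Agent.Lib.Helper14.J2A

set_option autoImplicit false

/-!
Icosian model, part B: the icosian ring is the set of quaternions whose doubled coordinates satisfy
four parity conditions.
-/

namespace Cfsg.Agent.Lib.Helper14.J2

open Quaternion Cfsg.Spor

namespace ZQ

/-- parity conditions cutting out the icosians -/
def Par (p : ZQ) : Prop :=
  (2 : ℤ) ∣ p.a2 - (p.a1 + p.b0 + p.b1) ∧ (2 : ℤ) ∣ p.b2 - (p.a0 + p.a1 + p.b0) ∧
    (2 : ℤ) ∣ p.a3 - (p.a0 + p.b0 + p.b1) ∧ (2 : ℤ) ∣ p.b3 - (p.a0 + p.a1 + p.b1)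

instance : DecidablePred Par := fun p => by unfold Par; infer_instance

/-- all coordinates even -/
def IsEven (p : ZQ) : Prop :=
  (2 : ℤ) ∣ p.a0 ∧ (2 : ℤ) ∣ p.b0 ∧ (2 : ℤ) ∣ p.a1 ∧ (2 : ℤ) ∣ p.b1 ∧ (2 : ℤ) ∣ p.a2 ∧
    (2 : ℤ) ∣ p.b2 ∧ (2 : ℤ) ∣ p.a3 ∧ (2 : ℤ) ∣ p.b3

instance : DecidablePred IsEven := fun p => by unfold IsEven; infer_instance

/-- halve all coordinates -/
def halve (p : ZQ) : ZQ :=
  ⟨p.a0 / 2, p.b0 / 2, p.a1 / 2, p.b1 / 2, p.a2 / 2, p.b2 / 2, p.a3 / 2, p.b3 / 2⟩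

theorem halve_add_halve {p : ZQ} (h : IsEven p) : halve p + halve p = p := by
  obtain ⟨h0, h1, h2, h3, h4, h5, h6, h7⟩ := h
  ext <;> simp [halve] <;> omega

/-- the halved product: doubled coordinates of the product -/
def mulH (p q : ZQ) : ZQ := halve (mulR p q)

def B1 : ZQ := ⟨1, 0, 1, 0, 1, 0, 1, 0⟩
def B2 : ZQ := ⟨0, 1, 1, 0, 0, 0, 1, -1⟩
def B3 : ZQ := ⟨0, 0, 1, 0, 1, -1, 0, 1⟩
def B4 : ZQ := ⟨0, 0, 0, 1, 1, 0, 1, -1⟩
def B5 : ZQ := ⟨0, 0, 0, 0, 2, 0, 0, 0⟩
def B6 : ZQ := ⟨0, 0, 0, 0, 0, 2, 0, 0⟩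
def B7 : ZQ := ⟨0, 0, 0, 0, 0, 0, 2, 0⟩
def B8 : ZQ := ⟨0, 0, 0, 0, 0, 0, 0, 2⟩

theorem par_zero : Par 0 := by decide

theorem par_add {p q : ZQ} (hp : Par p) (hq : Par q) : Par (p + q) := by
  obtain ⟨h1, h2, h3, h4⟩ := hp
  obtain ⟨k1, k2, k3, k4⟩ := hq
  refine ⟨?_, ?_, ?_, ?_⟩ <;> simp only [add_a0, add_b0, add_a1, add_b1, add_a2, add_b2, add_a3,
    add_b3] <;> omega

theorem par_neg {p : ZQ} (hp : Par p) : Par (-p) := by
  obtain ⟨h1, h2, h3, h4⟩ := hp
  refine ⟨?_, ?_, ?_, ?_⟩ <;> simp only [neg_a0, neg_b0, neg_a1, neg_b1, neg_a2, neg_b2, neg_a3,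
    neg_b3] <;> omega

theorem par_sub {p q : ZQ} (hp : Par p) (hq : Par q) : Par (p - q) := by
  rw [sub_eq_add_neg]
  exact par_add hp (par_neg hq)

theorem par_decomp {p : ZQ} (hp : Par p) :
    p = zs p.a0 B1 + zs p.b0 B2 + zs (p.a1 - p.a0 - p.b0) B3 + zs p.b1 B4 +
      zs ((p.a2 - p.a1 + p.b0 - p.b1) / 2) B5 + zs ((p.b2 + p.a1 - p.a0 - p.b0) / 2) B6 +
      zs ((p.a3 - p.a0 - p.b0 - p.b1) / 2) B7 +
      zs ((p.b3 + 2 * p.b0 - p.a1 + p.a0 + p.b1) / 2) B8 := by
  obtain ⟨h1, h2, h3, h4⟩ := hp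
  ext <;> simp [B1, B2, B3, B4, B5, B6, B7, B8] <;> omega

/-- induction principle for the icosian lattice -/
theorem par_induction {P : ZQ → Prop} (h0 : P 0) (hadd : ∀ p q, P p → P q → P (p + q))
    (hneg : ∀ p, P p → P (-p)) (h1 : P B1) (h2 : P B2) (h3 : P B3) (h4 : P B4) (h5 : P B5)
    (h6 : P B6) (h7 : P B7) (h8 : P B8) : ∀ p, Par p → P p := by
  have hzs : ∀ (n : ℤ) (p : ZQ), P p → P (zs n p) := by
    intro n p hp
    induction n using Int.induction_on with
    | zero =>
      have : zs 0 p = 0 := by ext <;> simp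
      rw [this]; exact h0
    | succ k ih =>
      have : zs ((k : ℤ) + 1) p = zs (k : ℤ) p + p := by ext <;> simp <;> ring
      rw [this]; exact hadd _ _ ih hp
    | pred k ih =>
      have : zs (-(k : ℤ) - 1) p = zs (-(k : ℤ)) p + -p := by ext <;> simp <;> ring
      rw [this]; exact hadd _ _ ih (hneg _ hp)
  intro p hp
  rw [par_decomp hp]
  exact hadd _ _ (hadd _ _ (hadd _ _ (hadd _ _ (hadd _ _ (hadd _ _ (hadd _ _ (hzs _ _ h1)
    (hzs _ _ h2)) (hzs _ _ h3)) (hzs _ _ h4)) (hzs _ _ h5)) (hzs _ _ h6)) (hzs _ _ h7)) (hzs _ _ h8)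

/-- the doubled coordinates of `1`, `i`, the second generator, `τ` -/
def one' : ZQ := ⟨2, 0, 0, 0, 0, 0, 0, 0⟩
def qi : ZQ := ⟨0, 0, 2, 0, 0, 0, 0, 0⟩
def gg : ZQ := ⟨1, 0, 1, -1, 0, 0, 0, 1⟩
def tt : ZQ := ⟨0, 2, 0, 0, 0, 0, 0, 0⟩
/-- `h` and its conjugate -/
def hh : ZQ := ⟨1, -2, 1, 0, 1, 0, 1, 0⟩
def hb : ZQ := ⟨1, -2, -1, 0, -1, 0, -1, 0⟩

/-- the product of two lattice elements is twice a lattice element -/
def Good (p q : ZQ) : Prop := IsEven (mulR p q) ∧ Par (halve (mulR p q))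

instance (p q : ZQ) : Decidable (Good p q) := by unfold Good; infer_instance

theorem isEven_add {p q : ZQ} (hp : IsEven p) (hq : IsEven q) : IsEven (p + q) := by
  obtain ⟨h0, h1, h2, h3, h4, h5, h6, h7⟩ := hp
  obtain ⟨k0, k1, k2, k3, k4, k5, k6, k7⟩ := hq
  refine ⟨?_, ?_, ?_, ?_, ?_, ?_, ?_, ?_⟩ <;> simp only [add_a0, add_b0, add_a1, add_b1, add_a2,
    add_b2, add_a3, add_b3] <;> omega

theorem isEven_neg {p : ZQ} (hp : IsEven p) : IsEven (-p) := by
  obtain ⟨h0, h1, h2, h3, h4, h5, h6, h7⟩ := hp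
  refine ⟨?_, ?_, ?_, ?_, ?_, ?_, ?_, ?_⟩ <;> simp only [neg_a0, neg_b0, neg_a1, neg_b1, neg_a2,
    neg_b2, neg_a3, neg_b3] <;> omega

theorem halve_add {p q : ZQ} (hp : IsEven p) (hq : IsEven q) :
    halve (p + q) = halve p + halve q := by
  obtain ⟨h0, h1, h2, h3, h4, h5, h6, h7⟩ := hp
  obtain ⟨k0, k1, k2, k3, k4, k5, k6, k7⟩ := hq
  ext <;> simp [halve] <;> omega

theorem halve_neg {p : ZQ} (hp : IsEven p) : halve (-p) = -halve p := by
  obtain ⟨h0, h1, h2, h3, h4, h5, h6, h7⟩ := hp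
  ext <;> simp [halve] <;> omega

theorem good_zero_left (q : ZQ) : Good 0 q := by
  unfold Good
  rw [mulR_zero_left]
  decide

theorem good_zero_right (p : ZQ) : Good p 0 := by
  unfold Good
  rw [mulR_zero_right]
  decide

theorem good_add_left {p p' q : ZQ} (h : Good p q) (h' : Good p' q) : Good (p + p') q := by
  unfold Good at *
  rw [mulR_add_left]
  refine ⟨isEven_add h.1 h'.1, ?_⟩
  rw [halve_add h.1 h'.1]
  exact par_add h.2 h'.2

theorem good_neg_left {p q : ZQ} (h : Good p q) : Good (-p) q := by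
  unfold Good at *
  rw [mulR_neg_left]
  refine ⟨isEven_neg h.1, ?_⟩
  rw [halve_neg h.1]
  exact par_neg h.2

theorem good_add_right {p q q' : ZQ} (h : Good p q) (h' : Good p q') : Good p (q + q') := by
  unfold Good at *
  rw [mulR_add_right]
  refine ⟨isEven_add h.1 h'.1, ?_⟩
  rw [halve_add h.1 h'.1]
  exact par_add h.2 h'.2

theorem good_neg_right {p q : ZQ} (h : Good p q) : Good p (-q) := by
  unfold Good at *
  rw [mulR_neg_right]
  refine ⟨isEven_neg h.1, ?_⟩
  rw [halve_neg h.1]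
  exact par_neg h.2

theorem good_basis_right (p : ZQ) (hp : Par p) :
    Good p B1 ∧ Good p B2 ∧ Good p B3 ∧ Good p B4 ∧ Good p B5 ∧ Good p B6 ∧ Good p B7 ∧
      Good p B8 := by
  revert p
  apply par_induction
  · exact ⟨good_zero_left _, good_zero_left _, good_zero_left _, good_zero_left _,
      good_zero_left _, good_zero_left _, good_zero_left _, good_zero_left _⟩
  · rintro p q ⟨a1, a2, a3, a4, a5, a6, a7, a8⟩ ⟨b1, b2, b3, b4, b5, b6, b7, b8⟩
    exact ⟨good_add_left a1 b1, good_add_left a2 b2, good_add_left a3 b3, good_add_left a4 b4,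
      good_add_left a5 b5, good_add_left a6 b6, good_add_left a7 b7, good_add_left a8 b8⟩
  · rintro p ⟨a1, a2, a3, a4, a5, a6, a7, a8⟩
    exact ⟨good_neg_left a1, good_neg_left a2, good_neg_left a3, good_neg_left a4,
      good_neg_left a5, good_neg_left a6, good_neg_left a7, good_neg_left a8⟩
  all_goals decide

/-- closure of the icosian lattice under multiplication -/
theorem good_of_par {p q : ZQ} (hp : Par p) (hq : Par q) : Good p q := by
  revert q
  apply par_induction
  · exact good_zero_right p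
  · intro q q' h h'; exact good_add_right h h'
  · intro q h; exact good_neg_right h
  · exact (good_basis_right p hp).1
  · exact (good_basis_right p hp).2.1
  · exact (good_basis_right p hp).2.2.1
  · exact (good_basis_right p hp).2.2.2.1
  · exact (good_basis_right p hp).2.2.2.2.1
  · exact (good_basis_right p hp).2.2.2.2.2.1
  · exact (good_basis_right p hp).2.2.2.2.2.2.1
  · exact (good_basis_right p hp).2.2.2.2.2.2.2

theorem par_mulH {p q : ZQ} (hp : Par p) (hq : Par q) : Par (mulH p q) := (good_of_par hp hq).2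

theorem mulR_eq_of_par {p q : ZQ} (hp : Par p) (hq : Par q) :
    mulR p q = mulH p q + mulH p q := (halve_add_halve (good_of_par hp hq).1).symm

end ZQ

open ZQ

theorem toH_mulH {p q : ZQ} (hp : Par p) (hq : Par q) : toH (mulH p q) = toH p * toH q :=
  (toH_mul_of_eq (mulR_eq_of_par hp hq)).symm

theorem toH_one' : toH one' = 1 := by
  ext <;> simp [one']

theorem toH_qi : toH qi = qI := by
  unfold qI
  ext <;> simp [qi]

theorem toH_gg : toH gg = ⟨1 / 2, sig / 2, 0, tau / 2⟩ := by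
  rw [sig_eq]
  ext <;> simp [gg] <;> ring

theorem toH_hh : toH hh = icoH := by
  unfold icoH
  rw [sqrt5_eq]
  ext <;> simp [hh] <;> ring

theorem toH_hb : toH hb = star icoH := by
  rw [← toH_hh, ← toH_conj]
  rfl

theorem qI_mem : qI ∈ icosians := Subring.subset_closure (Or.inl rfl)

theorem gg_mem : toH gg ∈ icosians := by
  rw [toH_gg]
  exact Subring.subset_closure (Or.inr rfl)

/-- membership in the icosian ring, on the model -/
def IcoM (p : ZQ) : Prop := toH p ∈ icosians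

theorem icoM_zero : IcoM 0 := by
  unfold IcoM; rw [toH_zero]; exact icosians.zero_mem

theorem icoM_add {p q : ZQ} (hp : IcoM p) (hq : IcoM q) : IcoM (p + q) := by
  unfold IcoM at *; rw [toH_add]; exact icosians.add_mem hp hq

theorem icoM_neg {p : ZQ} (hp : IcoM p) : IcoM (-p) := by
  unfold IcoM at *; rw [toH_neg]; exact icosians.neg_mem hp

theorem icoM_sub {p q : ZQ} (hp : IcoM p) (hq : IcoM q) : IcoM (p - q) := by
  unfold IcoM at *; rw [toH_sub]; exact icosians.sub_mem hp hq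

theorem icoM_mulH {p q : ZQ} (hp : IcoM p) (hq : IcoM q) (hpp : Par p) (hqp : Par q) :
    IcoM (mulH p q) := by
  unfold IcoM at *; rw [toH_mulH hpp hqp]; exact icosians.mul_mem hp hq

theorem icoM_one : IcoM one' := by
  unfold IcoM; rw [toH_one']; exact icosians.one_mem

theorem icoM_qi : IcoM qi := by
  unfold IcoM; rw [toH_qi]; exact qI_mem

theorem icoM_gg : IcoM gg := gg_mem

/-- value of a word in the two generators (`true` is `i`) -/
def wordVal : ZQ → List Bool → ZQ
  | p, [] => p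
  | p, b :: w => wordVal (mulH p (if b then qi else gg)) w

theorem par_qi : Par qi := by decide
theorem par_gg : Par gg := by decide
theorem par_one' : Par one' := by decide
theorem par_hh : Par hh := by decide
theorem par_hb : Par hb := by decide
theorem par_tt : Par tt := by decide

theorem wordVal_mem (w : List Bool) : ∀ p : ZQ, Par p → IcoM p → Par (wordVal p w) ∧ IcoM (wordVal p w) := by
  induction w with
  | nil => intro p hp hi; exact ⟨hp, hi⟩
  | cons b w ih =>
    intro p hp hi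
    unfold wordVal
    have hgen : Par (if b then qi else gg) ∧ IcoM (if b then qi else gg) := by
      cases b
      · exact ⟨par_gg, icoM_gg⟩
      · exact ⟨par_qi, icoM_qi⟩
    exact ih _ (par_mulH hp hgen.1) (icoM_mulH hi hgen.2 hp hgen.1)

theorem icoM_of_word (w : List Bool) (p : ZQ) (h : wordVal one' w = p) : IcoM p := by
  rw [← h]
  exact (wordVal_mem w one' par_one' icoM_one).2

set_option maxRecDepth 100000

-- i=true g=false
theorem icoM_B1 : IcoM B1 :=
  icoM_of_word [true, true, true, false, true, false, true, false, false, true] _ (by decide +kernel)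

theorem icoM_B2 : IcoM B2 :=
  icoM_of_word [true, true, true, false, false, true, false, true, false, false, true] _ (by decide +kernel)

theorem icoM_B3 : IcoM B3 :=
  icoM_of_word [true, true, true, false, true, false, true, false, false, true, false] _ (by decide +kernel)

theorem icoM_B4 : IcoM B4 :=
  icoM_of_word [false, true, false, false, true, false, true, false, false] _ (by decide +kernel)

theorem icoM_B5 : IcoM B5 :=
  icoM_of_word [true, false, true, false, false, true, false, true, false, false, true, false] _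
    (by decide +kernel)

theorem icoM_B7 : IcoM B7 :=
  icoM_of_word [true, true, false, true, false, false, true, false, true, false, false, true,
    false] _ (by decide +kernel)

theorem icoM_tt : IcoM tt := by
  have h1 : IcoM (mulH qi gg) := icoM_mulH icoM_qi icoM_gg par_qi par_gg
  have h2 : IcoM (mulH gg qi) := icoM_mulH icoM_gg icoM_qi par_gg par_qi
  have h3 : IcoM (one' + mulH qi gg - qi + mulH gg qi) :=
    icoM_add (icoM_sub (icoM_add icoM_one h1) icoM_qi) h2
  have : one' + mulH qi gg - qi + mulH gg qi = tt := by decide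
  rwa [this] at h3

theorem icoM_B6 : IcoM B6 := by
  have h := icoM_mulH icoM_tt icoM_B5 par_tt (by decide)
  have : mulH tt B5 = B6 := by decide
  rwa [this] at h

theorem icoM_B8 : IcoM B8 := by
  have h := icoM_mulH icoM_tt icoM_B7 par_tt (by decide)
  have : mulH tt B7 = B8 := by decide
  rwa [this] at h

theorem icoM_of_par : ∀ p, Par p → IcoM p := by
  apply par_induction icoM_zero (fun p q => icoM_add) (fun p => icoM_neg) icoM_B1 icoM_B2 icoM_B3
    icoM_B4 icoM_B5 icoM_B6 icoM_B7 icoM_B8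

/-- the icosian ring is the lattice of the model -/
theorem mem_icosians_iff (x : ℍ[ℝ]) : x ∈ icosians ↔ ∃ p : ZQ, Par p ∧ x = toH p := by
  constructor
  · intro hx
    unfold icosians at hx
    induction hx using Subring.closure_induction with
    | mem y hy =>
      rcases hy with rfl | hy
      · exact ⟨qi, par_qi, toH_qi.symm⟩
      · have hy' : y = (⟨1 / 2, sig / 2, 0, tau / 2⟩ : ℍ[ℝ]) := hy
        exact ⟨gg, par_gg, by rw [hy', toH_gg]⟩
    | zero => exact ⟨0, par_zero, toH_zero.symm⟩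
    | one => exact ⟨one', par_one', toH_one'.symm⟩
    | add x y _ _ hx hy =>
      obtain ⟨p, hp, rfl⟩ := hx
      obtain ⟨q, hq, rfl⟩ := hy
      exact ⟨p + q, par_add hp hq, (toH_add p q).symm⟩
    | neg x _ hx =>
      obtain ⟨p, hp, rfl⟩ := hx
      exact ⟨-p, par_neg hp, (toH_neg p).symm⟩
    | mul x y _ _ hx hy =>
      obtain ⟨p, hp, rfl⟩ := hx
      obtain ⟨q, hq, rfl⟩ := hy
      exact ⟨mulH p q, par_mulH hp hq, (toH_mulH hp hq).symm⟩
  · rintro ⟨p, hp, rfl⟩
    exact icoM_of_par p hp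

end Cfsg.Agent.Lib.Helper14.J2
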