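import Cfsg.Agent.Lib.Helper14.J2B

set_option autoImplicit false

/-!
Icosian model, part C: the two left ideals of norm 2, the icosian Leech lattice, the Hermitian
product and the reflections, all on the integer model.
-/

namespace Cfsg.Agent.Lib.Helper14.J2

open Quaternion Cfsg.Spor

namespace ZQ

/-- all coordinates divisible by four -/
def IsDiv4 (p : ZQ) : Prop :=
  (4 : ℤ) ∣ p.a0 ∧ (4 : ℤ) ∣ p.b0 ∧ (4 : ℤ) ∣ p.a1 ∧ (4 : ℤ) ∣ p.b1 ∧ (4 : ℤ) ∣ p.a2 ∧
    (4 : ℤ) ∣ p.b2 ∧ (4 : ℤ) ∣ p.a3 ∧ (4 : ℤ) ∣ p.b3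

instance : DecidablePred IsDiv4 := fun p => by unfold IsDiv4; infer_instance

/-- divide all coordinates by four -/
def quarter (p : ZQ) : ZQ :=
  ⟨p.a0 / 4, p.b0 / 4, p.a1 / 4, p.b1 / 4, p.a2 / 4, p.b2 / 4, p.a3 / 4, p.b3 / 4⟩

theorem zs_four_quarter {p : ZQ} (h : IsDiv4 p) : zs 4 (quarter p) = p := by
  obtain ⟨h0, h1, h2, h3, h4, h5, h6, h7⟩ := h
  ext <;> simp [quarter] <;> omega

theorem isDiv4_zs_four (q : ZQ) : IsDiv4 (zs 4 q) := by
  refine ⟨?_, ?_, ?_, ?_, ?_, ?_, ?_, ?_⟩ <;> simp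

theorem quarter_zs_four (q : ZQ) : quarter (zs 4 q) = q := by
  ext <;> simp [quarter]

/-- membership in the left ideal generated by an element whose conjugate is `c` -/
def InId (c p : ZQ) : Prop := Par p ∧ IsDiv4 (mulR p c) ∧ Par (quarter (mulR p c))

instance (c p : ZQ) : Decidable (InId c p) := by unfold InId; infer_instance

/-- the left ideal `I h` -/
abbrev InIh (p : ZQ) : Prop := InId hb p
/-- the left ideal `I h̄` -/
abbrev InIhb (p : ZQ) : Prop := InId hh p

end ZQ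

open ZQ

theorem toH_mulR (p q : ZQ) : toH (mulR p q) = (2 : ℝ) • (toH p * toH q) := by
  rw [toH_mul, smul_smul]
  norm_num

theorem toH_zs_four (q : ZQ) : toH (zs 4 q) = (4 : ℝ) • toH q := by
  rw [toH_zs]; norm_num

theorem mul_two_eq (x : ℍ[ℝ]) : x * 2 = (2 : ℝ) • x := by
  rw [mul_two, two_smul]

theorem natCast_eq_mk (n : ℕ) : ((n : ℕ) : ℍ[ℝ]) = ⟨(n : ℝ), 0, 0, 0⟩ := by
  ext <;> simp

theorem two_eq_mk : (2 : ℍ[ℝ]) = ⟨2, 0, 0, 0⟩ := by
  have := natCast_eq_mk 2
  exact_mod_cast this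

theorem four_eq_mk : (4 : ℍ[ℝ]) = ⟨4, 0, 0, 0⟩ := by
  have := natCast_eq_mk 4
  exact_mod_cast this

theorem icoH_mul_star : icoH * star icoH = 2 := by
  rw [← toH_hb, ← toH_hh, ← toH_mulH par_hh par_hb]
  have : mulH hh hb = ⟨4, 0, 0, 0, 0, 0, 0, 0⟩ := by decide
  rw [this, two_eq_mk]
  ext <;> simp <;> norm_num

theorem star_mul_icoH : star icoH * icoH = 2 := by
  rw [← toH_hb, ← toH_hh, ← toH_mulH par_hb par_hh]
  have : mulH hb hh = ⟨4, 0, 0, 0, 0, 0, 0, 0⟩ := by decide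
  rw [this, two_eq_mk]
  ext <;> simp <;> norm_num

/-- generic description of a left ideal `I g` with `g ḡ = ḡ g = 2` -/
theorem mem_leftIdeal_iff_aux (g c : ZQ) (hg : Par g) (_hc : Par c)
    (h1 : toH g * toH c = 2) (h2 : toH c * toH g = 2) (x : ℍ[ℝ]) :
    x ∈ leftIdeal (toH g) ↔ ∃ p : ZQ, InId c p ∧ x = toH p := by
  constructor
  · rintro ⟨a, ha, rfl⟩
    obtain ⟨q, hq, rfl⟩ := (mem_icosians_iff a).mp ha
    refine ⟨mulH q g, ⟨par_mulH hq hg, ?_⟩, (toH_mulH hq hg).symm⟩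
    have key : mulR (mulH q g) c = zs 4 q := by
      apply toH_injective
      rw [toH_mulR, toH_mulH hq hg, mul_assoc, h1, toH_zs_four, mul_two_eq, smul_smul]
      norm_num
    rw [key]
    exact ⟨isDiv4_zs_four q, by rw [quarter_zs_four]; exact hq⟩
  · rintro ⟨p, ⟨hp, hd, hq⟩, rfl⟩
    refine ⟨toH (quarter (mulR p c)), (mem_icosians_iff _).mpr ⟨_, hq, rfl⟩, ?_⟩
    have e1 : toH (mulR p c) = (4 : ℝ) • toH (quarter (mulR p c)) := by
      rw [← toH_zs_four, zs_four_quarter hd]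
    rw [toH_mulR] at e1
    have e2 : toH p * toH c = (2 : ℝ) • toH (quarter (mulR p c)) := by
      have := congrArg (fun y : ℍ[ℝ] => (1 / 2 : ℝ) • y) e1
      simp only [smul_smul] at this
      norm_num at this
      exact this
    have e3 : toH p * toH c * toH g = (2 : ℝ) • (toH (quarter (mulR p c)) * toH g) := by
      rw [e2, smul_mul_assoc]
    rw [mul_assoc, h2] at e3
    rw [mul_two_eq] at e3
    have := congrArg (fun y : ℍ[ℝ] => (1 / 2 : ℝ) • y) e3
    simp only [smul_smul] at this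
    norm_num at this
    exact this

theorem mem_leftIdeal_icoH (x : ℍ[ℝ]) : x ∈ leftIdeal icoH ↔ ∃ p : ZQ, InIh p ∧ x = toH p := by
  have := mem_leftIdeal_iff_aux hh hb par_hh par_hb (by rw [toH_hh, toH_hb, icoH_mul_star])
    (by rw [toH_hh, toH_hb, star_mul_icoH]) x
  rwa [toH_hh] at this

theorem mem_leftIdeal_star (x : ℍ[ℝ]) :
    x ∈ leftIdeal (star icoH) ↔ ∃ p : ZQ, InIhb p ∧ x = toH p := by
  have := mem_leftIdeal_iff_aux hb hh par_hb par_hh (by rw [toH_hh, toH_hb, star_mul_icoH])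
    (by rw [toH_hh, toH_hb, icoH_mul_star]) x
  rwa [toH_hb] at this

/-! ### vectors -/

/-- a triple of model quaternions -/
@[ext] structure V3 where
  x : ZQ
  y : ZQ
  z : ZQ
  deriving DecidableEq

namespace V3

/-- lattice conditions -/
def InL (w : V3) : Prop :=
  Par w.x ∧ Par w.y ∧ Par w.z ∧ InIh (w.x - w.y) ∧ InIh (w.y - w.z) ∧ InIhb (w.x + w.y + w.z)

instance : DecidablePred InL := fun w => by unfold InL; infer_instance

/-- the Hermitian product, scaled: `qip = ½ toH qipZ` -/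
def qipZ (v w : V3) : ZQ := mulR v.x (conj w.x) + mulR v.y (conj w.y) + mulR v.z (conj w.z)

/-- norm four -/
def IsMinV (w : V3) : Prop := qipZ w w = ⟨16, 0, 0, 0, 0, 0, 0, 0⟩

instance : DecidablePred IsMinV := fun w => by unfold IsMinV; infer_instance

/-- `x'` is the image of `x` under the reflection in `r` -/
def IsRefl (r x x' : V3) : Prop :=
  mulR (qipZ x r) r.x = zs 8 (x.x - x'.x) ∧ mulR (qipZ x r) r.y = zs 8 (x.y - x'.y) ∧
    mulR (qipZ x r) r.z = zs 8 (x.z - x'.z)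

instance (r x x' : V3) : Decidable (IsRefl r x x') := by unfold IsRefl; infer_instance

end V3

open V3

/-- the real vector of a model vector -/
noncomputable def toV (w : V3) : Fin 3 → ℍ[ℝ] := ![toH w.x, toH w.y, toH w.z]

@[simp] theorem toV_zero (w : V3) : toV w 0 = toH w.x := rfl
@[simp] theorem toV_one (w : V3) : toV w 1 = toH w.y := rfl
@[simp] theorem toV_two (w : V3) : toV w 2 = toH w.z := rfl

theorem toV_injective : Function.Injective toV := by
  intro v w h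
  have h0 := congrFun h 0
  have h1 := congrFun h 1
  have h2 := congrFun h 2
  simp only [toV_zero, toV_one, toV_two] at h0 h1 h2
  ext1
  · exact toH_injective h0
  · exact toH_injective h1
  · exact toH_injective h2

theorem mem_icoLeech_iff (v : Fin 3 → ℍ[ℝ]) : v ∈ icoLeech ↔ ∃ w : V3, InL w ∧ v = toV w := by
  constructor
  · rintro ⟨hI, h1, h2, h3⟩
    obtain ⟨p0, hp0, e0⟩ := (mem_icosians_iff _).mp (hI 0)
    obtain ⟨p1, hp1, e1⟩ := (mem_icosians_iff _).mp (hI 1)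
    obtain ⟨p2, hp2, e2⟩ := (mem_icosians_iff _).mp (hI 2)
    refine ⟨⟨p0, p1, p2⟩, ⟨hp0, hp1, hp2, ?_, ?_, ?_⟩, ?_⟩
    · obtain ⟨q, hq, e⟩ := (mem_leftIdeal_icoH _).mp h1
      rw [e0, e1, ← toH_sub] at e
      rw [toH_injective e]; exact hq
    · obtain ⟨q, hq, e⟩ := (mem_leftIdeal_icoH _).mp h2
      rw [e1, e2, ← toH_sub] at e
      rw [toH_injective e]; exact hq
    · obtain ⟨q, hq, e⟩ := (mem_leftIdeal_star _).mp h3
      rw [e0, e1, e2, ← toH_add, ← toH_add] at e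
      rw [toH_injective e]; exact hq
    · funext t
      fin_cases t
      · exact e0
      · exact e1
      · exact e2
  · rintro ⟨w, ⟨hx, hy, hz, h1, h2, h3⟩, rfl⟩
    refine ⟨?_, ?_, ?_, ?_⟩
    · intro t
      fin_cases t
      · exact (mem_icosians_iff _).mpr ⟨_, hx, rfl⟩
      · exact (mem_icosians_iff _).mpr ⟨_, hy, rfl⟩
      · exact (mem_icosians_iff _).mpr ⟨_, hz, rfl⟩
    · rw [toV_zero, toV_one, ← toH_sub]
      exact (mem_leftIdeal_icoH _).mpr ⟨_, h1, rfl⟩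
    · rw [toV_one, toV_two, ← toH_sub]
      exact (mem_leftIdeal_icoH _).mpr ⟨_, h2, rfl⟩
    · rw [toV_zero, toV_one, toV_two, ← toH_add, ← toH_add]
      exact (mem_leftIdeal_star _).mpr ⟨_, h3, rfl⟩

theorem qip_toV (v w : V3) : qip (toV v) (toV w) = (1 / 2 : ℝ) • toH (qipZ v w) := by
  unfold qip qipZ
  rw [Fin.sum_univ_three, toV_zero, toV_one, toV_two, toV_zero, toV_one, toV_two, toH_add,
    toH_add, toH_mulR, toH_mulR, toH_mulR, toH_conj, toH_conj, toH_conj]
  simp only [smul_add, smul_smul]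
  norm_num

theorem qip_toV_eq_four_iff (w : V3) : qip (toV w) (toV w) = 4 ↔ IsMinV w := by
  rw [qip_toV]
  unfold IsMinV
  constructor
  · intro h
    apply toH_injective
    rw [four_eq_mk] at h
    have h0 := congrArg (fun x : ℍ[ℝ] => x.re) h
    have h1 := congrArg (fun x : ℍ[ℝ] => x.imI) h
    have h2 := congrArg (fun x : ℍ[ℝ] => x.imJ) h
    have h3 := congrArg (fun x : ℍ[ℝ] => x.imK) h
    simp only [Quaternion.re_smul, Quaternion.imI_smul, Quaternion.imJ_smul, Quaternion.imK_smul,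
      smul_eq_mul] at h0 h1 h2 h3
    ext
    · simp only [toH_re] at h0 ⊢; push_cast; linarith
    · simp only [toH_imI] at h1 ⊢; push_cast; linarith
    · simp only [toH_imJ] at h2 ⊢; push_cast; linarith
    · simp only [toH_imK] at h3 ⊢; push_cast; linarith
  · intro h
    rw [h, four_eq_mk]
    ext <;> simp <;> norm_num

theorem qrefl_toV {r x x' : V3} (h : IsRefl r x x') : qrefl (toV r) (toV x) = toV x' := by
  obtain ⟨h0, h1, h2⟩ := h
  have key : ∀ (rt xt xt' : ZQ), mulR (qipZ x r) rt = zs 8 (xt - xt') →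
      toH xt - ((1 / 2 : ℝ) • qip (toV x) (toV r)) * toH rt = toH xt' := by
    intro rt xt xt' e
    have e' := congrArg toH e
    rw [toH_mulR, toH_zs, toH_sub] at e'
    rw [qip_toV, smul_smul, smul_mul_assoc]
    have e'' := congrArg (fun y : ℍ[ℝ] => (1 / 8 : ℝ) • y) e'
    simp only [smul_smul] at e''
    norm_num at e''
    have : ((1 / 2 : ℝ) * (1 / 2)) • (toH (qipZ x r) * toH rt) = toH xt - toH xt' := by
      rw [← e'']
      norm_num
    rw [this]
    abel
  funext t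
  unfold qrefl
  fin_cases t
  · exact key _ _ _ h0
  · exact key _ _ _ h1
  · exact key _ _ _ h2

end Cfsg.Agent.Lib.Helper14.J2
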