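import Cfsg.Agent.Lib.Helper14.J2C

set_option autoImplicit false

/-!
Icosian model, part D: algebra of the Hermitian product, integrality `x·r ∈ 2I` on the icosian
Leech lattice, reflections as permutations of the lattice.
-/

namespace Cfsg.Agent.Lib.Helper14.J2

open Quaternion Cfsg.Spor ZQ V3

/-- left scalar multiplication on `ℍ³` -/
noncomputable def lsm (c : ℍ[ℝ]) (x : Fin 3 → ℍ[ℝ]) : Fin 3 → ℍ[ℝ] := fun t => c * x t

theorem qip_def (x r : Fin 3 → ℍ[ℝ]) :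
    qip x r = x 0 * star (r 0) + x 1 * star (r 1) + x 2 * star (r 2) := by
  unfold qip
  rw [Fin.sum_univ_three]

theorem qip_add_left (x y r : Fin 3 → ℍ[ℝ]) : qip (x + y) r = qip x r + qip y r := by
  simp only [qip_def, Pi.add_apply, add_mul]
  abel

theorem qip_add_right (x r s : Fin 3 → ℍ[ℝ]) : qip x (r + s) = qip x r + qip x s := by
  simp only [qip_def, Pi.add_apply, star_add, mul_add]
  abel

theorem qip_neg_left (x r : Fin 3 → ℍ[ℝ]) : qip (-x) r = -qip x r := by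
  simp only [qip_def, Pi.neg_apply, neg_mul]
  abel

theorem qip_neg_right (x r : Fin 3 → ℍ[ℝ]) : qip x (-r) = -qip x r := by
  simp only [qip_def, Pi.neg_apply, star_neg, mul_neg]
  abel

theorem qip_sub_left (x y r : Fin 3 → ℍ[ℝ]) : qip (x - y) r = qip x r - qip y r := by
  rw [sub_eq_add_neg, qip_add_left, qip_neg_left, sub_eq_add_neg]

theorem qip_sub_right (x r s : Fin 3 → ℍ[ℝ]) : qip x (r - s) = qip x r - qip x s := by
  rw [sub_eq_add_neg, qip_add_right, qip_neg_right, sub_eq_add_neg]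

theorem qip_lsm_left (c : ℍ[ℝ]) (x r : Fin 3 → ℍ[ℝ]) : qip (lsm c x) r = c * qip x r := by
  simp only [qip_def, lsm, mul_add, mul_assoc]

theorem qip_lsm_right (c : ℍ[ℝ]) (x r : Fin 3 → ℍ[ℝ]) : qip x (lsm c r) = qip x r * star c := by
  simp only [qip_def, lsm, add_mul, mul_assoc, star_mul]

theorem star_qip (x r : Fin 3 → ℍ[ℝ]) : star (qip x r) = qip r x := by
  simp only [qip_def, star_add, star_mul, star_star]

theorem lsm_add (c : ℍ[ℝ]) (x y : Fin 3 → ℍ[ℝ]) : lsm c (x + y) = lsm c x + lsm c y := by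
  funext t; simp [lsm, mul_add]

theorem lsm_sub (c : ℍ[ℝ]) (x y : Fin 3 → ℍ[ℝ]) : lsm c (x - y) = lsm c x - lsm c y := by
  funext t; simp [lsm, mul_sub]

theorem lsm_lsm (c d : ℍ[ℝ]) (x : Fin 3 → ℍ[ℝ]) : lsm c (lsm d x) = lsm (c * d) x := by
  funext t; simp [lsm, mul_assoc]

theorem lsm_one (x : Fin 3 → ℍ[ℝ]) : lsm 1 x = x := by
  funext t; simp [lsm]

theorem qrefl_eq (r x : Fin 3 → ℍ[ℝ]) : qrefl r x = x - lsm ((1 / 2 : ℝ) • qip x r) r := by
  funext t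
  simp [qrefl, lsm]

/-! ### the ideals at the quaternion level -/

theorem star_mem_icosians {x : ℍ[ℝ]} (hx : x ∈ icosians) : star x ∈ icosians := by
  obtain ⟨p, hp, rfl⟩ := (mem_icosians_iff x).mp hx
  rw [← toH_conj]
  refine (mem_icosians_iff _).mpr ⟨_, ?_, rfl⟩
  obtain ⟨h1, h2, h3, h4⟩ := hp
  refine ⟨?_, ?_, ?_, ?_⟩ <;> simp only [ZQ.conj] <;> omega

theorem icoH_mem : icoH ∈ icosians := by
  rw [← toH_hh]; exact (mem_icosians_iff _).mpr ⟨_, par_hh, rfl⟩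

theorem star_icoH_mem : star icoH ∈ icosians := star_mem_icosians icoH_mem

/-- `τ` as a quaternion -/
noncomputable def qtau : ℍ[ℝ] := ((tau : ℝ) : ℍ[ℝ])

theorem toH_tt : toH tt = qtau := by
  unfold qtau
  ext <;> simp [tt]

theorem qtau_comm (x : ℍ[ℝ]) : qtau * x = x * qtau := Quaternion.coe_commutes tau x

theorem qtau_mem : qtau ∈ icosians := by
  rw [← toH_tt]; exact icoM_tt

theorem leftIdeal_sub_icosians {g x : ℍ[ℝ]} (hg : g ∈ icosians) (hx : x ∈ leftIdeal g) :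
    x ∈ icosians := by
  obtain ⟨a, ha, rfl⟩ := hx
  exact icosians.mul_mem ha hg

theorem leftIdeal_add {g x y : ℍ[ℝ]} (hx : x ∈ leftIdeal g) (hy : y ∈ leftIdeal g) :
    x + y ∈ leftIdeal g := by
  obtain ⟨a, ha, rfl⟩ := hx
  obtain ⟨b, hb, rfl⟩ := hy
  exact ⟨a + b, icosians.add_mem ha hb, by rw [add_mul]⟩

theorem leftIdeal_neg {g x : ℍ[ℝ]} (hx : x ∈ leftIdeal g) : -x ∈ leftIdeal g := by
  obtain ⟨a, ha, rfl⟩ := hx
  exact ⟨-a, icosians.neg_mem ha, by rw [neg_mul]⟩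

theorem leftIdeal_sub {g x y : ℍ[ℝ]} (hx : x ∈ leftIdeal g) (hy : y ∈ leftIdeal g) :
    x - y ∈ leftIdeal g := by
  rw [sub_eq_add_neg]; exact leftIdeal_add hx (leftIdeal_neg hy)

theorem leftIdeal_zero (g : ℍ[ℝ]) : (0 : ℍ[ℝ]) ∈ leftIdeal g :=
  ⟨0, icosians.zero_mem, by rw [zero_mul]⟩

theorem leftIdeal_mul {g x a : ℍ[ℝ]} (ha : a ∈ icosians) (hx : x ∈ leftIdeal g) :
    a * x ∈ leftIdeal g := by
  obtain ⟨b, hb, rfl⟩ := hx
  exact ⟨a * b, icosians.mul_mem ha hb, by rw [mul_assoc]⟩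

theorem mul_mem_leftIdeal {g a : ℍ[ℝ]} (ha : a ∈ icosians) : a * g ∈ leftIdeal g := ⟨a, ha, rfl⟩

/-- twice the icosians -/
def TwoI : Set ℍ[ℝ] := {y | ∃ c ∈ icosians, y = c + c}

theorem twoI_add {x y : ℍ[ℝ]} (hx : x ∈ TwoI) (hy : y ∈ TwoI) : x + y ∈ TwoI := by
  obtain ⟨a, ha, rfl⟩ := hx
  obtain ⟨b, hb, rfl⟩ := hy
  exact ⟨a + b, icosians.add_mem ha hb, by abel⟩

theorem twoI_neg {x : ℍ[ℝ]} (hx : x ∈ TwoI) : -x ∈ TwoI := by
  obtain ⟨a, ha, rfl⟩ := hx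
  exact ⟨-a, icosians.neg_mem ha, by abel⟩

theorem twoI_mul_left {x a : ℍ[ℝ]} (ha : a ∈ icosians) (hx : x ∈ TwoI) : a * x ∈ TwoI := by
  obtain ⟨b, hb, rfl⟩ := hx
  exact ⟨a * b, icosians.mul_mem ha hb, by rw [mul_add]⟩

theorem twoI_mul_right {x a : ℍ[ℝ]} (ha : a ∈ icosians) (hx : x ∈ TwoI) : x * a ∈ TwoI := by
  obtain ⟨b, hb, rfl⟩ := hx
  exact ⟨b * a, icosians.mul_mem hb ha, by rw [add_mul]⟩

theorem twoI_of_two_mul {c : ℍ[ℝ]} (hc : c ∈ icosians) : 2 * c ∈ TwoI :=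
  ⟨c, hc, two_mul c⟩

theorem icoH_add_star : icoH + star icoH = 1 - 2 * qtau := by
  rw [← toH_hb, ← toH_hh, ← toH_tt, ← toH_one', two_mul, ← toH_add, ← toH_add, ← toH_sub]
  congr 1

/-- `I h ∩ I h̄ = 2 I` -/
theorem twoI_of_mem_inter {c : ℍ[ℝ]} (h1 : c ∈ leftIdeal icoH) (h2 : c ∈ leftIdeal (star icoH)) :
    c ∈ TwoI := by
  obtain ⟨a, ha, e1⟩ := h1
  obtain ⟨b, hb, e2⟩ := h2
  -- 1 = h̄ + h (1 + τ h̄)
  have hone : (1 : ℍ[ℝ]) = star icoH + icoH * (1 + qtau * star icoH) := by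
    have h3 : icoH * (qtau * star icoH) = qtau * 2 := by
      rw [← mul_assoc, ← qtau_comm, mul_assoc, icoH_mul_star]
    rw [mul_add, mul_one, h3, ← add_assoc, add_comm (star icoH), icoH_add_star, mul_two, two_mul]
    abel
  have : c = c * star icoH + c * icoH * (1 + qtau * star icoH) := by
    conv_lhs => rw [← mul_one c, hone, mul_add, ← mul_assoc]
  rw [this]
  apply twoI_add
  · rw [e1, mul_assoc, icoH_mul_star]
    exact ⟨a, ha, by rw [mul_two]⟩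
  · rw [e2, mul_assoc b, star_mul_icoH]
    apply twoI_mul_right
    · exact icosians.add_mem icosians.one_mem (icosians.mul_mem qtau_mem star_icoH_mem)
    · exact ⟨b, hb, by rw [mul_two]⟩

theorem twoI_sub_leftIdeal {g : ℍ[ℝ]} (hg : g * star g = 2) (hg' : star g ∈ icosians) {c : ℍ[ℝ]}
    (hc : c ∈ TwoI) : c ∈ leftIdeal g := by
  obtain ⟨a, ha, rfl⟩ := hc
  refine ⟨a * star g, icosians.mul_mem ha hg', ?_⟩
  rw [mul_assoc]
  have : star g * g = 2 := by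
    rw [Quaternion.star_mul_self, ← Quaternion.self_mul_star, hg]
  rw [this, mul_two]

/-! ### the lattice at the quaternion level -/

theorem icoLeech_add {x y : Fin 3 → ℍ[ℝ]} (hx : x ∈ icoLeech) (hy : y ∈ icoLeech) :
    x + y ∈ icoLeech := by
  obtain ⟨h0, h1, h2, h3⟩ := hx
  obtain ⟨k0, k1, k2, k3⟩ := hy
  refine ⟨fun t => icosians.add_mem (h0 t) (k0 t), ?_, ?_, ?_⟩
  · have : (x + y) 0 - (x + y) 1 = (x 0 - x 1) + (y 0 - y 1) := by simp only [Pi.add_apply]; abel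
    rw [this]; exact leftIdeal_add h1 k1
  · have : (x + y) 1 - (x + y) 2 = (x 1 - x 2) + (y 1 - y 2) := by simp only [Pi.add_apply]; abel
    rw [this]; exact leftIdeal_add h2 k2
  · have : (x + y) 0 + (x + y) 1 + (x + y) 2 = (x 0 + x 1 + x 2) + (y 0 + y 1 + y 2) := by
      simp only [Pi.add_apply]; abel
    rw [this]; exact leftIdeal_add h3 k3

theorem icoLeech_neg {x : Fin 3 → ℍ[ℝ]} (hx : x ∈ icoLeech) : -x ∈ icoLeech := by
  obtain ⟨h0, h1, h2, h3⟩ := hx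
  refine ⟨fun t => icosians.neg_mem (h0 t), ?_, ?_, ?_⟩
  · have : (-x) 0 - (-x) 1 = -(x 0 - x 1) := by simp only [Pi.neg_apply]; abel
    rw [this]; exact leftIdeal_neg h1
  · have : (-x) 1 - (-x) 2 = -(x 1 - x 2) := by simp only [Pi.neg_apply]; abel
    rw [this]; exact leftIdeal_neg h2
  · have : (-x) 0 + (-x) 1 + (-x) 2 = -(x 0 + x 1 + x 2) := by simp only [Pi.neg_apply]; abel
    rw [this]; exact leftIdeal_neg h3

theorem icoLeech_sub {x y : Fin 3 → ℍ[ℝ]} (hx : x ∈ icoLeech) (hy : y ∈ icoLeech) :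
    x - y ∈ icoLeech := by
  rw [sub_eq_add_neg]; exact icoLeech_add hx (icoLeech_neg hy)

theorem icoLeech_lsm {c : ℍ[ℝ]} {x : Fin 3 → ℍ[ℝ]} (hc : c ∈ icosians) (hx : x ∈ icoLeech) :
    lsm c x ∈ icoLeech := by
  obtain ⟨h0, h1, h2, h3⟩ := hx
  refine ⟨fun t => icosians.mul_mem hc (h0 t), ?_, ?_, ?_⟩
  · have : lsm c x 0 - lsm c x 1 = c * (x 0 - x 1) := by simp only [lsm, mul_sub]
    rw [this]; exact leftIdeal_mul hc h1
  · have : lsm c x 1 - lsm c x 2 = c * (x 1 - x 2) := by simp only [lsm, mul_sub]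
    rw [this]; exact leftIdeal_mul hc h2
  · have : lsm c x 0 + lsm c x 1 + lsm c x 2 = c * (x 0 + x 1 + x 2) := by
      simp only [lsm, mul_add]
    rw [this]; exact leftIdeal_mul hc h3

end Cfsg.Agent.Lib.Helper14.J2
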