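import Cfsg.Agent.Lib.Helper14.J2D

set_option autoImplicit false

/-!
Icosian model, part E: integrality of the Hermitian product on the icosian Leech lattice, the
reflections as permutations of the lattice, linear extensions of the elements of `twoJ2`.
-/

namespace Cfsg.Agent.Lib.Helper14.J2

open Quaternion Cfsg.Spor ZQ V3

theorem qip_vec (a b c d e f : ℍ[ℝ]) :
    qip ![a, b, c] ![d, e, f] = a * star d + b * star e + c * star f := by
  rw [qip_def]
  rfl

/-- the element `1 - 3h` -/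
noncomputable def kk : ℍ[ℝ] := 1 - 3 * icoH

theorem three_mem : (3 : ℍ[ℝ]) ∈ icosians := by
  have : (3 : ℍ[ℝ]) = 1 + 1 + 1 := by norm_num
  rw [this]
  exact icosians.add_mem (icosians.add_mem icosians.one_mem icosians.one_mem) icosians.one_mem

theorem two_mem : (2 : ℍ[ℝ]) ∈ icosians := by
  have : (2 : ℍ[ℝ]) = 1 + 1 := by norm_num
  rw [this]
  exact icosians.add_mem icosians.one_mem icosians.one_mem

theorem kk_mem : kk ∈ icosians :=
  icosians.sub_mem icosians.one_mem (icosians.mul_mem three_mem icoH_mem)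

/-- generators of the lattice -/
inductive Gen : (Fin 3 → ℍ[ℝ]) → Prop
  | A (m : ℍ[ℝ]) (hm : m ∈ leftIdeal icoH) : Gen ![0, m, -m]
  | B (p : ℍ[ℝ]) (hp : p ∈ icosians) : Gen ![p, p, p * kk]
  | C (c : ℍ[ℝ]) (hc : c ∈ icosians) : Gen ![0, 0, c + c]

theorem one_sub_icoH : 1 - icoH = (1 + qtau * icoH) * star icoH := by
  have h3 : qtau * icoH * star icoH = qtau * 2 := by
    rw [mul_assoc, icoH_mul_star]
  rw [add_mul, one_mul, h3, mul_two]
  have := icoH_add_star
  rw [two_mul] at this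
  rw [sub_eq_iff_eq_add]
  calc (1 : ℍ[ℝ]) = (icoH + star icoH) + (qtau + qtau) := by rw [this]; abel
    _ = _ := by abel

theorem gen_decomp {x : Fin 3 → ℍ[ℝ]} (hx : x ∈ icoLeech) :
    ∃ a b c, Gen a ∧ Gen b ∧ Gen c ∧ x = a + b + c := by
  obtain ⟨h0, h1, h2, h3⟩ := hx
  have hm : x 1 - x 0 ∈ leftIdeal icoH := by
    have : x 1 - x 0 = -(x 0 - x 1) := by abel
    rw [this]; exact leftIdeal_neg h1
  have h20 : x 2 - x 0 ∈ leftIdeal icoH := by
    have : x 2 - x 0 = -((x 0 - x 1) + (x 1 - x 2)) := by abel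
    rw [this]; exact leftIdeal_neg (leftIdeal_add h1 h2)
  have hcc : x 2 - x 0 * kk + (x 1 - x 0) ∈ TwoI := by
    apply twoI_of_mem_inter
    · have : x 2 - x 0 * kk + (x 1 - x 0) = (x 2 - x 0) + (3 * x 0) * icoH + (x 1 - x 0) := by
        unfold kk
        rw [mul_sub, mul_one]
        have : x 0 * (3 * icoH) = 3 * x 0 * icoH := by
          rw [← mul_assoc]
          congr 1
          rw [show (3 : ℍ[ℝ]) = ((3 : ℝ) : ℍ[ℝ]) by norm_cast, Quaternion.coe_commutes]
        rw [this]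
        abel
      rw [this]
      exact leftIdeal_add (leftIdeal_add h20
        (mul_mem_leftIdeal (icosians.mul_mem three_mem (h0 0)))) hm
    · have : x 2 - x 0 * kk + (x 1 - x 0) =
          (x 0 + x 1 + x 2) - (3 * x 0 * (1 + qtau * icoH)) * star icoH := by
        rw [mul_assoc (3 * x 0), ← one_sub_icoH]
        unfold kk
        rw [mul_sub, mul_sub, mul_one, mul_one]
        have e1 : x 0 * (3 * icoH) = 3 * x 0 * icoH := by
          rw [← mul_assoc]
          congr 1
          rw [show (3 : ℍ[ℝ]) = ((3 : ℝ) : ℍ[ℝ]) by norm_cast, Quaternion.coe_commutes]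
        have e2 : 3 * x 0 = x 0 + x 0 + x 0 := by
          rw [show (3 : ℍ[ℝ]) = 1 + 1 + 1 by norm_num, add_mul, add_mul, one_mul]
        rw [e1, e2]
        abel
      rw [this]
      refine leftIdeal_sub h3 (mul_mem_leftIdeal ?_)
      exact icosians.mul_mem (icosians.mul_mem three_mem (h0 0))
        (icosians.add_mem icosians.one_mem (icosians.mul_mem qtau_mem icoH_mem))
  obtain ⟨c, hc, ec⟩ := hcc
  refine ⟨![0, x 1 - x 0, -(x 1 - x 0)], ![x 0, x 0, x 0 * kk], ![0, 0, c + c],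
    Gen.A _ hm, Gen.B _ (h0 0), Gen.C _ hc, ?_⟩
  funext t
  fin_cases t
  · simp
  · simp
  · simp only [Fin.reduceFinMk, Pi.add_apply, Matrix.cons_val_two, Matrix.tail_cons,
      Matrix.head_cons, Matrix.cons_val]
    rw [← ec]
    abel

theorem leftIdeal_icoH_sub {m : ℍ[ℝ]} (hm : m ∈ leftIdeal icoH) : m ∈ icosians :=
  leftIdeal_sub_icosians icoH_mem hm

theorem twoI_mul_star_of_ideal {m y : ℍ[ℝ]} (hm : m ∈ leftIdeal icoH) (hy : y ∈ icosians) :
    m * star (y * icoH) ∈ TwoI := by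
  obtain ⟨a, ha, rfl⟩ := hm
  rw [star_mul, mul_assoc, ← mul_assoc icoH, icoH_mul_star]
  refine ⟨a * star y, icosians.mul_mem ha (star_mem_icosians hy), ?_⟩
  rw [two_mul, mul_add]

theorem twoI_mul_star_of_ideal' {m y : ℍ[ℝ]} (hm : m ∈ leftIdeal icoH) (hy : y ∈ icosians) :
    (y * icoH) * star m ∈ TwoI := by
  obtain ⟨a, ha, rfl⟩ := hm
  rw [star_mul, mul_assoc, ← mul_assoc icoH, icoH_mul_star]
  refine ⟨y * star a, icosians.mul_mem hy (star_mem_icosians ha), ?_⟩
  rw [two_mul, mul_add]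

/-- model coordinates of `1 - 3h` -/
def kkz : ZQ := ⟨-1, 6, -3, 0, -3, 0, -3, 0⟩

theorem toH_kkz : toH kkz = kk := by
  have : kkz = one' - hh - hh - hh := by decide
  rw [this, toH_sub, toH_sub, toH_sub, toH_one', toH_hh]
  unfold kk
  rw [show (3 : ℍ[ℝ]) = 1 + 1 + 1 by norm_num, add_mul, add_mul, one_mul]
  abel

theorem kk_mul_star_kk_mem : kk * star kk ∈ TwoI := by
  rw [← toH_kkz, ← toH_conj, ← toH_mulH (by decide) (by decide)]
  have : mulH kkz (ZQ.conj kkz) = (⟨16, 6, 0, 0, 0, 0, 0, 0⟩ : ZQ) + ⟨16, 6, 0, 0, 0, 0, 0, 0⟩ := by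
    decide
  rw [this, toH_add]
  exact ⟨_, (mem_icosians_iff _).mpr ⟨_, by decide, rfl⟩, rfl⟩

theorem gen_pair {v w : Fin 3 → ℍ[ℝ]} (hv : Gen v) (hw : Gen w) : qip v w ∈ TwoI := by
  cases hv with
  | A m hm =>
    cases hw with
    | A m' hm' =>
      rw [qip_vec]
      refine ⟨m * star m', icosians.mul_mem (leftIdeal_icoH_sub hm)
        (star_mem_icosians (leftIdeal_icoH_sub hm')), ?_⟩
      rw [zero_mul, zero_add, star_neg, neg_mul_neg]
    | B p hp =>
      rw [qip_vec]
      have e : (0 : ℍ[ℝ]) * star p + m * star p + -m * star (p * kk) = m * star (3 * p * icoH) := by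
        unfold kk
        rw [mul_sub, mul_one, star_sub, zero_mul, zero_add, mul_sub, neg_mul, neg_mul]
        have : p * (3 * icoH) = 3 * p * icoH := by
          rw [← mul_assoc]
          congr 1
          rw [show (3 : ℍ[ℝ]) = ((3 : ℝ) : ℍ[ℝ]) by norm_cast, Quaternion.coe_commutes]
        rw [this]
        try abel
      rw [e]
      exact twoI_mul_star_of_ideal hm (icosians.mul_mem three_mem hp)
    | C c hc =>
      rw [qip_vec]
      refine ⟨-(m * star c), icosians.neg_mem (icosians.mul_mem (leftIdeal_icoH_sub hm)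
        (star_mem_icosians hc)), ?_⟩
      rw [zero_mul, zero_add, star_zero, mul_zero, zero_add, star_add, mul_add, neg_mul]
      try abel
  | B p hp =>
    cases hw with
    | A m' hm' =>
      rw [qip_vec]
      have e : p * star (0 : ℍ[ℝ]) + p * star m' + p * kk * star (-m') = (3 * p * icoH) * star m' := by
        unfold kk
        rw [mul_sub, mul_one, star_zero, mul_zero, zero_add, star_neg, mul_neg, sub_mul]
        have : p * (3 * icoH) = 3 * p * icoH := by
          rw [← mul_assoc]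
          congr 1
          rw [show (3 : ℍ[ℝ]) = ((3 : ℝ) : ℍ[ℝ]) by norm_cast, Quaternion.coe_commutes]
        rw [this]
        abel
      rw [e]
      exact twoI_mul_star_of_ideal' hm' (icosians.mul_mem three_mem hp)
    | B q hq =>
      rw [qip_vec]
      have e : p * star q + p * star q + p * kk * star (q * kk) =
          p * (1 + 1 + kk * star kk) * star q := by
        rw [star_mul, mul_add, mul_add, add_mul, add_mul, mul_one]
        simp only [mul_assoc]
      rw [e]
      apply twoI_mul_right (star_mem_icosians hq)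
      apply twoI_mul_left hp
      exact twoI_add ⟨1, icosians.one_mem, rfl⟩ kk_mul_star_kk_mem
    | C c hc =>
      rw [qip_vec]
      refine ⟨p * kk * star c, icosians.mul_mem (icosians.mul_mem hp kk_mem)
        (star_mem_icosians hc), ?_⟩
      simp only [star_zero, mul_zero, zero_add, star_add, mul_add]
  | C c hc =>
    rw [qip_def]
    have hw2 : w 2 ∈ icosians := by
      cases hw with
      | A m' hm' => exact icosians.neg_mem (leftIdeal_icoH_sub hm')
      | B q hq => exact icosians.mul_mem hq kk_mem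
      | C c' hc' => exact icosians.add_mem hc' hc'
    refine ⟨c * star (w 2), icosians.mul_mem hc (star_mem_icosians hw2), ?_⟩
    simp only [Matrix.cons_val_zero, Matrix.cons_val_one, Matrix.cons_val_two, Matrix.tail_cons,
      Matrix.head_cons, zero_mul, zero_add, add_mul]

/-- integrality of the Hermitian product on the lattice -/
theorem qip_mem_twoI {x r : Fin 3 → ℍ[ℝ]} (hx : x ∈ icoLeech) (hr : r ∈ icoLeech) :
    qip x r ∈ TwoI := by
  obtain ⟨a, b, c, ha, hb, hc, rfl⟩ := gen_decomp hx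
  obtain ⟨a', b', c', ha', hb', hc', rfl⟩ := gen_decomp hr
  have e : qip (a + b + c) (a' + b' + c') = (qip a a' + qip a b' + qip a c') +
      (qip b a' + qip b b' + qip b c') + (qip c a' + qip c b' + qip c c') := by
    simp only [qip_add_left, qip_add_right]
    abel
  rw [e]
  exact twoI_add (twoI_add (twoI_add (twoI_add (gen_pair ha ha') (gen_pair ha hb'))
    (gen_pair ha hc')) (twoI_add (twoI_add (gen_pair hb ha') (gen_pair hb hb')) (gen_pair hb hc')))
    (twoI_add (twoI_add (gen_pair hc ha') (gen_pair hc hb')) (gen_pair hc hc'))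

theorem half_qip_mem {x r : Fin 3 → ℍ[ℝ]} (hx : x ∈ icoLeech) (hr : r ∈ icoLeech) :
    (1 / 2 : ℝ) • qip x r ∈ icosians := by
  obtain ⟨c, hc, e⟩ := qip_mem_twoI hx hr
  rw [e, ← two_smul ℝ c, smul_smul]
  norm_num
  exact hc

theorem qrefl_mem {x r : Fin 3 → ℍ[ℝ]} (hx : x ∈ icoLeech) (hr : r ∈ icoLeech) :
    qrefl r x ∈ icoLeech := by
  rw [qrefl_eq]
  exact icoLeech_sub hx (icoLeech_lsm (half_qip_mem hx hr) hr)

theorem qip_smul_left (a : ℝ) (x r : Fin 3 → ℍ[ℝ]) : qip (lsm (a • (1 : ℍ[ℝ])) x) r = a • qip x r := by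
  rw [qip_lsm_left, smul_mul_assoc, one_mul]

theorem qrefl_qrefl {r : Fin 3 → ℍ[ℝ]} (hr : qip r r = 4) (x : Fin 3 → ℍ[ℝ]) :
    qrefl r (qrefl r x) = x := by
  rw [qrefl_eq r (qrefl r x), qrefl_eq r x, qip_sub_left, qip_lsm_left, hr]
  have : (1 / 2 : ℝ) • (qip x r - (1 / 2 : ℝ) • qip x r * 4) = -((1 / 2 : ℝ) • qip x r) := by
    rw [show (4 : ℍ[ℝ]) = ((4 : ℝ) : ℍ[ℝ]) by norm_cast, Quaternion.mul_coe_eq_smul]
    module
  rw [this]
  funext t
  simp only [Pi.sub_apply, lsm, neg_mul]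
  abel

/-- the reflection in a minimal vector, as a permutation of the lattice -/
noncomputable def reflPerm (r : icoLeech) (hr : qip (r : Fin 3 → ℍ[ℝ]) r = 4) :
    Equiv.Perm icoLeech where
  toFun x := ⟨qrefl r x, qrefl_mem x.2 r.2⟩
  invFun x := ⟨qrefl r x, qrefl_mem x.2 r.2⟩
  left_inv _ := Subtype.ext (qrefl_qrefl hr _)
  right_inv _ := Subtype.ext (qrefl_qrefl hr _)

theorem reflPerm_apply (r : icoLeech) (hr : qip (r : Fin 3 → ℍ[ℝ]) r = 4) (x : icoLeech) :
    ((reflPerm r hr x : icoLeech) : Fin 3 → ℍ[ℝ]) = qrefl r x := rfl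

theorem isIcoReflection_reflPerm (r : icoLeech) (hr : qip (r : Fin 3 → ℍ[ℝ]) r = 4) :
    IsIcoReflection (reflPerm r hr) := ⟨r, hr, fun _ => rfl⟩

theorem isIcoReflection_iff (f : Equiv.Perm icoLeech) :
    IsIcoReflection f ↔ ∃ (r : icoLeech) (hr : qip (r : Fin 3 → ℍ[ℝ]) r = 4), f = reflPerm r hr := by
  constructor
  · rintro ⟨r, hr, h⟩
    refine ⟨r, hr, ?_⟩
    ext1 x
    exact Subtype.ext (h x)
  · rintro ⟨r, hr, rfl⟩
    exact isIcoReflection_reflPerm r hr

end Cfsg.Agent.Lib.Helper14.J2
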