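import Cfsg.Agent.Lib.Helper14.J2Xa

set_option autoImplicit false
set_option linter.style.haveILetI false

/-!
The Hall–Janko group as a permutation group on 315 points: simplicity by Iwasawa's criterion.
-/

namespace Cfsg.Agent.Lib.Helper14.J2

open Cfsg.Agent.Lib.Helper10.SW Cfsg.Agent.Lib.Helper10.SWSimple MulAction
open Cfsg.Agent.Lib.Helper14.IwaCenter

attribute [local irreducible] perm

theorem commB_sound {n P Q : ℕ} (hP : Valid n P) (hQ : Valid n Q) (h : commB n P Q = true) :
    perm n P * perm n Q = perm n Q * perm n P := by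
  unfold commB at h
  rw [allLt_iff] at h
  apply Equiv.ext
  intro i
  apply Fin.ext
  rw [Equiv.Perm.mul_apply, Equiv.Perm.mul_apply, perm_apply_val hP, perm_apply_val hQ,
    perm_apply_val hQ, perm_apply_val hP]
  exact beq_iff_eq.mp (h i.val i.isLt)

set_option maxRecDepth 100000 in
theorem sgens1_sub : ∀ c ∈ lv1.sgens, c ∈ allGens [lv0, lv1, lv2, lv3] := by decide +kernel

set_option maxRecDepth 100000 in
theorem c0_mem1 : c0 ∈ allGens [lv1, lv2, lv3] := by decide +kernel

/-- the first generator commutes with the point stabiliser -/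
theorem KJ_comm {k : Equiv.Perm (Fin 315)} (hk : k ∈ KJ) : k * perm 315 c0 = perm 315 c0 * k := by
  have hle : KJ ≤ Subgroup.centralizer {perm 315 c0} := by
    rw [KJ_eq]
    apply grp_le_iff.mpr
    intro c hc
    rw [Subgroup.mem_centralizer_singleton_iff]
    have hc' : c ∈ lv1.sgens := hc
    have h := List.all_eq_true.mp comm0 c hc'
    exact (commB_sound (valid_top h0) (valid0 c (sgens1_sub c hc')) h).symm
  have := hle hk
  rw [Subgroup.mem_centralizer_singleton_iff] at this
  exact this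

theorem c0_fix : perm 315 c0 v0 = v0 := by
  apply Fin.ext
  rw [perm_apply_val (valid_top h0)]
  exact (inv0.fixb lv0 _ rfl).2 c0 c0_mem1

theorem smul_def' (g : ↥PJ) (x : Fin 315) : g • x = g.1 x := rfl

theorem gen0_mem : gen c0 h0 ∈ (centerStab v0 : Subgroup ↥PJ) := by
  rw [mem_centerStab]
  refine ⟨c0_fix, fun k hk => ?_⟩
  apply Subtype.ext
  rw [Subgroup.coe_mul, Subgroup.coe_mul]
  apply KJ_comm
  rw [← stabP]
  exact Subgroup.mem_inf.mpr ⟨k.2, mem_stabilizer_iff.mpr hk⟩

theorem conj_gen {c : ℕ} (hc : c ∈ topGens) (hr : (gen c0 h0 * gen c hc) ^ 3 = 1) :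
    gen c hc = (gen c0 h0 * gen c hc) * gen c0 h0 * (gen c0 h0 * gen c hc)⁻¹ := by
  have ha := gen_sq h0
  have hb := gen_sq hc
  set a := gen c0 h0
  set b := gen c hc
  have ha' : a⁻¹ = a := inv_eq_of_mul_eq_one_right ha
  have hb' : b⁻¹ = b := inv_eq_of_mul_eq_one_right hb
  have h6 : a * b * (a * b) * (a * b) = 1 := by
    rw [← hr, pow_succ, pow_succ, pow_one]
  rw [mul_inv_rev, ha', hb']
  calc b = b * (a * b * (a * b) * (a * b))⁻¹ := by rw [h6, inv_one, mul_one]
    _ = a * b * a * (b * a) := by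
        simp only [mul_inv_rev, ha', hb']
        calc b * (b * a * (b * a * (b * a))) = (b * b) * a * b * a * b * a := by group
          _ = a * b * a * (b * a) := by rw [hb, one_mul]; group

theorem hgen : iSup (fun x : Fin 315 => (centerStab x : Subgroup ↥PJ)) = ⊤ := by
  apply eq_top_of_gens
  have key : ∀ c (hc : c ∈ topGens), (gen c0 h0 * gen c hc) ^ 3 = 1 →
      gen c hc ∈ iSup (fun x : Fin 315 => (centerStab x : Subgroup ↥PJ)) := by
    intro c hc hr
    have h1 : gen c hc ∈ (centerStab ((gen c0 h0 * gen c hc) • v0) : Subgroup ↥PJ) := by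
      rw [centerStab_smul]
      have := Subgroup.smul_mem_pointwise_smul (gen c0 h0)
        (MulAut.conj (gen c0 h0 * gen c hc)) (centerStab v0 : Subgroup ↥PJ) gen0_mem
      rw [MulAut.smul_def, MulAut.conj_apply, ← conj_gen hc hr] at this
      exact this
    exact (le_iSup (fun x : Fin 315 => (centerStab x : Subgroup ↥PJ)) _) h1
  intro c hc
  rcases mem_topGens hc with rfl | rfl | rfl | rfl
  · exact (le_iSup (fun x : Fin 315 => (centerStab x : Subgroup ↥PJ)) v0) gen0_mem
  · exact key c1 h1 (rel_cube h1 rel01)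
  · exact key c2 h2 (rel_cube h2 rel02)
  · exact key c3 h3 (rel_cube h3 rel03)

theorem noncomm_vals : ap 315 c0 (ap 315 c1 0) ≠ ap 315 c1 (ap 315 c0 0) := by decide +kernel

theorem gen_noncomm : gen c0 h0 * gen c1 h1 ≠ gen c1 h1 * gen c0 h0 := by
  intro h
  have h' := congrArg (fun g : ↥PJ => (g.1 (0 : Fin 315)).val) h
  simp only [Subgroup.coe_mul, Equiv.Perm.mul_apply] at h'
  have e0 : ((gen c0 h0 : ↥PJ) : Equiv.Perm (Fin 315)) = perm 315 c0 := rfl
  have e1 : ((gen c1 h1 : ↥PJ) : Equiv.Perm (Fin 315)) = perm 315 c1 := rfl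
  rw [e0, e1, perm_apply_val (valid_top h0), perm_apply_val (valid_top h1),
    perm_apply_val (valid_top h1), perm_apply_val (valid_top h0)] at h'
  exact noncomm_vals h'

theorem nontrivial_PJ : Nontrivial ↥PJ := by
  refine ⟨gen c0 h0 * gen c1 h1, gen c1 h1 * gen c0 h0, gen_noncomm⟩

/-- the group is simple -/
theorem isSimpleGroup_PJ : IsSimpleGroup ↥PJ := by
  haveI := preprimitive_PJ
  haveI := nontrivial_PJ
  exact IwaCenter.isSimpleGroup hperf hgen

end Cfsg.Agent.Lib.Helper14.J2
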