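import Cfsg.Agent.Lib.Helper14.J2Sp1
import Cfsg.Agent.Lib.Helper14.J2Xb

set_option autoImplicit false
set_option linter.style.haveILetI false

/-!
The point stabiliser `KJ` (order 1920) of the Hall–Janko group on 315 points: the five pairs of
neighbours of the base point, the 32 elements fixing the pairs, and the Boolean certificates.
(generated by gen_es.py)
-/

namespace Cfsg.Agent.Lib.Helper14.J2

open Cfsg.Agent.Lib.Helper10.SW MulAction

/-- the number of the pair of a neighbour of the base point, or 5 -/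
def blkN (x : ℕ) : ℕ :=
  if x = 1 ∨ x = 2 then 0 else if x = 51 ∨ x = 58 then 1
  else if x = 52 ∨ x = 57 then 2 else if x = 53 ∨ x = 56 then 3
  else if x = 54 ∨ x = 55 then 4 else 5

/-- a point of each pair (and the base point for the rest) -/
def repN (k : ℕ) : ℕ := [1, 51, 52, 53, 54, 0].getD k 0

/-- a permutation maps pairs to pairs -/
def blkOK (c : ℕ) : Bool :=
  allLt 315 fun x => blkN (ap 315 c x) == blkN (ap 315 c (repN (blkN x)))

set_option maxRecDepth 1000000 in
theorem blk_ok : ([c0, c4, c5, c6, c7, c8].all blkOK) = true := by decide +kernel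

/-- words for the 32 elements fixing the five pairs -/
def esE : List (List ℕ) := [
  [],
  [c0],
  [c5, c7],
  [c5i, c7],
  [c6, c4],
  [c6i, c4i],
  [c7, c5],
  [c7, c5i],
  [c6, c4, c0],
  [c6i, c4i, c0],
  [c4, c5, c7, c4i],
  [c4, c6i, c4i, c4i],
  [c4, c6i, c4i, c6],
  [c4, c7, c5i, c4i],
  [c4i, c6, c4, c4],
  [c4i, c6, c4, c6i],
  [c4i, c7, c5, c4],
  [c5, c7, c6, c4],
  [c6, c4, c6i, c4i],
  [c6, c6, c4, c4],
  [c6i, c4i, c6, c4],
  [c6i, c6i, c4i, c4i],
  [c6i, c7, c5i, c4i],
  [c7, c5, c6, c4],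
  [c7, c5i, c6, c4],
  [c7, c6, c4, c5],
  [c8, c5, c7, c8i],
  [c8, c5i, c7, c8i],
  [c8, c7, c5, c8i],
  [c8, c7, c5i, c8i],
  [c8i, c5, c7, c8],
  [c8i, c7, c5i, c8]]

/-- the images of the base points -/
def bimg (L : List ℕ) : List ℕ := rbPts.map (evalL 315 L)

/-- the images of the base points under the 32 elements -/
def esImg : List (List ℕ) := [
  [0, 3, 1, 5],
  [0, 34, 1, 32],
  [0, 7, 1, 10],
  [0, 29, 1, 28],
  [0, 11, 2, 16],
  [0, 33, 1, 31],
  [0, 8, 1, 9],
  [0, 30, 1, 27],
  [0, 26, 2, 21],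
  [0, 4, 1, 6],
  [0, 15, 2, 25],
  [0, 24, 2, 20],
  [0, 23, 2, 19],
  [0, 22, 2, 12],
  [0, 21, 2, 11],
  [0, 5, 1, 34],
  [0, 20, 2, 13],
  [0, 18, 2, 23],
  [0, 12, 2, 15],
  [0, 32, 1, 3],
  [0, 25, 2, 22],
  [0, 14, 2, 18],
  [0, 16, 2, 26],
  [0, 17, 2, 24],
  [0, 19, 2, 14],
  [0, 13, 2, 17],
  [0, 9, 1, 29],
  [0, 27, 1, 7],
  [0, 10, 1, 30],
  [0, 28, 1, 8],
  [0, 31, 1, 4],
  [0, 6, 1, 33]]

set_option maxRecDepth 1000000 in
theorem esImg_eq : esE.map bimg = esImg := by decide +kernel

theorem esImg_nodup : esImg.Nodup := by decide +kernel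

theorem esE_length : esE.length = 32 := by decide

set_option maxRecDepth 1000000 in
theorem esE_gens : ∀ w ∈ esE, ∀ c ∈ w, c ∈ lv1.moves.map Prod.fst := by decide +kernel

/-- a word fixes the five pairs -/
def fixB (W : List ℕ) : Bool := (List.range 5).all fun k => blkN (evalL 315 W (repN k)) == k

set_option maxRecDepth 1000000 in
theorem esE_fix : esE.all fixB = true := by decide +kernel

/-- a word fixing the five pairs is one of the 32 -/
def qOK (W : List ℕ) : Bool := !fixB W || esImg.contains (bimg W)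

set_option maxRecDepth 1000000 in
set_option maxHeartbeats 4000000 in
theorem q_ok : (nfWords 315 [lv1, lv2, lv3]).all qOK = true := by decide +kernel

/-- commutators lie in the centre -/
def commOK (a b : List ℕ) : Bool :=
  bimg (a ++ b) == bimg (b ++ a) || bimg (a ++ b) == bimg (c0 :: (b ++ a))

set_option maxRecDepth 1000000 in
set_option maxHeartbeats 4000000 in
theorem comm_ok : (esE.all fun a => esE.all fun b => commOK a b) = true := by decide +kernel

/-- squares lie in the centre -/
def sqOK (a : List ℕ) : Bool := bimg (a ++ a) == bimg [] || bimg (a ++ a) == bimg [c0]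

set_option maxRecDepth 1000000 in
theorem sq_ok : esE.all sqOK = true := by decide +kernel

/-- the centre has order 2 -/
def cenOK (a : List ℕ) : Bool :=
  bimg a == bimg [] || bimg a == bimg [c0] || esE.any fun b => bimg (a ++ b) != bimg (b ++ a)

set_option maxRecDepth 1000000 in
set_option maxHeartbeats 4000000 in
theorem cen_ok : esE.all cenOK = true := by decide +kernel

set_option maxRecDepth 1000000 in
theorem es_noncomm : bimg ([c5, c7] ++ [c6, c4]) ≠ bimg ([c6, c4] ++ [c5, c7]) := by
  decide +kernel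

theorem es_nc_mem : [c5, c7] ∈ esE ∧ [c6, c4] ∈ esE := by decide +kernel

set_option maxRecDepth 1000000 in
theorem es_z_ne : bimg [c0] ≠ bimg [] := by decide +kernel

end Cfsg.Agent.Lib.Helper14.J2
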