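import Cfsg.Agent.Lib.Helper14.J2EsA

set_option autoImplicit false
set_option linter.style.haveILetI false

/-!
The point stabiliser `KJ` of the Hall–Janko group on 315 points: the action on the five pairs of
neighbours of the base point, and the 32 elements of its kernel.
-/

namespace Cfsg.Agent.Lib.Helper14.J2

open Cfsg.Agent.Lib.Helper10.SW MulAction

attribute [local irreducible] perm

/-- the generators of the stabiliser, with their inverses -/
def kG : List ℕ := lv1.moves.map Prod.fst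

theorem kG_ok {c : ℕ} (hc : c ∈ kG) : Valid 315 c ∧ perm 315 c ∈ KJ := by
  obtain ⟨e, he, rfl⟩ := List.mem_map.mp hc
  obtain ⟨h1, -, -, h4⟩ := moves1 e he
  exact ⟨h1, h4⟩

theorem kG_aut {c : ℕ} (hc : c ∈ kG) : Valid 315 c ∧ perm 315 c ∈ autGroup 315 gam :=
  ⟨(kG_ok hc).1, PJ_le_aut (KJ_le_PJ (kG_ok hc).2)⟩

theorem esHtop2 : ∀ c ∈ allGens [lv2, lv3], perm 315 c ∈ autGroup 315 gam :=
  fun c hc => htop1 c (allGens_sub_cons lv1 _ c hc)

theorem esHtop3 : ∀ c ∈ allGens [lv3], perm 315 c ∈ autGroup 315 gam :=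
  fun c hc => esHtop2 c (allGens_sub_cons lv2 _ c hc)

theorem esInv2 : ChainInv 315 rbPts (autGroup 315 gam) [lv2, lv3] :=
  chain_sound 315 rbPts _ rigid5 _ esHtop2 chain2

theorem esInv3 : ChainInv 315 rbPts (autGroup 315 gam) [lv3] :=
  chain_sound 315 rbPts _ rigid5 _ esHtop3 chain3

theorem esAllInv : AllInv 315 rbPts (autGroup 315 gam) [lv1, lv2, lv3] :=
  ⟨inv1, esInv2, esInv3, trivial⟩

/-- every element of the point stabiliser is a normal form -/
theorem esKJ_nf {h : Equiv.Perm (Fin 315)} (hh : h ∈ KJ) :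
    ∃ W ∈ nfWords 315 [lv1, lv2, lv3], h = prodL 315 W ∧
      ∀ c ∈ W, Valid 315 c ∧ perm 315 c ∈ autGroup 315 gam := by
  obtain ⟨W, hW, e, hv⟩ := mem_nfWords _ esAllInv h hh
  refine ⟨W, hW, e, fun c hc => ⟨(hv c hc).1, ?_⟩⟩
  exact PJ_le_aut (KJ_le_PJ (hv c hc).2)

theorem rb_lt : ∀ x ∈ rbPts, x < 315 := by decide

/-- elements of the automorphism group with the same images of the base points are equal -/
theorem prodL_eq_of_bimg {L1 L2 : List ℕ}
    (h1 : ∀ c ∈ L1, Valid 315 c ∧ perm 315 c ∈ autGroup 315 gam)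
    (h2 : ∀ c ∈ L2, Valid 315 c ∧ perm 315 c ∈ autGroup 315 gam) (h : bimg L1 = bimg L2) :
    prodL 315 L1 = prodL 315 L2 := by
  have hg : (prodL 315 L2)⁻¹ * prodL 315 L1 ∈ autGroup 315 gam :=
    Subgroup.mul_mem _ (Subgroup.inv_mem _ (prodL_mem fun c hc => (h2 c hc).2))
      (prodL_mem fun c hc => (h1 c hc).2)
  have h3 := rigid5 _ hg (by
    intro x hx hxn
    rw [Equiv.Perm.mul_apply, Equiv.Perm.inv_eq_iff_eq]
    apply Fin.ext
    rw [prodL_apply_val _ (fun c hc => (h1 c hc).1), prodL_apply_val _ (fun c hc => (h2 c hc).1)]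
    unfold bimg at h
    exact List.map_inj_left.mp h x hx)
  exact (inv_mul_eq_one.mp h3).symm

theorem bimg_eq_of_prodL {L1 L2 : List ℕ} (h1 : ∀ c ∈ L1, Valid 315 c)
    (h2 : ∀ c ∈ L2, Valid 315 c) (h : prodL 315 L1 = prodL 315 L2) : bimg L1 = bimg L2 := by
  unfold bimg
  apply List.map_congr_left
  intro x hx
  have hxn : x < 315 := rb_lt x hx
  have h3 : ((prodL 315 L1) ⟨x, hxn⟩).val = ((prodL 315 L2) ⟨x, hxn⟩).val := by rw [h]
  rwa [prodL_apply_val _ h1, prodL_apply_val _ h2] at h3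

/-! ### the action on the five pairs -/

/-- the permutations mapping classes of points into classes -/
def Pres (g : Equiv.Perm (Fin 315)) : Prop :=
  ∀ x y : Fin 315, blkN x.val = blkN y.val → blkN (g x).val = blkN (g y).val

theorem pres_one : Pres 1 := fun _ _ h => h

theorem Pres.mul {g h : Equiv.Perm (Fin 315)} (hg : Pres g) (hh : Pres h) : Pres (g * h) :=
  fun x y e => hg _ _ (hh x y e)

theorem Pres.pow {g : Equiv.Perm (Fin 315)} (hg : Pres g) (k : ℕ) : Pres (g ^ k) := by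
  induction k with
  | zero => rw [pow_zero]; exact pres_one
  | succ k ih => rw [pow_succ]; exact ih.mul hg

theorem Pres.inv {g : Equiv.Perm (Fin 315)} (hg : Pres g) : Pres g⁻¹ := by
  have h : g⁻¹ = g ^ (orderOf g - 1) := by
    apply inv_eq_of_mul_eq_one_right
    rw [← pow_succ', Nat.sub_add_cancel (orderOf_pos g), pow_orderOf_eq_one]
  rw [h]
  exact hg.pow _

/-- the group of the permutations preserving the classes -/
def BJ : Subgroup (Equiv.Perm (Fin 315)) where
  carrier := {g | Pres g}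
  mul_mem' := fun hg hh => hg.mul hh
  one_mem' := pres_one
  inv_mem' := fun hg => hg.inv

theorem pres_gen {c : ℕ} (hv : Valid 315 c) (h : blkOK c = true) : Pres (perm 315 c) := by
  unfold blkOK at h
  rw [allLt_iff] at h
  intro x y e
  rw [perm_apply_val hv, perm_apply_val hv]
  have hx := beq_iff_eq.mp (h x.val x.isLt)
  have hy := beq_iff_eq.mp (h y.val y.isLt)
  rw [hx, hy, e]

theorem KJ_le_BJ : KJ ≤ BJ := by
  rw [KJ_eq]
  apply grp_le_iff.mpr
  intro c hc
  have hc' : c ∈ lv1.sgens := hc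
  exact pres_gen (valid0 c (sgens1_sub c hc')) (List.all_eq_true.mp blk_ok c hc)

theorem KJ_fix {g : Equiv.Perm (Fin 315)} (hg : g ∈ KJ) : g v0 = v0 := by
  have : g ∈ PJ ⊓ stabilizer (Equiv.Perm (Fin 315)) v0 := by rw [stabP]; exact hg
  exact mem_stabilizer_iff.mp (Subgroup.mem_inf.mp this).2

theorem blkN_le (x : ℕ) : blkN x ≤ 5 := by
  unfold blkN
  split_ifs <;> omega

theorem blkN_v0 : blkN (v0 : Fin 315).val = 5 := by decide

theorem blk_lt {g : Equiv.Perm (Fin 315)} (hg : g ∈ KJ) {x : Fin 315} (hx : blkN x.val < 5) :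
    blkN (g x).val < 5 := by
  by_contra hcon
  have h5 : blkN (g x).val = 5 := le_antisymm (blkN_le _) (not_lt.mp hcon)
  have hinv : Pres g⁻¹ := KJ_le_BJ (KJ.inv_mem hg)
  have h1 := hinv (g x) v0 (by rw [h5, blkN_v0])
  have h2 : g⁻¹ v0 = v0 := KJ_fix (KJ.inv_mem hg)
  have h3 : g⁻¹ (g x) = x := g.symm_apply_apply x
  rw [h3, h2, blkN_v0] at h1
  omega

/-- a point of each pair -/
def rep5 : Fin 5 → Fin 315 := ![1, 51, 52, 53, 54]

theorem blk_rep5 : ∀ k : Fin 5, blkN (rep5 k).val = k.val := by decide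

theorem rep5_val : ∀ k : Fin 5, (rep5 k).val = repN k.val := by decide

/-- the number of the pair, as an element of `Fin 5` -/
def blk5 (x : ℕ) : Fin 5 := ⟨blkN x % 5, Nat.mod_lt _ (by norm_num)⟩

theorem blk5_congr {a b : ℕ} (h : blkN a = blkN b) : blk5 a = blk5 b := by
  apply Fin.ext
  show blkN a % 5 = blkN b % 5
  rw [h]

theorem blk5_val {a : ℕ} (h : blkN a < 5) : (blk5 a).val = blkN a := Nat.mod_eq_of_lt h

/-- the action on the five pairs, as maps -/
noncomputable def psiM : ↥KJ →* Function.End (Fin 5) where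
  toFun g := fun k => blk5 (g.1 (rep5 k)).val
  map_one' := by
    funext k
    show blk5 (rep5 k).val = k
    apply Fin.ext
    rw [blk5_val (by rw [blk_rep5]; exact k.isLt), blk_rep5]
  map_mul' g h := by
    funext k
    show blk5 ((g.1 * h.1) (rep5 k)).val = blk5 (g.1 (rep5 (blk5 (h.1 (rep5 k)).val))).val
    have hx : blkN (h.1 (rep5 k)).val < 5 := blk_lt h.2 (by rw [blk_rep5]; exact k.isLt)
    have hj : blkN (rep5 (blk5 (h.1 (rep5 k)).val)).val = blkN (h.1 (rep5 k)).val := by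
      rw [blk_rep5, blk5_val hx]
    have hp : Pres g.1 := KJ_le_BJ g.2
    rw [Equiv.Perm.mul_apply]
    exact blk5_congr (hp _ _ hj).symm

/-- the action on the five pairs -/
noncomputable def psi : ↥KJ →* Equiv.Perm (Fin 5) :=
  (Equiv.Perm.equivUnitsEnd.symm.toMonoidHom).comp psiM.toHomUnits

theorem psi_apply (g : ↥KJ) (k : Fin 5) : psi g k = blk5 (g.1 (rep5 k)).val := rfl

theorem psi_eq_one_iff (g : ↥KJ) : psi g = 1 ↔ ∀ k : Fin 5, blkN (g.1 (rep5 k)).val = k.val := by
  constructor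
  · intro h k
    have h1 : psi g k = k := by rw [h]; rfl
    rw [psi_apply] at h1
    have hx : blkN (g.1 (rep5 k)).val < 5 := blk_lt g.2 (by rw [blk_rep5]; exact k.isLt)
    rw [← blk5_val hx, h1]
  · intro h
    ext1 k
    rw [psi_apply]
    apply Fin.ext
    show blkN (g.1 (rep5 k)).val % 5 = k.val
    rw [h k]
    exact Nat.mod_eq_of_lt k.isLt

theorem fixB_iff (W : List ℕ) :
    fixB W = true ↔ ∀ k : Fin 5, blkN (evalL 315 W (rep5 k).val) = k.val := by
  unfold fixB
  rw [List.all_eq_true]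
  constructor
  · intro h k
    have := h k.val (List.mem_range.mpr k.isLt)
    rw [beq_iff_eq] at this
    rw [rep5_val]
    exact this
  · intro h k hk
    rw [beq_iff_eq]
    have := h ⟨k, List.mem_range.mp hk⟩
    rw [rep5_val] at this
    exact this

theorem esE_aut {w : List ℕ} (hw : w ∈ esE) :
    ∀ c ∈ w, Valid 315 c ∧ perm 315 c ∈ autGroup 315 gam :=
  fun c hc => kG_aut (esE_gens w hw c hc)

theorem esE_valid {w : List ℕ} (hw : w ∈ esE) : ∀ c ∈ w, Valid 315 c :=
  fun c hc => (esE_aut hw c hc).1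

theorem esE_mem {w : List ℕ} (hw : w ∈ esE) : prodL 315 w ∈ KJ :=
  prodL_mem fun c hc => (kG_ok (esE_gens w hw c hc)).2

/-- the kernel of the action consists of the 32 listed elements -/
theorem mem_ker_iff (g : Equiv.Perm (Fin 315)) :
    (∃ hg : g ∈ KJ, psi ⟨g, hg⟩ = 1) ↔ ∃ w ∈ esE, g = prodL 315 w := by
  constructor
  · rintro ⟨hg, hψ⟩
    obtain ⟨W, hW, rfl, hv⟩ := esKJ_nf hg
    have hfix : fixB W = true := by
      rw [fixB_iff]
      intro k
      have := (psi_eq_one_iff _).mp hψ k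
      rwa [prodL_apply_val _ (fun c hc => (hv c hc).1)] at this
    have hq := List.all_eq_true.mp q_ok W hW
    unfold qOK at hq
    rw [hfix] at hq
    simp only [Bool.not_true, Bool.false_or] at hq
    have hmem : bimg W ∈ esImg := by simpa using hq
    rw [← esImg_eq] at hmem
    obtain ⟨w, hw, hbw⟩ := List.mem_map.mp hmem
    exact ⟨w, hw, prodL_eq_of_bimg hv (esE_aut hw) hbw.symm⟩
  · rintro ⟨w, hw, rfl⟩
    refine ⟨esE_mem hw, ?_⟩
    rw [psi_eq_one_iff]
    intro k
    show blkN ((prodL 315 w) (rep5 k)).val = k.val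
    rw [prodL_apply_val _ (esE_valid hw)]
    exact (fixB_iff w).mp (List.all_eq_true.mp esE_fix w hw) k

theorem esE_nodup : esE.Nodup := by
  apply List.Nodup.of_map bimg
  rw [esImg_eq]
  exact esImg_nodup

theorem prodL_injOn : Set.InjOn (prodL 315) {w | w ∈ esE} := by
  intro a ha b hb h
  have h1 := bimg_eq_of_prodL (esE_valid ha) (esE_valid hb) h
  have hnd : (esE.map bimg).Nodup := by rw [esImg_eq]; exact esImg_nodup
  exact List.inj_on_of_nodup_map hnd ha hb h1

/-- the kernel has order 32 -/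
theorem card_ker : Nat.card ↥psi.ker = 32 := by
  have h1 : ((fun x : ↥KJ => (x : Equiv.Perm (Fin 315))) '' (psi.ker : Set ↥KJ)) =
      (prodL 315) '' {w | w ∈ esE} := by
    ext g
    constructor
    · rintro ⟨x, hx, rfl⟩
      obtain ⟨w, hw, e⟩ := (mem_ker_iff x.1).mp ⟨x.2, hx⟩
      exact ⟨w, hw, e.symm⟩
    · rintro ⟨w, hw, rfl⟩
      obtain ⟨hg, hψ⟩ := (mem_ker_iff _).mpr ⟨w, hw, rfl⟩
      exact ⟨⟨_, hg⟩, hψ, rfl⟩
  have h2 : Nat.card ↥psi.ker = Set.ncard (psi.ker : Set ↥KJ) := (Nat.card_coe_set_eq _)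
  rw [h2, ← Set.ncard_image_of_injective _ Subtype.val_injective, h1,
    Set.InjOn.ncard_image prodL_injOn]
  have h3 : {w | w ∈ esE} = (esE.toFinset : Set (List ℕ)) := by
    ext w
    simp
  rw [h3, Set.ncard_coe_finset, List.toFinset_card_of_nodup esE_nodup, esE_length]

end Cfsg.Agent.Lib.Helper14.J2
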