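import Cfsg.Agent.Lib.Helper14.J2EsB
import Cfsg.Agent.Lib.Helper20.ESCriterion

set_option autoImplicit false
set_option linter.style.haveILetI false

/-!
The point stabiliser `KJ` of the Hall–Janko group on 315 points: the kernel of the action on the
five pairs is extraspecial of order 32, and the quotient is the alternating group of degree 5.
-/

namespace Cfsg.Agent.Lib.Helper14.J2

open Cfsg.Agent.Lib.Helper10.SW MulAction Cfsg.Agent.Lib.Helper20.ES
open scoped commutatorElement

attribute [local irreducible] perm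

/-- transport of `ESData` along an isomorphism -/
theorem esData_equiv' {p : ℕ} {E F : Type*} [Group E] [Group F] {z : E} (h : ESData p E z)
    (e : E ≃* F) : ESData p F (e z) where
  z_ne := fun h1 => h.z_ne ((EmbeddingLike.map_eq_one_iff (f := e)).mp h1)
  z_pow := by rw [← map_pow, h.z_pow, map_one]
  z_central := by
    rw [Subgroup.mem_center_iff]
    intro g
    obtain ⟨g', rfl⟩ := e.surjective g
    rw [← map_mul, ← map_mul, Subgroup.mem_center_iff.mp h.z_central g']
  center_le := by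
    intro w hw
    obtain ⟨w', rfl⟩ := e.surjective w
    have hw' : w' ∈ Subgroup.center E := by
      rw [Subgroup.mem_center_iff] at hw ⊢
      intro g
      apply e.injective
      rw [map_mul, map_mul]
      exact hw (e g)
    obtain ⟨k, hk⟩ := Subgroup.mem_zpowers_iff.mp (h.center_le _ hw')
    exact Subgroup.mem_zpowers_iff.mpr ⟨k, by rw [← map_zpow, hk]⟩
  comm_mem := by
    intro x y
    obtain ⟨x', rfl⟩ := e.surjective x
    obtain ⟨y', rfl⟩ := e.surjective y
    obtain ⟨k, hk⟩ := Subgroup.mem_zpowers_iff.mp (h.comm_mem x' y')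
    exact Subgroup.mem_zpowers_iff.mpr ⟨k, by rw [← map_zpow, hk, map_commutatorElement]⟩
  pow_mem := by
    intro x
    obtain ⟨x', rfl⟩ := e.surjective x
    obtain ⟨k, hk⟩ := Subgroup.mem_zpowers_iff.mp (h.pow_mem x')
    exact Subgroup.mem_zpowers_iff.mpr ⟨k, by rw [← map_zpow, hk, map_pow]⟩

theorem ker_word (x : ↥psi.ker) : ∃ a ∈ esE, (x.1.1 : Equiv.Perm (Fin 315)) = prodL 315 a :=
  (mem_ker_iff x.1.1).mp ⟨x.1.2, x.2⟩

theorem ker_ext {x y : ↥psi.ker}
    (h : (x.1.1 : Equiv.Perm (Fin 315)) = y.1.1) : x = y := Subtype.ext (Subtype.ext h)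

theorem c0_word : [c0] ∈ esE := by
  unfold esE
  exact List.mem_cons_of_mem _ List.mem_cons_self

theorem nil_word : [] ∈ esE := by
  unfold esE
  exact List.mem_cons_self

theorem prodL_c0 : prodL 315 [c0] = perm 315 c0 := by rw [prodL_cons, prodL_nil, mul_one]

theorem c0_ker : ∃ hg : perm 315 c0 ∈ KJ, psi ⟨perm 315 c0, hg⟩ = 1 :=
  (mem_ker_iff _).mpr ⟨[c0], c0_word, prodL_c0.symm⟩

/-- the central involution -/
noncomputable def zK : ↥psi.ker := ⟨⟨perm 315 c0, c0_ker.fst⟩, c0_ker.snd⟩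

theorem zK_val : (zK.1.1 : Equiv.Perm (Fin 315)) = perm 315 c0 := rfl

theorem aut_append {a b : List ℕ}
    (ha : ∀ c ∈ a, Valid 315 c ∧ perm 315 c ∈ autGroup 315 gam)
    (hb : ∀ c ∈ b, Valid 315 c ∧ perm 315 c ∈ autGroup 315 gam) :
    ∀ c ∈ a ++ b, Valid 315 c ∧ perm 315 c ∈ autGroup 315 gam := by
  intro c hc
  rcases List.mem_append.mp hc with h | h
  · exact ha c h
  · exact hb c h

theorem c0_aut : Valid 315 c0 ∧ perm 315 c0 ∈ autGroup 315 gam :=
  ⟨valid_top h0, PJ_le_aut (perm_mem_PJ h0)⟩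

theorem aut_cons {b : List ℕ} (hb : ∀ c ∈ b, Valid 315 c ∧ perm 315 c ∈ autGroup 315 gam) :
    ∀ c ∈ c0 :: b, Valid 315 c ∧ perm 315 c ∈ autGroup 315 gam := by
  intro c hc
  rcases List.mem_cons.mp hc with rfl | h
  · exact c0_aut
  · exact hb c h

theorem aut_nil : ∀ c ∈ ([] : List ℕ), Valid 315 c ∧ perm 315 c ∈ autGroup 315 gam :=
  fun c hc => absurd hc List.not_mem_nil

theorem comm_cases {a b : List ℕ} (ha : a ∈ esE) (hb : b ∈ esE) :
    prodL 315 a * prodL 315 b = prodL 315 b * prodL 315 a ∨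
      prodL 315 a * prodL 315 b = perm 315 c0 * (prodL 315 b * prodL 315 a) := by
  have h := List.all_eq_true.mp (List.all_eq_true.mp comm_ok a ha) b hb
  unfold commOK at h
  rw [Bool.or_eq_true, beq_iff_eq, beq_iff_eq] at h
  rcases h with h | h
  · left
    rw [← prodL_append, ← prodL_append]
    exact prodL_eq_of_bimg (aut_append (esE_aut ha) (esE_aut hb))
      (aut_append (esE_aut hb) (esE_aut ha)) h
  · right
    rw [← prodL_append, ← prodL_append, ← prodL_cons]
    exact prodL_eq_of_bimg (aut_append (esE_aut ha) (esE_aut hb))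
      (aut_cons (aut_append (esE_aut hb) (esE_aut ha))) h

theorem sq_cases {a : List ℕ} (ha : a ∈ esE) :
    prodL 315 a * prodL 315 a = 1 ∨ prodL 315 a * prodL 315 a = perm 315 c0 := by
  have h := List.all_eq_true.mp sq_ok a ha
  unfold sqOK at h
  rw [Bool.or_eq_true, beq_iff_eq, beq_iff_eq] at h
  rcases h with h | h
  · left
    rw [← prodL_append, ← prodL_nil 315]
    exact prodL_eq_of_bimg (aut_append (esE_aut ha) (esE_aut ha)) aut_nil h
  · right
    rw [← prodL_append, ← prodL_c0]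
    exact prodL_eq_of_bimg (aut_append (esE_aut ha) (esE_aut ha)) (aut_cons aut_nil) h

theorem cen_cases {a : List ℕ} (ha : a ∈ esE) :
    prodL 315 a = 1 ∨ prodL 315 a = perm 315 c0 ∨
      ∃ b ∈ esE, prodL 315 a * prodL 315 b ≠ prodL 315 b * prodL 315 a := by
  have h := List.all_eq_true.mp cen_ok a ha
  unfold cenOK at h
  rw [Bool.or_eq_true, Bool.or_eq_true, beq_iff_eq, beq_iff_eq, List.any_eq_true] at h
  rcases h with (h | h) | ⟨b, hb, h⟩
  · left
    rw [← prodL_nil 315]
    exact prodL_eq_of_bimg (esE_aut ha) aut_nil h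
  · right; left
    rw [← prodL_c0]
    exact prodL_eq_of_bimg (esE_aut ha) (aut_cons aut_nil) h
  · right; right
    refine ⟨b, hb, ?_⟩
    intro e
    rw [← prodL_append, ← prodL_append] at e
    have := bimg_eq_of_prodL (fun c hc => (aut_append (esE_aut ha) (esE_aut hb) c hc).1)
      (fun c hc => (aut_append (esE_aut hb) (esE_aut ha) c hc).1) e
    rw [bne_iff_ne] at h
    exact h this

theorem mul_val (x y : ↥psi.ker) :
    ((x * y).1.1 : Equiv.Perm (Fin 315)) = x.1.1 * y.1.1 := rfl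

theorem one_val : ((1 : ↥psi.ker).1.1 : Equiv.Perm (Fin 315)) = 1 := rfl

theorem esData_ker : ESData 2 ↥psi.ker zK where
  z_ne := by
    intro h
    have h1 : perm 315 c0 = 1 := by
      have := congrArg (fun x : ↥psi.ker => (x.1.1 : Equiv.Perm (Fin 315))) h
      exact this
    rw [← prodL_c0, ← prodL_nil 315] at h1
    exact es_z_ne (bimg_eq_of_prodL (fun c hc => (aut_cons aut_nil c hc).1)
      (fun c hc => (aut_nil c hc).1) h1)
  z_pow := by
    apply ker_ext
    rw [pow_two, mul_val, zK_val, one_val]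
    exact sq_top h0
  z_central := by
    rw [Subgroup.mem_center_iff]
    intro g
    apply ker_ext
    rw [mul_val, mul_val, zK_val]
    exact KJ_comm g.1.2
  center_le := by
    intro w hw
    rw [Subgroup.mem_center_iff] at hw
    obtain ⟨a, ha, ea⟩ := ker_word w
    rcases cen_cases ha with h | h | ⟨b, hb, h⟩
    · have : w = 1 := ker_ext (by rw [ea, h, one_val])
      rw [this]
      exact Subgroup.one_mem _
    · have : w = zK := ker_ext (by rw [ea, h, zK_val])
      rw [this]
      exact Subgroup.mem_zpowers _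
    · exfalso
      obtain ⟨hg, hψ⟩ := (mem_ker_iff _).mpr ⟨b, hb, rfl⟩
      have := hw ⟨⟨prodL 315 b, hg⟩, hψ⟩
      have h2 := congrArg (fun x : ↥psi.ker => (x.1.1 : Equiv.Perm (Fin 315))) this
      simp only [mul_val] at h2
      rw [ea] at h2
      exact h h2.symm
  comm_mem := by
    intro x y
    obtain ⟨a, ha, ea⟩ := ker_word x
    obtain ⟨b, hb, eb⟩ := ker_word y
    rcases comm_cases ha hb with h | h
    · have : x * y = y * x := ker_ext (by rw [mul_val, mul_val, ea, eb, h])
      rw [commutatorElement_eq_one_iff_mul_comm.mpr this]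
      exact Subgroup.one_mem _
    · have : x * y = zK * (y * x) := ker_ext (by rw [mul_val, mul_val, mul_val, ea, eb, zK_val, h])
      have h2 : ⁅x, y⁆ = zK := by
        rw [commutatorElement_def, this]
        group
      rw [h2]
      exact Subgroup.mem_zpowers _
  pow_mem := by
    intro x
    obtain ⟨a, ha, ea⟩ := ker_word x
    rcases sq_cases ha with h | h
    · have : x ^ 2 = 1 := by
        rw [pow_two]
        exact ker_ext (by rw [mul_val, ea, h, one_val])
      rw [this]
      exact Subgroup.one_mem _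
    · have : x ^ 2 = zK := by
        rw [pow_two]
        exact ker_ext (by rw [mul_val, ea, h, zK_val])
      rw [this]
      exact Subgroup.mem_zpowers _

theorem ker_nonabelian : ∃ x y : ↥psi.ker, ⁅x, y⁆ ≠ 1 := by
  obtain ⟨ha, hb⟩ := es_nc_mem
  obtain ⟨hg, hψ⟩ := (mem_ker_iff _).mpr ⟨_, ha, rfl⟩
  obtain ⟨hg', hψ'⟩ := (mem_ker_iff _).mpr ⟨_, hb, rfl⟩
  refine ⟨⟨⟨_, hg⟩, hψ⟩, ⟨⟨_, hg'⟩, hψ'⟩, ?_⟩
  intro h
  rw [commutatorElement_eq_one_iff_mul_comm] at h
  have h2 := congrArg (fun x : ↥psi.ker => (x.1.1 : Equiv.Perm (Fin 315))) h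
  simp only [mul_val] at h2
  rw [← prodL_append, ← prodL_append] at h2
  exact es_noncomm (bimg_eq_of_prodL (fun c hc => (aut_append (esE_aut ha) (esE_aut hb) c hc).1)
    (fun c hc => (aut_append (esE_aut hb) (esE_aut ha) c hc).1) h2)

/-- the image of the action is the alternating group -/
theorem card_range : Nat.card ↥psi.range = 60 := by
  have h1 := Subgroup.card_eq_card_quotient_mul_card_subgroup psi.ker
  rw [card_KJ, card_ker, Nat.card_congr (QuotientGroup.quotientKerEquivRange psi).toEquiv] at h1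
  omega

theorem range_eq : psi.range = alternatingGroup (Fin 5) := by
  apply Equiv.Perm.eq_alternatingGroup_of_index_eq_two
  have h := Subgroup.index_mul_card psi.range
  rw [card_range, Nat.card_eq_fintype_card, Fintype.card_perm, Fintype.card_fin] at h
  have : Nat.factorial 5 = 120 := rfl
  omega

/-- the structure of the stabiliser: a normal extraspecial subgroup of order 32 with quotient
the alternating group of degree 5 -/
def Good (X : Type*) [Group X] : Prop :=
  ∃ (Q : Subgroup X) (_ : Q.Normal), Nat.card Q = 32 ∧ (∃ z : ↥Q, ESData 2 ↥Q z) ∧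
    (∃ x y : ↥Q, ⁅x, y⁆ ≠ 1) ∧ Nonempty (X ⧸ Q ≃* alternatingGroup (Fin 5))

theorem good_KJ : Good ↥KJ :=
  ⟨psi.ker, inferInstance, card_ker, ⟨zK, esData_ker⟩, ker_nonabelian,
    ⟨(QuotientGroup.quotientKerEquivRange psi).trans (MulEquiv.subgroupCongr range_eq)⟩⟩

theorem Good.of_equiv {X Y : Type*} [Group X] [Group Y] (e : X ≃* Y) (h : Good X) : Good Y := by
  obtain ⟨Q, hQ, hcard, ⟨z, hz⟩, ⟨x, y, hxy⟩, ⟨φ⟩⟩ := h
  let e' : ↥Q ≃* ↥(Q.map e.toMonoidHom) := e.subgroupMap Q
  refine ⟨Q.map e.toMonoidHom, hQ.map e.toMonoidHom e.surjective, ?_, ⟨e' z, esData_equiv' hz e'⟩,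
    ⟨e' x, e' y, ?_⟩, ?_⟩
  · rw [← Nat.card_congr e'.toEquiv, hcard]
  · rw [← map_commutatorElement]
    intro h1
    exact hxy ((EmbeddingLike.map_eq_one_iff (f := e')).mp h1)
  · haveI := hQ
    haveI : (Q.map e.toMonoidHom).Normal := hQ.map e.toMonoidHom e.surjective
    have hmap : Q.map (e : X →* Y) = Q.map e.toMonoidHom := rfl
    exact ⟨(QuotientGroup.congr Q (Q.map e.toMonoidHom) e hmap).symm.trans φ⟩

theorem Good.extraspecial {X : Type*} [Group X] (h : Good X) :
    ∃ (Q : Subgroup X) (_ : Q.Normal), Nat.card Q = 32 ∧ Cfsg.IsExtraspecial 2 Q ∧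
      Nonempty (X ⧸ Q ≃* alternatingGroup (Fin 5)) := by
  obtain ⟨Q, hQ, hcard, ⟨z, hz⟩, hxy, hφ⟩ := h
  haveI : Finite ↥Q := Nat.finite_of_card_ne_zero (by rw [hcard]; norm_num)
  haveI : Fact (Nat.Prime 2) := ⟨Nat.prime_two⟩
  exact ⟨Q, hQ, hcard, hz.isExtraspecial hxy, hφ⟩

end Cfsg.Agent.Lib.Helper14.J2
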