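import Cfsg.Agent.Lib.Helper14.J2Tab
import Cfsg.Agent.Lib.Helper14.J2Xb

set_option autoImplicit false
set_option linter.style.haveILetI false

/-!
The link between the reflection group `twoJ2` of the icosian Leech lattice and the permutation
group `PJ` on 315 points: the image of the conjugation action is `PJ`, so `J2 ≃* PJ`.
-/

namespace Cfsg.Agent.Lib.Helper14.J2

open Quaternion Cfsg.Spor ZQ V3 Cfsg.Agent.Lib.Helper10.SW MulAction

attribute [local irreducible] perm

theorem toV_umul {u : ZQ} {w : V3} (hu : Par u) (hw : InL w) :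
    toV (umul u w) = lsm (toH u) (toV w) := by
  obtain ⟨px, py, pz, -⟩ := hw
  funext t
  fin_cases t
  · exact toH_mulH hu px
  · exact toH_mulH hu py
  · exact toH_mulH hu pz

theorem reflPerm_eq_refl_of_lsm {r : icoLeech} (hr : qip (r : Fin 3 → ℍ[ℝ]) r = 4) {u : ZQ}
    {w : V3} (hu : IsUnitZ u) (hw : w ∈ normLit) (e : (r : Fin 3 → ℍ[ℝ]) = lsm (toH u) (toV w)) :
    reflPerm r hr = refl w := by
  ext1 x
  apply Subtype.ext
  rw [reflPerm_apply, refl_apply (normLit_ok w hw), e, qrefl_lsm_unit (toH_unit' hu)]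

/-- conjugating a reflection by a reflection, from the integer model -/
theorem conj_refl_of_isRefl {r x y : V3} {u : ZQ} (hr : r ∈ normLit) (hx : x ∈ normLit)
    (hy : y ∈ normLit) (hu : IsUnitZ u) (h : IsRefl r x (umul u y)) :
    refl r * refl x * (refl r)⁻¹ = refl y := by
  have hr' := normLit_ok r hr
  have hx' := normLit_ok x hx
  rw [refl_eq hr', refl_eq hx', (ext_reflPerm _ _).conj_reflPerm]
  apply reflPerm_eq_refl_of_lsm _ hu hy
  rw [reflPerm_apply]
  simp only
  rw [qrefl_toV h, toV_umul hu.1 (normLit_ok y hy).1]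

theorem tabOK_sound {j c : ℕ} {tab : List ZQ} (hj : j < 315) (h : tabOK j c tab = true) (i : ℕ)
    (hi : i < 315) :
    refl (nl j) * refl (nl i) * (refl (nl j))⁻¹ = refl (nl (ap 315 c i)) := by
  unfold tabOK at h
  rw [allLt_iff] at h
  have := h i hi
  rw [decide_eq_true_eq] at this
  exact conj_refl_of_isRefl (nl_mem hj) (nl_mem hi) (nl_mem (ap_lt hi)) this.1 this.2

/-- the `j`-th reflection as an element of `twoJ2` -/
noncomputable def rho (j : ℕ) (hj : j < 315) : twoJ2 := ⟨refl (nl j), refl_mem_twoJ2 (nl_mem hj)⟩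

theorem kap_rho {j c : ℕ} {tab : List ZQ} (hj : j < 315) (hc : Valid 315 c)
    (h : tabOK j c tab = true) : kap (rho j hj) = perm 315 c := by
  ext1 i
  rw [kap_eq_iff]
  have := tabOK_sound hj h i.val i.isLt
  rw [perm_apply_val hc]
  exact this

/-- the four generating reflections -/
noncomputable def rhoGens : Set twoJ2 :=
  {rho 0 (by norm_num), rho 131 (by norm_num), rho 184 (by norm_num), rho 272 (by norm_num)}

theorem kap_image : kap '' rhoGens = {g | ∃ c ∈ topGens, g = perm 315 c} := by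
  have e0 := kap_rho (by norm_num : 0 < 315) (valid_top h0) tab_ok0
  have e1 := kap_rho (by norm_num : 131 < 315) (valid_top h1) tab_ok1
  have e2 := kap_rho (by norm_num : 184 < 315) (valid_top h2) tab_ok2
  have e3 := kap_rho (by norm_num : 272 < 315) (valid_top h3) tab_ok3
  ext g
  constructor
  · rintro ⟨x, hx, rfl⟩
    unfold rhoGens at hx
    simp only [Set.mem_insert_iff, Set.mem_singleton_iff] at hx
    rcases hx with rfl | rfl | rfl | rfl
    · exact ⟨c0, h0, e0⟩
    · exact ⟨c1, h1, e1⟩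
    · exact ⟨c2, h2, e2⟩
    · exact ⟨c3, h3, e3⟩
  · rintro ⟨c, hc, rfl⟩
    unfold rhoGens
    rcases mem_topGens hc with rfl | rfl | rfl | rfl
    · exact ⟨_, by simp, e0⟩
    · exact ⟨_, by simp, e1⟩
    · exact ⟨_, by simp, e2⟩
    · exact ⟨_, by simp, e3⟩

theorem map_closure_rhoGens : (Subgroup.closure rhoGens).map kap = PJ := by
  rw [MonoidHom.map_closure, kap_image, PJ_eq']
  rfl

/-- the four reflections generate `twoJ2` -/
theorem closure_rhoGens : Subgroup.closure rhoGens = ⊤ := by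
  have hrefl : ∀ k (hk : k < 315), rho k hk ∈ Subgroup.closure rhoGens := by
    intro k hk
    obtain ⟨p, hp, hpk⟩ := exists_map (⟨k, hk⟩ : Fin 315)
    rw [← map_closure_rhoGens] at hp
    obtain ⟨g, hg, rfl⟩ := hp
    have h1 := (kap_eq_iff g v0 ⟨k, hk⟩).mp hpk
    have h2 : rho k hk = g * rho 0 (by norm_num) * g⁻¹ := by
      apply Subtype.ext
      exact h1.symm
    rw [h2]
    refine Subgroup.mul_mem _ (Subgroup.mul_mem _ hg ?_) (Subgroup.inv_mem _ hg)
    apply Subgroup.subset_closure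
    unfold rhoGens
    simp
  rw [eq_top_iff]
  have hcl := Subgroup.closure_closure_coe_preimage (k := {f : Equiv.Perm icoLeech | IsIcoReflection f})
  have hcl' : (⊤ : Subgroup ↥twoJ2) = Subgroup.closure
      (((↑) : ↥twoJ2 → Equiv.Perm icoLeech) ⁻¹' {f | IsIcoReflection f}) := hcl.symm
  rw [hcl', Subgroup.closure_le]
  rintro ⟨f, hf⟩ hfr
  have hfr' : IsIcoReflection f := hfr
  obtain ⟨w, hw, rfl⟩ := (isIcoReflection_iff_refl f).mp hfr'
  obtain ⟨k, hk, rfl⟩ := exists_nl hw
  exact hrefl k hk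

theorem range_kap : kap.range = PJ := by
  rw [← map_closure_rhoGens, closure_rhoGens, MonoidHom.range_eq_map]

/-- the Hall–Janko group of the icosian Leech lattice is the permutation group on 315 points -/
noncomputable def j2Equiv : J2 ≃* ↥PJ :=
  ((QuotientGroup.quotientMulEquivOfEq ker_kap.symm).trans
    (QuotientGroup.quotientKerEquivRange kap)).trans (MulEquiv.subgroupCongr range_kap)

theorem card_J2 : Nat.card J2 = 604800 := by
  rw [Nat.card_congr j2Equiv.toEquiv, card_PJ]

theorem isSimpleGroup_J2 : IsSimpleGroup J2 := by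
  haveI := isSimpleGroup_PJ
  exact j2Equiv.isSimpleGroup

theorem card_twoJ2 : Nat.card ↥twoJ2 = 1209600 := by
  rw [Subgroup.card_eq_card_quotient_mul_card_subgroup (Subgroup.center ↥twoJ2), card_center]
  have : Nat.card (↥twoJ2 ⧸ Subgroup.center ↥twoJ2) = 604800 := card_J2
  rw [this]

theorem noncomm_J2 : ∃ a b : J2, a * b ≠ b * a := by
  refine ⟨j2Equiv.symm (gen c0 h0), j2Equiv.symm (gen c1 h1), ?_⟩
  intro h
  rw [← map_mul, ← map_mul] at h
  exact gen_noncomm (j2Equiv.symm.injective h)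

/-- any two reflections are conjugate in `twoJ2` -/
theorem refl_conj (f f' : Equiv.Perm icoLeech) (hf : IsIcoReflection f)
    (hf' : IsIcoReflection f') : ∃ g ∈ twoJ2, g * f * g⁻¹ = f' := by
  obtain ⟨w, hw, rfl⟩ := (isIcoReflection_iff_refl f).mp hf
  obtain ⟨w', hw', rfl⟩ := (isIcoReflection_iff_refl f').mp hf'
  obtain ⟨i, hi, rfl⟩ := exists_nl hw
  obtain ⟨k, hk, rfl⟩ := exists_nl hw'
  haveI := pretransitive_PJ
  obtain ⟨p, hp⟩ := exists_smul_eq ↥PJ (⟨i, hi⟩ : Fin 315) ⟨k, hk⟩
  have hp' : p.1 ∈ kap.range := by rw [range_kap]; exact p.2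
  obtain ⟨g, hg⟩ := hp'
  refine ⟨g.1, g.2, ?_⟩
  apply (kap_eq_iff g ⟨i, hi⟩ ⟨k, hk⟩).mp
  rw [hg]
  exact hp

end Cfsg.Agent.Lib.Helper14.J2
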