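import Cfsg.Agent.Lib.Helper14.J2EsC
import Cfsg.Agent.Lib.Helper14.J2Link

set_option autoImplicit false
set_option linter.style.haveILetI false

/-!
The centraliser of the image of a reflection in the Hall–Janko group is isomorphic to the point
stabiliser `KJ` on 315 points.
-/

namespace Cfsg.Agent.Lib.Helper14.J2

open Quaternion Cfsg.Spor Cfsg.Agent.Lib.Helper10.SW MulAction

attribute [local irreducible] perm

/-- conjugate elements have isomorphic centralisers -/
def centConj {G : Type*} [Group G] (a z : G) :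
    ↥(Subgroup.centralizer {a * z * a⁻¹}) ≃* ↥(Subgroup.centralizer {z}) where
  toFun x := ⟨a⁻¹ * x.1 * a, by
    have hx := Subgroup.mem_centralizer_singleton_iff.mp x.2
    rw [Subgroup.mem_centralizer_singleton_iff]
    calc a⁻¹ * x.1 * a * z = a⁻¹ * (x.1 * (a * z * a⁻¹)) * a := by group
      _ = a⁻¹ * ((a * z * a⁻¹) * x.1) * a := by rw [hx]
      _ = z * (a⁻¹ * x.1 * a) := by group⟩
  invFun y := ⟨a * y.1 * a⁻¹, by
    have hy := Subgroup.mem_centralizer_singleton_iff.mp y.2
    rw [Subgroup.mem_centralizer_singleton_iff]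
    calc a * y.1 * a⁻¹ * (a * z * a⁻¹) = a * (y.1 * z) * a⁻¹ := by group
      _ = a * (z * y.1) * a⁻¹ := by rw [hy]
      _ = a * z * a⁻¹ * (a * y.1 * a⁻¹) := by group⟩
  left_inv x := Subtype.ext (by
    show a * (a⁻¹ * x.1 * a) * a⁻¹ = x.1
    group)
  right_inv y := Subtype.ext (by
    show a⁻¹ * (a * y.1 * a⁻¹) * a = y.1
    group)
  map_mul' x y := Subtype.ext (by
    show a⁻¹ * (x.1 * y.1) * a = a⁻¹ * x.1 * a * (a⁻¹ * y.1 * a)
    group)

/-- an isomorphism maps centralisers to centralisers -/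
def centMap {G H : Type*} [Group G] [Group H] (e : G ≃* H) (z : G) :
    ↥(Subgroup.centralizer {z}) ≃* ↥(Subgroup.centralizer {e z}) where
  toFun x := ⟨e x.1, by
    rw [Subgroup.mem_centralizer_singleton_iff, ← map_mul, ← map_mul,
      Subgroup.mem_centralizer_singleton_iff.mp x.2]⟩
  invFun y := ⟨e.symm y.1, by
    rw [Subgroup.mem_centralizer_singleton_iff]
    apply e.injective
    rw [map_mul, map_mul, e.apply_symm_apply]
    exact Subgroup.mem_centralizer_singleton_iff.mp y.2⟩
  left_inv x := Subtype.ext (e.symm_apply_apply _)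
  right_inv y := Subtype.ext (e.apply_symm_apply _)
  map_mul' x y := Subtype.ext (map_mul e _ _)

theorem j2Equiv_mk (γ : twoJ2) :
    ((j2Equiv (QuotientGroup.mk γ : J2) : ↥PJ) : Equiv.Perm (Fin 315)) = kap γ := rfl

theorem j2Equiv_rho0 : j2Equiv (QuotientGroup.mk (rho 0 (by norm_num)) : J2) = gen c0 h0 := by
  apply Subtype.ext
  rw [j2Equiv_mk]
  exact kap_rho (by norm_num : 0 < 315) (valid_top h0) tab_ok0

/-- the centraliser of the first generator is the point stabiliser -/
theorem centralizer_gen0 :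
    Subgroup.centralizer {gen c0 h0} = stabilizer ↥PJ v0 := by
  have hle : stabilizer ↥PJ v0 ≤ Subgroup.centralizer {gen c0 h0} := by
    intro k hk
    rw [Subgroup.mem_centralizer_singleton_iff]
    have := (IwaCenter.mem_centerStab.mp gen0_mem).2 k (mem_stabilizer_iff.mp hk)
    exact this
  have hne : Subgroup.centralizer {gen c0 h0} ≠ (⊤ : Subgroup ↥PJ) := by
    intro h
    have h1 : gen c1 h1 ∈ Subgroup.centralizer {gen c0 h0} := by rw [h]; exact Subgroup.mem_top _
    rw [Subgroup.mem_centralizer_singleton_iff] at h1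
    exact gen_noncomm h1.symm
  exact ((hmax.le_iff_eq hne).mp hle)

/-- the point stabiliser, as a subgroup of the permutation group or of the group -/
noncomputable def stabEquiv : ↥(stabilizer ↥PJ v0) ≃* ↥KJ where
  toFun x := ⟨x.1.1, by
    rw [← stabP]
    exact Subgroup.mem_inf.mpr ⟨x.1.2, mem_stabilizer_iff.mpr (mem_stabilizer_iff.mp x.2)⟩⟩
  invFun y := ⟨⟨y.1, KJ_le_PJ y.2⟩, by
    rw [mem_stabilizer_iff]
    exact KJ_fix y.2⟩
  left_inv _ := rfl
  right_inv _ := rfl
  map_mul' _ _ := rfl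

/-- the structure of the centraliser of the image of a reflection -/
theorem good_cent (f : Equiv.Perm ↥icoLeech) (hf : IsIcoReflection f) (hfm : f ∈ twoJ2) :
    Good ↥(Subgroup.centralizer {(QuotientGroup.mk ⟨f, hfm⟩ : J2)}) := by
  obtain ⟨g, hg, hgf⟩ := refl_conj (refl (nl 0)) f
    (isIcoReflection_refl (nl_mem (by norm_num : 0 < 315))) hf
  have heq : (QuotientGroup.mk ⟨f, hfm⟩ : J2) =
      (QuotientGroup.mk ⟨g, hg⟩ : J2) * QuotientGroup.mk (rho 0 (by norm_num)) *
        (QuotientGroup.mk ⟨g, hg⟩ : J2)⁻¹ := by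
    rw [← QuotientGroup.mk_inv, ← QuotientGroup.mk_mul, ← QuotientGroup.mk_mul]
    congr 1
    apply Subtype.ext
    exact hgf.symm
  rw [heq]
  apply Good.of_equiv _ good_KJ
  refine MulEquiv.symm ?_
  refine (centConj _ _).trans ?_
  refine (centMap j2Equiv _).trans ?_
  rw [j2Equiv_rho0, centralizer_gen0]
  exact stabEquiv

end Cfsg.Agent.Lib.Helper14.J2
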