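import Cfsg.Agent.Lib.Helper14.J2E

set_option autoImplicit false

/-!
Icosian model, part F: every element of `twoJ2` is the restriction of a left-linear isometry of
`ℍ³`; conjugates of reflections are reflections.
-/

namespace Cfsg.Agent.Lib.Helper14.J2

open Quaternion Cfsg.Spor ZQ V3

/-- left-linear isometries of `ℍ³` -/
structure LinIso (L : (Fin 3 → ℍ[ℝ]) → (Fin 3 → ℍ[ℝ])) : Prop where
  add : ∀ x y, L (x + y) = L x + L y
  lsm : ∀ c x, L (lsm c x) = lsm c (L x)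
  qip : ∀ x y, qip (L x) (L y) = qip x y

theorem lsm_add_left (a b : ℍ[ℝ]) (x : Fin 3 → ℍ[ℝ]) : lsm (a + b) x = lsm a x + lsm b x := by
  funext t; simp [lsm, add_mul]

theorem lsm_neg_left (a : ℍ[ℝ]) (x : Fin 3 → ℍ[ℝ]) : lsm (-a) x = -lsm a x := by
  funext t; simp [lsm]

theorem lsm_zero_left (x : Fin 3 → ℍ[ℝ]) : lsm 0 x = 0 := by
  funext t; simp [lsm]

namespace LinIso

variable {L : (Fin 3 → ℍ[ℝ]) → (Fin 3 → ℍ[ℝ])}

theorem zero (h : LinIso L) : L 0 = 0 := by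
  have := h.add 0 0
  rw [add_zero] at this
  exact left_eq_add.mp this

theorem neg (h : LinIso L) (x : Fin 3 → ℍ[ℝ]) : L (-x) = -L x := by
  have := h.add x (-x)
  rw [add_neg_cancel, h.zero] at this
  exact (neg_eq_of_add_eq_zero_right this.symm).symm

theorem sub (h : LinIso L) (x y : Fin 3 → ℍ[ℝ]) : L (x - y) = L x - L y := by
  rw [sub_eq_add_neg, h.add, h.neg, sub_eq_add_neg]

theorem id : LinIso (fun x => x) := ⟨fun _ _ => rfl, fun _ _ => rfl, fun _ _ => rfl⟩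

theorem comp {L' : (Fin 3 → ℍ[ℝ]) → (Fin 3 → ℍ[ℝ])} (h : LinIso L) (h' : LinIso L') :
    LinIso (fun x => L (L' x)) :=
  ⟨fun x y => by simp only [h'.add, h.add], fun c x => by simp only [h'.lsm, h.lsm],
    fun x y => by simp only [h.qip, h'.qip]⟩

end LinIso

theorem linIso_qrefl {r : Fin 3 → ℍ[ℝ]} (hr : qip r r = 4) : LinIso (qrefl r) := by
  refine ⟨?_, ?_, ?_⟩
  · intro x y
    simp only [qrefl_eq, qip_add_left, smul_add, lsm_add_left]
    abel
  · intro c x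
    simp only [qrefl_eq, qip_lsm_left, lsm_sub, lsm_lsm]
    rw [mul_smul_comm]
  · intro x y
    simp only [qrefl_eq, qip_sub_left, qip_sub_right, qip_lsm_left, qip_lsm_right, hr]
    rw [Quaternion.star_smul, star_qip]
    rw [show (4 : ℍ[ℝ]) = ((4 : ℝ) : ℍ[ℝ]) by norm_cast]
    simp only [smul_mul_assoc, mul_smul_comm, Quaternion.mul_coe_eq_smul, smul_smul, sub_mul]
    module

/-- the permutation is the restriction of a left-linear isometry, as is its inverse -/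
def Ext (g : Equiv.Perm icoLeech) : Prop :=
  ∃ L L' : (Fin 3 → ℍ[ℝ]) → (Fin 3 → ℍ[ℝ]), LinIso L ∧ LinIso L' ∧ (∀ x, L (L' x) = x) ∧
    (∀ x, L' (L x) = x) ∧ (∀ x : icoLeech, ((g x : icoLeech) : Fin 3 → ℍ[ℝ]) = L x) ∧
    (∀ x : icoLeech, ((g⁻¹ x : icoLeech) : Fin 3 → ℍ[ℝ]) = L' x)

theorem ext_one : Ext 1 :=
  ⟨fun x => x, fun x => x, LinIso.id, LinIso.id, fun _ => rfl, fun _ => rfl, fun _ => rfl,
    fun _ => rfl⟩

theorem ext_inv {g : Equiv.Perm icoLeech} (h : Ext g) : Ext g⁻¹ := by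
  obtain ⟨L, L', h1, h2, h3, h4, h5, h6⟩ := h
  exact ⟨L', L, h2, h1, h4, h3, h6, by rw [inv_inv]; exact h5⟩

theorem ext_mul {g g' : Equiv.Perm icoLeech} (h : Ext g) (h' : Ext g') : Ext (g * g') := by
  obtain ⟨L, L', h1, h2, h3, h4, h5, h6⟩ := h
  obtain ⟨M, M', k1, k2, k3, k4, k5, k6⟩ := h'
  refine ⟨fun x => L (M x), fun x => M' (L' x), h1.comp k1, k2.comp h2, ?_, ?_, ?_, ?_⟩
  · intro x; simp only [k3, h3]
  · intro x; simp only [h4, k4]
  · intro x; rw [Equiv.Perm.mul_apply, h5, k5]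
  · intro x; rw [mul_inv_rev, Equiv.Perm.mul_apply, k6, h6]

theorem ext_reflPerm (r : icoLeech) (hr : qip (r : Fin 3 → ℍ[ℝ]) r = 4) : Ext (reflPerm r hr) := by
  refine ⟨qrefl r, qrefl r, linIso_qrefl hr, linIso_qrefl hr, qrefl_qrefl hr, qrefl_qrefl hr,
    fun _ => rfl, ?_⟩
  intro x
  have : (reflPerm r hr)⁻¹ = reflPerm r hr := by
    rw [inv_eq_iff_mul_eq_one]
    ext1 y
    exact Subtype.ext (qrefl_qrefl hr _)
  rw [this]
  rfl

theorem ext_of_mem_twoJ2 {g : Equiv.Perm icoLeech} (hg : g ∈ twoJ2) : Ext g := by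
  unfold twoJ2 at hg
  induction hg using Subgroup.closure_induction with
  | mem f hf =>
    obtain ⟨r, hr, rfl⟩ := (isIcoReflection_iff f).mp hf
    exact ext_reflPerm r hr
  | one => exact ext_one
  | mul a b _ _ ha hb => exact ext_mul ha hb
  | inv a _ ha => exact ext_inv ha

theorem reflPerm_mem_twoJ2 (r : icoLeech) (hr : qip (r : Fin 3 → ℍ[ℝ]) r = 4) :
    reflPerm r hr ∈ twoJ2 :=
  Subgroup.subset_closure (isIcoReflection_reflPerm r hr)

/-- elements with a linear extension preserve the Hermitian product -/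
theorem Ext.qip_eq {g : Equiv.Perm icoLeech} (h : Ext g) (x y : icoLeech) :
    qip ((g x : icoLeech) : Fin 3 → ℍ[ℝ]) (g y : icoLeech) = qip (x : Fin 3 → ℍ[ℝ]) y := by
  obtain ⟨L, L', h1, h2, h3, h4, h5, h6⟩ := h
  rw [h5, h5, h1.qip]

/-- conjugates of reflections are reflections -/
theorem Ext.conj_reflPerm {g : Equiv.Perm icoLeech} (h : Ext g) (r : icoLeech)
    (hr : qip (r : Fin 3 → ℍ[ℝ]) r = 4) :
    g * reflPerm r hr * g⁻¹ = reflPerm (g r) (by rw [h.qip_eq, hr]) := by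
  obtain ⟨L, L', h1, h2, h3, h4, h5, h6⟩ := h
  ext1 x
  apply Subtype.ext
  rw [Equiv.Perm.mul_apply, Equiv.Perm.mul_apply, h5, reflPerm_apply, reflPerm_apply, h6, h5,
    qrefl_eq, qrefl_eq, h1.sub, h3, h1.lsm]
  congr 3
  rw [← h1.qip, h3]

/-- elements with a linear extension commute with left multiplication by icosians -/
theorem Ext.lsm_eq {g : Equiv.Perm icoLeech} (h : Ext g) {c : ℍ[ℝ]} (hc : c ∈ icosians)
    (x : icoLeech) :
    ((g ⟨lsm c x, icoLeech_lsm hc x.2⟩ : icoLeech) : Fin 3 → ℍ[ℝ]) = lsm c (g x : icoLeech) := by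
  obtain ⟨L, L', h1, h2, h3, h4, h5, h6⟩ := h
  rw [h5, h5, h1.lsm]

end Cfsg.Agent.Lib.Helper14.J2
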