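import Mathlib

set_option autoImplicit false

/-!
A family of groups `2^{6k} : A₈`: the semidirect product of the alternating group of degree 8
with the cocycles on pairs of points with values in a group of exponent 2.
Generic part: the action, the cocycles, the subgroup, the orders of the elements.
-/

namespace Cfsg.Agent.Lib.Helper14.J2Fam

open Equiv

variable {C : Type*} [CommGroup C]

/-- the action of a permutation on the functions on pairs -/
def act (g : Perm (Fin 8)) : MulAut (Fin 8 × Fin 8 → C) where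
  toFun f := fun p => f (g⁻¹ p.1, g⁻¹ p.2)
  invFun f := fun p => f (g p.1, g p.2)
  left_inv f := by
    funext p
    simp
  right_inv f := by
    funext p
    simp
  map_mul' _ _ := rfl

/-- the action, as a homomorphism -/
def phi : Perm (Fin 8) →* MulAut (Fin 8 × Fin 8 → C) where
  toFun := act
  map_one' := by
    ext f p
    rfl
  map_mul' g h := by
    ext f p
    show f ((g * h)⁻¹ p.1, (g * h)⁻¹ p.2) = f (h⁻¹ (g⁻¹ p.1), h⁻¹ (g⁻¹ p.2))
    rw [mul_inv_rev]
    rfl

theorem phi_apply (g : Perm (Fin 8)) (f : Fin 8 × Fin 8 → C) (p : Fin 8 × Fin 8) :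
    phi g f p = f (g⁻¹ p.1, g⁻¹ p.2) := rfl

/-- the ambient semidirect product -/
abbrev GG (C : Type*) [CommGroup C] := (Fin 8 × Fin 8 → C) ⋊[(phi : Perm (Fin 8) →* _)] Perm (Fin 8)

/-- the cocycles with trivial row products -/
def IsCoc (f : Fin 8 × Fin 8 → C) : Prop :=
  (∀ i j l, f (i, j) * f (j, l) = f (i, l)) ∧ ∀ i, ∏ j, f (i, j) = 1

theorem isCoc_one : IsCoc (1 : Fin 8 × Fin 8 → C) :=
  ⟨fun _ _ _ => by simp, fun _ => by simp⟩

theorem IsCoc.mul {f f' : Fin 8 × Fin 8 → C} (h : IsCoc f) (h' : IsCoc f') : IsCoc (f * f') := by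
  refine ⟨fun i j l => ?_, fun i => ?_⟩
  · simp only [Pi.mul_apply]
    rw [mul_mul_mul_comm, h.1, h'.1]
  · simp only [Pi.mul_apply]
    rw [Finset.prod_mul_distrib, h.2, h'.2, one_mul]

theorem IsCoc.inv {f : Fin 8 × Fin 8 → C} (h : IsCoc f) : IsCoc f⁻¹ := by
  refine ⟨fun i j l => ?_, fun i => ?_⟩
  · simp only [Pi.inv_apply]
    rw [← mul_inv, h.1]
  · simp only [Pi.inv_apply]
    rw [Finset.prod_inv_distrib, h.2, inv_one]

theorem IsCoc.act {f : Fin 8 × Fin 8 → C} (h : IsCoc f) (g : Perm (Fin 8)) :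
    IsCoc (phi g f) := by
  refine ⟨fun i j l => h.1 _ _ _, fun i => ?_⟩
  show ∏ j, f (g⁻¹ i, g⁻¹ j) = 1
  rw [Equiv.prod_comp g⁻¹ (fun j => f (g⁻¹ i, j))]
  exact h.2 _

/-- the group `W : A₈` -/
def HH (C : Type*) [CommGroup C] : Subgroup (GG C) where
  carrier := {x | x.right ∈ alternatingGroup (Fin 8) ∧ IsCoc x.left}
  mul_mem' := by
    rintro x y ⟨hx, hx'⟩ ⟨hy, hy'⟩
    refine ⟨?_, ?_⟩
    · rw [SemidirectProduct.mul_right]
      exact mul_mem hx hy
    · rw [SemidirectProduct.mul_left]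
      exact hx'.mul (hy'.act _)
  one_mem' := by
    refine ⟨?_, ?_⟩
    · rw [SemidirectProduct.one_right]
      exact one_mem _
    · rw [SemidirectProduct.one_left]
      exact isCoc_one
  inv_mem' := by
    rintro x ⟨hx, hx'⟩
    refine ⟨?_, ?_⟩
    · rw [SemidirectProduct.inv_right]
      exact inv_mem hx
    · rw [SemidirectProduct.inv_left]
      exact (hx'.inv).act _

theorem mem_HH {x : GG C} : x ∈ HH C ↔ x.right ∈ alternatingGroup (Fin 8) ∧ IsCoc x.left :=
  Iff.rfl

theorem pow_right (x : GG C) (m : ℕ) : (x ^ m).right = x.right ^ m :=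
  map_pow SemidirectProduct.rightHom x m

section exp2

variable (hC : ∀ c : C, c * c = 1)
include hC

theorem sq_of_right_one {x : GG C} (hx : x.right = 1) : x * x = 1 := by
  apply SemidirectProduct.ext
  · rw [SemidirectProduct.mul_left, hx, map_one, MulAut.one_apply, SemidirectProduct.one_left]
    funext p
    exact hC _
  · rw [SemidirectProduct.mul_right, hx, one_mul, SemidirectProduct.one_right]

/-- the order of an element is the order of its image, or twice that -/
theorem order_cases (x : GG C) :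
    orderOf x = orderOf x.right ∨ orderOf x = 2 * orderOf x.right := by
  have hpos : 0 < orderOf x.right := orderOf_pos _
  have h1 : orderOf x.right ∣ orderOf x := orderOf_map_dvd SemidirectProduct.rightHom x
  have h2 : orderOf x ∣ 2 * orderOf x.right := by
    apply orderOf_dvd_of_pow_eq_one
    rw [mul_comm, pow_mul, pow_two]
    exact sq_of_right_one hC (by rw [pow_right, pow_orderOf_eq_one])
  obtain ⟨t, ht⟩ := h1
  rw [ht, mul_comm 2] at h2
  have h3 : t ∣ 2 := Nat.dvd_of_mul_dvd_mul_left hpos h2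
  rcases (Nat.dvd_prime Nat.prime_two).mp h3 with rfl | rfl
  · left
    rw [ht, mul_one]
  · right
    rw [ht, mul_comm]

theorem order_eq_two_mul {x : GG C} (h : x ^ orderOf x.right ≠ 1) :
    orderOf x = 2 * orderOf x.right := by
  rcases order_cases hC x with h1 | h1
  · exact absurd (h1 ▸ pow_orderOf_eq_one x) h
  · exact h1

end exp2

/-- no nontrivial fixed cocycle -/
def FPF (C : Type*) [CommGroup C] (g : Perm (Fin 8)) : Prop :=
  ∀ f : Fin 8 × Fin 8 → C, IsCoc f → phi g f = f → f = 1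

theorem FPF.conj {g : Perm (Fin 8)} (h : FPF C g) (c : Perm (Fin 8)) : FPF C (c * g * c⁻¹) := by
  intro f hf hfix
  have h1 : phi g (phi c⁻¹ f) = phi c⁻¹ f := by
    have : phi c⁻¹ (phi (c * g * c⁻¹) f) = phi c⁻¹ f := by rw [hfix]
    rw [← MulAut.mul_apply, ← map_mul] at this
    rw [← MulAut.mul_apply, ← map_mul]
    rw [show c⁻¹ * (c * g * c⁻¹) = g * c⁻¹ by group] at this
    exact this
  have h2 := h _ (hf.act c⁻¹) h1
  exact (map_eq_one_iff _ (MulEquiv.injective _)).mp h2

theorem FPF.of_isConj {g g' : Perm (Fin 8)} (h : FPF C g) (hc : IsConj g g') : FPF C g' := by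
  obtain ⟨c, hc⟩ := isConj_iff.mp hc
  rw [← hc]
  exact h.conj c

/-- fixed-point-freeness kills the power -/
theorem pow_eq_one_of_FPF {x : GG C} (hx : x ∈ HH C) (h : FPF C x.right) :
    x ^ orderOf x.right = 1 := by
  have hy : x ^ orderOf x.right ∈ HH C := pow_mem hx _
  have hyr : (x ^ orderOf x.right).right = 1 := by rw [pow_right, pow_orderOf_eq_one]
  have hcomm : x * x ^ orderOf x.right = x ^ orderOf x.right * x :=
    (Commute.self_pow x _).eq
  have hl := congrArg SemidirectProduct.left hcomm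
  rw [SemidirectProduct.mul_left, SemidirectProduct.mul_left, hyr, map_one, MulAut.one_apply,
    mul_comm (x ^ orderOf x.right).left] at hl
  have hfix : phi x.right (x ^ orderOf x.right).left = (x ^ orderOf x.right).left :=
    mul_left_cancel hl
  have h1 := h _ hy.2 hfix
  exact SemidirectProduct.ext h1 hyr

theorem order_eq_of_FPF {x : GG C} (hx : x ∈ HH C) (h : FPF C x.right) :
    orderOf x = orderOf x.right := by
  apply Nat.dvd_antisymm
  · exact orderOf_dvd_of_pow_eq_one (pow_eq_one_of_FPF hx h)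
  · exact orderOf_map_dvd SemidirectProduct.rightHom x

/-- the powers of an element -/
theorem pow_left_apply (x : GG C) (m : ℕ) (p : Fin 8 × Fin 8) :
    (x ^ m).left p = ∏ i ∈ Finset.range m, x.left ((x.right ^ i)⁻¹ p.1, (x.right ^ i)⁻¹ p.2) := by
  induction m generalizing p with
  | zero => simp
  | succ m ih =>
    rw [pow_succ', SemidirectProduct.mul_left, Pi.mul_apply, phi_apply, ih,
      Finset.prod_range_succ', mul_comm]
    congr 1

/-- the cocycle of a vector -/
def cocOf (c : C) (v : Fin 8 → Bool) : Fin 8 × Fin 8 → C :=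
  fun p => c ^ (if v p.1 = v p.2 then 0 else 1)

theorem pow_eq_pow_mod_two {c : C} (hc : c * c = 1) (s : ℕ) : c ^ s = c ^ (s % 2) := by
  conv_lhs => rw [← Nat.div_add_mod s 2]
  rw [pow_add, pow_mul, pow_two, hc, one_pow, one_mul]

theorem isCoc_cocOf {c : C} (hc : c * c = 1) (v : Fin 8 → Bool)
    (hv : ∀ i, (∑ j, (if v i = v j then 0 else 1)) % 2 = 0) : IsCoc (cocOf c v) := by
  refine ⟨fun i j l => ?_, fun i => ?_⟩
  · unfold cocOf
    simp only
    cases v i <;> cases v j <;> cases v l <;> simp [hc]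
  · unfold cocOf
    simp only
    rw [Finset.prod_pow_eq_pow_sum, pow_eq_pow_mod_two hc, hv i, pow_zero]

/-- the elements with a cocycle of a vector -/
def mk (c : C) (v : Fin 8 → Bool) (g : Perm (Fin 8)) : GG C := ⟨cocOf c v, g⟩

theorem mk_mem {c : C} (hc : c * c = 1) (v : Fin 8 → Bool)
    (hv : ∀ i, (∑ j, (if v i = v j then 0 else 1)) % 2 = 0) {g : Perm (Fin 8)}
    (hg : g ∈ alternatingGroup (Fin 8)) : mk c v g ∈ HH C :=
  ⟨hg, isCoc_cocOf hc v hv⟩

theorem mk_pow_ne_one {c : C} (hc : c * c = 1) (hc1 : c ≠ 1) (v : Fin 8 → Bool)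
    (g : Perm (Fin 8)) (m : ℕ) (p : Fin 8 × Fin 8)
    (h : (∑ i ∈ Finset.range m,
      (if v ((g ^ i)⁻¹ p.1) = v ((g ^ i)⁻¹ p.2) then 0 else 1)) % 2 = 1) :
    mk c v g ^ m ≠ 1 := by
  intro h1
  have h2 := pow_left_apply (mk c v g) m p
  rw [h1, SemidirectProduct.one_left, Pi.one_apply] at h2
  have h3 : ∀ i, (mk c v g).left ((g ^ i)⁻¹ p.1, (g ^ i)⁻¹ p.2) =
      c ^ (if v ((g ^ i)⁻¹ p.1) = v ((g ^ i)⁻¹ p.2) then 0 else 1) := fun i => rfl
  have h4 : (mk c v g).right = g := rfl
  rw [h4] at h2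
  simp only [h3] at h2
  rw [Finset.prod_pow_eq_pow_sum, pow_eq_pow_mod_two hc, h, pow_one] at h2
  exact hc1 h2.symm

end Cfsg.Agent.Lib.Helper14.J2Fam
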