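import Cfsg.Agent.Lib.Helper14.J2FamA

set_option autoImplicit false

/-!
Cycle types of the permutations of 8 points: the element orders of the alternating group, the
classes of the elements of order 7 and 15, and some explicit elements.
-/

namespace Cfsg.Agent.Lib.Helper14.J2Fam

open Equiv

/-- all lists of numbers at least 2 with sum at most `s` -/
def reachL : ℕ → ℕ → List (List ℕ)
  | 0, _ => [[]]
  | k + 1, s => [] :: ((List.range (s + 1)).filter (2 ≤ ·)).flatMap
      (fun a => (reachL k (s - a)).map (List.cons a))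

theorem mem_reachL (l : List ℕ) :
    (∀ a ∈ l, 2 ≤ a) → ∀ k s, l.sum ≤ s → s ≤ k → l ∈ reachL k s := by
  induction l with
  | nil =>
    intro _ k s _ _
    cases k <;> simp [reachL]
  | cons a l ih =>
    intro h k s hs hk
    rw [List.sum_cons] at hs
    have ha : 2 ≤ a := h a List.mem_cons_self
    cases k with
    | zero => omega
    | succ k =>
      unfold reachL
      apply List.mem_cons_of_mem
      rw [List.mem_flatMap]
      refine ⟨a, ?_, ?_⟩
      · rw [List.mem_filter, List.mem_range]
        refine ⟨by omega, ?_⟩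
        simpa using ha
      · rw [List.mem_map]
        exact ⟨l, ih (fun b hb => h b (List.mem_cons_of_mem _ hb)) k (s - a)
          (by omega) (by omega), rfl⟩

/-- the cycle type of a permutation of 8 points, as a list in the enumeration -/
theorem exists_list (g : Perm (Fin 8)) : ∃ l ∈ reachL 8 8, (l : Multiset ℕ) = g.cycleType := by
  refine ⟨g.cycleType.toList, ?_, Multiset.coe_toList _⟩
  apply mem_reachL _ _ 8 8 _ le_rfl
  · intro a ha
    exact Perm.two_le_of_mem_cycleType (Multiset.mem_toList.mp ha)
  · have h1 : g.cycleType.toList.sum = g.cycleType.sum := by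
      conv_rhs => rw [← Multiset.coe_toList g.cycleType]
      rfl
    rw [h1, Perm.sum_cycleType]
    exact (Finset.card_le_univ _).trans (by simp)

theorem orderOf_eq_foldr {g : Perm (Fin 8)} {l : List ℕ} (h : (l : Multiset ℕ) = g.cycleType) :
    orderOf g = l.foldr Nat.lcm 1 := by
  rw [← Perm.lcm_cycleType, ← h]
  rfl

theorem sign_eq_prod {g : Perm (Fin 8)} {l : List ℕ} (h : (l : Multiset ℕ) = g.cycleType) :
    Perm.sign g = (-1) ^ (l.sum + l.length) := by
  rw [Perm.sign_of_cycleType, ← h]
  rfl

/-- the element orders of the alternating group of degree 8 -/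
def specA : List ℕ := [1, 2, 3, 4, 5, 6, 7, 15]

theorem reachL_even : ∀ l ∈ reachL 8 8, (-1 : ℤˣ) ^ (l.sum + l.length) = 1 →
    l.foldr Nat.lcm 1 ∈ specA := by decide

theorem reachL_seven : ∀ l ∈ reachL 8 8, l.foldr Nat.lcm 1 = 7 → l = [7] := by decide

theorem reachL_fifteen : ∀ l ∈ reachL 8 8, l.foldr Nat.lcm 1 = 15 → l = [3, 5] ∨ l = [5, 3] := by
  decide

theorem orderOf_mem_specA {g : Perm (Fin 8)} (hg : g ∈ alternatingGroup (Fin 8)) :
    orderOf g ∈ specA := by
  obtain ⟨l, hl, h⟩ := exists_list g
  rw [orderOf_eq_foldr h]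
  apply reachL_even l hl
  rw [← sign_eq_prod h]
  exact Perm.mem_alternatingGroup.mp hg

theorem cycleType_of_order_seven {g : Perm (Fin 8)} (hg : orderOf g = 7) :
    g.cycleType = {7} := by
  obtain ⟨l, hl, h⟩ := exists_list g
  rw [orderOf_eq_foldr h] at hg
  rw [← h, reachL_seven l hl hg]
  rfl

theorem cycleType_of_order_fifteen {g : Perm (Fin 8)} (hg : orderOf g = 15) :
    g.cycleType = {3, 5} := by
  obtain ⟨l, hl, h⟩ := exists_list g
  rw [orderOf_eq_foldr h] at hg
  rw [← h]
  rcases reachL_fifteen l hl hg with rfl | rfl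
  · rfl
  · decide

/-! ### explicit permutations -/

theorem cycleType_formPerm' (l : List (Fin 8)) (hl : l.Nodup) (hn : 2 ≤ l.length) :
    l.formPerm.cycleType = {l.length} := by
  rw [(List.isCycle_formPerm hl hn).cycleType, List.support_formPerm_of_nodup l hl
    (by rintro x rfl; simp at hn), List.toFinset_card_of_nodup hl]

/-- a cycle of length 7 -/
def p7 : Perm (Fin 8) := [0, 1, 2, 3, 4, 5, 6].formPerm
/-- a cycle of length 5 -/
def q5 : Perm (Fin 8) := [0, 1, 2, 3, 4].formPerm
/-- a permutation of order 15 -/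
def p15 : Perm (Fin 8) := [0, 1, 2].formPerm * [3, 4, 5, 6, 7].formPerm
/-- a permutation of order 4 -/
def q4 : Perm (Fin 8) := [0, 1, 2, 3].formPerm * [4, 5].formPerm
/-- a permutation of order 6 -/
def q6 : Perm (Fin 8) := [0, 1, 2].formPerm * [3, 4].formPerm * [5, 6].formPerm

theorem disj (l l' : List (Fin 8)) (hl : l.Nodup) (hl' : l'.Nodup) (hn : 2 ≤ l.length)
    (hn' : 2 ≤ l'.length) (hd : ∀ x : Fin 8, x ∈ l → x ∈ l' → False) :
    Perm.Disjoint l.formPerm l'.formPerm :=
  (List.formPerm_disjoint_iff hl hl' hn hn').mpr (fun x => hd x)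

theorem cycleType_p7 : p7.cycleType = {7} :=
  cycleType_formPerm' _ (by decide) (by decide)

theorem cycleType_q5 : q5.cycleType = {5} :=
  cycleType_formPerm' _ (by decide) (by decide)

theorem cycleType_p15 : p15.cycleType = {3, 5} := by
  unfold p15
  rw [Perm.Disjoint.cycleType_mul (disj _ _ (by decide) (by decide) (by decide) (by decide)
      (by decide)),
    cycleType_formPerm' _ (by decide) (by decide), cycleType_formPerm' _ (by decide) (by decide)]
  rfl

theorem cycleType_q4 : q4.cycleType = {4, 2} := by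
  unfold q4
  rw [Perm.Disjoint.cycleType_mul (disj _ _ (by decide) (by decide) (by decide) (by decide)
      (by decide)),
    cycleType_formPerm' _ (by decide) (by decide), cycleType_formPerm' _ (by decide) (by decide)]
  rfl

theorem cycleType_q6 : q6.cycleType = {3, 2, 2} := by
  unfold q6
  have d1 := disj [0, 1, 2] [3, 4] (by decide) (by decide) (by decide) (by decide) (by decide)
  have d2 := disj [0, 1, 2] [5, 6] (by decide) (by decide) (by decide) (by decide) (by decide)
  have d3 := disj [3, 4] [5, 6] (by decide) (by decide) (by decide) (by decide) (by decide)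
  rw [Perm.Disjoint.cycleType_mul (Perm.Disjoint.mul_left d2 d3), Perm.Disjoint.cycleType_mul d1,
    cycleType_formPerm' _ (by decide) (by decide), cycleType_formPerm' _ (by decide) (by decide),
    cycleType_formPerm' _ (by decide) (by decide)]
  rfl

theorem order_p7 : orderOf p7 = 7 := by rw [← Perm.lcm_cycleType, cycleType_p7]; rfl
theorem order_q5 : orderOf q5 = 5 := by rw [← Perm.lcm_cycleType, cycleType_q5]; rfl
theorem order_p15 : orderOf p15 = 15 := by rw [← Perm.lcm_cycleType, cycleType_p15]; rfl
theorem order_q4 : orderOf q4 = 4 := by rw [← Perm.lcm_cycleType, cycleType_q4]; rfl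
theorem order_q6 : orderOf q6 = 6 := by rw [← Perm.lcm_cycleType, cycleType_q6]; rfl

theorem p7_mem : p7 ∈ alternatingGroup (Fin 8) := by
  rw [Perm.mem_alternatingGroup, Perm.sign_of_cycleType, cycleType_p7]; rfl
theorem q5_mem : q5 ∈ alternatingGroup (Fin 8) := by
  rw [Perm.mem_alternatingGroup, Perm.sign_of_cycleType, cycleType_q5]; rfl
theorem p15_mem : p15 ∈ alternatingGroup (Fin 8) := by
  rw [Perm.mem_alternatingGroup, Perm.sign_of_cycleType, cycleType_p15]; rfl
theorem q4_mem : q4 ∈ alternatingGroup (Fin 8) := by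
  rw [Perm.mem_alternatingGroup, Perm.sign_of_cycleType, cycleType_q4]; rfl
theorem q6_mem : q6 ∈ alternatingGroup (Fin 8) := by
  rw [Perm.mem_alternatingGroup, Perm.sign_of_cycleType, cycleType_q6]; rfl

theorem isConj_p7 {g : Perm (Fin 8)} (hg : orderOf g = 7) : IsConj p7 g := by
  rw [Perm.isConj_iff_cycleType_eq, cycleType_p7, cycleType_of_order_seven hg]

theorem isConj_p15 {g : Perm (Fin 8)} (hg : orderOf g = 15) : IsConj p15 g := by
  rw [Perm.isConj_iff_cycleType_eq, cycleType_p15, cycleType_of_order_fifteen hg]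

end Cfsg.Agent.Lib.Helper14.J2Fam
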