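import Cfsg.Agent.Lib.Helper14.J2FamB

set_option autoImplicit false

/-!
The groups `2^{6k} : A₈` have the element orders `1, …, 8, 10, 12, 15`.
-/

namespace Cfsg.Agent.Lib.Helper14.J2Fam

open Equiv

variable {C : Type*} [CommGroup C]

/-- the element orders -/
def specF : List ℕ := [1, 2, 3, 4, 5, 6, 7, 8, 10, 12, 15]

theorem specA_cases : ∀ m ∈ specA, m = 7 ∨ m = 15 ∨ (m ∈ specF ∧ 2 * m ∈ specF) := by decide

section exp2

variable (hC : ∀ c : C, c * c = 1)
include hC

theorem inv_eq_self' (c : C) : c⁻¹ = c := inv_eq_of_mul_eq_one_left (hC c)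

theorem coc_eq {f : Fin 8 × Fin 8 → C} (hf : IsCoc f) (i j : Fin 8) :
    f (i, j) = f (i, 7) * f (j, 7) := by
  have h := hf.1 i j 7
  rw [← h, mul_assoc, hC, mul_one]

theorem coc_diag {f : Fin 8 × Fin 8 → C} (hf : IsCoc f) (i : Fin 8) : f (i, i) = 1 := by
  rw [coc_eq hC hf, hC]

theorem hinv_of_fix {g : Perm (Fin 8)} {f : Fin 8 × Fin 8 → C} (h : phi g f = f) (i j : Fin 8) :
    f (g i, g j) = f (i, j) := by
  have := congrFun h (g i, g j)
  rw [phi_apply] at this
  simpa using this.symm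

theorem prod_eq {f : Fin 8 × Fin 8 → C} (hf : IsCoc f) :
    f (0, 7) * f (1, 7) * f (2, 7) * f (3, 7) * f (4, 7) * f (5, 7) * f (6, 7) = 1 := by
  have h := hf.2 7
  rw [Fin.prod_univ_eight] at h
  have e : ∀ j, f (7, j) = f (j, 7) := by
    intro j
    rw [coc_eq hC hf 7 j, coc_diag hC hf 7, one_mul]
  rw [e, e, e, e, e, e, e, e, coc_diag hC hf 7, mul_one] at h
  exact h

theorem eq_one_of_const {f : Fin 8 × Fin 8 → C} (hf : IsCoc f) (h : ∀ i, f (i, 7) = 1) :
    f = 1 := by
  funext p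
  obtain ⟨i, j⟩ := p
  rw [coc_eq hC hf, h, h, one_mul]
  rfl

theorem FPF_p7 : FPF C p7 := by
  intro f hf hfix
  have hinv := hinv_of_fix hC hfix
  have hu : ∀ i, f (p7 i, 7) = f (i, 7) := by
    intro i
    have := hinv i 7
    rwa [show p7 7 = 7 by decide] at this
  have e1 : f (1, 7) = f (0, 7) := by have := hu 0; rwa [show p7 0 = 1 by decide] at this
  have e2 : f (2, 7) = f (1, 7) := by have := hu 1; rwa [show p7 1 = 2 by decide] at this
  have e3 : f (3, 7) = f (2, 7) := by have := hu 2; rwa [show p7 2 = 3 by decide] at this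
  have e4 : f (4, 7) = f (3, 7) := by have := hu 3; rwa [show p7 3 = 4 by decide] at this
  have e5 : f (5, 7) = f (4, 7) := by have := hu 4; rwa [show p7 4 = 5 by decide] at this
  have e6 : f (6, 7) = f (5, 7) := by have := hu 5; rwa [show p7 5 = 6 by decide] at this
  have hp := prod_eq hC hf
  rw [e6, e5, e4, e3, e2, e1] at hp
  have h0 : f (0, 7) = 1 := by
    have hh := hC (f (0, 7))
    rw [mul_assoc, mul_assoc, mul_assoc, mul_assoc, mul_assoc, hh, mul_one, hh, mul_one, hh,
      mul_one] at hp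
    exact hp
  apply eq_one_of_const hC hf
  intro i
  fin_cases i
  · exact h0
  · exact e1.trans h0
  · exact e2.trans (e1.trans h0)
  · exact e3.trans (e2.trans (e1.trans h0))
  · exact e4.trans (e3.trans (e2.trans (e1.trans h0)))
  · exact e5.trans (e4.trans (e3.trans (e2.trans (e1.trans h0))))
  · exact e6.trans (e5.trans (e4.trans (e3.trans (e2.trans (e1.trans h0)))))
  · exact coc_diag hC hf 7

set_option maxRecDepth 100000 in
theorem FPF_p15 : FPF C p15 := by
  intro f hf hfix
  have hinv := hinv_of_fix hC hfix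
  have hinv3 : ∀ i j, f (p15 (p15 (p15 i)), p15 (p15 (p15 j))) = f (i, j) := by
    intro i j
    rw [hinv, hinv, hinv]
  have hinv5 : ∀ i j, f (p15 (p15 (p15 (p15 (p15 i)))), p15 (p15 (p15 (p15 (p15 j))))) =
      f (i, j) := by
    intro i j
    rw [hinv, hinv, hinv, hinv, hinv]
  -- the 5-cycle
  have hc : ∀ j, f (0, p15 (p15 (p15 j))) = f (0, j) := by
    intro j
    have := hinv3 0 j
    rwa [show p15 (p15 (p15 0)) = 0 by decide] at this
  have hcanc : ∀ a b : Fin 8, f (0, a) = f (0, b) → f (a, 7) = f (b, 7) := by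
    intro a b h
    rw [coc_eq hC hf 0 a, coc_eq hC hf 0 b] at h
    exact mul_left_cancel h
  have e3 : f (3, 7) = 1 := by
    -- 7 -> 5 -> 3
    have h1 : f (5, 7) = f (7, 7) := hcanc _ _ (by
      have := hc 7; rwa [show p15 (p15 (p15 7)) = 5 by decide] at this)
    have h2 : f (3, 7) = f (5, 7) := hcanc _ _ (by
      have := hc 5; rwa [show p15 (p15 (p15 5)) = 3 by decide] at this)
    rw [h2, h1, coc_diag hC hf]
  have e6 : f (6, 7) = 1 := by
    have h2 : f (6, 7) = f (3, 7) := hcanc _ _ (by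
      have := hc 3; rwa [show p15 (p15 (p15 3)) = 6 by decide] at this)
    rw [h2, e3]
  have e4 : f (4, 7) = 1 := by
    have h2 : f (4, 7) = f (6, 7) := hcanc _ _ (by
      have := hc 6; rwa [show p15 (p15 (p15 6)) = 4 by decide] at this)
    rw [h2, e6]
  have e5 : f (5, 7) = 1 := by
    have h1 : f (5, 7) = f (7, 7) := hcanc _ _ (by
      have := hc 7; rwa [show p15 (p15 (p15 7)) = 5 by decide] at this)
    rw [h1, coc_diag hC hf]
  -- the 3-cycle
  have hd : ∀ i, f (p15 (p15 (p15 (p15 (p15 i)))), 7) = f (i, 7) := by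
    intro i
    have := hinv5 i 7
    rwa [show p15 (p15 (p15 (p15 (p15 7)))) = 7 by decide] at this
  have e2 : f (2, 7) = f (0, 7) := by
    have := hd 0; rwa [show p15 (p15 (p15 (p15 (p15 0)))) = 2 by decide] at this
  have e1 : f (1, 7) = f (2, 7) := by
    have := hd 2; rwa [show p15 (p15 (p15 (p15 (p15 2)))) = 1 by decide] at this
  have hp := prod_eq hC hf
  rw [e6, e5, e4, e3, e1, e2, mul_one, mul_one, mul_one, mul_one] at hp
  have h0 : f (0, 7) = 1 := by
    have hh := hC (f (0, 7))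
    rw [hh, one_mul] at hp
    exact hp
  apply eq_one_of_const hC hf
  intro i
  fin_cases i
  · exact h0
  · exact e1.trans (e2.trans h0)
  · exact e2.trans h0
  · exact e3
  · exact e4
  · exact e5
  · exact e6
  · exact coc_diag hC hf 7

theorem order_mem {x : GG C} (hx : x ∈ HH C) : orderOf x ∈ specF := by
  have hm := orderOf_mem_specA hx.1
  rcases specA_cases _ hm with h7 | h15 | ⟨h1, h2⟩
  · rw [order_eq_of_FPF hx ((FPF_p7 hC).of_isConj (isConj_p7 h7)), h7]
    decide
  · rw [order_eq_of_FPF hx ((FPF_p15 hC).of_isConj (isConj_p15 h15)), h15]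
    decide
  · rcases order_cases hC x with h | h
    · rw [h]; exact h1
    · rw [h]; exact h2

end exp2

end Cfsg.Agent.Lib.Helper14.J2Fam
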