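import Cfsg.Agent.Lib.Helper14.J2FamC

set_option autoImplicit false

/-!
The groups `2^{6k} : A₈`: elements of each of the orders `1, …, 8, 10, 12, 15`, and the
cardinality.
-/

namespace Cfsg.Agent.Lib.Helper14.J2Fam

open Equiv

variable {C : Type*} [CommGroup C]

/-- vectors of weight 2 -/
def v8 : Fin 8 → Bool := ![true, false, false, false, true, false, false, false]
/-- vector for the order 10 -/
def v10 : Fin 8 → Bool := ![false, false, false, false, false, true, true, false]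
/-- vector for the order 12 -/
def v12 : Fin 8 → Bool := ![false, false, false, true, false, false, false, true]

theorem hv8 : ∀ i, (∑ j, (if v8 i = v8 j then 0 else 1)) % 2 = 0 := by decide
theorem hv10 : ∀ i, (∑ j, (if v10 i = v10 j then 0 else 1)) % 2 = 0 := by decide
theorem hv12 : ∀ i, (∑ j, (if v12 i = v12 j then 0 else 1)) % 2 = 0 := by decide

set_option maxRecDepth 100000 in
theorem odd8 : (∑ i ∈ Finset.range 4,
    (if v8 ((q4 ^ i)⁻¹ ((0, 4) : Fin 8 × Fin 8).1) = v8 ((q4 ^ i)⁻¹ ((0, 4) : Fin 8 × Fin 8).2)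
      then 0 else 1)) % 2 = 1 := by decide

set_option maxRecDepth 100000 in
theorem odd10 : (∑ i ∈ Finset.range 5,
    (if v10 ((q5 ^ i)⁻¹ ((0, 5) : Fin 8 × Fin 8).1) = v10 ((q5 ^ i)⁻¹ ((0, 5) : Fin 8 × Fin 8).2)
      then 0 else 1)) % 2 = 1 := by decide

set_option maxRecDepth 100000 in
theorem odd12 : (∑ i ∈ Finset.range 6,
    (if v12 ((q6 ^ i)⁻¹ ((0, 3) : Fin 8 × Fin 8).1) = v12 ((q6 ^ i)⁻¹ ((0, 3) : Fin 8 × Fin 8).2)
      then 0 else 1)) % 2 = 1 := by decide

section exp2

variable (hC : ∀ c : C, c * c = 1) {c : C} (hc1 : c ≠ 1)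
include hC hc1

theorem order_x8 : orderOf (mk c v8 q4) = 8 := by
  have h := order_eq_two_mul hC (x := mk c v8 q4)
  rw [show (mk c v8 q4).right = q4 from rfl, order_q4] at h
  exact h (mk_pow_ne_one (hC c) hc1 v8 q4 4 (0, 4) odd8)

theorem order_x10 : orderOf (mk c v10 q5) = 10 := by
  have h := order_eq_two_mul hC (x := mk c v10 q5)
  rw [show (mk c v10 q5).right = q5 from rfl, order_q5] at h
  exact h (mk_pow_ne_one (hC c) hc1 v10 q5 5 (0, 5) odd10)

theorem order_x12 : orderOf (mk c v12 q6) = 12 := by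
  have h := order_eq_two_mul hC (x := mk c v12 q6)
  rw [show (mk c v12 q6).right = q6 from rfl, order_q6] at h
  exact h (mk_pow_ne_one (hC c) hc1 v12 q6 6 (0, 3) odd12)

omit hC hc1 in
theorem inr_mem {g : Perm (Fin 8)} (hg : g ∈ alternatingGroup (Fin 8)) :
    (SemidirectProduct.inr g : GG C) ∈ HH C := by
  refine ⟨hg, ?_⟩
  rw [SemidirectProduct.left_inr]
  exact isCoc_one

omit hC hc1 in
theorem order_inr (g : Perm (Fin 8)) : orderOf (SemidirectProduct.inr g : GG C) = orderOf g :=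
  orderOf_injective SemidirectProduct.inr SemidirectProduct.inr_injective g

omit hC hc1 in
theorem order_pow_of'' {G : Type*} [Group G] {g : G} {m : ℕ} (h : orderOf g = m) (k : ℕ)
    (hk : k ≠ 0) (hd : k ∣ m) : orderOf (g ^ k) = m / k := by
  rw [orderOf_pow_of_dvd hk (by rw [h]; exact hd), h]

theorem exists_order : ∀ n ∈ specF, ∃ x ∈ HH C, orderOf x = n := by
  intro n hn
  unfold specF at hn
  simp only [List.mem_cons, List.not_mem_nil, or_false] at hn
  have m8 : mk c v8 q4 ∈ HH C := mk_mem (hC c) v8 hv8 q4_mem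
  have m10 : mk c v10 q5 ∈ HH C := mk_mem (hC c) v10 hv10 q5_mem
  have m12 : mk c v12 q6 ∈ HH C := mk_mem (hC c) v12 hv12 q6_mem
  have o12 := order_x12 hC hc1
  have o10 := order_x10 hC hc1
  have o8 := order_x8 hC hc1
  rcases hn with rfl | rfl | rfl | rfl | rfl | rfl | rfl | rfl | rfl | rfl | rfl
  · exact ⟨1, one_mem _, orderOf_one⟩
  · exact ⟨_, pow_mem m12 6, order_pow_of'' o12 6 (by norm_num) (by norm_num)⟩
  · exact ⟨_, pow_mem m12 4, order_pow_of'' o12 4 (by norm_num) (by norm_num)⟩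
  · exact ⟨_, pow_mem m12 3, order_pow_of'' o12 3 (by norm_num) (by norm_num)⟩
  · exact ⟨_, pow_mem m10 2, order_pow_of'' o10 2 (by norm_num) (by norm_num)⟩
  · exact ⟨_, pow_mem m12 2, order_pow_of'' o12 2 (by norm_num) (by norm_num)⟩
  · exact ⟨_, inr_mem p7_mem, (order_inr p7).trans order_p7⟩
  · exact ⟨_, m8, o8⟩
  · exact ⟨_, m10, o10⟩
  · exact ⟨_, m12, o12⟩
  · exact ⟨_, inr_mem p15_mem, (order_inr p15).trans order_p15⟩

/-- the set of element orders -/
theorem range_orderOf : Set.range (orderOf : ↥(HH C) → ℕ) = {n | n ∈ specF} := by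
  ext n
  constructor
  · rintro ⟨g, rfl⟩
    rw [← Subgroup.orderOf_coe]
    exact order_mem hC g.2
  · intro hn
    obtain ⟨g, hg, rfl⟩ := exists_order hC hc1 n hn
    exact ⟨⟨g, hg⟩, Subgroup.orderOf_mk g hg⟩

omit hc1 in
/-- the coefficient group embeds -/
theorem emb_injective : Function.Injective
    (fun c : C => (⟨mk c v8 1, mk_mem (hC c) v8 hv8 (one_mem _)⟩ : ↥(HH C))) := by
  intro a b h
  have h1 : (mk a v8 1 : GG C) = mk b v8 1 := congrArg Subtype.val h
  have h2 := congrFun (congrArg SemidirectProduct.left h1) (0, 1)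
  simpa [mk, cocOf, v8] using h2

end exp2

end Cfsg.Agent.Lib.Helper14.J2Fam
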