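import Cfsg.Agent.Lib.Helper14.J2C

set_option autoImplicit false

/-!
Icosian model, part G: the two integer norm forms, enumeration of lattice elements of small norm.
-/

namespace Cfsg.Agent.Lib.Helper14.J2

open ZQ V3

namespace ZQ

/-- sum of the squares of the coordinates: `4 ×` the rational part of the norm -/
def sqs (p : ZQ) : ℤ :=
  p.a0 ^ 2 + p.b0 ^ 2 + p.a1 ^ 2 + p.b1 ^ 2 + p.a2 ^ 2 + p.b2 ^ 2 + p.a3 ^ 2 + p.b3 ^ 2

/-- `4 ×` the `τ`-part of the norm -/
def gB (p : ZQ) : ℤ :=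
  2 * p.a0 * p.b0 + p.b0 ^ 2 + (2 * p.a1 * p.b1 + p.b1 ^ 2) + (2 * p.a2 * p.b2 + p.b2 ^ 2) +
    (2 * p.a3 * p.b3 + p.b3 ^ 2)

theorem mulR_conj_self (p : ZQ) : mulR p (conj p) = ⟨sqs p, gB p, 0, 0, 0, 0, 0, 0⟩ := by
  ext <;> simp [mulR, conj, sqs, gB, mA, mB] <;> ring

theorem sqs_nonneg (p : ZQ) : 0 ≤ sqs p := by
  unfold sqs; positivity

theorem sqs_eq_zero {p : ZQ} (h : sqs p = 0) : p = 0 := by
  unfold sqs at h
  have h0 := sq_nonneg p.a0
  have h1 := sq_nonneg p.b0
  have h2 := sq_nonneg p.a1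
  have h3 := sq_nonneg p.b1
  have h4 := sq_nonneg p.a2
  have h5 := sq_nonneg p.b2
  have h6 := sq_nonneg p.a3
  have h7 := sq_nonneg p.b3
  ext <;> simp only [zero_a0, zero_b0, zero_a1, zero_b1, zero_a2, zero_b2, zero_a3, zero_b3] <;>
    nlinarith

theorem sqs_zero : sqs 0 = 0 := by decide

theorem gB_zero : gB 0 = 0 := by decide

theorem sq_mod_four (a : ℤ) : a ^ 2 % 4 = a % 2 := by
  rcases Int.emod_two_eq_zero_or_one a with h | h
  · obtain ⟨k, rfl⟩ : (2 : ℤ) ∣ a := Int.dvd_of_emod_eq_zero h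
    have : (2 * k) ^ 2 = 4 * (k ^ 2) := by ring
    omega
  · have : a = 2 * (a / 2) + 1 := by omega
    have h2 : a ^ 2 = 4 * ((a / 2) ^ 2 + a / 2) + 1 := by
      conv_lhs => rw [this]
      ring
    omega

/-- the rational part of the norm of an icosian is an integer -/
theorem four_dvd_aux (x0 x1 x2 x3 x4 x5 x6 x7 r0 r1 r2 r3 r4 r5 r6 r7 : ℤ)
    (h0 : x0 % 4 = r0) (h1 : x1 % 4 = r1) (h2 : x2 % 4 = r2) (h3 : x3 % 4 = r3)
    (h4 : x4 % 4 = r4) (h5 : x5 % 4 = r5) (h6 : x6 % 4 = r6) (h7 : x7 % 4 = r7)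
    (hs : (r0 + r1 + r2 + r3 + r4 + r5 + r6 + r7) % 4 = 0) :
    (4 : ℤ) ∣ x0 + x1 + x2 + x3 + x4 + x5 + x6 + x7 := by
  omega

/-- the rational part of the norm of an icosian is an integer -/
theorem four_dvd_sqs {p : ZQ} (hp : Par p) : (4 : ℤ) ∣ sqs p := by
  obtain ⟨h1, h2, h3, h4⟩ := hp
  unfold sqs
  apply four_dvd_aux _ _ _ _ _ _ _ _ _ _ _ _ _ _ _ _ (sq_mod_four p.a0) (sq_mod_four p.b0)
    (sq_mod_four p.a1) (sq_mod_four p.b1) (sq_mod_four p.a2) (sq_mod_four p.b2)
    (sq_mod_four p.a3) (sq_mod_four p.b3)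
  rcases Int.emod_two_eq_zero_or_one p.a0 with k0 | k0 <;>
  rcases Int.emod_two_eq_zero_or_one p.b0 with k1 | k1 <;>
  rcases Int.emod_two_eq_zero_or_one p.a1 with k2 | k2 <;>
  rcases Int.emod_two_eq_zero_or_one p.b1 with k3 | k3 <;>
  omega

/-- coordinates as a list -/
def toList (p : ZQ) : List ℤ := [p.a0, p.b0, p.a1, p.b1, p.a2, p.b2, p.a3, p.b3]

/-- a vector from a list of eight integers -/
def ofList : List ℤ → ZQ
  | [a0, b0, a1, b1, a2, b2, a3, b3] => ⟨a0, b0, a1, b1, a2, b2, a3, b3⟩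
  | _ => 0

theorem ofList_toList (p : ZQ) : ofList (toList p) = p := rfl

end ZQ

/-- integer vectors of length `k` with sum of squares `B`, entries of absolute value at most 4 -/
def enumSq : ℕ → ℕ → List (List ℤ)
  | 0, B => if B = 0 then [[]] else []
  | k + 1, B => ([-4, -3, -2, -1, 0, 1, 2, 3, 4] : List ℤ).flatMap (fun c =>
      if c.natAbs ^ 2 ≤ B then (enumSq k (B - c.natAbs ^ 2)).map (fun l => c :: l) else [])

theorem mem_enumSq : ∀ (k B : ℕ) (l : List ℤ), B ≤ 16 → l.length = k →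
    (l.map (fun c => c.natAbs ^ 2)).sum = B → l ∈ enumSq k B := by
  intro k
  induction k with
  | zero =>
    intro B l _ hl hs
    rw [List.length_eq_zero_iff] at hl
    subst hl
    simp only [List.map_nil, List.sum_nil] at hs
    subst hs
    simp [enumSq]
  | succ k ih =>
    intro B l hB hl hs
    match l, hl with
    | c :: l', hl' =>
      simp only [List.map_cons, List.sum_cons] at hs
      simp only [List.length_cons, Nat.add_right_cancel_iff] at hl'
      have hc : c.natAbs ^ 2 ≤ B := by omega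
      have hc4 : c.natAbs ≤ 4 := by
        by_contra hcon
        have : 5 ≤ c.natAbs := by omega
        have : 25 ≤ c.natAbs ^ 2 := by nlinarith
        omega
      have hmem : c ∈ ([-4, -3, -2, -1, 0, 1, 2, 3, 4] : List ℤ) := by
        simp only [List.mem_cons, List.not_mem_nil, or_false]
        omega
      unfold enumSq
      rw [List.mem_flatMap]
      refine ⟨c, hmem, ?_⟩
      rw [if_pos hc, List.mem_map]
      exact ⟨l', ih _ l' (by omega) hl' (by omega), rfl⟩

/-- lattice elements with `sq = B` -/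
def W (B : ℕ) : List ZQ := ((enumSq 8 B).map ofList).filter (fun p => decide (Par p))

theorem mem_W {p : ZQ} {B : ℕ} (hB : B ≤ 16) (hp : Par p) (hs : sqs p = B) : p ∈ W B := by
  unfold W
  rw [List.mem_filter]
  refine ⟨?_, by simpa using hp⟩
  rw [List.mem_map]
  refine ⟨toList p, mem_enumSq 8 B _ hB rfl ?_, ofList_toList p⟩
  simp only [toList, List.map_cons, List.map_nil, List.sum_cons, List.sum_nil]
  unfold sqs at hs
  zify
  simp only [sq_abs]
  linarith

theorem par_of_mem_W {p : ZQ} {B : ℕ} (h : p ∈ W B) : Par p := by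
  unfold W at h
  rw [List.mem_filter] at h
  simpa using h.2

namespace V3

theorem isMinV_iff (w : V3) :
    IsMinV w ↔ sqs w.x + sqs w.y + sqs w.z = 16 ∧ gB w.x + gB w.y + gB w.z = 0 := by
  unfold IsMinV qipZ
  rw [mulR_conj_self, mulR_conj_self, mulR_conj_self]
  constructor
  · intro h
    have h0 := congrArg ZQ.a0 h
    have h1 := congrArg ZQ.b0 h
    simp only [add_a0, add_b0] at h0 h1
    exact ⟨h0, h1⟩
  · rintro ⟨h0, h1⟩
    ext <;> simp only [add_a0, add_b0, add_a1, add_b1, add_a2, add_b2, add_a3, add_b3] <;>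
      first | exact h0 | exact h1 | rfl

end V3

end Cfsg.Agent.Lib.Helper14.J2
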