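import Cfsg.Agent.Lib.Helper14.J2G

set_option autoImplicit false

/-!
Icosian model, part H: class invariants of lattice elements modulo the two ideals, closure
properties of the model ideals.
-/

namespace Cfsg.Agent.Lib.Helper14.J2

open ZQ V3

namespace ZQ

/-- class bits of a lattice element `E` modulo twice the lattice -/
def clsOf (E : ZQ) : ℕ :=
  (E.a0 % 2).toNat + 2 * (E.b0 % 2).toNat + 4 * (E.a1 % 2).toNat + 8 * (E.b1 % 2).toNat +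
    16 * (E.a2 % 2).toNat + 32 * (E.b2 % 2).toNat + 64 * (E.a3 % 2).toNat +
    128 * (E.b3 % 2).toNat +
    256 * (((E.a2 - (E.a1 + E.b0 + E.b1)) / 2) % 2).toNat +
    512 * (((E.b2 - (E.a0 + E.a1 + E.b0)) / 2) % 2).toNat +
    1024 * (((E.a3 - (E.a0 + E.b0 + E.b1)) / 2) % 2).toNat +
    2048 * (((E.b3 - (E.a0 + E.a1 + E.b1)) / 2) % 2).toNat

/-- class of `p` modulo the left ideal generated by the conjugate of `c` -/
def cls (c p : ZQ) : ℕ := clsOf (mulH p c)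

theorem clsOf_eq {E E' Q : ZQ} (hE' : Par E') (hQ : Par Q) (h : E = E' + (Q + Q)) :
    clsOf E = clsOf E' := by
  subst h
  obtain ⟨h1, h2, h3, h4⟩ := hE'
  obtain ⟨k1, k2, k3, k4⟩ := hQ
  unfold clsOf
  simp only [add_a0, add_b0, add_a1, add_b1, add_a2, add_b2, add_a3, add_b3]
  have e0 : (E'.a0 + (Q.a0 + Q.a0)) % 2 = E'.a0 % 2 := by omega
  have e1 : (E'.b0 + (Q.b0 + Q.b0)) % 2 = E'.b0 % 2 := by omega
  have e2 : (E'.a1 + (Q.a1 + Q.a1)) % 2 = E'.a1 % 2 := by omega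
  have e3 : (E'.b1 + (Q.b1 + Q.b1)) % 2 = E'.b1 % 2 := by omega
  have e4 : (E'.a2 + (Q.a2 + Q.a2)) % 2 = E'.a2 % 2 := by omega
  have e5 : (E'.b2 + (Q.b2 + Q.b2)) % 2 = E'.b2 % 2 := by omega
  have e6 : (E'.a3 + (Q.a3 + Q.a3)) % 2 = E'.a3 % 2 := by omega
  have e7 : (E'.b3 + (Q.b3 + Q.b3)) % 2 = E'.b3 % 2 := by omega
  have f1 : ((E'.a2 + (Q.a2 + Q.a2) - (E'.a1 + (Q.a1 + Q.a1) + (E'.b0 + (Q.b0 + Q.b0)) +
      (E'.b1 + (Q.b1 + Q.b1)))) / 2) % 2 = ((E'.a2 - (E'.a1 + E'.b0 + E'.b1)) / 2) % 2 := by omega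
  have f2 : ((E'.b2 + (Q.b2 + Q.b2) - (E'.a0 + (Q.a0 + Q.a0) + (E'.a1 + (Q.a1 + Q.a1)) +
      (E'.b0 + (Q.b0 + Q.b0)))) / 2) % 2 = ((E'.b2 - (E'.a0 + E'.a1 + E'.b0)) / 2) % 2 := by omega
  have f3 : ((E'.a3 + (Q.a3 + Q.a3) - (E'.a0 + (Q.a0 + Q.a0) + (E'.b0 + (Q.b0 + Q.b0)) +
      (E'.b1 + (Q.b1 + Q.b1)))) / 2) % 2 = ((E'.a3 - (E'.a0 + E'.b0 + E'.b1)) / 2) % 2 := by omega
  have f4 : ((E'.b3 + (Q.b3 + Q.b3) - (E'.a0 + (Q.a0 + Q.a0) + (E'.a1 + (Q.a1 + Q.a1)) +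
      (E'.b1 + (Q.b1 + Q.b1)))) / 2) % 2 = ((E'.b3 - (E'.a0 + E'.a1 + E'.b1)) / 2) % 2 := by omega
  rw [e0, e1, e2, e3, e4, e5, e6, e7, f1, f2, f3, f4]

theorem isDiv4_add {p q : ZQ} (hp : IsDiv4 p) (hq : IsDiv4 q) : IsDiv4 (p + q) := by
  obtain ⟨h0, h1, h2, h3, h4, h5, h6, h7⟩ := hp
  obtain ⟨k0, k1, k2, k3, k4, k5, k6, k7⟩ := hq
  refine ⟨?_, ?_, ?_, ?_, ?_, ?_, ?_, ?_⟩ <;> simp only [add_a0, add_b0, add_a1, add_b1, add_a2,
    add_b2, add_a3, add_b3] <;> omega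

theorem isDiv4_neg {p : ZQ} (hp : IsDiv4 p) : IsDiv4 (-p) := by
  obtain ⟨h0, h1, h2, h3, h4, h5, h6, h7⟩ := hp
  refine ⟨?_, ?_, ?_, ?_, ?_, ?_, ?_, ?_⟩ <;> simp only [neg_a0, neg_b0, neg_a1, neg_b1, neg_a2,
    neg_b2, neg_a3, neg_b3] <;> omega

theorem quarter_add {p q : ZQ} (hp : IsDiv4 p) (hq : IsDiv4 q) :
    quarter (p + q) = quarter p + quarter q := by
  obtain ⟨h0, h1, h2, h3, h4, h5, h6, h7⟩ := hp
  obtain ⟨k0, k1, k2, k3, k4, k5, k6, k7⟩ := hq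
  ext <;> simp [quarter] <;> omega

theorem quarter_neg {p : ZQ} (hp : IsDiv4 p) : quarter (-p) = -quarter p := by
  obtain ⟨h0, h1, h2, h3, h4, h5, h6, h7⟩ := hp
  ext <;> simp [quarter] <;> omega

theorem inId_zero (c : ZQ) : InId c 0 := by
  unfold InId
  rw [mulR_zero_left]
  decide

theorem inId_add {c p q : ZQ} (hp : InId c p) (hq : InId c q) : InId c (p + q) := by
  obtain ⟨h1, h2, h3⟩ := hp
  obtain ⟨k1, k2, k3⟩ := hq
  refine ⟨par_add h1 k1, ?_, ?_⟩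
  · rw [mulR_add_left]; exact isDiv4_add h2 k2
  · rw [mulR_add_left, quarter_add h2 k2]; exact par_add h3 k3

theorem inId_neg {c p : ZQ} (hp : InId c p) : InId c (-p) := by
  obtain ⟨h1, h2, h3⟩ := hp
  refine ⟨par_neg h1, ?_, ?_⟩
  · rw [mulR_neg_left]; exact isDiv4_neg h2
  · rw [mulR_neg_left, quarter_neg h2]; exact par_neg h3

theorem inId_sub {c p q : ZQ} (hp : InId c p) (hq : InId c q) : InId c (p - q) := by
  rw [sub_eq_add_neg]; exact inId_add hp (inId_neg hq)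

theorem inId_par {c p : ZQ} (hp : InId c p) : Par p := hp.1

/-- elements that differ by an element of the ideal have the same class -/
theorem cls_eq_of_sub {c p q : ZQ} (hc : Par c) (hp : Par p) (hq : Par q) (h : InId c (p - q)) :
    cls c p = cls c q := by
  obtain ⟨-, h2, h3⟩ := h
  unfold cls
  have e1 := mulR_eq_of_par hp hc
  have e2 := mulR_eq_of_par hq hc
  have e3 := zs_four_quarter h2
  generalize quarter (mulR (p - q) c) = Q at e3 h3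
  apply clsOf_eq (par_mulH hq hc) h3
  rw [mulR_sub_left, e1, e2] at e3
  generalize mulH p c = E at e3
  generalize mulH q c = E' at e3
  have f0 := congrArg ZQ.a0 e3
  have f1 := congrArg ZQ.b0 e3
  have f2 := congrArg ZQ.a1 e3
  have f3 := congrArg ZQ.b1 e3
  have f4 := congrArg ZQ.a2 e3
  have f5 := congrArg ZQ.b2 e3
  have f6 := congrArg ZQ.a3 e3
  have f7 := congrArg ZQ.b3 e3
  simp only [zs_a0, zs_b0, zs_a1, zs_b1, zs_a2, zs_b2, zs_a3, zs_b3, sub_a0, sub_b0, sub_a1,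
    sub_b1, sub_a2, sub_b2, sub_a3, sub_b3, add_a0, add_b0, add_a1, add_b1, add_a2, add_b2,
    add_a3, add_b3] at f0 f1 f2 f3 f4 f5 f6 f7
  ext <;> simp only [add_a0, add_b0, add_a1, add_b1, add_a2, add_b2, add_a3, add_b3] <;> omega

theorem cls_neg {c p : ZQ} (hc : Par c) (hp : Par p) : cls c (-p) = cls c p := by
  unfold cls
  have hE := par_mulH hp hc
  apply clsOf_eq hE (par_neg hE)
  have e1 := mulR_eq_of_par hp hc
  have e2 := mulR_eq_of_par (par_neg hp) hc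
  rw [mulR_neg_left, e1] at e2
  generalize mulH p c = E at e2
  generalize mulH (-p) c = E' at e2
  have f0 := congrArg ZQ.a0 e2
  have f1 := congrArg ZQ.b0 e2
  have f2 := congrArg ZQ.a1 e2
  have f3 := congrArg ZQ.b1 e2
  have f4 := congrArg ZQ.a2 e2
  have f5 := congrArg ZQ.b2 e2
  have f6 := congrArg ZQ.a3 e2
  have f7 := congrArg ZQ.b3 e2
  simp only [neg_a0, neg_b0, neg_a1, neg_b1, neg_a2, neg_b2, neg_a3, neg_b3, add_a0, add_b0,
    add_a1, add_b1, add_a2, add_b2, add_a3, add_b3] at f0 f1 f2 f3 f4 f5 f6 f7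
  ext <;> simp only [add_a0, add_b0, add_a1, add_b1, add_a2, add_b2, add_a3, add_b3, neg_a0,
    neg_b0, neg_a1, neg_b1, neg_a2, neg_b2, neg_a3, neg_b3] <;> omega

/-- class modulo `I h` -/
abbrev clsh (p : ZQ) : ℕ := cls hb p
/-- class modulo `I h̄` -/
abbrev clshb (p : ZQ) : ℕ := cls hh p

end ZQ

end Cfsg.Agent.Lib.Helper14.J2
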