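import Cfsg.Agent.Lib.Helper14.J2H

set_option autoImplicit false

/-!
Icosian model, part I (data): the lattice elements with `sqs = 4` and `sqs = 8`, with their classes
modulo the two ideals.  Generated.
-/

namespace Cfsg.Agent.Lib.Helper14.J2

open ZQ

/-- lattice elements with `sqs = 4` and their classes -/
def T4 : List (ZQ × ℕ × ℕ) := [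
  (⟨-2, 0, 0, 0, 0, 0, 0, 0⟩, 853, 3413),
  (⟨-1, -1, -1, 0, 0, -1, 0, 0⟩, 3442, 597),
  (⟨-1, -1, -1, 0, 0, 1, 0, 0⟩, 1752, 3071),
  (⟨-1, -1, 0, -1, 0, 0, -1, 0⟩, 1822, 2133),
  (⟨-1, -1, 0, -1, 0, 0, 1, 0⟩, 1099, 3840),
  (⟨-1, -1, 0, 0, -1, 0, 0, -1⟩, 454, 1877),
  (⟨-1, -1, 0, 0, -1, 0, 0, 1⟩, 2668, 1279),
  (⟨-1, -1, 0, 0, 1, 0, 0, -1⟩, 659, 1280),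
  (⟨-1, -1, 0, 0, 1, 0, 0, 1⟩, 2361, 1706),
  (⟨-1, -1, 0, 1, 0, 0, -1, 0⟩, 3252, 3839),
  (⟨-1, -1, 0, 1, 0, 0, 1, 0⟩, 4065, 2474),
  (⟨-1, -1, 1, 0, 0, -1, 0, 0⟩, 3623, 2560),
  (⟨-1, -1, 1, 0, 0, 1, 0, 0⟩, 1421, 938),
  (⟨-1, 0, -1, -1, 0, 0, 0, -1⟩, 1421, 2560),
  (⟨-1, 0, -1, -1, 0, 0, 0, 1⟩, 3623, 2474),
  (⟨-1, 0, -1, 0, -1, 0, -1, 0⟩, 2986, 511),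
  (⟨-1, 0, -1, 0, -1, 0, 1, 0⟩, 2303, 1706),
  (⟨-1, 0, -1, 0, 1, 0, -1, 0⟩, 2303, 938),
  (⟨-1, 0, -1, 0, 1, 0, 1, 0⟩, 2986, 1279),
  (⟨-1, 0, -1, 1, 0, 0, 0, -1⟩, 3623, 3242),
  (⟨-1, 0, -1, 1, 0, 0, 0, 1⟩, 1421, 3840),
  (⟨-1, 0, 0, -1, -1, -1, 0, 0⟩, 2361, 1280),
  (⟨-1, 0, 0, -1, -1, 1, 0, 0⟩, 659, 3242),
  (⟨-1, 0, 0, -1, 1, -1, 0, 0⟩, 2668, 1877),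
  (⟨-1, 0, 0, -1, 1, 1, 0, 0⟩, 454, 3839),
  (⟨-1, 0, 0, 0, 0, -1, -1, -1⟩, 4065, 3840),
  (⟨-1, 0, 0, 0, 0, -1, -1, 1⟩, 1099, 3242),
  (⟨-1, 0, 0, 0, 0, -1, 1, -1⟩, 3252, 2133),
  (⟨-1, 0, 0, 0, 0, -1, 1, 1⟩, 1822, 3071),
  (⟨-1, 0, 0, 0, 0, 1, -1, -1⟩, 1099, 1706),
  (⟨-1, 0, 0, 0, 0, 1, -1, 1⟩, 4065, 1280),
  (⟨-1, 0, 0, 0, 0, 1, 1, -1⟩, 1822, 511),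
  (⟨-1, 0, 0, 0, 0, 1, 1, 1⟩, 3252, 597),
  (⟨-1, 0, 0, 1, -1, -1, 0, 0⟩, 659, 938),
  (⟨-1, 0, 0, 1, -1, 1, 0, 0⟩, 2361, 2560),
  (⟨-1, 0, 0, 1, 1, -1, 0, 0⟩, 454, 511),
  (⟨-1, 0, 0, 1, 1, 1, 0, 0⟩, 2668, 2133),
  (⟨-1, 0, 1, -1, 0, 0, 0, -1⟩, 1752, 597),
  (⟨-1, 0, 1, -1, 0, 0, 0, 1⟩, 3442, 511),
  (⟨-1, 0, 1, 0, -1, 0, -1, 0⟩, 2303, 2474),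
  (⟨-1, 0, 1, 0, -1, 0, 1, 0⟩, 2986, 3839),
  (⟨-1, 0, 1, 0, 1, 0, -1, 0⟩, 2986, 3071),
  (⟨-1, 0, 1, 0, 1, 0, 1, 0⟩, 2303, 3242),
  (⟨-1, 0, 1, 1, 0, 0, 0, -1⟩, 3442, 1279),
  (⟨-1, 0, 1, 1, 0, 0, 0, 1⟩, 1752, 1877),
  (⟨-1, 1, -1, 0, 0, -1, 0, 0⟩, 1752, 3839),
  (⟨-1, 1, -1, 0, 0, 1, 0, 0⟩, 3442, 1877),
  (⟨-1, 1, 0, -1, 0, 0, -1, 0⟩, 3252, 1279),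
  (⟨-1, 1, 0, -1, 0, 0, 1, 0⟩, 4065, 938),
  (⟨-1, 1, 0, 0, -1, 0, 0, -1⟩, 2668, 3071),
  (⟨-1, 1, 0, 0, -1, 0, 0, 1⟩, 454, 2133),
  (⟨-1, 1, 0, 0, 1, 0, 0, -1⟩, 2361, 2474),
  (⟨-1, 1, 0, 0, 1, 0, 0, 1⟩, 659, 2560),
  (⟨-1, 1, 0, 1, 0, 0, -1, 0⟩, 1822, 597),
  (⟨-1, 1, 0, 1, 0, 0, 1, 0⟩, 1099, 1280),
  (⟨-1, 1, 1, 0, 0, -1, 0, 0⟩, 1421, 1706),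
  (⟨-1, 1, 1, 0, 0, 1, 0, 0⟩, 3623, 3840),
  (⟨0, -2, 0, 0, 0, 0, 0, 0⟩, 2986, 3242),
  (⟨0, -1, -1, -1, -1, 0, 0, 0⟩, 3252, 938),
  (⟨0, -1, -1, -1, 1, 0, 0, 0⟩, 4065, 511),
  (⟨0, -1, -1, 0, 0, 0, -1, -1⟩, 2668, 2474),
  (⟨0, -1, -1, 0, 0, 0, -1, 1⟩, 454, 2560),
  (⟨0, -1, -1, 0, 0, 0, 1, -1⟩, 2361, 3839),
  (⟨0, -1, -1, 0, 0, 0, 1, 1⟩, 659, 3413),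
  (⟨0, -1, -1, 1, -1, 0, 0, 0⟩, 1822, 1280),
  (⟨0, -1, -1, 1, 1, 0, 0, 0⟩, 1099, 1877),
  (⟨0, -1, 0, -1, 0, -1, 0, -1⟩, 2303, 3413),
  (⟨0, -1, 0, -1, 0, -1, 0, 1⟩, 853, 3839),
  (⟨0, -1, 0, -1, 0, 1, 0, -1⟩, 853, 1279),
  (⟨0, -1, 0, -1, 0, 1, 0, 1⟩, 2303, 1877),
  (⟨0, -1, 0, 0, -1, -1, -1, 0⟩, 1752, 1706),
  (⟨0, -1, 0, 0, -1, -1, 1, 0⟩, 1421, 511),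
  (⟨0, -1, 0, 0, -1, 1, -1, 0⟩, 3442, 3840),
  (⟨0, -1, 0, 0, -1, 1, 1, 0⟩, 3623, 2133),
  (⟨0, -1, 0, 0, 1, -1, -1, 0⟩, 1421, 1279),
  (⟨0, -1, 0, 0, 1, -1, 1, 0⟩, 1752, 938),
  (⟨0, -1, 0, 0, 1, 1, -1, 0⟩, 3623, 3413),
  (⟨0, -1, 0, 0, 1, 1, 1, 0⟩, 3442, 2560),
  (⟨0, -1, 0, 1, 0, -1, 0, -1⟩, 853, 3071),
  (⟨0, -1, 0, 1, 0, -1, 0, 1⟩, 2303, 2133),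
  (⟨0, -1, 0, 1, 0, 1, 0, -1⟩, 2303, 597),
  (⟨0, -1, 0, 1, 0, 1, 0, 1⟩, 853, 511),
  (⟨0, -1, 1, -1, -1, 0, 0, 0⟩, 4065, 3071),
  (⟨0, -1, 1, -1, 1, 0, 0, 0⟩, 3252, 2474),
  (⟨0, -1, 1, 0, 0, 0, -1, -1⟩, 2361, 511),
  (⟨0, -1, 1, 0, 0, 0, -1, 1⟩, 659, 597),
  (⟨0, -1, 1, 0, 0, 0, 1, -1⟩, 2668, 1706),
  (⟨0, -1, 1, 0, 0, 0, 1, 1⟩, 454, 1280),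
  (⟨0, -1, 1, 1, -1, 0, 0, 0⟩, 1099, 3413),
  (⟨0, -1, 1, 1, 1, 0, 0, 0⟩, 1822, 3840),
  (⟨0, 0, -2, 0, 0, 0, 0, 0⟩, 853, 2133),
  (⟨0, 0, -1, -1, 0, -1, -1, 0⟩, 659, 3071),
  (⟨0, 0, -1, -1, 0, -1, 1, 0⟩, 454, 3242),
  (⟨0, 0, -1, -1, 0, 1, -1, 0⟩, 2361, 597),
  (⟨0, 0, -1, -1, 0, 1, 1, 0⟩, 2668, 1280),
  (⟨0, 0, -1, 0, -1, -1, 0, -1⟩, 1099, 1279),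
  (⟨0, 0, -1, 0, -1, -1, 0, 1⟩, 4065, 1877),
  (⟨0, 0, -1, 0, -1, 1, 0, -1⟩, 4065, 3413),
  (⟨0, 0, -1, 0, -1, 1, 0, 1⟩, 1099, 3839),
  (⟨0, 0, -1, 0, 1, -1, 0, -1⟩, 1822, 1706),
  (⟨0, 0, -1, 0, 1, -1, 0, 1⟩, 3252, 1280),
  (⟨0, 0, -1, 0, 1, 1, 0, -1⟩, 3252, 3840),
  (⟨0, 0, -1, 0, 1, 1, 0, 1⟩, 1822, 3242),
  (⟨0, 0, -1, 1, 0, -1, -1, 0⟩, 2361, 3413),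
  (⟨0, 0, -1, 1, 0, -1, 1, 0⟩, 2668, 2560),
  (⟨0, 0, -1, 1, 0, 1, -1, 0⟩, 659, 1279),
  (⟨0, 0, -1, 1, 0, 1, 1, 0⟩, 454, 938),
  (⟨0, 0, 0, -2, 0, 0, 0, 0⟩, 2986, 1706),
  (⟨0, 0, 0, -1, -1, 0, -1, -1⟩, 3623, 3839),
  (⟨0, 0, 0, -1, -1, 0, -1, 1⟩, 1421, 3413),
  (⟨0, 0, 0, -1, -1, 0, 1, -1⟩, 3442, 2474),
  (⟨0, 0, 0, -1, -1, 0, 1, 1⟩, 1752, 2560),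
  (⟨0, 0, 0, -1, 1, 0, -1, -1⟩, 3442, 3242),
  (⟨0, 0, 0, -1, 1, 0, -1, 1⟩, 1752, 3840),
  (⟨0, 0, 0, -1, 1, 0, 1, -1⟩, 3623, 3071),
  (⟨0, 0, 0, -1, 1, 0, 1, 1⟩, 1421, 2133),
  (⟨0, 0, 0, 0, -2, 0, 0, 0⟩, 853, 597),
  (⟨0, 0, 0, 0, 0, -2, 0, 0⟩, 2986, 2474),
  (⟨0, 0, 0, 0, 0, 0, -2, 0⟩, 853, 1877),
  (⟨0, 0, 0, 0, 0, 0, 0, -2⟩, 2986, 938),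
  (⟨0, 0, 0, 0, 0, 0, 0, 2⟩, 2986, 938),
  (⟨0, 0, 0, 0, 0, 0, 2, 0⟩, 853, 1877),
  (⟨0, 0, 0, 0, 0, 2, 0, 0⟩, 2986, 2474),
  (⟨0, 0, 0, 0, 2, 0, 0, 0⟩, 853, 597),
  (⟨0, 0, 0, 1, -1, 0, -1, -1⟩, 1421, 2133),
  (⟨0, 0, 0, 1, -1, 0, -1, 1⟩, 3623, 3071),
  (⟨0, 0, 0, 1, -1, 0, 1, -1⟩, 1752, 3840),
  (⟨0, 0, 0, 1, -1, 0, 1, 1⟩, 3442, 3242),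
  (⟨0, 0, 0, 1, 1, 0, -1, -1⟩, 1752, 2560),
  (⟨0, 0, 0, 1, 1, 0, -1, 1⟩, 3442, 2474),
  (⟨0, 0, 0, 1, 1, 0, 1, -1⟩, 1421, 3413),
  (⟨0, 0, 0, 1, 1, 0, 1, 1⟩, 3623, 3839),
  (⟨0, 0, 0, 2, 0, 0, 0, 0⟩, 2986, 1706),
  (⟨0, 0, 1, -1, 0, -1, -1, 0⟩, 454, 938),
  (⟨0, 0, 1, -1, 0, -1, 1, 0⟩, 659, 1279),
  (⟨0, 0, 1, -1, 0, 1, -1, 0⟩, 2668, 2560),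
  (⟨0, 0, 1, -1, 0, 1, 1, 0⟩, 2361, 3413),
  (⟨0, 0, 1, 0, -1, -1, 0, -1⟩, 1822, 3242),
  (⟨0, 0, 1, 0, -1, -1, 0, 1⟩, 3252, 3840),
  (⟨0, 0, 1, 0, -1, 1, 0, -1⟩, 3252, 1280),
  (⟨0, 0, 1, 0, -1, 1, 0, 1⟩, 1822, 1706),
  (⟨0, 0, 1, 0, 1, -1, 0, -1⟩, 1099, 3839),
  (⟨0, 0, 1, 0, 1, -1, 0, 1⟩, 4065, 3413),
  (⟨0, 0, 1, 0, 1, 1, 0, -1⟩, 4065, 1877),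
  (⟨0, 0, 1, 0, 1, 1, 0, 1⟩, 1099, 1279),
  (⟨0, 0, 1, 1, 0, -1, -1, 0⟩, 2668, 1280),
  (⟨0, 0, 1, 1, 0, -1, 1, 0⟩, 2361, 597),
  (⟨0, 0, 1, 1, 0, 1, -1, 0⟩, 454, 3242),
  (⟨0, 0, 1, 1, 0, 1, 1, 0⟩, 659, 3071),
  (⟨0, 0, 2, 0, 0, 0, 0, 0⟩, 853, 2133),
  (⟨0, 1, -1, -1, -1, 0, 0, 0⟩, 1822, 3840),
  (⟨0, 1, -1, -1, 1, 0, 0, 0⟩, 1099, 3413),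
  (⟨0, 1, -1, 0, 0, 0, -1, -1⟩, 454, 1280),
  (⟨0, 1, -1, 0, 0, 0, -1, 1⟩, 2668, 1706),
  (⟨0, 1, -1, 0, 0, 0, 1, -1⟩, 659, 597),
  (⟨0, 1, -1, 0, 0, 0, 1, 1⟩, 2361, 511),
  (⟨0, 1, -1, 1, -1, 0, 0, 0⟩, 3252, 2474),
  (⟨0, 1, -1, 1, 1, 0, 0, 0⟩, 4065, 3071),
  (⟨0, 1, 0, -1, 0, -1, 0, -1⟩, 853, 511),
  (⟨0, 1, 0, -1, 0, -1, 0, 1⟩, 2303, 597),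
  (⟨0, 1, 0, -1, 0, 1, 0, -1⟩, 2303, 2133),
  (⟨0, 1, 0, -1, 0, 1, 0, 1⟩, 853, 3071),
  (⟨0, 1, 0, 0, -1, -1, -1, 0⟩, 3442, 2560),
  (⟨0, 1, 0, 0, -1, -1, 1, 0⟩, 3623, 3413),
  (⟨0, 1, 0, 0, -1, 1, -1, 0⟩, 1752, 938),
  (⟨0, 1, 0, 0, -1, 1, 1, 0⟩, 1421, 1279),
  (⟨0, 1, 0, 0, 1, -1, -1, 0⟩, 3623, 2133),
  (⟨0, 1, 0, 0, 1, -1, 1, 0⟩, 3442, 3840),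
  (⟨0, 1, 0, 0, 1, 1, -1, 0⟩, 1421, 511),
  (⟨0, 1, 0, 0, 1, 1, 1, 0⟩, 1752, 1706),
  (⟨0, 1, 0, 1, 0, -1, 0, -1⟩, 2303, 1877),
  (⟨0, 1, 0, 1, 0, -1, 0, 1⟩, 853, 1279),
  (⟨0, 1, 0, 1, 0, 1, 0, -1⟩, 853, 3839),
  (⟨0, 1, 0, 1, 0, 1, 0, 1⟩, 2303, 3413),
  (⟨0, 1, 1, -1, -1, 0, 0, 0⟩, 1099, 1877),
  (⟨0, 1, 1, -1, 1, 0, 0, 0⟩, 1822, 1280),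
  (⟨0, 1, 1, 0, 0, 0, -1, -1⟩, 659, 3413),
  (⟨0, 1, 1, 0, 0, 0, -1, 1⟩, 2361, 3839),
  (⟨0, 1, 1, 0, 0, 0, 1, -1⟩, 454, 2560),
  (⟨0, 1, 1, 0, 0, 0, 1, 1⟩, 2668, 2474),
  (⟨0, 1, 1, 1, -1, 0, 0, 0⟩, 4065, 511),
  (⟨0, 1, 1, 1, 1, 0, 0, 0⟩, 3252, 938),
  (⟨0, 2, 0, 0, 0, 0, 0, 0⟩, 2986, 3242),
  (⟨1, -1, -1, 0, 0, -1, 0, 0⟩, 3623, 3840),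
  (⟨1, -1, -1, 0, 0, 1, 0, 0⟩, 1421, 1706),
  (⟨1, -1, 0, -1, 0, 0, -1, 0⟩, 1099, 1280),
  (⟨1, -1, 0, -1, 0, 0, 1, 0⟩, 1822, 597),
  (⟨1, -1, 0, 0, -1, 0, 0, -1⟩, 659, 2560),
  (⟨1, -1, 0, 0, -1, 0, 0, 1⟩, 2361, 2474),
  (⟨1, -1, 0, 0, 1, 0, 0, -1⟩, 454, 2133),
  (⟨1, -1, 0, 0, 1, 0, 0, 1⟩, 2668, 3071),
  (⟨1, -1, 0, 1, 0, 0, -1, 0⟩, 4065, 938),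
  (⟨1, -1, 0, 1, 0, 0, 1, 0⟩, 3252, 1279),
  (⟨1, -1, 1, 0, 0, -1, 0, 0⟩, 3442, 1877),
  (⟨1, -1, 1, 0, 0, 1, 0, 0⟩, 1752, 3839),
  (⟨1, 0, -1, -1, 0, 0, 0, -1⟩, 1752, 1877),
  (⟨1, 0, -1, -1, 0, 0, 0, 1⟩, 3442, 1279),
  (⟨1, 0, -1, 0, -1, 0, -1, 0⟩, 2303, 3242),
  (⟨1, 0, -1, 0, -1, 0, 1, 0⟩, 2986, 3071),
  (⟨1, 0, -1, 0, 1, 0, -1, 0⟩, 2986, 3839),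
  (⟨1, 0, -1, 0, 1, 0, 1, 0⟩, 2303, 2474),
  (⟨1, 0, -1, 1, 0, 0, 0, -1⟩, 3442, 511),
  (⟨1, 0, -1, 1, 0, 0, 0, 1⟩, 1752, 597),
  (⟨1, 0, 0, -1, -1, -1, 0, 0⟩, 2668, 2133),
  (⟨1, 0, 0, -1, -1, 1, 0, 0⟩, 454, 511),
  (⟨1, 0, 0, -1, 1, -1, 0, 0⟩, 2361, 2560),
  (⟨1, 0, 0, -1, 1, 1, 0, 0⟩, 659, 938),
  (⟨1, 0, 0, 0, 0, -1, -1, -1⟩, 3252, 597),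
  (⟨1, 0, 0, 0, 0, -1, -1, 1⟩, 1822, 511),
  (⟨1, 0, 0, 0, 0, -1, 1, -1⟩, 4065, 1280),
  (⟨1, 0, 0, 0, 0, -1, 1, 1⟩, 1099, 1706),
  (⟨1, 0, 0, 0, 0, 1, -1, -1⟩, 1822, 3071),
  (⟨1, 0, 0, 0, 0, 1, -1, 1⟩, 3252, 2133),
  (⟨1, 0, 0, 0, 0, 1, 1, -1⟩, 1099, 3242),
  (⟨1, 0, 0, 0, 0, 1, 1, 1⟩, 4065, 3840),
  (⟨1, 0, 0, 1, -1, -1, 0, 0⟩, 454, 3839),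
  (⟨1, 0, 0, 1, -1, 1, 0, 0⟩, 2668, 1877),
  (⟨1, 0, 0, 1, 1, -1, 0, 0⟩, 659, 3242),
  (⟨1, 0, 0, 1, 1, 1, 0, 0⟩, 2361, 1280),
  (⟨1, 0, 1, -1, 0, 0, 0, -1⟩, 1421, 3840),
  (⟨1, 0, 1, -1, 0, 0, 0, 1⟩, 3623, 3242),
  (⟨1, 0, 1, 0, -1, 0, -1, 0⟩, 2986, 1279),
  (⟨1, 0, 1, 0, -1, 0, 1, 0⟩, 2303, 938),
  (⟨1, 0, 1, 0, 1, 0, -1, 0⟩, 2303, 1706),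
  (⟨1, 0, 1, 0, 1, 0, 1, 0⟩, 2986, 511),
  (⟨1, 0, 1, 1, 0, 0, 0, -1⟩, 3623, 2474),
  (⟨1, 0, 1, 1, 0, 0, 0, 1⟩, 1421, 2560),
  (⟨1, 1, -1, 0, 0, -1, 0, 0⟩, 1421, 938),
  (⟨1, 1, -1, 0, 0, 1, 0, 0⟩, 3623, 2560),
  (⟨1, 1, 0, -1, 0, 0, -1, 0⟩, 4065, 2474),
  (⟨1, 1, 0, -1, 0, 0, 1, 0⟩, 3252, 3839),
  (⟨1, 1, 0, 0, -1, 0, 0, -1⟩, 2361, 1706),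
  (⟨1, 1, 0, 0, -1, 0, 0, 1⟩, 659, 1280),
  (⟨1, 1, 0, 0, 1, 0, 0, -1⟩, 2668, 1279),
  (⟨1, 1, 0, 0, 1, 0, 0, 1⟩, 454, 1877),
  (⟨1, 1, 0, 1, 0, 0, -1, 0⟩, 1099, 3840),
  (⟨1, 1, 0, 1, 0, 0, 1, 0⟩, 1822, 2133),
  (⟨1, 1, 1, 0, 0, -1, 0, 0⟩, 1752, 3071),
  (⟨1, 1, 1, 0, 0, 1, 0, 0⟩, 3442, 597),
  (⟨2, 0, 0, 0, 0, 0, 0, 0⟩, 853, 3413)]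

/-- lattice elements with `sqs = 8` and their classes -/
def T8 : List (ZQ × ℕ × ℕ) := [
  (⟨-2, -2, 0, 0, 0, 0, 0, 0⟩, 2303, 511),
  (⟨-2, -1, -1, -1, -1, 0, 0, 0⟩, 4065, 3839),
  (⟨-2, -1, -1, -1, 1, 0, 0, 0⟩, 3252, 3242),
  (⟨-2, -1, -1, 0, 0, 0, -1, -1⟩, 2361, 1279),
  (⟨-2, -1, -1, 0, 0, 0, -1, 1⟩, 659, 1877),
  (⟨-2, -1, -1, 0, 0, 0, 1, -1⟩, 2668, 938),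
  (⟨-2, -1, -1, 0, 0, 0, 1, 1⟩, 454, 0),
  (⟨-2, -1, -1, 1, -1, 0, 0, 0⟩, 1099, 2133),
  (⟨-2, -1, -1, 1, 1, 0, 0, 0⟩, 1822, 2560),
  (⟨-2, -1, 0, -1, 0, -1, 0, -1⟩, 2986, 0),
  (⟨-2, -1, 0, -1, 0, -1, 0, 1⟩, 0, 938),
  (⟨-2, -1, 0, -1, 0, 1, 0, -1⟩, 0, 2474),
  (⟨-2, -1, 0, -1, 0, 1, 0, 1⟩, 2986, 2560),
  (⟨-2, -1, 0, 0, -1, -1, -1, 0⟩, 1421, 3071),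
  (⟨-2, -1, 0, 0, -1, -1, 1, 0⟩, 1752, 3242),
  (⟨-2, -1, 0, 0, -1, 1, -1, 0⟩, 3623, 597),
  (⟨-2, -1, 0, 0, -1, 1, 1, 0⟩, 3442, 1280),
  (⟨-2, -1, 0, 0, 1, -1, -1, 0⟩, 1752, 2474),
  (⟨-2, -1, 0, 0, 1, -1, 1, 0⟩, 1421, 3839),
  (⟨-2, -1, 0, 0, 1, 1, -1, 0⟩, 3442, 0),
  (⟨-2, -1, 0, 0, 1, 1, 1, 0⟩, 3623, 1877),
  (⟨-2, -1, 0, 1, 0, -1, 0, -1⟩, 0, 1706),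
  (⟨-2, -1, 0, 1, 0, -1, 0, 1⟩, 2986, 1280),
  (⟨-2, -1, 0, 1, 0, 1, 0, -1⟩, 2986, 3840),
  (⟨-2, -1, 0, 1, 0, 1, 0, 1⟩, 0, 3242),
  (⟨-2, -1, 1, -1, -1, 0, 0, 0⟩, 3252, 1706),
  (⟨-2, -1, 1, -1, 1, 0, 0, 0⟩, 4065, 1279),
  (⟨-2, -1, 1, 0, 0, 0, -1, -1⟩, 2668, 3242),
  (⟨-2, -1, 1, 0, 0, 0, -1, 1⟩, 454, 3840),
  (⟨-2, -1, 1, 0, 0, 0, 1, -1⟩, 2361, 3071),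
  (⟨-2, -1, 1, 0, 0, 0, 1, 1⟩, 659, 2133),
  (⟨-2, -1, 1, 1, -1, 0, 0, 0⟩, 1822, 0),
  (⟨-2, -1, 1, 1, 1, 0, 0, 0⟩, 1099, 597),
  (⟨-2, 0, -2, 0, 0, 0, 0, 0⟩, 0, 1280),
  (⟨-2, 0, -1, -1, 0, -1, -1, 0⟩, 454, 1706),
  (⟨-2, 0, -1, -1, 0, -1, 1, 0⟩, 659, 511),
  (⟨-2, 0, -1, -1, 0, 1, -1, 0⟩, 2668, 3840),
  (⟨-2, 0, -1, -1, 0, 1, 1, 0⟩, 2361, 2133),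
  (⟨-2, 0, -1, 0, -1, -1, 0, -1⟩, 1822, 2474),
  (⟨-2, 0, -1, 0, -1, -1, 0, 1⟩, 3252, 2560),
  (⟨-2, 0, -1, 0, -1, 1, 0, -1⟩, 3252, 0),
  (⟨-2, 0, -1, 0, -1, 1, 0, 1⟩, 1822, 938),
  (⟨-2, 0, -1, 0, 1, -1, 0, -1⟩, 1099, 3071),
  (⟨-2, 0, -1, 0, 1, -1, 0, 1⟩, 4065, 2133),
  (⟨-2, 0, -1, 0, 1, 1, 0, -1⟩, 4065, 597),
  (⟨-2, 0, -1, 0, 1, 1, 0, 1⟩, 1099, 511),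
  (⟨-2, 0, -1, 1, 0, -1, -1, 0⟩, 2668, 0),
  (⟨-2, 0, -1, 1, 0, -1, 1, 0⟩, 2361, 1877),
  (⟨-2, 0, -1, 1, 0, 1, -1, 0⟩, 454, 2474),
  (⟨-2, 0, -1, 1, 0, 1, 1, 0⟩, 659, 3839),
  (⟨-2, 0, 0, -2, 0, 0, 0, 0⟩, 2303, 3071),
  (⟨-2, 0, 0, -1, -1, 0, -1, -1⟩, 3442, 938),
  (⟨-2, 0, 0, -1, -1, 0, -1, 1⟩, 1752, 0),
  (⟨-2, 0, 0, -1, -1, 0, 1, -1⟩, 3623, 1279),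
  (⟨-2, 0, 0, -1, -1, 0, 1, 1⟩, 1421, 1877),
  (⟨-2, 0, 0, -1, 1, 0, -1, -1⟩, 3623, 511),
  (⟨-2, 0, 0, -1, 1, 0, -1, 1⟩, 1421, 597),
  (⟨-2, 0, 0, -1, 1, 0, 1, -1⟩, 3442, 1706),
  (⟨-2, 0, 0, -1, 1, 0, 1, 1⟩, 1752, 1280),
  (⟨-2, 0, 0, 0, -2, 0, 0, 0⟩, 0, 3840),
  (⟨-2, 0, 0, 0, 0, -2, 0, 0⟩, 2303, 1279),
  (⟨-2, 0, 0, 0, 0, 0, -2, 0⟩, 0, 2560),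
  (⟨-2, 0, 0, 0, 0, 0, 0, -2⟩, 2303, 3839),
  (⟨-2, 0, 0, 0, 0, 0, 0, 2⟩, 2303, 3839),
  (⟨-2, 0, 0, 0, 0, 0, 2, 0⟩, 0, 2560),
  (⟨-2, 0, 0, 0, 0, 2, 0, 0⟩, 2303, 1279),
  (⟨-2, 0, 0, 0, 2, 0, 0, 0⟩, 0, 3840),
  (⟨-2, 0, 0, 1, -1, 0, -1, -1⟩, 1752, 1280),
  (⟨-2, 0, 0, 1, -1, 0, -1, 1⟩, 3442, 1706),
  (⟨-2, 0, 0, 1, -1, 0, 1, -1⟩, 1421, 597),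
  (⟨-2, 0, 0, 1, -1, 0, 1, 1⟩, 3623, 511),
  (⟨-2, 0, 0, 1, 1, 0, -1, -1⟩, 1421, 1877),
  (⟨-2, 0, 0, 1, 1, 0, -1, 1⟩, 3623, 1279),
  (⟨-2, 0, 0, 1, 1, 0, 1, -1⟩, 1752, 0),
  (⟨-2, 0, 0, 1, 1, 0, 1, 1⟩, 3442, 938),
  (⟨-2, 0, 0, 2, 0, 0, 0, 0⟩, 2303, 3071),
  (⟨-2, 0, 1, -1, 0, -1, -1, 0⟩, 659, 3839),
  (⟨-2, 0, 1, -1, 0, -1, 1, 0⟩, 454, 2474),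
  (⟨-2, 0, 1, -1, 0, 1, -1, 0⟩, 2361, 1877),
  (⟨-2, 0, 1, -1, 0, 1, 1, 0⟩, 2668, 0),
  (⟨-2, 0, 1, 0, -1, -1, 0, -1⟩, 1099, 511),
  (⟨-2, 0, 1, 0, -1, -1, 0, 1⟩, 4065, 597),
  (⟨-2, 0, 1, 0, -1, 1, 0, -1⟩, 4065, 2133),
  (⟨-2, 0, 1, 0, -1, 1, 0, 1⟩, 1099, 3071),
  (⟨-2, 0, 1, 0, 1, -1, 0, -1⟩, 1822, 938),
  (⟨-2, 0, 1, 0, 1, -1, 0, 1⟩, 3252, 0),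
  (⟨-2, 0, 1, 0, 1, 1, 0, -1⟩, 3252, 2560),
  (⟨-2, 0, 1, 0, 1, 1, 0, 1⟩, 1822, 2474),
  (⟨-2, 0, 1, 1, 0, -1, -1, 0⟩, 2361, 2133),
  (⟨-2, 0, 1, 1, 0, -1, 1, 0⟩, 2668, 3840),
  (⟨-2, 0, 1, 1, 0, 1, -1, 0⟩, 659, 511),
  (⟨-2, 0, 1, 1, 0, 1, 1, 0⟩, 454, 1706),
  (⟨-2, 0, 2, 0, 0, 0, 0, 0⟩, 0, 1280),
  (⟨-2, 1, -1, -1, -1, 0, 0, 0⟩, 1099, 597),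
  (⟨-2, 1, -1, -1, 1, 0, 0, 0⟩, 1822, 0),
  (⟨-2, 1, -1, 0, 0, 0, -1, -1⟩, 659, 2133),
  (⟨-2, 1, -1, 0, 0, 0, -1, 1⟩, 2361, 3071),
  (⟨-2, 1, -1, 0, 0, 0, 1, -1⟩, 454, 3840),
  (⟨-2, 1, -1, 0, 0, 0, 1, 1⟩, 2668, 3242),
  (⟨-2, 1, -1, 1, -1, 0, 0, 0⟩, 4065, 1279),
  (⟨-2, 1, -1, 1, 1, 0, 0, 0⟩, 3252, 1706),
  (⟨-2, 1, 0, -1, 0, -1, 0, -1⟩, 0, 3242),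
  (⟨-2, 1, 0, -1, 0, -1, 0, 1⟩, 2986, 3840),
  (⟨-2, 1, 0, -1, 0, 1, 0, -1⟩, 2986, 1280),
  (⟨-2, 1, 0, -1, 0, 1, 0, 1⟩, 0, 1706),
  (⟨-2, 1, 0, 0, -1, -1, -1, 0⟩, 3623, 1877),
  (⟨-2, 1, 0, 0, -1, -1, 1, 0⟩, 3442, 0),
  (⟨-2, 1, 0, 0, -1, 1, -1, 0⟩, 1421, 3839),
  (⟨-2, 1, 0, 0, -1, 1, 1, 0⟩, 1752, 2474),
  (⟨-2, 1, 0, 0, 1, -1, -1, 0⟩, 3442, 1280),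
  (⟨-2, 1, 0, 0, 1, -1, 1, 0⟩, 3623, 597),
  (⟨-2, 1, 0, 0, 1, 1, -1, 0⟩, 1752, 3242),
  (⟨-2, 1, 0, 0, 1, 1, 1, 0⟩, 1421, 3071),
  (⟨-2, 1, 0, 1, 0, -1, 0, -1⟩, 2986, 2560),
  (⟨-2, 1, 0, 1, 0, -1, 0, 1⟩, 0, 2474),
  (⟨-2, 1, 0, 1, 0, 1, 0, -1⟩, 0, 938),
  (⟨-2, 1, 0, 1, 0, 1, 0, 1⟩, 2986, 0),
  (⟨-2, 1, 1, -1, -1, 0, 0, 0⟩, 1822, 2560),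
  (⟨-2, 1, 1, -1, 1, 0, 0, 0⟩, 1099, 2133),
  (⟨-2, 1, 1, 0, 0, 0, -1, -1⟩, 454, 0),
  (⟨-2, 1, 1, 0, 0, 0, -1, 1⟩, 2668, 938),
  (⟨-2, 1, 1, 0, 0, 0, 1, -1⟩, 659, 1877),
  (⟨-2, 1, 1, 0, 0, 0, 1, 1⟩, 2361, 1279),
  (⟨-2, 1, 1, 1, -1, 0, 0, 0⟩, 3252, 3242),
  (⟨-2, 1, 1, 1, 1, 0, 0, 0⟩, 4065, 3839),
  (⟨-2, 2, 0, 0, 0, 0, 0, 0⟩, 2303, 511),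
  (⟨-1, -2, -1, -1, 0, 0, 0, -1⟩, 3623, 1706),
  (⟨-1, -2, -1, -1, 0, 0, 0, 1⟩, 1421, 1280),
  (⟨-1, -2, -1, 0, -1, 0, -1, 0⟩, 0, 3413),
  (⟨-1, -2, -1, 0, -1, 0, 1, 0⟩, 853, 2560),
  (⟨-1, -2, -1, 0, 1, 0, -1, 0⟩, 853, 3840),
  (⟨-1, -2, -1, 0, 1, 0, 1, 0⟩, 0, 2133),
  (⟨-1, -2, -1, 1, 0, 0, 0, -1⟩, 1421, 0),
  (⟨-1, -2, -1, 1, 0, 0, 0, 1⟩, 3623, 938),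
  (⟨-1, -2, 0, -1, -1, -1, 0, 0⟩, 659, 2474),
  (⟨-1, -2, 0, -1, -1, 1, 0, 0⟩, 2361, 0),
  (⟨-1, -2, 0, -1, 1, -1, 0, 0⟩, 454, 3071),
  (⟨-1, -2, 0, -1, 1, 1, 0, 0⟩, 2668, 597),
  (⟨-1, -2, 0, 0, 0, -1, -1, -1⟩, 1099, 938),
  (⟨-1, -2, 0, 0, 0, -1, -1, 1⟩, 4065, 0),
  (⟨-1, -2, 0, 0, 0, -1, 1, -1⟩, 1822, 1279),
  (⟨-1, -2, 0, 0, 0, -1, 1, 1⟩, 3252, 1877),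
  (⟨-1, -2, 0, 0, 0, 1, -1, -1⟩, 4065, 2560),
  (⟨-1, -2, 0, 0, 0, 1, -1, 1⟩, 1099, 2474),
  (⟨-1, -2, 0, 0, 0, 1, 1, -1⟩, 3252, 3413),
  (⟨-1, -2, 0, 0, 0, 1, 1, 1⟩, 1822, 3839),
  (⟨-1, -2, 0, 1, -1, -1, 0, 0⟩, 2361, 3840),
  (⟨-1, -2, 0, 1, -1, 1, 0, 0⟩, 659, 1706),
  (⟨-1, -2, 0, 1, 1, -1, 0, 0⟩, 2668, 3413),
  (⟨-1, -2, 0, 1, 1, 1, 0, 0⟩, 454, 1279),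
  (⟨-1, -2, 1, -1, 0, 0, 0, -1⟩, 3442, 3839),
  (⟨-1, -2, 1, -1, 0, 0, 0, 1⟩, 1752, 3413),
  (⟨-1, -2, 1, 0, -1, 0, -1, 0⟩, 853, 1280),
  (⟨-1, -2, 1, 0, -1, 0, 1, 0⟩, 0, 597),
  (⟨-1, -2, 1, 0, 1, 0, -1, 0⟩, 0, 1877),
  (⟨-1, -2, 1, 0, 1, 0, 1, 0⟩, 853, 0),
  (⟨-1, -2, 1, 1, 0, 0, 0, -1⟩, 1752, 2133),
  (⟨-1, -2, 1, 1, 0, 0, 0, 1⟩, 3442, 3071),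
  (⟨-1, -1, -2, -1, 0, 0, -1, 0⟩, 1099, 0),
  (⟨-1, -1, -2, -1, 0, 0, 1, 0⟩, 1822, 1877),
  (⟨-1, -1, -2, 0, -1, 0, 0, -1⟩, 659, 3840),
  (⟨-1, -1, -2, 0, -1, 0, 0, 1⟩, 2361, 3242),
  (⟨-1, -1, -2, 0, 1, 0, 0, -1⟩, 454, 3413),
  (⟨-1, -1, -2, 0, 1, 0, 0, 1⟩, 2668, 3839),
  (⟨-1, -1, -2, 1, 0, 0, -1, 0⟩, 4065, 1706),
  (⟨-1, -1, -2, 1, 0, 0, 1, 0⟩, 3252, 511),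
  (⟨-1, -1, -1, -2, 0, -1, 0, 0⟩, 1752, 1279),
  (⟨-1, -1, -1, -2, 0, 1, 0, 0⟩, 3442, 3413),
  (⟨-1, -1, -1, -1, -1, -1, -1, -1⟩, 853, 3242),
  (⟨-1, -1, -1, -1, -1, -1, -1, 1⟩, 2303, 3840),
  (⟨-1, -1, -1, -1, -1, -1, 1, -1⟩, 0, 3071),
  (⟨-1, -1, -1, -1, -1, -1, 1, 1⟩, 2986, 2133),
  (⟨-1, -1, -1, -1, -1, 1, -1, -1⟩, 2303, 1280),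
  (⟨-1, -1, -1, -1, -1, 1, -1, 1⟩, 853, 1706),
  (⟨-1, -1, -1, -1, -1, 1, 1, -1⟩, 2986, 597),
  (⟨-1, -1, -1, -1, -1, 1, 1, 1⟩, 0, 511),
  (⟨-1, -1, -1, -1, 1, -1, -1, -1⟩, 0, 3839),
  (⟨-1, -1, -1, -1, 1, -1, -1, 1⟩, 2986, 3413),
  (⟨-1, -1, -1, -1, 1, -1, 1, -1⟩, 853, 2474),
  (⟨-1, -1, -1, -1, 1, -1, 1, 1⟩, 2303, 2560),
  (⟨-1, -1, -1, -1, 1, 1, -1, -1⟩, 2986, 1877),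
  (⟨-1, -1, -1, -1, 1, 1, -1, 1⟩, 0, 1279),
  (⟨-1, -1, -1, -1, 1, 1, 1, -1⟩, 2303, 0),
  (⟨-1, -1, -1, -1, 1, 1, 1, 1⟩, 853, 938),
  (⟨-1, -1, -1, 0, -2, -1, 0, 0⟩, 3623, 0),
  (⟨-1, -1, -1, 0, -2, 1, 0, 0⟩, 1421, 2474),
  (⟨-1, -1, -1, 0, 0, -1, -2, 0⟩, 3623, 1280),
  (⟨-1, -1, -1, 0, 0, -1, 0, -2⟩, 1752, 511),
  (⟨-1, -1, -1, 0, 0, -1, 0, 2⟩, 1752, 511),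
  (⟨-1, -1, -1, 0, 0, -1, 2, 0⟩, 3623, 1280),
  (⟨-1, -1, -1, 0, 0, 1, -2, 0⟩, 1421, 3242),
  (⟨-1, -1, -1, 0, 0, 1, 0, -2⟩, 3442, 2133),
  (⟨-1, -1, -1, 0, 0, 1, 0, 2⟩, 3442, 2133),
  (⟨-1, -1, -1, 0, 0, 1, 2, 0⟩, 1421, 3242),
  (⟨-1, -1, -1, 0, 2, -1, 0, 0⟩, 3623, 0),
  (⟨-1, -1, -1, 0, 2, 1, 0, 0⟩, 1421, 2474),
  (⟨-1, -1, -1, 1, -1, -1, -1, -1⟩, 2303, 2560),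
  (⟨-1, -1, -1, 1, -1, -1, -1, 1⟩, 853, 2474),
  (⟨-1, -1, -1, 1, -1, -1, 1, -1⟩, 2986, 3413),
  (⟨-1, -1, -1, 1, -1, -1, 1, 1⟩, 0, 3839),
  (⟨-1, -1, -1, 1, -1, 1, -1, -1⟩, 853, 938),
  (⟨-1, -1, -1, 1, -1, 1, -1, 1⟩, 2303, 0),
  (⟨-1, -1, -1, 1, -1, 1, 1, -1⟩, 0, 1279),
  (⟨-1, -1, -1, 1, -1, 1, 1, 1⟩, 2986, 1877),
  (⟨-1, -1, -1, 1, 1, -1, -1, -1⟩, 2986, 2133),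
  (⟨-1, -1, -1, 1, 1, -1, -1, 1⟩, 0, 3071),
  (⟨-1, -1, -1, 1, 1, -1, 1, -1⟩, 2303, 3840),
  (⟨-1, -1, -1, 1, 1, -1, 1, 1⟩, 853, 3242),
  (⟨-1, -1, -1, 1, 1, 1, -1, -1⟩, 0, 511),
  (⟨-1, -1, -1, 1, 1, 1, -1, 1⟩, 2986, 597),
  (⟨-1, -1, -1, 1, 1, 1, 1, -1⟩, 853, 1706),
  (⟨-1, -1, -1, 1, 1, 1, 1, 1⟩, 2303, 1280),
  (⟨-1, -1, -1, 2, 0, -1, 0, 0⟩, 1752, 1279),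
  (⟨-1, -1, -1, 2, 0, 1, 0, 0⟩, 3442, 3413),
  (⟨-1, -1, 0, -2, -1, 0, 0, -1⟩, 2668, 511),
  (⟨-1, -1, 0, -2, -1, 0, 0, 1⟩, 454, 597),
  (⟨-1, -1, 0, -2, 1, 0, 0, -1⟩, 2361, 938),
  (⟨-1, -1, 0, -2, 1, 0, 0, 1⟩, 659, 0),
  (⟨-1, -1, 0, -1, -2, 0, -1, 0⟩, 1099, 2560),
  (⟨-1, -1, 0, -1, -2, 0, 1, 0⟩, 1822, 3413),
  (⟨-1, -1, 0, -1, 0, -2, -1, 0⟩, 3252, 511),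
  (⟨-1, -1, 0, -1, 0, -2, 1, 0⟩, 4065, 1706),
  (⟨-1, -1, 0, -1, 0, 0, -1, -2⟩, 3252, 3071),
  (⟨-1, -1, 0, -1, 0, 0, -1, 2⟩, 3252, 3071),
  (⟨-1, -1, 0, -1, 0, 0, 1, -2⟩, 4065, 3242),
  (⟨-1, -1, 0, -1, 0, 0, 1, 2⟩, 4065, 3242),
  (⟨-1, -1, 0, -1, 0, 2, -1, 0⟩, 3252, 511),
  (⟨-1, -1, 0, -1, 0, 2, 1, 0⟩, 4065, 1706),
  (⟨-1, -1, 0, -1, 2, 0, -1, 0⟩, 1099, 2560),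
  (⟨-1, -1, 0, -1, 2, 0, 1, 0⟩, 1822, 3413),
  (⟨-1, -1, 0, 0, -1, -2, 0, -1⟩, 2668, 3839),
  (⟨-1, -1, 0, 0, -1, -2, 0, 1⟩, 454, 3413),
  (⟨-1, -1, 0, 0, -1, 0, -2, -1⟩, 659, 0),
  (⟨-1, -1, 0, 0, -1, 0, -2, 1⟩, 2361, 938),
  (⟨-1, -1, 0, 0, -1, 0, 2, -1⟩, 659, 0),
  (⟨-1, -1, 0, 0, -1, 0, 2, 1⟩, 2361, 938),
  (⟨-1, -1, 0, 0, -1, 2, 0, -1⟩, 2668, 3839),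
  (⟨-1, -1, 0, 0, -1, 2, 0, 1⟩, 454, 3413),
  (⟨-1, -1, 0, 0, 1, -2, 0, -1⟩, 2361, 3242),
  (⟨-1, -1, 0, 0, 1, -2, 0, 1⟩, 659, 3840),
  (⟨-1, -1, 0, 0, 1, 0, -2, -1⟩, 454, 597),
  (⟨-1, -1, 0, 0, 1, 0, -2, 1⟩, 2668, 511),
  (⟨-1, -1, 0, 0, 1, 0, 2, -1⟩, 454, 597),
  (⟨-1, -1, 0, 0, 1, 0, 2, 1⟩, 2668, 511),
  (⟨-1, -1, 0, 0, 1, 2, 0, -1⟩, 2361, 3242),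
  (⟨-1, -1, 0, 0, 1, 2, 0, 1⟩, 659, 3840),
  (⟨-1, -1, 0, 1, -2, 0, -1, 0⟩, 4065, 3242),
  (⟨-1, -1, 0, 1, -2, 0, 1, 0⟩, 3252, 3071),
  (⟨-1, -1, 0, 1, 0, -2, -1, 0⟩, 1822, 1877),
  (⟨-1, -1, 0, 1, 0, -2, 1, 0⟩, 1099, 0),
  (⟨-1, -1, 0, 1, 0, 0, -1, -2⟩, 1822, 3413),
  (⟨-1, -1, 0, 1, 0, 0, -1, 2⟩, 1822, 3413),
  (⟨-1, -1, 0, 1, 0, 0, 1, -2⟩, 1099, 2560),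
  (⟨-1, -1, 0, 1, 0, 0, 1, 2⟩, 1099, 2560),
  (⟨-1, -1, 0, 1, 0, 2, -1, 0⟩, 1822, 1877),
  (⟨-1, -1, 0, 1, 0, 2, 1, 0⟩, 1099, 0),
  (⟨-1, -1, 0, 1, 2, 0, -1, 0⟩, 4065, 3242),
  (⟨-1, -1, 0, 1, 2, 0, 1, 0⟩, 3252, 3071),
  (⟨-1, -1, 0, 2, -1, 0, 0, -1⟩, 2668, 511),
  (⟨-1, -1, 0, 2, -1, 0, 0, 1⟩, 454, 597),
  (⟨-1, -1, 0, 2, 1, 0, 0, -1⟩, 2361, 938),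
  (⟨-1, -1, 0, 2, 1, 0, 0, 1⟩, 659, 0),
  (⟨-1, -1, 1, -2, 0, -1, 0, 0⟩, 1421, 3242),
  (⟨-1, -1, 1, -2, 0, 1, 0, 0⟩, 3623, 1280),
  (⟨-1, -1, 1, -1, -1, -1, -1, -1⟩, 0, 1279),
  (⟨-1, -1, 1, -1, -1, -1, -1, 1⟩, 2986, 1877),
  (⟨-1, -1, 1, -1, -1, -1, 1, -1⟩, 853, 938),
  (⟨-1, -1, 1, -1, -1, -1, 1, 1⟩, 2303, 0),
  (⟨-1, -1, 1, -1, -1, 1, -1, -1⟩, 2986, 3413),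
  (⟨-1, -1, 1, -1, -1, 1, -1, 1⟩, 0, 3839),
  (⟨-1, -1, 1, -1, -1, 1, 1, -1⟩, 2303, 2560),
  (⟨-1, -1, 1, -1, -1, 1, 1, 1⟩, 853, 2474),
  (⟨-1, -1, 1, -1, 1, -1, -1, -1⟩, 853, 1706),
  (⟨-1, -1, 1, -1, 1, -1, -1, 1⟩, 2303, 1280),
  (⟨-1, -1, 1, -1, 1, -1, 1, -1⟩, 0, 511),
  (⟨-1, -1, 1, -1, 1, -1, 1, 1⟩, 2986, 597),
  (⟨-1, -1, 1, -1, 1, 1, -1, -1⟩, 2303, 3840),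
  (⟨-1, -1, 1, -1, 1, 1, -1, 1⟩, 853, 3242),
  (⟨-1, -1, 1, -1, 1, 1, 1, -1⟩, 2986, 2133),
  (⟨-1, -1, 1, -1, 1, 1, 1, 1⟩, 0, 3071),
  (⟨-1, -1, 1, 0, -2, -1, 0, 0⟩, 3442, 2133),
  (⟨-1, -1, 1, 0, -2, 1, 0, 0⟩, 1752, 511),
  (⟨-1, -1, 1, 0, 0, -1, -2, 0⟩, 3442, 3413),
  (⟨-1, -1, 1, 0, 0, -1, 0, -2⟩, 1421, 2474),
  (⟨-1, -1, 1, 0, 0, -1, 0, 2⟩, 1421, 2474),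
  (⟨-1, -1, 1, 0, 0, -1, 2, 0⟩, 3442, 3413),
  (⟨-1, -1, 1, 0, 0, 1, -2, 0⟩, 1752, 1279),
  (⟨-1, -1, 1, 0, 0, 1, 0, -2⟩, 3623, 0),
  (⟨-1, -1, 1, 0, 0, 1, 0, 2⟩, 3623, 0),
  (⟨-1, -1, 1, 0, 0, 1, 2, 0⟩, 1752, 1279),
  (⟨-1, -1, 1, 0, 2, -1, 0, 0⟩, 3442, 2133),
  (⟨-1, -1, 1, 0, 2, 1, 0, 0⟩, 1752, 511),
  (⟨-1, -1, 1, 1, -1, -1, -1, -1⟩, 2986, 597),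
  (⟨-1, -1, 1, 1, -1, -1, -1, 1⟩, 0, 511),
  (⟨-1, -1, 1, 1, -1, -1, 1, -1⟩, 2303, 1280),
  (⟨-1, -1, 1, 1, -1, -1, 1, 1⟩, 853, 1706),
  (⟨-1, -1, 1, 1, -1, 1, -1, -1⟩, 0, 3071),
  (⟨-1, -1, 1, 1, -1, 1, -1, 1⟩, 2986, 2133),
  (⟨-1, -1, 1, 1, -1, 1, 1, -1⟩, 853, 3242),
  (⟨-1, -1, 1, 1, -1, 1, 1, 1⟩, 2303, 3840),
  (⟨-1, -1, 1, 1, 1, -1, -1, -1⟩, 2303, 0),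
  (⟨-1, -1, 1, 1, 1, -1, -1, 1⟩, 853, 938),
  (⟨-1, -1, 1, 1, 1, -1, 1, -1⟩, 2986, 1877),
  (⟨-1, -1, 1, 1, 1, -1, 1, 1⟩, 0, 1279),
  (⟨-1, -1, 1, 1, 1, 1, -1, -1⟩, 853, 2474),
  (⟨-1, -1, 1, 1, 1, 1, -1, 1⟩, 2303, 2560),
  (⟨-1, -1, 1, 1, 1, 1, 1, -1⟩, 0, 3839),
  (⟨-1, -1, 1, 1, 1, 1, 1, 1⟩, 2986, 3413),
  (⟨-1, -1, 1, 2, 0, -1, 0, 0⟩, 1421, 3242),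
  (⟨-1, -1, 1, 2, 0, 1, 0, 0⟩, 3623, 1280),
  (⟨-1, -1, 2, -1, 0, 0, -1, 0⟩, 1099, 0),
  (⟨-1, -1, 2, -1, 0, 0, 1, 0⟩, 1822, 1877),
  (⟨-1, -1, 2, 0, -1, 0, 0, -1⟩, 659, 3840),
  (⟨-1, -1, 2, 0, -1, 0, 0, 1⟩, 2361, 3242),
  (⟨-1, -1, 2, 0, 1, 0, 0, -1⟩, 454, 3413),
  (⟨-1, -1, 2, 0, 1, 0, 0, 1⟩, 2668, 3839),
  (⟨-1, -1, 2, 1, 0, 0, -1, 0⟩, 4065, 1706),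
  (⟨-1, -1, 2, 1, 0, 0, 1, 0⟩, 3252, 511),
  (⟨-1, 0, -2, -1, -1, -1, 0, 0⟩, 2668, 3413),
  (⟨-1, 0, -2, -1, -1, 1, 0, 0⟩, 454, 1279),
  (⟨-1, 0, -2, -1, 1, -1, 0, 0⟩, 2361, 3840),
  (⟨-1, 0, -2, -1, 1, 1, 0, 0⟩, 659, 1706),
  (⟨-1, 0, -2, 0, 0, -1, -1, -1⟩, 3252, 1877),
  (⟨-1, 0, -2, 0, 0, -1, -1, 1⟩, 1822, 1279),
  (⟨-1, 0, -2, 0, 0, -1, 1, -1⟩, 4065, 0),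
  (⟨-1, 0, -2, 0, 0, -1, 1, 1⟩, 1099, 938),
  (⟨-1, 0, -2, 0, 0, 1, -1, -1⟩, 1822, 3839),
  (⟨-1, 0, -2, 0, 0, 1, -1, 1⟩, 3252, 3413),
  (⟨-1, 0, -2, 0, 0, 1, 1, -1⟩, 1099, 2474),
  (⟨-1, 0, -2, 0, 0, 1, 1, 1⟩, 4065, 2560),
  (⟨-1, 0, -2, 1, -1, -1, 0, 0⟩, 454, 3071),
  (⟨-1, 0, -2, 1, -1, 1, 0, 0⟩, 2668, 597),
  (⟨-1, 0, -2, 1, 1, -1, 0, 0⟩, 659, 2474),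
  (⟨-1, 0, -2, 1, 1, 1, 0, 0⟩, 2361, 0),
  (⟨-1, 0, -1, -2, -1, 0, -1, 0⟩, 0, 1877),
  (⟨-1, 0, -1, -2, -1, 0, 1, 0⟩, 853, 0),
  (⟨-1, 0, -1, -2, 1, 0, -1, 0⟩, 853, 1280),
  (⟨-1, 0, -1, -2, 1, 0, 1, 0⟩, 0, 597),
  (⟨-1, 0, -1, -1, -2, 0, 0, -1⟩, 1752, 2133),
  (⟨-1, 0, -1, -1, -2, 0, 0, 1⟩, 3442, 3071),
  (⟨-1, 0, -1, -1, 0, -2, 0, -1⟩, 3623, 938),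
  (⟨-1, 0, -1, -1, 0, -2, 0, 1⟩, 1421, 0),
  (⟨-1, 0, -1, -1, 0, 0, -2, -1⟩, 1752, 3413),
  (⟨-1, 0, -1, -1, 0, 0, -2, 1⟩, 3442, 3839),
  (⟨-1, 0, -1, -1, 0, 0, 2, -1⟩, 1752, 3413),
  (⟨-1, 0, -1, -1, 0, 0, 2, 1⟩, 3442, 3839),
  (⟨-1, 0, -1, -1, 0, 2, 0, -1⟩, 3623, 938),
  (⟨-1, 0, -1, -1, 0, 2, 0, 1⟩, 1421, 0),
  (⟨-1, 0, -1, -1, 2, 0, 0, -1⟩, 1752, 2133),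
  (⟨-1, 0, -1, -1, 2, 0, 0, 1⟩, 3442, 3071),
  (⟨-1, 0, -1, 0, -1, -2, -1, 0⟩, 0, 2133),
  (⟨-1, 0, -1, 0, -1, -2, 1, 0⟩, 853, 3840),
  (⟨-1, 0, -1, 0, -1, 0, -1, -2⟩, 0, 597),
  (⟨-1, 0, -1, 0, -1, 0, -1, 2⟩, 0, 597),
  (⟨-1, 0, -1, 0, -1, 0, 1, -2⟩, 853, 1280),
  (⟨-1, 0, -1, 0, -1, 0, 1, 2⟩, 853, 1280),
  (⟨-1, 0, -1, 0, -1, 2, -1, 0⟩, 0, 2133),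
  (⟨-1, 0, -1, 0, -1, 2, 1, 0⟩, 853, 3840),
  (⟨-1, 0, -1, 0, 1, -2, -1, 0⟩, 853, 2560),
  (⟨-1, 0, -1, 0, 1, -2, 1, 0⟩, 0, 3413),
  (⟨-1, 0, -1, 0, 1, 0, -1, -2⟩, 853, 0),
  (⟨-1, 0, -1, 0, 1, 0, -1, 2⟩, 853, 0),
  (⟨-1, 0, -1, 0, 1, 0, 1, -2⟩, 0, 1877),
  (⟨-1, 0, -1, 0, 1, 0, 1, 2⟩, 0, 1877),
  (⟨-1, 0, -1, 0, 1, 2, -1, 0⟩, 853, 2560),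
  (⟨-1, 0, -1, 0, 1, 2, 1, 0⟩, 0, 3413),
  (⟨-1, 0, -1, 1, -2, 0, 0, -1⟩, 3442, 3839),
  (⟨-1, 0, -1, 1, -2, 0, 0, 1⟩, 1752, 3413),
  (⟨-1, 0, -1, 1, 0, -2, 0, -1⟩, 1421, 1280),
  (⟨-1, 0, -1, 1, 0, -2, 0, 1⟩, 3623, 1706),
  (⟨-1, 0, -1, 1, 0, 0, -2, -1⟩, 3442, 3071),
  (⟨-1, 0, -1, 1, 0, 0, -2, 1⟩, 1752, 2133),
  (⟨-1, 0, -1, 1, 0, 0, 2, -1⟩, 3442, 3071),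
  (⟨-1, 0, -1, 1, 0, 0, 2, 1⟩, 1752, 2133),
  (⟨-1, 0, -1, 1, 0, 2, 0, -1⟩, 1421, 1280),
  (⟨-1, 0, -1, 1, 0, 2, 0, 1⟩, 3623, 1706),
  (⟨-1, 0, -1, 1, 2, 0, 0, -1⟩, 3442, 3839),
  (⟨-1, 0, -1, 1, 2, 0, 0, 1⟩, 1752, 3413),
  (⟨-1, 0, -1, 2, -1, 0, -1, 0⟩, 0, 1877),
  (⟨-1, 0, -1, 2, -1, 0, 1, 0⟩, 853, 0),
  (⟨-1, 0, -1, 2, 1, 0, -1, 0⟩, 853, 1280),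
  (⟨-1, 0, -1, 2, 1, 0, 1, 0⟩, 0, 597),
  (⟨-1, 0, 0, -2, 0, -1, -1, -1⟩, 1099, 2474),
  (⟨-1, 0, 0, -2, 0, -1, -1, 1⟩, 4065, 2560),
  (⟨-1, 0, 0, -2, 0, -1, 1, -1⟩, 1822, 3839),
  (⟨-1, 0, 0, -2, 0, -1, 1, 1⟩, 3252, 3413),
  (⟨-1, 0, 0, -2, 0, 1, -1, -1⟩, 4065, 0),
  (⟨-1, 0, 0, -2, 0, 1, -1, 1⟩, 1099, 938),
  (⟨-1, 0, 0, -2, 0, 1, 1, -1⟩, 3252, 1877),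
  (⟨-1, 0, 0, -2, 0, 1, 1, 1⟩, 1822, 1279),
  (⟨-1, 0, 0, -1, -1, -1, -2, 0⟩, 2668, 597),
  (⟨-1, 0, 0, -1, -1, -1, 0, -2⟩, 659, 1706),
  (⟨-1, 0, 0, -1, -1, -1, 0, 2⟩, 659, 1706),
  (⟨-1, 0, 0, -1, -1, -1, 2, 0⟩, 2668, 597),
  (⟨-1, 0, 0, -1, -1, 1, -2, 0⟩, 454, 3071),
  (⟨-1, 0, 0, -1, -1, 1, 0, -2⟩, 2361, 3840),
  (⟨-1, 0, 0, -1, -1, 1, 0, 2⟩, 2361, 3840),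
  (⟨-1, 0, 0, -1, -1, 1, 2, 0⟩, 454, 3071),
  (⟨-1, 0, 0, -1, 1, -1, -2, 0⟩, 2361, 0),
  (⟨-1, 0, 0, -1, 1, -1, 0, -2⟩, 454, 1279),
  (⟨-1, 0, 0, -1, 1, -1, 0, 2⟩, 454, 1279),
  (⟨-1, 0, 0, -1, 1, -1, 2, 0⟩, 2361, 0),
  (⟨-1, 0, 0, -1, 1, 1, -2, 0⟩, 659, 2474),
  (⟨-1, 0, 0, -1, 1, 1, 0, -2⟩, 2668, 3413),
  (⟨-1, 0, 0, -1, 1, 1, 0, 2⟩, 2668, 3413),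
  (⟨-1, 0, 0, -1, 1, 1, 2, 0⟩, 659, 2474),
  (⟨-1, 0, 0, 0, -2, -1, -1, -1⟩, 3252, 3413),
  (⟨-1, 0, 0, 0, -2, -1, -1, 1⟩, 1822, 3839),
  (⟨-1, 0, 0, 0, -2, -1, 1, -1⟩, 4065, 2560),
  (⟨-1, 0, 0, 0, -2, -1, 1, 1⟩, 1099, 2474),
  (⟨-1, 0, 0, 0, -2, 1, -1, -1⟩, 1822, 1279),
  (⟨-1, 0, 0, 0, -2, 1, -1, 1⟩, 3252, 1877),
  (⟨-1, 0, 0, 0, -2, 1, 1, -1⟩, 1099, 938),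
  (⟨-1, 0, 0, 0, -2, 1, 1, 1⟩, 4065, 0),
  (⟨-1, 0, 0, 0, 2, -1, -1, -1⟩, 3252, 3413),
  (⟨-1, 0, 0, 0, 2, -1, -1, 1⟩, 1822, 3839),
  (⟨-1, 0, 0, 0, 2, -1, 1, -1⟩, 4065, 2560),
  (⟨-1, 0, 0, 0, 2, -1, 1, 1⟩, 1099, 2474),
  (⟨-1, 0, 0, 0, 2, 1, -1, -1⟩, 1822, 1279),
  (⟨-1, 0, 0, 0, 2, 1, -1, 1⟩, 3252, 1877),
  (⟨-1, 0, 0, 0, 2, 1, 1, -1⟩, 1099, 938),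
  (⟨-1, 0, 0, 0, 2, 1, 1, 1⟩, 4065, 0),
  (⟨-1, 0, 0, 1, -1, -1, -2, 0⟩, 454, 1279),
  (⟨-1, 0, 0, 1, -1, -1, 0, -2⟩, 2361, 0),
  (⟨-1, 0, 0, 1, -1, -1, 0, 2⟩, 2361, 0),
  (⟨-1, 0, 0, 1, -1, -1, 2, 0⟩, 454, 1279),
  (⟨-1, 0, 0, 1, -1, 1, -2, 0⟩, 2668, 3413),
  (⟨-1, 0, 0, 1, -1, 1, 0, -2⟩, 659, 2474),
  (⟨-1, 0, 0, 1, -1, 1, 0, 2⟩, 659, 2474),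
  (⟨-1, 0, 0, 1, -1, 1, 2, 0⟩, 2668, 3413),
  (⟨-1, 0, 0, 1, 1, -1, -2, 0⟩, 659, 1706),
  (⟨-1, 0, 0, 1, 1, -1, 0, -2⟩, 2668, 597),
  (⟨-1, 0, 0, 1, 1, -1, 0, 2⟩, 2668, 597),
  (⟨-1, 0, 0, 1, 1, -1, 2, 0⟩, 659, 1706),
  (⟨-1, 0, 0, 1, 1, 1, -2, 0⟩, 2361, 3840),
  (⟨-1, 0, 0, 1, 1, 1, 0, -2⟩, 454, 3071),
  (⟨-1, 0, 0, 1, 1, 1, 0, 2⟩, 454, 3071),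
  (⟨-1, 0, 0, 1, 1, 1, 2, 0⟩, 2361, 3840),
  (⟨-1, 0, 0, 2, 0, -1, -1, -1⟩, 1099, 2474),
  (⟨-1, 0, 0, 2, 0, -1, -1, 1⟩, 4065, 2560),
  (⟨-1, 0, 0, 2, 0, -1, 1, -1⟩, 1822, 3839),
  (⟨-1, 0, 0, 2, 0, -1, 1, 1⟩, 3252, 3413),
  (⟨-1, 0, 0, 2, 0, 1, -1, -1⟩, 4065, 0),
  (⟨-1, 0, 0, 2, 0, 1, -1, 1⟩, 1099, 938),
  (⟨-1, 0, 0, 2, 0, 1, 1, -1⟩, 3252, 1877),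
  (⟨-1, 0, 0, 2, 0, 1, 1, 1⟩, 1822, 1279),
  (⟨-1, 0, 1, -2, -1, 0, -1, 0⟩, 853, 3840),
  (⟨-1, 0, 1, -2, -1, 0, 1, 0⟩, 0, 2133),
  (⟨-1, 0, 1, -2, 1, 0, -1, 0⟩, 0, 3413),
  (⟨-1, 0, 1, -2, 1, 0, 1, 0⟩, 853, 2560),
  (⟨-1, 0, 1, -1, -2, 0, 0, -1⟩, 1421, 0),
  (⟨-1, 0, 1, -1, -2, 0, 0, 1⟩, 3623, 938),
  (⟨-1, 0, 1, -1, 0, -2, 0, -1⟩, 3442, 3071),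
  (⟨-1, 0, 1, -1, 0, -2, 0, 1⟩, 1752, 2133),
  (⟨-1, 0, 1, -1, 0, 0, -2, -1⟩, 1421, 1280),
  (⟨-1, 0, 1, -1, 0, 0, -2, 1⟩, 3623, 1706),
  (⟨-1, 0, 1, -1, 0, 0, 2, -1⟩, 1421, 1280),
  (⟨-1, 0, 1, -1, 0, 0, 2, 1⟩, 3623, 1706),
  (⟨-1, 0, 1, -1, 0, 2, 0, -1⟩, 3442, 3071),
  (⟨-1, 0, 1, -1, 0, 2, 0, 1⟩, 1752, 2133),
  (⟨-1, 0, 1, -1, 2, 0, 0, -1⟩, 1421, 0),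
  (⟨-1, 0, 1, -1, 2, 0, 0, 1⟩, 3623, 938),
  (⟨-1, 0, 1, 0, -1, -2, -1, 0⟩, 853, 0),
  (⟨-1, 0, 1, 0, -1, -2, 1, 0⟩, 0, 1877),
  (⟨-1, 0, 1, 0, -1, 0, -1, -2⟩, 853, 2560),
  (⟨-1, 0, 1, 0, -1, 0, -1, 2⟩, 853, 2560),
  (⟨-1, 0, 1, 0, -1, 0, 1, -2⟩, 0, 3413),
  (⟨-1, 0, 1, 0, -1, 0, 1, 2⟩, 0, 3413),
  (⟨-1, 0, 1, 0, -1, 2, -1, 0⟩, 853, 0),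
  (⟨-1, 0, 1, 0, -1, 2, 1, 0⟩, 0, 1877),
  (⟨-1, 0, 1, 0, 1, -2, -1, 0⟩, 0, 597),
  (⟨-1, 0, 1, 0, 1, -2, 1, 0⟩, 853, 1280),
  (⟨-1, 0, 1, 0, 1, 0, -1, -2⟩, 0, 2133),
  (⟨-1, 0, 1, 0, 1, 0, -1, 2⟩, 0, 2133),
  (⟨-1, 0, 1, 0, 1, 0, 1, -2⟩, 853, 3840),
  (⟨-1, 0, 1, 0, 1, 0, 1, 2⟩, 853, 3840),
  (⟨-1, 0, 1, 0, 1, 2, -1, 0⟩, 0, 597),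
  (⟨-1, 0, 1, 0, 1, 2, 1, 0⟩, 853, 1280),
  (⟨-1, 0, 1, 1, -2, 0, 0, -1⟩, 3623, 1706),
  (⟨-1, 0, 1, 1, -2, 0, 0, 1⟩, 1421, 1280),
  (⟨-1, 0, 1, 1, 0, -2, 0, -1⟩, 1752, 3413),
  (⟨-1, 0, 1, 1, 0, -2, 0, 1⟩, 3442, 3839),
  (⟨-1, 0, 1, 1, 0, 0, -2, -1⟩, 3623, 938),
  (⟨-1, 0, 1, 1, 0, 0, -2, 1⟩, 1421, 0),
  (⟨-1, 0, 1, 1, 0, 0, 2, -1⟩, 3623, 938),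
  (⟨-1, 0, 1, 1, 0, 0, 2, 1⟩, 1421, 0),
  (⟨-1, 0, 1, 1, 0, 2, 0, -1⟩, 1752, 3413),
  (⟨-1, 0, 1, 1, 0, 2, 0, 1⟩, 3442, 3839),
  (⟨-1, 0, 1, 1, 2, 0, 0, -1⟩, 3623, 1706),
  (⟨-1, 0, 1, 1, 2, 0, 0, 1⟩, 1421, 1280),
  (⟨-1, 0, 1, 2, -1, 0, -1, 0⟩, 853, 3840),
  (⟨-1, 0, 1, 2, -1, 0, 1, 0⟩, 0, 2133),
  (⟨-1, 0, 1, 2, 1, 0, -1, 0⟩, 0, 3413),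
  (⟨-1, 0, 1, 2, 1, 0, 1, 0⟩, 853, 2560),
  (⟨-1, 0, 2, -1, -1, -1, 0, 0⟩, 2668, 3413),
  (⟨-1, 0, 2, -1, -1, 1, 0, 0⟩, 454, 1279),
  (⟨-1, 0, 2, -1, 1, -1, 0, 0⟩, 2361, 3840),
  (⟨-1, 0, 2, -1, 1, 1, 0, 0⟩, 659, 1706),
  (⟨-1, 0, 2, 0, 0, -1, -1, -1⟩, 3252, 1877),
  (⟨-1, 0, 2, 0, 0, -1, -1, 1⟩, 1822, 1279),
  (⟨-1, 0, 2, 0, 0, -1, 1, -1⟩, 4065, 0),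
  (⟨-1, 0, 2, 0, 0, -1, 1, 1⟩, 1099, 938),
  (⟨-1, 0, 2, 0, 0, 1, -1, -1⟩, 1822, 3839),
  (⟨-1, 0, 2, 0, 0, 1, -1, 1⟩, 3252, 3413),
  (⟨-1, 0, 2, 0, 0, 1, 1, -1⟩, 1099, 2474),
  (⟨-1, 0, 2, 0, 0, 1, 1, 1⟩, 4065, 2560),
  (⟨-1, 0, 2, 1, -1, -1, 0, 0⟩, 454, 3071),
  (⟨-1, 0, 2, 1, -1, 1, 0, 0⟩, 2668, 597),
  (⟨-1, 0, 2, 1, 1, -1, 0, 0⟩, 659, 2474),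
  (⟨-1, 0, 2, 1, 1, 1, 0, 0⟩, 2361, 0),
  (⟨-1, 1, -2, -1, 0, 0, -1, 0⟩, 4065, 3242),
  (⟨-1, 1, -2, -1, 0, 0, 1, 0⟩, 3252, 3071),
  (⟨-1, 1, -2, 0, -1, 0, 0, -1⟩, 2361, 938),
  (⟨-1, 1, -2, 0, -1, 0, 0, 1⟩, 659, 0),
  (⟨-1, 1, -2, 0, 1, 0, 0, -1⟩, 2668, 511),
  (⟨-1, 1, -2, 0, 1, 0, 0, 1⟩, 454, 597),
  (⟨-1, 1, -2, 1, 0, 0, -1, 0⟩, 1099, 2560),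
  (⟨-1, 1, -2, 1, 0, 0, 1, 0⟩, 1822, 3413),
  (⟨-1, 1, -1, -2, 0, -1, 0, 0⟩, 3442, 2133),
  (⟨-1, 1, -1, -2, 0, 1, 0, 0⟩, 1752, 511),
  (⟨-1, 1, -1, -1, -1, -1, -1, -1⟩, 2303, 0),
  (⟨-1, 1, -1, -1, -1, -1, -1, 1⟩, 853, 938),
  (⟨-1, 1, -1, -1, -1, -1, 1, -1⟩, 2986, 1877),
  (⟨-1, 1, -1, -1, -1, -1, 1, 1⟩, 0, 1279),
  (⟨-1, 1, -1, -1, -1, 1, -1, -1⟩, 853, 2474),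
  (⟨-1, 1, -1, -1, -1, 1, -1, 1⟩, 2303, 2560),
  (⟨-1, 1, -1, -1, -1, 1, 1, -1⟩, 0, 3839),
  (⟨-1, 1, -1, -1, -1, 1, 1, 1⟩, 2986, 3413),
  (⟨-1, 1, -1, -1, 1, -1, -1, -1⟩, 2986, 597),
  (⟨-1, 1, -1, -1, 1, -1, -1, 1⟩, 0, 511),
  (⟨-1, 1, -1, -1, 1, -1, 1, -1⟩, 2303, 1280),
  (⟨-1, 1, -1, -1, 1, -1, 1, 1⟩, 853, 1706),
  (⟨-1, 1, -1, -1, 1, 1, -1, -1⟩, 0, 3071),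
  (⟨-1, 1, -1, -1, 1, 1, -1, 1⟩, 2986, 2133),
  (⟨-1, 1, -1, -1, 1, 1, 1, -1⟩, 853, 3242),
  (⟨-1, 1, -1, -1, 1, 1, 1, 1⟩, 2303, 3840),
  (⟨-1, 1, -1, 0, -2, -1, 0, 0⟩, 1421, 3242),
  (⟨-1, 1, -1, 0, -2, 1, 0, 0⟩, 3623, 1280),
  (⟨-1, 1, -1, 0, 0, -1, -2, 0⟩, 1421, 2474),
  (⟨-1, 1, -1, 0, 0, -1, 0, -2⟩, 3442, 3413),
  (⟨-1, 1, -1, 0, 0, -1, 0, 2⟩, 3442, 3413),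
  (⟨-1, 1, -1, 0, 0, -1, 2, 0⟩, 1421, 2474),
  (⟨-1, 1, -1, 0, 0, 1, -2, 0⟩, 3623, 0),
  (⟨-1, 1, -1, 0, 0, 1, 0, -2⟩, 1752, 1279),
  (⟨-1, 1, -1, 0, 0, 1, 0, 2⟩, 1752, 1279),
  (⟨-1, 1, -1, 0, 0, 1, 2, 0⟩, 3623, 0),
  (⟨-1, 1, -1, 0, 2, -1, 0, 0⟩, 1421, 3242),
  (⟨-1, 1, -1, 0, 2, 1, 0, 0⟩, 3623, 1280),
  (⟨-1, 1, -1, 1, -1, -1, -1, -1⟩, 853, 1706),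
  (⟨-1, 1, -1, 1, -1, -1, -1, 1⟩, 2303, 1280),
  (⟨-1, 1, -1, 1, -1, -1, 1, -1⟩, 0, 511),
  (⟨-1, 1, -1, 1, -1, -1, 1, 1⟩, 2986, 597),
  (⟨-1, 1, -1, 1, -1, 1, -1, -1⟩, 2303, 3840),
  (⟨-1, 1, -1, 1, -1, 1, -1, 1⟩, 853, 3242),
  (⟨-1, 1, -1, 1, -1, 1, 1, -1⟩, 2986, 2133),
  (⟨-1, 1, -1, 1, -1, 1, 1, 1⟩, 0, 3071),
  (⟨-1, 1, -1, 1, 1, -1, -1, -1⟩, 0, 1279),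
  (⟨-1, 1, -1, 1, 1, -1, -1, 1⟩, 2986, 1877),
  (⟨-1, 1, -1, 1, 1, -1, 1, -1⟩, 853, 938),
  (⟨-1, 1, -1, 1, 1, -1, 1, 1⟩, 2303, 0),
  (⟨-1, 1, -1, 1, 1, 1, -1, -1⟩, 2986, 3413),
  (⟨-1, 1, -1, 1, 1, 1, -1, 1⟩, 0, 3839),
  (⟨-1, 1, -1, 1, 1, 1, 1, -1⟩, 2303, 2560),
  (⟨-1, 1, -1, 1, 1, 1, 1, 1⟩, 853, 2474),
  (⟨-1, 1, -1, 2, 0, -1, 0, 0⟩, 3442, 2133),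
  (⟨-1, 1, -1, 2, 0, 1, 0, 0⟩, 1752, 511),
  (⟨-1, 1, 0, -2, -1, 0, 0, -1⟩, 454, 3413),
  (⟨-1, 1, 0, -2, -1, 0, 0, 1⟩, 2668, 3839),
  (⟨-1, 1, 0, -2, 1, 0, 0, -1⟩, 659, 3840),
  (⟨-1, 1, 0, -2, 1, 0, 0, 1⟩, 2361, 3242),
  (⟨-1, 1, 0, -1, -2, 0, -1, 0⟩, 4065, 1706),
  (⟨-1, 1, 0, -1, -2, 0, 1, 0⟩, 3252, 511),
  (⟨-1, 1, 0, -1, 0, -2, -1, 0⟩, 1822, 3413),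
  (⟨-1, 1, 0, -1, 0, -2, 1, 0⟩, 1099, 2560),
  (⟨-1, 1, 0, -1, 0, 0, -1, -2⟩, 1822, 1877),
  (⟨-1, 1, 0, -1, 0, 0, -1, 2⟩, 1822, 1877),
  (⟨-1, 1, 0, -1, 0, 0, 1, -2⟩, 1099, 0),
  (⟨-1, 1, 0, -1, 0, 0, 1, 2⟩, 1099, 0),
  (⟨-1, 1, 0, -1, 0, 2, -1, 0⟩, 1822, 3413),
  (⟨-1, 1, 0, -1, 0, 2, 1, 0⟩, 1099, 2560),
  (⟨-1, 1, 0, -1, 2, 0, -1, 0⟩, 4065, 1706),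
  (⟨-1, 1, 0, -1, 2, 0, 1, 0⟩, 3252, 511),
  (⟨-1, 1, 0, 0, -1, -2, 0, -1⟩, 454, 597),
  (⟨-1, 1, 0, 0, -1, -2, 0, 1⟩, 2668, 511),
  (⟨-1, 1, 0, 0, -1, 0, -2, -1⟩, 2361, 3242),
  (⟨-1, 1, 0, 0, -1, 0, -2, 1⟩, 659, 3840),
  (⟨-1, 1, 0, 0, -1, 0, 2, -1⟩, 2361, 3242),
  (⟨-1, 1, 0, 0, -1, 0, 2, 1⟩, 659, 3840),
  (⟨-1, 1, 0, 0, -1, 2, 0, -1⟩, 454, 597),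
  (⟨-1, 1, 0, 0, -1, 2, 0, 1⟩, 2668, 511),
  (⟨-1, 1, 0, 0, 1, -2, 0, -1⟩, 659, 0),
  (⟨-1, 1, 0, 0, 1, -2, 0, 1⟩, 2361, 938),
  (⟨-1, 1, 0, 0, 1, 0, -2, -1⟩, 2668, 3839),
  (⟨-1, 1, 0, 0, 1, 0, -2, 1⟩, 454, 3413),
  (⟨-1, 1, 0, 0, 1, 0, 2, -1⟩, 2668, 3839),
  (⟨-1, 1, 0, 0, 1, 0, 2, 1⟩, 454, 3413),
  (⟨-1, 1, 0, 0, 1, 2, 0, -1⟩, 659, 0),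
  (⟨-1, 1, 0, 0, 1, 2, 0, 1⟩, 2361, 938),
  (⟨-1, 1, 0, 1, -2, 0, -1, 0⟩, 1099, 0),
  (⟨-1, 1, 0, 1, -2, 0, 1, 0⟩, 1822, 1877),
  (⟨-1, 1, 0, 1, 0, -2, -1, 0⟩, 3252, 3071),
  (⟨-1, 1, 0, 1, 0, -2, 1, 0⟩, 4065, 3242),
  (⟨-1, 1, 0, 1, 0, 0, -1, -2⟩, 3252, 511),
  (⟨-1, 1, 0, 1, 0, 0, -1, 2⟩, 3252, 511),
  (⟨-1, 1, 0, 1, 0, 0, 1, -2⟩, 4065, 1706),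
  (⟨-1, 1, 0, 1, 0, 0, 1, 2⟩, 4065, 1706),
  (⟨-1, 1, 0, 1, 0, 2, -1, 0⟩, 3252, 3071),
  (⟨-1, 1, 0, 1, 0, 2, 1, 0⟩, 4065, 3242),
  (⟨-1, 1, 0, 1, 2, 0, -1, 0⟩, 1099, 0),
  (⟨-1, 1, 0, 1, 2, 0, 1, 0⟩, 1822, 1877),
  (⟨-1, 1, 0, 2, -1, 0, 0, -1⟩, 454, 3413),
  (⟨-1, 1, 0, 2, -1, 0, 0, 1⟩, 2668, 3839),
  (⟨-1, 1, 0, 2, 1, 0, 0, -1⟩, 659, 3840),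
  (⟨-1, 1, 0, 2, 1, 0, 0, 1⟩, 2361, 3242),
  (⟨-1, 1, 1, -2, 0, -1, 0, 0⟩, 3623, 0),
  (⟨-1, 1, 1, -2, 0, 1, 0, 0⟩, 1421, 2474),
  (⟨-1, 1, 1, -1, -1, -1, -1, -1⟩, 2986, 2133),
  (⟨-1, 1, 1, -1, -1, -1, -1, 1⟩, 0, 3071),
  (⟨-1, 1, 1, -1, -1, -1, 1, -1⟩, 2303, 3840),
  (⟨-1, 1, 1, -1, -1, -1, 1, 1⟩, 853, 3242),
  (⟨-1, 1, 1, -1, -1, 1, -1, -1⟩, 0, 511),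
  (⟨-1, 1, 1, -1, -1, 1, -1, 1⟩, 2986, 597),
  (⟨-1, 1, 1, -1, -1, 1, 1, -1⟩, 853, 1706),
  (⟨-1, 1, 1, -1, -1, 1, 1, 1⟩, 2303, 1280),
  (⟨-1, 1, 1, -1, 1, -1, -1, -1⟩, 2303, 2560),
  (⟨-1, 1, 1, -1, 1, -1, -1, 1⟩, 853, 2474),
  (⟨-1, 1, 1, -1, 1, -1, 1, -1⟩, 2986, 3413),
  (⟨-1, 1, 1, -1, 1, -1, 1, 1⟩, 0, 3839),
  (⟨-1, 1, 1, -1, 1, 1, -1, -1⟩, 853, 938),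
  (⟨-1, 1, 1, -1, 1, 1, -1, 1⟩, 2303, 0),
  (⟨-1, 1, 1, -1, 1, 1, 1, -1⟩, 0, 1279),
  (⟨-1, 1, 1, -1, 1, 1, 1, 1⟩, 2986, 1877),
  (⟨-1, 1, 1, 0, -2, -1, 0, 0⟩, 1752, 1279),
  (⟨-1, 1, 1, 0, -2, 1, 0, 0⟩, 3442, 3413),
  (⟨-1, 1, 1, 0, 0, -1, -2, 0⟩, 1752, 511),
  (⟨-1, 1, 1, 0, 0, -1, 0, -2⟩, 3623, 1280),
  (⟨-1, 1, 1, 0, 0, -1, 0, 2⟩, 3623, 1280),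
  (⟨-1, 1, 1, 0, 0, -1, 2, 0⟩, 1752, 511),
  (⟨-1, 1, 1, 0, 0, 1, -2, 0⟩, 3442, 2133),
  (⟨-1, 1, 1, 0, 0, 1, 0, -2⟩, 1421, 3242),
  (⟨-1, 1, 1, 0, 0, 1, 0, 2⟩, 1421, 3242),
  (⟨-1, 1, 1, 0, 0, 1, 2, 0⟩, 3442, 2133),
  (⟨-1, 1, 1, 0, 2, -1, 0, 0⟩, 1752, 1279),
  (⟨-1, 1, 1, 0, 2, 1, 0, 0⟩, 3442, 3413),
  (⟨-1, 1, 1, 1, -1, -1, -1, -1⟩, 0, 3839),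
  (⟨-1, 1, 1, 1, -1, -1, -1, 1⟩, 2986, 3413),
  (⟨-1, 1, 1, 1, -1, -1, 1, -1⟩, 853, 2474),
  (⟨-1, 1, 1, 1, -1, -1, 1, 1⟩, 2303, 2560),
  (⟨-1, 1, 1, 1, -1, 1, -1, -1⟩, 2986, 1877),
  (⟨-1, 1, 1, 1, -1, 1, -1, 1⟩, 0, 1279),
  (⟨-1, 1, 1, 1, -1, 1, 1, -1⟩, 2303, 0),
  (⟨-1, 1, 1, 1, -1, 1, 1, 1⟩, 853, 938),
  (⟨-1, 1, 1, 1, 1, -1, -1, -1⟩, 853, 3242),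
  (⟨-1, 1, 1, 1, 1, -1, -1, 1⟩, 2303, 3840),
  (⟨-1, 1, 1, 1, 1, -1, 1, -1⟩, 0, 3071),
  (⟨-1, 1, 1, 1, 1, -1, 1, 1⟩, 2986, 2133),
  (⟨-1, 1, 1, 1, 1, 1, -1, -1⟩, 2303, 1280),
  (⟨-1, 1, 1, 1, 1, 1, -1, 1⟩, 853, 1706),
  (⟨-1, 1, 1, 1, 1, 1, 1, -1⟩, 2986, 597),
  (⟨-1, 1, 1, 1, 1, 1, 1, 1⟩, 0, 511),
  (⟨-1, 1, 1, 2, 0, -1, 0, 0⟩, 3623, 0),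
  (⟨-1, 1, 1, 2, 0, 1, 0, 0⟩, 1421, 2474),
  (⟨-1, 1, 2, -1, 0, 0, -1, 0⟩, 4065, 3242),
  (⟨-1, 1, 2, -1, 0, 0, 1, 0⟩, 3252, 3071),
  (⟨-1, 1, 2, 0, -1, 0, 0, -1⟩, 2361, 938),
  (⟨-1, 1, 2, 0, -1, 0, 0, 1⟩, 659, 0),
  (⟨-1, 1, 2, 0, 1, 0, 0, -1⟩, 2668, 511),
  (⟨-1, 1, 2, 0, 1, 0, 0, 1⟩, 454, 597),
  (⟨-1, 1, 2, 1, 0, 0, -1, 0⟩, 1099, 2560),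
  (⟨-1, 1, 2, 1, 0, 0, 1, 0⟩, 1822, 3413),
  (⟨-1, 2, -1, -1, 0, 0, 0, -1⟩, 3623, 1706),
  (⟨-1, 2, -1, -1, 0, 0, 0, 1⟩, 1421, 1280),
  (⟨-1, 2, -1, 0, -1, 0, -1, 0⟩, 0, 3413),
  (⟨-1, 2, -1, 0, -1, 0, 1, 0⟩, 853, 2560),
  (⟨-1, 2, -1, 0, 1, 0, -1, 0⟩, 853, 3840),
  (⟨-1, 2, -1, 0, 1, 0, 1, 0⟩, 0, 2133),
  (⟨-1, 2, -1, 1, 0, 0, 0, -1⟩, 1421, 0),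
  (⟨-1, 2, -1, 1, 0, 0, 0, 1⟩, 3623, 938),
  (⟨-1, 2, 0, -1, -1, -1, 0, 0⟩, 659, 2474),
  (⟨-1, 2, 0, -1, -1, 1, 0, 0⟩, 2361, 0),
  (⟨-1, 2, 0, -1, 1, -1, 0, 0⟩, 454, 3071),
  (⟨-1, 2, 0, -1, 1, 1, 0, 0⟩, 2668, 597),
  (⟨-1, 2, 0, 0, 0, -1, -1, -1⟩, 1099, 938),
  (⟨-1, 2, 0, 0, 0, -1, -1, 1⟩, 4065, 0),
  (⟨-1, 2, 0, 0, 0, -1, 1, -1⟩, 1822, 1279),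
  (⟨-1, 2, 0, 0, 0, -1, 1, 1⟩, 3252, 1877),
  (⟨-1, 2, 0, 0, 0, 1, -1, -1⟩, 4065, 2560),
  (⟨-1, 2, 0, 0, 0, 1, -1, 1⟩, 1099, 2474),
  (⟨-1, 2, 0, 0, 0, 1, 1, -1⟩, 3252, 3413),
  (⟨-1, 2, 0, 0, 0, 1, 1, 1⟩, 1822, 3839),
  (⟨-1, 2, 0, 1, -1, -1, 0, 0⟩, 2361, 3840),
  (⟨-1, 2, 0, 1, -1, 1, 0, 0⟩, 659, 1706),
  (⟨-1, 2, 0, 1, 1, -1, 0, 0⟩, 2668, 3413),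
  (⟨-1, 2, 0, 1, 1, 1, 0, 0⟩, 454, 1279),
  (⟨-1, 2, 1, -1, 0, 0, 0, -1⟩, 3442, 3839),
  (⟨-1, 2, 1, -1, 0, 0, 0, 1⟩, 1752, 3413),
  (⟨-1, 2, 1, 0, -1, 0, -1, 0⟩, 853, 1280),
  (⟨-1, 2, 1, 0, -1, 0, 1, 0⟩, 0, 597),
  (⟨-1, 2, 1, 0, 1, 0, -1, 0⟩, 0, 1877),
  (⟨-1, 2, 1, 0, 1, 0, 1, 0⟩, 853, 0),
  (⟨-1, 2, 1, 1, 0, 0, 0, -1⟩, 1752, 2133),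
  (⟨-1, 2, 1, 1, 0, 0, 0, 1⟩, 3442, 3071),
  (⟨0, -2, -2, 0, 0, 0, 0, 0⟩, 2303, 1279),
  (⟨0, -2, -1, -1, 0, -1, -1, 0⟩, 2361, 1877),
  (⟨0, -2, -1, -1, 0, -1, 1, 0⟩, 2668, 0),
  (⟨0, -2, -1, -1, 0, 1, -1, 0⟩, 659, 3839),
  (⟨0, -2, -1, -1, 0, 1, 1, 0⟩, 454, 2474),
  (⟨0, -2, -1, 0, -1, -1, 0, -1⟩, 4065, 2133),
  (⟨0, -2, -1, 0, -1, -1, 0, 1⟩, 1099, 3071),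
  (⟨0, -2, -1, 0, -1, 1, 0, -1⟩, 1099, 511),
  (⟨0, -2, -1, 0, -1, 1, 0, 1⟩, 4065, 597),
  (⟨0, -2, -1, 0, 1, -1, 0, -1⟩, 3252, 2560),
  (⟨0, -2, -1, 0, 1, -1, 0, 1⟩, 1822, 2474),
  (⟨0, -2, -1, 0, 1, 1, 0, -1⟩, 1822, 938),
  (⟨0, -2, -1, 0, 1, 1, 0, 1⟩, 3252, 0),
  (⟨0, -2, -1, 1, 0, -1, -1, 0⟩, 659, 511),
  (⟨0, -2, -1, 1, 0, -1, 1, 0⟩, 454, 1706),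
  (⟨0, -2, -1, 1, 0, 1, -1, 0⟩, 2361, 2133),
  (⟨0, -2, -1, 1, 0, 1, 1, 0⟩, 2668, 3840),
  (⟨0, -2, 0, -2, 0, 0, 0, 0⟩, 0, 2560),
  (⟨0, -2, 0, -1, -1, 0, -1, -1⟩, 1421, 597),
  (⟨0, -2, 0, -1, -1, 0, -1, 1⟩, 3623, 511),
  (⟨0, -2, 0, -1, -1, 0, 1, -1⟩, 1752, 1280),
  (⟨0, -2, 0, -1, -1, 0, 1, 1⟩, 3442, 1706),
  (⟨0, -2, 0, -1, 1, 0, -1, -1⟩, 1752, 0),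
  (⟨0, -2, 0, -1, 1, 0, -1, 1⟩, 3442, 938),
  (⟨0, -2, 0, -1, 1, 0, 1, -1⟩, 1421, 1877),
  (⟨0, -2, 0, -1, 1, 0, 1, 1⟩, 3623, 1279),
  (⟨0, -2, 0, 0, -2, 0, 0, 0⟩, 2303, 3839),
  (⟨0, -2, 0, 0, 0, -2, 0, 0⟩, 0, 1280),
  (⟨0, -2, 0, 0, 0, 0, -2, 0⟩, 2303, 3071),
  (⟨0, -2, 0, 0, 0, 0, 0, -2⟩, 0, 3840),
  (⟨0, -2, 0, 0, 0, 0, 0, 2⟩, 0, 3840),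
  (⟨0, -2, 0, 0, 0, 0, 2, 0⟩, 2303, 3071),
  (⟨0, -2, 0, 0, 0, 2, 0, 0⟩, 0, 1280),
  (⟨0, -2, 0, 0, 2, 0, 0, 0⟩, 2303, 3839),
  (⟨0, -2, 0, 1, -1, 0, -1, -1⟩, 3623, 1279),
  (⟨0, -2, 0, 1, -1, 0, -1, 1⟩, 1421, 1877),
  (⟨0, -2, 0, 1, -1, 0, 1, -1⟩, 3442, 938),
  (⟨0, -2, 0, 1, -1, 0, 1, 1⟩, 1752, 0),
  (⟨0, -2, 0, 1, 1, 0, -1, -1⟩, 3442, 1706),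
  (⟨0, -2, 0, 1, 1, 0, -1, 1⟩, 1752, 1280),
  (⟨0, -2, 0, 1, 1, 0, 1, -1⟩, 3623, 511),
  (⟨0, -2, 0, 1, 1, 0, 1, 1⟩, 1421, 597),
  (⟨0, -2, 0, 2, 0, 0, 0, 0⟩, 0, 2560),
  (⟨0, -2, 1, -1, 0, -1, -1, 0⟩, 2668, 3840),
  (⟨0, -2, 1, -1, 0, -1, 1, 0⟩, 2361, 2133),
  (⟨0, -2, 1, -1, 0, 1, -1, 0⟩, 454, 1706),
  (⟨0, -2, 1, -1, 0, 1, 1, 0⟩, 659, 511),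
  (⟨0, -2, 1, 0, -1, -1, 0, -1⟩, 3252, 0),
  (⟨0, -2, 1, 0, -1, -1, 0, 1⟩, 1822, 938),
  (⟨0, -2, 1, 0, -1, 1, 0, -1⟩, 1822, 2474),
  (⟨0, -2, 1, 0, -1, 1, 0, 1⟩, 3252, 2560),
  (⟨0, -2, 1, 0, 1, -1, 0, -1⟩, 4065, 597),
  (⟨0, -2, 1, 0, 1, -1, 0, 1⟩, 1099, 511),
  (⟨0, -2, 1, 0, 1, 1, 0, -1⟩, 1099, 3071),
  (⟨0, -2, 1, 0, 1, 1, 0, 1⟩, 4065, 2133),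
  (⟨0, -2, 1, 1, 0, -1, -1, 0⟩, 454, 2474),
  (⟨0, -2, 1, 1, 0, -1, 1, 0⟩, 659, 3839),
  (⟨0, -2, 1, 1, 0, 1, -1, 0⟩, 2668, 0),
  (⟨0, -2, 1, 1, 0, 1, 1, 0⟩, 2361, 1877),
  (⟨0, -2, 2, 0, 0, 0, 0, 0⟩, 2303, 1279),
  (⟨0, -1, -2, -1, 0, -1, 0, -1⟩, 2986, 1280),
  (⟨0, -1, -2, -1, 0, -1, 0, 1⟩, 0, 1706),
  (⟨0, -1, -2, -1, 0, 1, 0, -1⟩, 0, 3242),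
  (⟨0, -1, -2, -1, 0, 1, 0, 1⟩, 2986, 3840),
  (⟨0, -1, -2, 0, -1, -1, -1, 0⟩, 1421, 3839),
  (⟨0, -1, -2, 0, -1, -1, 1, 0⟩, 1752, 2474),
  (⟨0, -1, -2, 0, -1, 1, -1, 0⟩, 3623, 1877),
  (⟨0, -1, -2, 0, -1, 1, 1, 0⟩, 3442, 0),
  (⟨0, -1, -2, 0, 1, -1, -1, 0⟩, 1752, 3242),
  (⟨0, -1, -2, 0, 1, -1, 1, 0⟩, 1421, 3071),
  (⟨0, -1, -2, 0, 1, 1, -1, 0⟩, 3442, 1280),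
  (⟨0, -1, -2, 0, 1, 1, 1, 0⟩, 3623, 597),
  (⟨0, -1, -2, 1, 0, -1, 0, -1⟩, 0, 938),
  (⟨0, -1, -2, 1, 0, -1, 0, 1⟩, 2986, 0),
  (⟨0, -1, -2, 1, 0, 1, 0, -1⟩, 2986, 2560),
  (⟨0, -1, -2, 1, 0, 1, 0, 1⟩, 0, 2474),
  (⟨0, -1, -1, -2, 0, 0, -1, -1⟩, 454, 3840),
  (⟨0, -1, -1, -2, 0, 0, -1, 1⟩, 2668, 3242),
  (⟨0, -1, -1, -2, 0, 0, 1, -1⟩, 659, 2133),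
  (⟨0, -1, -1, -2, 0, 0, 1, 1⟩, 2361, 3071),
  (⟨0, -1, -1, -1, -1, -2, 0, 0⟩, 1822, 2560),
  (⟨0, -1, -1, -1, -1, 0, -2, 0⟩, 4065, 1279),
  (⟨0, -1, -1, -1, -1, 0, 0, -2⟩, 1822, 0),
  (⟨0, -1, -1, -1, -1, 0, 0, 2⟩, 1822, 0),
  (⟨0, -1, -1, -1, -1, 0, 2, 0⟩, 4065, 1279),
  (⟨0, -1, -1, -1, -1, 2, 0, 0⟩, 1822, 2560),
  (⟨0, -1, -1, -1, 1, -2, 0, 0⟩, 1099, 2133),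
  (⟨0, -1, -1, -1, 1, 0, -2, 0⟩, 3252, 1706),
  (⟨0, -1, -1, -1, 1, 0, 0, -2⟩, 1099, 597),
  (⟨0, -1, -1, -1, 1, 0, 0, 2⟩, 1099, 597),
  (⟨0, -1, -1, -1, 1, 0, 2, 0⟩, 3252, 1706),
  (⟨0, -1, -1, -1, 1, 2, 0, 0⟩, 1099, 2133),
  (⟨0, -1, -1, 0, -2, 0, -1, -1⟩, 2361, 3071),
  (⟨0, -1, -1, 0, -2, 0, -1, 1⟩, 659, 2133),
  (⟨0, -1, -1, 0, -2, 0, 1, -1⟩, 2668, 3242),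
  (⟨0, -1, -1, 0, -2, 0, 1, 1⟩, 454, 3840),
  (⟨0, -1, -1, 0, 0, -2, -1, -1⟩, 454, 0),
  (⟨0, -1, -1, 0, 0, -2, -1, 1⟩, 2668, 938),
  (⟨0, -1, -1, 0, 0, -2, 1, -1⟩, 659, 1877),
  (⟨0, -1, -1, 0, 0, -2, 1, 1⟩, 2361, 1279),
  (⟨0, -1, -1, 0, 0, 2, -1, -1⟩, 454, 0),
  (⟨0, -1, -1, 0, 0, 2, -1, 1⟩, 2668, 938),
  (⟨0, -1, -1, 0, 0, 2, 1, -1⟩, 659, 1877),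
  (⟨0, -1, -1, 0, 0, 2, 1, 1⟩, 2361, 1279),
  (⟨0, -1, -1, 0, 2, 0, -1, -1⟩, 2361, 3071),
  (⟨0, -1, -1, 0, 2, 0, -1, 1⟩, 659, 2133),
  (⟨0, -1, -1, 0, 2, 0, 1, -1⟩, 2668, 3242),
  (⟨0, -1, -1, 0, 2, 0, 1, 1⟩, 454, 3840),
  (⟨0, -1, -1, 1, -1, -2, 0, 0⟩, 3252, 3242),
  (⟨0, -1, -1, 1, -1, 0, -2, 0⟩, 1099, 597),
  (⟨0, -1, -1, 1, -1, 0, 0, -2⟩, 3252, 1706),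
  (⟨0, -1, -1, 1, -1, 0, 0, 2⟩, 3252, 1706),
  (⟨0, -1, -1, 1, -1, 0, 2, 0⟩, 1099, 597),
  (⟨0, -1, -1, 1, -1, 2, 0, 0⟩, 3252, 3242),
  (⟨0, -1, -1, 1, 1, -2, 0, 0⟩, 4065, 3839),
  (⟨0, -1, -1, 1, 1, 0, -2, 0⟩, 1822, 0),
  (⟨0, -1, -1, 1, 1, 0, 0, -2⟩, 4065, 1279),
  (⟨0, -1, -1, 1, 1, 0, 0, 2⟩, 4065, 1279),
  (⟨0, -1, -1, 1, 1, 0, 2, 0⟩, 1822, 0),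
  (⟨0, -1, -1, 1, 1, 2, 0, 0⟩, 4065, 3839),
  (⟨0, -1, -1, 2, 0, 0, -1, -1⟩, 454, 3840),
  (⟨0, -1, -1, 2, 0, 0, -1, 1⟩, 2668, 3242),
  (⟨0, -1, -1, 2, 0, 0, 1, -1⟩, 659, 2133),
  (⟨0, -1, -1, 2, 0, 0, 1, 1⟩, 2361, 3071),
  (⟨0, -1, 0, -2, -1, -1, -1, 0⟩, 3442, 0),
  (⟨0, -1, 0, -2, -1, -1, 1, 0⟩, 3623, 1877),
  (⟨0, -1, 0, -2, -1, 1, -1, 0⟩, 1752, 2474),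
  (⟨0, -1, 0, -2, -1, 1, 1, 0⟩, 1421, 3839),
  (⟨0, -1, 0, -2, 1, -1, -1, 0⟩, 3623, 597),
  (⟨0, -1, 0, -2, 1, -1, 1, 0⟩, 3442, 1280),
  (⟨0, -1, 0, -2, 1, 1, -1, 0⟩, 1421, 3071),
  (⟨0, -1, 0, -2, 1, 1, 1, 0⟩, 1752, 3242),
  (⟨0, -1, 0, -1, -2, -1, 0, -1⟩, 2986, 3840),
  (⟨0, -1, 0, -1, -2, -1, 0, 1⟩, 0, 3242),
  (⟨0, -1, 0, -1, -2, 1, 0, -1⟩, 0, 1706),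
  (⟨0, -1, 0, -1, -2, 1, 0, 1⟩, 2986, 1280),
  (⟨0, -1, 0, -1, 0, -1, -2, -1⟩, 2986, 2560),
  (⟨0, -1, 0, -1, 0, -1, -2, 1⟩, 0, 2474),
  (⟨0, -1, 0, -1, 0, -1, 2, -1⟩, 2986, 2560),
  (⟨0, -1, 0, -1, 0, -1, 2, 1⟩, 0, 2474),
  (⟨0, -1, 0, -1, 0, 1, -2, -1⟩, 0, 938),
  (⟨0, -1, 0, -1, 0, 1, -2, 1⟩, 2986, 0),
  (⟨0, -1, 0, -1, 0, 1, 2, -1⟩, 0, 938),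
  (⟨0, -1, 0, -1, 0, 1, 2, 1⟩, 2986, 0),
  (⟨0, -1, 0, -1, 2, -1, 0, -1⟩, 2986, 3840),
  (⟨0, -1, 0, -1, 2, -1, 0, 1⟩, 0, 3242),
  (⟨0, -1, 0, -1, 2, 1, 0, -1⟩, 0, 1706),
  (⟨0, -1, 0, -1, 2, 1, 0, 1⟩, 2986, 1280),
  (⟨0, -1, 0, 0, -1, -1, -1, -2⟩, 3442, 1280),
  (⟨0, -1, 0, 0, -1, -1, -1, 2⟩, 3442, 1280),
  (⟨0, -1, 0, 0, -1, -1, 1, -2⟩, 3623, 597),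
  (⟨0, -1, 0, 0, -1, -1, 1, 2⟩, 3623, 597),
  (⟨0, -1, 0, 0, -1, 1, -1, -2⟩, 1752, 3242),
  (⟨0, -1, 0, 0, -1, 1, -1, 2⟩, 1752, 3242),
  (⟨0, -1, 0, 0, -1, 1, 1, -2⟩, 1421, 3071),
  (⟨0, -1, 0, 0, -1, 1, 1, 2⟩, 1421, 3071),
  (⟨0, -1, 0, 0, 1, -1, -1, -2⟩, 3623, 1877),
  (⟨0, -1, 0, 0, 1, -1, -1, 2⟩, 3623, 1877),
  (⟨0, -1, 0, 0, 1, -1, 1, -2⟩, 3442, 0),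
  (⟨0, -1, 0, 0, 1, -1, 1, 2⟩, 3442, 0),
  (⟨0, -1, 0, 0, 1, 1, -1, -2⟩, 1421, 3839),
  (⟨0, -1, 0, 0, 1, 1, -1, 2⟩, 1421, 3839),
  (⟨0, -1, 0, 0, 1, 1, 1, -2⟩, 1752, 2474),
  (⟨0, -1, 0, 0, 1, 1, 1, 2⟩, 1752, 2474),
  (⟨0, -1, 0, 1, -2, -1, 0, -1⟩, 0, 2474),
  (⟨0, -1, 0, 1, -2, -1, 0, 1⟩, 2986, 2560),
  (⟨0, -1, 0, 1, -2, 1, 0, -1⟩, 2986, 0),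
  (⟨0, -1, 0, 1, -2, 1, 0, 1⟩, 0, 938),
  (⟨0, -1, 0, 1, 0, -1, -2, -1⟩, 0, 3242),
  (⟨0, -1, 0, 1, 0, -1, -2, 1⟩, 2986, 3840),
  (⟨0, -1, 0, 1, 0, -1, 2, -1⟩, 0, 3242),
  (⟨0, -1, 0, 1, 0, -1, 2, 1⟩, 2986, 3840),
  (⟨0, -1, 0, 1, 0, 1, -2, -1⟩, 2986, 1280),
  (⟨0, -1, 0, 1, 0, 1, -2, 1⟩, 0, 1706),
  (⟨0, -1, 0, 1, 0, 1, 2, -1⟩, 2986, 1280),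
  (⟨0, -1, 0, 1, 0, 1, 2, 1⟩, 0, 1706),
  (⟨0, -1, 0, 1, 2, -1, 0, -1⟩, 0, 2474),
  (⟨0, -1, 0, 1, 2, -1, 0, 1⟩, 2986, 2560),
  (⟨0, -1, 0, 1, 2, 1, 0, -1⟩, 2986, 0),
  (⟨0, -1, 0, 1, 2, 1, 0, 1⟩, 0, 938),
  (⟨0, -1, 0, 2, -1, -1, -1, 0⟩, 3442, 0),
  (⟨0, -1, 0, 2, -1, -1, 1, 0⟩, 3623, 1877),
  (⟨0, -1, 0, 2, -1, 1, -1, 0⟩, 1752, 2474),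
  (⟨0, -1, 0, 2, -1, 1, 1, 0⟩, 1421, 3839),
  (⟨0, -1, 0, 2, 1, -1, -1, 0⟩, 3623, 597),
  (⟨0, -1, 0, 2, 1, -1, 1, 0⟩, 3442, 1280),
  (⟨0, -1, 0, 2, 1, 1, -1, 0⟩, 1421, 3071),
  (⟨0, -1, 0, 2, 1, 1, 1, 0⟩, 1752, 3242),
  (⟨0, -1, 1, -2, 0, 0, -1, -1⟩, 659, 1877),
  (⟨0, -1, 1, -2, 0, 0, -1, 1⟩, 2361, 1279),
  (⟨0, -1, 1, -2, 0, 0, 1, -1⟩, 454, 0),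
  (⟨0, -1, 1, -2, 0, 0, 1, 1⟩, 2668, 938),
  (⟨0, -1, 1, -1, -1, -2, 0, 0⟩, 1099, 597),
  (⟨0, -1, 1, -1, -1, 0, -2, 0⟩, 3252, 3242),
  (⟨0, -1, 1, -1, -1, 0, 0, -2⟩, 1099, 2133),
  (⟨0, -1, 1, -1, -1, 0, 0, 2⟩, 1099, 2133),
  (⟨0, -1, 1, -1, -1, 0, 2, 0⟩, 3252, 3242),
  (⟨0, -1, 1, -1, -1, 2, 0, 0⟩, 1099, 597),
  (⟨0, -1, 1, -1, 1, -2, 0, 0⟩, 1822, 0),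
  (⟨0, -1, 1, -1, 1, 0, -2, 0⟩, 4065, 3839),
  (⟨0, -1, 1, -1, 1, 0, 0, -2⟩, 1822, 2560),
  (⟨0, -1, 1, -1, 1, 0, 0, 2⟩, 1822, 2560),
  (⟨0, -1, 1, -1, 1, 0, 2, 0⟩, 4065, 3839),
  (⟨0, -1, 1, -1, 1, 2, 0, 0⟩, 1822, 0),
  (⟨0, -1, 1, 0, -2, 0, -1, -1⟩, 2668, 938),
  (⟨0, -1, 1, 0, -2, 0, -1, 1⟩, 454, 0),
  (⟨0, -1, 1, 0, -2, 0, 1, -1⟩, 2361, 1279),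
  (⟨0, -1, 1, 0, -2, 0, 1, 1⟩, 659, 1877),
  (⟨0, -1, 1, 0, 0, -2, -1, -1⟩, 659, 2133),
  (⟨0, -1, 1, 0, 0, -2, -1, 1⟩, 2361, 3071),
  (⟨0, -1, 1, 0, 0, -2, 1, -1⟩, 454, 3840),
  (⟨0, -1, 1, 0, 0, -2, 1, 1⟩, 2668, 3242),
  (⟨0, -1, 1, 0, 0, 2, -1, -1⟩, 659, 2133),
  (⟨0, -1, 1, 0, 0, 2, -1, 1⟩, 2361, 3071),
  (⟨0, -1, 1, 0, 0, 2, 1, -1⟩, 454, 3840),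
  (⟨0, -1, 1, 0, 0, 2, 1, 1⟩, 2668, 3242),
  (⟨0, -1, 1, 0, 2, 0, -1, -1⟩, 2668, 938),
  (⟨0, -1, 1, 0, 2, 0, -1, 1⟩, 454, 0),
  (⟨0, -1, 1, 0, 2, 0, 1, -1⟩, 2361, 1279),
  (⟨0, -1, 1, 0, 2, 0, 1, 1⟩, 659, 1877),
  (⟨0, -1, 1, 1, -1, -2, 0, 0⟩, 4065, 1279),
  (⟨0, -1, 1, 1, -1, 0, -2, 0⟩, 1822, 2560),
  (⟨0, -1, 1, 1, -1, 0, 0, -2⟩, 4065, 3839),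
  (⟨0, -1, 1, 1, -1, 0, 0, 2⟩, 4065, 3839),
  (⟨0, -1, 1, 1, -1, 0, 2, 0⟩, 1822, 2560),
  (⟨0, -1, 1, 1, -1, 2, 0, 0⟩, 4065, 1279),
  (⟨0, -1, 1, 1, 1, -2, 0, 0⟩, 3252, 1706),
  (⟨0, -1, 1, 1, 1, 0, -2, 0⟩, 1099, 2133),
  (⟨0, -1, 1, 1, 1, 0, 0, -2⟩, 3252, 3242),
  (⟨0, -1, 1, 1, 1, 0, 0, 2⟩, 3252, 3242),
  (⟨0, -1, 1, 1, 1, 0, 2, 0⟩, 1099, 2133),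
  (⟨0, -1, 1, 1, 1, 2, 0, 0⟩, 3252, 1706),
  (⟨0, -1, 1, 2, 0, 0, -1, -1⟩, 659, 1877),
  (⟨0, -1, 1, 2, 0, 0, -1, 1⟩, 2361, 1279),
  (⟨0, -1, 1, 2, 0, 0, 1, -1⟩, 454, 0),
  (⟨0, -1, 1, 2, 0, 0, 1, 1⟩, 2668, 938),
  (⟨0, -1, 2, -1, 0, -1, 0, -1⟩, 2986, 1280),
  (⟨0, -1, 2, -1, 0, -1, 0, 1⟩, 0, 1706),
  (⟨0, -1, 2, -1, 0, 1, 0, -1⟩, 0, 3242),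
  (⟨0, -1, 2, -1, 0, 1, 0, 1⟩, 2986, 3840),
  (⟨0, -1, 2, 0, -1, -1, -1, 0⟩, 1421, 3839),
  (⟨0, -1, 2, 0, -1, -1, 1, 0⟩, 1752, 2474),
  (⟨0, -1, 2, 0, -1, 1, -1, 0⟩, 3623, 1877),
  (⟨0, -1, 2, 0, -1, 1, 1, 0⟩, 3442, 0),
  (⟨0, -1, 2, 0, 1, -1, -1, 0⟩, 1752, 3242),
  (⟨0, -1, 2, 0, 1, -1, 1, 0⟩, 1421, 3071),
  (⟨0, -1, 2, 0, 1, 1, -1, 0⟩, 3442, 1280),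
  (⟨0, -1, 2, 0, 1, 1, 1, 0⟩, 3623, 597),
  (⟨0, -1, 2, 1, 0, -1, 0, -1⟩, 0, 938),
  (⟨0, -1, 2, 1, 0, -1, 0, 1⟩, 2986, 0),
  (⟨0, -1, 2, 1, 0, 1, 0, -1⟩, 2986, 2560),
  (⟨0, -1, 2, 1, 0, 1, 0, 1⟩, 0, 2474),
  (⟨0, 0, -2, -2, 0, 0, 0, 0⟩, 2303, 3839),
  (⟨0, 0, -2, -1, -1, 0, -1, -1⟩, 3442, 1706),
  (⟨0, 0, -2, -1, -1, 0, -1, 1⟩, 1752, 1280),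
  (⟨0, 0, -2, -1, -1, 0, 1, -1⟩, 3623, 511),
  (⟨0, 0, -2, -1, -1, 0, 1, 1⟩, 1421, 597),
  (⟨0, 0, -2, -1, 1, 0, -1, -1⟩, 3623, 1279),
  (⟨0, 0, -2, -1, 1, 0, -1, 1⟩, 1421, 1877),
  (⟨0, 0, -2, -1, 1, 0, 1, -1⟩, 3442, 938),
  (⟨0, 0, -2, -1, 1, 0, 1, 1⟩, 1752, 0),
  (⟨0, 0, -2, 0, -2, 0, 0, 0⟩, 0, 2560),
  (⟨0, 0, -2, 0, 0, -2, 0, 0⟩, 2303, 511),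
  (⟨0, 0, -2, 0, 0, 0, -2, 0⟩, 0, 3840),
  (⟨0, 0, -2, 0, 0, 0, 0, -2⟩, 2303, 3071),
  (⟨0, 0, -2, 0, 0, 0, 0, 2⟩, 2303, 3071),
  (⟨0, 0, -2, 0, 0, 0, 2, 0⟩, 0, 3840),
  (⟨0, 0, -2, 0, 0, 2, 0, 0⟩, 2303, 511),
  (⟨0, 0, -2, 0, 2, 0, 0, 0⟩, 0, 2560),
  (⟨0, 0, -2, 1, -1, 0, -1, -1⟩, 1752, 0),
  (⟨0, 0, -2, 1, -1, 0, -1, 1⟩, 3442, 938),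
  (⟨0, 0, -2, 1, -1, 0, 1, -1⟩, 1421, 1877),
  (⟨0, 0, -2, 1, -1, 0, 1, 1⟩, 3623, 1279),
  (⟨0, 0, -2, 1, 1, 0, -1, -1⟩, 1421, 597),
  (⟨0, 0, -2, 1, 1, 0, -1, 1⟩, 3623, 511),
  (⟨0, 0, -2, 1, 1, 0, 1, -1⟩, 1752, 1280),
  (⟨0, 0, -2, 1, 1, 0, 1, 1⟩, 3442, 1706),
  (⟨0, 0, -2, 2, 0, 0, 0, 0⟩, 2303, 3839),
  (⟨0, 0, -1, -2, -1, -1, 0, -1⟩, 4065, 597),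
  (⟨0, 0, -1, -2, -1, -1, 0, 1⟩, 1099, 511),
  (⟨0, 0, -1, -2, -1, 1, 0, -1⟩, 1099, 3071),
  (⟨0, 0, -1, -2, -1, 1, 0, 1⟩, 4065, 2133),
  (⟨0, 0, -1, -2, 1, -1, 0, -1⟩, 3252, 0),
  (⟨0, 0, -1, -2, 1, -1, 0, 1⟩, 1822, 938),
  (⟨0, 0, -1, -2, 1, 1, 0, -1⟩, 1822, 2474),
  (⟨0, 0, -1, -2, 1, 1, 0, 1⟩, 3252, 2560),
  (⟨0, 0, -1, -1, -2, -1, -1, 0⟩, 454, 2474),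
  (⟨0, 0, -1, -1, -2, -1, 1, 0⟩, 659, 3839),
  (⟨0, 0, -1, -1, -2, 1, -1, 0⟩, 2668, 0),
  (⟨0, 0, -1, -1, -2, 1, 1, 0⟩, 2361, 1877),
  (⟨0, 0, -1, -1, 0, -1, -1, -2⟩, 2361, 2133),
  (⟨0, 0, -1, -1, 0, -1, -1, 2⟩, 2361, 2133),
  (⟨0, 0, -1, -1, 0, -1, 1, -2⟩, 2668, 3840),
  (⟨0, 0, -1, -1, 0, -1, 1, 2⟩, 2668, 3840),
  (⟨0, 0, -1, -1, 0, 1, -1, -2⟩, 659, 511),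
  (⟨0, 0, -1, -1, 0, 1, -1, 2⟩, 659, 511),
  (⟨0, 0, -1, -1, 0, 1, 1, -2⟩, 454, 1706),
  (⟨0, 0, -1, -1, 0, 1, 1, 2⟩, 454, 1706),
  (⟨0, 0, -1, -1, 2, -1, -1, 0⟩, 454, 2474),
  (⟨0, 0, -1, -1, 2, -1, 1, 0⟩, 659, 3839),
  (⟨0, 0, -1, -1, 2, 1, -1, 0⟩, 2668, 0),
  (⟨0, 0, -1, -1, 2, 1, 1, 0⟩, 2361, 1877),
  (⟨0, 0, -1, 0, -1, -1, -2, -1⟩, 1822, 938),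
  (⟨0, 0, -1, 0, -1, -1, -2, 1⟩, 3252, 0),
  (⟨0, 0, -1, 0, -1, -1, 2, -1⟩, 1822, 938),
  (⟨0, 0, -1, 0, -1, -1, 2, 1⟩, 3252, 0),
  (⟨0, 0, -1, 0, -1, 1, -2, -1⟩, 3252, 2560),
  (⟨0, 0, -1, 0, -1, 1, -2, 1⟩, 1822, 2474),
  (⟨0, 0, -1, 0, -1, 1, 2, -1⟩, 3252, 2560),
  (⟨0, 0, -1, 0, -1, 1, 2, 1⟩, 1822, 2474),
  (⟨0, 0, -1, 0, 1, -1, -2, -1⟩, 1099, 511),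
  (⟨0, 0, -1, 0, 1, -1, -2, 1⟩, 4065, 597),
  (⟨0, 0, -1, 0, 1, -1, 2, -1⟩, 1099, 511),
  (⟨0, 0, -1, 0, 1, -1, 2, 1⟩, 4065, 597),
  (⟨0, 0, -1, 0, 1, 1, -2, -1⟩, 4065, 2133),
  (⟨0, 0, -1, 0, 1, 1, -2, 1⟩, 1099, 3071),
  (⟨0, 0, -1, 0, 1, 1, 2, -1⟩, 4065, 2133),
  (⟨0, 0, -1, 0, 1, 1, 2, 1⟩, 1099, 3071),
  (⟨0, 0, -1, 1, -2, -1, -1, 0⟩, 2668, 3840),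
  (⟨0, 0, -1, 1, -2, -1, 1, 0⟩, 2361, 2133),
  (⟨0, 0, -1, 1, -2, 1, -1, 0⟩, 454, 1706),
  (⟨0, 0, -1, 1, -2, 1, 1, 0⟩, 659, 511),
  (⟨0, 0, -1, 1, 0, -1, -1, -2⟩, 659, 3839),
  (⟨0, 0, -1, 1, 0, -1, -1, 2⟩, 659, 3839),
  (⟨0, 0, -1, 1, 0, -1, 1, -2⟩, 454, 2474),
  (⟨0, 0, -1, 1, 0, -1, 1, 2⟩, 454, 2474),
  (⟨0, 0, -1, 1, 0, 1, -1, -2⟩, 2361, 1877),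
  (⟨0, 0, -1, 1, 0, 1, -1, 2⟩, 2361, 1877),
  (⟨0, 0, -1, 1, 0, 1, 1, -2⟩, 2668, 0),
  (⟨0, 0, -1, 1, 0, 1, 1, 2⟩, 2668, 0),
  (⟨0, 0, -1, 1, 2, -1, -1, 0⟩, 2668, 3840),
  (⟨0, 0, -1, 1, 2, -1, 1, 0⟩, 2361, 2133),
  (⟨0, 0, -1, 1, 2, 1, -1, 0⟩, 454, 1706),
  (⟨0, 0, -1, 1, 2, 1, 1, 0⟩, 659, 511),
  (⟨0, 0, -1, 2, -1, -1, 0, -1⟩, 4065, 597),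
  (⟨0, 0, -1, 2, -1, -1, 0, 1⟩, 1099, 511),
  (⟨0, 0, -1, 2, -1, 1, 0, -1⟩, 1099, 3071),
  (⟨0, 0, -1, 2, -1, 1, 0, 1⟩, 4065, 2133),
  (⟨0, 0, -1, 2, 1, -1, 0, -1⟩, 3252, 0),
  (⟨0, 0, -1, 2, 1, -1, 0, 1⟩, 1822, 938),
  (⟨0, 0, -1, 2, 1, 1, 0, -1⟩, 1822, 2474),
  (⟨0, 0, -1, 2, 1, 1, 0, 1⟩, 3252, 2560),
  (⟨0, 0, 0, -2, -2, 0, 0, 0⟩, 2303, 1279),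
  (⟨0, 0, 0, -2, 0, -2, 0, 0⟩, 0, 3840),
  (⟨0, 0, 0, -2, 0, 0, -2, 0⟩, 2303, 511),
  (⟨0, 0, 0, -2, 0, 0, 0, -2⟩, 0, 1280),
  (⟨0, 0, 0, -2, 0, 0, 0, 2⟩, 0, 1280),
  (⟨0, 0, 0, -2, 0, 0, 2, 0⟩, 2303, 511),
  (⟨0, 0, 0, -2, 0, 2, 0, 0⟩, 0, 3840),
  (⟨0, 0, 0, -2, 2, 0, 0, 0⟩, 2303, 1279),
  (⟨0, 0, 0, -1, -1, -2, -1, -1⟩, 1421, 1877),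
  (⟨0, 0, 0, -1, -1, -2, -1, 1⟩, 3623, 1279),
  (⟨0, 0, 0, -1, -1, -2, 1, -1⟩, 1752, 0),
  (⟨0, 0, 0, -1, -1, -2, 1, 1⟩, 3442, 938),
  (⟨0, 0, 0, -1, -1, 2, -1, -1⟩, 1421, 1877),
  (⟨0, 0, 0, -1, -1, 2, -1, 1⟩, 3623, 1279),
  (⟨0, 0, 0, -1, -1, 2, 1, -1⟩, 1752, 0),
  (⟨0, 0, 0, -1, -1, 2, 1, 1⟩, 3442, 938),
  (⟨0, 0, 0, -1, 1, -2, -1, -1⟩, 1752, 1280),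
  (⟨0, 0, 0, -1, 1, -2, -1, 1⟩, 3442, 1706),
  (⟨0, 0, 0, -1, 1, -2, 1, -1⟩, 1421, 597),
  (⟨0, 0, 0, -1, 1, -2, 1, 1⟩, 3623, 511),
  (⟨0, 0, 0, -1, 1, 2, -1, -1⟩, 1752, 1280),
  (⟨0, 0, 0, -1, 1, 2, -1, 1⟩, 3442, 1706),
  (⟨0, 0, 0, -1, 1, 2, 1, -1⟩, 1421, 597),
  (⟨0, 0, 0, -1, 1, 2, 1, 1⟩, 3623, 511),
  (⟨0, 0, 0, 0, -2, -2, 0, 0⟩, 2303, 3071),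
  (⟨0, 0, 0, 0, -2, 0, -2, 0⟩, 0, 1280),
  (⟨0, 0, 0, 0, -2, 0, 0, -2⟩, 2303, 511),
  (⟨0, 0, 0, 0, -2, 0, 0, 2⟩, 2303, 511),
  (⟨0, 0, 0, 0, -2, 0, 2, 0⟩, 0, 1280),
  (⟨0, 0, 0, 0, -2, 2, 0, 0⟩, 2303, 3071),
  (⟨0, 0, 0, 0, 0, -2, -2, 0⟩, 2303, 3839),
  (⟨0, 0, 0, 0, 0, -2, 0, -2⟩, 0, 2560),
  (⟨0, 0, 0, 0, 0, -2, 0, 2⟩, 0, 2560),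
  (⟨0, 0, 0, 0, 0, -2, 2, 0⟩, 2303, 3839),
  (⟨0, 0, 0, 0, 0, 0, -2, -2⟩, 2303, 1279),
  (⟨0, 0, 0, 0, 0, 0, -2, 2⟩, 2303, 1279),
  (⟨0, 0, 0, 0, 0, 0, 2, -2⟩, 2303, 1279),
  (⟨0, 0, 0, 0, 0, 0, 2, 2⟩, 2303, 1279),
  (⟨0, 0, 0, 0, 0, 2, -2, 0⟩, 2303, 3839),
  (⟨0, 0, 0, 0, 0, 2, 0, -2⟩, 0, 2560),
  (⟨0, 0, 0, 0, 0, 2, 0, 2⟩, 0, 2560),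
  (⟨0, 0, 0, 0, 0, 2, 2, 0⟩, 2303, 3839),
  (⟨0, 0, 0, 0, 2, -2, 0, 0⟩, 2303, 3071),
  (⟨0, 0, 0, 0, 2, 0, -2, 0⟩, 0, 1280),
  (⟨0, 0, 0, 0, 2, 0, 0, -2⟩, 2303, 511),
  (⟨0, 0, 0, 0, 2, 0, 0, 2⟩, 2303, 511),
  (⟨0, 0, 0, 0, 2, 0, 2, 0⟩, 0, 1280),
  (⟨0, 0, 0, 0, 2, 2, 0, 0⟩, 2303, 3071),
  (⟨0, 0, 0, 1, -1, -2, -1, -1⟩, 3623, 511),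
  (⟨0, 0, 0, 1, -1, -2, -1, 1⟩, 1421, 597),
  (⟨0, 0, 0, 1, -1, -2, 1, -1⟩, 3442, 1706),
  (⟨0, 0, 0, 1, -1, -2, 1, 1⟩, 1752, 1280),
  (⟨0, 0, 0, 1, -1, 2, -1, -1⟩, 3623, 511),
  (⟨0, 0, 0, 1, -1, 2, -1, 1⟩, 1421, 597),
  (⟨0, 0, 0, 1, -1, 2, 1, -1⟩, 3442, 1706),
  (⟨0, 0, 0, 1, -1, 2, 1, 1⟩, 1752, 1280),
  (⟨0, 0, 0, 1, 1, -2, -1, -1⟩, 3442, 938),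
  (⟨0, 0, 0, 1, 1, -2, -1, 1⟩, 1752, 0),
  (⟨0, 0, 0, 1, 1, -2, 1, -1⟩, 3623, 1279),
  (⟨0, 0, 0, 1, 1, -2, 1, 1⟩, 1421, 1877),
  (⟨0, 0, 0, 1, 1, 2, -1, -1⟩, 3442, 938),
  (⟨0, 0, 0, 1, 1, 2, -1, 1⟩, 1752, 0),
  (⟨0, 0, 0, 1, 1, 2, 1, -1⟩, 3623, 1279),
  (⟨0, 0, 0, 1, 1, 2, 1, 1⟩, 1421, 1877),
  (⟨0, 0, 0, 2, -2, 0, 0, 0⟩, 2303, 1279),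
  (⟨0, 0, 0, 2, 0, -2, 0, 0⟩, 0, 3840),
  (⟨0, 0, 0, 2, 0, 0, -2, 0⟩, 2303, 511),
  (⟨0, 0, 0, 2, 0, 0, 0, -2⟩, 0, 1280),
  (⟨0, 0, 0, 2, 0, 0, 0, 2⟩, 0, 1280),
  (⟨0, 0, 0, 2, 0, 0, 2, 0⟩, 2303, 511),
  (⟨0, 0, 0, 2, 0, 2, 0, 0⟩, 0, 3840),
  (⟨0, 0, 0, 2, 2, 0, 0, 0⟩, 2303, 1279),
  (⟨0, 0, 1, -2, -1, -1, 0, -1⟩, 3252, 2560),
  (⟨0, 0, 1, -2, -1, -1, 0, 1⟩, 1822, 2474),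
  (⟨0, 0, 1, -2, -1, 1, 0, -1⟩, 1822, 938),
  (⟨0, 0, 1, -2, -1, 1, 0, 1⟩, 3252, 0),
  (⟨0, 0, 1, -2, 1, -1, 0, -1⟩, 4065, 2133),
  (⟨0, 0, 1, -2, 1, -1, 0, 1⟩, 1099, 3071),
  (⟨0, 0, 1, -2, 1, 1, 0, -1⟩, 1099, 511),
  (⟨0, 0, 1, -2, 1, 1, 0, 1⟩, 4065, 597),
  (⟨0, 0, 1, -1, -2, -1, -1, 0⟩, 659, 511),
  (⟨0, 0, 1, -1, -2, -1, 1, 0⟩, 454, 1706),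
  (⟨0, 0, 1, -1, -2, 1, -1, 0⟩, 2361, 2133),
  (⟨0, 0, 1, -1, -2, 1, 1, 0⟩, 2668, 3840),
  (⟨0, 0, 1, -1, 0, -1, -1, -2⟩, 2668, 0),
  (⟨0, 0, 1, -1, 0, -1, -1, 2⟩, 2668, 0),
  (⟨0, 0, 1, -1, 0, -1, 1, -2⟩, 2361, 1877),
  (⟨0, 0, 1, -1, 0, -1, 1, 2⟩, 2361, 1877),
  (⟨0, 0, 1, -1, 0, 1, -1, -2⟩, 454, 2474),
  (⟨0, 0, 1, -1, 0, 1, -1, 2⟩, 454, 2474),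
  (⟨0, 0, 1, -1, 0, 1, 1, -2⟩, 659, 3839),
  (⟨0, 0, 1, -1, 0, 1, 1, 2⟩, 659, 3839),
  (⟨0, 0, 1, -1, 2, -1, -1, 0⟩, 659, 511),
  (⟨0, 0, 1, -1, 2, -1, 1, 0⟩, 454, 1706),
  (⟨0, 0, 1, -1, 2, 1, -1, 0⟩, 2361, 2133),
  (⟨0, 0, 1, -1, 2, 1, 1, 0⟩, 2668, 3840),
  (⟨0, 0, 1, 0, -1, -1, -2, -1⟩, 1099, 3071),
  (⟨0, 0, 1, 0, -1, -1, -2, 1⟩, 4065, 2133),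
  (⟨0, 0, 1, 0, -1, -1, 2, -1⟩, 1099, 3071),
  (⟨0, 0, 1, 0, -1, -1, 2, 1⟩, 4065, 2133),
  (⟨0, 0, 1, 0, -1, 1, -2, -1⟩, 4065, 597),
  (⟨0, 0, 1, 0, -1, 1, -2, 1⟩, 1099, 511),
  (⟨0, 0, 1, 0, -1, 1, 2, -1⟩, 4065, 597),
  (⟨0, 0, 1, 0, -1, 1, 2, 1⟩, 1099, 511),
  (⟨0, 0, 1, 0, 1, -1, -2, -1⟩, 1822, 2474),
  (⟨0, 0, 1, 0, 1, -1, -2, 1⟩, 3252, 2560),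
  (⟨0, 0, 1, 0, 1, -1, 2, -1⟩, 1822, 2474),
  (⟨0, 0, 1, 0, 1, -1, 2, 1⟩, 3252, 2560),
  (⟨0, 0, 1, 0, 1, 1, -2, -1⟩, 3252, 0),
  (⟨0, 0, 1, 0, 1, 1, -2, 1⟩, 1822, 938),
  (⟨0, 0, 1, 0, 1, 1, 2, -1⟩, 3252, 0),
  (⟨0, 0, 1, 0, 1, 1, 2, 1⟩, 1822, 938),
  (⟨0, 0, 1, 1, -2, -1, -1, 0⟩, 2361, 1877),
  (⟨0, 0, 1, 1, -2, -1, 1, 0⟩, 2668, 0),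
  (⟨0, 0, 1, 1, -2, 1, -1, 0⟩, 659, 3839),
  (⟨0, 0, 1, 1, -2, 1, 1, 0⟩, 454, 2474),
  (⟨0, 0, 1, 1, 0, -1, -1, -2⟩, 454, 1706),
  (⟨0, 0, 1, 1, 0, -1, -1, 2⟩, 454, 1706),
  (⟨0, 0, 1, 1, 0, -1, 1, -2⟩, 659, 511),
  (⟨0, 0, 1, 1, 0, -1, 1, 2⟩, 659, 511),
  (⟨0, 0, 1, 1, 0, 1, -1, -2⟩, 2668, 3840),
  (⟨0, 0, 1, 1, 0, 1, -1, 2⟩, 2668, 3840),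
  (⟨0, 0, 1, 1, 0, 1, 1, -2⟩, 2361, 2133),
  (⟨0, 0, 1, 1, 0, 1, 1, 2⟩, 2361, 2133),
  (⟨0, 0, 1, 1, 2, -1, -1, 0⟩, 2361, 1877),
  (⟨0, 0, 1, 1, 2, -1, 1, 0⟩, 2668, 0),
  (⟨0, 0, 1, 1, 2, 1, -1, 0⟩, 659, 3839),
  (⟨0, 0, 1, 1, 2, 1, 1, 0⟩, 454, 2474),
  (⟨0, 0, 1, 2, -1, -1, 0, -1⟩, 3252, 2560),
  (⟨0, 0, 1, 2, -1, -1, 0, 1⟩, 1822, 2474),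
  (⟨0, 0, 1, 2, -1, 1, 0, -1⟩, 1822, 938),
  (⟨0, 0, 1, 2, -1, 1, 0, 1⟩, 3252, 0),
  (⟨0, 0, 1, 2, 1, -1, 0, -1⟩, 4065, 2133),
  (⟨0, 0, 1, 2, 1, -1, 0, 1⟩, 1099, 3071),
  (⟨0, 0, 1, 2, 1, 1, 0, -1⟩, 1099, 511),
  (⟨0, 0, 1, 2, 1, 1, 0, 1⟩, 4065, 597),
  (⟨0, 0, 2, -2, 0, 0, 0, 0⟩, 2303, 3839),
  (⟨0, 0, 2, -1, -1, 0, -1, -1⟩, 3442, 1706),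
  (⟨0, 0, 2, -1, -1, 0, -1, 1⟩, 1752, 1280),
  (⟨0, 0, 2, -1, -1, 0, 1, -1⟩, 3623, 511),
  (⟨0, 0, 2, -1, -1, 0, 1, 1⟩, 1421, 597),
  (⟨0, 0, 2, -1, 1, 0, -1, -1⟩, 3623, 1279),
  (⟨0, 0, 2, -1, 1, 0, -1, 1⟩, 1421, 1877),
  (⟨0, 0, 2, -1, 1, 0, 1, -1⟩, 3442, 938),
  (⟨0, 0, 2, -1, 1, 0, 1, 1⟩, 1752, 0),
  (⟨0, 0, 2, 0, -2, 0, 0, 0⟩, 0, 2560),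
  (⟨0, 0, 2, 0, 0, -2, 0, 0⟩, 2303, 511),
  (⟨0, 0, 2, 0, 0, 0, -2, 0⟩, 0, 3840),
  (⟨0, 0, 2, 0, 0, 0, 0, -2⟩, 2303, 3071),
  (⟨0, 0, 2, 0, 0, 0, 0, 2⟩, 2303, 3071),
  (⟨0, 0, 2, 0, 0, 0, 2, 0⟩, 0, 3840),
  (⟨0, 0, 2, 0, 0, 2, 0, 0⟩, 2303, 511),
  (⟨0, 0, 2, 0, 2, 0, 0, 0⟩, 0, 2560),
  (⟨0, 0, 2, 1, -1, 0, -1, -1⟩, 1752, 0),
  (⟨0, 0, 2, 1, -1, 0, -1, 1⟩, 3442, 938),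
  (⟨0, 0, 2, 1, -1, 0, 1, -1⟩, 1421, 1877),
  (⟨0, 0, 2, 1, -1, 0, 1, 1⟩, 3623, 1279),
  (⟨0, 0, 2, 1, 1, 0, -1, -1⟩, 1421, 597),
  (⟨0, 0, 2, 1, 1, 0, -1, 1⟩, 3623, 511),
  (⟨0, 0, 2, 1, 1, 0, 1, -1⟩, 1752, 1280),
  (⟨0, 0, 2, 1, 1, 0, 1, 1⟩, 3442, 1706),
  (⟨0, 0, 2, 2, 0, 0, 0, 0⟩, 2303, 3839),
  (⟨0, 1, -2, -1, 0, -1, 0, -1⟩, 0, 2474),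
  (⟨0, 1, -2, -1, 0, -1, 0, 1⟩, 2986, 2560),
  (⟨0, 1, -2, -1, 0, 1, 0, -1⟩, 2986, 0),
  (⟨0, 1, -2, -1, 0, 1, 0, 1⟩, 0, 938),
  (⟨0, 1, -2, 0, -1, -1, -1, 0⟩, 3623, 597),
  (⟨0, 1, -2, 0, -1, -1, 1, 0⟩, 3442, 1280),
  (⟨0, 1, -2, 0, -1, 1, -1, 0⟩, 1421, 3071),
  (⟨0, 1, -2, 0, -1, 1, 1, 0⟩, 1752, 3242),
  (⟨0, 1, -2, 0, 1, -1, -1, 0⟩, 3442, 0),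
  (⟨0, 1, -2, 0, 1, -1, 1, 0⟩, 3623, 1877),
  (⟨0, 1, -2, 0, 1, 1, -1, 0⟩, 1752, 2474),
  (⟨0, 1, -2, 0, 1, 1, 1, 0⟩, 1421, 3839),
  (⟨0, 1, -2, 1, 0, -1, 0, -1⟩, 2986, 3840),
  (⟨0, 1, -2, 1, 0, -1, 0, 1⟩, 0, 3242),
  (⟨0, 1, -2, 1, 0, 1, 0, -1⟩, 0, 1706),
  (⟨0, 1, -2, 1, 0, 1, 0, 1⟩, 2986, 1280),
  (⟨0, 1, -1, -2, 0, 0, -1, -1⟩, 2668, 938),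
  (⟨0, 1, -1, -2, 0, 0, -1, 1⟩, 454, 0),
  (⟨0, 1, -1, -2, 0, 0, 1, -1⟩, 2361, 1279),
  (⟨0, 1, -1, -2, 0, 0, 1, 1⟩, 659, 1877),
  (⟨0, 1, -1, -1, -1, -2, 0, 0⟩, 3252, 1706),
  (⟨0, 1, -1, -1, -1, 0, -2, 0⟩, 1099, 2133),
  (⟨0, 1, -1, -1, -1, 0, 0, -2⟩, 3252, 3242),
  (⟨0, 1, -1, -1, -1, 0, 0, 2⟩, 3252, 3242),
  (⟨0, 1, -1, -1, -1, 0, 2, 0⟩, 1099, 2133),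
  (⟨0, 1, -1, -1, -1, 2, 0, 0⟩, 3252, 1706),
  (⟨0, 1, -1, -1, 1, -2, 0, 0⟩, 4065, 1279),
  (⟨0, 1, -1, -1, 1, 0, -2, 0⟩, 1822, 2560),
  (⟨0, 1, -1, -1, 1, 0, 0, -2⟩, 4065, 3839),
  (⟨0, 1, -1, -1, 1, 0, 0, 2⟩, 4065, 3839),
  (⟨0, 1, -1, -1, 1, 0, 2, 0⟩, 1822, 2560),
  (⟨0, 1, -1, -1, 1, 2, 0, 0⟩, 4065, 1279),
  (⟨0, 1, -1, 0, -2, 0, -1, -1⟩, 659, 1877),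
  (⟨0, 1, -1, 0, -2, 0, -1, 1⟩, 2361, 1279),
  (⟨0, 1, -1, 0, -2, 0, 1, -1⟩, 454, 0),
  (⟨0, 1, -1, 0, -2, 0, 1, 1⟩, 2668, 938),
  (⟨0, 1, -1, 0, 0, -2, -1, -1⟩, 2668, 3242),
  (⟨0, 1, -1, 0, 0, -2, -1, 1⟩, 454, 3840),
  (⟨0, 1, -1, 0, 0, -2, 1, -1⟩, 2361, 3071),
  (⟨0, 1, -1, 0, 0, -2, 1, 1⟩, 659, 2133),
  (⟨0, 1, -1, 0, 0, 2, -1, -1⟩, 2668, 3242),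
  (⟨0, 1, -1, 0, 0, 2, -1, 1⟩, 454, 3840),
  (⟨0, 1, -1, 0, 0, 2, 1, -1⟩, 2361, 3071),
  (⟨0, 1, -1, 0, 0, 2, 1, 1⟩, 659, 2133),
  (⟨0, 1, -1, 0, 2, 0, -1, -1⟩, 659, 1877),
  (⟨0, 1, -1, 0, 2, 0, -1, 1⟩, 2361, 1279),
  (⟨0, 1, -1, 0, 2, 0, 1, -1⟩, 454, 0),
  (⟨0, 1, -1, 0, 2, 0, 1, 1⟩, 2668, 938),
  (⟨0, 1, -1, 1, -1, -2, 0, 0⟩, 1822, 0),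
  (⟨0, 1, -1, 1, -1, 0, -2, 0⟩, 4065, 3839),
  (⟨0, 1, -1, 1, -1, 0, 0, -2⟩, 1822, 2560),
  (⟨0, 1, -1, 1, -1, 0, 0, 2⟩, 1822, 2560),
  (⟨0, 1, -1, 1, -1, 0, 2, 0⟩, 4065, 3839),
  (⟨0, 1, -1, 1, -1, 2, 0, 0⟩, 1822, 0),
  (⟨0, 1, -1, 1, 1, -2, 0, 0⟩, 1099, 597),
  (⟨0, 1, -1, 1, 1, 0, -2, 0⟩, 3252, 3242),
  (⟨0, 1, -1, 1, 1, 0, 0, -2⟩, 1099, 2133),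
  (⟨0, 1, -1, 1, 1, 0, 0, 2⟩, 1099, 2133),
  (⟨0, 1, -1, 1, 1, 0, 2, 0⟩, 3252, 3242),
  (⟨0, 1, -1, 1, 1, 2, 0, 0⟩, 1099, 597),
  (⟨0, 1, -1, 2, 0, 0, -1, -1⟩, 2668, 938),
  (⟨0, 1, -1, 2, 0, 0, -1, 1⟩, 454, 0),
  (⟨0, 1, -1, 2, 0, 0, 1, -1⟩, 2361, 1279),
  (⟨0, 1, -1, 2, 0, 0, 1, 1⟩, 659, 1877),
  (⟨0, 1, 0, -2, -1, -1, -1, 0⟩, 1752, 3242),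
  (⟨0, 1, 0, -2, -1, -1, 1, 0⟩, 1421, 3071),
  (⟨0, 1, 0, -2, -1, 1, -1, 0⟩, 3442, 1280),
  (⟨0, 1, 0, -2, -1, 1, 1, 0⟩, 3623, 597),
  (⟨0, 1, 0, -2, 1, -1, -1, 0⟩, 1421, 3839),
  (⟨0, 1, 0, -2, 1, -1, 1, 0⟩, 1752, 2474),
  (⟨0, 1, 0, -2, 1, 1, -1, 0⟩, 3623, 1877),
  (⟨0, 1, 0, -2, 1, 1, 1, 0⟩, 3442, 0),
  (⟨0, 1, 0, -1, -2, -1, 0, -1⟩, 0, 938),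
  (⟨0, 1, 0, -1, -2, -1, 0, 1⟩, 2986, 0),
  (⟨0, 1, 0, -1, -2, 1, 0, -1⟩, 2986, 2560),
  (⟨0, 1, 0, -1, -2, 1, 0, 1⟩, 0, 2474),
  (⟨0, 1, 0, -1, 0, -1, -2, -1⟩, 0, 1706),
  (⟨0, 1, 0, -1, 0, -1, -2, 1⟩, 2986, 1280),
  (⟨0, 1, 0, -1, 0, -1, 2, -1⟩, 0, 1706),
  (⟨0, 1, 0, -1, 0, -1, 2, 1⟩, 2986, 1280),
  (⟨0, 1, 0, -1, 0, 1, -2, -1⟩, 2986, 3840),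
  (⟨0, 1, 0, -1, 0, 1, -2, 1⟩, 0, 3242),
  (⟨0, 1, 0, -1, 0, 1, 2, -1⟩, 2986, 3840),
  (⟨0, 1, 0, -1, 0, 1, 2, 1⟩, 0, 3242),
  (⟨0, 1, 0, -1, 2, -1, 0, -1⟩, 0, 938),
  (⟨0, 1, 0, -1, 2, -1, 0, 1⟩, 2986, 0),
  (⟨0, 1, 0, -1, 2, 1, 0, -1⟩, 2986, 2560),
  (⟨0, 1, 0, -1, 2, 1, 0, 1⟩, 0, 2474),
  (⟨0, 1, 0, 0, -1, -1, -1, -2⟩, 1752, 2474),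
  (⟨0, 1, 0, 0, -1, -1, -1, 2⟩, 1752, 2474),
  (⟨0, 1, 0, 0, -1, -1, 1, -2⟩, 1421, 3839),
  (⟨0, 1, 0, 0, -1, -1, 1, 2⟩, 1421, 3839),
  (⟨0, 1, 0, 0, -1, 1, -1, -2⟩, 3442, 0),
  (⟨0, 1, 0, 0, -1, 1, -1, 2⟩, 3442, 0),
  (⟨0, 1, 0, 0, -1, 1, 1, -2⟩, 3623, 1877),
  (⟨0, 1, 0, 0, -1, 1, 1, 2⟩, 3623, 1877),
  (⟨0, 1, 0, 0, 1, -1, -1, -2⟩, 1421, 3071),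
  (⟨0, 1, 0, 0, 1, -1, -1, 2⟩, 1421, 3071),
  (⟨0, 1, 0, 0, 1, -1, 1, -2⟩, 1752, 3242),
  (⟨0, 1, 0, 0, 1, -1, 1, 2⟩, 1752, 3242),
  (⟨0, 1, 0, 0, 1, 1, -1, -2⟩, 3623, 597),
  (⟨0, 1, 0, 0, 1, 1, -1, 2⟩, 3623, 597),
  (⟨0, 1, 0, 0, 1, 1, 1, -2⟩, 3442, 1280),
  (⟨0, 1, 0, 0, 1, 1, 1, 2⟩, 3442, 1280),
  (⟨0, 1, 0, 1, -2, -1, 0, -1⟩, 2986, 1280),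
  (⟨0, 1, 0, 1, -2, -1, 0, 1⟩, 0, 1706),
  (⟨0, 1, 0, 1, -2, 1, 0, -1⟩, 0, 3242),
  (⟨0, 1, 0, 1, -2, 1, 0, 1⟩, 2986, 3840),
  (⟨0, 1, 0, 1, 0, -1, -2, -1⟩, 2986, 0),
  (⟨0, 1, 0, 1, 0, -1, -2, 1⟩, 0, 938),
  (⟨0, 1, 0, 1, 0, -1, 2, -1⟩, 2986, 0),
  (⟨0, 1, 0, 1, 0, -1, 2, 1⟩, 0, 938),
  (⟨0, 1, 0, 1, 0, 1, -2, -1⟩, 0, 2474),
  (⟨0, 1, 0, 1, 0, 1, -2, 1⟩, 2986, 2560),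
  (⟨0, 1, 0, 1, 0, 1, 2, -1⟩, 0, 2474),
  (⟨0, 1, 0, 1, 0, 1, 2, 1⟩, 2986, 2560),
  (⟨0, 1, 0, 1, 2, -1, 0, -1⟩, 2986, 1280),
  (⟨0, 1, 0, 1, 2, -1, 0, 1⟩, 0, 1706),
  (⟨0, 1, 0, 1, 2, 1, 0, -1⟩, 0, 3242),
  (⟨0, 1, 0, 1, 2, 1, 0, 1⟩, 2986, 3840),
  (⟨0, 1, 0, 2, -1, -1, -1, 0⟩, 1752, 3242),
  (⟨0, 1, 0, 2, -1, -1, 1, 0⟩, 1421, 3071),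
  (⟨0, 1, 0, 2, -1, 1, -1, 0⟩, 3442, 1280),
  (⟨0, 1, 0, 2, -1, 1, 1, 0⟩, 3623, 597),
  (⟨0, 1, 0, 2, 1, -1, -1, 0⟩, 1421, 3839),
  (⟨0, 1, 0, 2, 1, -1, 1, 0⟩, 1752, 2474),
  (⟨0, 1, 0, 2, 1, 1, -1, 0⟩, 3623, 1877),
  (⟨0, 1, 0, 2, 1, 1, 1, 0⟩, 3442, 0),
  (⟨0, 1, 1, -2, 0, 0, -1, -1⟩, 2361, 3071),
  (⟨0, 1, 1, -2, 0, 0, -1, 1⟩, 659, 2133),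
  (⟨0, 1, 1, -2, 0, 0, 1, -1⟩, 2668, 3242),
  (⟨0, 1, 1, -2, 0, 0, 1, 1⟩, 454, 3840),
  (⟨0, 1, 1, -1, -1, -2, 0, 0⟩, 4065, 3839),
  (⟨0, 1, 1, -1, -1, 0, -2, 0⟩, 1822, 0),
  (⟨0, 1, 1, -1, -1, 0, 0, -2⟩, 4065, 1279),
  (⟨0, 1, 1, -1, -1, 0, 0, 2⟩, 4065, 1279),
  (⟨0, 1, 1, -1, -1, 0, 2, 0⟩, 1822, 0),
  (⟨0, 1, 1, -1, -1, 2, 0, 0⟩, 4065, 3839),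
  (⟨0, 1, 1, -1, 1, -2, 0, 0⟩, 3252, 3242),
  (⟨0, 1, 1, -1, 1, 0, -2, 0⟩, 1099, 597),
  (⟨0, 1, 1, -1, 1, 0, 0, -2⟩, 3252, 1706),
  (⟨0, 1, 1, -1, 1, 0, 0, 2⟩, 3252, 1706),
  (⟨0, 1, 1, -1, 1, 0, 2, 0⟩, 1099, 597),
  (⟨0, 1, 1, -1, 1, 2, 0, 0⟩, 3252, 3242),
  (⟨0, 1, 1, 0, -2, 0, -1, -1⟩, 454, 3840),
  (⟨0, 1, 1, 0, -2, 0, -1, 1⟩, 2668, 3242),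
  (⟨0, 1, 1, 0, -2, 0, 1, -1⟩, 659, 2133),
  (⟨0, 1, 1, 0, -2, 0, 1, 1⟩, 2361, 3071),
  (⟨0, 1, 1, 0, 0, -2, -1, -1⟩, 2361, 1279),
  (⟨0, 1, 1, 0, 0, -2, -1, 1⟩, 659, 1877),
  (⟨0, 1, 1, 0, 0, -2, 1, -1⟩, 2668, 938),
  (⟨0, 1, 1, 0, 0, -2, 1, 1⟩, 454, 0),
  (⟨0, 1, 1, 0, 0, 2, -1, -1⟩, 2361, 1279),
  (⟨0, 1, 1, 0, 0, 2, -1, 1⟩, 659, 1877),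
  (⟨0, 1, 1, 0, 0, 2, 1, -1⟩, 2668, 938),
  (⟨0, 1, 1, 0, 0, 2, 1, 1⟩, 454, 0),
  (⟨0, 1, 1, 0, 2, 0, -1, -1⟩, 454, 3840),
  (⟨0, 1, 1, 0, 2, 0, -1, 1⟩, 2668, 3242),
  (⟨0, 1, 1, 0, 2, 0, 1, -1⟩, 659, 2133),
  (⟨0, 1, 1, 0, 2, 0, 1, 1⟩, 2361, 3071),
  (⟨0, 1, 1, 1, -1, -2, 0, 0⟩, 1099, 2133),
  (⟨0, 1, 1, 1, -1, 0, -2, 0⟩, 3252, 1706),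
  (⟨0, 1, 1, 1, -1, 0, 0, -2⟩, 1099, 597),
  (⟨0, 1, 1, 1, -1, 0, 0, 2⟩, 1099, 597),
  (⟨0, 1, 1, 1, -1, 0, 2, 0⟩, 3252, 1706),
  (⟨0, 1, 1, 1, -1, 2, 0, 0⟩, 1099, 2133),
  (⟨0, 1, 1, 1, 1, -2, 0, 0⟩, 1822, 2560),
  (⟨0, 1, 1, 1, 1, 0, -2, 0⟩, 4065, 1279),
  (⟨0, 1, 1, 1, 1, 0, 0, -2⟩, 1822, 0),
  (⟨0, 1, 1, 1, 1, 0, 0, 2⟩, 1822, 0),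
  (⟨0, 1, 1, 1, 1, 0, 2, 0⟩, 4065, 1279),
  (⟨0, 1, 1, 1, 1, 2, 0, 0⟩, 1822, 2560),
  (⟨0, 1, 1, 2, 0, 0, -1, -1⟩, 2361, 3071),
  (⟨0, 1, 1, 2, 0, 0, -1, 1⟩, 659, 2133),
  (⟨0, 1, 1, 2, 0, 0, 1, -1⟩, 2668, 3242),
  (⟨0, 1, 1, 2, 0, 0, 1, 1⟩, 454, 3840),
  (⟨0, 1, 2, -1, 0, -1, 0, -1⟩, 0, 2474),
  (⟨0, 1, 2, -1, 0, -1, 0, 1⟩, 2986, 2560),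
  (⟨0, 1, 2, -1, 0, 1, 0, -1⟩, 2986, 0),
  (⟨0, 1, 2, -1, 0, 1, 0, 1⟩, 0, 938),
  (⟨0, 1, 2, 0, -1, -1, -1, 0⟩, 3623, 597),
  (⟨0, 1, 2, 0, -1, -1, 1, 0⟩, 3442, 1280),
  (⟨0, 1, 2, 0, -1, 1, -1, 0⟩, 1421, 3071),
  (⟨0, 1, 2, 0, -1, 1, 1, 0⟩, 1752, 3242),
  (⟨0, 1, 2, 0, 1, -1, -1, 0⟩, 3442, 0),
  (⟨0, 1, 2, 0, 1, -1, 1, 0⟩, 3623, 1877),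
  (⟨0, 1, 2, 0, 1, 1, -1, 0⟩, 1752, 2474),
  (⟨0, 1, 2, 0, 1, 1, 1, 0⟩, 1421, 3839),
  (⟨0, 1, 2, 1, 0, -1, 0, -1⟩, 2986, 3840),
  (⟨0, 1, 2, 1, 0, -1, 0, 1⟩, 0, 3242),
  (⟨0, 1, 2, 1, 0, 1, 0, -1⟩, 0, 1706),
  (⟨0, 1, 2, 1, 0, 1, 0, 1⟩, 2986, 1280),
  (⟨0, 2, -2, 0, 0, 0, 0, 0⟩, 2303, 1279),
  (⟨0, 2, -1, -1, 0, -1, -1, 0⟩, 2361, 1877),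
  (⟨0, 2, -1, -1, 0, -1, 1, 0⟩, 2668, 0),
  (⟨0, 2, -1, -1, 0, 1, -1, 0⟩, 659, 3839),
  (⟨0, 2, -1, -1, 0, 1, 1, 0⟩, 454, 2474),
  (⟨0, 2, -1, 0, -1, -1, 0, -1⟩, 4065, 2133),
  (⟨0, 2, -1, 0, -1, -1, 0, 1⟩, 1099, 3071),
  (⟨0, 2, -1, 0, -1, 1, 0, -1⟩, 1099, 511),
  (⟨0, 2, -1, 0, -1, 1, 0, 1⟩, 4065, 597),
  (⟨0, 2, -1, 0, 1, -1, 0, -1⟩, 3252, 2560),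
  (⟨0, 2, -1, 0, 1, -1, 0, 1⟩, 1822, 2474),
  (⟨0, 2, -1, 0, 1, 1, 0, -1⟩, 1822, 938),
  (⟨0, 2, -1, 0, 1, 1, 0, 1⟩, 3252, 0),
  (⟨0, 2, -1, 1, 0, -1, -1, 0⟩, 659, 511),
  (⟨0, 2, -1, 1, 0, -1, 1, 0⟩, 454, 1706),
  (⟨0, 2, -1, 1, 0, 1, -1, 0⟩, 2361, 2133),
  (⟨0, 2, -1, 1, 0, 1, 1, 0⟩, 2668, 3840),
  (⟨0, 2, 0, -2, 0, 0, 0, 0⟩, 0, 2560),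
  (⟨0, 2, 0, -1, -1, 0, -1, -1⟩, 1421, 597),
  (⟨0, 2, 0, -1, -1, 0, -1, 1⟩, 3623, 511),
  (⟨0, 2, 0, -1, -1, 0, 1, -1⟩, 1752, 1280),
  (⟨0, 2, 0, -1, -1, 0, 1, 1⟩, 3442, 1706),
  (⟨0, 2, 0, -1, 1, 0, -1, -1⟩, 1752, 0),
  (⟨0, 2, 0, -1, 1, 0, -1, 1⟩, 3442, 938),
  (⟨0, 2, 0, -1, 1, 0, 1, -1⟩, 1421, 1877),
  (⟨0, 2, 0, -1, 1, 0, 1, 1⟩, 3623, 1279),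
  (⟨0, 2, 0, 0, -2, 0, 0, 0⟩, 2303, 3839),
  (⟨0, 2, 0, 0, 0, -2, 0, 0⟩, 0, 1280),
  (⟨0, 2, 0, 0, 0, 0, -2, 0⟩, 2303, 3071),
  (⟨0, 2, 0, 0, 0, 0, 0, -2⟩, 0, 3840),
  (⟨0, 2, 0, 0, 0, 0, 0, 2⟩, 0, 3840),
  (⟨0, 2, 0, 0, 0, 0, 2, 0⟩, 2303, 3071),
  (⟨0, 2, 0, 0, 0, 2, 0, 0⟩, 0, 1280),
  (⟨0, 2, 0, 0, 2, 0, 0, 0⟩, 2303, 3839),
  (⟨0, 2, 0, 1, -1, 0, -1, -1⟩, 3623, 1279),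
  (⟨0, 2, 0, 1, -1, 0, -1, 1⟩, 1421, 1877),
  (⟨0, 2, 0, 1, -1, 0, 1, -1⟩, 3442, 938),
  (⟨0, 2, 0, 1, -1, 0, 1, 1⟩, 1752, 0),
  (⟨0, 2, 0, 1, 1, 0, -1, -1⟩, 3442, 1706),
  (⟨0, 2, 0, 1, 1, 0, -1, 1⟩, 1752, 1280),
  (⟨0, 2, 0, 1, 1, 0, 1, -1⟩, 3623, 511),
  (⟨0, 2, 0, 1, 1, 0, 1, 1⟩, 1421, 597),
  (⟨0, 2, 0, 2, 0, 0, 0, 0⟩, 0, 2560),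
  (⟨0, 2, 1, -1, 0, -1, -1, 0⟩, 2668, 3840),
  (⟨0, 2, 1, -1, 0, -1, 1, 0⟩, 2361, 2133),
  (⟨0, 2, 1, -1, 0, 1, -1, 0⟩, 454, 1706),
  (⟨0, 2, 1, -1, 0, 1, 1, 0⟩, 659, 511),
  (⟨0, 2, 1, 0, -1, -1, 0, -1⟩, 3252, 0),
  (⟨0, 2, 1, 0, -1, -1, 0, 1⟩, 1822, 938),
  (⟨0, 2, 1, 0, -1, 1, 0, -1⟩, 1822, 2474),
  (⟨0, 2, 1, 0, -1, 1, 0, 1⟩, 3252, 2560),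
  (⟨0, 2, 1, 0, 1, -1, 0, -1⟩, 4065, 597),
  (⟨0, 2, 1, 0, 1, -1, 0, 1⟩, 1099, 511),
  (⟨0, 2, 1, 0, 1, 1, 0, -1⟩, 1099, 3071),
  (⟨0, 2, 1, 0, 1, 1, 0, 1⟩, 4065, 2133),
  (⟨0, 2, 1, 1, 0, -1, -1, 0⟩, 454, 2474),
  (⟨0, 2, 1, 1, 0, -1, 1, 0⟩, 659, 3839),
  (⟨0, 2, 1, 1, 0, 1, -1, 0⟩, 2668, 0),
  (⟨0, 2, 1, 1, 0, 1, 1, 0⟩, 2361, 1877),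
  (⟨0, 2, 2, 0, 0, 0, 0, 0⟩, 2303, 1279),
  (⟨1, -2, -1, -1, 0, 0, 0, -1⟩, 3442, 3071),
  (⟨1, -2, -1, -1, 0, 0, 0, 1⟩, 1752, 2133),
  (⟨1, -2, -1, 0, -1, 0, -1, 0⟩, 853, 0),
  (⟨1, -2, -1, 0, -1, 0, 1, 0⟩, 0, 1877),
  (⟨1, -2, -1, 0, 1, 0, -1, 0⟩, 0, 597),
  (⟨1, -2, -1, 0, 1, 0, 1, 0⟩, 853, 1280),
  (⟨1, -2, -1, 1, 0, 0, 0, -1⟩, 1752, 3413),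
  (⟨1, -2, -1, 1, 0, 0, 0, 1⟩, 3442, 3839),
  (⟨1, -2, 0, -1, -1, -1, 0, 0⟩, 454, 1279),
  (⟨1, -2, 0, -1, -1, 1, 0, 0⟩, 2668, 3413),
  (⟨1, -2, 0, -1, 1, -1, 0, 0⟩, 659, 1706),
  (⟨1, -2, 0, -1, 1, 1, 0, 0⟩, 2361, 3840),
  (⟨1, -2, 0, 0, 0, -1, -1, -1⟩, 1822, 3839),
  (⟨1, -2, 0, 0, 0, -1, -1, 1⟩, 3252, 3413),
  (⟨1, -2, 0, 0, 0, -1, 1, -1⟩, 1099, 2474),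
  (⟨1, -2, 0, 0, 0, -1, 1, 1⟩, 4065, 2560),
  (⟨1, -2, 0, 0, 0, 1, -1, -1⟩, 3252, 1877),
  (⟨1, -2, 0, 0, 0, 1, -1, 1⟩, 1822, 1279),
  (⟨1, -2, 0, 0, 0, 1, 1, -1⟩, 4065, 0),
  (⟨1, -2, 0, 0, 0, 1, 1, 1⟩, 1099, 938),
  (⟨1, -2, 0, 1, -1, -1, 0, 0⟩, 2668, 597),
  (⟨1, -2, 0, 1, -1, 1, 0, 0⟩, 454, 3071),
  (⟨1, -2, 0, 1, 1, -1, 0, 0⟩, 2361, 0),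
  (⟨1, -2, 0, 1, 1, 1, 0, 0⟩, 659, 2474),
  (⟨1, -2, 1, -1, 0, 0, 0, -1⟩, 3623, 938),
  (⟨1, -2, 1, -1, 0, 0, 0, 1⟩, 1421, 0),
  (⟨1, -2, 1, 0, -1, 0, -1, 0⟩, 0, 2133),
  (⟨1, -2, 1, 0, -1, 0, 1, 0⟩, 853, 3840),
  (⟨1, -2, 1, 0, 1, 0, -1, 0⟩, 853, 2560),
  (⟨1, -2, 1, 0, 1, 0, 1, 0⟩, 0, 3413),
  (⟨1, -2, 1, 1, 0, 0, 0, -1⟩, 1421, 1280),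
  (⟨1, -2, 1, 1, 0, 0, 0, 1⟩, 3623, 1706),
  (⟨1, -1, -2, -1, 0, 0, -1, 0⟩, 1822, 3413),
  (⟨1, -1, -2, -1, 0, 0, 1, 0⟩, 1099, 2560),
  (⟨1, -1, -2, 0, -1, 0, 0, -1⟩, 454, 597),
  (⟨1, -1, -2, 0, -1, 0, 0, 1⟩, 2668, 511),
  (⟨1, -1, -2, 0, 1, 0, 0, -1⟩, 659, 0),
  (⟨1, -1, -2, 0, 1, 0, 0, 1⟩, 2361, 938),
  (⟨1, -1, -2, 1, 0, 0, -1, 0⟩, 3252, 3071),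
  (⟨1, -1, -2, 1, 0, 0, 1, 0⟩, 4065, 3242),
  (⟨1, -1, -1, -2, 0, -1, 0, 0⟩, 1421, 2474),
  (⟨1, -1, -1, -2, 0, 1, 0, 0⟩, 3623, 0),
  (⟨1, -1, -1, -1, -1, -1, -1, -1⟩, 0, 511),
  (⟨1, -1, -1, -1, -1, -1, -1, 1⟩, 2986, 597),
  (⟨1, -1, -1, -1, -1, -1, 1, -1⟩, 853, 1706),
  (⟨1, -1, -1, -1, -1, -1, 1, 1⟩, 2303, 1280),
  (⟨1, -1, -1, -1, -1, 1, -1, -1⟩, 2986, 2133),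
  (⟨1, -1, -1, -1, -1, 1, -1, 1⟩, 0, 3071),
  (⟨1, -1, -1, -1, -1, 1, 1, -1⟩, 2303, 3840),
  (⟨1, -1, -1, -1, -1, 1, 1, 1⟩, 853, 3242),
  (⟨1, -1, -1, -1, 1, -1, -1, -1⟩, 853, 938),
  (⟨1, -1, -1, -1, 1, -1, -1, 1⟩, 2303, 0),
  (⟨1, -1, -1, -1, 1, -1, 1, -1⟩, 0, 1279),
  (⟨1, -1, -1, -1, 1, -1, 1, 1⟩, 2986, 1877),
  (⟨1, -1, -1, -1, 1, 1, -1, -1⟩, 2303, 2560),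
  (⟨1, -1, -1, -1, 1, 1, -1, 1⟩, 853, 2474),
  (⟨1, -1, -1, -1, 1, 1, 1, -1⟩, 2986, 3413),
  (⟨1, -1, -1, -1, 1, 1, 1, 1⟩, 0, 3839),
  (⟨1, -1, -1, 0, -2, -1, 0, 0⟩, 3442, 3413),
  (⟨1, -1, -1, 0, -2, 1, 0, 0⟩, 1752, 1279),
  (⟨1, -1, -1, 0, 0, -1, -2, 0⟩, 3442, 2133),
  (⟨1, -1, -1, 0, 0, -1, 0, -2⟩, 1421, 3242),
  (⟨1, -1, -1, 0, 0, -1, 0, 2⟩, 1421, 3242),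
  (⟨1, -1, -1, 0, 0, -1, 2, 0⟩, 3442, 2133),
  (⟨1, -1, -1, 0, 0, 1, -2, 0⟩, 1752, 511),
  (⟨1, -1, -1, 0, 0, 1, 0, -2⟩, 3623, 1280),
  (⟨1, -1, -1, 0, 0, 1, 0, 2⟩, 3623, 1280),
  (⟨1, -1, -1, 0, 0, 1, 2, 0⟩, 1752, 511),
  (⟨1, -1, -1, 0, 2, -1, 0, 0⟩, 3442, 3413),
  (⟨1, -1, -1, 0, 2, 1, 0, 0⟩, 1752, 1279),
  (⟨1, -1, -1, 1, -1, -1, -1, -1⟩, 2986, 1877),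
  (⟨1, -1, -1, 1, -1, -1, -1, 1⟩, 0, 1279),
  (⟨1, -1, -1, 1, -1, -1, 1, -1⟩, 2303, 0),
  (⟨1, -1, -1, 1, -1, -1, 1, 1⟩, 853, 938),
  (⟨1, -1, -1, 1, -1, 1, -1, -1⟩, 0, 3839),
  (⟨1, -1, -1, 1, -1, 1, -1, 1⟩, 2986, 3413),
  (⟨1, -1, -1, 1, -1, 1, 1, -1⟩, 853, 2474),
  (⟨1, -1, -1, 1, -1, 1, 1, 1⟩, 2303, 2560),
  (⟨1, -1, -1, 1, 1, -1, -1, -1⟩, 2303, 1280),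
  (⟨1, -1, -1, 1, 1, -1, -1, 1⟩, 853, 1706),
  (⟨1, -1, -1, 1, 1, -1, 1, -1⟩, 2986, 597),
  (⟨1, -1, -1, 1, 1, -1, 1, 1⟩, 0, 511),
  (⟨1, -1, -1, 1, 1, 1, -1, -1⟩, 853, 3242),
  (⟨1, -1, -1, 1, 1, 1, -1, 1⟩, 2303, 3840),
  (⟨1, -1, -1, 1, 1, 1, 1, -1⟩, 0, 3071),
  (⟨1, -1, -1, 1, 1, 1, 1, 1⟩, 2986, 2133),
  (⟨1, -1, -1, 2, 0, -1, 0, 0⟩, 1421, 2474),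
  (⟨1, -1, -1, 2, 0, 1, 0, 0⟩, 3623, 0),
  (⟨1, -1, 0, -2, -1, 0, 0, -1⟩, 2361, 3242),
  (⟨1, -1, 0, -2, -1, 0, 0, 1⟩, 659, 3840),
  (⟨1, -1, 0, -2, 1, 0, 0, -1⟩, 2668, 3839),
  (⟨1, -1, 0, -2, 1, 0, 0, 1⟩, 454, 3413),
  (⟨1, -1, 0, -1, -2, 0, -1, 0⟩, 1822, 1877),
  (⟨1, -1, 0, -1, -2, 0, 1, 0⟩, 1099, 0),
  (⟨1, -1, 0, -1, 0, -2, -1, 0⟩, 4065, 3242),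
  (⟨1, -1, 0, -1, 0, -2, 1, 0⟩, 3252, 3071),
  (⟨1, -1, 0, -1, 0, 0, -1, -2⟩, 4065, 1706),
  (⟨1, -1, 0, -1, 0, 0, -1, 2⟩, 4065, 1706),
  (⟨1, -1, 0, -1, 0, 0, 1, -2⟩, 3252, 511),
  (⟨1, -1, 0, -1, 0, 0, 1, 2⟩, 3252, 511),
  (⟨1, -1, 0, -1, 0, 2, -1, 0⟩, 4065, 3242),
  (⟨1, -1, 0, -1, 0, 2, 1, 0⟩, 3252, 3071),
  (⟨1, -1, 0, -1, 2, 0, -1, 0⟩, 1822, 1877),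
  (⟨1, -1, 0, -1, 2, 0, 1, 0⟩, 1099, 0),
  (⟨1, -1, 0, 0, -1, -2, 0, -1⟩, 2361, 938),
  (⟨1, -1, 0, 0, -1, -2, 0, 1⟩, 659, 0),
  (⟨1, -1, 0, 0, -1, 0, -2, -1⟩, 454, 3413),
  (⟨1, -1, 0, 0, -1, 0, -2, 1⟩, 2668, 3839),
  (⟨1, -1, 0, 0, -1, 0, 2, -1⟩, 454, 3413),
  (⟨1, -1, 0, 0, -1, 0, 2, 1⟩, 2668, 3839),
  (⟨1, -1, 0, 0, -1, 2, 0, -1⟩, 2361, 938),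
  (⟨1, -1, 0, 0, -1, 2, 0, 1⟩, 659, 0),
  (⟨1, -1, 0, 0, 1, -2, 0, -1⟩, 2668, 511),
  (⟨1, -1, 0, 0, 1, -2, 0, 1⟩, 454, 597),
  (⟨1, -1, 0, 0, 1, 0, -2, -1⟩, 659, 3840),
  (⟨1, -1, 0, 0, 1, 0, -2, 1⟩, 2361, 3242),
  (⟨1, -1, 0, 0, 1, 0, 2, -1⟩, 659, 3840),
  (⟨1, -1, 0, 0, 1, 0, 2, 1⟩, 2361, 3242),
  (⟨1, -1, 0, 0, 1, 2, 0, -1⟩, 2668, 511),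
  (⟨1, -1, 0, 0, 1, 2, 0, 1⟩, 454, 597),
  (⟨1, -1, 0, 1, -2, 0, -1, 0⟩, 3252, 511),
  (⟨1, -1, 0, 1, -2, 0, 1, 0⟩, 4065, 1706),
  (⟨1, -1, 0, 1, 0, -2, -1, 0⟩, 1099, 2560),
  (⟨1, -1, 0, 1, 0, -2, 1, 0⟩, 1822, 3413),
  (⟨1, -1, 0, 1, 0, 0, -1, -2⟩, 1099, 0),
  (⟨1, -1, 0, 1, 0, 0, -1, 2⟩, 1099, 0),
  (⟨1, -1, 0, 1, 0, 0, 1, -2⟩, 1822, 1877),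
  (⟨1, -1, 0, 1, 0, 0, 1, 2⟩, 1822, 1877),
  (⟨1, -1, 0, 1, 0, 2, -1, 0⟩, 1099, 2560),
  (⟨1, -1, 0, 1, 0, 2, 1, 0⟩, 1822, 3413),
  (⟨1, -1, 0, 1, 2, 0, -1, 0⟩, 3252, 511),
  (⟨1, -1, 0, 1, 2, 0, 1, 0⟩, 4065, 1706),
  (⟨1, -1, 0, 2, -1, 0, 0, -1⟩, 2361, 3242),
  (⟨1, -1, 0, 2, -1, 0, 0, 1⟩, 659, 3840),
  (⟨1, -1, 0, 2, 1, 0, 0, -1⟩, 2668, 3839),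
  (⟨1, -1, 0, 2, 1, 0, 0, 1⟩, 454, 3413),
  (⟨1, -1, 1, -2, 0, -1, 0, 0⟩, 1752, 511),
  (⟨1, -1, 1, -2, 0, 1, 0, 0⟩, 3442, 2133),
  (⟨1, -1, 1, -1, -1, -1, -1, -1⟩, 853, 2474),
  (⟨1, -1, 1, -1, -1, -1, -1, 1⟩, 2303, 2560),
  (⟨1, -1, 1, -1, -1, -1, 1, -1⟩, 0, 3839),
  (⟨1, -1, 1, -1, -1, -1, 1, 1⟩, 2986, 3413),
  (⟨1, -1, 1, -1, -1, 1, -1, -1⟩, 2303, 0),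
  (⟨1, -1, 1, -1, -1, 1, -1, 1⟩, 853, 938),
  (⟨1, -1, 1, -1, -1, 1, 1, -1⟩, 2986, 1877),
  (⟨1, -1, 1, -1, -1, 1, 1, 1⟩, 0, 1279),
  (⟨1, -1, 1, -1, 1, -1, -1, -1⟩, 0, 3071),
  (⟨1, -1, 1, -1, 1, -1, -1, 1⟩, 2986, 2133),
  (⟨1, -1, 1, -1, 1, -1, 1, -1⟩, 853, 3242),
  (⟨1, -1, 1, -1, 1, -1, 1, 1⟩, 2303, 3840),
  (⟨1, -1, 1, -1, 1, 1, -1, -1⟩, 2986, 597),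
  (⟨1, -1, 1, -1, 1, 1, -1, 1⟩, 0, 511),
  (⟨1, -1, 1, -1, 1, 1, 1, -1⟩, 2303, 1280),
  (⟨1, -1, 1, -1, 1, 1, 1, 1⟩, 853, 1706),
  (⟨1, -1, 1, 0, -2, -1, 0, 0⟩, 3623, 1280),
  (⟨1, -1, 1, 0, -2, 1, 0, 0⟩, 1421, 3242),
  (⟨1, -1, 1, 0, 0, -1, -2, 0⟩, 3623, 0),
  (⟨1, -1, 1, 0, 0, -1, 0, -2⟩, 1752, 1279),
  (⟨1, -1, 1, 0, 0, -1, 0, 2⟩, 1752, 1279),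
  (⟨1, -1, 1, 0, 0, -1, 2, 0⟩, 3623, 0),
  (⟨1, -1, 1, 0, 0, 1, -2, 0⟩, 1421, 2474),
  (⟨1, -1, 1, 0, 0, 1, 0, -2⟩, 3442, 3413),
  (⟨1, -1, 1, 0, 0, 1, 0, 2⟩, 3442, 3413),
  (⟨1, -1, 1, 0, 0, 1, 2, 0⟩, 1421, 2474),
  (⟨1, -1, 1, 0, 2, -1, 0, 0⟩, 3623, 1280),
  (⟨1, -1, 1, 0, 2, 1, 0, 0⟩, 1421, 3242),
  (⟨1, -1, 1, 1, -1, -1, -1, -1⟩, 2303, 3840),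
  (⟨1, -1, 1, 1, -1, -1, -1, 1⟩, 853, 3242),
  (⟨1, -1, 1, 1, -1, -1, 1, -1⟩, 2986, 2133),
  (⟨1, -1, 1, 1, -1, -1, 1, 1⟩, 0, 3071),
  (⟨1, -1, 1, 1, -1, 1, -1, -1⟩, 853, 1706),
  (⟨1, -1, 1, 1, -1, 1, -1, 1⟩, 2303, 1280),
  (⟨1, -1, 1, 1, -1, 1, 1, -1⟩, 0, 511),
  (⟨1, -1, 1, 1, -1, 1, 1, 1⟩, 2986, 597),
  (⟨1, -1, 1, 1, 1, -1, -1, -1⟩, 2986, 3413),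
  (⟨1, -1, 1, 1, 1, -1, -1, 1⟩, 0, 3839),
  (⟨1, -1, 1, 1, 1, -1, 1, -1⟩, 2303, 2560),
  (⟨1, -1, 1, 1, 1, -1, 1, 1⟩, 853, 2474),
  (⟨1, -1, 1, 1, 1, 1, -1, -1⟩, 0, 1279),
  (⟨1, -1, 1, 1, 1, 1, -1, 1⟩, 2986, 1877),
  (⟨1, -1, 1, 1, 1, 1, 1, -1⟩, 853, 938),
  (⟨1, -1, 1, 1, 1, 1, 1, 1⟩, 2303, 0),
  (⟨1, -1, 1, 2, 0, -1, 0, 0⟩, 1752, 511),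
  (⟨1, -1, 1, 2, 0, 1, 0, 0⟩, 3442, 2133),
  (⟨1, -1, 2, -1, 0, 0, -1, 0⟩, 1822, 3413),
  (⟨1, -1, 2, -1, 0, 0, 1, 0⟩, 1099, 2560),
  (⟨1, -1, 2, 0, -1, 0, 0, -1⟩, 454, 597),
  (⟨1, -1, 2, 0, -1, 0, 0, 1⟩, 2668, 511),
  (⟨1, -1, 2, 0, 1, 0, 0, -1⟩, 659, 0),
  (⟨1, -1, 2, 0, 1, 0, 0, 1⟩, 2361, 938),
  (⟨1, -1, 2, 1, 0, 0, -1, 0⟩, 3252, 3071),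
  (⟨1, -1, 2, 1, 0, 0, 1, 0⟩, 4065, 3242),
  (⟨1, 0, -2, -1, -1, -1, 0, 0⟩, 2361, 0),
  (⟨1, 0, -2, -1, -1, 1, 0, 0⟩, 659, 2474),
  (⟨1, 0, -2, -1, 1, -1, 0, 0⟩, 2668, 597),
  (⟨1, 0, -2, -1, 1, 1, 0, 0⟩, 454, 3071),
  (⟨1, 0, -2, 0, 0, -1, -1, -1⟩, 4065, 2560),
  (⟨1, 0, -2, 0, 0, -1, -1, 1⟩, 1099, 2474),
  (⟨1, 0, -2, 0, 0, -1, 1, -1⟩, 3252, 3413),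
  (⟨1, 0, -2, 0, 0, -1, 1, 1⟩, 1822, 3839),
  (⟨1, 0, -2, 0, 0, 1, -1, -1⟩, 1099, 938),
  (⟨1, 0, -2, 0, 0, 1, -1, 1⟩, 4065, 0),
  (⟨1, 0, -2, 0, 0, 1, 1, -1⟩, 1822, 1279),
  (⟨1, 0, -2, 0, 0, 1, 1, 1⟩, 3252, 1877),
  (⟨1, 0, -2, 1, -1, -1, 0, 0⟩, 659, 1706),
  (⟨1, 0, -2, 1, -1, 1, 0, 0⟩, 2361, 3840),
  (⟨1, 0, -2, 1, 1, -1, 0, 0⟩, 454, 1279),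
  (⟨1, 0, -2, 1, 1, 1, 0, 0⟩, 2668, 3413),
  (⟨1, 0, -1, -2, -1, 0, -1, 0⟩, 853, 2560),
  (⟨1, 0, -1, -2, -1, 0, 1, 0⟩, 0, 3413),
  (⟨1, 0, -1, -2, 1, 0, -1, 0⟩, 0, 2133),
  (⟨1, 0, -1, -2, 1, 0, 1, 0⟩, 853, 3840),
  (⟨1, 0, -1, -1, -2, 0, 0, -1⟩, 1421, 1280),
  (⟨1, 0, -1, -1, -2, 0, 0, 1⟩, 3623, 1706),
  (⟨1, 0, -1, -1, 0, -2, 0, -1⟩, 3442, 3839),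
  (⟨1, 0, -1, -1, 0, -2, 0, 1⟩, 1752, 3413),
  (⟨1, 0, -1, -1, 0, 0, -2, -1⟩, 1421, 0),
  (⟨1, 0, -1, -1, 0, 0, -2, 1⟩, 3623, 938),
  (⟨1, 0, -1, -1, 0, 0, 2, -1⟩, 1421, 0),
  (⟨1, 0, -1, -1, 0, 0, 2, 1⟩, 3623, 938),
  (⟨1, 0, -1, -1, 0, 2, 0, -1⟩, 3442, 3839),
  (⟨1, 0, -1, -1, 0, 2, 0, 1⟩, 1752, 3413),
  (⟨1, 0, -1, -1, 2, 0, 0, -1⟩, 1421, 1280),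
  (⟨1, 0, -1, -1, 2, 0, 0, 1⟩, 3623, 1706),
  (⟨1, 0, -1, 0, -1, -2, -1, 0⟩, 853, 1280),
  (⟨1, 0, -1, 0, -1, -2, 1, 0⟩, 0, 597),
  (⟨1, 0, -1, 0, -1, 0, -1, -2⟩, 853, 3840),
  (⟨1, 0, -1, 0, -1, 0, -1, 2⟩, 853, 3840),
  (⟨1, 0, -1, 0, -1, 0, 1, -2⟩, 0, 2133),
  (⟨1, 0, -1, 0, -1, 0, 1, 2⟩, 0, 2133),
  (⟨1, 0, -1, 0, -1, 2, -1, 0⟩, 853, 1280),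
  (⟨1, 0, -1, 0, -1, 2, 1, 0⟩, 0, 597),
  (⟨1, 0, -1, 0, 1, -2, -1, 0⟩, 0, 1877),
  (⟨1, 0, -1, 0, 1, -2, 1, 0⟩, 853, 0),
  (⟨1, 0, -1, 0, 1, 0, -1, -2⟩, 0, 3413),
  (⟨1, 0, -1, 0, 1, 0, -1, 2⟩, 0, 3413),
  (⟨1, 0, -1, 0, 1, 0, 1, -2⟩, 853, 2560),
  (⟨1, 0, -1, 0, 1, 0, 1, 2⟩, 853, 2560),
  (⟨1, 0, -1, 0, 1, 2, -1, 0⟩, 0, 1877),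
  (⟨1, 0, -1, 0, 1, 2, 1, 0⟩, 853, 0),
  (⟨1, 0, -1, 1, -2, 0, 0, -1⟩, 3623, 938),
  (⟨1, 0, -1, 1, -2, 0, 0, 1⟩, 1421, 0),
  (⟨1, 0, -1, 1, 0, -2, 0, -1⟩, 1752, 2133),
  (⟨1, 0, -1, 1, 0, -2, 0, 1⟩, 3442, 3071),
  (⟨1, 0, -1, 1, 0, 0, -2, -1⟩, 3623, 1706),
  (⟨1, 0, -1, 1, 0, 0, -2, 1⟩, 1421, 1280),
  (⟨1, 0, -1, 1, 0, 0, 2, -1⟩, 3623, 1706),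
  (⟨1, 0, -1, 1, 0, 0, 2, 1⟩, 1421, 1280),
  (⟨1, 0, -1, 1, 0, 2, 0, -1⟩, 1752, 2133),
  (⟨1, 0, -1, 1, 0, 2, 0, 1⟩, 3442, 3071),
  (⟨1, 0, -1, 1, 2, 0, 0, -1⟩, 3623, 938),
  (⟨1, 0, -1, 1, 2, 0, 0, 1⟩, 1421, 0),
  (⟨1, 0, -1, 2, -1, 0, -1, 0⟩, 853, 2560),
  (⟨1, 0, -1, 2, -1, 0, 1, 0⟩, 0, 3413),
  (⟨1, 0, -1, 2, 1, 0, -1, 0⟩, 0, 2133),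
  (⟨1, 0, -1, 2, 1, 0, 1, 0⟩, 853, 3840),
  (⟨1, 0, 0, -2, 0, -1, -1, -1⟩, 1822, 1279),
  (⟨1, 0, 0, -2, 0, -1, -1, 1⟩, 3252, 1877),
  (⟨1, 0, 0, -2, 0, -1, 1, -1⟩, 1099, 938),
  (⟨1, 0, 0, -2, 0, -1, 1, 1⟩, 4065, 0),
  (⟨1, 0, 0, -2, 0, 1, -1, -1⟩, 3252, 3413),
  (⟨1, 0, 0, -2, 0, 1, -1, 1⟩, 1822, 3839),
  (⟨1, 0, 0, -2, 0, 1, 1, -1⟩, 4065, 2560),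
  (⟨1, 0, 0, -2, 0, 1, 1, 1⟩, 1099, 2474),
  (⟨1, 0, 0, -1, -1, -1, -2, 0⟩, 2361, 3840),
  (⟨1, 0, 0, -1, -1, -1, 0, -2⟩, 454, 3071),
  (⟨1, 0, 0, -1, -1, -1, 0, 2⟩, 454, 3071),
  (⟨1, 0, 0, -1, -1, -1, 2, 0⟩, 2361, 3840),
  (⟨1, 0, 0, -1, -1, 1, -2, 0⟩, 659, 1706),
  (⟨1, 0, 0, -1, -1, 1, 0, -2⟩, 2668, 597),
  (⟨1, 0, 0, -1, -1, 1, 0, 2⟩, 2668, 597),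
  (⟨1, 0, 0, -1, -1, 1, 2, 0⟩, 659, 1706),
  (⟨1, 0, 0, -1, 1, -1, -2, 0⟩, 2668, 3413),
  (⟨1, 0, 0, -1, 1, -1, 0, -2⟩, 659, 2474),
  (⟨1, 0, 0, -1, 1, -1, 0, 2⟩, 659, 2474),
  (⟨1, 0, 0, -1, 1, -1, 2, 0⟩, 2668, 3413),
  (⟨1, 0, 0, -1, 1, 1, -2, 0⟩, 454, 1279),
  (⟨1, 0, 0, -1, 1, 1, 0, -2⟩, 2361, 0),
  (⟨1, 0, 0, -1, 1, 1, 0, 2⟩, 2361, 0),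
  (⟨1, 0, 0, -1, 1, 1, 2, 0⟩, 454, 1279),
  (⟨1, 0, 0, 0, -2, -1, -1, -1⟩, 4065, 0),
  (⟨1, 0, 0, 0, -2, -1, -1, 1⟩, 1099, 938),
  (⟨1, 0, 0, 0, -2, -1, 1, -1⟩, 3252, 1877),
  (⟨1, 0, 0, 0, -2, -1, 1, 1⟩, 1822, 1279),
  (⟨1, 0, 0, 0, -2, 1, -1, -1⟩, 1099, 2474),
  (⟨1, 0, 0, 0, -2, 1, -1, 1⟩, 4065, 2560),
  (⟨1, 0, 0, 0, -2, 1, 1, -1⟩, 1822, 3839),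
  (⟨1, 0, 0, 0, -2, 1, 1, 1⟩, 3252, 3413),
  (⟨1, 0, 0, 0, 2, -1, -1, -1⟩, 4065, 0),
  (⟨1, 0, 0, 0, 2, -1, -1, 1⟩, 1099, 938),
  (⟨1, 0, 0, 0, 2, -1, 1, -1⟩, 3252, 1877),
  (⟨1, 0, 0, 0, 2, -1, 1, 1⟩, 1822, 1279),
  (⟨1, 0, 0, 0, 2, 1, -1, -1⟩, 1099, 2474),
  (⟨1, 0, 0, 0, 2, 1, -1, 1⟩, 4065, 2560),
  (⟨1, 0, 0, 0, 2, 1, 1, -1⟩, 1822, 3839),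
  (⟨1, 0, 0, 0, 2, 1, 1, 1⟩, 3252, 3413),
  (⟨1, 0, 0, 1, -1, -1, -2, 0⟩, 659, 2474),
  (⟨1, 0, 0, 1, -1, -1, 0, -2⟩, 2668, 3413),
  (⟨1, 0, 0, 1, -1, -1, 0, 2⟩, 2668, 3413),
  (⟨1, 0, 0, 1, -1, -1, 2, 0⟩, 659, 2474),
  (⟨1, 0, 0, 1, -1, 1, -2, 0⟩, 2361, 0),
  (⟨1, 0, 0, 1, -1, 1, 0, -2⟩, 454, 1279),
  (⟨1, 0, 0, 1, -1, 1, 0, 2⟩, 454, 1279),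
  (⟨1, 0, 0, 1, -1, 1, 2, 0⟩, 2361, 0),
  (⟨1, 0, 0, 1, 1, -1, -2, 0⟩, 454, 3071),
  (⟨1, 0, 0, 1, 1, -1, 0, -2⟩, 2361, 3840),
  (⟨1, 0, 0, 1, 1, -1, 0, 2⟩, 2361, 3840),
  (⟨1, 0, 0, 1, 1, -1, 2, 0⟩, 454, 3071),
  (⟨1, 0, 0, 1, 1, 1, -2, 0⟩, 2668, 597),
  (⟨1, 0, 0, 1, 1, 1, 0, -2⟩, 659, 1706),
  (⟨1, 0, 0, 1, 1, 1, 0, 2⟩, 659, 1706),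
  (⟨1, 0, 0, 1, 1, 1, 2, 0⟩, 2668, 597),
  (⟨1, 0, 0, 2, 0, -1, -1, -1⟩, 1822, 1279),
  (⟨1, 0, 0, 2, 0, -1, -1, 1⟩, 3252, 1877),
  (⟨1, 0, 0, 2, 0, -1, 1, -1⟩, 1099, 938),
  (⟨1, 0, 0, 2, 0, -1, 1, 1⟩, 4065, 0),
  (⟨1, 0, 0, 2, 0, 1, -1, -1⟩, 3252, 3413),
  (⟨1, 0, 0, 2, 0, 1, -1, 1⟩, 1822, 3839),
  (⟨1, 0, 0, 2, 0, 1, 1, -1⟩, 4065, 2560),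
  (⟨1, 0, 0, 2, 0, 1, 1, 1⟩, 1099, 2474),
  (⟨1, 0, 1, -2, -1, 0, -1, 0⟩, 0, 597),
  (⟨1, 0, 1, -2, -1, 0, 1, 0⟩, 853, 1280),
  (⟨1, 0, 1, -2, 1, 0, -1, 0⟩, 853, 0),
  (⟨1, 0, 1, -2, 1, 0, 1, 0⟩, 0, 1877),
  (⟨1, 0, 1, -1, -2, 0, 0, -1⟩, 1752, 3413),
  (⟨1, 0, 1, -1, -2, 0, 0, 1⟩, 3442, 3839),
  (⟨1, 0, 1, -1, 0, -2, 0, -1⟩, 3623, 1706),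
  (⟨1, 0, 1, -1, 0, -2, 0, 1⟩, 1421, 1280),
  (⟨1, 0, 1, -1, 0, 0, -2, -1⟩, 1752, 2133),
  (⟨1, 0, 1, -1, 0, 0, -2, 1⟩, 3442, 3071),
  (⟨1, 0, 1, -1, 0, 0, 2, -1⟩, 1752, 2133),
  (⟨1, 0, 1, -1, 0, 0, 2, 1⟩, 3442, 3071),
  (⟨1, 0, 1, -1, 0, 2, 0, -1⟩, 3623, 1706),
  (⟨1, 0, 1, -1, 0, 2, 0, 1⟩, 1421, 1280),
  (⟨1, 0, 1, -1, 2, 0, 0, -1⟩, 1752, 3413),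
  (⟨1, 0, 1, -1, 2, 0, 0, 1⟩, 3442, 3839),
  (⟨1, 0, 1, 0, -1, -2, -1, 0⟩, 0, 3413),
  (⟨1, 0, 1, 0, -1, -2, 1, 0⟩, 853, 2560),
  (⟨1, 0, 1, 0, -1, 0, -1, -2⟩, 0, 1877),
  (⟨1, 0, 1, 0, -1, 0, -1, 2⟩, 0, 1877),
  (⟨1, 0, 1, 0, -1, 0, 1, -2⟩, 853, 0),
  (⟨1, 0, 1, 0, -1, 0, 1, 2⟩, 853, 0),
  (⟨1, 0, 1, 0, -1, 2, -1, 0⟩, 0, 3413),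
  (⟨1, 0, 1, 0, -1, 2, 1, 0⟩, 853, 2560),
  (⟨1, 0, 1, 0, 1, -2, -1, 0⟩, 853, 3840),
  (⟨1, 0, 1, 0, 1, -2, 1, 0⟩, 0, 2133),
  (⟨1, 0, 1, 0, 1, 0, -1, -2⟩, 853, 1280),
  (⟨1, 0, 1, 0, 1, 0, -1, 2⟩, 853, 1280),
  (⟨1, 0, 1, 0, 1, 0, 1, -2⟩, 0, 597),
  (⟨1, 0, 1, 0, 1, 0, 1, 2⟩, 0, 597),
  (⟨1, 0, 1, 0, 1, 2, -1, 0⟩, 853, 3840),
  (⟨1, 0, 1, 0, 1, 2, 1, 0⟩, 0, 2133),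
  (⟨1, 0, 1, 1, -2, 0, 0, -1⟩, 3442, 3071),
  (⟨1, 0, 1, 1, -2, 0, 0, 1⟩, 1752, 2133),
  (⟨1, 0, 1, 1, 0, -2, 0, -1⟩, 1421, 0),
  (⟨1, 0, 1, 1, 0, -2, 0, 1⟩, 3623, 938),
  (⟨1, 0, 1, 1, 0, 0, -2, -1⟩, 3442, 3839),
  (⟨1, 0, 1, 1, 0, 0, -2, 1⟩, 1752, 3413),
  (⟨1, 0, 1, 1, 0, 0, 2, -1⟩, 3442, 3839),
  (⟨1, 0, 1, 1, 0, 0, 2, 1⟩, 1752, 3413),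
  (⟨1, 0, 1, 1, 0, 2, 0, -1⟩, 1421, 0),
  (⟨1, 0, 1, 1, 0, 2, 0, 1⟩, 3623, 938),
  (⟨1, 0, 1, 1, 2, 0, 0, -1⟩, 3442, 3071),
  (⟨1, 0, 1, 1, 2, 0, 0, 1⟩, 1752, 2133),
  (⟨1, 0, 1, 2, -1, 0, -1, 0⟩, 0, 597),
  (⟨1, 0, 1, 2, -1, 0, 1, 0⟩, 853, 1280),
  (⟨1, 0, 1, 2, 1, 0, -1, 0⟩, 853, 0),
  (⟨1, 0, 1, 2, 1, 0, 1, 0⟩, 0, 1877),
  (⟨1, 0, 2, -1, -1, -1, 0, 0⟩, 2361, 0),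
  (⟨1, 0, 2, -1, -1, 1, 0, 0⟩, 659, 2474),
  (⟨1, 0, 2, -1, 1, -1, 0, 0⟩, 2668, 597),
  (⟨1, 0, 2, -1, 1, 1, 0, 0⟩, 454, 3071),
  (⟨1, 0, 2, 0, 0, -1, -1, -1⟩, 4065, 2560),
  (⟨1, 0, 2, 0, 0, -1, -1, 1⟩, 1099, 2474),
  (⟨1, 0, 2, 0, 0, -1, 1, -1⟩, 3252, 3413),
  (⟨1, 0, 2, 0, 0, -1, 1, 1⟩, 1822, 3839),
  (⟨1, 0, 2, 0, 0, 1, -1, -1⟩, 1099, 938),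
  (⟨1, 0, 2, 0, 0, 1, -1, 1⟩, 4065, 0),
  (⟨1, 0, 2, 0, 0, 1, 1, -1⟩, 1822, 1279),
  (⟨1, 0, 2, 0, 0, 1, 1, 1⟩, 3252, 1877),
  (⟨1, 0, 2, 1, -1, -1, 0, 0⟩, 659, 1706),
  (⟨1, 0, 2, 1, -1, 1, 0, 0⟩, 2361, 3840),
  (⟨1, 0, 2, 1, 1, -1, 0, 0⟩, 454, 1279),
  (⟨1, 0, 2, 1, 1, 1, 0, 0⟩, 2668, 3413),
  (⟨1, 1, -2, -1, 0, 0, -1, 0⟩, 3252, 511),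
  (⟨1, 1, -2, -1, 0, 0, 1, 0⟩, 4065, 1706),
  (⟨1, 1, -2, 0, -1, 0, 0, -1⟩, 2668, 3839),
  (⟨1, 1, -2, 0, -1, 0, 0, 1⟩, 454, 3413),
  (⟨1, 1, -2, 0, 1, 0, 0, -1⟩, 2361, 3242),
  (⟨1, 1, -2, 0, 1, 0, 0, 1⟩, 659, 3840),
  (⟨1, 1, -2, 1, 0, 0, -1, 0⟩, 1822, 1877),
  (⟨1, 1, -2, 1, 0, 0, 1, 0⟩, 1099, 0),
  (⟨1, 1, -1, -2, 0, -1, 0, 0⟩, 3623, 1280),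
  (⟨1, 1, -1, -2, 0, 1, 0, 0⟩, 1421, 3242),
  (⟨1, 1, -1, -1, -1, -1, -1, -1⟩, 2986, 3413),
  (⟨1, 1, -1, -1, -1, -1, -1, 1⟩, 0, 3839),
  (⟨1, 1, -1, -1, -1, -1, 1, -1⟩, 2303, 2560),
  (⟨1, 1, -1, -1, -1, -1, 1, 1⟩, 853, 2474),
  (⟨1, 1, -1, -1, -1, 1, -1, -1⟩, 0, 1279),
  (⟨1, 1, -1, -1, -1, 1, -1, 1⟩, 2986, 1877),
  (⟨1, 1, -1, -1, -1, 1, 1, -1⟩, 853, 938),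
  (⟨1, 1, -1, -1, -1, 1, 1, 1⟩, 2303, 0),
  (⟨1, 1, -1, -1, 1, -1, -1, -1⟩, 2303, 3840),
  (⟨1, 1, -1, -1, 1, -1, -1, 1⟩, 853, 3242),
  (⟨1, 1, -1, -1, 1, -1, 1, -1⟩, 2986, 2133),
  (⟨1, 1, -1, -1, 1, -1, 1, 1⟩, 0, 3071),
  (⟨1, 1, -1, -1, 1, 1, -1, -1⟩, 853, 1706),
  (⟨1, 1, -1, -1, 1, 1, -1, 1⟩, 2303, 1280),
  (⟨1, 1, -1, -1, 1, 1, 1, -1⟩, 0, 511),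
  (⟨1, 1, -1, -1, 1, 1, 1, 1⟩, 2986, 597),
  (⟨1, 1, -1, 0, -2, -1, 0, 0⟩, 1752, 511),
  (⟨1, 1, -1, 0, -2, 1, 0, 0⟩, 3442, 2133),
  (⟨1, 1, -1, 0, 0, -1, -2, 0⟩, 1752, 1279),
  (⟨1, 1, -1, 0, 0, -1, 0, -2⟩, 3623, 0),
  (⟨1, 1, -1, 0, 0, -1, 0, 2⟩, 3623, 0),
  (⟨1, 1, -1, 0, 0, -1, 2, 0⟩, 1752, 1279),
  (⟨1, 1, -1, 0, 0, 1, -2, 0⟩, 3442, 3413),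
  (⟨1, 1, -1, 0, 0, 1, 0, -2⟩, 1421, 2474),
  (⟨1, 1, -1, 0, 0, 1, 0, 2⟩, 1421, 2474),
  (⟨1, 1, -1, 0, 0, 1, 2, 0⟩, 3442, 3413),
  (⟨1, 1, -1, 0, 2, -1, 0, 0⟩, 1752, 511),
  (⟨1, 1, -1, 0, 2, 1, 0, 0⟩, 3442, 2133),
  (⟨1, 1, -1, 1, -1, -1, -1, -1⟩, 0, 3071),
  (⟨1, 1, -1, 1, -1, -1, -1, 1⟩, 2986, 2133),
  (⟨1, 1, -1, 1, -1, -1, 1, -1⟩, 853, 3242),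
  (⟨1, 1, -1, 1, -1, -1, 1, 1⟩, 2303, 3840),
  (⟨1, 1, -1, 1, -1, 1, -1, -1⟩, 2986, 597),
  (⟨1, 1, -1, 1, -1, 1, -1, 1⟩, 0, 511),
  (⟨1, 1, -1, 1, -1, 1, 1, -1⟩, 2303, 1280),
  (⟨1, 1, -1, 1, -1, 1, 1, 1⟩, 853, 1706),
  (⟨1, 1, -1, 1, 1, -1, -1, -1⟩, 853, 2474),
  (⟨1, 1, -1, 1, 1, -1, -1, 1⟩, 2303, 2560),
  (⟨1, 1, -1, 1, 1, -1, 1, -1⟩, 0, 3839),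
  (⟨1, 1, -1, 1, 1, -1, 1, 1⟩, 2986, 3413),
  (⟨1, 1, -1, 1, 1, 1, -1, -1⟩, 2303, 0),
  (⟨1, 1, -1, 1, 1, 1, -1, 1⟩, 853, 938),
  (⟨1, 1, -1, 1, 1, 1, 1, -1⟩, 2986, 1877),
  (⟨1, 1, -1, 1, 1, 1, 1, 1⟩, 0, 1279),
  (⟨1, 1, -1, 2, 0, -1, 0, 0⟩, 3623, 1280),
  (⟨1, 1, -1, 2, 0, 1, 0, 0⟩, 1421, 3242),
  (⟨1, 1, 0, -2, -1, 0, 0, -1⟩, 659, 0),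
  (⟨1, 1, 0, -2, -1, 0, 0, 1⟩, 2361, 938),
  (⟨1, 1, 0, -2, 1, 0, 0, -1⟩, 454, 597),
  (⟨1, 1, 0, -2, 1, 0, 0, 1⟩, 2668, 511),
  (⟨1, 1, 0, -1, -2, 0, -1, 0⟩, 3252, 3071),
  (⟨1, 1, 0, -1, -2, 0, 1, 0⟩, 4065, 3242),
  (⟨1, 1, 0, -1, 0, -2, -1, 0⟩, 1099, 0),
  (⟨1, 1, 0, -1, 0, -2, 1, 0⟩, 1822, 1877),
  (⟨1, 1, 0, -1, 0, 0, -1, -2⟩, 1099, 2560),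
  (⟨1, 1, 0, -1, 0, 0, -1, 2⟩, 1099, 2560),
  (⟨1, 1, 0, -1, 0, 0, 1, -2⟩, 1822, 3413),
  (⟨1, 1, 0, -1, 0, 0, 1, 2⟩, 1822, 3413),
  (⟨1, 1, 0, -1, 0, 2, -1, 0⟩, 1099, 0),
  (⟨1, 1, 0, -1, 0, 2, 1, 0⟩, 1822, 1877),
  (⟨1, 1, 0, -1, 2, 0, -1, 0⟩, 3252, 3071),
  (⟨1, 1, 0, -1, 2, 0, 1, 0⟩, 4065, 3242),
  (⟨1, 1, 0, 0, -1, -2, 0, -1⟩, 659, 3840),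
  (⟨1, 1, 0, 0, -1, -2, 0, 1⟩, 2361, 3242),
  (⟨1, 1, 0, 0, -1, 0, -2, -1⟩, 2668, 511),
  (⟨1, 1, 0, 0, -1, 0, -2, 1⟩, 454, 597),
  (⟨1, 1, 0, 0, -1, 0, 2, -1⟩, 2668, 511),
  (⟨1, 1, 0, 0, -1, 0, 2, 1⟩, 454, 597),
  (⟨1, 1, 0, 0, -1, 2, 0, -1⟩, 659, 3840),
  (⟨1, 1, 0, 0, -1, 2, 0, 1⟩, 2361, 3242),
  (⟨1, 1, 0, 0, 1, -2, 0, -1⟩, 454, 3413),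
  (⟨1, 1, 0, 0, 1, -2, 0, 1⟩, 2668, 3839),
  (⟨1, 1, 0, 0, 1, 0, -2, -1⟩, 2361, 938),
  (⟨1, 1, 0, 0, 1, 0, -2, 1⟩, 659, 0),
  (⟨1, 1, 0, 0, 1, 0, 2, -1⟩, 2361, 938),
  (⟨1, 1, 0, 0, 1, 0, 2, 1⟩, 659, 0),
  (⟨1, 1, 0, 0, 1, 2, 0, -1⟩, 454, 3413),
  (⟨1, 1, 0, 0, 1, 2, 0, 1⟩, 2668, 3839),
  (⟨1, 1, 0, 1, -2, 0, -1, 0⟩, 1822, 3413),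
  (⟨1, 1, 0, 1, -2, 0, 1, 0⟩, 1099, 2560),
  (⟨1, 1, 0, 1, 0, -2, -1, 0⟩, 4065, 1706),
  (⟨1, 1, 0, 1, 0, -2, 1, 0⟩, 3252, 511),
  (⟨1, 1, 0, 1, 0, 0, -1, -2⟩, 4065, 3242),
  (⟨1, 1, 0, 1, 0, 0, -1, 2⟩, 4065, 3242),
  (⟨1, 1, 0, 1, 0, 0, 1, -2⟩, 3252, 3071),
  (⟨1, 1, 0, 1, 0, 0, 1, 2⟩, 3252, 3071),
  (⟨1, 1, 0, 1, 0, 2, -1, 0⟩, 4065, 1706),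
  (⟨1, 1, 0, 1, 0, 2, 1, 0⟩, 3252, 511),
  (⟨1, 1, 0, 1, 2, 0, -1, 0⟩, 1822, 3413),
  (⟨1, 1, 0, 1, 2, 0, 1, 0⟩, 1099, 2560),
  (⟨1, 1, 0, 2, -1, 0, 0, -1⟩, 659, 0),
  (⟨1, 1, 0, 2, -1, 0, 0, 1⟩, 2361, 938),
  (⟨1, 1, 0, 2, 1, 0, 0, -1⟩, 454, 597),
  (⟨1, 1, 0, 2, 1, 0, 0, 1⟩, 2668, 511),
  (⟨1, 1, 1, -2, 0, -1, 0, 0⟩, 3442, 3413),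
  (⟨1, 1, 1, -2, 0, 1, 0, 0⟩, 1752, 1279),
  (⟨1, 1, 1, -1, -1, -1, -1, -1⟩, 2303, 1280),
  (⟨1, 1, 1, -1, -1, -1, -1, 1⟩, 853, 1706),
  (⟨1, 1, 1, -1, -1, -1, 1, -1⟩, 2986, 597),
  (⟨1, 1, 1, -1, -1, -1, 1, 1⟩, 0, 511),
  (⟨1, 1, 1, -1, -1, 1, -1, -1⟩, 853, 3242),
  (⟨1, 1, 1, -1, -1, 1, -1, 1⟩, 2303, 3840),
  (⟨1, 1, 1, -1, -1, 1, 1, -1⟩, 0, 3071),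
  (⟨1, 1, 1, -1, -1, 1, 1, 1⟩, 2986, 2133),
  (⟨1, 1, 1, -1, 1, -1, -1, -1⟩, 2986, 1877),
  (⟨1, 1, 1, -1, 1, -1, -1, 1⟩, 0, 1279),
  (⟨1, 1, 1, -1, 1, -1, 1, -1⟩, 2303, 0),
  (⟨1, 1, 1, -1, 1, -1, 1, 1⟩, 853, 938),
  (⟨1, 1, 1, -1, 1, 1, -1, -1⟩, 0, 3839),
  (⟨1, 1, 1, -1, 1, 1, -1, 1⟩, 2986, 3413),
  (⟨1, 1, 1, -1, 1, 1, 1, -1⟩, 853, 2474),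
  (⟨1, 1, 1, -1, 1, 1, 1, 1⟩, 2303, 2560),
  (⟨1, 1, 1, 0, -2, -1, 0, 0⟩, 1421, 2474),
  (⟨1, 1, 1, 0, -2, 1, 0, 0⟩, 3623, 0),
  (⟨1, 1, 1, 0, 0, -1, -2, 0⟩, 1421, 3242),
  (⟨1, 1, 1, 0, 0, -1, 0, -2⟩, 3442, 2133),
  (⟨1, 1, 1, 0, 0, -1, 0, 2⟩, 3442, 2133),
  (⟨1, 1, 1, 0, 0, -1, 2, 0⟩, 1421, 3242),
  (⟨1, 1, 1, 0, 0, 1, -2, 0⟩, 3623, 1280),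
  (⟨1, 1, 1, 0, 0, 1, 0, -2⟩, 1752, 511),
  (⟨1, 1, 1, 0, 0, 1, 0, 2⟩, 1752, 511),
  (⟨1, 1, 1, 0, 0, 1, 2, 0⟩, 3623, 1280),
  (⟨1, 1, 1, 0, 2, -1, 0, 0⟩, 1421, 2474),
  (⟨1, 1, 1, 0, 2, 1, 0, 0⟩, 3623, 0),
  (⟨1, 1, 1, 1, -1, -1, -1, -1⟩, 853, 938),
  (⟨1, 1, 1, 1, -1, -1, -1, 1⟩, 2303, 0),
  (⟨1, 1, 1, 1, -1, -1, 1, -1⟩, 0, 1279),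
  (⟨1, 1, 1, 1, -1, -1, 1, 1⟩, 2986, 1877),
  (⟨1, 1, 1, 1, -1, 1, -1, -1⟩, 2303, 2560),
  (⟨1, 1, 1, 1, -1, 1, -1, 1⟩, 853, 2474),
  (⟨1, 1, 1, 1, -1, 1, 1, -1⟩, 2986, 3413),
  (⟨1, 1, 1, 1, -1, 1, 1, 1⟩, 0, 3839),
  (⟨1, 1, 1, 1, 1, -1, -1, -1⟩, 0, 511),
  (⟨1, 1, 1, 1, 1, -1, -1, 1⟩, 2986, 597),
  (⟨1, 1, 1, 1, 1, -1, 1, -1⟩, 853, 1706),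
  (⟨1, 1, 1, 1, 1, -1, 1, 1⟩, 2303, 1280),
  (⟨1, 1, 1, 1, 1, 1, -1, -1⟩, 2986, 2133),
  (⟨1, 1, 1, 1, 1, 1, -1, 1⟩, 0, 3071),
  (⟨1, 1, 1, 1, 1, 1, 1, -1⟩, 2303, 3840),
  (⟨1, 1, 1, 1, 1, 1, 1, 1⟩, 853, 3242),
  (⟨1, 1, 1, 2, 0, -1, 0, 0⟩, 3442, 3413),
  (⟨1, 1, 1, 2, 0, 1, 0, 0⟩, 1752, 1279),
  (⟨1, 1, 2, -1, 0, 0, -1, 0⟩, 3252, 511),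
  (⟨1, 1, 2, -1, 0, 0, 1, 0⟩, 4065, 1706),
  (⟨1, 1, 2, 0, -1, 0, 0, -1⟩, 2668, 3839),
  (⟨1, 1, 2, 0, -1, 0, 0, 1⟩, 454, 3413),
  (⟨1, 1, 2, 0, 1, 0, 0, -1⟩, 2361, 3242),
  (⟨1, 1, 2, 0, 1, 0, 0, 1⟩, 659, 3840),
  (⟨1, 1, 2, 1, 0, 0, -1, 0⟩, 1822, 1877),
  (⟨1, 1, 2, 1, 0, 0, 1, 0⟩, 1099, 0),
  (⟨1, 2, -1, -1, 0, 0, 0, -1⟩, 3442, 3071),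
  (⟨1, 2, -1, -1, 0, 0, 0, 1⟩, 1752, 2133),
  (⟨1, 2, -1, 0, -1, 0, -1, 0⟩, 853, 0),
  (⟨1, 2, -1, 0, -1, 0, 1, 0⟩, 0, 1877),
  (⟨1, 2, -1, 0, 1, 0, -1, 0⟩, 0, 597),
  (⟨1, 2, -1, 0, 1, 0, 1, 0⟩, 853, 1280),
  (⟨1, 2, -1, 1, 0, 0, 0, -1⟩, 1752, 3413),
  (⟨1, 2, -1, 1, 0, 0, 0, 1⟩, 3442, 3839),
  (⟨1, 2, 0, -1, -1, -1, 0, 0⟩, 454, 1279),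
  (⟨1, 2, 0, -1, -1, 1, 0, 0⟩, 2668, 3413),
  (⟨1, 2, 0, -1, 1, -1, 0, 0⟩, 659, 1706),
  (⟨1, 2, 0, -1, 1, 1, 0, 0⟩, 2361, 3840),
  (⟨1, 2, 0, 0, 0, -1, -1, -1⟩, 1822, 3839),
  (⟨1, 2, 0, 0, 0, -1, -1, 1⟩, 3252, 3413),
  (⟨1, 2, 0, 0, 0, -1, 1, -1⟩, 1099, 2474),
  (⟨1, 2, 0, 0, 0, -1, 1, 1⟩, 4065, 2560),
  (⟨1, 2, 0, 0, 0, 1, -1, -1⟩, 3252, 1877),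
  (⟨1, 2, 0, 0, 0, 1, -1, 1⟩, 1822, 1279),
  (⟨1, 2, 0, 0, 0, 1, 1, -1⟩, 4065, 0),
  (⟨1, 2, 0, 0, 0, 1, 1, 1⟩, 1099, 938),
  (⟨1, 2, 0, 1, -1, -1, 0, 0⟩, 2668, 597),
  (⟨1, 2, 0, 1, -1, 1, 0, 0⟩, 454, 3071),
  (⟨1, 2, 0, 1, 1, -1, 0, 0⟩, 2361, 0),
  (⟨1, 2, 0, 1, 1, 1, 0, 0⟩, 659, 2474),
  (⟨1, 2, 1, -1, 0, 0, 0, -1⟩, 3623, 938),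
  (⟨1, 2, 1, -1, 0, 0, 0, 1⟩, 1421, 0),
  (⟨1, 2, 1, 0, -1, 0, -1, 0⟩, 0, 2133),
  (⟨1, 2, 1, 0, -1, 0, 1, 0⟩, 853, 3840),
  (⟨1, 2, 1, 0, 1, 0, -1, 0⟩, 853, 2560),
  (⟨1, 2, 1, 0, 1, 0, 1, 0⟩, 0, 3413),
  (⟨1, 2, 1, 1, 0, 0, 0, -1⟩, 1421, 1280),
  (⟨1, 2, 1, 1, 0, 0, 0, 1⟩, 3623, 1706),
  (⟨2, -2, 0, 0, 0, 0, 0, 0⟩, 2303, 511),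
  (⟨2, -1, -1, -1, -1, 0, 0, 0⟩, 4065, 3839),
  (⟨2, -1, -1, -1, 1, 0, 0, 0⟩, 3252, 3242),
  (⟨2, -1, -1, 0, 0, 0, -1, -1⟩, 2361, 1279),
  (⟨2, -1, -1, 0, 0, 0, -1, 1⟩, 659, 1877),
  (⟨2, -1, -1, 0, 0, 0, 1, -1⟩, 2668, 938),
  (⟨2, -1, -1, 0, 0, 0, 1, 1⟩, 454, 0),
  (⟨2, -1, -1, 1, -1, 0, 0, 0⟩, 1099, 2133),
  (⟨2, -1, -1, 1, 1, 0, 0, 0⟩, 1822, 2560),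
  (⟨2, -1, 0, -1, 0, -1, 0, -1⟩, 2986, 0),
  (⟨2, -1, 0, -1, 0, -1, 0, 1⟩, 0, 938),
  (⟨2, -1, 0, -1, 0, 1, 0, -1⟩, 0, 2474),
  (⟨2, -1, 0, -1, 0, 1, 0, 1⟩, 2986, 2560),
  (⟨2, -1, 0, 0, -1, -1, -1, 0⟩, 1421, 3071),
  (⟨2, -1, 0, 0, -1, -1, 1, 0⟩, 1752, 3242),
  (⟨2, -1, 0, 0, -1, 1, -1, 0⟩, 3623, 597),
  (⟨2, -1, 0, 0, -1, 1, 1, 0⟩, 3442, 1280),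
  (⟨2, -1, 0, 0, 1, -1, -1, 0⟩, 1752, 2474),
  (⟨2, -1, 0, 0, 1, -1, 1, 0⟩, 1421, 3839),
  (⟨2, -1, 0, 0, 1, 1, -1, 0⟩, 3442, 0),
  (⟨2, -1, 0, 0, 1, 1, 1, 0⟩, 3623, 1877),
  (⟨2, -1, 0, 1, 0, -1, 0, -1⟩, 0, 1706),
  (⟨2, -1, 0, 1, 0, -1, 0, 1⟩, 2986, 1280),
  (⟨2, -1, 0, 1, 0, 1, 0, -1⟩, 2986, 3840),
  (⟨2, -1, 0, 1, 0, 1, 0, 1⟩, 0, 3242),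
  (⟨2, -1, 1, -1, -1, 0, 0, 0⟩, 3252, 1706),
  (⟨2, -1, 1, -1, 1, 0, 0, 0⟩, 4065, 1279),
  (⟨2, -1, 1, 0, 0, 0, -1, -1⟩, 2668, 3242),
  (⟨2, -1, 1, 0, 0, 0, -1, 1⟩, 454, 3840),
  (⟨2, -1, 1, 0, 0, 0, 1, -1⟩, 2361, 3071),
  (⟨2, -1, 1, 0, 0, 0, 1, 1⟩, 659, 2133),
  (⟨2, -1, 1, 1, -1, 0, 0, 0⟩, 1822, 0),
  (⟨2, -1, 1, 1, 1, 0, 0, 0⟩, 1099, 597),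
  (⟨2, 0, -2, 0, 0, 0, 0, 0⟩, 0, 1280),
  (⟨2, 0, -1, -1, 0, -1, -1, 0⟩, 454, 1706),
  (⟨2, 0, -1, -1, 0, -1, 1, 0⟩, 659, 511),
  (⟨2, 0, -1, -1, 0, 1, -1, 0⟩, 2668, 3840),
  (⟨2, 0, -1, -1, 0, 1, 1, 0⟩, 2361, 2133),
  (⟨2, 0, -1, 0, -1, -1, 0, -1⟩, 1822, 2474),
  (⟨2, 0, -1, 0, -1, -1, 0, 1⟩, 3252, 2560),
  (⟨2, 0, -1, 0, -1, 1, 0, -1⟩, 3252, 0),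
  (⟨2, 0, -1, 0, -1, 1, 0, 1⟩, 1822, 938),
  (⟨2, 0, -1, 0, 1, -1, 0, -1⟩, 1099, 3071),
  (⟨2, 0, -1, 0, 1, -1, 0, 1⟩, 4065, 2133),
  (⟨2, 0, -1, 0, 1, 1, 0, -1⟩, 4065, 597),
  (⟨2, 0, -1, 0, 1, 1, 0, 1⟩, 1099, 511),
  (⟨2, 0, -1, 1, 0, -1, -1, 0⟩, 2668, 0),
  (⟨2, 0, -1, 1, 0, -1, 1, 0⟩, 2361, 1877),
  (⟨2, 0, -1, 1, 0, 1, -1, 0⟩, 454, 2474),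
  (⟨2, 0, -1, 1, 0, 1, 1, 0⟩, 659, 3839),
  (⟨2, 0, 0, -2, 0, 0, 0, 0⟩, 2303, 3071),
  (⟨2, 0, 0, -1, -1, 0, -1, -1⟩, 3442, 938),
  (⟨2, 0, 0, -1, -1, 0, -1, 1⟩, 1752, 0),
  (⟨2, 0, 0, -1, -1, 0, 1, -1⟩, 3623, 1279),
  (⟨2, 0, 0, -1, -1, 0, 1, 1⟩, 1421, 1877),
  (⟨2, 0, 0, -1, 1, 0, -1, -1⟩, 3623, 511),
  (⟨2, 0, 0, -1, 1, 0, -1, 1⟩, 1421, 597),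
  (⟨2, 0, 0, -1, 1, 0, 1, -1⟩, 3442, 1706),
  (⟨2, 0, 0, -1, 1, 0, 1, 1⟩, 1752, 1280),
  (⟨2, 0, 0, 0, -2, 0, 0, 0⟩, 0, 3840),
  (⟨2, 0, 0, 0, 0, -2, 0, 0⟩, 2303, 1279),
  (⟨2, 0, 0, 0, 0, 0, -2, 0⟩, 0, 2560),
  (⟨2, 0, 0, 0, 0, 0, 0, -2⟩, 2303, 3839),
  (⟨2, 0, 0, 0, 0, 0, 0, 2⟩, 2303, 3839),
  (⟨2, 0, 0, 0, 0, 0, 2, 0⟩, 0, 2560),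
  (⟨2, 0, 0, 0, 0, 2, 0, 0⟩, 2303, 1279),
  (⟨2, 0, 0, 0, 2, 0, 0, 0⟩, 0, 3840),
  (⟨2, 0, 0, 1, -1, 0, -1, -1⟩, 1752, 1280),
  (⟨2, 0, 0, 1, -1, 0, -1, 1⟩, 3442, 1706),
  (⟨2, 0, 0, 1, -1, 0, 1, -1⟩, 1421, 597),
  (⟨2, 0, 0, 1, -1, 0, 1, 1⟩, 3623, 511),
  (⟨2, 0, 0, 1, 1, 0, -1, -1⟩, 1421, 1877),
  (⟨2, 0, 0, 1, 1, 0, -1, 1⟩, 3623, 1279),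
  (⟨2, 0, 0, 1, 1, 0, 1, -1⟩, 1752, 0),
  (⟨2, 0, 0, 1, 1, 0, 1, 1⟩, 3442, 938),
  (⟨2, 0, 0, 2, 0, 0, 0, 0⟩, 2303, 3071),
  (⟨2, 0, 1, -1, 0, -1, -1, 0⟩, 659, 3839),
  (⟨2, 0, 1, -1, 0, -1, 1, 0⟩, 454, 2474),
  (⟨2, 0, 1, -1, 0, 1, -1, 0⟩, 2361, 1877),
  (⟨2, 0, 1, -1, 0, 1, 1, 0⟩, 2668, 0),
  (⟨2, 0, 1, 0, -1, -1, 0, -1⟩, 1099, 511),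
  (⟨2, 0, 1, 0, -1, -1, 0, 1⟩, 4065, 597),
  (⟨2, 0, 1, 0, -1, 1, 0, -1⟩, 4065, 2133),
  (⟨2, 0, 1, 0, -1, 1, 0, 1⟩, 1099, 3071),
  (⟨2, 0, 1, 0, 1, -1, 0, -1⟩, 1822, 938),
  (⟨2, 0, 1, 0, 1, -1, 0, 1⟩, 3252, 0),
  (⟨2, 0, 1, 0, 1, 1, 0, -1⟩, 3252, 2560),
  (⟨2, 0, 1, 0, 1, 1, 0, 1⟩, 1822, 2474),
  (⟨2, 0, 1, 1, 0, -1, -1, 0⟩, 2361, 2133),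
  (⟨2, 0, 1, 1, 0, -1, 1, 0⟩, 2668, 3840),
  (⟨2, 0, 1, 1, 0, 1, -1, 0⟩, 659, 511),
  (⟨2, 0, 1, 1, 0, 1, 1, 0⟩, 454, 1706),
  (⟨2, 0, 2, 0, 0, 0, 0, 0⟩, 0, 1280),
  (⟨2, 1, -1, -1, -1, 0, 0, 0⟩, 1099, 597),
  (⟨2, 1, -1, -1, 1, 0, 0, 0⟩, 1822, 0),
  (⟨2, 1, -1, 0, 0, 0, -1, -1⟩, 659, 2133),
  (⟨2, 1, -1, 0, 0, 0, -1, 1⟩, 2361, 3071),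
  (⟨2, 1, -1, 0, 0, 0, 1, -1⟩, 454, 3840),
  (⟨2, 1, -1, 0, 0, 0, 1, 1⟩, 2668, 3242),
  (⟨2, 1, -1, 1, -1, 0, 0, 0⟩, 4065, 1279),
  (⟨2, 1, -1, 1, 1, 0, 0, 0⟩, 3252, 1706),
  (⟨2, 1, 0, -1, 0, -1, 0, -1⟩, 0, 3242),
  (⟨2, 1, 0, -1, 0, -1, 0, 1⟩, 2986, 3840),
  (⟨2, 1, 0, -1, 0, 1, 0, -1⟩, 2986, 1280),
  (⟨2, 1, 0, -1, 0, 1, 0, 1⟩, 0, 1706),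
  (⟨2, 1, 0, 0, -1, -1, -1, 0⟩, 3623, 1877),
  (⟨2, 1, 0, 0, -1, -1, 1, 0⟩, 3442, 0),
  (⟨2, 1, 0, 0, -1, 1, -1, 0⟩, 1421, 3839),
  (⟨2, 1, 0, 0, -1, 1, 1, 0⟩, 1752, 2474),
  (⟨2, 1, 0, 0, 1, -1, -1, 0⟩, 3442, 1280),
  (⟨2, 1, 0, 0, 1, -1, 1, 0⟩, 3623, 597),
  (⟨2, 1, 0, 0, 1, 1, -1, 0⟩, 1752, 3242),
  (⟨2, 1, 0, 0, 1, 1, 1, 0⟩, 1421, 3071),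
  (⟨2, 1, 0, 1, 0, -1, 0, -1⟩, 2986, 2560),
  (⟨2, 1, 0, 1, 0, -1, 0, 1⟩, 0, 2474),
  (⟨2, 1, 0, 1, 0, 1, 0, -1⟩, 0, 938),
  (⟨2, 1, 0, 1, 0, 1, 0, 1⟩, 2986, 0),
  (⟨2, 1, 1, -1, -1, 0, 0, 0⟩, 1822, 2560),
  (⟨2, 1, 1, -1, 1, 0, 0, 0⟩, 1099, 2133),
  (⟨2, 1, 1, 0, 0, 0, -1, -1⟩, 454, 0),
  (⟨2, 1, 1, 0, 0, 0, -1, 1⟩, 2668, 938),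
  (⟨2, 1, 1, 0, 0, 0, 1, -1⟩, 659, 1877),
  (⟨2, 1, 1, 0, 0, 0, 1, 1⟩, 2361, 1279),
  (⟨2, 1, 1, 1, -1, 0, 0, 0⟩, 3252, 3242),
  (⟨2, 1, 1, 1, 1, 0, 0, 0⟩, 4065, 3839),
  (⟨2, 2, 0, 0, 0, 0, 0, 0⟩, 2303, 511)]

set_option maxRecDepth 1000000 in
theorem W4_eq : W 4 = T4.map (fun e => e.1) := by decide +kernel

set_option maxRecDepth 1000000 in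
theorem T4_keys : ∀ e ∈ T4, e.2.1 = clsh e.1 ∧ e.2.2 = clshb e.1 := by decide +kernel

end Cfsg.Agent.Lib.Helper14.J2
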