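import Cfsg.Agent.Lib.Helper14.J2I

set_option autoImplicit false

namespace Cfsg.Agent.Lib.Helper14.J2

open ZQ

set_option maxRecDepth 1000000 in
set_option maxHeartbeats 4000000 in
theorem T8_keys : ∀ e ∈ T8, e.2.1 = clsh e.1 ∧ e.2.2 = clshb e.1 := by decide +kernel

end Cfsg.Agent.Lib.Helper14.J2
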