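import Cfsg.Agent.Lib.Helper14.J2Ia
import Cfsg.Agent.Lib.Helper14.J2Ib

set_option autoImplicit false

/-!
Icosian model, part J: the list of normalized minimal vectors (first non-zero coordinate a fixed
generator), and its completeness.
-/

namespace Cfsg.Agent.Lib.Helper14.J2

open ZQ V3

namespace ZQ

def two' : ZQ := ⟨4, 0, 0, 0, 0, 0, 0, 0⟩
def sg : ZQ := ⟨2, -2, 0, 0, 0, 0, 0, 0⟩
def g3 : ZQ := ⟨2, 0, 1, 0, 1, -1, 0, -1⟩
def g4 : ZQ := ⟨2, 0, 1, 0, -1, 1, 0, 1⟩
def g5 : ZQ := ⟨2, 0, 1, 0, -1, 1, 0, -1⟩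

/-- generators with `sqs = 4` -/
def Γ4 : List ZQ := [one', tt]
/-- generators with `sqs = 8` -/
def Γ8 : List ZQ := [sg, hh, hb, g3, g4, g5]

end ZQ

/-- the table entry of a lattice element -/
def entry (p : ZQ) : ZQ × ℕ × ℕ := (p, clsh p, clshb p)

theorem entry_mem_T4 {p : ZQ} (hp : p ∈ W 4) : entry p ∈ T4 := by
  rw [W4_eq, List.mem_map] at hp
  obtain ⟨e, he, rfl⟩ := hp
  have := T4_keys e he
  have h : entry e.1 = e := by
    unfold entry
    rw [← this.1, ← this.2]
  rwa [h]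

theorem entry_mem_T8 {p : ZQ} (hp : p ∈ W 8) : entry p ∈ T8 := by
  rw [W8_eq, List.mem_map] at hp
  obtain ⟨e, he, rfl⟩ := hp
  have := T8_keys e he
  have h : entry e.1 = e := by
    unfold entry
    rw [← this.1, ← this.2]
  rwa [h]

/-- the acceptance test -/
def okV (w : V3) : Bool := decide (InL w ∧ IsMinV w)

/-- normalized candidates `(g, q, r)` with `q`, `r` from two tables -/
def pairsL (Ta Tb : List (ZQ × ℕ × ℕ)) (g : ZQ) : List V3 :=
  (Ta.filter (fun e => decide (e.2.1 = clsh g))).flatMap (fun e =>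
    ((Tb.filter (fun f => decide (f.2.1 = e.2.1) && decide (f.2.2 = clshb (g + e.1)))).map
      (fun f => (⟨g, e.1, f.1⟩ : V3))).filter okV)

def single1 (g : ZQ) : List V3 :=
  ((T8.filter (fun e => decide (e.2.1 = clsh g))).map (fun e => (⟨g, e.1, 0⟩ : V3))).filter okV

def single2 (g : ZQ) : List V3 :=
  ((T8.filter (fun e => decide (e.2.1 = clsh g))).map (fun e => (⟨g, 0, e.1⟩ : V3))).filter okV

def single3 (g : ZQ) : List V3 :=
  ((T8.filter (fun e => decide (e.2.1 = clsh g))).map (fun e => (⟨0, g, e.1⟩ : V3))).filter okV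

/-- the normalized minimal vectors -/
def normList : List V3 :=
  [⟨two', 0, 0⟩, ⟨0, two', 0⟩, ⟨0, 0, two'⟩] ++
    (Γ8.flatMap (fun g => single1 g ++ single2 g ++ pairsL T4 T4 g ++ single3 g) ++
      Γ4.flatMap (fun g => pairsL T8 T4 g ++ pairsL T4 T8 g))

theorem par_zero' : Par (0 : ZQ) := par_zero

theorem mem_pairsL {Ta Tb : List (ZQ × ℕ × ℕ)} {g q r : ZQ} (hq : entry q ∈ Ta)
    (hr : entry r ∈ Tb) (hL : InL ⟨g, q, r⟩) (hM : IsMinV ⟨g, q, r⟩) :
    (⟨g, q, r⟩ : V3) ∈ pairsL Ta Tb g := by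
  obtain ⟨pg, pq, pr, h1, h2, h3⟩ := hL
  have hL' : InL ⟨g, q, r⟩ := ⟨pg, pq, pr, h1, h2, h3⟩
  simp only at pg pq pr h1 h2 h3
  have k1 : clsh g = clsh q := cls_eq_of_sub par_hb pg pq h1
  have k2 : clsh q = clsh r := cls_eq_of_sub par_hb pq pr h2
  have k3 : clshb (g + q) = clshb r := by
    have : InIhb ((g + q) - (-r)) := by
      have e : g + q - -r = g + q + r := by abel
      rw [e]; exact h3
    exact (cls_eq_of_sub par_hh (par_add pg pq) (par_neg pr) this).trans (cls_neg par_hh pr)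
  unfold pairsL
  rw [List.mem_flatMap]
  refine ⟨entry q, ?_, ?_⟩
  · rw [List.mem_filter]
    exact ⟨hq, by simp [entry, k1]⟩
  · rw [List.mem_filter]
    refine ⟨?_, by simp [okV, hL', hM]⟩
    rw [List.mem_map]
    refine ⟨entry r, ?_, rfl⟩
    rw [List.mem_filter]
    exact ⟨hr, by simp [entry, k2, k3]⟩

theorem clsh_zero_eq {g : ZQ} (hg : Par g) (h : InIh g) : clsh g = clsh 0 := by
  apply cls_eq_of_sub par_hb hg par_zero
  rwa [sub_zero]

theorem mem_single1 {g q : ZQ} (hq : entry q ∈ T8) (hL : InL ⟨g, q, 0⟩) (hM : IsMinV ⟨g, q, 0⟩) :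
    (⟨g, q, 0⟩ : V3) ∈ single1 g := by
  have hL' := hL
  obtain ⟨pg, pq, -, h1, -, -⟩ := hL
  simp only at pg pq h1
  have k1 : clsh g = clsh q := cls_eq_of_sub par_hb pg pq h1
  unfold single1
  rw [List.mem_filter]
  refine ⟨?_, by simp [okV, hL', hM]⟩
  rw [List.mem_map]
  refine ⟨entry q, ?_, rfl⟩
  rw [List.mem_filter]
  exact ⟨hq, by simp [entry, k1]⟩

theorem mem_single2 {g r : ZQ} (hr : entry r ∈ T8) (hL : InL ⟨g, 0, r⟩) (hM : IsMinV ⟨g, 0, r⟩) :
    (⟨g, 0, r⟩ : V3) ∈ single2 g := by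
  have hL' := hL
  obtain ⟨pg, -, pr, h1, h2, -⟩ := hL
  simp only at pg pr h1 h2
  have k1 : clsh g = clsh 0 := cls_eq_of_sub par_hb pg par_zero h1
  have k2 : clsh 0 = clsh r := cls_eq_of_sub par_hb par_zero pr h2
  unfold single2
  rw [List.mem_filter]
  refine ⟨?_, by simp [okV, hL', hM]⟩
  rw [List.mem_map]
  refine ⟨entry r, ?_, rfl⟩
  rw [List.mem_filter]
  exact ⟨hr, by simp [entry, k1, k2]⟩

theorem mem_single3 {g r : ZQ} (hr : entry r ∈ T8) (hL : InL ⟨0, g, r⟩) (hM : IsMinV ⟨0, g, r⟩) :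
    (⟨0, g, r⟩ : V3) ∈ single3 g := by
  have hL' := hL
  obtain ⟨-, pg, pr, -, h2, -⟩ := hL
  simp only at pg pr h2
  have k2 : clsh g = clsh r := cls_eq_of_sub par_hb pg pr h2
  unfold single3
  rw [List.mem_filter]
  refine ⟨?_, by simp [okV, hL', hM]⟩
  rw [List.mem_map]
  refine ⟨entry r, ?_, rfl⟩
  rw [List.mem_filter]
  exact ⟨hr, by simp [entry, k2]⟩

theorem sqs_Γ8 : ∀ g ∈ Γ8, sqs g = 8 := by decide
theorem sqs_Γ4 : ∀ g ∈ Γ4, sqs g = 4 := by decide
theorem not_inIh_Γ4 : ∀ g ∈ Γ4, ¬ InIh g := by decide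
theorem sqs_two' : sqs two' = 16 := by decide

/-- normalized: the first non-zero coordinate is one of the fixed generators -/
def NormZ (w : V3) : Prop :=
  (w.x = two' ∨ w.x ∈ Γ8 ∨ w.x ∈ Γ4) ∨ (w.x = 0 ∧ (w.y = two' ∨ w.y ∈ Γ8 ∨ w.y ∈ Γ4)) ∨
    (w.x = 0 ∧ w.y = 0 ∧ (w.z = two' ∨ w.z ∈ Γ8 ∨ w.z ∈ Γ4))

theorem mem_T_of_sqs {p : ZQ} (hp : Par p) :
    (sqs p = 4 → entry p ∈ T4) ∧ (sqs p = 8 → entry p ∈ T8) :=
  ⟨fun h => entry_mem_T4 (mem_W (by norm_num) hp (by exact_mod_cast h)),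
    fun h => entry_mem_T8 (mem_W (by norm_num) hp (by exact_mod_cast h))⟩

/-- completeness of the list of normalized minimal vectors -/
theorem mem_normList {w : V3} (hL : InL w) (hM : IsMinV w) (hN : NormZ w) : w ∈ normList := by
  obtain ⟨x, y, z⟩ := w
  have hL' := hL
  obtain ⟨px, py, pz, h1, h2, h3⟩ := hL
  simp only at px py pz h1 h2 h3
  obtain ⟨hs, hg⟩ := (isMinV_iff _).mp hM
  simp only at hs hg
  have nx := sqs_nonneg x
  have ny := sqs_nonneg y
  have nz := sqs_nonneg z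
  have dx := four_dvd_sqs px
  have dy := four_dvd_sqs py
  have dz := four_dvd_sqs pz
  unfold normList
  rcases hN with hN | ⟨hx, hN⟩ | ⟨hx, hy, hN⟩
  · simp only at hN
    rcases hN with rfl | hN | hN
    · -- x = 2
      rw [sqs_two'] at hs
      have ey : y = 0 := sqs_eq_zero (by omega)
      have ez : z = 0 := sqs_eq_zero (by omega)
      subst ey ez
      simp
    · -- x in Γ8
      have e8 := sqs_Γ8 x hN
      rw [e8] at hs
      apply List.mem_append_right
      apply List.mem_append_left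
      rw [List.mem_flatMap]
      refine ⟨x, hN, ?_⟩
      have hcases : (sqs y = 8 ∧ sqs z = 0) ∨ (sqs y = 0 ∧ sqs z = 8) ∨ (sqs y = 4 ∧ sqs z = 4) := by
        omega
      rcases hcases with ⟨ey, ez⟩ | ⟨ey, ez⟩ | ⟨ey, ez⟩
      · have ez' : z = 0 := sqs_eq_zero ez
        subst ez'
        apply List.mem_append_left; apply List.mem_append_left; apply List.mem_append_left
        exact mem_single1 ((mem_T_of_sqs py).2 ey) hL' hM
      · have ey' : y = 0 := sqs_eq_zero ey
        subst ey'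
        apply List.mem_append_left; apply List.mem_append_left; apply List.mem_append_right
        exact mem_single2 ((mem_T_of_sqs pz).2 ez) hL' hM
      · apply List.mem_append_left; apply List.mem_append_right
        exact mem_pairsL ((mem_T_of_sqs py).1 ey) ((mem_T_of_sqs pz).1 ez) hL' hM
    · -- x in Γ4
      have e4 := sqs_Γ4 x hN
      rw [e4] at hs
      apply List.mem_append_right
      apply List.mem_append_right
      rw [List.mem_flatMap]
      refine ⟨x, hN, ?_⟩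
      have hcases : (sqs y = 12 ∧ sqs z = 0) ∨ (sqs y = 0 ∧ sqs z = 12) ∨ (sqs y = 8 ∧ sqs z = 4) ∨
          (sqs y = 4 ∧ sqs z = 8) := by
        omega
      rcases hcases with ⟨ey, ez⟩ | ⟨ey, ez⟩ | ⟨ey, ez⟩ | ⟨ey, ez⟩
      · exfalso
        have ez' : z = 0 := sqs_eq_zero ez
        subst ez'
        rw [sub_zero] at h2
        have := inId_add h1 h2
        rw [sub_add_cancel] at this
        exact not_inIh_Γ4 x hN this
      · exfalso
        have ey' : y = 0 := sqs_eq_zero ey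
        subst ey'
        rw [sub_zero] at h1
        exact not_inIh_Γ4 x hN h1
      · apply List.mem_append_left
        exact mem_pairsL ((mem_T_of_sqs py).2 ey) ((mem_T_of_sqs pz).1 ez) hL' hM
      · apply List.mem_append_right
        exact mem_pairsL ((mem_T_of_sqs py).1 ey) ((mem_T_of_sqs pz).2 ez) hL' hM
  · simp only at hx hN
    subst hx
    rw [sqs_zero] at hs
    rcases hN with rfl | hN | hN
    · rw [sqs_two'] at hs
      have ez : z = 0 := sqs_eq_zero (by omega)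
      subst ez
      simp
    · have e8 := sqs_Γ8 y hN
      rw [e8] at hs
      apply List.mem_append_right
      apply List.mem_append_left
      rw [List.mem_flatMap]
      refine ⟨y, hN, ?_⟩
      apply List.mem_append_right
      exact mem_single3 ((mem_T_of_sqs pz).2 (by omega)) hL' hM
    · exfalso
      rw [zero_sub] at h1
      have := inId_neg h1
      rw [neg_neg] at this
      exact not_inIh_Γ4 y hN this
  · simp only at hx hy hN
    subst hx hy
    rw [sqs_zero] at hs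
    rcases hN with rfl | hN | hN
    · simp
    · have e8 := sqs_Γ8 z hN
      omega
    · have e4 := sqs_Γ4 z hN
      omega

end Cfsg.Agent.Lib.Helper14.J2
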