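import Cfsg.Agent.Lib.Helper14.J2J

set_option autoImplicit false

/-!
Icosian model, part K (data): the 315 normalized minimal vectors.  Generated.
-/

namespace Cfsg.Agent.Lib.Helper14.J2

open ZQ V3

/-- the 315 normalized minimal vectors, explicitly -/
def normLit : List V3 := [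
  ⟨⟨4, 0, 0, 0, 0, 0, 0, 0⟩, ⟨0, 0, 0, 0, 0, 0, 0, 0⟩, ⟨0, 0, 0, 0, 0, 0, 0, 0⟩⟩,
  ⟨⟨0, 0, 0, 0, 0, 0, 0, 0⟩, ⟨4, 0, 0, 0, 0, 0, 0, 0⟩, ⟨0, 0, 0, 0, 0, 0, 0, 0⟩⟩,
  ⟨⟨0, 0, 0, 0, 0, 0, 0, 0⟩, ⟨0, 0, 0, 0, 0, 0, 0, 0⟩, ⟨4, 0, 0, 0, 0, 0, 0, 0⟩⟩,
  ⟨⟨2, -2, 0, 0, 0, 0, 0, 0⟩, ⟨-1, 0, -1, 0, -1, 0, 1, 0⟩, ⟨0, -1, 0, -1, 0, 1, 0, 1⟩⟩,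
  ⟨⟨2, -2, 0, 0, 0, 0, 0, 0⟩, ⟨-1, 0, -1, 0, -1, 0, 1, 0⟩, ⟨0, 1, 0, 1, 0, -1, 0, -1⟩⟩,
  ⟨⟨2, -2, 0, 0, 0, 0, 0, 0⟩, ⟨-1, 0, -1, 0, 1, 0, -1, 0⟩, ⟨0, -1, 0, 1, 0, 1, 0, -1⟩⟩,
  ⟨⟨2, -2, 0, 0, 0, 0, 0, 0⟩, ⟨-1, 0, -1, 0, 1, 0, -1, 0⟩, ⟨0, 1, 0, -1, 0, -1, 0, 1⟩⟩,
  ⟨⟨2, -2, 0, 0, 0, 0, 0, 0⟩, ⟨-1, 0, 1, 0, -1, 0, -1, 0⟩, ⟨0, -1, 0, 1, 0, -1, 0, 1⟩⟩,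
  ⟨⟨2, -2, 0, 0, 0, 0, 0, 0⟩, ⟨-1, 0, 1, 0, -1, 0, -1, 0⟩, ⟨0, 1, 0, -1, 0, 1, 0, -1⟩⟩,
  ⟨⟨2, -2, 0, 0, 0, 0, 0, 0⟩, ⟨-1, 0, 1, 0, 1, 0, 1, 0⟩, ⟨0, -1, 0, -1, 0, -1, 0, -1⟩⟩,
  ⟨⟨2, -2, 0, 0, 0, 0, 0, 0⟩, ⟨-1, 0, 1, 0, 1, 0, 1, 0⟩, ⟨0, 1, 0, 1, 0, 1, 0, 1⟩⟩,
  ⟨⟨2, -2, 0, 0, 0, 0, 0, 0⟩, ⟨0, -1, 0, -1, 0, -1, 0, -1⟩, ⟨-1, 0, 1, 0, 1, 0, 1, 0⟩⟩,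
  ⟨⟨2, -2, 0, 0, 0, 0, 0, 0⟩, ⟨0, -1, 0, -1, 0, -1, 0, -1⟩, ⟨1, 0, -1, 0, -1, 0, -1, 0⟩⟩,
  ⟨⟨2, -2, 0, 0, 0, 0, 0, 0⟩, ⟨0, -1, 0, -1, 0, 1, 0, 1⟩, ⟨-1, 0, -1, 0, -1, 0, 1, 0⟩⟩,
  ⟨⟨2, -2, 0, 0, 0, 0, 0, 0⟩, ⟨0, -1, 0, -1, 0, 1, 0, 1⟩, ⟨1, 0, 1, 0, 1, 0, -1, 0⟩⟩,
  ⟨⟨2, -2, 0, 0, 0, 0, 0, 0⟩, ⟨0, -1, 0, 1, 0, -1, 0, 1⟩, ⟨-1, 0, 1, 0, -1, 0, -1, 0⟩⟩,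
  ⟨⟨2, -2, 0, 0, 0, 0, 0, 0⟩, ⟨0, -1, 0, 1, 0, -1, 0, 1⟩, ⟨1, 0, -1, 0, 1, 0, 1, 0⟩⟩,
  ⟨⟨2, -2, 0, 0, 0, 0, 0, 0⟩, ⟨0, -1, 0, 1, 0, 1, 0, -1⟩, ⟨-1, 0, -1, 0, 1, 0, -1, 0⟩⟩,
  ⟨⟨2, -2, 0, 0, 0, 0, 0, 0⟩, ⟨0, -1, 0, 1, 0, 1, 0, -1⟩, ⟨1, 0, 1, 0, -1, 0, 1, 0⟩⟩,
  ⟨⟨2, -2, 0, 0, 0, 0, 0, 0⟩, ⟨0, 1, 0, -1, 0, -1, 0, 1⟩, ⟨-1, 0, -1, 0, 1, 0, -1, 0⟩⟩,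
  ⟨⟨2, -2, 0, 0, 0, 0, 0, 0⟩, ⟨0, 1, 0, -1, 0, -1, 0, 1⟩, ⟨1, 0, 1, 0, -1, 0, 1, 0⟩⟩,
  ⟨⟨2, -2, 0, 0, 0, 0, 0, 0⟩, ⟨0, 1, 0, -1, 0, 1, 0, -1⟩, ⟨-1, 0, 1, 0, -1, 0, -1, 0⟩⟩,
  ⟨⟨2, -2, 0, 0, 0, 0, 0, 0⟩, ⟨0, 1, 0, -1, 0, 1, 0, -1⟩, ⟨1, 0, -1, 0, 1, 0, 1, 0⟩⟩,
  ⟨⟨2, -2, 0, 0, 0, 0, 0, 0⟩, ⟨0, 1, 0, 1, 0, -1, 0, -1⟩, ⟨-1, 0, -1, 0, -1, 0, 1, 0⟩⟩,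
  ⟨⟨2, -2, 0, 0, 0, 0, 0, 0⟩, ⟨0, 1, 0, 1, 0, -1, 0, -1⟩, ⟨1, 0, 1, 0, 1, 0, -1, 0⟩⟩,
  ⟨⟨2, -2, 0, 0, 0, 0, 0, 0⟩, ⟨0, 1, 0, 1, 0, 1, 0, 1⟩, ⟨-1, 0, 1, 0, 1, 0, 1, 0⟩⟩,
  ⟨⟨2, -2, 0, 0, 0, 0, 0, 0⟩, ⟨0, 1, 0, 1, 0, 1, 0, 1⟩, ⟨1, 0, -1, 0, -1, 0, -1, 0⟩⟩,
  ⟨⟨2, -2, 0, 0, 0, 0, 0, 0⟩, ⟨1, 0, -1, 0, -1, 0, -1, 0⟩, ⟨0, -1, 0, -1, 0, -1, 0, -1⟩⟩,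
  ⟨⟨2, -2, 0, 0, 0, 0, 0, 0⟩, ⟨1, 0, -1, 0, -1, 0, -1, 0⟩, ⟨0, 1, 0, 1, 0, 1, 0, 1⟩⟩,
  ⟨⟨2, -2, 0, 0, 0, 0, 0, 0⟩, ⟨1, 0, -1, 0, 1, 0, 1, 0⟩, ⟨0, -1, 0, 1, 0, -1, 0, 1⟩⟩,
  ⟨⟨2, -2, 0, 0, 0, 0, 0, 0⟩, ⟨1, 0, -1, 0, 1, 0, 1, 0⟩, ⟨0, 1, 0, -1, 0, 1, 0, -1⟩⟩,
  ⟨⟨2, -2, 0, 0, 0, 0, 0, 0⟩, ⟨1, 0, 1, 0, -1, 0, 1, 0⟩, ⟨0, -1, 0, 1, 0, 1, 0, -1⟩⟩,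
  ⟨⟨2, -2, 0, 0, 0, 0, 0, 0⟩, ⟨1, 0, 1, 0, -1, 0, 1, 0⟩, ⟨0, 1, 0, -1, 0, -1, 0, 1⟩⟩,
  ⟨⟨2, -2, 0, 0, 0, 0, 0, 0⟩, ⟨1, 0, 1, 0, 1, 0, -1, 0⟩, ⟨0, -1, 0, -1, 0, 1, 0, 1⟩⟩,
  ⟨⟨2, -2, 0, 0, 0, 0, 0, 0⟩, ⟨1, 0, 1, 0, 1, 0, -1, 0⟩, ⟨0, 1, 0, 1, 0, -1, 0, -1⟩⟩,
  ⟨⟨1, -2, 1, 0, 1, 0, 1, 0⟩, ⟨-1, 0, -1, 0, 1, -2, 1, 0⟩, ⟨0, 0, 0, 0, 0, 0, 0, 0⟩⟩,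
  ⟨⟨1, -2, 1, 0, 1, 0, 1, 0⟩, ⟨-1, 0, 1, -2, 1, 0, -1, 0⟩, ⟨0, 0, 0, 0, 0, 0, 0, 0⟩⟩,
  ⟨⟨1, -2, 1, 0, 1, 0, 1, 0⟩, ⟨-1, 0, 1, 0, -1, 0, 1, -2⟩, ⟨0, 0, 0, 0, 0, 0, 0, 0⟩⟩,
  ⟨⟨1, -2, 1, 0, 1, 0, 1, 0⟩, ⟨-1, 2, -1, 0, -1, 0, -1, 0⟩, ⟨0, 0, 0, 0, 0, 0, 0, 0⟩⟩,
  ⟨⟨1, -2, 1, 0, 1, 0, 1, 0⟩, ⟨1, -2, 1, 0, 1, 0, 1, 0⟩, ⟨0, 0, 0, 0, 0, 0, 0, 0⟩⟩,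
  ⟨⟨1, -2, 1, 0, 1, 0, 1, 0⟩, ⟨1, 0, -1, 0, 1, 0, -1, 2⟩, ⟨0, 0, 0, 0, 0, 0, 0, 0⟩⟩,
  ⟨⟨1, -2, 1, 0, 1, 0, 1, 0⟩, ⟨1, 0, -1, 2, -1, 0, 1, 0⟩, ⟨0, 0, 0, 0, 0, 0, 0, 0⟩⟩,
  ⟨⟨1, -2, 1, 0, 1, 0, 1, 0⟩, ⟨1, 0, 1, 0, -1, 2, -1, 0⟩, ⟨0, 0, 0, 0, 0, 0, 0, 0⟩⟩,
  ⟨⟨1, -2, 1, 0, 1, 0, 1, 0⟩, ⟨0, 0, 0, 0, 0, 0, 0, 0⟩, ⟨-1, 0, -1, 0, 1, -2, 1, 0⟩⟩,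
  ⟨⟨1, -2, 1, 0, 1, 0, 1, 0⟩, ⟨0, 0, 0, 0, 0, 0, 0, 0⟩, ⟨-1, 0, 1, -2, 1, 0, -1, 0⟩⟩,
  ⟨⟨1, -2, 1, 0, 1, 0, 1, 0⟩, ⟨0, 0, 0, 0, 0, 0, 0, 0⟩, ⟨-1, 0, 1, 0, -1, 0, 1, -2⟩⟩,
  ⟨⟨1, -2, 1, 0, 1, 0, 1, 0⟩, ⟨0, 0, 0, 0, 0, 0, 0, 0⟩, ⟨-1, 2, -1, 0, -1, 0, -1, 0⟩⟩,
  ⟨⟨1, -2, 1, 0, 1, 0, 1, 0⟩, ⟨0, 0, 0, 0, 0, 0, 0, 0⟩, ⟨1, -2, 1, 0, 1, 0, 1, 0⟩⟩,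
  ⟨⟨1, -2, 1, 0, 1, 0, 1, 0⟩, ⟨0, 0, 0, 0, 0, 0, 0, 0⟩, ⟨1, 0, -1, 0, 1, 0, -1, 2⟩⟩,
  ⟨⟨1, -2, 1, 0, 1, 0, 1, 0⟩, ⟨0, 0, 0, 0, 0, 0, 0, 0⟩, ⟨1, 0, -1, 2, -1, 0, 1, 0⟩⟩,
  ⟨⟨1, -2, 1, 0, 1, 0, 1, 0⟩, ⟨0, 0, 0, 0, 0, 0, 0, 0⟩, ⟨1, 0, 1, 0, -1, 2, -1, 0⟩⟩,
  ⟨⟨0, 0, 0, 0, 0, 0, 0, 0⟩, ⟨1, -2, 1, 0, 1, 0, 1, 0⟩, ⟨-1, 0, -1, 0, 1, -2, 1, 0⟩⟩,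
  ⟨⟨0, 0, 0, 0, 0, 0, 0, 0⟩, ⟨1, -2, 1, 0, 1, 0, 1, 0⟩, ⟨-1, 0, 1, -2, 1, 0, -1, 0⟩⟩,
  ⟨⟨0, 0, 0, 0, 0, 0, 0, 0⟩, ⟨1, -2, 1, 0, 1, 0, 1, 0⟩, ⟨-1, 0, 1, 0, -1, 0, 1, -2⟩⟩,
  ⟨⟨0, 0, 0, 0, 0, 0, 0, 0⟩, ⟨1, -2, 1, 0, 1, 0, 1, 0⟩, ⟨-1, 2, -1, 0, -1, 0, -1, 0⟩⟩,
  ⟨⟨0, 0, 0, 0, 0, 0, 0, 0⟩, ⟨1, -2, 1, 0, 1, 0, 1, 0⟩, ⟨1, -2, 1, 0, 1, 0, 1, 0⟩⟩,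
  ⟨⟨0, 0, 0, 0, 0, 0, 0, 0⟩, ⟨1, -2, 1, 0, 1, 0, 1, 0⟩, ⟨1, 0, -1, 0, 1, 0, -1, 2⟩⟩,
  ⟨⟨0, 0, 0, 0, 0, 0, 0, 0⟩, ⟨1, -2, 1, 0, 1, 0, 1, 0⟩, ⟨1, 0, -1, 2, -1, 0, 1, 0⟩⟩,
  ⟨⟨0, 0, 0, 0, 0, 0, 0, 0⟩, ⟨1, -2, 1, 0, 1, 0, 1, 0⟩, ⟨1, 0, 1, 0, -1, 2, -1, 0⟩⟩,
  ⟨⟨1, -2, -1, 0, -1, 0, -1, 0⟩, ⟨-2, 0, 0, 0, 0, 0, 0, 0⟩, ⟨-2, 0, 0, 0, 0, 0, 0, 0⟩⟩,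
  ⟨⟨1, -2, -1, 0, -1, 0, -1, 0⟩, ⟨-2, 0, 0, 0, 0, 0, 0, 0⟩, ⟨2, 0, 0, 0, 0, 0, 0, 0⟩⟩,
  ⟨⟨1, -2, -1, 0, -1, 0, -1, 0⟩, ⟨0, 0, -2, 0, 0, 0, 0, 0⟩, ⟨0, 0, -2, 0, 0, 0, 0, 0⟩⟩,
  ⟨⟨1, -2, -1, 0, -1, 0, -1, 0⟩, ⟨0, 0, -2, 0, 0, 0, 0, 0⟩, ⟨0, 0, 2, 0, 0, 0, 0, 0⟩⟩,
  ⟨⟨1, -2, -1, 0, -1, 0, -1, 0⟩, ⟨0, 0, 0, 0, -2, 0, 0, 0⟩, ⟨0, 0, 0, 0, -2, 0, 0, 0⟩⟩,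
  ⟨⟨1, -2, -1, 0, -1, 0, -1, 0⟩, ⟨0, 0, 0, 0, -2, 0, 0, 0⟩, ⟨0, 0, 0, 0, 2, 0, 0, 0⟩⟩,
  ⟨⟨1, -2, -1, 0, -1, 0, -1, 0⟩, ⟨0, 0, 0, 0, 0, 0, -2, 0⟩, ⟨0, 0, 0, 0, 0, 0, -2, 0⟩⟩,
  ⟨⟨1, -2, -1, 0, -1, 0, -1, 0⟩, ⟨0, 0, 0, 0, 0, 0, -2, 0⟩, ⟨0, 0, 0, 0, 0, 0, 2, 0⟩⟩,
  ⟨⟨1, -2, -1, 0, -1, 0, -1, 0⟩, ⟨0, 0, 0, 0, 0, 0, 2, 0⟩, ⟨0, 0, 0, 0, 0, 0, -2, 0⟩⟩,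
  ⟨⟨1, -2, -1, 0, -1, 0, -1, 0⟩, ⟨0, 0, 0, 0, 0, 0, 2, 0⟩, ⟨0, 0, 0, 0, 0, 0, 2, 0⟩⟩,
  ⟨⟨1, -2, -1, 0, -1, 0, -1, 0⟩, ⟨0, 0, 0, 0, 2, 0, 0, 0⟩, ⟨0, 0, 0, 0, -2, 0, 0, 0⟩⟩,
  ⟨⟨1, -2, -1, 0, -1, 0, -1, 0⟩, ⟨0, 0, 0, 0, 2, 0, 0, 0⟩, ⟨0, 0, 0, 0, 2, 0, 0, 0⟩⟩,
  ⟨⟨1, -2, -1, 0, -1, 0, -1, 0⟩, ⟨0, 0, 2, 0, 0, 0, 0, 0⟩, ⟨0, 0, -2, 0, 0, 0, 0, 0⟩⟩,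
  ⟨⟨1, -2, -1, 0, -1, 0, -1, 0⟩, ⟨0, 0, 2, 0, 0, 0, 0, 0⟩, ⟨0, 0, 2, 0, 0, 0, 0, 0⟩⟩,
  ⟨⟨1, -2, -1, 0, -1, 0, -1, 0⟩, ⟨2, 0, 0, 0, 0, 0, 0, 0⟩, ⟨-2, 0, 0, 0, 0, 0, 0, 0⟩⟩,
  ⟨⟨1, -2, -1, 0, -1, 0, -1, 0⟩, ⟨2, 0, 0, 0, 0, 0, 0, 0⟩, ⟨2, 0, 0, 0, 0, 0, 0, 0⟩⟩,
  ⟨⟨2, 0, 1, 0, 1, -1, 0, -1⟩, ⟨-1, 0, 0, 0, 0, 1, 1, -1⟩, ⟨-1, 1, 0, 1, 0, 0, -1, 0⟩⟩,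
  ⟨⟨2, 0, 1, 0, 1, -1, 0, -1⟩, ⟨-1, 0, 0, 0, 0, 1, 1, -1⟩, ⟨1, -1, 0, -1, 0, 0, 1, 0⟩⟩,
  ⟨⟨2, 0, 1, 0, 1, -1, 0, -1⟩, ⟨-1, 1, 0, 1, 0, 0, -1, 0⟩, ⟨-1, 0, 0, 0, 0, 1, 1, -1⟩⟩,
  ⟨⟨2, 0, 1, 0, 1, -1, 0, -1⟩, ⟨-1, 1, 0, 1, 0, 0, -1, 0⟩, ⟨1, 0, 0, 0, 0, -1, -1, 1⟩⟩,
  ⟨⟨2, 0, 1, 0, 1, -1, 0, -1⟩, ⟨0, -1, -1, 1, -1, 0, 0, 0⟩, ⟨0, 0, -1, 0, 1, -1, 0, -1⟩⟩,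
  ⟨⟨2, 0, 1, 0, 1, -1, 0, -1⟩, ⟨0, -1, -1, 1, -1, 0, 0, 0⟩, ⟨0, 0, 1, 0, -1, 1, 0, 1⟩⟩,
  ⟨⟨2, 0, 1, 0, 1, -1, 0, -1⟩, ⟨0, 0, -1, 0, 1, -1, 0, -1⟩, ⟨0, -1, -1, 1, -1, 0, 0, 0⟩⟩,
  ⟨⟨2, 0, 1, 0, 1, -1, 0, -1⟩, ⟨0, 0, -1, 0, 1, -1, 0, -1⟩, ⟨0, 1, 1, -1, 1, 0, 0, 0⟩⟩,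
  ⟨⟨2, 0, 1, 0, 1, -1, 0, -1⟩, ⟨0, 0, 1, 0, -1, 1, 0, 1⟩, ⟨0, -1, -1, 1, -1, 0, 0, 0⟩⟩,
  ⟨⟨2, 0, 1, 0, 1, -1, 0, -1⟩, ⟨0, 0, 1, 0, -1, 1, 0, 1⟩, ⟨0, 1, 1, -1, 1, 0, 0, 0⟩⟩,
  ⟨⟨2, 0, 1, 0, 1, -1, 0, -1⟩, ⟨0, 1, 1, -1, 1, 0, 0, 0⟩, ⟨0, 0, -1, 0, 1, -1, 0, -1⟩⟩,
  ⟨⟨2, 0, 1, 0, 1, -1, 0, -1⟩, ⟨0, 1, 1, -1, 1, 0, 0, 0⟩, ⟨0, 0, 1, 0, -1, 1, 0, 1⟩⟩,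
  ⟨⟨2, 0, 1, 0, 1, -1, 0, -1⟩, ⟨1, -1, 0, -1, 0, 0, 1, 0⟩, ⟨-1, 0, 0, 0, 0, 1, 1, -1⟩⟩,
  ⟨⟨2, 0, 1, 0, 1, -1, 0, -1⟩, ⟨1, -1, 0, -1, 0, 0, 1, 0⟩, ⟨1, 0, 0, 0, 0, -1, -1, 1⟩⟩,
  ⟨⟨2, 0, 1, 0, 1, -1, 0, -1⟩, ⟨1, 0, 0, 0, 0, -1, -1, 1⟩, ⟨-1, 1, 0, 1, 0, 0, -1, 0⟩⟩,
  ⟨⟨2, 0, 1, 0, 1, -1, 0, -1⟩, ⟨1, 0, 0, 0, 0, -1, -1, 1⟩, ⟨1, -1, 0, -1, 0, 0, 1, 0⟩⟩,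
  ⟨⟨2, 0, 1, 0, -1, 1, 0, 1⟩, ⟨-1, 0, 0, 0, 0, -1, -1, 1⟩, ⟨0, -1, -1, 1, 1, 0, 0, 0⟩⟩,
  ⟨⟨2, 0, 1, 0, -1, 1, 0, 1⟩, ⟨-1, 0, 0, 0, 0, -1, -1, 1⟩, ⟨0, 1, 1, -1, -1, 0, 0, 0⟩⟩,
  ⟨⟨2, 0, 1, 0, -1, 1, 0, 1⟩, ⟨-1, 1, 0, 1, 0, 0, 1, 0⟩, ⟨0, 0, -1, 0, -1, 1, 0, 1⟩⟩,
  ⟨⟨2, 0, 1, 0, -1, 1, 0, 1⟩, ⟨-1, 1, 0, 1, 0, 0, 1, 0⟩, ⟨0, 0, 1, 0, 1, -1, 0, -1⟩⟩,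
  ⟨⟨2, 0, 1, 0, -1, 1, 0, 1⟩, ⟨0, -1, -1, 1, 1, 0, 0, 0⟩, ⟨-1, 0, 0, 0, 0, -1, -1, 1⟩⟩,
  ⟨⟨2, 0, 1, 0, -1, 1, 0, 1⟩, ⟨0, -1, -1, 1, 1, 0, 0, 0⟩, ⟨1, 0, 0, 0, 0, 1, 1, -1⟩⟩,
  ⟨⟨2, 0, 1, 0, -1, 1, 0, 1⟩, ⟨0, 0, -1, 0, -1, 1, 0, 1⟩, ⟨-1, 1, 0, 1, 0, 0, 1, 0⟩⟩,
  ⟨⟨2, 0, 1, 0, -1, 1, 0, 1⟩, ⟨0, 0, -1, 0, -1, 1, 0, 1⟩, ⟨1, -1, 0, -1, 0, 0, -1, 0⟩⟩,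
  ⟨⟨2, 0, 1, 0, -1, 1, 0, 1⟩, ⟨0, 0, 1, 0, 1, -1, 0, -1⟩, ⟨-1, 1, 0, 1, 0, 0, 1, 0⟩⟩,
  ⟨⟨2, 0, 1, 0, -1, 1, 0, 1⟩, ⟨0, 0, 1, 0, 1, -1, 0, -1⟩, ⟨1, -1, 0, -1, 0, 0, -1, 0⟩⟩,
  ⟨⟨2, 0, 1, 0, -1, 1, 0, 1⟩, ⟨0, 1, 1, -1, -1, 0, 0, 0⟩, ⟨-1, 0, 0, 0, 0, -1, -1, 1⟩⟩,
  ⟨⟨2, 0, 1, 0, -1, 1, 0, 1⟩, ⟨0, 1, 1, -1, -1, 0, 0, 0⟩, ⟨1, 0, 0, 0, 0, 1, 1, -1⟩⟩,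
  ⟨⟨2, 0, 1, 0, -1, 1, 0, 1⟩, ⟨1, -1, 0, -1, 0, 0, -1, 0⟩, ⟨0, 0, -1, 0, -1, 1, 0, 1⟩⟩,
  ⟨⟨2, 0, 1, 0, -1, 1, 0, 1⟩, ⟨1, -1, 0, -1, 0, 0, -1, 0⟩, ⟨0, 0, 1, 0, 1, -1, 0, -1⟩⟩,
  ⟨⟨2, 0, 1, 0, -1, 1, 0, 1⟩, ⟨1, 0, 0, 0, 0, 1, 1, -1⟩, ⟨0, -1, -1, 1, 1, 0, 0, 0⟩⟩,
  ⟨⟨2, 0, 1, 0, -1, 1, 0, 1⟩, ⟨1, 0, 0, 0, 0, 1, 1, -1⟩, ⟨0, 1, 1, -1, -1, 0, 0, 0⟩⟩,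
  ⟨⟨2, 0, 1, 0, -1, 1, 0, -1⟩, ⟨-1, 0, 0, 0, 0, 1, -1, 1⟩, ⟨0, 0, -1, 0, -1, 1, 0, -1⟩⟩,
  ⟨⟨2, 0, 1, 0, -1, 1, 0, -1⟩, ⟨-1, 0, 0, 0, 0, 1, -1, 1⟩, ⟨0, 0, 1, 0, 1, -1, 0, 1⟩⟩,
  ⟨⟨2, 0, 1, 0, -1, 1, 0, -1⟩, ⟨-1, 1, 0, -1, 0, 0, 1, 0⟩, ⟨0, -1, 1, -1, -1, 0, 0, 0⟩⟩,
  ⟨⟨2, 0, 1, 0, -1, 1, 0, -1⟩, ⟨-1, 1, 0, -1, 0, 0, 1, 0⟩, ⟨0, 1, -1, 1, 1, 0, 0, 0⟩⟩,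
  ⟨⟨2, 0, 1, 0, -1, 1, 0, -1⟩, ⟨0, -1, 1, -1, -1, 0, 0, 0⟩, ⟨-1, 1, 0, -1, 0, 0, 1, 0⟩⟩,
  ⟨⟨2, 0, 1, 0, -1, 1, 0, -1⟩, ⟨0, -1, 1, -1, -1, 0, 0, 0⟩, ⟨1, -1, 0, 1, 0, 0, -1, 0⟩⟩,
  ⟨⟨2, 0, 1, 0, -1, 1, 0, -1⟩, ⟨0, 0, -1, 0, -1, 1, 0, -1⟩, ⟨-1, 0, 0, 0, 0, 1, -1, 1⟩⟩,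
  ⟨⟨2, 0, 1, 0, -1, 1, 0, -1⟩, ⟨0, 0, -1, 0, -1, 1, 0, -1⟩, ⟨1, 0, 0, 0, 0, -1, 1, -1⟩⟩,
  ⟨⟨2, 0, 1, 0, -1, 1, 0, -1⟩, ⟨0, 0, 1, 0, 1, -1, 0, 1⟩, ⟨-1, 0, 0, 0, 0, 1, -1, 1⟩⟩,
  ⟨⟨2, 0, 1, 0, -1, 1, 0, -1⟩, ⟨0, 0, 1, 0, 1, -1, 0, 1⟩, ⟨1, 0, 0, 0, 0, -1, 1, -1⟩⟩,
  ⟨⟨2, 0, 1, 0, -1, 1, 0, -1⟩, ⟨0, 1, -1, 1, 1, 0, 0, 0⟩, ⟨-1, 1, 0, -1, 0, 0, 1, 0⟩⟩,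
  ⟨⟨2, 0, 1, 0, -1, 1, 0, -1⟩, ⟨0, 1, -1, 1, 1, 0, 0, 0⟩, ⟨1, -1, 0, 1, 0, 0, -1, 0⟩⟩,
  ⟨⟨2, 0, 1, 0, -1, 1, 0, -1⟩, ⟨1, -1, 0, 1, 0, 0, -1, 0⟩, ⟨0, -1, 1, -1, -1, 0, 0, 0⟩⟩,
  ⟨⟨2, 0, 1, 0, -1, 1, 0, -1⟩, ⟨1, -1, 0, 1, 0, 0, -1, 0⟩, ⟨0, 1, -1, 1, 1, 0, 0, 0⟩⟩,
  ⟨⟨2, 0, 1, 0, -1, 1, 0, -1⟩, ⟨1, 0, 0, 0, 0, -1, 1, -1⟩, ⟨0, 0, -1, 0, -1, 1, 0, -1⟩⟩,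
  ⟨⟨2, 0, 1, 0, -1, 1, 0, -1⟩, ⟨1, 0, 0, 0, 0, -1, 1, -1⟩, ⟨0, 0, 1, 0, 1, -1, 0, 1⟩⟩,
  ⟨⟨2, 0, 0, 0, 0, 0, 0, 0⟩, ⟨-1, 0, -1, 0, -1, 0, 1, -2⟩, ⟨0, 0, -2, 0, 0, 0, 0, 0⟩⟩,
  ⟨⟨2, 0, 0, 0, 0, 0, 0, 0⟩, ⟨-1, 0, -1, 0, -1, 0, 1, -2⟩, ⟨0, 0, 2, 0, 0, 0, 0, 0⟩⟩,
  ⟨⟨2, 0, 0, 0, 0, 0, 0, 0⟩, ⟨-1, 0, -1, 0, -1, 2, 1, 0⟩, ⟨0, 0, 0, 0, -2, 0, 0, 0⟩⟩,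
  ⟨⟨2, 0, 0, 0, 0, 0, 0, 0⟩, ⟨-1, 0, -1, 0, -1, 2, 1, 0⟩, ⟨0, 0, 0, 0, 2, 0, 0, 0⟩⟩,
  ⟨⟨2, 0, 0, 0, 0, 0, 0, 0⟩, ⟨-1, 0, -1, 0, 1, -2, -1, 0⟩, ⟨0, 0, 0, 0, 0, 0, -2, 0⟩⟩,
  ⟨⟨2, 0, 0, 0, 0, 0, 0, 0⟩, ⟨-1, 0, -1, 0, 1, -2, -1, 0⟩, ⟨0, 0, 0, 0, 0, 0, 2, 0⟩⟩,
  ⟨⟨2, 0, 0, 0, 0, 0, 0, 0⟩, ⟨-1, 0, -1, 0, 1, 0, -1, 2⟩, ⟨-2, 0, 0, 0, 0, 0, 0, 0⟩⟩,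
  ⟨⟨2, 0, 0, 0, 0, 0, 0, 0⟩, ⟨-1, 0, -1, 0, 1, 0, -1, 2⟩, ⟨2, 0, 0, 0, 0, 0, 0, 0⟩⟩,
  ⟨⟨2, 0, 0, 0, 0, 0, 0, 0⟩, ⟨-1, 0, -1, 2, -1, 0, 1, 0⟩, ⟨-2, 0, 0, 0, 0, 0, 0, 0⟩⟩,
  ⟨⟨2, 0, 0, 0, 0, 0, 0, 0⟩, ⟨-1, 0, -1, 2, -1, 0, 1, 0⟩, ⟨2, 0, 0, 0, 0, 0, 0, 0⟩⟩,
  ⟨⟨2, 0, 0, 0, 0, 0, 0, 0⟩, ⟨-1, 0, -1, 2, 1, 0, -1, 0⟩, ⟨0, 0, -2, 0, 0, 0, 0, 0⟩⟩,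
  ⟨⟨2, 0, 0, 0, 0, 0, 0, 0⟩, ⟨-1, 0, -1, 2, 1, 0, -1, 0⟩, ⟨0, 0, 2, 0, 0, 0, 0, 0⟩⟩,
  ⟨⟨2, 0, 0, 0, 0, 0, 0, 0⟩, ⟨-1, 0, 1, -2, -1, 0, -1, 0⟩, ⟨0, 0, 0, 0, -2, 0, 0, 0⟩⟩,
  ⟨⟨2, 0, 0, 0, 0, 0, 0, 0⟩, ⟨-1, 0, 1, -2, -1, 0, -1, 0⟩, ⟨0, 0, 0, 0, 2, 0, 0, 0⟩⟩,
  ⟨⟨2, 0, 0, 0, 0, 0, 0, 0⟩, ⟨-1, 0, 1, -2, 1, 0, 1, 0⟩, ⟨0, 0, 0, 0, 0, 0, -2, 0⟩⟩,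
  ⟨⟨2, 0, 0, 0, 0, 0, 0, 0⟩, ⟨-1, 0, 1, -2, 1, 0, 1, 0⟩, ⟨0, 0, 0, 0, 0, 0, 2, 0⟩⟩,
  ⟨⟨2, 0, 0, 0, 0, 0, 0, 0⟩, ⟨-1, 0, 1, 0, -1, 0, -1, 2⟩, ⟨0, 0, 0, 0, 0, 0, -2, 0⟩⟩,
  ⟨⟨2, 0, 0, 0, 0, 0, 0, 0⟩, ⟨-1, 0, 1, 0, -1, 0, -1, 2⟩, ⟨0, 0, 0, 0, 0, 0, 2, 0⟩⟩,
  ⟨⟨2, 0, 0, 0, 0, 0, 0, 0⟩, ⟨-1, 0, 1, 0, -1, 2, -1, 0⟩, ⟨-2, 0, 0, 0, 0, 0, 0, 0⟩⟩,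
  ⟨⟨2, 0, 0, 0, 0, 0, 0, 0⟩, ⟨-1, 0, 1, 0, -1, 2, -1, 0⟩, ⟨2, 0, 0, 0, 0, 0, 0, 0⟩⟩,
  ⟨⟨2, 0, 0, 0, 0, 0, 0, 0⟩, ⟨-1, 0, 1, 0, 1, -2, 1, 0⟩, ⟨0, 0, -2, 0, 0, 0, 0, 0⟩⟩,
  ⟨⟨2, 0, 0, 0, 0, 0, 0, 0⟩, ⟨-1, 0, 1, 0, 1, -2, 1, 0⟩, ⟨0, 0, 2, 0, 0, 0, 0, 0⟩⟩,
  ⟨⟨2, 0, 0, 0, 0, 0, 0, 0⟩, ⟨-1, 0, 1, 0, 1, 0, 1, -2⟩, ⟨0, 0, 0, 0, -2, 0, 0, 0⟩⟩,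
  ⟨⟨2, 0, 0, 0, 0, 0, 0, 0⟩, ⟨-1, 0, 1, 0, 1, 0, 1, -2⟩, ⟨0, 0, 0, 0, 2, 0, 0, 0⟩⟩,
  ⟨⟨2, 0, 0, 0, 0, 0, 0, 0⟩, ⟨-1, 1, -1, 1, -1, 1, -1, 1⟩, ⟨0, -1, 0, 1, 0, 1, 0, 1⟩⟩,
  ⟨⟨2, 0, 0, 0, 0, 0, 0, 0⟩, ⟨-1, 1, -1, 1, -1, 1, -1, 1⟩, ⟨0, 1, 0, -1, 0, -1, 0, -1⟩⟩,
  ⟨⟨2, 0, 0, 0, 0, 0, 0, 0⟩, ⟨-1, 1, -1, 1, 1, -1, 1, -1⟩, ⟨0, -1, 0, -1, 0, -1, 0, 1⟩⟩,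
  ⟨⟨2, 0, 0, 0, 0, 0, 0, 0⟩, ⟨-1, 1, -1, 1, 1, -1, 1, -1⟩, ⟨0, 1, 0, 1, 0, 1, 0, -1⟩⟩,
  ⟨⟨2, 0, 0, 0, 0, 0, 0, 0⟩, ⟨-1, 1, 1, -1, -1, 1, 1, -1⟩, ⟨0, -1, 0, 1, 0, -1, 0, -1⟩⟩,
  ⟨⟨2, 0, 0, 0, 0, 0, 0, 0⟩, ⟨-1, 1, 1, -1, -1, 1, 1, -1⟩, ⟨0, 1, 0, -1, 0, 1, 0, 1⟩⟩,
  ⟨⟨2, 0, 0, 0, 0, 0, 0, 0⟩, ⟨-1, 1, 1, -1, 1, -1, -1, 1⟩, ⟨0, -1, 0, -1, 0, 1, 0, -1⟩⟩,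
  ⟨⟨2, 0, 0, 0, 0, 0, 0, 0⟩, ⟨-1, 1, 1, -1, 1, -1, -1, 1⟩, ⟨0, 1, 0, 1, 0, -1, 0, 1⟩⟩,
  ⟨⟨2, 0, 0, 0, 0, 0, 0, 0⟩, ⟨-1, 2, -1, 0, -1, 0, 1, 0⟩, ⟨0, 0, 0, 0, 0, 0, -2, 0⟩⟩,
  ⟨⟨2, 0, 0, 0, 0, 0, 0, 0⟩, ⟨-1, 2, -1, 0, -1, 0, 1, 0⟩, ⟨0, 0, 0, 0, 0, 0, 2, 0⟩⟩,
  ⟨⟨2, 0, 0, 0, 0, 0, 0, 0⟩, ⟨-1, 2, -1, 0, 1, 0, -1, 0⟩, ⟨0, 0, 0, 0, -2, 0, 0, 0⟩⟩,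
  ⟨⟨2, 0, 0, 0, 0, 0, 0, 0⟩, ⟨-1, 2, -1, 0, 1, 0, -1, 0⟩, ⟨0, 0, 0, 0, 2, 0, 0, 0⟩⟩,
  ⟨⟨2, 0, 0, 0, 0, 0, 0, 0⟩, ⟨-1, 2, 1, 0, -1, 0, -1, 0⟩, ⟨0, 0, -2, 0, 0, 0, 0, 0⟩⟩,
  ⟨⟨2, 0, 0, 0, 0, 0, 0, 0⟩, ⟨-1, 2, 1, 0, -1, 0, -1, 0⟩, ⟨0, 0, 2, 0, 0, 0, 0, 0⟩⟩,
  ⟨⟨2, 0, 0, 0, 0, 0, 0, 0⟩, ⟨-1, 2, 1, 0, 1, 0, 1, 0⟩, ⟨-2, 0, 0, 0, 0, 0, 0, 0⟩⟩,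
  ⟨⟨2, 0, 0, 0, 0, 0, 0, 0⟩, ⟨-1, 2, 1, 0, 1, 0, 1, 0⟩, ⟨2, 0, 0, 0, 0, 0, 0, 0⟩⟩,
  ⟨⟨2, 0, 0, 0, 0, 0, 0, 0⟩, ⟨1, -2, -1, 0, -1, 0, -1, 0⟩, ⟨-2, 0, 0, 0, 0, 0, 0, 0⟩⟩,
  ⟨⟨2, 0, 0, 0, 0, 0, 0, 0⟩, ⟨1, -2, -1, 0, -1, 0, -1, 0⟩, ⟨2, 0, 0, 0, 0, 0, 0, 0⟩⟩,
  ⟨⟨2, 0, 0, 0, 0, 0, 0, 0⟩, ⟨1, -2, -1, 0, 1, 0, 1, 0⟩, ⟨0, 0, -2, 0, 0, 0, 0, 0⟩⟩,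
  ⟨⟨2, 0, 0, 0, 0, 0, 0, 0⟩, ⟨1, -2, -1, 0, 1, 0, 1, 0⟩, ⟨0, 0, 2, 0, 0, 0, 0, 0⟩⟩,
  ⟨⟨2, 0, 0, 0, 0, 0, 0, 0⟩, ⟨1, -2, 1, 0, -1, 0, 1, 0⟩, ⟨0, 0, 0, 0, -2, 0, 0, 0⟩⟩,
  ⟨⟨2, 0, 0, 0, 0, 0, 0, 0⟩, ⟨1, -2, 1, 0, -1, 0, 1, 0⟩, ⟨0, 0, 0, 0, 2, 0, 0, 0⟩⟩,
  ⟨⟨2, 0, 0, 0, 0, 0, 0, 0⟩, ⟨1, -2, 1, 0, 1, 0, -1, 0⟩, ⟨0, 0, 0, 0, 0, 0, -2, 0⟩⟩,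
  ⟨⟨2, 0, 0, 0, 0, 0, 0, 0⟩, ⟨1, -2, 1, 0, 1, 0, -1, 0⟩, ⟨0, 0, 0, 0, 0, 0, 2, 0⟩⟩,
  ⟨⟨2, 0, 0, 0, 0, 0, 0, 0⟩, ⟨1, -1, -1, 1, -1, 1, 1, -1⟩, ⟨0, -1, 0, -1, 0, 1, 0, -1⟩⟩,
  ⟨⟨2, 0, 0, 0, 0, 0, 0, 0⟩, ⟨1, -1, -1, 1, -1, 1, 1, -1⟩, ⟨0, 1, 0, 1, 0, -1, 0, 1⟩⟩,
  ⟨⟨2, 0, 0, 0, 0, 0, 0, 0⟩, ⟨1, -1, -1, 1, 1, -1, -1, 1⟩, ⟨0, -1, 0, 1, 0, -1, 0, -1⟩⟩,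
  ⟨⟨2, 0, 0, 0, 0, 0, 0, 0⟩, ⟨1, -1, -1, 1, 1, -1, -1, 1⟩, ⟨0, 1, 0, -1, 0, 1, 0, 1⟩⟩,
  ⟨⟨2, 0, 0, 0, 0, 0, 0, 0⟩, ⟨1, -1, 1, -1, -1, 1, -1, 1⟩, ⟨0, -1, 0, -1, 0, -1, 0, 1⟩⟩,
  ⟨⟨2, 0, 0, 0, 0, 0, 0, 0⟩, ⟨1, -1, 1, -1, -1, 1, -1, 1⟩, ⟨0, 1, 0, 1, 0, 1, 0, -1⟩⟩,
  ⟨⟨2, 0, 0, 0, 0, 0, 0, 0⟩, ⟨1, -1, 1, -1, 1, -1, 1, -1⟩, ⟨0, -1, 0, 1, 0, 1, 0, 1⟩⟩,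
  ⟨⟨2, 0, 0, 0, 0, 0, 0, 0⟩, ⟨1, -1, 1, -1, 1, -1, 1, -1⟩, ⟨0, 1, 0, -1, 0, -1, 0, -1⟩⟩,
  ⟨⟨2, 0, 0, 0, 0, 0, 0, 0⟩, ⟨1, 0, -1, 0, -1, 0, -1, 2⟩, ⟨0, 0, 0, 0, -2, 0, 0, 0⟩⟩,
  ⟨⟨2, 0, 0, 0, 0, 0, 0, 0⟩, ⟨1, 0, -1, 0, -1, 0, -1, 2⟩, ⟨0, 0, 0, 0, 2, 0, 0, 0⟩⟩,
  ⟨⟨2, 0, 0, 0, 0, 0, 0, 0⟩, ⟨1, 0, -1, 0, -1, 2, -1, 0⟩, ⟨0, 0, -2, 0, 0, 0, 0, 0⟩⟩,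
  ⟨⟨2, 0, 0, 0, 0, 0, 0, 0⟩, ⟨1, 0, -1, 0, -1, 2, -1, 0⟩, ⟨0, 0, 2, 0, 0, 0, 0, 0⟩⟩,
  ⟨⟨2, 0, 0, 0, 0, 0, 0, 0⟩, ⟨1, 0, -1, 0, 1, -2, 1, 0⟩, ⟨-2, 0, 0, 0, 0, 0, 0, 0⟩⟩,
  ⟨⟨2, 0, 0, 0, 0, 0, 0, 0⟩, ⟨1, 0, -1, 0, 1, -2, 1, 0⟩, ⟨2, 0, 0, 0, 0, 0, 0, 0⟩⟩,
  ⟨⟨2, 0, 0, 0, 0, 0, 0, 0⟩, ⟨1, 0, -1, 0, 1, 0, 1, -2⟩, ⟨0, 0, 0, 0, 0, 0, -2, 0⟩⟩,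
  ⟨⟨2, 0, 0, 0, 0, 0, 0, 0⟩, ⟨1, 0, -1, 0, 1, 0, 1, -2⟩, ⟨0, 0, 0, 0, 0, 0, 2, 0⟩⟩,
  ⟨⟨2, 0, 0, 0, 0, 0, 0, 0⟩, ⟨1, 0, -1, 2, -1, 0, -1, 0⟩, ⟨0, 0, 0, 0, 0, 0, -2, 0⟩⟩,
  ⟨⟨2, 0, 0, 0, 0, 0, 0, 0⟩, ⟨1, 0, -1, 2, -1, 0, -1, 0⟩, ⟨0, 0, 0, 0, 0, 0, 2, 0⟩⟩,
  ⟨⟨2, 0, 0, 0, 0, 0, 0, 0⟩, ⟨1, 0, -1, 2, 1, 0, 1, 0⟩, ⟨0, 0, 0, 0, -2, 0, 0, 0⟩⟩,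
  ⟨⟨2, 0, 0, 0, 0, 0, 0, 0⟩, ⟨1, 0, -1, 2, 1, 0, 1, 0⟩, ⟨0, 0, 0, 0, 2, 0, 0, 0⟩⟩,
  ⟨⟨2, 0, 0, 0, 0, 0, 0, 0⟩, ⟨1, 0, 1, -2, -1, 0, 1, 0⟩, ⟨0, 0, -2, 0, 0, 0, 0, 0⟩⟩,
  ⟨⟨2, 0, 0, 0, 0, 0, 0, 0⟩, ⟨1, 0, 1, -2, -1, 0, 1, 0⟩, ⟨0, 0, 2, 0, 0, 0, 0, 0⟩⟩,
  ⟨⟨2, 0, 0, 0, 0, 0, 0, 0⟩, ⟨1, 0, 1, -2, 1, 0, -1, 0⟩, ⟨-2, 0, 0, 0, 0, 0, 0, 0⟩⟩,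
  ⟨⟨2, 0, 0, 0, 0, 0, 0, 0⟩, ⟨1, 0, 1, -2, 1, 0, -1, 0⟩, ⟨2, 0, 0, 0, 0, 0, 0, 0⟩⟩,
  ⟨⟨2, 0, 0, 0, 0, 0, 0, 0⟩, ⟨1, 0, 1, 0, -1, 0, 1, -2⟩, ⟨-2, 0, 0, 0, 0, 0, 0, 0⟩⟩,
  ⟨⟨2, 0, 0, 0, 0, 0, 0, 0⟩, ⟨1, 0, 1, 0, -1, 0, 1, -2⟩, ⟨2, 0, 0, 0, 0, 0, 0, 0⟩⟩,
  ⟨⟨2, 0, 0, 0, 0, 0, 0, 0⟩, ⟨1, 0, 1, 0, -1, 2, 1, 0⟩, ⟨0, 0, 0, 0, 0, 0, -2, 0⟩⟩,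
  ⟨⟨2, 0, 0, 0, 0, 0, 0, 0⟩, ⟨1, 0, 1, 0, -1, 2, 1, 0⟩, ⟨0, 0, 0, 0, 0, 0, 2, 0⟩⟩,
  ⟨⟨2, 0, 0, 0, 0, 0, 0, 0⟩, ⟨1, 0, 1, 0, 1, -2, -1, 0⟩, ⟨0, 0, 0, 0, -2, 0, 0, 0⟩⟩,
  ⟨⟨2, 0, 0, 0, 0, 0, 0, 0⟩, ⟨1, 0, 1, 0, 1, -2, -1, 0⟩, ⟨0, 0, 0, 0, 2, 0, 0, 0⟩⟩,
  ⟨⟨2, 0, 0, 0, 0, 0, 0, 0⟩, ⟨1, 0, 1, 0, 1, 0, -1, 2⟩, ⟨0, 0, -2, 0, 0, 0, 0, 0⟩⟩,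
  ⟨⟨2, 0, 0, 0, 0, 0, 0, 0⟩, ⟨1, 0, 1, 0, 1, 0, -1, 2⟩, ⟨0, 0, 2, 0, 0, 0, 0, 0⟩⟩,
  ⟨⟨2, 0, 0, 0, 0, 0, 0, 0⟩, ⟨-2, 0, 0, 0, 0, 0, 0, 0⟩, ⟨-1, 0, -1, 0, 1, 0, -1, 2⟩⟩,
  ⟨⟨2, 0, 0, 0, 0, 0, 0, 0⟩, ⟨-2, 0, 0, 0, 0, 0, 0, 0⟩, ⟨-1, 0, -1, 2, -1, 0, 1, 0⟩⟩,
  ⟨⟨2, 0, 0, 0, 0, 0, 0, 0⟩, ⟨-2, 0, 0, 0, 0, 0, 0, 0⟩, ⟨-1, 0, 1, 0, -1, 2, -1, 0⟩⟩,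
  ⟨⟨2, 0, 0, 0, 0, 0, 0, 0⟩, ⟨-2, 0, 0, 0, 0, 0, 0, 0⟩, ⟨-1, 2, 1, 0, 1, 0, 1, 0⟩⟩,
  ⟨⟨2, 0, 0, 0, 0, 0, 0, 0⟩, ⟨-2, 0, 0, 0, 0, 0, 0, 0⟩, ⟨1, -2, -1, 0, -1, 0, -1, 0⟩⟩,
  ⟨⟨2, 0, 0, 0, 0, 0, 0, 0⟩, ⟨-2, 0, 0, 0, 0, 0, 0, 0⟩, ⟨1, 0, -1, 0, 1, -2, 1, 0⟩⟩,
  ⟨⟨2, 0, 0, 0, 0, 0, 0, 0⟩, ⟨-2, 0, 0, 0, 0, 0, 0, 0⟩, ⟨1, 0, 1, -2, 1, 0, -1, 0⟩⟩,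
  ⟨⟨2, 0, 0, 0, 0, 0, 0, 0⟩, ⟨-2, 0, 0, 0, 0, 0, 0, 0⟩, ⟨1, 0, 1, 0, -1, 0, 1, -2⟩⟩,
  ⟨⟨2, 0, 0, 0, 0, 0, 0, 0⟩, ⟨0, -1, 0, -1, 0, -1, 0, 1⟩, ⟨-1, 1, -1, 1, 1, -1, 1, -1⟩⟩,
  ⟨⟨2, 0, 0, 0, 0, 0, 0, 0⟩, ⟨0, -1, 0, -1, 0, -1, 0, 1⟩, ⟨1, -1, 1, -1, -1, 1, -1, 1⟩⟩,
  ⟨⟨2, 0, 0, 0, 0, 0, 0, 0⟩, ⟨0, -1, 0, -1, 0, 1, 0, -1⟩, ⟨-1, 1, 1, -1, 1, -1, -1, 1⟩⟩,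
  ⟨⟨2, 0, 0, 0, 0, 0, 0, 0⟩, ⟨0, -1, 0, -1, 0, 1, 0, -1⟩, ⟨1, -1, -1, 1, -1, 1, 1, -1⟩⟩,
  ⟨⟨2, 0, 0, 0, 0, 0, 0, 0⟩, ⟨0, -1, 0, 1, 0, -1, 0, -1⟩, ⟨-1, 1, 1, -1, -1, 1, 1, -1⟩⟩,
  ⟨⟨2, 0, 0, 0, 0, 0, 0, 0⟩, ⟨0, -1, 0, 1, 0, -1, 0, -1⟩, ⟨1, -1, -1, 1, 1, -1, -1, 1⟩⟩,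
  ⟨⟨2, 0, 0, 0, 0, 0, 0, 0⟩, ⟨0, -1, 0, 1, 0, 1, 0, 1⟩, ⟨-1, 1, -1, 1, -1, 1, -1, 1⟩⟩,
  ⟨⟨2, 0, 0, 0, 0, 0, 0, 0⟩, ⟨0, -1, 0, 1, 0, 1, 0, 1⟩, ⟨1, -1, 1, -1, 1, -1, 1, -1⟩⟩,
  ⟨⟨2, 0, 0, 0, 0, 0, 0, 0⟩, ⟨0, 0, -2, 0, 0, 0, 0, 0⟩, ⟨-1, 0, -1, 0, -1, 0, 1, -2⟩⟩,
  ⟨⟨2, 0, 0, 0, 0, 0, 0, 0⟩, ⟨0, 0, -2, 0, 0, 0, 0, 0⟩, ⟨-1, 0, -1, 2, 1, 0, -1, 0⟩⟩,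
  ⟨⟨2, 0, 0, 0, 0, 0, 0, 0⟩, ⟨0, 0, -2, 0, 0, 0, 0, 0⟩, ⟨-1, 0, 1, 0, 1, -2, 1, 0⟩⟩,
  ⟨⟨2, 0, 0, 0, 0, 0, 0, 0⟩, ⟨0, 0, -2, 0, 0, 0, 0, 0⟩, ⟨-1, 2, 1, 0, -1, 0, -1, 0⟩⟩,
  ⟨⟨2, 0, 0, 0, 0, 0, 0, 0⟩, ⟨0, 0, -2, 0, 0, 0, 0, 0⟩, ⟨1, -2, -1, 0, 1, 0, 1, 0⟩⟩,
  ⟨⟨2, 0, 0, 0, 0, 0, 0, 0⟩, ⟨0, 0, -2, 0, 0, 0, 0, 0⟩, ⟨1, 0, -1, 0, -1, 2, -1, 0⟩⟩,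
  ⟨⟨2, 0, 0, 0, 0, 0, 0, 0⟩, ⟨0, 0, -2, 0, 0, 0, 0, 0⟩, ⟨1, 0, 1, -2, -1, 0, 1, 0⟩⟩,
  ⟨⟨2, 0, 0, 0, 0, 0, 0, 0⟩, ⟨0, 0, -2, 0, 0, 0, 0, 0⟩, ⟨1, 0, 1, 0, 1, 0, -1, 2⟩⟩,
  ⟨⟨2, 0, 0, 0, 0, 0, 0, 0⟩, ⟨0, 0, 0, 0, -2, 0, 0, 0⟩, ⟨-1, 0, -1, 0, -1, 2, 1, 0⟩⟩,
  ⟨⟨2, 0, 0, 0, 0, 0, 0, 0⟩, ⟨0, 0, 0, 0, -2, 0, 0, 0⟩, ⟨-1, 0, 1, -2, -1, 0, -1, 0⟩⟩,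
  ⟨⟨2, 0, 0, 0, 0, 0, 0, 0⟩, ⟨0, 0, 0, 0, -2, 0, 0, 0⟩, ⟨-1, 0, 1, 0, 1, 0, 1, -2⟩⟩,
  ⟨⟨2, 0, 0, 0, 0, 0, 0, 0⟩, ⟨0, 0, 0, 0, -2, 0, 0, 0⟩, ⟨-1, 2, -1, 0, 1, 0, -1, 0⟩⟩,
  ⟨⟨2, 0, 0, 0, 0, 0, 0, 0⟩, ⟨0, 0, 0, 0, -2, 0, 0, 0⟩, ⟨1, -2, 1, 0, -1, 0, 1, 0⟩⟩,
  ⟨⟨2, 0, 0, 0, 0, 0, 0, 0⟩, ⟨0, 0, 0, 0, -2, 0, 0, 0⟩, ⟨1, 0, -1, 0, -1, 0, -1, 2⟩⟩,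
  ⟨⟨2, 0, 0, 0, 0, 0, 0, 0⟩, ⟨0, 0, 0, 0, -2, 0, 0, 0⟩, ⟨1, 0, -1, 2, 1, 0, 1, 0⟩⟩,
  ⟨⟨2, 0, 0, 0, 0, 0, 0, 0⟩, ⟨0, 0, 0, 0, -2, 0, 0, 0⟩, ⟨1, 0, 1, 0, 1, -2, -1, 0⟩⟩,
  ⟨⟨2, 0, 0, 0, 0, 0, 0, 0⟩, ⟨0, 0, 0, 0, 0, 0, -2, 0⟩, ⟨-1, 0, -1, 0, 1, -2, -1, 0⟩⟩,
  ⟨⟨2, 0, 0, 0, 0, 0, 0, 0⟩, ⟨0, 0, 0, 0, 0, 0, -2, 0⟩, ⟨-1, 0, 1, -2, 1, 0, 1, 0⟩⟩,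
  ⟨⟨2, 0, 0, 0, 0, 0, 0, 0⟩, ⟨0, 0, 0, 0, 0, 0, -2, 0⟩, ⟨-1, 0, 1, 0, -1, 0, -1, 2⟩⟩,
  ⟨⟨2, 0, 0, 0, 0, 0, 0, 0⟩, ⟨0, 0, 0, 0, 0, 0, -2, 0⟩, ⟨-1, 2, -1, 0, -1, 0, 1, 0⟩⟩,
  ⟨⟨2, 0, 0, 0, 0, 0, 0, 0⟩, ⟨0, 0, 0, 0, 0, 0, -2, 0⟩, ⟨1, -2, 1, 0, 1, 0, -1, 0⟩⟩,
  ⟨⟨2, 0, 0, 0, 0, 0, 0, 0⟩, ⟨0, 0, 0, 0, 0, 0, -2, 0⟩, ⟨1, 0, -1, 0, 1, 0, 1, -2⟩⟩,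
  ⟨⟨2, 0, 0, 0, 0, 0, 0, 0⟩, ⟨0, 0, 0, 0, 0, 0, -2, 0⟩, ⟨1, 0, -1, 2, -1, 0, -1, 0⟩⟩,
  ⟨⟨2, 0, 0, 0, 0, 0, 0, 0⟩, ⟨0, 0, 0, 0, 0, 0, -2, 0⟩, ⟨1, 0, 1, 0, -1, 2, 1, 0⟩⟩,
  ⟨⟨2, 0, 0, 0, 0, 0, 0, 0⟩, ⟨0, 0, 0, 0, 0, 0, 2, 0⟩, ⟨-1, 0, -1, 0, 1, -2, -1, 0⟩⟩,
  ⟨⟨2, 0, 0, 0, 0, 0, 0, 0⟩, ⟨0, 0, 0, 0, 0, 0, 2, 0⟩, ⟨-1, 0, 1, -2, 1, 0, 1, 0⟩⟩,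
  ⟨⟨2, 0, 0, 0, 0, 0, 0, 0⟩, ⟨0, 0, 0, 0, 0, 0, 2, 0⟩, ⟨-1, 0, 1, 0, -1, 0, -1, 2⟩⟩,
  ⟨⟨2, 0, 0, 0, 0, 0, 0, 0⟩, ⟨0, 0, 0, 0, 0, 0, 2, 0⟩, ⟨-1, 2, -1, 0, -1, 0, 1, 0⟩⟩,
  ⟨⟨2, 0, 0, 0, 0, 0, 0, 0⟩, ⟨0, 0, 0, 0, 0, 0, 2, 0⟩, ⟨1, -2, 1, 0, 1, 0, -1, 0⟩⟩,
  ⟨⟨2, 0, 0, 0, 0, 0, 0, 0⟩, ⟨0, 0, 0, 0, 0, 0, 2, 0⟩, ⟨1, 0, -1, 0, 1, 0, 1, -2⟩⟩,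
  ⟨⟨2, 0, 0, 0, 0, 0, 0, 0⟩, ⟨0, 0, 0, 0, 0, 0, 2, 0⟩, ⟨1, 0, -1, 2, -1, 0, -1, 0⟩⟩,
  ⟨⟨2, 0, 0, 0, 0, 0, 0, 0⟩, ⟨0, 0, 0, 0, 0, 0, 2, 0⟩, ⟨1, 0, 1, 0, -1, 2, 1, 0⟩⟩,
  ⟨⟨2, 0, 0, 0, 0, 0, 0, 0⟩, ⟨0, 0, 0, 0, 2, 0, 0, 0⟩, ⟨-1, 0, -1, 0, -1, 2, 1, 0⟩⟩,
  ⟨⟨2, 0, 0, 0, 0, 0, 0, 0⟩, ⟨0, 0, 0, 0, 2, 0, 0, 0⟩, ⟨-1, 0, 1, -2, -1, 0, -1, 0⟩⟩,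
  ⟨⟨2, 0, 0, 0, 0, 0, 0, 0⟩, ⟨0, 0, 0, 0, 2, 0, 0, 0⟩, ⟨-1, 0, 1, 0, 1, 0, 1, -2⟩⟩,
  ⟨⟨2, 0, 0, 0, 0, 0, 0, 0⟩, ⟨0, 0, 0, 0, 2, 0, 0, 0⟩, ⟨-1, 2, -1, 0, 1, 0, -1, 0⟩⟩,
  ⟨⟨2, 0, 0, 0, 0, 0, 0, 0⟩, ⟨0, 0, 0, 0, 2, 0, 0, 0⟩, ⟨1, -2, 1, 0, -1, 0, 1, 0⟩⟩,
  ⟨⟨2, 0, 0, 0, 0, 0, 0, 0⟩, ⟨0, 0, 0, 0, 2, 0, 0, 0⟩, ⟨1, 0, -1, 0, -1, 0, -1, 2⟩⟩,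
  ⟨⟨2, 0, 0, 0, 0, 0, 0, 0⟩, ⟨0, 0, 0, 0, 2, 0, 0, 0⟩, ⟨1, 0, -1, 2, 1, 0, 1, 0⟩⟩,
  ⟨⟨2, 0, 0, 0, 0, 0, 0, 0⟩, ⟨0, 0, 0, 0, 2, 0, 0, 0⟩, ⟨1, 0, 1, 0, 1, -2, -1, 0⟩⟩,
  ⟨⟨2, 0, 0, 0, 0, 0, 0, 0⟩, ⟨0, 0, 2, 0, 0, 0, 0, 0⟩, ⟨-1, 0, -1, 0, -1, 0, 1, -2⟩⟩,
  ⟨⟨2, 0, 0, 0, 0, 0, 0, 0⟩, ⟨0, 0, 2, 0, 0, 0, 0, 0⟩, ⟨-1, 0, -1, 2, 1, 0, -1, 0⟩⟩,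
  ⟨⟨2, 0, 0, 0, 0, 0, 0, 0⟩, ⟨0, 0, 2, 0, 0, 0, 0, 0⟩, ⟨-1, 0, 1, 0, 1, -2, 1, 0⟩⟩,
  ⟨⟨2, 0, 0, 0, 0, 0, 0, 0⟩, ⟨0, 0, 2, 0, 0, 0, 0, 0⟩, ⟨-1, 2, 1, 0, -1, 0, -1, 0⟩⟩,
  ⟨⟨2, 0, 0, 0, 0, 0, 0, 0⟩, ⟨0, 0, 2, 0, 0, 0, 0, 0⟩, ⟨1, -2, -1, 0, 1, 0, 1, 0⟩⟩,
  ⟨⟨2, 0, 0, 0, 0, 0, 0, 0⟩, ⟨0, 0, 2, 0, 0, 0, 0, 0⟩, ⟨1, 0, -1, 0, -1, 2, -1, 0⟩⟩,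
  ⟨⟨2, 0, 0, 0, 0, 0, 0, 0⟩, ⟨0, 0, 2, 0, 0, 0, 0, 0⟩, ⟨1, 0, 1, -2, -1, 0, 1, 0⟩⟩,
  ⟨⟨2, 0, 0, 0, 0, 0, 0, 0⟩, ⟨0, 0, 2, 0, 0, 0, 0, 0⟩, ⟨1, 0, 1, 0, 1, 0, -1, 2⟩⟩,
  ⟨⟨2, 0, 0, 0, 0, 0, 0, 0⟩, ⟨0, 1, 0, -1, 0, -1, 0, -1⟩, ⟨-1, 1, -1, 1, -1, 1, -1, 1⟩⟩,
  ⟨⟨2, 0, 0, 0, 0, 0, 0, 0⟩, ⟨0, 1, 0, -1, 0, -1, 0, -1⟩, ⟨1, -1, 1, -1, 1, -1, 1, -1⟩⟩,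
  ⟨⟨2, 0, 0, 0, 0, 0, 0, 0⟩, ⟨0, 1, 0, -1, 0, 1, 0, 1⟩, ⟨-1, 1, 1, -1, -1, 1, 1, -1⟩⟩,
  ⟨⟨2, 0, 0, 0, 0, 0, 0, 0⟩, ⟨0, 1, 0, -1, 0, 1, 0, 1⟩, ⟨1, -1, -1, 1, 1, -1, -1, 1⟩⟩,
  ⟨⟨2, 0, 0, 0, 0, 0, 0, 0⟩, ⟨0, 1, 0, 1, 0, -1, 0, 1⟩, ⟨-1, 1, 1, -1, 1, -1, -1, 1⟩⟩,
  ⟨⟨2, 0, 0, 0, 0, 0, 0, 0⟩, ⟨0, 1, 0, 1, 0, -1, 0, 1⟩, ⟨1, -1, -1, 1, -1, 1, 1, -1⟩⟩,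
  ⟨⟨2, 0, 0, 0, 0, 0, 0, 0⟩, ⟨0, 1, 0, 1, 0, 1, 0, -1⟩, ⟨-1, 1, -1, 1, 1, -1, 1, -1⟩⟩,
  ⟨⟨2, 0, 0, 0, 0, 0, 0, 0⟩, ⟨0, 1, 0, 1, 0, 1, 0, -1⟩, ⟨1, -1, 1, -1, -1, 1, -1, 1⟩⟩,
  ⟨⟨2, 0, 0, 0, 0, 0, 0, 0⟩, ⟨2, 0, 0, 0, 0, 0, 0, 0⟩, ⟨-1, 0, -1, 0, 1, 0, -1, 2⟩⟩,
  ⟨⟨2, 0, 0, 0, 0, 0, 0, 0⟩, ⟨2, 0, 0, 0, 0, 0, 0, 0⟩, ⟨-1, 0, -1, 2, -1, 0, 1, 0⟩⟩,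
  ⟨⟨2, 0, 0, 0, 0, 0, 0, 0⟩, ⟨2, 0, 0, 0, 0, 0, 0, 0⟩, ⟨-1, 0, 1, 0, -1, 2, -1, 0⟩⟩,
  ⟨⟨2, 0, 0, 0, 0, 0, 0, 0⟩, ⟨2, 0, 0, 0, 0, 0, 0, 0⟩, ⟨-1, 2, 1, 0, 1, 0, 1, 0⟩⟩,
  ⟨⟨2, 0, 0, 0, 0, 0, 0, 0⟩, ⟨2, 0, 0, 0, 0, 0, 0, 0⟩, ⟨1, -2, -1, 0, -1, 0, -1, 0⟩⟩,
  ⟨⟨2, 0, 0, 0, 0, 0, 0, 0⟩, ⟨2, 0, 0, 0, 0, 0, 0, 0⟩, ⟨1, 0, -1, 0, 1, -2, 1, 0⟩⟩,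
  ⟨⟨2, 0, 0, 0, 0, 0, 0, 0⟩, ⟨2, 0, 0, 0, 0, 0, 0, 0⟩, ⟨1, 0, 1, -2, 1, 0, -1, 0⟩⟩,
  ⟨⟨2, 0, 0, 0, 0, 0, 0, 0⟩, ⟨2, 0, 0, 0, 0, 0, 0, 0⟩, ⟨1, 0, 1, 0, -1, 0, 1, -2⟩⟩,
  ⟨⟨0, 2, 0, 0, 0, 0, 0, 0⟩, ⟨-1, 1, -1, 1, -1, 1, 1, -1⟩, ⟨-1, 0, -1, 0, 1, 0, 1, 0⟩⟩,
  ⟨⟨0, 2, 0, 0, 0, 0, 0, 0⟩, ⟨-1, 1, -1, 1, -1, 1, 1, -1⟩, ⟨1, 0, 1, 0, -1, 0, -1, 0⟩⟩,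
  ⟨⟨0, 2, 0, 0, 0, 0, 0, 0⟩, ⟨-1, 1, -1, 1, 1, -1, -1, 1⟩, ⟨-1, 0, 1, 0, 1, 0, -1, 0⟩⟩,
  ⟨⟨0, 2, 0, 0, 0, 0, 0, 0⟩, ⟨-1, 1, -1, 1, 1, -1, -1, 1⟩, ⟨1, 0, -1, 0, -1, 0, 1, 0⟩⟩,
  ⟨⟨0, 2, 0, 0, 0, 0, 0, 0⟩, ⟨-1, 1, 1, -1, -1, 1, -1, 1⟩, ⟨-1, 0, 1, 0, -1, 0, 1, 0⟩⟩,
  ⟨⟨0, 2, 0, 0, 0, 0, 0, 0⟩, ⟨-1, 1, 1, -1, -1, 1, -1, 1⟩, ⟨1, 0, -1, 0, 1, 0, -1, 0⟩⟩,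
  ⟨⟨0, 2, 0, 0, 0, 0, 0, 0⟩, ⟨-1, 1, 1, -1, 1, -1, 1, -1⟩, ⟨-1, 0, -1, 0, -1, 0, -1, 0⟩⟩,
  ⟨⟨0, 2, 0, 0, 0, 0, 0, 0⟩, ⟨-1, 1, 1, -1, 1, -1, 1, -1⟩, ⟨1, 0, 1, 0, 1, 0, 1, 0⟩⟩,
  ⟨⟨0, 2, 0, 0, 0, 0, 0, 0⟩, ⟨1, -1, -1, 1, -1, 1, -1, 1⟩, ⟨-1, 0, -1, 0, -1, 0, -1, 0⟩⟩,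
  ⟨⟨0, 2, 0, 0, 0, 0, 0, 0⟩, ⟨1, -1, -1, 1, -1, 1, -1, 1⟩, ⟨1, 0, 1, 0, 1, 0, 1, 0⟩⟩,
  ⟨⟨0, 2, 0, 0, 0, 0, 0, 0⟩, ⟨1, -1, -1, 1, 1, -1, 1, -1⟩, ⟨-1, 0, 1, 0, -1, 0, 1, 0⟩⟩,
  ⟨⟨0, 2, 0, 0, 0, 0, 0, 0⟩, ⟨1, -1, -1, 1, 1, -1, 1, -1⟩, ⟨1, 0, -1, 0, 1, 0, -1, 0⟩⟩,
  ⟨⟨0, 2, 0, 0, 0, 0, 0, 0⟩, ⟨1, -1, 1, -1, -1, 1, 1, -1⟩, ⟨-1, 0, 1, 0, 1, 0, -1, 0⟩⟩,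
  ⟨⟨0, 2, 0, 0, 0, 0, 0, 0⟩, ⟨1, -1, 1, -1, -1, 1, 1, -1⟩, ⟨1, 0, -1, 0, -1, 0, 1, 0⟩⟩,
  ⟨⟨0, 2, 0, 0, 0, 0, 0, 0⟩, ⟨1, -1, 1, -1, 1, -1, -1, 1⟩, ⟨-1, 0, -1, 0, 1, 0, 1, 0⟩⟩,
  ⟨⟨0, 2, 0, 0, 0, 0, 0, 0⟩, ⟨1, -1, 1, -1, 1, -1, -1, 1⟩, ⟨1, 0, 1, 0, -1, 0, -1, 0⟩⟩,
  ⟨⟨0, 2, 0, 0, 0, 0, 0, 0⟩, ⟨-1, 0, -1, 0, -1, 0, -1, 0⟩, ⟨-1, 1, 1, -1, 1, -1, 1, -1⟩⟩,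
  ⟨⟨0, 2, 0, 0, 0, 0, 0, 0⟩, ⟨-1, 0, -1, 0, -1, 0, -1, 0⟩, ⟨1, -1, -1, 1, -1, 1, -1, 1⟩⟩,
  ⟨⟨0, 2, 0, 0, 0, 0, 0, 0⟩, ⟨-1, 0, -1, 0, 1, 0, 1, 0⟩, ⟨-1, 1, -1, 1, -1, 1, 1, -1⟩⟩,
  ⟨⟨0, 2, 0, 0, 0, 0, 0, 0⟩, ⟨-1, 0, -1, 0, 1, 0, 1, 0⟩, ⟨1, -1, 1, -1, 1, -1, -1, 1⟩⟩,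
  ⟨⟨0, 2, 0, 0, 0, 0, 0, 0⟩, ⟨-1, 0, 1, 0, -1, 0, 1, 0⟩, ⟨-1, 1, 1, -1, -1, 1, -1, 1⟩⟩,
  ⟨⟨0, 2, 0, 0, 0, 0, 0, 0⟩, ⟨-1, 0, 1, 0, -1, 0, 1, 0⟩, ⟨1, -1, -1, 1, 1, -1, 1, -1⟩⟩,
  ⟨⟨0, 2, 0, 0, 0, 0, 0, 0⟩, ⟨-1, 0, 1, 0, 1, 0, -1, 0⟩, ⟨-1, 1, -1, 1, 1, -1, -1, 1⟩⟩,
  ⟨⟨0, 2, 0, 0, 0, 0, 0, 0⟩, ⟨-1, 0, 1, 0, 1, 0, -1, 0⟩, ⟨1, -1, 1, -1, -1, 1, 1, -1⟩⟩,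
  ⟨⟨0, 2, 0, 0, 0, 0, 0, 0⟩, ⟨1, 0, -1, 0, -1, 0, 1, 0⟩, ⟨-1, 1, -1, 1, 1, -1, -1, 1⟩⟩,
  ⟨⟨0, 2, 0, 0, 0, 0, 0, 0⟩, ⟨1, 0, -1, 0, -1, 0, 1, 0⟩, ⟨1, -1, 1, -1, -1, 1, 1, -1⟩⟩,
  ⟨⟨0, 2, 0, 0, 0, 0, 0, 0⟩, ⟨1, 0, -1, 0, 1, 0, -1, 0⟩, ⟨-1, 1, 1, -1, -1, 1, -1, 1⟩⟩,
  ⟨⟨0, 2, 0, 0, 0, 0, 0, 0⟩, ⟨1, 0, -1, 0, 1, 0, -1, 0⟩, ⟨1, -1, -1, 1, 1, -1, 1, -1⟩⟩,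
  ⟨⟨0, 2, 0, 0, 0, 0, 0, 0⟩, ⟨1, 0, 1, 0, -1, 0, -1, 0⟩, ⟨-1, 1, -1, 1, -1, 1, 1, -1⟩⟩,
  ⟨⟨0, 2, 0, 0, 0, 0, 0, 0⟩, ⟨1, 0, 1, 0, -1, 0, -1, 0⟩, ⟨1, -1, 1, -1, 1, -1, -1, 1⟩⟩,
  ⟨⟨0, 2, 0, 0, 0, 0, 0, 0⟩, ⟨1, 0, 1, 0, 1, 0, 1, 0⟩, ⟨-1, 1, 1, -1, 1, -1, 1, -1⟩⟩,
  ⟨⟨0, 2, 0, 0, 0, 0, 0, 0⟩, ⟨1, 0, 1, 0, 1, 0, 1, 0⟩, ⟨1, -1, -1, 1, -1, 1, -1, 1⟩⟩]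

set_option maxRecDepth 1000000 in
set_option maxHeartbeats 4000000 in
theorem normList_eq : normList = normLit := by decide +kernel

end Cfsg.Agent.Lib.Helper14.J2
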