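import Cfsg.Agent.Lib.Helper14.J2J
import Cfsg.Agent.Lib.Helper14.J2E

set_option autoImplicit false

/-!
Icosian model, part L: the coordinates of a minimal vector; every non-zero coordinate is a unit
multiple of one of the fixed generators.
-/

namespace Cfsg.Agent.Lib.Helper14.J2

open Quaternion Cfsg.Spor ZQ V3

namespace ZQ

/-- unit of the icosian ring -/
def IsUnitZ (u : ZQ) : Prop := Par u ∧ sqs u = 4 ∧ gB u = 0

instance : DecidablePred IsUnitZ := fun u => by unfold IsUnitZ; infer_instance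

/-- all fixed generators -/
def Γall : List ZQ := two' :: (Γ8 ++ Γ4)

/-- `p` is a unit multiple of a fixed generator -/
def Normable (p : ZQ) : Prop := ∃ u g, IsUnitZ u ∧ g ∈ Γall ∧ mulH u g = p

/-- candidate unit and generator for a lattice element -/
def nrm (p : ZQ) : ZQ × ZQ :=
  if sqs p = 4 then
    if gB p = 0 then (p, one') else (mulH p (tt - one'), tt)
  else if gB p = -4 then (-mulH p tt, sg)
  else if IsEven (mulH p (conj hh)) ∧ Par (halve (mulH p (conj hh))) then (halve (mulH p (conj hh)), hh)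
  else if IsEven (mulH p (conj hb)) ∧ Par (halve (mulH p (conj hb))) then (halve (mulH p (conj hb)), hb)
  else if IsEven (mulH p (conj g3)) ∧ Par (halve (mulH p (conj g3))) then (halve (mulH p (conj g3)), g3)
  else if IsEven (mulH p (conj g4)) ∧ Par (halve (mulH p (conj g4))) then (halve (mulH p (conj g4)), g4)
  else (halve (mulH p (conj g5)), g5)

/-- the candidate works -/
def NrmOk (p : ZQ) : Prop := IsUnitZ (nrm p).1 ∧ (nrm p).2 ∈ Γall ∧ mulH (nrm p).1 (nrm p).2 = p

instance : DecidablePred NrmOk := fun p => by unfold NrmOk; infer_instance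

theorem normable_of_nrmOk {p : ZQ} (h : NrmOk p) : Normable p := ⟨_, _, h.1, h.2.1, h.2.2⟩

end ZQ

set_option maxRecDepth 1000000 in
theorem nrmOk_T4 : ∀ e ∈ T4, NrmOk e.1 := by decide +kernel

set_option maxRecDepth 1000000 in
set_option maxHeartbeats 4000000 in
theorem nrmOk_T8 : ∀ e ∈ T8, gB e.1 = 0 ∨ gB e.1 = -4 → NrmOk e.1 := by decide +kernel

set_option maxRecDepth 1000000 in
theorem gB_T4 : ∀ e ∈ T4, gB e.1 = 0 ∨ gB e.1 = 4 := by decide +kernel

set_option maxRecDepth 1000000 in
theorem not_inIh_T4 : ∀ e ∈ T4, ¬ InIh e.1 := by decide +kernel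

set_option maxRecDepth 1000000 in
set_option maxHeartbeats 4000000 in
theorem gB_T8 : ∀ e ∈ T8, gB e.1 ≠ -8 ∧ (InIh e.1 → gB e.1 = 0 ∨ gB e.1 = 8) := by decide +kernel

end Cfsg.Agent.Lib.Helper14.J2
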