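import Cfsg.Agent.Lib.Helper14.J2L
import Cfsg.Agent.Lib.Helper14.J2K

set_option autoImplicit false

/-!
Icosian model, part M: every minimal vector of the icosian Leech lattice is a unit multiple of one
of the 315 normalized vectors.
-/

namespace Cfsg.Agent.Lib.Helper14.J2

open Quaternion Cfsg.Spor ZQ V3

/-- model version of `I h ∩ I h̄ = 2 I` -/
theorem exists_double_of_inter {p : ZQ} (h1 : InIh p) (h2 : InIhb p) : ∃ q, Par q ∧ p = q + q := by
  have m1 : toH p ∈ leftIdeal icoH := (mem_leftIdeal_icoH _).mpr ⟨p, h1, rfl⟩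
  have m2 : toH p ∈ leftIdeal (star icoH) := (mem_leftIdeal_star _).mpr ⟨p, h2, rfl⟩
  obtain ⟨c, hc, e⟩ := twoI_of_mem_inter m1 m2
  obtain ⟨q, hq, rfl⟩ := (mem_icosians_iff c).mp hc
  refine ⟨q, hq, ?_⟩
  apply toH_injective
  rw [e, toH_add]

namespace ZQ

/-- the possible coordinates of a minimal vector -/
def Nice (p : ZQ) : Prop :=
  p = 0 ∨ sqs p = 4 ∨ (sqs p = 8 ∧ (gB p = 0 ∨ gB p = -4)) ∨ ∃ q, IsUnitZ q ∧ p = q + q

theorem sqs_double (q : ZQ) : sqs (q + q) = 4 * sqs q := by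
  unfold sqs
  simp only [add_a0, add_b0, add_a1, add_b1, add_a2, add_b2, add_a3, add_b3]
  ring

theorem gB_double (q : ZQ) : gB (q + q) = 4 * gB q := by
  unfold gB
  simp only [add_a0, add_b0, add_a1, add_b1, add_a2, add_b2, add_a3, add_b3]
  ring

theorem T4_of {p : ZQ} (hp : Par p) (h : sqs p = 4) : entry p ∈ T4 := (mem_T_of_sqs hp).1 h
theorem T8_of {p : ZQ} (hp : Par p) (h : sqs p = 8) : entry p ∈ T8 := (mem_T_of_sqs hp).2 h

theorem nice_aux {p q r : ZQ} (pp : Par p) (pq : Par q) (pr : Par r)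
    (hs : sqs p + sqs q + sqs r = 16) (hg : gB p + gB q + gB r = 0)
    (hz : q = 0 ∨ r = 0 → InIh p ∧ InIh q ∧ InIh r) (hzz : q = 0 → r = 0 → InIhb p) : Nice p := by
  have np := sqs_nonneg p
  have nq := sqs_nonneg q
  have nr := sqs_nonneg r
  have dp := four_dvd_sqs pp
  have dq := four_dvd_sqs pq
  have dr := four_dvd_sqs pr
  have hcases : sqs p = 0 ∨ sqs p = 4 ∨ sqs p = 8 ∨ sqs p = 12 ∨ sqs p = 16 := by omega
  rcases hcases with e | e | e | e | e
  · exact Or.inl (sqs_eq_zero e)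
  · exact Or.inr (Or.inl e)
  · refine Or.inr (Or.inr (Or.inl ⟨e, ?_⟩))
    have hc : (sqs q = 8 ∧ sqs r = 0) ∨ (sqs q = 0 ∧ sqs r = 8) ∨ (sqs q = 4 ∧ sqs r = 4) := by omega
    rcases hc with ⟨eq, er⟩ | ⟨eq, er⟩ | ⟨eq, er⟩
    · have r0 : r = 0 := sqs_eq_zero er
      obtain ⟨ip, iq, -⟩ := hz (Or.inr r0)
      have g1 := (gB_T8 (entry p) (T8_of pp e)).2 ip
      have g2 := (gB_T8 (entry q) (T8_of pq eq)).2 iq
      simp only [entry] at g1 g2
      rw [r0, gB_zero] at hg
      omega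
    · have q0 : q = 0 := sqs_eq_zero eq
      obtain ⟨ip, -, ir⟩ := hz (Or.inl q0)
      have g1 := (gB_T8 (entry p) (T8_of pp e)).2 ip
      have g2 := (gB_T8 (entry r) (T8_of pr er)).2 ir
      simp only [entry] at g1 g2
      rw [q0, gB_zero] at hg
      omega
    · have g1 := gB_T4 (entry q) (T4_of pq eq)
      have g2 := gB_T4 (entry r) (T4_of pr er)
      have g3 := (gB_T8 (entry p) (T8_of pp e)).1
      simp only [entry] at g1 g2 g3
      omega
  · exfalso
    have hc : (sqs q = 4 ∧ sqs r = 0) ∨ (sqs q = 0 ∧ sqs r = 4) := by omega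
    rcases hc with ⟨eq, er⟩ | ⟨eq, er⟩
    · have r0 : r = 0 := sqs_eq_zero er
      obtain ⟨-, iq, -⟩ := hz (Or.inr r0)
      exact not_inIh_T4 (entry q) (T4_of pq eq) iq
    · have q0 : q = 0 := sqs_eq_zero eq
      obtain ⟨-, -, ir⟩ := hz (Or.inl q0)
      exact not_inIh_T4 (entry r) (T4_of pr er) ir
  · have q0 : q = 0 := sqs_eq_zero (by omega)
    have r0 : r = 0 := sqs_eq_zero (by omega)
    obtain ⟨ip, -, -⟩ := hz (Or.inl q0)
    obtain ⟨u, hu, rfl⟩ := exists_double_of_inter ip (hzz q0 r0)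
    refine Or.inr (Or.inr (Or.inr ⟨u, ⟨hu, ?_, ?_⟩, rfl⟩))
    · rw [sqs_double] at e; omega
    · rw [q0, r0, gB_zero, gB_double] at hg; omega

theorem mulH_two' (q : ZQ) : mulH q two' = q + q := by
  ext <;> simp [mulH, halve, mulR, two', mA, mB] <;> omega

theorem two'_mem : two' ∈ Γall := by decide

theorem normable_of_nice {p : ZQ} (hp : Par p) (h : Nice p) (h0 : p ≠ 0) : Normable p := by
  rcases h with h | h | ⟨h, hg⟩ | ⟨q, hq, rfl⟩
  · exact absurd h h0
  · have := nrmOk_T4 (entry p) (T4_of hp h)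
    exact normable_of_nrmOk this
  · have := nrmOk_T8 (entry p) (T8_of hp h) hg
    exact normable_of_nrmOk this
  · exact ⟨q, two', hq, two'_mem, mulH_two' q⟩

end ZQ

namespace V3

theorem allIh {w : V3} (hL : InL w) (h : w.x = 0 ∨ w.y = 0 ∨ w.z = 0) :
    InIh w.x ∧ InIh w.y ∧ InIh w.z := by
  obtain ⟨x, y, z⟩ := w
  obtain ⟨px, py, pz, h1, h2, h3⟩ := hL
  simp only at px py pz h1 h2 h3 h ⊢
  rcases h with rfl | rfl | rfl
  · have iy : InIh y := by
      have := inId_neg h1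
      rwa [zero_sub, neg_neg] at this
    have iz : InIh z := by
      have := inId_sub iy h2
      rwa [sub_sub_cancel] at this
    exact ⟨inId_zero _, iy, iz⟩
  · have ix : InIh x := by rwa [sub_zero] at h1
    have iz : InIh z := by
      have := inId_neg h2
      rwa [zero_sub, neg_neg] at this
    exact ⟨ix, inId_zero _, iz⟩
  · have iy : InIh y := by rwa [sub_zero] at h2
    have ix : InIh x := by
      have := inId_add h1 iy
      rwa [sub_add_cancel] at this
    exact ⟨ix, iy, inId_zero _⟩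

theorem nice_all {w : V3} (hL : InL w) (hM : IsMinV w) : Nice w.x ∧ Nice w.y ∧ Nice w.z := by
  have hall := allIh hL
  obtain ⟨hs, hg⟩ := (isMinV_iff _).mp hM
  obtain ⟨x, y, z⟩ := w
  obtain ⟨px, py, pz, h1, h2, h3⟩ := hL
  simp only at px py pz h1 h2 h3 hs hg hall ⊢
  refine ⟨?_, ?_, ?_⟩
  · apply nice_aux px py pz hs hg
    · rintro (h | h)
      · exact hall (Or.inr (Or.inl h))
      · exact hall (Or.inr (Or.inr h))
    · rintro rfl rfl
      simpa using h3
  · apply nice_aux py px pz (by linarith) (by linarith)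
    · rintro (h | h)
      · obtain ⟨a, b, c⟩ := hall (Or.inl h); exact ⟨b, a, c⟩
      · obtain ⟨a, b, c⟩ := hall (Or.inr (Or.inr h)); exact ⟨b, a, c⟩
    · rintro rfl rfl
      simpa using h3
  · apply nice_aux pz px py (by linarith) (by linarith)
    · rintro (h | h)
      · obtain ⟨a, b, c⟩ := hall (Or.inl h); exact ⟨c, a, b⟩
      · obtain ⟨a, b, c⟩ := hall (Or.inr (Or.inl h)); exact ⟨c, a, b⟩
    · rintro rfl rfl
      simpa using h3

end V3

end Cfsg.Agent.Lib.Helper14.J2
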