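import Cfsg.Agent.Lib.Helper14.J2M

set_option autoImplicit false

/-!
Icosian model, part N: every minimal vector of the icosian Leech lattice is a unit multiple of one
of the 315 normalized vectors (quaternion level).
-/

namespace Cfsg.Agent.Lib.Helper14.J2

open Quaternion Cfsg.Spor ZQ V3

theorem toH_unit {u : ZQ} (hu : IsUnitZ u) : toH u * star (toH u) = 1 := by
  obtain ⟨hp, hs, hg⟩ := hu
  rw [← toH_conj, toH_mul, mulR_conj_self, hs, hg]
  ext <;> simp <;> norm_num

theorem toH_unit' {u : ZQ} (hu : IsUnitZ u) : star (toH u) * toH u = 1 := by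
  rw [Quaternion.star_mul_self, ← Quaternion.self_mul_star, toH_unit hu]

theorem toH_unit_mem {u : ZQ} (hu : IsUnitZ u) : toH u ∈ icosians :=
  (mem_icosians_iff _).mpr ⟨u, hu.1, rfl⟩

theorem mem_Γall_iff (g : ZQ) : g ∈ Γall ↔ g = two' ∨ g ∈ Γ8 ∨ g ∈ Γ4 := by
  unfold Γall
  rw [List.mem_cons, List.mem_append]

theorem par_of_mem_Γall : ∀ g ∈ Γall, Par g := by decide

theorem lsm_zero_right (c : ℍ[ℝ]) : lsm c 0 = 0 := by
  funext t; simp [lsm]

/-- every minimal vector is a unit multiple of a normalized one -/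
theorem exists_norm_rep {v : Fin 3 → ℍ[ℝ]} (hv : v ∈ icoLeech) (hm : qip v v = 4) :
    ∃ u w, IsUnitZ u ∧ w ∈ normLit ∧ v = lsm (toH u) (toV w) := by
  obtain ⟨w0, hL, rfl⟩ := (mem_icoLeech_iff v).mp hv
  have hM : IsMinV w0 := (qip_toV_eq_four_iff w0).mp hm
  obtain ⟨nx, ny, nz⟩ := nice_all hL hM
  -- the first non-zero coordinate is a unit multiple of a generator
  have hfirst : ∃ u g, IsUnitZ u ∧ g ∈ Γall ∧
      ((mulH u g = w0.x) ∨ (w0.x = 0 ∧ mulH u g = w0.y) ∨
        (w0.x = 0 ∧ w0.y = 0 ∧ mulH u g = w0.z)) := by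
    by_cases hx : w0.x = 0
    · by_cases hy : w0.y = 0
      · have hz : w0.z ≠ 0 := by
          intro hz
          have := ((isMinV_iff w0).mp hM).1
          rw [hx, hy, hz, sqs_zero] at this
          norm_num at this
        obtain ⟨u, g, hu, hg, e⟩ := normable_of_nice hL.2.2.1 nz hz
        exact ⟨u, g, hu, hg, Or.inr (Or.inr ⟨hx, hy, e⟩)⟩
      · obtain ⟨u, g, hu, hg, e⟩ := normable_of_nice hL.2.1 ny hy
        exact ⟨u, g, hu, hg, Or.inr (Or.inl ⟨hx, e⟩)⟩
    · obtain ⟨u, g, hu, hg, e⟩ := normable_of_nice hL.1 nx hx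
      exact ⟨u, g, hu, hg, Or.inl e⟩
  obtain ⟨u, g, hu, hg, hcase⟩ := hfirst
  have hU := toH_unit hu
  have hU' := toH_unit' hu
  have hUm : star (toH u) ∈ icosians := star_mem_icosians (toH_unit_mem hu)
  have hv' : lsm (star (toH u)) (toV w0) ∈ icoLeech := icoLeech_lsm hUm hv
  have hm' : qip (lsm (star (toH u)) (toV w0)) (lsm (star (toH u)) (toV w0)) = 4 := by
    rw [qip_lsm_left, qip_lsm_right, hm, star_star,
      show (4 : ℍ[ℝ]) = ((4 : ℝ) : ℍ[ℝ]) by norm_cast, Quaternion.coe_mul_eq_smul, mul_smul_comm,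
      hU']
    ext <;> simp
  obtain ⟨w1, hL1, e1⟩ := (mem_icoLeech_iff _).mp hv'
  have hM1 : IsMinV w1 := by
    rw [← qip_toV_eq_four_iff, ← e1]; exact hm'
  have cx : toH w1.x = star (toH u) * toH w0.x := (congrFun e1 0).symm
  have cy : toH w1.y = star (toH u) * toH w0.y := (congrFun e1 1).symm
  have cz : toH w1.z = star (toH u) * toH w0.z := (congrFun e1 2).symm
  have hpg := par_of_mem_Γall g hg
  have key : ∀ p q : ZQ, mulH u g = p → toH q = star (toH u) * toH p → q = g := by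
    intro p q hp hq
    apply toH_injective
    rw [hq, ← hp, toH_mulH hu.1 hpg, ← mul_assoc, hU', one_mul]
  have key0 : ∀ p q : ZQ, p = 0 → toH q = star (toH u) * toH p → q = 0 := by
    intro p q hp hq
    apply toH_injective
    rw [hq, hp, toH_zero, mul_zero]
  have hN : NormZ w1 := by
    rcases hcase with e | ⟨ex, e⟩ | ⟨ex, ey, e⟩
    · left
      rw [key _ _ e cx]
      exact (mem_Γall_iff g).mp hg
    · right; left
      exact ⟨key0 _ _ ex cx, by rw [key _ _ e cy]; exact (mem_Γall_iff g).mp hg⟩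
    · right; right
      exact ⟨key0 _ _ ex cx, key0 _ _ ey cy, by rw [key _ _ e cz]; exact (mem_Γall_iff g).mp hg⟩
  have hmem : w1 ∈ normLit := by
    rw [← normList_eq]; exact mem_normList hL1 hM1 hN
  refine ⟨u, w1, hu, hmem, ?_⟩
  rw [← e1, lsm_lsm, hU, lsm_one]

end Cfsg.Agent.Lib.Helper14.J2
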