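import Cfsg.Agent.Lib.Helper14.J2N

set_option autoImplicit false

/-!
Icosian model, part O: the 315 normalized minimal vectors are pairwise non-proportional; the
bijections `units × normalized ≃ minimal vectors` and `normalized ≃ reflections`.
-/

namespace Cfsg.Agent.Lib.Helper14.J2

open Quaternion Cfsg.Spor ZQ V3

set_option maxRecDepth 1000000 in
set_option maxHeartbeats 4000000 in
theorem normLit_ok : ∀ w ∈ normLit, InL w ∧ IsMinV w := by decide +kernel

set_option maxRecDepth 1000000 in
theorem normLit_length : normLit.length = 315 := by decide +kernel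

set_option maxRecDepth 1000000 in
set_option maxHeartbeats 4000000 in
theorem normLit_nodup : normLit.Nodup := by decide +kernel

/-- the norm of a model quaternion -/
theorem toH_mul_star (p : ZQ) :
    toH p * star (toH p) = (1 / 2 : ℝ) • toH ⟨sqs p, gB p, 0, 0, 0, 0, 0, 0⟩ := by
  rw [← toH_conj, toH_mul, mulR_conj_self]

theorem half_smul_inj {x y : ℍ[ℝ]} (h : (1 / 2 : ℝ) • x = (1 / 2 : ℝ) • y) : x = y :=
  smul_right_injective ℍ[ℝ] (by norm_num : (1 / 2 : ℝ) ≠ 0) h

/-- left multiplication by a quaternion of norm one preserves both parts of the norm -/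
theorem norm_eq_of_unit_mul {p p' : ZQ} {c : ℍ[ℝ]} (hc : c * star c = 1)
    (h : toH p = c * toH p') : sqs p = sqs p' ∧ gB p = gB p' := by
  have e : toH p * star (toH p) = toH p' * star (toH p') := by
    calc toH p * star (toH p) = c * (toH p' * star (toH p')) * star c := by
          rw [h, star_mul]; simp only [mul_assoc]
      _ = c * ((normSq (toH p') : ℝ) : ℍ[ℝ]) * star c := by rw [Quaternion.self_mul_star]
      _ = ((normSq (toH p') : ℝ) : ℍ[ℝ]) * (c * star c) := by
          rw [← Quaternion.coe_commutes, mul_assoc]
      _ = toH p' * star (toH p') := by rw [hc, mul_one, Quaternion.self_mul_star]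
  rw [toH_mul_star, toH_mul_star] at e
  have := toH_injective (half_smul_inj e)
  exact ⟨congrArg ZQ.a0 this, congrArg ZQ.b0 this⟩

/-- the profile of a vector: the norms of its coordinates -/
def prof (w : V3) : List ℤ := [sqs w.x, gB w.x, sqs w.y, gB w.y, sqs w.z, gB w.z]

/-- necessary condition for two minimal vectors to be proportional -/
def propB (w w' : V3) : Bool :=
  decide (prof w = prof w') && (decide (sqs (qipZ w w') = 256) && decide (gB (qipZ w w') = 0))

/-- a Boolean check of a relation on all pairs (earlier, later) of a list -/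
def pairOK (R : V3 → V3 → Bool) : List V3 → Bool
  | [] => true
  | a :: l => l.all (fun b => R a b) && pairOK R l

theorem pairOK_sound (R : V3 → V3 → Bool) : ∀ l : List V3, pairOK R l = true →
    ∀ a ∈ l, ∀ b ∈ l, a ≠ b → R a b = true ∨ R b a = true := by
  intro l
  induction l with
  | nil => intro _ a ha; simp at ha
  | cons x l ih =>
    intro h a ha b hb hne
    unfold pairOK at h
    rw [Bool.and_eq_true, List.all_eq_true] at h
    obtain ⟨h1, h2⟩ := h
    rcases List.mem_cons.mp ha with ha' | ha'
    · rcases List.mem_cons.mp hb with hb' | hb'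
      · exact absurd (ha'.trans hb'.symm) hne
      · rw [ha']; exact Or.inl (h1 b hb')
    · rcases List.mem_cons.mp hb with hb' | hb'
      · rw [hb']; exact Or.inr (h1 a ha')
      · exact ih h2 a ha' b hb' hne

set_option maxRecDepth 1000000 in
set_option maxHeartbeats 4000000 in
theorem normLit_noprop : pairOK (fun w w' => !propB w w') normLit = true := by decide +kernel

end Cfsg.Agent.Lib.Helper14.J2
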