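import Mathlib

/-!
helper14: S3313 (order of a simple group with the Hall–Janko involution pattern), part A:
the three counts in the alternating group of degree 5 (number of involutions, number of ordered
pairs of distinct commuting involutions, number of ordered pairs of involutions with product of
odd order), transported to any group isomorphic to `alternatingGroup (Fin 5)`.
-/

set_option autoImplicit false
set_option maxRecDepth 1000000

namespace Cfsg.Agent.Lib.Helper14.J2Ord

open Equiv

/-- the 15 involutions of `A₅`, as a finset of permutations -/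
def inv5 : Finset (Perm (Fin 5)) :=
  Finset.univ.filter (fun σ : Perm (Fin 5) => Perm.sign σ = 1 ∧ σ * σ = 1 ∧ σ ≠ 1)

theorem card_inv5 : inv5.card = 15 := by decide

theorem card_inv5_comm :
    ((inv5 ×ˢ inv5).filter (fun p => p.1 ≠ p.2 ∧ p.1 * p.2 = p.2 * p.1)).card = 30 := by
  decide

set_option maxHeartbeats 4000000 in
theorem card_inv5_odd :
    ((inv5 ×ˢ inv5).filter (fun p => (p.1 * p.2) ^ 15 = 1)).card = 195 := by
  decide

theorem mem_inv5 (σ : Perm (Fin 5)) :
    σ ∈ inv5 ↔ σ ∈ alternatingGroup (Fin 5) ∧ σ * σ = 1 ∧ σ ≠ 1 := by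
  simp [inv5, Equiv.Perm.mem_alternatingGroup]

end Cfsg.Agent.Lib.Helper14.J2Ord
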