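import Mathlib
import Cfsg.Agent.Lib.Helper14.J2OrdA0

/-!
helper14: S3313, part A: the three `A₅` counts transported to any group isomorphic to
`alternatingGroup (Fin 5)`.
-/

set_option autoImplicit false

namespace Cfsg.Agent.Lib.Helper14.J2Ord

open Equiv

section iso

variable {B : Type*} [Group B] (e : B ≃* alternatingGroup (Fin 5))

/-- the composite injective homomorphism `B → Perm (Fin 5)` -/
def toPerm5 : B →* Perm (Fin 5) := (alternatingGroup (Fin 5)).subtype.comp e.toMonoidHom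

theorem toPerm5_injective : Function.Injective (toPerm5 e) := by
  intro a b h
  have h1 : (e a : Perm (Fin 5)) = (e b : Perm (Fin 5)) := h
  exact e.injective (Subtype.ext h1)

theorem toPerm5_mem (b : B) : toPerm5 e b ∈ alternatingGroup (Fin 5) := (e b).2

theorem exists_toPerm5 (σ : Perm (Fin 5)) (hσ : σ ∈ alternatingGroup (Fin 5)) :
    ∃ b : B, toPerm5 e b = σ := by
  refine ⟨e.symm ⟨σ, hσ⟩, ?_⟩
  show ((e (e.symm ⟨σ, hσ⟩) : alternatingGroup (Fin 5)) : Perm (Fin 5)) = σ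
  rw [MulEquiv.apply_symm_apply]

theorem toPerm5_eq_one_iff (b : B) : toPerm5 e b = 1 ↔ b = 1 := by
  constructor
  · intro h
    apply toPerm5_injective e
    rw [h, map_one]
  · intro h; rw [h, map_one]

theorem toPerm5_invol_iff (b : B) : toPerm5 e b ∈ inv5 ↔ (b * b = 1 ∧ b ≠ 1) := by
  rw [mem_inv5]
  constructor
  · rintro ⟨-, h2, h3⟩
    refine ⟨?_, ?_⟩
    · rw [← toPerm5_eq_one_iff e, map_mul]; exact h2
    · intro h; exact h3 ((toPerm5_eq_one_iff e b).mpr h)
  · rintro ⟨h2, h3⟩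
    refine ⟨toPerm5_mem e b, ?_, ?_⟩
    · rw [← map_mul, h2, map_one]
    · intro h; exact h3 ((toPerm5_eq_one_iff e b).mp h)

include e in
/-- number of involutions -/
theorem card_invol : Nat.card {b : B // b * b = 1 ∧ b ≠ 1} = 15 := by
  classical
  have hbij : Function.Bijective
      (fun b : {b : B // b * b = 1 ∧ b ≠ 1} =>
        (⟨toPerm5 e b.1, (toPerm5_invol_iff e b.1).mpr b.2⟩ : {σ : Perm (Fin 5) // σ ∈ inv5})) := by
    constructor
    · intro a b h
      have h1 : toPerm5 e a.1 = toPerm5 e b.1 :=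
        congrArg (fun x : {σ : Perm (Fin 5) // σ ∈ inv5} => x.1) h
      exact Subtype.ext (toPerm5_injective e h1)
    · rintro ⟨σ, hσ⟩
      obtain ⟨b, hb⟩ := exists_toPerm5 e σ ((mem_inv5 σ).mp hσ).1
      refine ⟨⟨b, (toPerm5_invol_iff e b).mp (hb ▸ hσ)⟩, ?_⟩
      apply Subtype.ext
      exact hb
  rw [Nat.card_congr (Equiv.ofBijective _ hbij), Nat.card_eq_fintype_card, Fintype.card_coe]
  exact card_inv5

/-- transport of a count of pairs of involutions -/
theorem card_pairs (P : B → B → Prop) (P' : Perm (Fin 5) → Perm (Fin 5) → Prop) [DecidablePred (fun p : Perm (Fin 5) × Perm (Fin 5) => P' p.1 p.2)]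
    (hP : ∀ a b : B, P a b ↔ P' (toPerm5 e a) (toPerm5 e b)) :
    Nat.card {p : B × B // (p.1 * p.1 = 1 ∧ p.1 ≠ 1) ∧ (p.2 * p.2 = 1 ∧ p.2 ≠ 1) ∧ P p.1 p.2} =
      ((inv5 ×ˢ inv5).filter (fun p => P' p.1 p.2)).card := by
  classical
  have hmem : ∀ p : B × B, ((p.1 * p.1 = 1 ∧ p.1 ≠ 1) ∧ (p.2 * p.2 = 1 ∧ p.2 ≠ 1) ∧ P p.1 p.2) ↔
      ((toPerm5 e p.1, toPerm5 e p.2) : Perm (Fin 5) × Perm (Fin 5)) ∈
        (inv5 ×ˢ inv5).filter (fun p => P' p.1 p.2) := by
    intro p
    rw [Finset.mem_filter, Finset.mem_product, toPerm5_invol_iff, toPerm5_invol_iff, hP]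
    tauto
  have hbij : Function.Bijective
      (fun p : {p : B × B // (p.1 * p.1 = 1 ∧ p.1 ≠ 1) ∧ (p.2 * p.2 = 1 ∧ p.2 ≠ 1) ∧ P p.1 p.2} =>
        (⟨(toPerm5 e p.1.1, toPerm5 e p.1.2), (hmem p.1).mp p.2⟩ :
          {q : Perm (Fin 5) × Perm (Fin 5) // q ∈ (inv5 ×ˢ inv5).filter (fun p => P' p.1 p.2)})) := by
    constructor
    · intro a b h
      apply Subtype.ext
      have h1 : (toPerm5 e a.1.1, toPerm5 e a.1.2) = (toPerm5 e b.1.1, toPerm5 e b.1.2) :=
        congrArg (fun x : {q : Perm (Fin 5) × Perm (Fin 5) //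
          q ∈ (inv5 ×ˢ inv5).filter (fun p => P' p.1 p.2)} => x.1) h
      simp only [Prod.mk.injEq] at h1
      exact Prod.ext (toPerm5_injective e h1.1) (toPerm5_injective e h1.2)
    · rintro ⟨⟨σ, τ⟩, hq⟩
      have hq' := hq
      rw [Finset.mem_filter, Finset.mem_product] at hq'
      obtain ⟨a, ha⟩ := exists_toPerm5 e σ ((mem_inv5 σ).mp hq'.1.1).1
      obtain ⟨b, hb⟩ := exists_toPerm5 e τ ((mem_inv5 τ).mp hq'.1.2).1
      refine ⟨⟨(a, b), (hmem (a, b)).mpr ?_⟩, ?_⟩
      · show (toPerm5 e a, toPerm5 e b) ∈ _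
        rw [ha, hb]; exact hq
      · apply Subtype.ext
        show (toPerm5 e a, toPerm5 e b) = (σ, τ)
        rw [ha, hb]
  rw [Nat.card_congr (Equiv.ofBijective _ hbij), Nat.card_eq_fintype_card, Fintype.card_coe]

include e in
/-- number of ordered pairs of distinct commuting involutions -/
theorem card_comm_pairs :
    Nat.card {p : B × B // (p.1 * p.1 = 1 ∧ p.1 ≠ 1) ∧ (p.2 * p.2 = 1 ∧ p.2 ≠ 1) ∧
      (p.1 ≠ p.2 ∧ p.1 * p.2 = p.2 * p.1)} = 30 := by
  classical
  rw [card_pairs e (fun a b => a ≠ b ∧ a * b = b * a) (fun a b => a ≠ b ∧ a * b = b * a)]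
  · exact card_inv5_comm
  · intro a b
    constructor
    · rintro ⟨h1, h2⟩
      refine ⟨fun h => h1 (toPerm5_injective e h), ?_⟩
      rw [← map_mul, ← map_mul, h2]
    · rintro ⟨h1, h2⟩
      refine ⟨fun h => h1 (by rw [h]), ?_⟩
      apply toPerm5_injective e
      rw [map_mul, map_mul, h2]

include e in
/-- number of ordered pairs of involutions whose product has odd order -/
theorem card_odd_pairs :
    Nat.card {p : B × B // (p.1 * p.1 = 1 ∧ p.1 ≠ 1) ∧ (p.2 * p.2 = 1 ∧ p.2 ≠ 1) ∧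
      (p.1 * p.2) ^ 15 = 1} = 195 := by
  classical
  rw [card_pairs e (fun a b => (a * b) ^ 15 = 1) (fun a b => (a * b) ^ 15 = 1)]
  · exact card_inv5_odd
  · intro a b
    rw [← map_mul, ← map_pow, toPerm5_eq_one_iff]

include e in
/-- in a group isomorphic to `A₅`, `g ^ 15 = 1` iff `g` has odd order -/
theorem pow_fifteen_iff [Finite B] (g : B) : g ^ 15 = 1 ↔ Odd (orderOf g) := by
  have hcard : Nat.card B = 60 := by
    rw [Nat.card_congr e.toEquiv, Nat.card_eq_fintype_card]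
    have := two_mul_card_alternatingGroup (α := Fin 5)
    simp only [Fintype.card_perm, Fintype.card_fin] at this
    have h5 : Nat.factorial 5 = 120 := by decide
    omega
  constructor
  · intro h
    have h1 : orderOf g ∣ 15 := orderOf_dvd_of_pow_eq_one h
    exact Odd.of_dvd_nat (by decide) h1
  · intro h
    have h1 : orderOf g ∣ 60 := hcard ▸ orderOf_dvd_natCard g
    have h2 : Nat.Coprime (orderOf g) 4 := by
      have : Nat.Coprime (orderOf g) 2 := Nat.Coprime.symm (Nat.coprime_two_left.mpr h)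
      exact Nat.Coprime.pow_right 2 this
    have h3 : orderOf g ∣ 15 := by
      have : orderOf g ∣ 4 * 15 := by norm_num; exact h1
      exact Nat.Coprime.dvd_of_dvd_mul_left h2 this
    exact orderOf_dvd_iff_pow_eq_one.mp h3

end iso

end Cfsg.Agent.Lib.Helper14.J2Ord
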