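import Mathlib
import Cfsg.Agent.Lib.Helper2.Count

/-!
helper14: S3313, part B: generic counting lemmas (fibres over a conjugacy class, double counting of
commuting pairs and triples, involutions and cyclic groups, order of a semidirect product of
subgroups).
-/

set_option autoImplicit false

namespace Cfsg.Agent.Lib.Helper14.J2Ord

variable {G : Type*} [Group G]

theorem inv_eq_self_of_mul_self {u : G} (hu : u * u = 1) : u⁻¹ = u :=
  inv_eq_of_mul_eq_one_right hu

/-- if the involution `x` lies in the cyclic group generated by the product of the involutions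
`u`, `v`, then `x` commutes with `u` and `v` -/
theorem comm_of_mem_zpowers {u v x : G} (hu : u * u = 1) (hv : v * v = 1) (hx : x * x = 1)
    (h : x ∈ Subgroup.zpowers (u * v)) : u * x = x * u ∧ v * x = x * v := by
  obtain ⟨k, rfl⟩ := Subgroup.mem_zpowers_iff.mp h
  have hui : u⁻¹ = u := inv_eq_self_of_mul_self hu
  have hvi : v⁻¹ = v := inv_eq_self_of_mul_self hv
  have hxi : ((u * v) ^ k)⁻¹ = (u * v) ^ k := inv_eq_self_of_mul_self hx
  have key : ∀ a : G, a * (u * v) * a⁻¹ = (u * v)⁻¹ → a * (u * v) ^ k = (u * v) ^ k * a := by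
    intro a ha
    have h1 : a * (u * v) ^ k * a⁻¹ = (u * v) ^ k := by
      rw [← conj_zpow, ha, inv_zpow, hxi]
    calc a * (u * v) ^ k = a * (u * v) ^ k * a⁻¹ * a := by group
      _ = (u * v) ^ k * a := by rw [h1]
  constructor
  · apply key
    rw [mul_inv_rev, hui, hvi, ← mul_assoc, hu, one_mul]
  · apply key
    rw [mul_inv_rev, hui, hvi, mul_assoc, mul_assoc, hv, mul_one]

theorem isConj_conj_iff (y g b : G) : IsConj y (g * b * g⁻¹) ↔ IsConj y b := by
  constructor
  · intro h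
    exact h.trans (isConj_iff.mpr ⟨g⁻¹, by group⟩)
  · intro h
    exact h.trans (isConj_iff.mpr ⟨g, rfl⟩)

theorem mul_self_of_isConj {z a : G} (hz : z * z = 1) (h : IsConj z a) : a * a = 1 := by
  obtain ⟨g, rfl⟩ := isConj_iff.mp h
  calc g * z * g⁻¹ * (g * z * g⁻¹) = g * (z * z) * g⁻¹ := by group
    _ = 1 := by rw [hz]; group

theorem ne_one_of_isConj {z a : G} (hz : z ≠ 1) (h : IsConj z a) : a ≠ 1 := by
  obtain ⟨g, rfl⟩ := isConj_iff.mp h
  intro h1
  apply hz
  calc z = g⁻¹ * (g * z * g⁻¹) * g := by group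
    _ = 1 := by rw [h1]; group

/-- **fibres over a conjugacy class have constant size** -/
theorem card_fibre_conj [Finite G] {α : Type*} [Finite α] (x : G) (act : G → α ≃ α)
    (R : G → α → Prop) (hR : ∀ g a ω, R a ω ↔ R (g * a * g⁻¹) (act g ω)) :
    Nat.card {p : G × α // IsConj x p.1 ∧ R p.1 p.2} =
      Nat.card {a : G // IsConj x a} * Nat.card {ω : α // R x ω} := by
  classical
  haveI : Fintype {a : G // IsConj x a} := Fintype.ofFinite _
  let e1 : {p : G × α // IsConj x p.1 ∧ R p.1 p.2} ≃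
      Σ a : {a : G // IsConj x a}, {ω : α // R a.1 ω} :=
    { toFun := fun p => ⟨⟨p.1.1, p.2.1⟩, ⟨p.1.2, p.2.2⟩⟩
      invFun := fun s => ⟨(s.1.1, s.2.1), s.1.2, s.2.2⟩
      left_inv := fun p => rfl
      right_inv := fun s => rfl }
  rw [Nat.card_congr e1, Nat.card_sigma]
  have h2 : ∀ a : {a : G // IsConj x a},
      Nat.card {ω : α // R a.1 ω} = Nat.card {ω : α // R x ω} := by
    rintro ⟨a, ha⟩
    obtain ⟨g, hg⟩ := isConj_iff.mp ha
    apply Nat.card_congr
    symm
    refine (act g).subtypeEquiv ?_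
    intro ω
    rw [hR g x ω, hg]
  rw [Finset.sum_congr rfl (fun a _ => h2 a), Finset.sum_const, Finset.card_univ, smul_eq_mul,
    Fintype.card_eq_nat_card]

/-- **double counting of pairs** -/
theorem double_count [Finite G] (x y : G) (R : G → G → Prop)
    (hR : ∀ g a b, R a b ↔ R (g * a * g⁻¹) (g * b * g⁻¹)) :
    Nat.card {a : G // IsConj x a} * Nat.card {b : G // IsConj y b ∧ R x b} =
      Nat.card {b : G // IsConj y b} * Nat.card {a : G // IsConj x a ∧ R a y} := by
  have h1 := card_fibre_conj x (fun g => (MulAut.conj g).toEquiv) (fun a b => IsConj y b ∧ R a b)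
    (by
      intro g a b
      show _ ↔ IsConj y (g * b * g⁻¹) ∧ R (g * a * g⁻¹) (g * b * g⁻¹)
      rw [isConj_conj_iff, ← hR])
  have h2 := card_fibre_conj y (fun g => (MulAut.conj g).toEquiv) (fun b a => IsConj x a ∧ R a b)
    (by
      intro g b a
      show _ ↔ IsConj x (g * a * g⁻¹) ∧ R (g * a * g⁻¹) (g * b * g⁻¹)
      rw [isConj_conj_iff, ← hR])
  rw [← h1, ← h2]
  apply Nat.card_congr
  refine (Equiv.prodComm G G).subtypeEquiv ?_
  rintro ⟨a, b⟩
  show IsConj x a ∧ IsConj y b ∧ R a b ↔ IsConj y b ∧ IsConj x a ∧ R a b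
  tauto

/-- **double counting of triples** -/
theorem triple_count [Finite G] (x y : G) (R : G → G → G → Prop)
    (hR : ∀ g a b c, R a b c ↔ R (g * a * g⁻¹) (g * b * g⁻¹) (g * c * g⁻¹)) :
    Nat.card {a : G // IsConj x a} * Nat.card {q : G × G // IsConj y q.2 ∧ R x q.1 q.2} =
      Nat.card {c : G // IsConj y c} * Nat.card {q : G × G // IsConj x q.1 ∧ R q.1 q.2 y} := by
  have h1 := card_fibre_conj (α := G × G) x
    (fun g => Equiv.prodCongr (MulAut.conj g).toEquiv (MulAut.conj g).toEquiv)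
    (fun a q => IsConj y q.2 ∧ R a q.1 q.2)
    (by
      intro g a q
      show _ ↔ IsConj y (g * q.2 * g⁻¹) ∧ R (g * a * g⁻¹) (g * q.1 * g⁻¹) (g * q.2 * g⁻¹)
      rw [isConj_conj_iff, ← hR])
  have h2 := card_fibre_conj (α := G × G) y
    (fun g => Equiv.prodCongr (MulAut.conj g).toEquiv (MulAut.conj g).toEquiv)
    (fun c q => IsConj x q.1 ∧ R q.1 q.2 c)
    (by
      intro g c q
      show _ ↔ IsConj x (g * q.1 * g⁻¹) ∧ R (g * q.1 * g⁻¹) (g * q.2 * g⁻¹) (g * c * g⁻¹)
      rw [isConj_conj_iff, ← hR])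
  rw [← h1, ← h2]
  apply Nat.card_congr
  let e : G × (G × G) ≃ G × (G × G) :=
    { toFun := fun p => (p.2.2, (p.1, p.2.1))
      invFun := fun p => (p.2.1, (p.2.2, p.1))
      left_inv := fun p => rfl
      right_inv := fun p => rfl }
  refine e.subtypeEquiv ?_
  rintro ⟨a, b, c⟩
  show IsConj x a ∧ IsConj y c ∧ R a b c ↔ IsConj y c ∧ IsConj x a ∧ R a b c
  tauto

/-- elements of `H ⊔ N` when `H` normalizes `N` -/
theorem mem_sup_of_normalizes (H N : Subgroup G)
    (hn : ∀ h ∈ H, ∀ n ∈ N, h * n * h⁻¹ ∈ N) {x : G} (hx : x ∈ H ⊔ N) :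
    ∃ h ∈ H, ∃ n ∈ N, x = h * n := by
  have hLE : H ≤ Subgroup.normalizer (N : Set G) := by
    intro h hh
    rw [Subgroup.mem_normalizer_iff]
    intro n
    constructor
    · intro hn'
      exact hn h hh n hn'
    · intro hn'
      have := hn h⁻¹ (H.inv_mem hh) _ hn'
      simpa [mul_assoc] using this
  have h1 : x ∈ ((H ⊔ N : Subgroup G) : Set G) := hx
  rw [Subgroup.coe_mul_of_left_le_normalizer_right H N hLE] at h1
  obtain ⟨h, hh, n, hn', rfl⟩ := h1
  exact ⟨h, hh, n, hn', rfl⟩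

/-- order of a semidirect product of subgroups -/
theorem card_sup_of_normalizes [Finite G] (H N : Subgroup G)
    (hn : ∀ h ∈ H, ∀ n ∈ N, h * n * h⁻¹ ∈ N) (hd : ∀ x, x ∈ H → x ∈ N → x = 1) :
    Nat.card ↥(H ⊔ N) = Nat.card ↥H * Nat.card ↥N := by
  rw [← Nat.card_prod]
  symm
  apply Nat.card_congr
  refine Equiv.ofBijective (fun p : ↥H × ↥N =>
    (⟨p.1.1 * p.2.1, Subgroup.mul_mem _ (Subgroup.mem_sup_left p.1.2)
      (Subgroup.mem_sup_right p.2.2)⟩ : ↥(H ⊔ N))) ⟨?_, ?_⟩
  · rintro ⟨⟨a, ha⟩, ⟨b, hb⟩⟩ ⟨⟨a', ha'⟩, ⟨b', hb'⟩⟩ h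
    have h1 : a * b = a' * b' := congrArg (fun x : ↥(H ⊔ N) => x.1) h
    have h2 : a'⁻¹ * a = b' * b⁻¹ := by
      calc a'⁻¹ * a = a'⁻¹ * (a * b) * b⁻¹ := by group
        _ = b' * b⁻¹ := by rw [h1]; group
    have h3 : a'⁻¹ * a = 1 :=
      hd _ (H.mul_mem (H.inv_mem ha') ha) (h2 ▸ N.mul_mem hb' (N.inv_mem hb))
    have h4 : a = a' := by
      calc a = a' * (a'⁻¹ * a) := by group
        _ = a' := by rw [h3, mul_one]
    have h5 : b = b' := by
      have : b' * b⁻¹ = 1 := by rw [← h2, h3]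
      calc b = (b' * b⁻¹)⁻¹ * b' := by group
        _ = b' := by rw [this, inv_one, one_mul]
    subst h4; subst h5; rfl
  · rintro ⟨x, hx⟩
    obtain ⟨h, hh, n, hn', rfl⟩ := mem_sup_of_normalizes H N hn hx
    exact ⟨(⟨h, hh⟩, ⟨n, hn'⟩), rfl⟩

/-- the order of a group isomorphic to `A₅` -/
theorem card_of_iso_A5 {B : Type*} [Group B] (e : B ≃* alternatingGroup (Fin 5)) :
    Nat.card B = 60 := by
  rw [Nat.card_congr e.toEquiv, Nat.card_eq_fintype_card]
  have := two_mul_card_alternatingGroup (α := Fin 5)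
  simp only [Fintype.card_perm, Fintype.card_fin] at this
  have h5 : Nat.factorial 5 = 120 := by decide
  omega

end Cfsg.Agent.Lib.Helper14.J2Ord
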