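import Mathlib
import Cfsg.Agent.Lib.Helper14.J2OrdA
import Cfsg.Agent.Lib.Helper14.J2OrdB

/-!
helper14: S3313, part C: the counts inside `C_G(t) = V × B`, `B ≅ A₅`.
-/

set_option autoImplicit false

namespace Cfsg.Agent.Lib.Helper14.J2Ord

variable {G : Type*} [Group G]

/-- the hypotheses on `C_G(t) = V × B` -/
structure TSide (z t : G) (V B : Subgroup G) : Prop where
  zz : z * z = 1
  z1 : z ≠ 1
  tt : t * t = 1
  t1 : t ≠ 1
  zt : ¬ IsConj z t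
  comm : ∀ v ∈ V, ∀ b ∈ B, v * b = b * v
  disj : ∀ x, x ∈ V → x ∈ B → x = 1
  gen : ∀ x, x * t = t * x → ∃ v ∈ V, ∃ b ∈ B, x = v * b
  V2 : ∀ v ∈ V, v * v = 1
  tV : t ∈ V
  iso : Nonempty (↥B ≃* alternatingGroup (Fin 5))
  Bz : ∀ x ∈ B, x * x = 1 → x ≠ 1 → IsConj z x
  Ct : ∀ x, x * t = t * x → x * x = 1 → x ≠ 1 → x ∉ B → IsConj t x

namespace TSide

variable {z t : G} {V B : Subgroup G}

theorem Bt (S : TSide z t V B) (b : G) (hb : b ∈ B) : b * t = t * b := (S.comm t S.tV b hb).symm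

theorem tB (S : TSide z t V B) : t ∉ B := fun h => S.t1 (S.disj t S.tV h)

theorem mem_B_of_conj_z (S : TSide z t V B) {a : G} (h : IsConj z a) (hc : a * t = t * a) :
    a ∈ B := by
  by_contra hB
  have := S.Ct a hc (mul_self_of_isConj S.zz h) (ne_one_of_isConj S.z1 h) hB
  exact S.zt (h.trans this.symm)

theorem not_mem_B_of_conj_t (S : TSide z t V B) {a : G} (h : IsConj t a) : a ∉ B := by
  intro hB
  have := S.Bz a hB (mul_self_of_isConj S.tt h) (ne_one_of_isConj S.t1 h)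
  exact S.zt (this.trans h.symm)

theorem conj_z_iff (S : TSide z t V B) (a : G) :
    (IsConj z a ∧ a * t = t * a) ↔ (a ∈ B ∧ a * a = 1 ∧ a ≠ 1) := by
  constructor
  · rintro ⟨h, hc⟩
    exact ⟨S.mem_B_of_conj_z h hc, mul_self_of_isConj S.zz h, ne_one_of_isConj S.z1 h⟩
  · rintro ⟨hB, h2, h1⟩
    exact ⟨S.Bz a hB h2 h1, S.Bt a hB⟩

theorem coe_mul_self_iff (b : ↥B) : b * b = 1 ↔ (b : G) * (b : G) = 1 := by
  rw [Subtype.ext_iff, Subgroup.coe_mul, Subgroup.coe_one]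

theorem coe_ne_one_iff (b : ↥B) : b ≠ 1 ↔ (b : G) ≠ 1 := by
  rw [Ne, Subtype.ext_iff, Subgroup.coe_one]

/-- the conjugates of `z` in `C_G(t)` are the 15 involutions of `B` -/
theorem c15 (S : TSide z t V B) : Nat.card {a : G // IsConj z a ∧ a * t = t * a} = 15 := by
  obtain ⟨e⟩ := S.iso
  rw [← card_invol e]
  apply Nat.card_congr
  exact
    { toFun := fun a => ⟨⟨a.1, ((S.conj_z_iff a.1).mp a.2).1⟩,
        (coe_mul_self_iff _).mpr ((S.conj_z_iff a.1).mp a.2).2.1,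
        (coe_ne_one_iff _).mpr ((S.conj_z_iff a.1).mp a.2).2.2⟩
      invFun := fun b => ⟨b.1.1, (S.conj_z_iff _).mpr
        ⟨b.1.2, (coe_mul_self_iff _).mp b.2.1, (coe_ne_one_iff _).mp b.2.2⟩⟩
      left_inv := fun a => rfl
      right_inv := fun b => rfl }

/-- the ordered pairs of distinct commuting conjugates of `z` in `C_G(t)` -/
theorem c30 (S : TSide z t V B) :
    Nat.card {q : G × G // IsConj z q.1 ∧ IsConj z q.2 ∧ q.1 ≠ q.2 ∧ q.1 * q.2 = q.2 * q.1 ∧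
      q.1 * t = t * q.1 ∧ q.2 * t = t * q.2} = 30 := by
  obtain ⟨e⟩ := S.iso
  rw [← card_comm_pairs e]
  apply Nat.card_congr
  exact
    { toFun := fun q =>
        ⟨(⟨q.1.1, ((S.conj_z_iff q.1.1).mp ⟨q.2.1, q.2.2.2.2.2.1⟩).1⟩,
          ⟨q.1.2, ((S.conj_z_iff q.1.2).mp ⟨q.2.2.1, q.2.2.2.2.2.2⟩).1⟩),
        ⟨(coe_mul_self_iff _).mpr ((S.conj_z_iff q.1.1).mp ⟨q.2.1, q.2.2.2.2.2.1⟩).2.1,
          (coe_ne_one_iff _).mpr ((S.conj_z_iff q.1.1).mp ⟨q.2.1, q.2.2.2.2.2.1⟩).2.2⟩,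
        ⟨(coe_mul_self_iff _).mpr ((S.conj_z_iff q.1.2).mp ⟨q.2.2.1, q.2.2.2.2.2.2⟩).2.1,
          (coe_ne_one_iff _).mpr ((S.conj_z_iff q.1.2).mp ⟨q.2.2.1, q.2.2.2.2.2.2⟩).2.2⟩,
        fun h => q.2.2.2.1 (congrArg (fun x : ↥B => x.1) h),
        Subtype.ext q.2.2.2.2.1⟩
      invFun := fun p =>
        ⟨(p.1.1.1, p.1.2.1),
          ((S.conj_z_iff _).mpr ⟨p.1.1.2, (coe_mul_self_iff _).mp p.2.1.1,
            (coe_ne_one_iff _).mp p.2.1.2⟩).1,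
          ((S.conj_z_iff _).mpr ⟨p.1.2.2, (coe_mul_self_iff _).mp p.2.2.1.1,
            (coe_ne_one_iff _).mp p.2.2.1.2⟩).1,
          fun h => p.2.2.2.1 (Subtype.ext h),
          congrArg (fun x : ↥B => x.1) p.2.2.2.2,
          S.Bt _ p.1.1.2, S.Bt _ p.1.2.2⟩
      left_inv := fun q => rfl
      right_inv := fun p => rfl }

theorem zpow_of_mul_self {v : G} (hv : v * v = 1) (k : ℤ) : v ^ k = 1 ∨ (Odd k ∧ v ^ k = v) := by
  rcases Int.even_or_odd k with ⟨m, rfl⟩ | ⟨m, rfl⟩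
  · left
    rw [zpow_add, ← (Commute.refl v).mul_zpow, hv, one_zpow]
  · right
    refine ⟨⟨m, rfl⟩, ?_⟩
    rw [zpow_add_one, zpow_mul, zpow_two, hv, one_zpow, one_mul]

/-- the pairs `(u, v)` with `u ~ z`, `v ~ t` and `t ∈ ⟨uv⟩` -/
theorem n2 (S : TSide z t V B) [Finite G] :
    Nat.card {p : G × G // IsConj z p.1 ∧ IsConj t p.2 ∧ t ∈ Subgroup.zpowers (p.1 * p.2)} =
      195 := by
  obtain ⟨e⟩ := S.iso
  rw [← card_odd_pairs e]
  symm
  apply Nat.card_congr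
  have hwd : ∀ p : ↥B × ↥B, ((p.1 * p.1 = 1 ∧ p.1 ≠ 1) ∧ (p.2 * p.2 = 1 ∧ p.2 ≠ 1) ∧
      (p.1 * p.2) ^ 15 = 1) → IsConj z (p.1 : G) ∧ IsConj t (t * (p.2 : G)) ∧
        t ∈ Subgroup.zpowers ((p.1 : G) * (t * (p.2 : G))) := by
    rintro ⟨⟨b₁, hb₁⟩, ⟨b₂, hb₂⟩⟩ ⟨⟨h11, h12⟩, ⟨h21, h22⟩, h3⟩
    have h11' : b₁ * b₁ = 1 := (coe_mul_self_iff _).mp h11
    have h12' : b₁ ≠ 1 := (coe_ne_one_iff _).mp h12
    have h21' : b₂ * b₂ = 1 := (coe_mul_self_iff _).mp h21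
    have h22' : b₂ ≠ 1 := (coe_ne_one_iff _).mp h22
    have h3' : (b₁ * b₂) ^ 15 = 1 := by
      have := congrArg (fun x : ↥B => x.1) h3
      simpa using this
    refine ⟨S.Bz b₁ hb₁ h11' h12', ?_, ?_⟩
    · apply S.Ct
      · rw [mul_assoc, S.Bt b₂ hb₂]
      · calc t * b₂ * (t * b₂) = t * (b₂ * t) * b₂ := by group
          _ = t * (t * b₂) * b₂ := by rw [S.Bt b₂ hb₂]
          _ = (t * t) * (b₂ * b₂) := by group
          _ = 1 := by rw [S.tt, h21', one_mul]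
      · intro h
        apply S.tB
        have : t = b₂⁻¹ := eq_inv_of_mul_eq_one_left h
        rw [this]; exact B.inv_mem hb₂
      · intro h
        apply S.tB
        have : t = t * b₂ * b₂⁻¹ := by group
        rw [this]; exact B.mul_mem h (B.inv_mem hb₂)
    · show t ∈ Subgroup.zpowers (b₁ * (t * b₂))
      have h4 : b₁ * (t * b₂) = t * (b₁ * b₂) := by
        rw [← mul_assoc, S.Bt b₁ hb₁, mul_assoc]
      have hcm : Commute t (b₁ * b₂) := S.comm t S.tV _ (B.mul_mem hb₁ hb₂)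
      have h5 : (b₁ * (t * b₂)) ^ 15 = t := by
        rw [h4, hcm.mul_pow, h3', mul_one]
        have : t ^ 15 = (t * t) ^ 7 * t := by
          rw [← pow_two, ← pow_mul, ← pow_succ]
        rw [this, S.tt, one_pow, one_mul]
      have h6 := Subgroup.npow_mem_zpowers (b₁ * (t * b₂)) 15
      rw [h5] at h6
      exact h6
  refine Equiv.ofBijective (fun p => ⟨((p.1.1 : G), t * (p.1.2 : G)), hwd p.1 p.2⟩) ⟨?_, ?_⟩
  · rintro ⟨⟨⟨b₁, hb₁⟩, ⟨b₂, hb₂⟩⟩, hp⟩ ⟨⟨⟨c₁, hc₁⟩, ⟨c₂, hc₂⟩⟩, hq⟩ h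
    have h1 : ((b₁ : G), t * b₂) = (c₁, t * c₂) :=
      congrArg (fun x : {p : G × G // IsConj z p.1 ∧ IsConj t p.2 ∧
        t ∈ Subgroup.zpowers (p.1 * p.2)} => x.1) h
    simp only [Prod.mk.injEq, mul_right_inj] at h1
    obtain ⟨rfl, rfl⟩ := h1
    rfl
  · rintro ⟨⟨u, v⟩, hzu, htv, hmem⟩
    have hu2 : u * u = 1 := mul_self_of_isConj S.zz hzu
    have hu1 : u ≠ 1 := ne_one_of_isConj S.z1 hzu
    have hv2 : v * v = 1 := mul_self_of_isConj S.tt htv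
    obtain ⟨hut, hvt⟩ := comm_of_mem_zpowers hu2 hv2 S.tt hmem
    have huB : u ∈ B := S.mem_B_of_conj_z hzu hut
    have hvB : v ∉ B := S.not_mem_B_of_conj_t htv
    obtain ⟨v₁, hv₁, b₂, hb₂, rfl⟩ := S.gen v hvt
    have hb₂2 : b₂ * b₂ = 1 := by
      have h1 : v₁ * b₂ * (v₁ * b₂) = (v₁ * v₁) * (b₂ * b₂) := by
        calc v₁ * b₂ * (v₁ * b₂) = v₁ * (b₂ * v₁) * b₂ := by group
          _ = v₁ * (v₁ * b₂) * b₂ := by rw [S.comm v₁ hv₁ b₂ hb₂]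
          _ = (v₁ * v₁) * (b₂ * b₂) := by group
      rw [h1, S.V2 v₁ hv₁, one_mul] at hv2
      exact hv2
    obtain ⟨k, hk⟩ := Subgroup.mem_zpowers_iff.mp hmem
    have h1 : u * (v₁ * b₂) = v₁ * (u * b₂) := by
      rw [← mul_assoc, ← S.comm v₁ hv₁ u huB, mul_assoc]
    have hcm : Commute v₁ (u * b₂) := S.comm v₁ hv₁ (u * b₂) (B.mul_mem huB hb₂)
    rw [h1, hcm.mul_zpow] at hk
    have h3 : (u * b₂) ^ k = 1 := by
      apply S.disj
      · have : (u * b₂) ^ k = (v₁ ^ k)⁻¹ * t := by rw [← hk]; group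
        rw [this]
        exact V.mul_mem (V.inv_mem (V.zpow_mem hv₁ k)) S.tV
      · exact B.zpow_mem (B.mul_mem huB hb₂) k
    rw [h3, mul_one] at hk
    rcases zpow_of_mul_self (S.V2 v₁ hv₁) k with h4 | ⟨hodd, h4⟩
    · exact absurd (hk.symm.trans h4) S.t1
    · have hv₁t : v₁ = t := h4.symm.trans hk
      subst hv₁t
      have hdvd : (orderOf (u * b₂) : ℤ) ∣ k := orderOf_dvd_iff_zpow_eq_one.mpr h3
      have hoddn : Odd (orderOf (u * b₂)) := by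
        by_contra hne
        rw [Nat.not_odd_iff_even] at hne
        have h2 : (2 : ℤ) ∣ (orderOf (u * b₂) : ℤ) := by
          exact_mod_cast hne.two_dvd
        have h5 : (2 : ℤ) ∣ k := h2.trans hdvd
        obtain ⟨m, rfl⟩ := hodd
        omega
      have hord : orderOf ((⟨u, huB⟩ : ↥B) * ⟨b₂, hb₂⟩) = orderOf (u * b₂) := by
        rw [← Subgroup.orderOf_coe]
        rfl
      have h15 : ((⟨u, huB⟩ : ↥B) * ⟨b₂, hb₂⟩) ^ 15 = 1 := by
        rw [pow_fifteen_iff e, hord]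
        exact hoddn
      have hb₂1 : b₂ ≠ 1 := by
        rintro rfl
        rw [mul_one] at hoddn
        have h6 : orderOf u ∣ 2 := orderOf_dvd_of_pow_eq_one (by rw [pow_two, hu2])
        have h7 : orderOf u = 1 := by
          have h8 : orderOf u ≤ 2 := Nat.le_of_dvd (by norm_num) h6
          have h9 : 0 < orderOf u := Nat.pos_of_dvd_of_pos h6 (by norm_num)
          rcases hoddn with ⟨m, hm⟩
          omega
        exact hu1 (orderOf_eq_one_iff.mp h7)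
      refine ⟨⟨(⟨u, huB⟩, ⟨b₂, hb₂⟩), ⟨(coe_mul_self_iff _).mpr hu2, (coe_ne_one_iff _).mpr hu1⟩,
        ⟨(coe_mul_self_iff _).mpr hb₂2, (coe_ne_one_iff _).mpr hb₂1⟩, h15⟩, rfl⟩

end TSide

end Cfsg.Agent.Lib.Helper14.J2Ord
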