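import Mathlib
import Cfsg.Agent.S4416
import Cfsg.Agent.Lib.Helper14.ExtraO2A
import Cfsg.Agent.Lib.Helper14.J2OrdB

/-!
helper14: S3313, part D: `C_G(z) = Q : K`, `Q` extraspecial of order 32, `K ≅ A₅`: the group `Q` has
exactly 12 solutions of `x² = 1` (an element of order 5 of `K` acts fixed point freely on `Q / ⟨z⟩`).
-/

set_option autoImplicit false
open scoped commutatorElement

namespace Cfsg.Agent.Lib.Helper14.J2Ord

open Cfsg.Agent.Lib.Helper14.EO2 Cfsg.Agent.Lib.Helper14.LES Cfsg.Agent.Lib.Helper20.ES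

variable {G : Type*} [Group G] [Finite G]

/-- the hypotheses on `C_G(z) = Q : K` -/
structure ZSide (z t : G) (K Q : Subgroup G) : Prop where
  hyp : Hyp z Q
  cardQ : Nat.card ↥Q = 32
  Kz : ∀ k ∈ K, k * z = z * k
  disj : ∀ x, x ∈ K → x ∈ Q → x = 1
  isoK : Nonempty (↥K ≃* alternatingGroup (Fin 5))
  tt : t * t = 1
  t1 : t ≠ 1
  zt : ¬ IsConj z t
  Qz : ∀ x ∈ Q, x * x = 1 → x ≠ 1 → IsConj z x
  Cz : ∀ x, x * z = z * x → x * x = 1 → x ≠ 1 → x ∉ Q → IsConj t x

/-- fixed points of an element of prime order -/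
theorem card_modEq_fixed' {H X : Type*} [Group H] [MulAction H X] [Finite X] (g : H) (p : ℕ)
    [Fact p.Prime] (hg : orderOf g = p) :
    Nat.card X ≡ Nat.card {x : X // g • x = x} [MOD p] := by
  have hZ : IsPGroup p ↥(Subgroup.zpowers g) :=
    IsPGroup.of_card (n := 1) (by rw [Nat.card_zpowers, hg, pow_one])
  have h := hZ.card_modEq_card_fixedPoints X
  have hset : MulAction.fixedPoints ↥(Subgroup.zpowers g) X = {x : X | g • x = x} := by
    ext x
    constructor
    · intro hx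
      exact hx ⟨g, Subgroup.mem_zpowers g⟩
    · intro hx s
      have hle : Subgroup.zpowers g ≤ MulAction.stabilizer H x := by
        rw [Subgroup.zpowers_le]
        exact hx
      exact hle s.2
  rw [hset] at h
  exact h

namespace ZSide

variable {z t : G} {K Q : Subgroup G}

/-- conjugation action of `C_G(z)` on the elements of `Q` with a conjugation invariant property -/
def conjAction (S : ZSide z t K Q) (P : G → Prop) (hP : ∀ h x : G, P x → P (h * x * h⁻¹)) :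
    MulAction ↥(Subgroup.centralizer ({z} : Set G)) {x : G // x ∈ Q ∧ P x} where
  smul h x := ⟨h.1 * x.1 * h.1⁻¹, S.hyp.nor h.1 ((mem_cent_iff z h.1).mp h.2) x.1 x.2.1,
    hP _ _ x.2.2⟩
  one_smul x := by
    apply Subtype.ext
    show (1 : G) * x.1 * (1 : G)⁻¹ = x.1
    group
  mul_smul a b x := by
    apply Subtype.ext
    show (a.1 * b.1) * x.1 * (a.1 * b.1)⁻¹ = a.1 * (b.1 * x.1 * b.1⁻¹) * a.1⁻¹
    group

/-- the fixed point congruence for an element of order 5 of `C_G(z)` -/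
theorem card_modEq (S : ZSide z t K Q) (P : G → Prop) (hP : ∀ h x : G, P x → P (h * x * h⁻¹))
    (g : G) (hgz : g * z = z * g) (hg : orderOf g = 5) :
    Nat.card {x : G // x ∈ Q ∧ P x} ≡
      Nat.card {x : G // (x ∈ Q ∧ P x) ∧ g * x * g⁻¹ = x} [MOD 5] := by
  letI := S.conjAction P hP
  haveI : Fact (Nat.Prime 5) := ⟨by norm_num⟩
  have hgC : g ∈ Subgroup.centralizer ({z} : Set G) := (mem_cent_iff z g).mpr hgz
  have hg' : orderOf (⟨g, hgC⟩ : ↥(Subgroup.centralizer ({z} : Set G))) = 5 := by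
    rw [← Subgroup.orderOf_coe]; exact hg
  have h := card_modEq_fixed' (X := {x : G // x ∈ Q ∧ P x})
    (⟨g, hgC⟩ : ↥(Subgroup.centralizer ({z} : Set G))) 5 hg'
  have e : {x : {x : G // x ∈ Q ∧ P x} //
      (⟨g, hgC⟩ : ↥(Subgroup.centralizer ({z} : Set G))) • x = x} ≃
      {x : G // (x ∈ Q ∧ P x) ∧ g * x * g⁻¹ = x} :=
    { toFun := fun x => ⟨x.1.1, x.1.2, congrArg (fun y : {x : G // x ∈ Q ∧ P x} => y.1) x.2⟩
      invFun := fun x => ⟨⟨x.1, x.2.1⟩, Subtype.ext x.2.2⟩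
      left_inv := fun x => rfl
      right_inv := fun x => rfl }
  rw [Nat.card_congr e] at h
  exact h

/-- an element of order 5 in `K` -/
theorem exists_order_five (S : ZSide z t K Q) : ∃ g ∈ K, orderOf g = 5 := by
  obtain ⟨e⟩ := S.isoK
  haveI : Fact (Nat.Prime 5) := ⟨by norm_num⟩
  have hc : Nat.card ↥K = 60 := card_of_iso_A5 e
  obtain ⟨x, hx⟩ := exists_prime_orderOf_dvd_card' (G := ↥K) 5 (by rw [hc]; norm_num)
  refine ⟨x.1, x.2, ?_⟩
  rw [Subgroup.orderOf_coe]; exact hx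

/-- `C_Q(g) = ⟨z⟩` for an element `g` of order 5 of `K` -/
theorem fixed_of_order_five (S : ZSide z t K Q) (g : G) (hgK : g ∈ K) (hg : orderOf g = 5)
    (x : G) (hx : x ∈ Q) (hgx : g * x * g⁻¹ = x) : x = 1 ∨ x = z := by
  classical
  have hgz : g * z = z * g := S.Kz g hgK
  have h1 := S.card_modEq (fun _ => True) (fun _ _ _ => trivial) g hgz hg
  let D : Subgroup G := Q ⊓ Subgroup.centralizer ({g} : Set G)
  have hD : ∀ y, y ∈ D ↔ (y ∈ Q ∧ g * y * g⁻¹ = y) := by
    intro y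
    show y ∈ Q ⊓ Subgroup.centralizer ({g} : Set G) ↔ _
    rw [Subgroup.mem_inf, mem_cent_iff]
    constructor
    · rintro ⟨h1, h2⟩
      refine ⟨h1, ?_⟩
      rw [← h2]; group
    · rintro ⟨h1, h2⟩
      refine ⟨h1, ?_⟩
      calc y * g = g * y * g⁻¹ * g := by rw [h2]
        _ = g * y := by group
  have e1 : {x : G // (x ∈ Q ∧ True) ∧ g * x * g⁻¹ = x} ≃ ↥D :=
    { toFun := fun y => ⟨y.1, (hD y.1).mpr ⟨y.2.1.1, y.2.2⟩⟩
      invFun := fun y => ⟨y.1, ⟨((hD y.1).mp y.2).1, trivial⟩, ((hD y.1).mp y.2).2⟩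
      left_inv := fun y => rfl
      right_inv := fun y => rfl }
  have e2 : {x : G // x ∈ Q ∧ True} ≃ ↥Q :=
    { toFun := fun y => ⟨y.1, y.2.1⟩
      invFun := fun y => ⟨y.1, y.2, trivial⟩
      left_inv := fun y => rfl
      right_inv := fun y => rfl }
  rw [Nat.card_congr e1, Nat.card_congr e2, S.cardQ] at h1
  have hDQ : D ≤ Q := inf_le_left
  have hdvd : Nat.card ↥D ∣ 32 := S.cardQ ▸ Subgroup.card_dvd_of_le hDQ
  have hcases : Nat.card ↥D = 2 ∨ Nat.card ↥D = 32 := by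
    have h32 : (32 : ℕ) = 2 ^ 5 := by norm_num
    rw [h32] at hdvd
    obtain ⟨j, hj, hj2⟩ := (Nat.dvd_prime_pow Nat.prime_two).mp hdvd
    rw [hj2] at h1 ⊢
    interval_cases j <;> simp_all [Nat.ModEq]
  have hzD : z ∈ D := (hD z).mpr ⟨S.hyp.zE, by rw [hgz]; group⟩
  rcases hcases with h2 | h32
  · -- `D = {1, z}`
    obtain ⟨y, -, hy⟩ := (Nat.card_eq_two_iff' (1 : ↥D)).mp h2
    by_cases hx1 : x = 1
    · left; exact hx1
    · right
      have hxD : x ∈ D := (hD x).mpr ⟨hx, hgx⟩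
      have h3 : (⟨x, hxD⟩ : ↥D) = y := hy _ (fun h => hx1 (congrArg Subtype.val h))
      have h4 : (⟨z, hzD⟩ : ↥D) = y := hy _ (fun h => S.hyp.z1 (congrArg Subtype.val h))
      exact congrArg Subtype.val (h3.trans h4.symm)
  · -- `D = Q`: then `g` centralizes `Q`
    exfalso
    have hDQ' : D = Q := Subgroup.eq_of_le_of_card_ge hDQ (by rw [h32, S.cardQ])
    have hgQ : g ∈ Q := by
      apply S.hyp.cen
      intro e he
      have : e ∈ D := hDQ' ▸ he
      have := ((hD e).mp this).2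
      calc g * e = g * e * g⁻¹ * g := by group
        _ = e * g := by rw [this]
    have := S.disj g hgK hgQ
    rw [this, orderOf_one] at hg
    omega

end ZSide

end Cfsg.Agent.Lib.Helper14.J2Ord
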