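import Mathlib
import Cfsg.Agent.Lib.Helper14.J2OrdD

/-!
helper14: S3313, part E: `Q` has exactly 12 solutions of `x² = 1`; two commuting non-central
involutions of `Q` generate a four-group together with `z` (no elementary abelian subgroup of
order 8).
-/

set_option autoImplicit false
open scoped commutatorElement

namespace Cfsg.Agent.Lib.Helper14.J2Ord

open Cfsg.Agent.Lib.Helper14.EO2 Cfsg.Agent.Lib.Helper14.LES Cfsg.Agent.Lib.Helper20.ES

variable {G : Type*} [Group G] [Finite G]

namespace ZSide

variable {z t : G} {K Q : Subgroup G}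

/-- `Q` has exactly 12 solutions of `x² = 1` -/
theorem card_sq (S : ZSide z t K Q) : Nat.card {x : G // x ∈ Q ∧ x * x = 1} = 12 := by
  obtain ⟨g, hgK, hg⟩ := S.exists_order_five
  have hgz : g * z = z * g := S.Kz g hgK
  have h1 := S.card_modEq (fun x => x * x = 1)
    (fun h x hx => by
      calc h * x * h⁻¹ * (h * x * h⁻¹) = h * (x * x) * h⁻¹ := by group
        _ = 1 := by rw [hx]; group) g hgz hg
  -- the fixed points are `1` and `z`
  have h2 : Nat.card {x : G // (x ∈ Q ∧ x * x = 1) ∧ g * x * g⁻¹ = x} = 2 := by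
    rw [Nat.card_eq_two_iff]
    refine ⟨⟨1, ⟨Q.one_mem, by group⟩, by group⟩,
      ⟨z, ⟨S.hyp.zE, S.hyp.zz⟩, by rw [hgz]; group⟩, ?_, ?_⟩
    · intro h
      exact S.hyp.z1 (congrArg Subtype.val h).symm
    · ext ⟨x, ⟨hxQ, hx2⟩, hgx⟩
      simp only [Set.mem_insert_iff, Set.mem_singleton_iff, Set.mem_univ, iff_true]
      rcases S.fixed_of_order_five g hgK hg x hxQ hgx with h | h
      · left; exact Subtype.ext h
      · right; exact Subtype.ext h
  rw [h2] at h1
  -- the two possibilities
  obtain ⟨m, hm1, hmc, hcount⟩ := (Cfsg.Agent.S4416.result.{_, 0} ↥Q S.hyp.es).1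
  have hm : m = 2 := by
    rw [S.cardQ] at hmc
    have h32 : (32 : ℕ) = 2 ^ 5 := by norm_num
    rw [h32] at hmc
    have := Nat.pow_right_injective (le_refl 2) hmc
    omega
  subst hm
  have e : {x : ↥Q // x ^ 2 = 1} ≃ {x : G // x ∈ Q ∧ x * x = 1} :=
    { toFun := fun x => ⟨x.1.1, x.1.2, by
        have := congrArg (fun y : ↥Q => y.1) x.2
        simpa [pow_two] using this⟩
      invFun := fun x => ⟨⟨x.1, x.2.1⟩, by
        apply Subtype.ext
        show x.1 ^ 2 = 1
        rw [pow_two]; exact x.2.2⟩
      left_inv := fun x => rfl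
      right_inv := fun x => rfl }
  rw [Nat.card_congr e] at hcount
  rcases hcount with h | h
  · rw [h] at h1
    norm_num [Nat.ModEq] at h1
  · rw [h]; norm_num

/-- anticommuting elements of `Q` -/
theorem anti (S : ZSide z t K Q) {x u : G} (hx : x ∈ Q) (hu : u ∈ Q) (h : ¬ x * u = u * x) :
    x * u = z * (u * x) := by
  rcases S.hyp.amb.comm x hx u hu with h1 | h1
  · exact absurd (commutatorElement_eq_one_iff_mul_comm.mp h1) h
  · have : x * u = ⁅x, u⁆ * (u * x) := by rw [commutatorElement_def]; group
    rw [this, h1]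

/-- a non-central involution `u` of `Q` commutes with exactly four solutions of `x² = 1` in `Q` -/
theorem no_E8 (S : ZSide z t K Q) {u : G} (hu : u ∈ Q) (hu2 : u * u = 1) (hu1 : u ≠ 1)
    (huz : u ≠ z) {w : G} (hw : w ∈ Q) (hw2 : w * w = 1) (hwu : w * u = u * w) :
    w = 1 ∨ w = z ∨ w = u ∨ w = u * z := by
  classical
  haveI : Fintype G := Fintype.ofFinite G
  have A := S.hyp.amb
  have hui : u⁻¹ = u := inv_eq_self_of_mul_self hu2
  have hzu : u * z = z * u := A.zc u hu
  let fQ : Finset G := Finset.univ.filter (fun x => x ∈ Q)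
  let fM : Finset G := fQ.filter (fun x => x * u = u * x)
  let fN : Finset G := fQ.filter (fun x => ¬ x * u = u * x)
  let fT : Finset G := fQ.filter (fun x => x * x = 1)
  let fM1 : Finset G := fM.filter (fun x => x * x = 1)
  let fN1 : Finset G := fN.filter (fun x => x * x = 1)
  let fN2 : Finset G := fN.filter (fun x => ¬ x * x = 1)
  have memQ : ∀ x, x ∈ fQ ↔ x ∈ Q := by
    intro x; simp only [fQ, Finset.mem_filter, Finset.mem_univ, true_and]
  have memM : ∀ x, x ∈ fM ↔ x ∈ Q ∧ x * u = u * x := by
    intro x; simp only [fM, Finset.mem_filter, memQ]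
  have memN : ∀ x, x ∈ fN ↔ x ∈ Q ∧ ¬ x * u = u * x := by
    intro x; simp only [fN, Finset.mem_filter, memQ]
  have memN1 : ∀ x, x ∈ fN1 ↔ (x ∈ Q ∧ ¬ x * u = u * x) ∧ x * x = 1 := by
    intro x; simp only [fN1, Finset.mem_filter, memN]
  have memN2 : ∀ x, x ∈ fN2 ↔ (x ∈ Q ∧ ¬ x * u = u * x) ∧ ¬ x * x = 1 := by
    intro x; simp only [fN2, Finset.mem_filter, memN]
  have memM1 : ∀ x, x ∈ fM1 ↔ (x ∈ Q ∧ x * u = u * x) ∧ x * x = 1 := by
    intro x; simp only [fM1, Finset.mem_filter, memM]
  have cQ : fQ.card = 32 := by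
    have := S.cardQ
    rw [Nat.card_eq_fintype_card, Fintype.card_subtype] at this
    exact this
  have cT : fT.card = 12 := by
    have := S.card_sq
    rw [Nat.card_eq_fintype_card, Fintype.card_subtype] at this
    rw [← this]
    congr 1
    ext x
    simp only [fT, Finset.mem_filter, memQ, Finset.mem_univ, true_and]
  have cMN : fM.card + fN.card = 32 := by
    rw [← cQ]
    exact Finset.card_filter_add_card_filter_not (fun x => x * u = u * x)
  -- a non-commuting element
  obtain ⟨y, hyQ, hyu⟩ : ∃ y ∈ Q, ¬ y * u = u * y := by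
    by_contra hcon
    push Not at hcon
    rcases A.cen u hu hcon with h | h
    · exact hu1 h
    · exact huz h
  have hyanti : y * u = z * (u * y) := S.anti hyQ hu hyu
  have hyinv : u * y⁻¹ = y⁻¹ * (z * u) := by
    calc u * y⁻¹ = y⁻¹ * (y * u) * y⁻¹ := by group
      _ = y⁻¹ * (z * (u * y)) * y⁻¹ := by rw [hyanti]
      _ = y⁻¹ * (z * u) := by group
  have cMeqN : fM.card = fN.card := by
    apply Finset.card_bij (fun x _ => y * x)
    · intro x hx
      rw [memM] at hx
      rw [memN]
      refine ⟨Q.mul_mem hyQ hx.1, ?_⟩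
      intro h
      apply hyu
      have h1 : y * u * x = u * y * x := by
        calc y * u * x = y * (u * x) := by group
          _ = y * (x * u) := by rw [hx.2]
          _ = y * x * u := by group
          _ = u * (y * x) := h
          _ = u * y * x := by group
      exact mul_right_cancel h1
    · intro a _ b _ h
      exact mul_left_cancel h
    · intro x' hx'
      rw [memN] at hx'
      refine ⟨y⁻¹ * x', ?_, by group⟩
      rw [memM]
      refine ⟨Q.mul_mem (Q.inv_mem hyQ) hx'.1, ?_⟩
      have hx'anti := S.anti hx'.1 hu hx'.2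
      calc y⁻¹ * x' * u = y⁻¹ * (x' * u) := by group
        _ = y⁻¹ * (z * (u * x')) := by rw [hx'anti]
        _ = y⁻¹ * (z * u) * x' := by group
        _ = u * y⁻¹ * x' := by rw [← hyinv]
        _ = u * (y⁻¹ * x') := by group
  have cN : fN.card = 16 := by omega
  have cN12 : fN1.card + fN2.card = 16 := by
    rw [← cN]
    exact Finset.card_filter_add_card_filter_not (fun x => x * x = 1)
  have hsq : ∀ x, x ∈ Q → ¬ x * u = u * x → (u * x) * (u * x) = z * (x * x) := by
    intro x hx hxu
    have h1 := S.anti hx hu hxu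
    calc u * x * (u * x) = u * (x * u) * x := by group
      _ = u * (z * (u * x)) * x := by rw [h1]
      _ = (u * z) * (u * x) * x := by group
      _ = (z * u) * (u * x) * x := by rw [hzu]
      _ = z * (u * u) * (x * x) := by group
      _ = z * (x * x) := by rw [hu2, mul_one]
  have hNu : ∀ x, x ∈ Q → ¬ x * u = u * x → ¬ (u * x) * u = u * (u * x) := by
    intro x hx hxu h
    apply hxu
    have : u * (x * u) = u * (u * x) := by rw [← mul_assoc]; exact h
    exact mul_left_cancel this
  have cN1eqN2 : fN1.card = fN2.card := by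
    apply Finset.card_bij (fun x _ => u * x)
    · intro x hx
      rw [memN1] at hx
      rw [memN2]
      refine ⟨⟨Q.mul_mem hu hx.1.1, hNu x hx.1.1 hx.1.2⟩, ?_⟩
      rw [hsq x hx.1.1 hx.1.2, hx.2, mul_one]
      exact A.z1
    · intro a _ b _ h
      exact mul_left_cancel h
    · intro x' hx'
      rw [memN2] at hx'
      refine ⟨u * x', ?_, by rw [← mul_assoc, hu2, one_mul]⟩
      rw [memN1]
      refine ⟨⟨Q.mul_mem hu hx'.1.1, hNu x' hx'.1.1 hx'.1.2⟩, ?_⟩
      have hx'2 : x' * x' = z := (A.sq x' hx'.1.1).resolve_left hx'.2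
      rw [hsq x' hx'.1.1 hx'.1.2, hx'2, A.zz]
  have cN1 : fN1.card = 8 := by omega
  have cM1 : fM1.card = 4 := by
    have h1 : (fT.filter (fun x => x * u = u * x)).card +
        (fT.filter (fun x => ¬ x * u = u * x)).card = fT.card :=
      Finset.card_filter_add_card_filter_not (fun x => x * u = u * x)
    have h2 : fT.filter (fun x => x * u = u * x) = fM1 := Finset.filter_comm _ _ _
    have h3 : fT.filter (fun x => ¬ x * u = u * x) = fN1 := Finset.filter_comm _ _ _
    rw [h2, h3, cT, cN1] at h1
    omega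
  -- the four known elements
  have hsub : ({1, z, u, u * z} : Finset G) ⊆ fM1 := by
    intro x hx
    simp only [Finset.mem_insert, Finset.mem_singleton] at hx
    rw [memM1]
    rcases hx with rfl | rfl | rfl | rfl
    · exact ⟨⟨Q.one_mem, by group⟩, by group⟩
    · exact ⟨⟨A.zQ, hzu.symm⟩, A.zz⟩
    · exact ⟨⟨hu, rfl⟩, hu2⟩
    · refine ⟨⟨Q.mul_mem hu A.zQ, ?_⟩, ?_⟩
      · calc u * z * u = u * (z * u) := by group
          _ = u * (u * z) := by rw [hzu]
      · calc u * z * (u * z) = u * (z * u) * z := by group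
          _ = u * (u * z) * z := by rw [hzu]
          _ = (u * u) * (z * z) := by group
          _ = 1 := by rw [hu2, A.zz, one_mul]
  have hcard4 : ({1, z, u, u * z} : Finset G).card = 4 := by
    have h1 : (1 : G) ≠ z := fun h => A.z1 h.symm
    have h2 : (1 : G) ≠ u := fun h => hu1 h.symm
    have h3 : (1 : G) ≠ u * z := by
      intro h
      apply huz
      have : u = z⁻¹ := eq_inv_of_mul_eq_one_left h.symm
      rw [this, S.hyp.zinv]
    have h4 : z ≠ u := fun h => huz h.symm
    have h5 : z ≠ u * z := by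
      intro h
      apply hu1
      have : 1 * z = u * z := by rw [one_mul]; exact h
      exact (mul_right_cancel this).symm
    have h6 : u ≠ u * z := by
      intro h
      apply A.z1
      have : u * 1 = u * z := by rw [mul_one]; exact h
      exact (mul_left_cancel this).symm
    rw [Finset.card_insert_of_notMem, Finset.card_insert_of_notMem,
      Finset.card_insert_of_notMem, Finset.card_singleton]
    · simp only [Finset.mem_singleton]; exact h6
    · simp only [Finset.mem_insert, Finset.mem_singleton]; tauto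
    · simp only [Finset.mem_insert, Finset.mem_singleton]; tauto
  have heq : ({1, z, u, u * z} : Finset G) = fM1 :=
    Finset.eq_of_subset_of_card_le hsub (by rw [cM1, hcard4])
  have hwM : w ∈ fM1 := (memM1 w).mpr ⟨⟨hw, hwu⟩, hw2⟩
  rw [← heq] at hwM
  simpa only [Finset.mem_insert, Finset.mem_singleton] using hwM

end ZSide

end Cfsg.Agent.Lib.Helper14.J2Ord
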