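import Mathlib
import Cfsg.Agent.S0213
import Cfsg.Agent.Lib.Helper14.J2OrdC
import Cfsg.Agent.Lib.Helper14.J2OrdE

/-!
helper14: S3313, part F: the count of pairs on the `z` side and the order of the group via the
Thompson order formula.
-/

set_option autoImplicit false
open scoped commutatorElement

namespace Cfsg.Agent.Lib.Helper14.J2Ord

open Cfsg.Agent.Lib.Helper14.EO2 Cfsg.Agent.Lib.Helper14.LES Cfsg.Agent.Lib.Helper20.ES

variable {G : Type*} [Group G] [Finite G]

theorem comm_of_mul_self {a b : G} (ha : a * a = 1) (hb : b * b = 1)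
    (hab : (a * b) * (a * b) = 1) : b * a = a * b := by
  calc b * a = (a * a) * (b * a) * (b * b) := by rw [ha, hb, one_mul, mul_one]
    _ = a * ((a * b) * (a * b)) * b := by group
    _ = a * b := by rw [hab, mul_one]

namespace ZSide

variable {z t : G} {K Q : Subgroup G}

/-- the conjugates of `z` in `C_G(z)` are the involutions of `Q` -/
theorem conj_z_iff (S : ZSide z t K Q) (u : G) :
    (IsConj z u ∧ z * u = u * z) ↔ (u ∈ Q ∧ u * u = 1 ∧ u ≠ 1) := by
  constructor
  · rintro ⟨h, hc⟩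
    have h2 := mul_self_of_isConj S.hyp.zz h
    have h1 := ne_one_of_isConj S.hyp.z1 h
    refine ⟨?_, h2, h1⟩
    by_contra hQ
    exact S.zt (h.trans (S.Cz u hc.symm h2 h1 hQ).symm)
  · rintro ⟨hQ, h2, h1⟩
    exact ⟨S.Qz u hQ h2 h1, (S.hyp.amb.zc u hQ).symm⟩

theorem not_mem_Q_of_conj_t (S : ZSide z t K Q) {v : G} (h : IsConj t v) : v ∉ Q := by
  intro hQ
  have := S.Qz v hQ (mul_self_of_isConj S.tt h) (ne_one_of_isConj S.t1 h)
  exact S.zt (this.trans h.symm)

/-- the number of conjugates of `z` in `C_G(z)` other than `z` -/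
theorem card_I1 (S : ZSide z t K Q) :
    Nat.card {u : G // IsConj z u ∧ u ≠ z ∧ z * u = u * z} = 10 := by
  classical
  haveI : Fintype G := Fintype.ofFinite G
  have h12 := S.card_sq
  rw [Nat.card_eq_fintype_card, Fintype.card_subtype] at h12 ⊢
  have heq : Finset.univ.filter (fun u : G => IsConj z u ∧ u ≠ z ∧ z * u = u * z) =
      ((Finset.univ.filter (fun x : G => x ∈ Q ∧ x * x = 1)).erase 1).erase z := by
    ext u
    simp only [Finset.mem_filter, Finset.mem_univ, true_and, Finset.mem_erase]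
    constructor
    · rintro ⟨h1, h2, h3⟩
      obtain ⟨h4, h5, h6⟩ := (S.conj_z_iff u).mp ⟨h1, h3⟩
      exact ⟨h2, h6, h4, h5⟩
    · rintro ⟨h2, h6, h4, h5⟩
      obtain ⟨h1, h3⟩ := (S.conj_z_iff u).mpr ⟨h4, h5, h6⟩
      exact ⟨h1, h2, h3⟩
  rw [heq, Finset.card_erase_of_mem, Finset.card_erase_of_mem, h12]
  · simp only [Finset.mem_filter, Finset.mem_univ, true_and]
    exact ⟨Q.one_mem, by group⟩
  · simp only [Finset.mem_erase, Finset.mem_filter, Finset.mem_univ, true_and]
    exact ⟨S.hyp.z1, S.hyp.zE, S.hyp.zz⟩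

/-- **the key dichotomy**: for `u ~ z`, `v ~ t`: `z ∈ ⟨uv⟩` iff `u, v ∈ C_G(z)`, `u ≠ z` and
`u`, `v` do not commute -/
theorem mem_zpowers_iff (S : ZSide z t K Q) {u v : G} (hu : IsConj z u) (hv : IsConj t v) :
    z ∈ Subgroup.zpowers (u * v) ↔
      (u ≠ z ∧ z * u = u * z ∧ z * v = v * z ∧ ¬ u * v = v * u) := by
  have A := S.hyp.amb
  have hu2 := mul_self_of_isConj S.hyp.zz hu
  have hu1 := ne_one_of_isConj S.hyp.z1 hu
  have hv2 := mul_self_of_isConj S.tt hv
  have hv1 := ne_one_of_isConj S.t1 hv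
  have hvQ := S.not_mem_Q_of_conj_t hv
  have hvi : v⁻¹ = v := inv_eq_self_of_mul_self hv2
  have hui : u⁻¹ = u := inv_eq_self_of_mul_self hu2
  constructor
  · intro hmem
    obtain ⟨huz, hvz⟩ := comm_of_mem_zpowers hu2 hv2 S.hyp.zz hmem
    have huQ : u ∈ Q := ((S.conj_z_iff u).mp ⟨hu, huz.symm⟩).1
    have hnc : ¬ u * v = v * u := by
      intro hc
      have huv2 : (u * v) * (u * v) = 1 := by
        calc u * v * (u * v) = u * (v * u) * v := by group
          _ = u * (u * v) * v := by rw [hc]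
          _ = (u * u) * (v * v) := by group
          _ = 1 := by rw [hu2, hv2, one_mul]
      obtain ⟨k, hk⟩ := Subgroup.mem_zpowers_iff.mp hmem
      rcases TSide.zpow_of_mul_self huv2 k with h | ⟨-, h⟩
      · exact S.hyp.z1 (hk.symm.trans h)
      · apply hvQ
        have : v = u * z := by
          rw [← hk, h, ← mul_assoc, hu2, one_mul]
        rw [this]
        exact Q.mul_mem huQ A.zQ
    refine ⟨?_, huz.symm, hvz.symm, hnc⟩
    rintro rfl
    exact hnc hvz.symm
  · rintro ⟨huz, hzu, hzv, hnc⟩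
    have huQ : u ∈ Q := ((S.conj_z_iff u).mp ⟨hu, hzu⟩).1
    have hu'Q : v * u * v⁻¹ ∈ Q := S.hyp.nor v hzv.symm u huQ
    have hc : (u * v) * (u * v) = u * (v * u * v⁻¹) := by rw [hvi]; group
    have hcQ : (u * v) * (u * v) ∈ Q := by rw [hc]; exact Q.mul_mem huQ hu'Q
    have hc1 : (u * v) * (u * v) ≠ 1 := by
      intro h
      apply hnc
      calc u * v = (u * v) * (u * v) * (v⁻¹ * u⁻¹) := by group
        _ = v * u := by rw [h, hvi, hui, one_mul]
    rcases A.sq _ hcQ with h | h
    · -- `c = u u'` is an involution, so `u` and `u'` commute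
      have hu'2 : (v * u * v⁻¹) * (v * u * v⁻¹) = 1 := by
        calc v * u * v⁻¹ * (v * u * v⁻¹) = v * (u * u) * v⁻¹ := by group
          _ = 1 := by rw [hu2]; group
      have hu'i : (v * u * v⁻¹)⁻¹ = v * u * v⁻¹ := inv_eq_self_of_mul_self hu'2
      have hcomm : (v * u * v⁻¹) * u = u * (v * u * v⁻¹) := by
        rw [hc] at h
        exact comm_of_mul_self hu2 hu'2 h
      rcases S.no_E8 huQ hu2 hu1 huz hu'Q hu'2 hcomm with h1 | h1 | h1 | h1
      · exfalso
        apply hu1
        calc u = v⁻¹ * (v * u * v⁻¹) * v := by group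
          _ = 1 := by rw [h1]; group
      · exfalso
        apply huz
        calc u = v⁻¹ * (v * u * v⁻¹) * v := by group
          _ = v⁻¹ * z * v := by rw [h1]
          _ = v⁻¹ * (z * v) := by group
          _ = v⁻¹ * (v * z) := by rw [hzv]
          _ = z := by group
      · exfalso
        apply hnc
        calc u * v = v⁻¹ * (v * u * v⁻¹) * v * v := by group
          _ = v⁻¹ * u * v * v := by rw [h1]
          _ = v * u := by rw [hvi, mul_assoc, hv2, mul_one]
      · -- `c = z`
        have hcz : (u * v) * (u * v) = z := by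
          rw [hc, h1, ← mul_assoc, hu2, one_mul]
        rw [← hcz, ← pow_two]
        exact Subgroup.npow_mem_zpowers (u * v) 2
    · -- `c² = z`
      have : (u * v) ^ 4 = z := by
        have h4 : (u * v) ^ 4 = ((u * v) * (u * v)) * ((u * v) * (u * v)) := by
          rw [← pow_two, ← pow_two, ← pow_mul]
        rw [h4, h]
      rw [← this]
      exact Subgroup.npow_mem_zpowers (u * v) 4

end ZSide

end Cfsg.Agent.Lib.Helper14.J2Ord
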