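import Mathlib
import Cfsg.Agent.Lib.Helper14.J2OrdF
import Cfsg.Agent.Lib.Helper14.ExtraO2F
import Cfsg.Agent.Lib.Helper17.Bender
import Cfsg.Agent.Lib.Helper9.FStar
import Cfsg.Agent.Lib.Helper8.FStar

/-!
helper14: S3313, part G: the order of a group with the involution pattern of the Hall–Janko group,
via the Thompson order formula.
-/

set_option autoImplicit false
open scoped commutatorElement

namespace Cfsg.Agent.Lib.Helper14.J2Ord

open Cfsg.Agent.Lib.Helper14.EO2 Cfsg.Agent.Lib.Helper14.LES Cfsg.Agent.Lib.Helper20.ES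

variable {G : Type*} [Group G] [Finite G]

theorem comm_conj_iff (g a b : G) :
    a * b = b * a ↔ g * a * g⁻¹ * (g * b * g⁻¹) = g * b * g⁻¹ * (g * a * g⁻¹) := by
  constructor
  · intro h
    calc g * a * g⁻¹ * (g * b * g⁻¹) = g * (a * b) * g⁻¹ := by group
      _ = g * (b * a) * g⁻¹ := by rw [h]
      _ = g * b * g⁻¹ * (g * a * g⁻¹) := by group
  · intro h
    calc a * b = g⁻¹ * (g * a * g⁻¹ * (g * b * g⁻¹)) * g := by group
      _ = g⁻¹ * (g * b * g⁻¹ * (g * a * g⁻¹)) * g := by rw [h]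
      _ = b * a := by group

theorem ne_conj_iff (g a b : G) : a ≠ b ↔ g * a * g⁻¹ ≠ g * b * g⁻¹ := by
  rw [Ne, Ne, mul_left_inj, mul_right_inj]

/-- the pairs `(u, v)` with `u ~ z`, `u ≠ z`, `v ~ t`, both in `C_G(z)` -/
abbrev WSet (z t : G) : Type _ :=
  {p : G × G // (IsConj z p.1 ∧ p.1 ≠ z ∧ z * p.1 = p.1 * z) ∧ (IsConj t p.2 ∧ z * p.2 = p.2 * z)}

/-- the order from the two hypothesis packages -/
theorem order_eq {z t : G} {V B K Q : Subgroup G} (hT : TSide z t V B) (hZ : ZSide z t K Q)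
    (hz : orderOf z = 2) (ht : orderOf t = 2)
    (hall : ∀ x : G, orderOf x = 2 → IsConj z x ∨ IsConj t x)
    (hCt : Nat.card ↥(Subgroup.centralizer ({t} : Set G)) = 240)
    (hCz : Nat.card ↥(Subgroup.centralizer ({z} : Set G)) = 1920) :
    Nat.card G = 604800 := by
  classical
  have hthom := Cfsg.Agent.S0213.result z t hz ht hT.zt hall
  rw [hT.n2, hCt, hCz] at hthom
  -- class sizes
  have hNz := Cfsg.Agent.Lib.Helper2.card_eq_card_conj_mul_card_centralizer z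
  have hNt := Cfsg.Agent.Lib.Helper2.card_eq_card_conj_mul_card_centralizer t
  rw [hCz] at hNz
  rw [hCt] at hNt
  have hNzpos : 0 < Nat.card {a : G // IsConj z a} := by
    haveI : Nonempty {a : G // IsConj z a} := ⟨⟨z, IsConj.refl z⟩⟩
    exact Nat.card_pos
  -- commuting pairs
  have hd := double_count z t (fun a b => a * b = b * a) (fun g a b => comm_conj_iff g a b)
  rw [hT.c15] at hd
  -- commuting triples
  have htr := triple_count z t
    (fun a b c => IsConj z b ∧ a ≠ b ∧ a * b = b * a ∧ a * c = c * a ∧ b * c = c * b)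
    (by
      intro g a b c
      rw [isConj_conj_iff, ← ne_conj_iff, ← comm_conj_iff, ← comm_conj_iff, ← comm_conj_iff])
  rw [hT.c30] at htr
  -- the three numbers
  have hNt8 : Nat.card {b : G // IsConj t b} = 8 * Nat.card {a : G // IsConj z a} := by omega
  have hI2 : Nat.card {b : G // IsConj t b ∧ z * b = b * z} = 120 := by
    rw [hNt8] at hd
    have : Nat.card {a : G // IsConj z a} * Nat.card {b : G // IsConj t b ∧ z * b = b * z} =
        Nat.card {a : G // IsConj z a} * 120 := by rw [hd]; ring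
    exact Nat.eq_of_mul_eq_mul_left hNzpos this
  have hX : Nat.card {q : G × G // IsConj t q.2 ∧ IsConj z q.1 ∧ z ≠ q.1 ∧
      z * q.1 = q.1 * z ∧ z * q.2 = q.2 * z ∧ q.1 * q.2 = q.2 * q.1} = 240 := by
    rw [hNt8] at htr
    have : Nat.card {a : G // IsConj z a} * Nat.card {q : G × G // IsConj t q.2 ∧ IsConj z q.1 ∧
        z ≠ q.1 ∧ z * q.1 = q.1 * z ∧ z * q.2 = q.2 * z ∧ q.1 * q.2 = q.2 * q.1} =
        Nat.card {a : G // IsConj z a} * 240 := by rw [htr]; ring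
    exact Nat.eq_of_mul_eq_mul_left hNzpos this
  -- the pairs on the `z` side
  have hW : Nat.card (WSet z t) = 10 * 120 := by
    rw [← hZ.card_I1, ← hI2, ← Nat.card_prod]
    exact Nat.card_congr (Equiv.subtypeProdEquivProd
      (p := fun u : G => IsConj z u ∧ u ≠ z ∧ z * u = u * z)
      (q := fun b : G => IsConj t b ∧ z * b = b * z))
  have hsplit : Nat.card (WSet z t) =
      Nat.card {w : WSet z t // w.1.1 * w.1.2 = w.1.2 * w.1.1} +
      Nat.card {w : WSet z t // ¬ w.1.1 * w.1.2 = w.1.2 * w.1.1} := by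
    rw [← Nat.card_sum]
    exact Nat.card_congr (Equiv.sumCompl _).symm
  have e1 : {w : WSet z t // w.1.1 * w.1.2 = w.1.2 * w.1.1} ≃
      {q : G × G // IsConj t q.2 ∧ IsConj z q.1 ∧ z ≠ q.1 ∧
        z * q.1 = q.1 * z ∧ z * q.2 = q.2 * z ∧ q.1 * q.2 = q.2 * q.1} :=
    { toFun := fun w => ⟨w.1.1, w.1.2.2.1, w.1.2.1.1, w.1.2.1.2.1.symm, w.1.2.1.2.2,
        w.1.2.2.2, w.2⟩
      invFun := fun q => ⟨⟨q.1, ⟨q.2.2.1, q.2.2.2.1.symm, q.2.2.2.2.1⟩,
        ⟨q.2.1, q.2.2.2.2.2.1⟩⟩, q.2.2.2.2.2.2⟩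
      left_inv := fun w => rfl
      right_inv := fun q => rfl }
  have e2 : {w : WSet z t // ¬ w.1.1 * w.1.2 = w.1.2 * w.1.1} ≃
      {p : G × G // IsConj z p.1 ∧ IsConj t p.2 ∧ z ∈ Subgroup.zpowers (p.1 * p.2)} :=
    { toFun := fun w => ⟨w.1.1, w.1.2.1.1, w.1.2.2.1,
        (hZ.mem_zpowers_iff w.1.2.1.1 w.1.2.2.1).mpr
          ⟨w.1.2.1.2.1, w.1.2.1.2.2, w.1.2.2.2, w.2⟩⟩
      invFun := fun p =>
        ⟨⟨p.1, ⟨p.2.1, ((hZ.mem_zpowers_iff p.2.1 p.2.2.1).mp p.2.2.2).1,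
          ((hZ.mem_zpowers_iff p.2.1 p.2.2.1).mp p.2.2.2).2.1⟩,
          ⟨p.2.2.1, ((hZ.mem_zpowers_iff p.2.1 p.2.2.1).mp p.2.2.2).2.2.1⟩⟩,
          ((hZ.mem_zpowers_iff p.2.1 p.2.2.1).mp p.2.2.2).2.2.2⟩
      left_inv := fun w => rfl
      right_inv := fun p => rfl }
  rw [Nat.card_congr e1, Nat.card_congr e2, hX, hW] at hsplit
  omega

end Cfsg.Agent.Lib.Helper14.J2Ord
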