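import Mathlib
import Cfsg.Agent.Lib.Helper14.J2OrdG

/-!
helper14: S3313, part H: the hypothesis packages from the raw hypotheses of the statement.
-/

set_option autoImplicit false
open scoped commutatorElement

namespace Cfsg.Agent.Lib.Helper14.J2Ord

open Cfsg.Agent.Lib.Helper14.EO2 Cfsg.Agent.Lib.Helper14.LES Cfsg.Agent.Lib.Helper20.ES

variable {G : Type*} [Group G] [Finite G]

theorem orderOf_two_of_mul_self {x : G} (h2 : x * x = 1) (h1 : x ≠ 1) : orderOf x = 2 := by
  haveI : Fact (Nat.Prime 2) := ⟨Nat.prime_two⟩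
  exact orderOf_eq_prime (by rw [pow_two]; exact h2) h1

theorem mul_self_of_orderOf_two {x : G} (h : orderOf x = 2) : x * x = 1 := by
  have := pow_orderOf_eq_one x
  rwa [h, pow_two] at this

theorem ne_one_of_orderOf_two {x : G} (h : orderOf x = 2) : x ≠ 1 := by
  intro h1
  rw [h1, orderOf_one] at h
  omega

/-- `F*(C) = O_2(C)` when `F*(C)` is a 2-group -/
theorem fstar_eq_pCore {C : Type*} [Group C] [Finite C]
    (hex : Cfsg.IsExtraspecial 2 ↥(Cfsg.generalizedFittingSubgroup C)) :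
    Cfsg.generalizedFittingSubgroup C = Cfsg.pCore 2 C := by
  haveI : Fact (Nat.Prime 2) := ⟨Nat.prime_two⟩
  apply le_antisymm
  · exact le_sSup ⟨Cfsg.Agent.Lib.Helper8.generalizedFittingSubgroup_normal C, hex.1.1⟩
  · exact Cfsg.Agent.Lib.Helper17.pCore_le_fstar 2

/-- the `z` side package -/
theorem zSide_of (z t : G) (hz : orderOf z = 2) (ht : orderOf t = 2) (hzt : ¬ IsConj z t)
    (hex : Cfsg.IsExtraspecial 2
      ↥(Cfsg.generalizedFittingSubgroup ↥(Subgroup.centralizer ({z} : Set G))))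
    (hQ : Nat.card ↥(Cfsg.pCore 2 ↥(Subgroup.centralizer ({z} : Set G))) = 32)
    (K : Subgroup G) (hK : Nonempty (↥K ≃* alternatingGroup (Fin 5)))
    (hKC : K ⊔ (Cfsg.pCore 2 ↥(Subgroup.centralizer ({z} : Set G))).map
      (Subgroup.centralizer ({z} : Set G)).subtype = Subgroup.centralizer ({z} : Set G))
    (hKQ : K ⊓ (Cfsg.pCore 2 ↥(Subgroup.centralizer ({z} : Set G))).map
      (Subgroup.centralizer ({z} : Set G)).subtype = ⊥)
    (hQz : ∀ x ∈ (Cfsg.pCore 2 ↥(Subgroup.centralizer ({z} : Set G))).map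
      (Subgroup.centralizer ({z} : Set G)).subtype, orderOf x = 2 → IsConj x z)
    (hCz : ∀ x ∈ Subgroup.centralizer ({z} : Set G), orderOf x = 2 →
      x ∉ (Cfsg.pCore 2 ↥(Subgroup.centralizer ({z} : Set G))).map
        (Subgroup.centralizer ({z} : Set G)).subtype → IsConj x t) :
    ZSide z t K ((Cfsg.pCore 2 ↥(Subgroup.centralizer ({z} : Set G))).map
      (Subgroup.centralizer ({z} : Set G)).subtype) := by
  have hF := fstar_eq_pCore hex
  have hext : Cfsg.IsExtraspecial 2 ↥((Cfsg.pCore 2 ↥(Subgroup.centralizer ({z} : Set G))).map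
      (Subgroup.centralizer ({z} : Set G)).subtype) := by
    refine Cfsg.Agent.Lib.Helper16.AGL.isExtraspecial_of_mulEquiv ?_ hex
    exact (MulEquiv.subgroupCongr hF).trans
      ((Cfsg.pCore 2 ↥(Subgroup.centralizer ({z} : Set G))).equivMapOfInjective
        (Subgroup.centralizer ({z} : Set G)).subtype
        (Subgroup.subtype_injective _))
  have hcc := Cfsg.Agent.Lib.Helper9.centralizer_generalizedFittingSubgroup_le
    (G := ↥(Subgroup.centralizer ({z} : Set G)))
  rw [hF] at hcc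
  have hzC : z ∈ Subgroup.centralizer ({z} : Set G) := (mem_cent_iff z z).mpr rfl
  have hzQ : z ∈ (Cfsg.pCore 2 ↥(Subgroup.centralizer ({z} : Set G))).map
      (Subgroup.centralizer ({z} : Set G)).subtype := by
    refine ⟨⟨z, hzC⟩, hcc ?_, rfl⟩
    rw [Subgroup.mem_centralizer_iff]
    intro y _
    apply Subtype.ext
    show (y : G) * z = z * (y : G)
    exact (mem_cent_iff z y.1).mp y.2
  have hcent : Subgroup.centralizer (((Cfsg.pCore 2 ↥(Subgroup.centralizer ({z} : Set G))).map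
      (Subgroup.centralizer ({z} : Set G)).subtype : Subgroup G) : Set G) ≤
      (Cfsg.pCore 2 ↥(Subgroup.centralizer ({z} : Set G))).map
        (Subgroup.centralizer ({z} : Set G)).subtype := by
    intro x hx
    have hxz : z * x = x * z := Subgroup.mem_centralizer_iff.mp hx z hzQ
    have hxC : x ∈ Subgroup.centralizer ({z} : Set G) := (mem_cent_iff z x).mpr hxz.symm
    refine ⟨⟨x, hxC⟩, hcc ?_, rfl⟩
    rw [Subgroup.mem_centralizer_iff]
    intro y hy
    apply Subtype.ext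
    show (y : G) * x = x * (y : G)
    exact Subgroup.mem_centralizer_iff.mp hx y.1 ⟨y, hy, rfl⟩
  have hyp := hyp_of z hz _ rfl hext hcent
  have hKle : K ≤ Subgroup.centralizer ({z} : Set G) := hKC ▸ le_sup_left
  refine ⟨hyp, ?_, ?_, ?_, hK, mul_self_of_orderOf_two ht, ne_one_of_orderOf_two ht, hzt,
    ?_, ?_⟩
  · rw [Subgroup.card_map_of_injective (Subgroup.subtype_injective _)]
    exact hQ
  · intro k hk
    exact (mem_cent_iff z k).mp (hKle hk)
  · intro x hxK hxQ
    have : x ∈ K ⊓ (Cfsg.pCore 2 ↥(Subgroup.centralizer ({z} : Set G))).map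
      (Subgroup.centralizer ({z} : Set G)).subtype := Subgroup.mem_inf.mpr ⟨hxK, hxQ⟩
    rw [hKQ] at this
    exact Subgroup.mem_bot.mp this
  · intro x hx h2 h1
    exact (hQz x hx (orderOf_two_of_mul_self h2 h1)).symm
  · intro x hxz h2 h1 hxQ
    exact (hCz x ((mem_cent_iff z x).mpr hxz) (orderOf_two_of_mul_self h2 h1) hxQ).symm

/-- the `t` side package -/
theorem tSide_of (z t : G) (hz : orderOf z = 2) (ht : orderOf t = 2) (hzt : ¬ IsConj z t)
    (V B : Subgroup G)
    (hVB : Cfsg.IsInternalDirectProduct V B (Subgroup.centralizer ({t} : Set G)))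
    (hV2 : ∀ v ∈ V, v ^ 2 = 1) (htV : t ∈ V)
    (hB : Nonempty (↥B ≃* alternatingGroup (Fin 5)))
    (hBz : ∀ x ∈ B, orderOf x = 2 → IsConj x z)
    (hCt : ∀ x ∈ Subgroup.centralizer ({t} : Set G), orderOf x = 2 → x ∉ B → IsConj x t) :
    TSide z t V B := by
  obtain ⟨hVS, hBS, hcomm, hinf, hsup⟩ := hVB
  refine ⟨mul_self_of_orderOf_two hz, ne_one_of_orderOf_two hz, mul_self_of_orderOf_two ht,
    ne_one_of_orderOf_two ht, hzt, hcomm, ?_, ?_, ?_, htV, hB, ?_, ?_⟩
  · intro x hxV hxB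
    have : x ∈ V ⊓ B := Subgroup.mem_inf.mpr ⟨hxV, hxB⟩
    rw [hinf] at this
    exact Subgroup.mem_bot.mp this
  · intro x hxt
    have hx : x ∈ V ⊔ B := hsup ▸ (mem_cent_iff t x).mpr hxt
    refine mem_sup_of_normalizes V B ?_ hx
    intro v hv b hb
    rw [hcomm v hv b hb, mul_assoc, mul_inv_cancel, mul_one]
    exact hb
  · intro v hv
    rw [← pow_two]; exact hV2 v hv
  · intro x hx h2 h1
    exact (hBz x hx (orderOf_two_of_mul_self h2 h1)).symm
  · intro x hxt h2 h1 hxB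
    exact (hCt x ((mem_cent_iff t x).mpr hxt) (orderOf_two_of_mul_self h2 h1) hxB).symm

/-- **S3313** -/
theorem main (z t : G) (hz : orderOf z = 2) (ht : orderOf t = 2)
    (hzt : ¬ IsConj z t) (hcl : ∀ x : G, orderOf x = 2 → IsConj x z ∨ IsConj x t)
    (hex : Cfsg.IsExtraspecial 2
      ↥(Cfsg.generalizedFittingSubgroup ↥(Subgroup.centralizer ({z} : Set G))))
    (hQ : Nat.card ↥(Cfsg.pCore 2 ↥(Subgroup.centralizer ({z} : Set G))) = 32)
    (K : Subgroup G) (hK : Nonempty (↥K ≃* alternatingGroup (Fin 5)))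
    (hKC : K ⊔ (Cfsg.pCore 2 ↥(Subgroup.centralizer ({z} : Set G))).map
      (Subgroup.centralizer ({z} : Set G)).subtype = Subgroup.centralizer ({z} : Set G))
    (hKQ : K ⊓ (Cfsg.pCore 2 ↥(Subgroup.centralizer ({z} : Set G))).map
      (Subgroup.centralizer ({z} : Set G)).subtype = ⊥)
    (hQz : ∀ x ∈ (Cfsg.pCore 2 ↥(Subgroup.centralizer ({z} : Set G))).map
      (Subgroup.centralizer ({z} : Set G)).subtype, orderOf x = 2 → IsConj x z)
    (hCz : ∀ x ∈ Subgroup.centralizer ({z} : Set G), orderOf x = 2 →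
      x ∉ (Cfsg.pCore 2 ↥(Subgroup.centralizer ({z} : Set G))).map
        (Subgroup.centralizer ({z} : Set G)).subtype → IsConj x t)
    (V B : Subgroup G)
    (hVB : Cfsg.IsInternalDirectProduct V B (Subgroup.centralizer ({t} : Set G)))
    (hV : Nat.card ↥V = 4) (hV2 : ∀ v ∈ V, v ^ 2 = 1) (htV : t ∈ V)
    (hB : Nonempty (↥B ≃* alternatingGroup (Fin 5)))
    (hBz : ∀ x ∈ B, orderOf x = 2 → IsConj x z)
    (hCt : ∀ x ∈ Subgroup.centralizer ({t} : Set G), orderOf x = 2 → x ∉ B → IsConj x t) :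
    Nat.card G = 604800 := by
  have hZ := zSide_of z t hz ht hzt hex hQ K hK hKC hKQ hQz hCz
  have hT := tSide_of z t hz ht hzt V B hVB hV2 htV hB hBz hCt
  have hall : ∀ x : G, orderOf x = 2 → IsConj z x ∨ IsConj t x :=
    fun x hx => (hcl x hx).imp IsConj.symm IsConj.symm
  obtain ⟨eB⟩ := hB
  obtain ⟨eK⟩ := hK
  have hcardCt : Nat.card ↥(Subgroup.centralizer ({t} : Set G)) = 240 := by
    rw [← hVB.2.2.2.2, card_sup_of_normalizes V B ?_ hT.disj, hV, card_of_iso_A5 eB]
    intro v hv b hb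
    rw [hT.comm v hv b hb, mul_assoc, mul_inv_cancel, mul_one]
    exact hb
  have hcardCz : Nat.card ↥(Subgroup.centralizer ({z} : Set G)) = 1920 := by
    rw [← hKC, card_sup_of_normalizes K _ ?_ hZ.disj, card_of_iso_A5 eK, hZ.cardQ]
    intro k hk q hq
    exact hZ.hyp.nor k (hZ.Kz k hk) q hq
  exact order_eq hT hZ hz ht hall hcardCt hcardCz

end Cfsg.Agent.Lib.Helper14.J2Ord
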