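import Cfsg.Agent.Lib.Helper14.J2OutA

set_option autoImplicit false
set_option linter.style.haveILetI false

/-!
The automorphism group of the commuting graph on 315 points: the stabiliser of the base point is
generated by the stabiliser `KJ` in the Hall–Janko group and the involution `tauP`.
-/

namespace Cfsg.Agent.Lib.Helper14.J2

open Cfsg.Agent.Lib.Helper10.SW MulAction

attribute [local irreducible] perm

theorem cT_valid : Valid 315 cT := valid_of_invOf ((invB_iff _ _ _).mp cT_inv)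

theorem cT_autG : perm 315 cT ∈ autGroup 315 gam := isAut_of_autOk rows_ok cT_valid cT_aut

theorem cT_ok : Valid 315 cT ∧ perm 315 cT ∈ autGroup 315 gam := ⟨cT_valid, cT_autG⟩

/-- the outer automorphism -/
noncomputable def tauP : Equiv.Perm (Fin 315) := perm 315 cT

theorem tauP_v0 : tauP v0 = v0 := by
  apply Fin.ext
  show (perm 315 cT v0).val = v0.val
  rw [perm_apply_val cT_valid]
  exact tau_fix

theorem hb1 : lv1.b < 315 := (inv1.fixb lv1 _ rfl).1
theorem hb2 : lv2.b < 315 := (esInv2.fixb lv2 _ rfl).1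
theorem hb3 : lv3.b < 315 := (esInv3.fixb lv3 _ rfl).1

/-- the second base point -/
def pB1 : Fin 315 := ⟨lv1.b, hb1⟩
/-- the third base point -/
def pB2 : Fin 315 := ⟨lv2.b, hb2⟩
/-- the fourth base point -/
def pB3 : Fin 315 := ⟨lv3.b, hb3⟩

theorem stageA {σ : Equiv.Perm (Fin 315)} (hσ : σ ∈ autGroup 315 gam) (h0 : σ v0 = v0) :
    ∀ x : Fin 315, cimg colA3 (σ x).val = cimg colA3 x.val := by
  have hfix : ∀ x ∈ [0], ∀ hx : x < 315, σ ⟨x, hx⟩ = ⟨x, hx⟩ := by
    intro x hx hxn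
    simp only [List.mem_cons, List.not_mem_nil, or_false] at hx
    subst hx
    exact h0
  have e0 := c0_inv [0] hfix
  have e1 := round_inv rows_ok hσ e0 roundA1
  have e2 := round_inv rows_ok hσ e1 roundA2
  exact round_inv rows_ok hσ e2 roundA3

theorem stageB {σ : Equiv.Perm (Fin 315)} (hσ : σ ∈ autGroup 315 gam) (h0 : σ v0 = v0)
    (h1 : σ pB1 = pB1) :
    ∀ x : Fin 315, cimg colB5 (σ x).val = cimg colB5 x.val := by
  have hfix : ∀ x ∈ [0, 3], ∀ hx : x < 315, σ ⟨x, hx⟩ = ⟨x, hx⟩ := by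
    intro x hx hxn
    simp only [List.mem_cons, List.not_mem_nil, or_false] at hx
    rcases hx with rfl | rfl
    · exact h0
    · exact h1
  have e0 := c0_inv [0, 3] hfix
  have e1 := round_inv rows_ok hσ e0 roundB1
  have e2 := round_inv rows_ok hσ e1 roundB2
  have e3 := round_inv rows_ok hσ e2 roundB3
  have e4 := round_inv rows_ok hσ e3 roundB4
  exact round_inv rows_ok hσ e4 roundB5

theorem stageC {σ : Equiv.Perm (Fin 315)} (hσ : σ ∈ autGroup 315 gam) (h0 : σ v0 = v0)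
    (h1 : σ pB1 = pB1) (h2 : σ pB2 = pB2) :
    ∀ x : Fin 315, cimg colC4 (σ x).val = cimg colC4 x.val := by
  have hfix : ∀ x ∈ [0, 3, 1], ∀ hx : x < 315, σ ⟨x, hx⟩ = ⟨x, hx⟩ := by
    intro x hx hxn
    simp only [List.mem_cons, List.not_mem_nil, or_false] at hx
    rcases hx with rfl | rfl | rfl
    · exact h0
    · exact h1
    · exact h2
  have e0 := c0_inv [0, 3, 1] hfix
  have e1 := round_inv rows_ok hσ e0 roundC1
  have e2 := round_inv rows_ok hσ e1 roundC2
  have e3 := round_inv rows_ok hσ e2 roundC3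
  exact round_inv rows_ok hσ e3 roundC4

theorem grp23_le : grp 315 (allGens [lv2, lv3]) ≤ KJ := grp_mono (allGens_sub_cons lv1 _)

theorem grp3_le : grp 315 (allGens [lv3]) ≤ grp 315 (allGens [lv2, lv3]) :=
  grp_mono (allGens_sub_cons lv2 _)

theorem grp23_fix {g : Equiv.Perm (Fin 315)} (hg : g ∈ grp 315 (allGens [lv2, lv3])) :
    g pB1 = pB1 := by
  have h : g ∈ grp 315 (allGens [lv1, lv2, lv3]) ⊓ stabilizer (Equiv.Perm (Fin 315)) pB1 := by
    rw [show pB1 = (⟨lv1.b, hb1⟩ : Fin 315) from rfl, stab_eq inv1 hb1]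
    exact hg
  exact mem_stabilizer_iff.mp (Subgroup.mem_inf.mp h).2

theorem grp3_fix {g : Equiv.Perm (Fin 315)} (hg : g ∈ grp 315 (allGens [lv3])) :
    g pB2 = pB2 := by
  have h : g ∈ grp 315 (allGens [lv2, lv3]) ⊓ stabilizer (Equiv.Perm (Fin 315)) pB2 := by
    rw [show pB2 = (⟨lv2.b, hb2⟩ : Fin 315) from rfl, stab_eq esInv2 hb2]
    exact hg
  exact mem_stabilizer_iff.mp (Subgroup.mem_inf.mp h).2

/-- an automorphism fixing the base point and mapping the second base point into its orbit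
under the stabiliser belongs to the stabiliser -/
theorem reduce1 {ρ : Equiv.Perm (Fin 315)} (hρ : ρ ∈ autGroup 315 gam) (h0 : ρ v0 = v0)
    (hp : (pathOf lv1.tree fuel (ρ pB1).val).isSome = true) : ρ ∈ KJ := by
  have hKaut : KJ ≤ autGroup 315 gam := fun g hg => PJ_le_aut (KJ_le_PJ hg)
  -- the first level
  obtain ⟨g1, hg1, e1⟩ := exists_map_of_path inv1 hb1 (ρ pB1) hp
  have hg1K : g1 ∈ KJ := hg1
  set ρ1 := g1⁻¹ * ρ with hρ1
  have hρ1a : ρ1 ∈ autGroup 315 gam :=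
    Subgroup.mul_mem _ (Subgroup.inv_mem _ (hKaut hg1K)) hρ
  have hρ1_0 : ρ1 v0 = v0 := by
    rw [hρ1, Equiv.Perm.mul_apply, h0]
    exact KJ_fix (KJ.inv_mem hg1K)
  have hρ1_1 : ρ1 pB1 = pB1 := by
    rw [hρ1, Equiv.Perm.mul_apply, Equiv.Perm.inv_eq_iff_eq]
    exact e1.symm
  -- the second level
  have hc2 : (pathOf lv2.tree fuel (ρ1 pB2).val).isSome = true := by
    have h := (allLt_iff _ _).mp classB (ρ1 pB2).val (ρ1 pB2).isLt
    have hcol : (cimg colB5 (ρ1 pB2).val == cimg colB5 1) = true := by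
      rw [beq_iff_eq]
      exact stageB hρ1a hρ1_0 hρ1_1 pB2
    rw [hcol] at h
    simpa using h
  obtain ⟨g2, hg2, e2⟩ := exists_map_of_path esInv2 hb2 (ρ1 pB2) hc2
  have hg2K : g2 ∈ KJ := grp23_le hg2
  set ρ2 := g2⁻¹ * ρ1 with hρ2
  have hρ2a : ρ2 ∈ autGroup 315 gam :=
    Subgroup.mul_mem _ (Subgroup.inv_mem _ (hKaut hg2K)) hρ1a
  have hρ2_0 : ρ2 v0 = v0 := by
    rw [hρ2, Equiv.Perm.mul_apply, hρ1_0]
    exact KJ_fix (KJ.inv_mem hg2K)
  have hρ2_1 : ρ2 pB1 = pB1 := by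
    rw [hρ2, Equiv.Perm.mul_apply, hρ1_1]
    exact grp23_fix (Subgroup.inv_mem _ hg2)
  have hρ2_2 : ρ2 pB2 = pB2 := by
    rw [hρ2, Equiv.Perm.mul_apply, Equiv.Perm.inv_eq_iff_eq]
    exact e2.symm
  -- the third level
  have hc3 : (pathOf lv3.tree fuel (ρ2 pB3).val).isSome = true := by
    have h := (allLt_iff _ _).mp classC (ρ2 pB3).val (ρ2 pB3).isLt
    have hcol : (cimg colC4 (ρ2 pB3).val == cimg colC4 5) = true := by
      rw [beq_iff_eq]
      exact stageC hρ2a hρ2_0 hρ2_1 hρ2_2 pB3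
    rw [hcol] at h
    simpa using h
  obtain ⟨g3, hg3, e3⟩ := exists_map_of_path esInv3 hb3 (ρ2 pB3) hc3
  have hg3' : g3 ∈ grp 315 (allGens [lv2, lv3]) := grp3_le hg3
  have hg3K : g3 ∈ KJ := grp23_le hg3'
  set ρ3 := g3⁻¹ * ρ2 with hρ3
  have hρ3a : ρ3 ∈ autGroup 315 gam :=
    Subgroup.mul_mem _ (Subgroup.inv_mem _ (hKaut hg3K)) hρ2a
  have hρ3_0 : ρ3 v0 = v0 := by
    rw [hρ3, Equiv.Perm.mul_apply, hρ2_0]
    exact KJ_fix (KJ.inv_mem hg3K)
  have hρ3_1 : ρ3 pB1 = pB1 := by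
    rw [hρ3, Equiv.Perm.mul_apply, hρ2_1]
    exact grp23_fix (Subgroup.inv_mem _ hg3')
  have hρ3_2 : ρ3 pB2 = pB2 := by
    rw [hρ3, Equiv.Perm.mul_apply, hρ2_2]
    exact grp3_fix (Subgroup.inv_mem _ hg3)
  have hρ3_3 : ρ3 pB3 = pB3 := by
    rw [hρ3, Equiv.Perm.mul_apply, Equiv.Perm.inv_eq_iff_eq]
    exact e3.symm
  have hone : ρ3 = 1 := by
    apply rigid5 _ hρ3a
    intro x hx hxn
    unfold rbPts at hx
    simp only [List.mem_cons, List.not_mem_nil, or_false] at hx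
    rcases hx with rfl | rfl | rfl | rfl
    · exact hρ3_0
    · exact hρ3_1
    · exact hρ3_2
    · exact hρ3_3
  have hρ_eq : ρ = g1 * (g2 * g3) := by
    have h3 : ρ2 = g3 := by
      have : g3⁻¹ * ρ2 = 1 := hone
      exact (inv_mul_eq_one.mp this).symm
    have h2 : ρ1 = g2 * g3 := by
      have : g2⁻¹ * ρ1 = g3 := h3
      rw [inv_mul_eq_iff_eq_mul] at this
      exact this
    have h1 : g1⁻¹ * ρ = g2 * g3 := h2
    rw [inv_mul_eq_iff_eq_mul] at h1
    exact h1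
  rw [hρ_eq]
  exact KJ.mul_mem hg1K (KJ.mul_mem hg2K hg3K)

/-- the stabiliser of the base point in the automorphism group of the graph -/
theorem stab_structure {σ : Equiv.Perm (Fin 315)} (hσ : σ ∈ autGroup 315 gam) (h0 : σ v0 = v0) :
    σ ∈ KJ ∨ tauP * σ ∈ KJ := by
  have h := (allLt_iff _ _).mp classA (σ pB1).val (σ pB1).isLt
  have hcol : (cimg colA3 (σ pB1).val == cimg colA3 3) = true := by
    rw [beq_iff_eq]
    exact stageA hσ h0 pB1
  rw [hcol] at h
  simp only [Bool.not_true, Bool.false_or, Bool.or_eq_true] at h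
  rcases h with h | h
  · left
    exact reduce1 hσ h0 h
  · right
    apply reduce1 (Subgroup.mul_mem _ cT_autG hσ)
    · rw [Equiv.Perm.mul_apply, h0]
      exact tauP_v0
    · rw [Equiv.Perm.mul_apply]
      show (pathOf lv1.tree fuel (perm 315 cT (σ pB1)).val).isSome = true
      rw [perm_apply_val cT_valid]
      exact h

end Cfsg.Agent.Lib.Helper14.J2
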