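import Mathlib

set_option autoImplicit false
set_option linter.style.haveILetI false

/-!
Two abstract lemmas on automorphisms of finite groups: the image of a 2-central involution, and the
permutation of a transitive set induced by an automorphism preserving a point stabiliser.
-/

namespace Cfsg.Agent.Lib.Helper14.J2

/-- an automorphism maps a 2-central involution, determined by a 2-subgroup it centralises, to a
conjugate -/
theorem exists_conj_of_two_central {G : Type*} [Group G] [Finite G] (A : Subgroup G)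
    (hA : IsPGroup 2 A) (z : G) (hz : z ≠ 1) (hzA : z ∈ A)
    (hcen : ∀ x : G, (∀ a ∈ A, x * a = a * x) → x = 1 ∨ x = z) (φ : MulAut G) :
    ∃ g : G, φ z = g * z * g⁻¹ := by
  haveI : Fact (Nat.Prime 2) := ⟨Nat.prime_two⟩
  obtain ⟨P, hAP⟩ := hA.exists_le_sylow
  -- `z` is central in `P`
  have hzP : z ∈ (P : Subgroup G) := hAP hzA
  have hPcen : ∀ x ∈ (P : Subgroup G), (∀ y ∈ (P : Subgroup G), x * y = y * x) → x = 1 ∨ x = z :=
    fun x _ hx => hcen x (fun a ha => hx a (hAP ha))
  have hzc : ∀ y ∈ (P : Subgroup G), z * y = y * z := by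
    haveI : Nontrivial ↥(P : Subgroup G) := ⟨⟨z, hzP⟩, 1, fun h => hz (congrArg Subtype.val h)⟩
    haveI := P.isPGroup'.center_nontrivial
    obtain ⟨⟨x, hxc⟩, hx1⟩ := exists_ne (1 : Subgroup.center ↥(P : Subgroup G))
    have hx1' : (x : G) ≠ 1 := by
      intro h
      apply hx1
      apply Subtype.ext
      apply Subtype.ext
      exact h
    have hcomm : ∀ y ∈ (P : Subgroup G), (x : G) * y = y * x := by
      intro y hy
      have := Subgroup.mem_center_iff.mp hxc ⟨y, hy⟩
      exact (congrArg Subtype.val this).symm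
    rcases hPcen x x.2 hcomm with h | h
    · exact absurd h hx1'
    · rw [← h]
      exact hcomm
  -- the image of `P`
  have hP' : IsPGroup 2 ↥((P : Subgroup G).map φ.toMonoidHom) := P.isPGroup'.map φ.toMonoidHom
  obtain ⟨P'', hP''⟩ := hP'.exists_le_sylow
  obtain ⟨g, hg⟩ := MulAction.exists_smul_eq G P P''
  have hsub : (P'' : Subgroup G) = (P : Subgroup G).map (MulAut.conj g).toMonoidHom := by
    rw [← hg]
    rfl
  have hcard : Nat.card ↥((P : Subgroup G).map φ.toMonoidHom) = Nat.card ↥(P'' : Subgroup G) := by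
    rw [hsub]
    rw [Subgroup.card_map_of_injective (MulEquiv.injective φ)]
    exact (Subgroup.card_map_of_injective (MulEquiv.injective (MulAut.conj g))).symm
  have heq : (P : Subgroup G).map φ.toMonoidHom = (P'' : Subgroup G) :=
    Subgroup.eq_of_le_of_card_ge hP'' (le_of_eq hcard.symm)
  -- the element
  have h1 : φ z ∈ (P : Subgroup G).map (MulAut.conj g).toMonoidHom := by
    rw [← hsub, ← heq]
    exact ⟨z, hzP, rfl⟩
  obtain ⟨w, hwP, hw⟩ := h1
  have hw' : g * w * g⁻¹ = φ z := hw
  have hwc : ∀ y ∈ (P : Subgroup G), w * y = y * w := by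
    intro y hy
    have hy' : g * y * g⁻¹ ∈ (P : Subgroup G).map φ.toMonoidHom := by
      rw [heq, hsub]
      exact ⟨y, hy, rfl⟩
    obtain ⟨y', hy'P, hy'e⟩ := hy'
    have hy'e' : φ y' = g * y * g⁻¹ := hy'e
    have hc : φ z * φ y' = φ y' * φ z := by
      rw [← map_mul, ← map_mul, hzc y' hy'P]
    rw [← hw', hy'e'] at hc
    have : g * (w * y) * g⁻¹ = g * (y * w) * g⁻¹ := by
      calc g * (w * y) * g⁻¹ = g * w * g⁻¹ * (g * y * g⁻¹) := by group
        _ = g * y * g⁻¹ * (g * w * g⁻¹) := hc
        _ = g * (y * w) * g⁻¹ := by group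
    exact mul_left_cancel (mul_right_cancel this)
  rcases hPcen w hwP hwc with h | h
  · exfalso
    rw [h, mul_one, mul_inv_cancel] at hw'
    exact hz ((MulEquiv.map_eq_one_iff φ).mp hw'.symm)
  · exact ⟨g, by rw [← hw', h]⟩

/-- an automorphism preserving a point stabiliser of a transitive action is induced by a
permutation of the points fixing the point -/
theorem exists_perm_of_aut {G X : Type*} [Group G] [MulAction G X] [MulAction.IsPretransitive G X]
    (x0 : X) (φ : MulAut G) (hφ : ∀ g : G, g • x0 = x0 ↔ φ g • x0 = x0) :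
    ∃ π : Equiv.Perm X, π x0 = x0 ∧ ∀ (g : G) (x : X), π (g • x) = φ g • π x := by
  choose r hr using fun x : X => MulAction.exists_smul_eq G x0 x
  -- the general construction
  have key : ∀ ψ : MulAut G, (∀ g : G, g • x0 = x0 ↔ ψ g • x0 = x0) →
      ∀ g : G, ψ (r (g • x0)) • x0 = ψ g • x0 := by
    intro ψ hψ g
    have h1 : (g⁻¹ * r (g • x0)) • x0 = x0 := by
      rw [mul_smul, hr, inv_smul_smul]
    have h2 := (hψ _).mp h1
    rw [map_mul, map_inv, mul_smul, inv_smul_eq_iff] at h2
    exact h2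
  have hφ' : ∀ g : G, g • x0 = x0 ↔ φ⁻¹ g • x0 = x0 := by
    intro g
    have := hφ (φ⁻¹ g)
    rw [show φ (φ⁻¹ g) = g from φ.apply_symm_apply g] at this
    exact this.symm
  let f : X → X := fun x => φ (r x) • x0
  let f' : X → X := fun x => φ⁻¹ (r x) • x0
  have hf : ∀ g : G, f (g • x0) = φ g • x0 := key φ hφ
  have hf' : ∀ g : G, f' (g • x0) = φ⁻¹ g • x0 := key φ⁻¹ hφ'
  have h1 : ∀ x, f' (f x) = x := by
    intro x
    show f' (φ (r x) • x0) = x
    rw [hf', show φ⁻¹ (φ (r x)) = r x from φ.symm_apply_apply _, hr]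
  have h2 : ∀ x, f (f' x) = x := by
    intro x
    show f (φ⁻¹ (r x) • x0) = x
    rw [hf, show φ (φ⁻¹ (r x)) = r x from φ.apply_symm_apply _, hr]
  refine ⟨⟨f, f', h1, h2⟩, ?_, ?_⟩
  · show f x0 = x0
    have := hf 1
    rw [one_smul, map_one, one_smul] at this
    exact this
  · intro g x
    show f (g • x) = φ g • f x
    have hx : x = r x • x0 := (hr x).symm
    conv_lhs => rw [hx, ← mul_smul, hf, map_mul, mul_smul]

end Cfsg.Agent.Lib.Helper14.J2
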