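import Cfsg.Agent.Lib.Helper14.J2OutB
import Cfsg.Agent.Lib.Helper14.J2OutC
import Cfsg.Agent.Lib.Helper14.J2EsD
import Cfsg.Agent.Lib.Helper3.OutAut.Basic

set_option autoImplicit false
set_option linter.style.haveILetI false

/-!
The outer automorphism group of the Hall–Janko group has order 2: assembly.
-/

namespace Cfsg.Agent.Lib.Helper14.J2

open Cfsg.Agent.Lib.Helper10.SW MulAction

attribute [local irreducible] perm

/-! ### the outer involution -/

theorem tauP_sq : tauP * tauP = 1 := by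
  have h := prodL_eq_of_bimg (L1 := [cT, cT]) (L2 := []) (by
    intro c hc
    simp only [List.mem_cons, List.not_mem_nil, or_false, or_self] at hc
    subst hc
    exact cT_ok) (by intro c hc; exact absurd hc List.not_mem_nil) cT_sq
  rw [prodL_cons, prodL_cons, prodL_nil, mul_one] at h
  exact h

theorem tauP_inv : tauP⁻¹ = tauP := inv_eq_of_mul_eq_one_right tauP_sq

theorem tau_conj_gen {c : ℕ} (hc : c ∈ topGens) : tauP * perm 315 c * tauP⁻¹ ∈ PJ := by
  rw [tauP_inv]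
  have hmem : c ∈ wT.map Prod.fst := by rw [wT_fst]; exact hc
  obtain ⟨e, he, rfl⟩ := List.mem_map.mp hmem
  have h1 := List.all_eq_true.mp normT e he
  rw [beq_iff_eq] at h1
  have htop := wT_top e he
  have hv : ∀ d ∈ topGens, Valid 315 d ∧ perm 315 d ∈ autGroup 315 gam :=
    fun d hd => ⟨valid_top hd, PJ_le_aut (perm_mem_PJ hd)⟩
  have h2 := prodL_eq_of_bimg (L1 := [cT, e.1, cT]) (L2 := e.2) (by
    intro d hd
    simp only [List.mem_cons, List.not_mem_nil, or_false] at hd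
    rcases hd with rfl | rfl | rfl
    · exact cT_ok
    · exact hv _ hc
    · exact cT_ok) (fun d hd => hv d (htop.2 d hd)) h1
  rw [prodL_cons, prodL_cons, prodL_cons, prodL_nil, mul_one, ← mul_assoc] at h2
  show perm 315 cT * perm 315 e.1 * perm 315 cT ∈ PJ
  rw [h2]
  exact prodL_mem fun d hd => perm_mem_PJ (htop.2 d hd)

theorem tau_norm {g : Equiv.Perm (Fin 315)} (hg : g ∈ PJ) : tauP * g * tauP⁻¹ ∈ PJ := by
  have hle : PJ ≤ PJ.comap (MulAut.conj tauP).toMonoidHom := by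
    conv_lhs => rw [PJ_eq']
    rw [grp_le_iff]
    intro c hc
    exact tau_conj_gen hc
  exact hle hg

theorem tau_norm' {g : Equiv.Perm (Fin 315)} (hg : g ∈ PJ) : tauP⁻¹ * g * tauP ∈ PJ := by
  have := tau_norm hg
  rw [tauP_inv] at this ⊢
  exact this

/-- the outer automorphism -/
noncomputable def thetaJ : MulAut ↥PJ :=
  Cfsg.Agent.Lib.Helper3.OutAut.conjAut PJ tauP (fun _ hg => tau_norm hg) (fun _ hg => tau_norm' hg)

theorem thetaJ_apply (g : ↥PJ) : ((thetaJ g : ↥PJ) : Equiv.Perm (Fin 315)) = tauP * g.1 * tauP⁻¹ :=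
  rfl


/-! ### the automorphism is not inner -/

set_option maxRecDepth 1000000 in
theorem kjList_sub : ∀ c ∈ [c0, c4, c5, c6, c7, c8], c ∈ kG := by decide +kernel

/-- a permutation centralising `PJ` is trivial -/
theorem centralizer_PJ_trivial {u : Equiv.Perm (Fin 315)} (hu : ∀ g ∈ PJ, u * g = g * u) :
    u = 1 := by
  have h0 : u v0 = v0 := by
    by_contra hne
    have hy : (u v0).val ≠ 0 := fun h => hne (Fin.ext (by rw [h]; rfl))
    have h := (allLt_iff _ _).mp kj_moves (u v0).val (u v0).isLt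
    rw [Bool.or_eq_true, beq_iff_eq, List.any_eq_true] at h
    rcases h with h | ⟨c, hc, hcm⟩
    · exact hy h
    · have hk := kG_ok (kjList_sub c hc)
      have hfix : perm 315 c v0 = v0 := KJ_fix hk.2
      have hcomm := hu _ (KJ_le_PJ hk.2)
      have h2 : perm 315 c (u v0) = u v0 := by
        have h3 := congrArg (fun f : Equiv.Perm (Fin 315) => f v0) hcomm
        simp only [Equiv.Perm.mul_apply] at h3
        rw [hfix] at h3
        exact h3.symm
      have h4 := congrArg Fin.val h2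
      rw [perm_apply_val hk.1] at h4
      rw [bne_iff_ne] at hcm
      exact hcm h4
  ext1 p
  obtain ⟨g, hg, rfl⟩ := exists_map p
  have h3 := congrArg (fun f : Equiv.Perm (Fin 315) => f v0) (hu g hg)
  simp only [Equiv.Perm.mul_apply] at h3
  rw [h0] at h3
  exact h3

theorem tauP_not_mem_KJ : tauP ∉ KJ := by
  intro h
  have h1 := inv1.orbmem lv1 [lv2, lv3] rfl hb1 tauP h
  have h2 : (tauP ⟨lv1.b, hb1⟩).val = ap 315 cT 3 := by
    show (perm 315 cT _).val = _
    rw [perm_apply_val cT_valid]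
    rfl
  rw [h2, tau_out] at h1
  exact Bool.false_ne_true h1

theorem tauP_not_mem_PJ : tauP ∉ PJ := by
  intro h
  apply tauP_not_mem_KJ
  rw [← stabP]
  exact Subgroup.mem_inf.mpr ⟨h, mem_stabilizer_iff.mpr tauP_v0⟩

theorem thetaJ_not_inn : thetaJ ∉ Cfsg.Inn ↥PJ := by
  rintro ⟨g, hg⟩
  have hcomm : ∀ x ∈ PJ, (g.1⁻¹ * tauP) * x = x * (g.1⁻¹ * tauP) := by
    intro x hx
    have h1 := congrArg (fun f : MulAut ↥PJ => ((f ⟨x, hx⟩ : ↥PJ) : Equiv.Perm (Fin 315))) hg
    have h2 : g.1 * x * g.1⁻¹ = tauP * x * tauP⁻¹ := h1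
    calc g.1⁻¹ * tauP * x = g.1⁻¹ * (tauP * x * tauP⁻¹) * tauP := by group
      _ = g.1⁻¹ * (g.1 * x * g.1⁻¹) * tauP := by rw [h2]
      _ = x * (g.1⁻¹ * tauP) := by group
  have h3 := centralizer_PJ_trivial hcomm
  apply tauP_not_mem_PJ
  have h4 : tauP = g.1 := by
    rw [inv_mul_eq_one] at h3
    exact h3.symm
  rw [h4]
  exact g.2

/-! ### the normal subgroup of order 32 of the stabiliser -/

/-- the normal subgroup of order 32 of the stabiliser, in `PJ` -/
noncomputable def A32 : Subgroup ↥PJ := psi.ker.map (Subgroup.inclusion KJ_le_PJ)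

theorem A32_pgroup : IsPGroup 2 ↥A32 := by
  have h : IsPGroup 2 ↥psi.ker := IsPGroup.of_card (n := 5) (by rw [card_ker]; norm_num)
  exact h.map _

theorem mem_A32_of_word {a : List ℕ} (ha : a ∈ esE) (hm : prodL 315 a ∈ PJ) :
    (⟨prodL 315 a, hm⟩ : ↥PJ) ∈ A32 := by
  obtain ⟨hg, hψ⟩ := (mem_ker_iff _).mpr ⟨a, ha, rfl⟩
  exact ⟨⟨prodL 315 a, hg⟩, MonoidHom.mem_ker.mpr hψ, rfl⟩

theorem gen0_mem_A32 : gen c0 h0 ∈ A32 :=
  ⟨⟨perm 315 c0, c0_ker.fst⟩, MonoidHom.mem_ker.mpr c0_ker.snd, rfl⟩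

theorem gen0_ne_one : gen c0 h0 ≠ 1 := by
  intro h
  apply gen_noncomm
  rw [h, one_mul, mul_one]

theorem cen_A32 (x : ↥PJ) (hx : ∀ a ∈ A32, x * a = a * x) : x = 1 ∨ x = gen c0 h0 := by
  have hz : x ∈ Subgroup.centralizer {gen c0 h0} := by
    rw [Subgroup.mem_centralizer_singleton_iff]
    exact hx _ gen0_mem_A32
  rw [centralizer_gen0] at hz
  have hK : x.1 ∈ KJ := (stabEquiv ⟨x, hz⟩).2
  obtain ⟨W, hW, hxW, hv⟩ := esKJ_nf hK
  have hq := List.all_eq_true.mp cq_ok W hW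
  have hall : (qGens.all fun a => bimg (W ++ a) == bimg (a ++ W)) = true := by
    rw [List.all_eq_true]
    intro a ha
    rw [beq_iff_eq]
    have haE := qGens_sub a ha
    apply bimg_eq_of_prodL
    · intro c hc
      rcases List.mem_append.mp hc with h | h
      · exact (hv c h).1
      · exact esE_valid haE c h
    · intro c hc
      rcases List.mem_append.mp hc with h | h
      · exact esE_valid haE c h
      · exact (hv c h).1
    · rw [prodL_append, prodL_append, ← hxW]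
      have hm : prodL 315 a ∈ PJ := KJ_le_PJ (esE_mem haE)
      exact congrArg Subtype.val (hx _ (mem_A32_of_word haE hm))
  rw [hall] at hq
  simp only [Bool.not_true, Bool.false_or, Bool.or_eq_true, beq_iff_eq] at hq
  rcases hq with h | h
  · left
    apply Subtype.ext
    rw [hxW, prodL_eq_of_bimg hv aut_nil h, prodL_nil]
    rfl
  · right
    apply Subtype.ext
    rw [hxW, prodL_eq_of_bimg hv (aut_cons aut_nil) h, prodL_c0]
    rfl

/-! ### adjacency in terms of the group -/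

theorem zero_not_nb : (0 : ℕ) ∉ nb gam 0 := by decide +kernel

theorem nb0_iff (w : Fin 315) :
    w.val ∈ nb gam (v0 : Fin 315).val ↔ w ≠ v0 ∧ perm 315 c0 w = w := by
  have h := (allLt_iff _ _).mp fix_c0 w.val w.isLt
  rw [beq_iff_eq] at h
  have h' : ap 315 c0 w.val = w.val ↔ (w.val = 0 ∨ w.val ∈ nb gam 0) := by
    rw [← beq_iff_eq, h, Bool.or_eq_true, beq_iff_eq, List.contains_iff_mem]
  have hp : perm 315 c0 w = w ↔ ap 315 c0 w.val = w.val := by
    rw [Fin.ext_iff, perm_apply_val (valid_top h0)]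
  have hne : w ≠ v0 ↔ w.val ≠ 0 := by
    rw [Ne, Fin.ext_iff, v0_val]
  rw [v0_val, hp, hne, h']
  constructor
  · intro hw
    refine ⟨fun h0 => zero_not_nb (h0 ▸ hw), Or.inr hw⟩
  · rintro ⟨h1, h2 | h2⟩
    · exact absurd h2 h1
    · exact h2

theorem adj_iff (h : ↥PJ) (y : Fin 315) :
    y.val ∈ nb gam (h • v0 : Fin 315).val ↔ y ≠ h • v0 ∧ (h * gen c0 h0 * h⁻¹) • y = y := by
  have e1 : ∀ (f : Equiv.Perm (Fin 315)) x, f (f⁻¹ x) = x := fun f x => f.apply_symm_apply x
  have e2 : ∀ (f : Equiv.Perm (Fin 315)) x, f⁻¹ (f x) = x := fun f x => f.symm_apply_apply x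
  have haut : IsAut 315 gam h.1 := PJ_le_aut h.2
  have h1 := haut v0 (h.1⁻¹ y)
  rw [e1] at h1
  show y.val ∈ nb gam (h.1 v0).val ↔ y ≠ h.1 v0 ∧ h.1 (perm 315 c0 (h.1⁻¹ y)) = y
  rw [← h1, nb0_iff]
  constructor
  · rintro ⟨ha, hb⟩
    refine ⟨fun hy => ha ?_, ?_⟩
    · rw [hy, e2]
    · rw [hb, e1]
  · rintro ⟨ha, hb⟩
    refine ⟨fun hy => ha ?_, ?_⟩
    · rw [← hy, e1]
    · have h2 := congrArg (fun t => h.1⁻¹ t) hb
      simp only [e2] at h2
      exact h2

end Cfsg.Agent.Lib.Helper14.J2
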