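import Cfsg.Agent.Lib.Helper14.J2OutD

set_option autoImplicit false
set_option linter.style.haveILetI false

/-!
The outer automorphism group of the Hall–Janko group has order 2: every automorphism of the
permutation group on 315 points is inner or becomes inner after the outer involution.
-/

namespace Cfsg.Agent.Lib.Helper14.J2

open Cfsg.Agent.Lib.Helper10.SW MulAction

attribute [local irreducible] perm

theorem aut_cases (φ : MulAut ↥PJ) : φ ∈ Cfsg.Inn ↥PJ ∨ thetaJ * φ ∈ Cfsg.Inn ↥PJ := by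
  obtain ⟨g, hg⟩ := exists_conj_of_two_central A32 A32_pgroup (gen c0 h0) gen0_ne_one
    gen0_mem_A32 cen_A32 φ
  obtain ⟨φ1, hφ1⟩ : ∃ φ1 : MulAut ↥PJ, φ1 = (MulAut.conj g)⁻¹ * φ := ⟨_, rfl⟩
  have hφ : φ = MulAut.conj g * φ1 := by rw [hφ1, mul_inv_cancel_left]
  have hz1 : φ1 (gen c0 h0) = gen c0 h0 := by
    rw [hφ1, MulAut.mul_apply, hg, MulAut.conj_inv_apply]
    group
  have hstab : ∀ k : ↥PJ, k • v0 = v0 ↔ φ1 k • v0 = v0 := by
    intro k
    rw [← mem_stabilizer_iff, ← mem_stabilizer_iff, ← centralizer_gen0,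
      Subgroup.mem_centralizer_singleton_iff, Subgroup.mem_centralizer_singleton_iff]
    constructor
    · intro h
      have h2 := congrArg φ1 h
      rwa [map_mul, map_mul, hz1] at h2
    · intro h
      apply φ1.injective
      rwa [map_mul, map_mul, hz1]
  haveI := pretransitive_PJ
  obtain ⟨π, hπ0, hπ⟩ := exists_perm_of_aut v0 φ1 hstab
  have hπaut : π ∈ autGroup 315 gam := by
    intro x y
    obtain ⟨h, hh, rfl⟩ := exists_map x
    obtain ⟨k, hk⟩ : ∃ k : ↥PJ, k = ⟨h, hh⟩ := ⟨_, rfl⟩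
    have hx : (h • v0 : Fin 315) = k • v0 := by rw [hk]; rfl
    have hconj : φ1 k * gen c0 h0 * (φ1 k)⁻¹ = φ1 (k * gen c0 h0 * k⁻¹) := by
      rw [map_mul, map_mul, map_inv, hz1]
    have hx2 : π (k • v0) = φ1 k • v0 := by rw [hπ, hπ0]
    rw [hx, adj_iff k y, hx2, adj_iff (φ1 k) (π y), hconj, ← hπ, ← hx2]
    constructor
    · rintro ⟨ha, hb⟩
      exact ⟨fun hy => ha (π.injective hy), by rw [hb]⟩
    · rintro ⟨ha, hb⟩
      exact ⟨fun hy => ha (by rw [hy]), π.injective hb⟩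
  -- the automorphism as a conjugation
  have hperm : ∀ g' : ↥PJ, ((φ1 g' : ↥PJ) : Equiv.Perm (Fin 315)) = π * g'.1 * π⁻¹ := by
    intro g'
    ext1 p
    have h1 := hπ g' (π⁻¹ p)
    have e1 : π (π⁻¹ p) = p := π.apply_symm_apply p
    rw [e1] at h1
    rw [Equiv.Perm.mul_apply, Equiv.Perm.mul_apply]
    exact h1.symm
  rcases stab_structure hπaut hπ0 with hK | hK
  · left
    refine ⟨g * ⟨π, KJ_le_PJ hK⟩, ?_⟩
    rw [hφ, map_mul]
    congr 1
    ext1 g'
    apply Subtype.ext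
    rw [hperm]
    rfl
  · right
    refine ⟨thetaJ g * ⟨tauP * π, KJ_le_PJ hK⟩, ?_⟩
    rw [map_mul]
    ext1 g'
    apply Subtype.ext
    rw [hφ]
    show ((thetaJ g * ⟨tauP * π, KJ_le_PJ hK⟩ * g' * (⟨tauP * π, KJ_le_PJ hK⟩ : ↥PJ)⁻¹ *
      (thetaJ g)⁻¹ : ↥PJ) : Equiv.Perm (Fin 315)) = (thetaJ (g * φ1 g' * g⁻¹) : ↥PJ)
    rw [map_mul, map_mul, map_inv]
    simp only [Subgroup.coe_mul, Subgroup.coe_inv]
    rw [thetaJ_apply (φ1 g'), hperm]
    group

/-- the outer automorphism group of the permutation group has order 2 -/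
theorem card_out_PJ : Nat.card (Cfsg.Out ↥PJ) = 2 :=
  Cfsg.Agent.Lib.Helper3.OutAut.card_out_eq_two thetaJ thetaJ_not_inn aut_cases

/-- the outer automorphism groups of isomorphic groups have the same order -/
theorem card_out_equiv {G H : Type*} [Group G] [Group H] (e : G ≃* H) :
    Nat.card (Cfsg.Out G) = Nat.card (Cfsg.Out H) := by
  have hmap : (Cfsg.Inn G).map (MulAut.congr e).toMonoidHom = Cfsg.Inn H := by
    ext φ
    constructor
    · rintro ⟨_, ⟨g, rfl⟩, rfl⟩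
      refine ⟨e g, ?_⟩
      ext x
      simp [MulAut.congr, MulAut.conj_apply]
    · rintro ⟨h, rfl⟩
      refine ⟨MulAut.conj (e.symm h), ⟨e.symm h, rfl⟩, ?_⟩
      ext x
      simp [MulAut.congr, MulAut.conj_apply]
  exact Nat.card_congr (QuotientGroup.congr (Cfsg.Inn G) (Cfsg.Inn H) (MulAut.congr e) hmap).toEquiv

/-- the outer automorphism group of the Hall–Janko group has order 2 -/
theorem card_out_J2 : Nat.card (Cfsg.Out Cfsg.Spor.J2) = 2 := by
  rw [card_out_equiv j2Equiv]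
  exact card_out_PJ

end Cfsg.Agent.Lib.Helper14.J2
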