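import Cfsg.Agent.Lib.Helper14.J2O
import Cfsg.Agent.Lib.Helper14.J2F

set_option autoImplicit false

/-!
Icosian model, part P: uniqueness of the normalized representative; reflections do not change
under unit multiples; counting minimal vectors and reflections.
-/

namespace Cfsg.Agent.Lib.Helper14.J2

open Quaternion Cfsg.Spor ZQ V3

theorem qipZ_conj (v w : V3) : conj (qipZ v w) = qipZ w v := by
  unfold qipZ
  rw [conj_add, conj_add, conj_mulR, conj_mulR, conj_mulR, conj_conj, conj_conj, conj_conj]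

theorem star_mul_of_mul_star {c : ℍ[ℝ]} (hc : c * star c = 1) : star c * c = 1 := by
  rw [Quaternion.star_mul_self, ← Quaternion.self_mul_star, hc]

theorem lsm_apply (c : ℍ[ℝ]) (x : Fin 3 → ℍ[ℝ]) (t : Fin 3) : lsm c x t = c * x t := rfl

theorem toH_sixteen : toH ⟨16, 0, 0, 0, 0, 0, 0, 0⟩ = (2 : ℝ) • (4 : ℍ[ℝ]) := by
  have h : (4 : ℍ[ℝ]) = ((4 : ℝ) : ℍ[ℝ]) := by norm_cast
  rw [h]
  ext <;> simp <;> norm_num

theorem propB_of_prop {w w' : V3} (hM' : IsMinV w') {c : ℍ[ℝ]} (hc : c * star c = 1)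
    (h : toV w = lsm c (toV w')) : propB w w' = true := by
  have h0 : toH w.x = c * toH w'.x := congrFun h 0
  have h1 : toH w.y = c * toH w'.y := congrFun h 1
  have h2 : toH w.z = c * toH w'.z := congrFun h 2
  obtain ⟨a0, b0⟩ := norm_eq_of_unit_mul hc h0
  obtain ⟨a1, b1⟩ := norm_eq_of_unit_mul hc h1
  obtain ⟨a2, b2⟩ := norm_eq_of_unit_mul hc h2
  have e : (1 / 2 : ℝ) • toH (qipZ w w') = c * 4 := by
    rw [← qip_toV, h, qip_lsm_left, (qip_toV_eq_four_iff w').mpr hM']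
  have e2 : toH (qipZ w w') = c * toH ⟨16, 0, 0, 0, 0, 0, 0, 0⟩ := by
    have : toH (qipZ w w') = (2 : ℝ) • ((1 / 2 : ℝ) • toH (qipZ w w')) := by
      rw [smul_smul]; norm_num
    rw [this, e, toH_sixteen, mul_smul_comm]
  obtain ⟨a3, b3⟩ := norm_eq_of_unit_mul hc e2
  unfold propB
  rw [Bool.and_eq_true, Bool.and_eq_true, decide_eq_true_eq, decide_eq_true_eq, decide_eq_true_eq]
  refine ⟨?_, ?_, ?_⟩
  · unfold prof
    rw [a0, b0, a1, b1, a2, b2]
  · rw [a3]; decide
  · rw [b3]; decide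

/-- proportional normalized vectors are equal -/
theorem norm_unique {w w' : V3} (hw : w ∈ normLit) (hw' : w' ∈ normLit) {c : ℍ[ℝ]}
    (hc : c * star c = 1) (h : toV w = lsm c (toV w')) : w = w' := by
  by_contra hne
  have hc' := star_mul_of_mul_star hc
  have h' : toV w' = lsm (star c) (toV w) := by
    rw [h, lsm_lsm, hc', lsm_one]
  have p1 := propB_of_prop (normLit_ok w' hw').2 hc h
  have p2 := propB_of_prop (normLit_ok w hw).2 (by rw [star_star]; exact hc') h'
  rcases pairOK_sound _ normLit normLit_noprop w hw w' hw' hne with q | q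
  · simp only [p1, Bool.not_true] at q
    exact absurd q (by decide)
  · simp only [p2, Bool.not_true] at q
    exact absurd q (by decide)

/-- the reflection does not change under unit multiples -/
theorem qrefl_lsm_unit {U : ℍ[ℝ]} (hU : star U * U = 1) (r x : Fin 3 → ℍ[ℝ]) :
    qrefl (lsm U r) x = qrefl r x := by
  rw [qrefl_eq, qrefl_eq, qip_lsm_right, lsm_lsm, ← smul_mul_assoc, mul_assoc, hU, mul_one]

theorem qip_lsm_unit {U : ℍ[ℝ]} (hU : U * star U = 1) {r : Fin 3 → ℍ[ℝ]} (hr : qip r r = 4) :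
    qip (lsm U r) (lsm U r) = 4 := by
  rw [qip_lsm_left, qip_lsm_right, hr, show (4 : ℍ[ℝ]) = ((4 : ℝ) : ℍ[ℝ]) by norm_cast,
    Quaternion.coe_mul_eq_smul, mul_smul_comm, hU]
  ext <;> simp

/-- a vector sent to its negative by a reflection is proportional to the root -/
theorem prop_of_qrefl_eq_neg {v v' : Fin 3 → ℍ[ℝ]} (hv : qip v v = 4) (hv' : qip v' v' = 4)
    (h : qrefl v' v = -v) : ∃ c : ℍ[ℝ], c * star c = 1 ∧ v = lsm c v' := by
  have e : v = lsm ((1 / 4 : ℝ) • qip v v') v' := by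
    rw [qrefl_eq] at h
    have h2 : lsm ((1 / 2 : ℝ) • qip v v') v' = v + v := by
      have := congrArg (fun y => v - y) h
      simp only [sub_sub_cancel, sub_neg_eq_add] at this
      exact this
    funext t
    have h3 := congrFun h2 t
    simp only [lsm_apply, Pi.add_apply] at h3 ⊢
    have : ((1 / 4 : ℝ) • qip v v') * v' t = (1 / 2 : ℝ) • (((1 / 2 : ℝ) • qip v v') * v' t) := by
      rw [smul_mul_assoc, smul_mul_assoc, smul_smul]; norm_num
    rw [this, h3, ← two_smul ℝ (v t), smul_smul]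
    norm_num
  refine ⟨(1 / 4 : ℝ) • qip v v', ?_, e⟩
  have h4 : qip v v = ((1 / 4 : ℝ) • qip v v') * 4 * star ((1 / 4 : ℝ) • qip v v') := by
    conv_lhs => rw [e]
    rw [qip_lsm_left, qip_lsm_right, hv', mul_assoc]
  rw [hv, show (4 : ℍ[ℝ]) = ((4 : ℝ) : ℍ[ℝ]) by norm_cast, Quaternion.mul_coe_eq_smul,
    smul_mul_assoc] at h4
  have h5 : ((4 : ℝ) : ℍ[ℝ]) = (4 : ℝ) • (1 : ℍ[ℝ]) := by ext <;> simp
  rw [h5] at h4
  exact (smul_right_injective ℍ[ℝ] (by norm_num : (4 : ℝ) ≠ 0) h4).symm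

end Cfsg.Agent.Lib.Helper14.J2
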