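import Cfsg.Agent.Lib.Helper14.J2P

set_option autoImplicit false

/-!
Icosian model, part Q: the 120 units, the 37800 minimal vectors, the 315 reflections.
-/

namespace Cfsg.Agent.Lib.Helper14.J2

open Quaternion Cfsg.Spor ZQ V3

/-- the 120 units -/
def unitsL : List ZQ := (T4.map (fun e => e.1)).filter (fun p => decide (gB p = 0))

set_option maxRecDepth 1000000 in
theorem unitsL_length : unitsL.length = 120 := by decide +kernel

set_option maxRecDepth 1000000 in
theorem unitsL_nodup : unitsL.Nodup := by decide +kernel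

set_option maxRecDepth 1000000 in
theorem unitsL_ok : ∀ u ∈ unitsL, IsUnitZ u := by decide +kernel

theorem mem_unitsL {u : ZQ} (hu : IsUnitZ u) : u ∈ unitsL := by
  obtain ⟨hp, hs, hg⟩ := hu
  unfold unitsL
  rw [List.mem_filter, ← W4_eq]
  exact ⟨mem_W (by norm_num) hp (by exact_mod_cast hs), by simpa using hg⟩

theorem toV_mem {w : V3} (hw : w ∈ normLit) : toV w ∈ icoLeech :=
  (mem_icoLeech_iff _).mpr ⟨w, (normLit_ok w hw).1, rfl⟩

theorem toV_min {w : V3} (hw : w ∈ normLit) : qip (toV w) (toV w) = 4 :=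
  (qip_toV_eq_four_iff w).mpr (normLit_ok w hw).2

/-- the reflection of a model vector (the identity if it is not a minimal lattice vector) -/
noncomputable def refl (w : V3) : Equiv.Perm icoLeech :=
  if h : InL w ∧ IsMinV w then
    reflPerm ⟨toV w, (mem_icoLeech_iff _).mpr ⟨w, h.1, rfl⟩⟩ ((qip_toV_eq_four_iff w).mpr h.2)
  else 1

theorem refl_apply {w : V3} (h : InL w ∧ IsMinV w) (x : icoLeech) :
    ((refl w x : icoLeech) : Fin 3 → ℍ[ℝ]) = qrefl (toV w) x := by
  unfold refl
  rw [dif_pos h]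
  rfl

theorem refl_eq {w : V3} (h : InL w ∧ IsMinV w) :
    refl w = reflPerm ⟨toV w, (mem_icoLeech_iff _).mpr ⟨w, h.1, rfl⟩⟩
      ((qip_toV_eq_four_iff w).mpr h.2) := by
  unfold refl
  rw [dif_pos h]

theorem isIcoReflection_refl {w : V3} (hw : w ∈ normLit) : IsIcoReflection (refl w) := by
  rw [refl_eq (normLit_ok w hw)]
  exact isIcoReflection_reflPerm _ _

/-- every reflection is the reflection of a normalized vector -/
theorem exists_refl_eq (r : icoLeech) (hr : qip (r : Fin 3 → ℍ[ℝ]) r = 4) :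
    ∃ w ∈ normLit, reflPerm r hr = refl w := by
  obtain ⟨u, w, hu, hw, e⟩ := exists_norm_rep r.2 hr
  refine ⟨w, hw, ?_⟩
  ext1 x
  apply Subtype.ext
  rw [reflPerm_apply, refl_apply (normLit_ok w hw), e, qrefl_lsm_unit (toH_unit' hu)]

theorem isIcoReflection_iff_refl (f : Equiv.Perm icoLeech) :
    IsIcoReflection f ↔ ∃ w ∈ normLit, f = refl w := by
  constructor
  · intro hf
    obtain ⟨r, hr, rfl⟩ := (isIcoReflection_iff f).mp hf
    exact exists_refl_eq r hr
  · rintro ⟨w, hw, rfl⟩
    exact isIcoReflection_refl hw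

theorem qrefl_self {v : Fin 3 → ℍ[ℝ]} (hv : qip v v = 4) : qrefl v v = -v := by
  rw [qrefl_eq, hv]
  funext t
  simp only [Pi.sub_apply, lsm_apply, Pi.neg_apply]
  have : ((1 / 2 : ℝ) • (4 : ℍ[ℝ])) = 2 := by
    rw [show (4 : ℍ[ℝ]) = ((4 : ℝ) : ℍ[ℝ]) by norm_cast, show (2 : ℍ[ℝ]) = ((2 : ℝ) : ℍ[ℝ]) by norm_cast]
    ext <;> simp <;> norm_num
  rw [this, two_mul]
  abel

/-- distinct normalized vectors have distinct reflections -/
theorem refl_injOn {w w' : V3} (hw : w ∈ normLit) (hw' : w' ∈ normLit) (h : refl w = refl w') :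
    w = w' := by
  have h1 := refl_apply (normLit_ok w hw) ⟨toV w, toV_mem hw⟩
  have h2 := refl_apply (normLit_ok w' hw') ⟨toV w, toV_mem hw⟩
  rw [h] at h1
  rw [h1] at h2
  simp only at h2
  rw [qrefl_self (toV_min hw)] at h2
  obtain ⟨c, hc, e⟩ := prop_of_qrefl_eq_neg (toV_min hw) (toV_min hw') h2.symm
  exact norm_unique hw hw' hc e

/-- there are 315 reflections -/
theorem ncard_reflections : {f : Equiv.Perm icoLeech | IsIcoReflection f}.ncard = 315 := by
  have e : {f : Equiv.Perm icoLeech | IsIcoReflection f} = refl '' (↑normLit.toFinset : Set V3) := by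
    ext f
    rw [Set.mem_ofPred_eq, isIcoReflection_iff_refl]
    constructor
    · rintro ⟨w, hw, rfl⟩
      exact ⟨w, by simpa using hw, rfl⟩
    · rintro ⟨w, hw, rfl⟩
      exact ⟨w, by simpa using hw, rfl⟩
  rw [e, Set.InjOn.ncard_image, Set.ncard_coe_finset, List.toFinset_card_of_nodup normLit_nodup,
    normLit_length]
  intro w hw w' hw' h
  exact refl_injOn (by simpa using hw) (by simpa using hw') h

theorem toV_ne_zero {w : V3} (hM : IsMinV w) : ∃ t, toV w t ≠ 0 := by
  by_contra hcon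
  rw [not_exists] at hcon
  have h0 : toV w = 0 := by
    funext t
    have := hcon t
    rw [not_not] at this
    exact this
  have := (qip_toV_eq_four_iff w).mpr hM
  rw [h0] at this
  unfold qip at this
  simp only [Pi.zero_apply, zero_mul, Finset.sum_const_zero] at this
  rw [four_eq_mk] at this
  have h1 := congrArg (fun y : ℍ[ℝ] => y.re) this
  simp only [Quaternion.re_zero] at h1
  norm_num at h1

set_option linter.constructorNameAsVariable false in
/-- there are 37800 minimal vectors -/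
theorem ncard_minimal :
    {r : Fin 3 → ℍ[ℝ] | r ∈ icoLeech ∧ qip r r = 4}.ncard = 37800 := by
  let F : ZQ × V3 → (Fin 3 → ℍ[ℝ]) := fun p => lsm (toH p.1) (toV p.2)
  have e : {r : Fin 3 → ℍ[ℝ] | r ∈ icoLeech ∧ qip r r = 4} =
      F '' (↑(unitsL.toFinset ×ˢ normLit.toFinset) : Set (ZQ × V3)) := by
    ext r
    rw [Set.mem_ofPred_eq]
    constructor
    · rintro ⟨hr, hm⟩
      obtain ⟨u, w, hu, hw, e⟩ := exists_norm_rep hr hm
      refine ⟨(u, w), ?_, e.symm⟩
      simp only [Finset.coe_product, Set.mem_prod, Finset.mem_coe, List.mem_toFinset]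
      exact ⟨mem_unitsL hu, hw⟩
    · rintro ⟨⟨u, w⟩, hmem, rfl⟩
      simp only [Finset.coe_product, Set.mem_prod, Finset.mem_coe, List.mem_toFinset] at hmem
      obtain ⟨hu, hw⟩ := hmem
      have hu' := unitsL_ok u hu
      exact ⟨icoLeech_lsm (toH_unit_mem hu') (toV_mem hw), qip_lsm_unit (toH_unit hu') (toV_min hw)⟩
  rw [e, Set.InjOn.ncard_image, Set.ncard_coe_finset, Finset.card_product,
    List.toFinset_card_of_nodup normLit_nodup, List.toFinset_card_of_nodup unitsL_nodup,
    normLit_length, unitsL_length]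
  rintro ⟨u, w⟩ hmem ⟨u', w'⟩ hmem' h
  simp only [Finset.coe_product, Set.mem_prod, Finset.mem_coe, List.mem_toFinset] at hmem hmem'
  obtain ⟨hu, hw⟩ := hmem
  obtain ⟨hu', hw'⟩ := hmem'
  have hU := unitsL_ok u hu
  have hU' := unitsL_ok u' hu'
  have h' : lsm (toH u) (toV w) = lsm (toH u') (toV w') := h
  have e1 : toV w = lsm (star (toH u) * toH u') (toV w') := by
    rw [← lsm_lsm, ← h', lsm_lsm, toH_unit' hU, lsm_one]
  have hc : (star (toH u) * toH u') * star (star (toH u) * toH u') = 1 := by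
    rw [star_mul, star_star, mul_assoc, ← mul_assoc (toH u'), toH_unit hU', one_mul, toH_unit' hU]
  have hww : w = w' := norm_unique hw hw' hc e1
  subst hww
  obtain ⟨t, ht⟩ := toV_ne_zero (normLit_ok w hw).2
  have h3 := congrFun h' t
  simp only [lsm_apply] at h3
  have h4 : toH u = toH u' := mul_right_cancel₀ ht h3
  rw [toH_injective h4]

end Cfsg.Agent.Lib.Helper14.J2
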