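import Cfsg.Agent.Lib.Helper14.J2Q

set_option autoImplicit false

/-!
Icosian model, part R: the negation map is a product of three reflections; the centre of `twoJ2`
is `{1, -1}`.
-/

namespace Cfsg.Agent.Lib.Helper14.J2

open Quaternion Cfsg.Spor ZQ V3

/-- the negation map on the lattice -/
noncomputable def negPerm : Equiv.Perm icoLeech where
  toFun x := ⟨-x, icoLeech_neg x.2⟩
  invFun x := ⟨-x, icoLeech_neg x.2⟩
  left_inv x := Subtype.ext (neg_neg _)
  right_inv x := Subtype.ext (neg_neg _)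

theorem negPerm_apply (x : icoLeech) : ((negPerm x : icoLeech) : Fin 3 → ℍ[ℝ]) = -x := rfl

/-- the three coordinate vectors -/
def e0 : V3 := ⟨two', 0, 0⟩
/-- the three coordinate vectors -/
def e1 : V3 := ⟨0, two', 0⟩
/-- the three coordinate vectors -/
def e2 : V3 := ⟨0, 0, two'⟩

theorem e0_mem : e0 ∈ normLit := by decide
theorem e1_mem : e1 ∈ normLit := by decide
theorem e2_mem : e2 ∈ normLit := by decide

theorem toH_two' : toH two' = 2 := by
  rw [two_eq_mk]
  ext <;> simp [two'] <;> norm_num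

theorem toV_e0 : toV e0 = ![2, 0, 0] := by
  unfold toV e0
  simp only [toH_two', toH_zero]

theorem toV_e1 : toV e1 = ![0, 2, 0] := by
  unfold toV e1
  simp only [toH_two', toH_zero]

theorem toV_e2 : toV e2 = ![0, 0, 2] := by
  unfold toV e2
  simp only [toH_two', toH_zero]

theorem two_eq_coe : (2 : ℍ[ℝ]) = ((2 : ℝ) : ℍ[ℝ]) := by norm_cast

theorem star_two : star (2 : ℍ[ℝ]) = 2 := by
  rw [two_eq_coe, Quaternion.star_coe]

theorem half_mul_two (a : ℍ[ℝ]) : ((1 / 2 : ℝ) • (a * 2)) * 2 = a * 2 := by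
  rw [mul_two_eq, mul_two_eq, smul_smul]
  norm_num

theorem qrefl_e0 (x : Fin 3 → ℍ[ℝ]) : qrefl (toV e0) x = ![-x 0, x 1, x 2] := by
  rw [toV_e0]
  funext t
  unfold qrefl qip
  rw [Fin.sum_univ_three]
  fin_cases t
  · simp only [Fin.zero_eta, Matrix.cons_val_zero, Matrix.cons_val_one, Matrix.cons_val_two,
      Matrix.tail_cons, Matrix.head_cons, star_zero, mul_zero, add_zero, star_two]
    rw [half_mul_two, mul_two]
    abel
  · simp
  · simp

theorem qrefl_e1 (x : Fin 3 → ℍ[ℝ]) : qrefl (toV e1) x = ![x 0, -x 1, x 2] := by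
  rw [toV_e1]
  funext t
  unfold qrefl qip
  rw [Fin.sum_univ_three]
  fin_cases t
  · simp
  · simp only [Fin.mk_one, Matrix.cons_val_zero, Matrix.cons_val_one, Matrix.cons_val_two,
      Matrix.tail_cons, Matrix.head_cons, star_zero, mul_zero, add_zero, zero_add, star_two]
    rw [half_mul_two, mul_two]
    abel
  · simp

theorem qrefl_e2 (x : Fin 3 → ℍ[ℝ]) : qrefl (toV e2) x = ![x 0, x 1, -x 2] := by
  rw [toV_e2]
  funext t
  unfold qrefl qip
  rw [Fin.sum_univ_three]
  fin_cases t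
  · simp
  · simp
  · simp only [Fin.reduceFinMk, Matrix.cons_val_zero, Matrix.cons_val_one, Matrix.cons_val_two,
      Matrix.tail_cons, Matrix.head_cons, star_zero, mul_zero, add_zero, zero_add, star_two]
    rw [half_mul_two, mul_two]
    abel

theorem negPerm_eq : negPerm = refl e0 * refl e1 * refl e2 := by
  ext1 x
  apply Subtype.ext
  rw [Equiv.Perm.mul_apply, Equiv.Perm.mul_apply, refl_apply (normLit_ok e0 e0_mem),
    refl_apply (normLit_ok e1 e1_mem), refl_apply (normLit_ok e2 e2_mem), negPerm_apply,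
    qrefl_e2, qrefl_e1, qrefl_e0]
  funext t
  fin_cases t <;> simp

theorem refl_mem_twoJ2 {w : V3} (hw : w ∈ normLit) : refl w ∈ twoJ2 :=
  Subgroup.subset_closure (isIcoReflection_refl hw)

theorem negPerm_mem : negPerm ∈ twoJ2 := by
  rw [negPerm_eq]
  exact twoJ2.mul_mem (twoJ2.mul_mem (refl_mem_twoJ2 e0_mem) (refl_mem_twoJ2 e1_mem))
    (refl_mem_twoJ2 e2_mem)

theorem negPerm_ne_one : negPerm ≠ 1 := by
  intro h
  have h1 := congrArg (fun f : Equiv.Perm icoLeech => ((f ⟨toV e0, toV_mem e0_mem⟩ : icoLeech) :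
    Fin 3 → ℍ[ℝ]) 0) h
  simp only [negPerm_apply, Equiv.Perm.coe_one, id_eq, Pi.neg_apply] at h1
  rw [toV_e0] at h1
  simp only [Matrix.cons_val_zero] at h1
  rw [two_eq_coe] at h1
  have h2 := congrArg (fun y : ℍ[ℝ] => y.re) h1
  simp only [Quaternion.re_neg, Quaternion.re_coe] at h2
  linarith

/-- the negation commutes with every element of `twoJ2` -/
theorem negPerm_comm {g : Equiv.Perm icoLeech} (hg : g ∈ twoJ2) : g * negPerm = negPerm * g := by
  obtain ⟨L, L', h1, h2, h3, h4, h5, h6⟩ := ext_of_mem_twoJ2 hg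
  ext1 x
  apply Subtype.ext
  rw [Equiv.Perm.mul_apply, Equiv.Perm.mul_apply, h5, negPerm_apply, negPerm_apply, h1.neg, h5]

end Cfsg.Agent.Lib.Helper14.J2
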