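import Mathlib
import Cfsg.Agent.Lib.Helper14.J2OrdA0

/-!
helper14: S1721 / S5382 (groups with the involution centralizer of the Hall–Janko group), part A0:
further decidable facts about the alternating group of degree 5 inside `Perm (Fin 5)`.
-/

set_option autoImplicit false
set_option maxRecDepth 1000000

namespace Cfsg.Agent.Lib.Helper14.J2Rec

open Equiv Cfsg.Agent.Lib.Helper14.J2Ord

/-- every involution of `A₅` inverts an element of order 5 -/
theorem inv5_inverts : ∀ σ ∈ inv5, ∃ τ : Perm (Fin 5), Perm.sign τ = 1 ∧ τ ^ 5 = 1 ∧ τ ≠ 1 ∧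
    σ * τ * σ = τ⁻¹ := by
  decide

/-- the centralizer in `A₅` of an involution has order 4 -/
theorem inv5_cent_card : ∀ σ ∈ inv5,
    (Finset.univ.filter (fun τ : Perm (Fin 5) => Perm.sign τ = 1 ∧ τ * σ = σ * τ)).card = 4 := by
  decide

/-- the centralizer in `A₅` of an involution has exponent 2 -/
theorem inv5_cent_sq : ∀ σ ∈ inv5, ∀ τ : Perm (Fin 5), Perm.sign τ = 1 → τ * σ = σ * τ →
    τ * τ = 1 := by
  decide

/-- a nontrivial permutation of degree 5 commutes with at most 6 even permutations -/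
theorem cent_le_six : ∀ σ : Perm (Fin 5), σ ≠ 1 →
    (Finset.univ.filter (fun τ : Perm (Fin 5) => Perm.sign τ = 1 ∧ σ * τ = τ * σ)).card ≤ 6 := by
  decide

/-- all involutions of `A₅` are conjugate -/
theorem inv5_conj : ∀ σ ∈ inv5, ∀ τ ∈ inv5, ∃ ρ : Perm (Fin 5), Perm.sign ρ = 1 ∧
    ρ * σ * ρ⁻¹ = τ := by
  decide

end Cfsg.Agent.Lib.Helper14.J2Rec
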