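import Mathlib
import Cfsg.Agent.S2119
import Cfsg.Agent.Lib.Helper14.J2OrdA
import Cfsg.Agent.Lib.Helper14.J2OrdB
import Cfsg.Agent.Lib.Helper14.J2RecA0

/-!
helper14: S1721 / S5382, part A: facts about a group `B` isomorphic to `alternatingGroup (Fin 5)`:
involutions invert elements of order 5, centralizers of involutions, automorphisms.
-/

set_option autoImplicit false

namespace Cfsg.Agent.Lib.Helper14.J2Rec

open Equiv Cfsg.Agent.Lib.Helper14.J2Ord

section iso

variable {B : Type*} [Group B] (e : B ≃* alternatingGroup (Fin 5))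

theorem toPerm5_sign (b : B) : Perm.sign (toPerm5 e b) = 1 :=
  Equiv.Perm.mem_alternatingGroup.mp (toPerm5_mem e b)

theorem exists_toPerm5' (σ : Perm (Fin 5)) (hσ : Perm.sign σ = 1) :
    ∃ b : B, toPerm5 e b = σ :=
  exists_toPerm5 e σ (Equiv.Perm.mem_alternatingGroup.mpr hσ)

include e in
/-- every involution inverts an element of order 5 -/
theorem exists_inverted_five (b : B) (hb2 : b * b = 1) (hb1 : b ≠ 1) :
    ∃ y : B, orderOf y = 5 ∧ b * y * b⁻¹ = y⁻¹ := by
  have hσ : toPerm5 e b ∈ inv5 := (toPerm5_invol_iff e b).mpr ⟨hb2, hb1⟩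
  obtain ⟨τ, hτs, hτ5, hτ1, hτ⟩ := inv5_inverts _ hσ
  obtain ⟨y, hy⟩ := exists_toPerm5' e τ hτs
  have hbi : b⁻¹ = b := inv_eq_of_mul_eq_one_right hb2
  refine ⟨y, ?_, ?_⟩
  · haveI : Fact (Nat.Prime 5) := ⟨by norm_num⟩
    apply orderOf_eq_prime
    · apply toPerm5_injective e
      rw [map_pow, hy, hτ5, map_one]
    · intro h
      apply hτ1
      rw [← hy, h, map_one]
  · apply toPerm5_injective e
    rw [hbi, map_mul, map_mul, map_inv, hy]
    exact hτ

include e in
/-- the centralizer of an involution has order 4 -/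
theorem card_cent_invol (b : B) (hb2 : b * b = 1) (hb1 : b ≠ 1) :
    Nat.card {x : B // x * b = b * x} = 4 := by
  classical
  have hσ : toPerm5 e b ∈ inv5 := (toPerm5_invol_iff e b).mpr ⟨hb2, hb1⟩
  rw [← inv5_cent_card _ hσ]
  have hmem : ∀ x : B, x * b = b * x ↔ toPerm5 e x ∈
      Finset.univ.filter (fun τ : Perm (Fin 5) => Perm.sign τ = 1 ∧
        τ * toPerm5 e b = toPerm5 e b * τ) := by
    intro x
    rw [Finset.mem_filter]
    constructor
    · intro h
      refine ⟨Finset.mem_univ _, toPerm5_sign e x, ?_⟩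
      rw [← map_mul, ← map_mul, h]
    · rintro ⟨-, -, h⟩
      apply toPerm5_injective e
      rw [map_mul, map_mul, h]
  have hbij : Function.Bijective (fun x : {x : B // x * b = b * x} =>
      (⟨toPerm5 e x.1, (hmem x.1).mp x.2⟩ : {τ : Perm (Fin 5) // τ ∈
        Finset.univ.filter (fun τ : Perm (Fin 5) => Perm.sign τ = 1 ∧
          τ * toPerm5 e b = toPerm5 e b * τ)})) := by
    constructor
    · intro x y h
      have h1 : toPerm5 e x.1 = toPerm5 e y.1 :=
        congrArg (fun w : {τ : Perm (Fin 5) // τ ∈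
          Finset.univ.filter (fun τ : Perm (Fin 5) => Perm.sign τ = 1 ∧
            τ * toPerm5 e b = toPerm5 e b * τ)} => w.1) h
      exact Subtype.ext (toPerm5_injective e h1)
    · rintro ⟨τ, hτ⟩
      have hτ' := hτ
      rw [Finset.mem_filter] at hτ'
      obtain ⟨x, hx⟩ := exists_toPerm5' e τ hτ'.2.1
      refine ⟨⟨x, (hmem x).mpr (hx ▸ hτ)⟩, ?_⟩
      apply Subtype.ext
      exact hx
  rw [Nat.card_congr (Equiv.ofBijective _ hbij), Nat.card_eq_fintype_card, Fintype.card_coe]

include e in
/-- the centralizer of an involution has exponent 2 -/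
theorem sq_of_comm_invol (b : B) (hb2 : b * b = 1) (hb1 : b ≠ 1) (x : B) (hx : x * b = b * x) :
    x * x = 1 := by
  have hσ : toPerm5 e b ∈ inv5 := (toPerm5_invol_iff e b).mpr ⟨hb2, hb1⟩
  apply toPerm5_injective e
  rw [map_mul, map_one]
  apply inv5_cent_sq _ hσ _ (toPerm5_sign e x)
  rw [← map_mul, ← map_mul, hx]

include e in
/-- all involutions are conjugate -/
theorem invol_conj (x y : B) (hx2 : x * x = 1) (hx1 : x ≠ 1) (hy2 : y * y = 1) (hy1 : y ≠ 1) :
    ∃ b : B, b * x * b⁻¹ = y := by
  have hσ : toPerm5 e x ∈ inv5 := (toPerm5_invol_iff e x).mpr ⟨hx2, hx1⟩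
  have hτ : toPerm5 e y ∈ inv5 := (toPerm5_invol_iff e y).mpr ⟨hy2, hy1⟩
  obtain ⟨ρ, hρs, hρ⟩ := inv5_conj _ hσ _ hτ
  obtain ⟨b, hb⟩ := exists_toPerm5' e ρ hρs
  refine ⟨b, ?_⟩
  apply toPerm5_injective e
  rw [map_mul, map_mul, map_inv, hb]
  exact hρ

include e in
theorem isSimpleGroup_of_iso : IsSimpleGroup B := e.isSimpleGroup

/-- the automorphism of `A₅` induced by an automorphism of `B` -/
def autA5 (φ : B ≃* B) : MulAut (alternatingGroup (Fin 5)) := (e.symm.trans φ).trans e

theorem autA5_apply (φ : B ≃* B) (x : B) : autA5 e φ (e x) = e (φ x) := by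
  show e (φ (e.symm (e x))) = e (φ x)
  rw [MulEquiv.symm_apply_apply]

include e in
/-- an automorphism of `B` with more than 6 fixed points is trivial -/
theorem aut_eq_of_fixed (φ : B ≃* B) (h : 6 < Nat.card {x : B // φ x = x}) (x : B) :
    φ x = x := by
  classical
  obtain ⟨σ, hσ⟩ := (Cfsg.Agent.S2119.result 5 (by norm_num) (by norm_num)).2 (autA5 e φ)
  have hconj : ∀ y : B, toPerm5 e (φ y) = σ * toPerm5 e y * σ⁻¹ := by
    intro y
    have h1 : (autA5 e φ) (e y) = e (φ y) := autA5_apply e φ y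
    rw [← hσ] at h1
    have h2 := congrArg (fun w : alternatingGroup (Fin 5) => (w : Perm (Fin 5))) h1
    simp only [MulAut.conjNormal_apply] at h2
    exact h2.symm
  by_cases hσ1 : σ = 1
  · apply toPerm5_injective e
    rw [hconj, hσ1]; group
  · exfalso
    have h6 := cent_le_six σ hσ1
    have hmem : ∀ y : B, φ y = y ↔ toPerm5 e y ∈
        Finset.univ.filter (fun τ : Perm (Fin 5) => Perm.sign τ = 1 ∧ σ * τ = τ * σ) := by
      intro y
      rw [Finset.mem_filter]
      constructor
      · intro hy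
        refine ⟨Finset.mem_univ _, toPerm5_sign e y, ?_⟩
        have := hconj y
        rw [hy] at this
        calc σ * toPerm5 e y = σ * toPerm5 e y * σ⁻¹ * σ := by group
          _ = toPerm5 e y * σ := by rw [← this]
      · rintro ⟨-, -, hy⟩
        apply toPerm5_injective e
        rw [hconj, hy]; group
    have hinj : Function.Injective (fun y : {y : B // φ y = y} =>
        (⟨toPerm5 e y.1, (hmem y.1).mp y.2⟩ : {τ : Perm (Fin 5) // τ ∈
          Finset.univ.filter (fun τ : Perm (Fin 5) => Perm.sign τ = 1 ∧ σ * τ = τ * σ)})) := by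
      intro a b hab
      have h1 : toPerm5 e a.1 = toPerm5 e b.1 :=
        congrArg (fun w : {τ : Perm (Fin 5) // τ ∈
          Finset.univ.filter (fun τ : Perm (Fin 5) => Perm.sign τ = 1 ∧ σ * τ = τ * σ)} => w.1) hab
      exact Subtype.ext (toPerm5_injective e h1)
    have hle := Nat.card_le_card_of_injective _ hinj
    rw [Nat.card_eq_fintype_card (α := {τ : Perm (Fin 5) // τ ∈ _}), Fintype.card_coe] at hle
    omega

include e in
/-- the automorphism group of `B` has order 120 -/
theorem card_aut : Nat.card (B ≃* B) = 120 := by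
  have hbij := Cfsg.Agent.S2119.result 5 (by norm_num) (by norm_num)
  have e1 : (B ≃* B) ≃ MulAut (alternatingGroup (Fin 5)) :=
    { toFun := fun φ => autA5 e φ
      invFun := fun ψ => (e.trans ψ).trans e.symm
      left_inv := fun φ => by
        apply MulEquiv.ext
        intro x
        show e.symm (e (φ (e.symm (e x)))) = φ x
        rw [MulEquiv.symm_apply_apply, MulEquiv.symm_apply_apply]
      right_inv := fun ψ => by
        apply MulEquiv.ext
        intro x
        show e (e.symm (ψ (e (e.symm x)))) = ψ x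
        rw [MulEquiv.apply_symm_apply, MulEquiv.apply_symm_apply] }
  rw [Nat.card_congr e1, ← Nat.card_congr (Equiv.ofBijective _ hbij), Nat.card_perm, Nat.card_fin]
  rfl

end iso

end Cfsg.Agent.Lib.Helper14.J2Rec
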