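import Mathlib
import Cfsg.Agent.S4416
import Cfsg.Agent.Lib.Helper14.ExtraO2A
import Cfsg.Agent.Lib.Helper14.J2OrdD

/-!
helper14: S1721 / S5382, part B: the base package `ZBase z Q` (`Q` extraspecial of order 32, normal
and self-centralizing in `C_G(z)`, some element of order 5 in `C_G(z)`): `Q` has exactly 12 solutions
of `x² = 1`, and no elementary abelian subgroup of order 8.
(Variant of the `ZSide` lemmas of `J2OrdD`, `J2OrdE` without a complement.)
-/

set_option autoImplicit false
open scoped commutatorElement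

namespace Cfsg.Agent.Lib.Helper14.J2Rec

open Cfsg.Agent.Lib.Helper14.EO2 Cfsg.Agent.Lib.Helper14.LES Cfsg.Agent.Lib.Helper20.ES
open Cfsg.Agent.Lib.Helper14.J2Ord

variable {G : Type*} [Group G] [Finite G]

/-- the base hypotheses on `C_G(z)` -/
structure ZBase (z : G) (Q : Subgroup G) : Prop where
  hyp : Hyp z Q
  cardQ : Nat.card ↥Q = 32
  ex5 : ∃ f : G, f * z = z * f ∧ orderOf f = 5

namespace ZBase

variable {z : G} {Q : Subgroup G}

/-- conjugation action of `C_G(z)` on the elements of `Q` with a conjugation invariant property -/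
def conjAction (S : ZBase z Q) (P : G → Prop) (hP : ∀ h x : G, h * z = z * h → P x →
    P (h * x * h⁻¹)) :
    MulAction ↥(Subgroup.centralizer ({z} : Set G)) {x : G // x ∈ Q ∧ P x} where
  smul h x := ⟨h.1 * x.1 * h.1⁻¹, S.hyp.nor h.1 ((mem_cent_iff z h.1).mp h.2) x.1 x.2.1,
    hP _ _ ((mem_cent_iff z h.1).mp h.2) x.2.2⟩
  one_smul x := by
    apply Subtype.ext
    show (1 : G) * x.1 * (1 : G)⁻¹ = x.1
    group
  mul_smul a b x := by
    apply Subtype.ext
    show (a.1 * b.1) * x.1 * (a.1 * b.1)⁻¹ = a.1 * (b.1 * x.1 * b.1⁻¹) * a.1⁻¹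
    group

/-- the fixed point congruence for an element of order 5 of `C_G(z)` -/
theorem card_modEq (S : ZBase z Q) (P : G → Prop)
    (hP : ∀ h x : G, h * z = z * h → P x → P (h * x * h⁻¹))
    (g : G) (hgz : g * z = z * g) (hg : orderOf g = 5) :
    Nat.card {x : G // x ∈ Q ∧ P x} ≡
      Nat.card {x : G // (x ∈ Q ∧ P x) ∧ g * x * g⁻¹ = x} [MOD 5] := by
  letI := S.conjAction P hP
  haveI : Fact (Nat.Prime 5) := ⟨by norm_num⟩
  have hgC : g ∈ Subgroup.centralizer ({z} : Set G) := (mem_cent_iff z g).mpr hgz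
  have hg' : orderOf (⟨g, hgC⟩ : ↥(Subgroup.centralizer ({z} : Set G))) = 5 := by
    rw [← Subgroup.orderOf_coe]; exact hg
  have h := card_modEq_fixed' (X := {x : G // x ∈ Q ∧ P x})
    (⟨g, hgC⟩ : ↥(Subgroup.centralizer ({z} : Set G))) 5 hg'
  have e : {x : {x : G // x ∈ Q ∧ P x} //
      (⟨g, hgC⟩ : ↥(Subgroup.centralizer ({z} : Set G))) • x = x} ≃
      {x : G // (x ∈ Q ∧ P x) ∧ g * x * g⁻¹ = x} :=
    { toFun := fun x => ⟨x.1.1, x.1.2, congrArg (fun y : {x : G // x ∈ Q ∧ P x} => y.1) x.2⟩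
      invFun := fun x => ⟨⟨x.1, x.2.1⟩, Subtype.ext x.2.2⟩
      left_inv := fun x => rfl
      right_inv := fun x => rfl }
  rw [Nat.card_congr e] at h
  exact h

/-- an element of `Q` does not have order 5 -/
theorem not_mem_of_order_five (S : ZBase z Q) (g : G) (hg : orderOf g = 5) : g ∉ Q := by
  intro hgQ
  have h1 : orderOf (⟨g, hgQ⟩ : ↥Q) = 5 := by rw [← Subgroup.orderOf_coe]; exact hg
  have h2 : orderOf (⟨g, hgQ⟩ : ↥Q) ∣ Nat.card ↥Q := orderOf_dvd_natCard _
  rw [h1, S.cardQ] at h2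
  omega

/-- `C_Q(g) = ⟨z⟩` for an element `g` of order 5 of `C_G(z)` -/
theorem fixed5 (S : ZBase z Q) (g : G) (hgz : g * z = z * g) (hg : orderOf g = 5)
    (x : G) (hx : x ∈ Q) (hgx : g * x * g⁻¹ = x) : x = 1 ∨ x = z := by
  classical
  have h1 := S.card_modEq (fun _ => True) (fun _ _ _ _ => trivial) g hgz hg
  let D : Subgroup G := Q ⊓ Subgroup.centralizer ({g} : Set G)
  have hD : ∀ y, y ∈ D ↔ (y ∈ Q ∧ g * y * g⁻¹ = y) := by
    intro y
    show y ∈ Q ⊓ Subgroup.centralizer ({g} : Set G) ↔ _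
    rw [Subgroup.mem_inf, mem_cent_iff]
    constructor
    · rintro ⟨h1, h2⟩
      refine ⟨h1, ?_⟩
      rw [← h2]; group
    · rintro ⟨h1, h2⟩
      refine ⟨h1, ?_⟩
      calc y * g = g * y * g⁻¹ * g := by rw [h2]
        _ = g * y := by group
  have e1 : {x : G // (x ∈ Q ∧ True) ∧ g * x * g⁻¹ = x} ≃ ↥D :=
    { toFun := fun y => ⟨y.1, (hD y.1).mpr ⟨y.2.1.1, y.2.2⟩⟩
      invFun := fun y => ⟨y.1, ⟨((hD y.1).mp y.2).1, trivial⟩, ((hD y.1).mp y.2).2⟩
      left_inv := fun y => rfl
      right_inv := fun y => rfl }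
  have e2 : {x : G // x ∈ Q ∧ True} ≃ ↥Q :=
    { toFun := fun y => ⟨y.1, y.2.1⟩
      invFun := fun y => ⟨y.1, y.2, trivial⟩
      left_inv := fun y => rfl
      right_inv := fun y => rfl }
  rw [Nat.card_congr e1, Nat.card_congr e2, S.cardQ] at h1
  have hDQ : D ≤ Q := inf_le_left
  have hdvd : Nat.card ↥D ∣ 32 := S.cardQ ▸ Subgroup.card_dvd_of_le hDQ
  have hcases : Nat.card ↥D = 2 ∨ Nat.card ↥D = 32 := by
    have h32 : (32 : ℕ) = 2 ^ 5 := by norm_num
    rw [h32] at hdvd
    obtain ⟨j, hj, hj2⟩ := (Nat.dvd_prime_pow Nat.prime_two).mp hdvd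
    rw [hj2] at h1 ⊢
    interval_cases j <;> simp_all [Nat.ModEq]
  have hzD : z ∈ D := (hD z).mpr ⟨S.hyp.zE, by rw [hgz]; group⟩
  rcases hcases with h2 | h32
  · obtain ⟨y, -, hy⟩ := (Nat.card_eq_two_iff' (1 : ↥D)).mp h2
    by_cases hx1 : x = 1
    · left; exact hx1
    · right
      have hxD : x ∈ D := (hD x).mpr ⟨hx, hgx⟩
      have h3 : (⟨x, hxD⟩ : ↥D) = y := hy _ (fun h => hx1 (congrArg Subtype.val h))
      have h4 : (⟨z, hzD⟩ : ↥D) = y := hy _ (fun h => S.hyp.z1 (congrArg Subtype.val h))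
      exact congrArg Subtype.val (h3.trans h4.symm)
  · exfalso
    have hDQ' : D = Q := Subgroup.eq_of_le_of_card_ge hDQ (by rw [h32, S.cardQ])
    have hgQ : g ∈ Q := by
      apply S.hyp.cen
      intro e he
      have : e ∈ D := hDQ' ▸ he
      have := ((hD e).mp this).2
      calc g * e = g * e * g⁻¹ * g := by group
        _ = e * g := by rw [this]
    exact S.not_mem_of_order_five g hg hgQ

/-- `Q` has exactly 12 solutions of `x² = 1` -/
theorem card_sq (S : ZBase z Q) : Nat.card {x : G // x ∈ Q ∧ x * x = 1} = 12 := by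
  obtain ⟨g, hgz, hg⟩ := S.ex5
  have h1 := S.card_modEq (fun x => x * x = 1)
    (fun h x _ hx => by
      calc h * x * h⁻¹ * (h * x * h⁻¹) = h * (x * x) * h⁻¹ := by group
        _ = 1 := by rw [hx]; group) g hgz hg
  have h2 : Nat.card {x : G // (x ∈ Q ∧ x * x = 1) ∧ g * x * g⁻¹ = x} = 2 := by
    rw [Nat.card_eq_two_iff]
    refine ⟨⟨1, ⟨Q.one_mem, by group⟩, by group⟩,
      ⟨z, ⟨S.hyp.zE, S.hyp.zz⟩, by rw [hgz]; group⟩, ?_, ?_⟩
    · intro h
      exact S.hyp.z1 (congrArg Subtype.val h).symm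
    · ext ⟨x, ⟨hxQ, hx2⟩, hgx⟩
      simp only [Set.mem_insert_iff, Set.mem_singleton_iff, Set.mem_univ, iff_true]
      rcases S.fixed5 g hgz hg x hxQ hgx with h | h
      · left; exact Subtype.ext h
      · right; exact Subtype.ext h
  rw [h2] at h1
  obtain ⟨m, hm1, hmc, hcount⟩ := (Cfsg.Agent.S4416.result.{_, 0} ↥Q S.hyp.es).1
  have hm : m = 2 := by
    rw [S.cardQ] at hmc
    have h32 : (32 : ℕ) = 2 ^ 5 := by norm_num
    rw [h32] at hmc
    have := Nat.pow_right_injective (le_refl 2) hmc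
    omega
  subst hm
  have e : {x : ↥Q // x ^ 2 = 1} ≃ {x : G // x ∈ Q ∧ x * x = 1} :=
    { toFun := fun x => ⟨x.1.1, x.1.2, by
        have := congrArg (fun y : ↥Q => y.1) x.2
        simpa [pow_two] using this⟩
      invFun := fun x => ⟨⟨x.1, x.2.1⟩, by
        apply Subtype.ext
        show x.1 ^ 2 = 1
        rw [pow_two]; exact x.2.2⟩
      left_inv := fun x => rfl
      right_inv := fun x => rfl }
  rw [Nat.card_congr e] at hcount
  rcases hcount with h | h
  · rw [h] at h1
    norm_num [Nat.ModEq] at h1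
  · rw [h]; norm_num

/-- anticommuting elements of `Q` -/
theorem anti (S : ZBase z Q) {x u : G} (hx : x ∈ Q) (hu : u ∈ Q) (h : ¬ x * u = u * x) :
    x * u = z * (u * x) := by
  rcases S.hyp.amb.comm x hx u hu with h1 | h1
  · exact absurd (commutatorElement_eq_one_iff_mul_comm.mp h1) h
  · have : x * u = ⁅x, u⁆ * (u * x) := by rw [commutatorElement_def]; group
    rw [this, h1]

/-- a non-central involution `u` of `Q` commutes with exactly four solutions of `x² = 1` in `Q` -/
theorem no_E8 (S : ZBase z Q) {u : G} (hu : u ∈ Q) (hu2 : u * u = 1) (hu1 : u ≠ 1)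
    (huz : u ≠ z) {w : G} (hw : w ∈ Q) (hw2 : w * w = 1) (hwu : w * u = u * w) :
    w = 1 ∨ w = z ∨ w = u ∨ w = u * z := by
  classical
  haveI : Fintype G := Fintype.ofFinite G
  have A := S.hyp.amb
  have hui : u⁻¹ = u := inv_eq_self_of_mul_self hu2
  have hzu : u * z = z * u := A.zc u hu
  let fQ : Finset G := Finset.univ.filter (fun x => x ∈ Q)
  let fM : Finset G := fQ.filter (fun x => x * u = u * x)
  let fN : Finset G := fQ.filter (fun x => ¬ x * u = u * x)
  let fT : Finset G := fQ.filter (fun x => x * x = 1)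
  let fM1 : Finset G := fM.filter (fun x => x * x = 1)
  let fN1 : Finset G := fN.filter (fun x => x * x = 1)
  let fN2 : Finset G := fN.filter (fun x => ¬ x * x = 1)
  have memQ : ∀ x, x ∈ fQ ↔ x ∈ Q := by
    intro x; simp only [fQ, Finset.mem_filter, Finset.mem_univ, true_and]
  have memM : ∀ x, x ∈ fM ↔ x ∈ Q ∧ x * u = u * x := by
    intro x; simp only [fM, Finset.mem_filter, memQ]
  have memN : ∀ x, x ∈ fN ↔ x ∈ Q ∧ ¬ x * u = u * x := by
    intro x; simp only [fN, Finset.mem_filter, memQ]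
  have memN1 : ∀ x, x ∈ fN1 ↔ (x ∈ Q ∧ ¬ x * u = u * x) ∧ x * x = 1 := by
    intro x; simp only [fN1, Finset.mem_filter, memN]
  have memN2 : ∀ x, x ∈ fN2 ↔ (x ∈ Q ∧ ¬ x * u = u * x) ∧ ¬ x * x = 1 := by
    intro x; simp only [fN2, Finset.mem_filter, memN]
  have memM1 : ∀ x, x ∈ fM1 ↔ (x ∈ Q ∧ x * u = u * x) ∧ x * x = 1 := by
    intro x; simp only [fM1, Finset.mem_filter, memM]
  have cQ : fQ.card = 32 := by
    have := S.cardQ
    rw [Nat.card_eq_fintype_card, Fintype.card_subtype] at this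
    exact this
  have cT : fT.card = 12 := by
    have := S.card_sq
    rw [Nat.card_eq_fintype_card, Fintype.card_subtype] at this
    rw [← this]
    congr 1
    ext x
    simp only [fT, Finset.mem_filter, memQ, Finset.mem_univ, true_and]
  have cMN : fM.card + fN.card = 32 := by
    rw [← cQ]
    exact Finset.card_filter_add_card_filter_not (fun x => x * u = u * x)
  obtain ⟨y, hyQ, hyu⟩ : ∃ y ∈ Q, ¬ y * u = u * y := by
    by_contra hcon
    push Not at hcon
    rcases A.cen u hu hcon with h | h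
    · exact hu1 h
    · exact huz h
  have hyanti : y * u = z * (u * y) := S.anti hyQ hu hyu
  have hyinv : u * y⁻¹ = y⁻¹ * (z * u) := by
    calc u * y⁻¹ = y⁻¹ * (y * u) * y⁻¹ := by group
      _ = y⁻¹ * (z * (u * y)) * y⁻¹ := by rw [hyanti]
      _ = y⁻¹ * (z * u) := by group
  have cMeqN : fM.card = fN.card := by
    apply Finset.card_bij (fun x _ => y * x)
    · intro x hx
      rw [memM] at hx
      rw [memN]
      refine ⟨Q.mul_mem hyQ hx.1, ?_⟩
      intro h
      apply hyu
      have h1 : y * u * x = u * y * x := by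
        calc y * u * x = y * (u * x) := by group
          _ = y * (x * u) := by rw [hx.2]
          _ = y * x * u := by group
          _ = u * (y * x) := h
          _ = u * y * x := by group
      exact mul_right_cancel h1
    · intro a _ b _ h
      exact mul_left_cancel h
    · intro x' hx'
      rw [memN] at hx'
      refine ⟨y⁻¹ * x', ?_, by group⟩
      rw [memM]
      refine ⟨Q.mul_mem (Q.inv_mem hyQ) hx'.1, ?_⟩
      have hx'anti := S.anti hx'.1 hu hx'.2
      calc y⁻¹ * x' * u = y⁻¹ * (x' * u) := by group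
        _ = y⁻¹ * (z * (u * x')) := by rw [hx'anti]
        _ = y⁻¹ * (z * u) * x' := by group
        _ = u * y⁻¹ * x' := by rw [← hyinv]
        _ = u * (y⁻¹ * x') := by group
  have cN : fN.card = 16 := by omega
  have cN12 : fN1.card + fN2.card = 16 := by
    rw [← cN]
    exact Finset.card_filter_add_card_filter_not (fun x => x * x = 1)
  have hsq : ∀ x, x ∈ Q → ¬ x * u = u * x → (u * x) * (u * x) = z * (x * x) := by
    intro x hx hxu
    have h1 := S.anti hx hu hxu
    calc u * x * (u * x) = u * (x * u) * x := by group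
      _ = u * (z * (u * x)) * x := by rw [h1]
      _ = (u * z) * (u * x) * x := by group
      _ = (z * u) * (u * x) * x := by rw [hzu]
      _ = z * (u * u) * (x * x) := by group
      _ = z * (x * x) := by rw [hu2, mul_one]
  have hNu : ∀ x, x ∈ Q → ¬ x * u = u * x → ¬ (u * x) * u = u * (u * x) := by
    intro x hx hxu h
    apply hxu
    have : u * (x * u) = u * (u * x) := by rw [← mul_assoc]; exact h
    exact mul_left_cancel this
  have cN1eqN2 : fN1.card = fN2.card := by
    apply Finset.card_bij (fun x _ => u * x)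
    · intro x hx
      rw [memN1] at hx
      rw [memN2]
      refine ⟨⟨Q.mul_mem hu hx.1.1, hNu x hx.1.1 hx.1.2⟩, ?_⟩
      rw [hsq x hx.1.1 hx.1.2, hx.2, mul_one]
      exact A.z1
    · intro a _ b _ h
      exact mul_left_cancel h
    · intro x' hx'
      rw [memN2] at hx'
      refine ⟨u * x', ?_, by rw [← mul_assoc, hu2, one_mul]⟩
      rw [memN1]
      refine ⟨⟨Q.mul_mem hu hx'.1.1, hNu x' hx'.1.1 hx'.1.2⟩, ?_⟩
      have hx'2 : x' * x' = z := (A.sq x' hx'.1.1).resolve_left hx'.2
      rw [hsq x' hx'.1.1 hx'.1.2, hx'2, A.zz]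
  have cN1 : fN1.card = 8 := by omega
  have cM1 : fM1.card = 4 := by
    have h1 : (fT.filter (fun x => x * u = u * x)).card +
        (fT.filter (fun x => ¬ x * u = u * x)).card = fT.card :=
      Finset.card_filter_add_card_filter_not (fun x => x * u = u * x)
    have h2 : fT.filter (fun x => x * u = u * x) = fM1 := Finset.filter_comm _ _ _
    have h3 : fT.filter (fun x => ¬ x * u = u * x) = fN1 := Finset.filter_comm _ _ _
    rw [h2, h3, cT, cN1] at h1
    omega
  have hsub : ({1, z, u, u * z} : Finset G) ⊆ fM1 := by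
    intro x hx
    simp only [Finset.mem_insert, Finset.mem_singleton] at hx
    rw [memM1]
    rcases hx with rfl | rfl | rfl | rfl
    · exact ⟨⟨Q.one_mem, by group⟩, by group⟩
    · exact ⟨⟨A.zQ, hzu.symm⟩, A.zz⟩
    · exact ⟨⟨hu, rfl⟩, hu2⟩
    · refine ⟨⟨Q.mul_mem hu A.zQ, ?_⟩, ?_⟩
      · calc u * z * u = u * (z * u) := by group
          _ = u * (u * z) := by rw [hzu]
      · calc u * z * (u * z) = u * (z * u) * z := by group
          _ = u * (u * z) * z := by rw [hzu]
          _ = (u * u) * (z * z) := by group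
          _ = 1 := by rw [hu2, A.zz, one_mul]
  have hcard4 : ({1, z, u, u * z} : Finset G).card = 4 := by
    have h1 : (1 : G) ≠ z := fun h => A.z1 h.symm
    have h2 : (1 : G) ≠ u := fun h => hu1 h.symm
    have h3 : (1 : G) ≠ u * z := by
      intro h
      apply huz
      have : u = z⁻¹ := eq_inv_of_mul_eq_one_left h.symm
      rw [this, S.hyp.zinv]
    have h4 : z ≠ u := fun h => huz h.symm
    have h5 : z ≠ u * z := by
      intro h
      apply hu1
      have : 1 * z = u * z := by rw [one_mul]; exact h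
      exact (mul_right_cancel this).symm
    have h6 : u ≠ u * z := by
      intro h
      apply A.z1
      have : u * 1 = u * z := by rw [mul_one]; exact h
      exact (mul_left_cancel this).symm
    rw [Finset.card_insert_of_notMem, Finset.card_insert_of_notMem,
      Finset.card_insert_of_notMem, Finset.card_singleton]
    · simp only [Finset.mem_singleton]; exact h6
    · simp only [Finset.mem_insert, Finset.mem_singleton]; tauto
    · simp only [Finset.mem_insert, Finset.mem_singleton]; tauto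
  have heq : ({1, z, u, u * z} : Finset G) = fM1 :=
    Finset.eq_of_subset_of_card_le hsub (by rw [cM1, hcard4])
  have hwM : w ∈ fM1 := (memM1 w).mpr ⟨⟨hw, hwu⟩, hw2⟩
  rw [← heq] at hwM
  simpa only [Finset.mem_insert, Finset.mem_singleton] using hwM

/-- the number of non-central involutions of `Q` -/
theorem card_I1 (S : ZBase z Q) :
    Nat.card {u : G // u ∈ Q ∧ u * u = 1 ∧ u ≠ 1 ∧ u ≠ z} = 10 := by
  classical
  haveI : Fintype G := Fintype.ofFinite G
  have h12 := S.card_sq
  rw [Nat.card_eq_fintype_card, Fintype.card_subtype] at h12 ⊢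
  have heq : Finset.univ.filter (fun u : G => u ∈ Q ∧ u * u = 1 ∧ u ≠ 1 ∧ u ≠ z) =
      ((Finset.univ.filter (fun x : G => x ∈ Q ∧ x * x = 1)).erase 1).erase z := by
    ext u
    simp only [Finset.mem_filter, Finset.mem_univ, true_and, Finset.mem_erase]
    tauto
  rw [heq, Finset.card_erase_of_mem, Finset.card_erase_of_mem, h12]
  · simp only [Finset.mem_filter, Finset.mem_univ, true_and]
    exact ⟨Q.one_mem, by group⟩
  · simp only [Finset.mem_erase, Finset.mem_filter, Finset.mem_univ, true_and]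
    exact ⟨S.hyp.z1, S.hyp.zE, S.hyp.zz⟩

/-- two non-central involutions of `Q` in different cosets of `⟨z⟩` do not commute -/
theorem noncomm (S : ZBase z Q) {u w : G} (hu : u ∈ Q) (hu2 : u * u = 1) (hu1 : u ≠ 1)
    (huz : u ≠ z) (hw : w ∈ Q) (hw2 : w * w = 1) (hw1 : w ≠ 1) (hwz : w ≠ z)
    (hwu : w ≠ u) (hwuz : w ≠ u * z) : ¬ w * u = u * w := by
  intro h
  rcases S.no_E8 hu hu2 hu1 huz hw hw2 h with h1 | h1 | h1 | h1
  · exact hw1 h1
  · exact hwz h1
  · exact hwu h1
  · exact hwuz h1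

end ZBase

end Cfsg.Agent.Lib.Helper14.J2Rec
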