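import Mathlib
import Cfsg.Agent.Lib.Helper14.J2RecB

/-!
helper14: S1721 / S5382, part C: `C_G(z)` is transitive on the ten non-central involutions of `Q`.
-/

set_option autoImplicit false
open scoped commutatorElement

namespace Cfsg.Agent.Lib.Helper14.J2Rec

open Cfsg.Agent.Lib.Helper14.EO2 Cfsg.Agent.Lib.Helper14.LES Cfsg.Agent.Lib.Helper20.ES
open Cfsg.Agent.Lib.Helper14.J2Ord

variable {G : Type*} [Group G] [Finite G]

/-- the non-central involutions of `Q` -/
def IsI1 (z : G) (Q : Subgroup G) (u : G) : Prop := u ∈ Q ∧ u * u = 1 ∧ u ≠ 1 ∧ u ≠ z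

namespace ZBase

variable {z : G} {Q : Subgroup G}

theorem isI1_conj (S : ZBase z Q) {u h : G} (hu : IsI1 z Q u) (hz : h * z = z * h) :
    IsI1 z Q (h * u * h⁻¹) := by
  obtain ⟨h1, h2, h3, h4⟩ := hu
  refine ⟨S.hyp.nor h hz u h1, ?_, ?_, ?_⟩
  · calc h * u * h⁻¹ * (h * u * h⁻¹) = h * (u * u) * h⁻¹ := by group
      _ = 1 := by rw [h2]; group
  · intro hh
    exact h3 (conj_eq_one_iff.mp hh)
  · intro hh
    apply h4
    calc u = h⁻¹ * (h * u * h⁻¹) * h := by group
      _ = h⁻¹ * z * h := by rw [hh]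
      _ = h⁻¹ * (z * h) := by group
      _ = h⁻¹ * (h * z) := by rw [hz]
      _ = z := by group

theorem isI1_mul_z (S : ZBase z Q) {u : G} (hu : IsI1 z Q u) : IsI1 z Q (u * z) := by
  obtain ⟨h1, h2, h3, h4⟩ := hu
  have A := S.hyp.amb
  have hzu : u * z = z * u := A.zc u h1
  refine ⟨Q.mul_mem h1 A.zQ, ?_, ?_, ?_⟩
  · calc u * z * (u * z) = u * (z * u) * z := by group
      _ = u * (u * z) * z := by rw [hzu]
      _ = (u * u) * (z * z) := by group
      _ = 1 := by rw [h2, A.zz, one_mul]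
  · intro h
    apply h4
    have : u = z⁻¹ := eq_inv_of_mul_eq_one_left h
    rw [this, S.hyp.zinv]
  · intro h
    apply h3
    have : u * z = 1 * z := by rw [one_mul]; exact h
    exact mul_right_cancel this

/-- an element of order 5 of `C_G(z)` fixes no non-trivial coset of `⟨z⟩` in `Q` -/
theorem fixed5' (S : ZBase z Q) (g : G) (hgz : g * z = z * g) (hg : orderOf g = 5)
    (x : G) (hx : x ∈ Q) (h : g * x * g⁻¹ = x ∨ g * x * g⁻¹ = x * z) : x = 1 ∨ x = z := by
  have hg2z : g ^ 2 * z = z * g ^ 2 := by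
    rw [pow_two]
    calc g * g * z = g * (g * z) := by group
      _ = g * (z * g) := by rw [hgz]
      _ = (g * z) * g := by group
      _ = z * g * g := by rw [hgz]
      _ = z * (g * g) := by group
  have hg2 : orderOf (g ^ 2) = 5 := by
    rw [Nat.Coprime.orderOf_pow (by rw [hg]; norm_num), hg]
  apply S.fixed5 (g ^ 2) hg2z hg2 x hx
  have hgzg : g * z * g⁻¹ = z := by rw [hgz]; group
  have e2 : g ^ 2 * x * (g ^ 2)⁻¹ = g * (g * x * g⁻¹) * g⁻¹ := by rw [pow_two]; group
  rcases h with h | h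
  · calc g ^ 2 * x * (g ^ 2)⁻¹ = g * (g * x * g⁻¹) * g⁻¹ := e2
      _ = x := by rw [h, h]
  · calc g ^ 2 * x * (g ^ 2)⁻¹ = g * (g * x * g⁻¹) * g⁻¹ := e2
      _ = g * (x * z) * g⁻¹ := by rw [h]
      _ = (g * x * g⁻¹) * (g * z * g⁻¹) := by group
      _ = x * z * z := by rw [h, hgzg]
      _ = x := by rw [mul_assoc, S.hyp.zz, mul_one]

theorem pow_comm_z {f : G} (hfz : f * z = z * f) (i : ℕ) : f ^ i * z = z * f ^ i := by
  have : Commute f z := hfz
  exact (this.pow_left i)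

/-- `C_G(z)` is transitive on the non-central involutions of `Q` -/
theorem transI1 (S : ZBase z Q) {u u' : G} (hu : IsI1 z Q u) (hu' : IsI1 z Q u') :
    ∃ h : G, h * z = z * h ∧ h * u * h⁻¹ = u' := by
  classical
  haveI : Fintype G := Fintype.ofFinite G
  have A := S.hyp.amb
  obtain ⟨f, hfz, hf5⟩ := S.ex5
  let ψ : ℕ × ℕ → G := fun p => f ^ p.1 * u * (f ^ p.1)⁻¹ * z ^ p.2
  let D : Finset (ℕ × ℕ) := Finset.range 5 ×ˢ Finset.range 2
  let I : Finset G := Finset.univ.filter (fun u : G => u ∈ Q ∧ u * u = 1 ∧ u ≠ 1 ∧ u ≠ z)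
  have hI : I.card = 10 := by
    have := S.card_I1
    rw [Nat.card_eq_fintype_card, Fintype.card_subtype] at this
    exact this
  have memI : ∀ x, x ∈ I ↔ IsI1 z Q x := by
    intro x
    simp only [I, Finset.mem_filter, Finset.mem_univ, true_and, IsI1]
  have hc : ∀ i : ℕ, IsI1 z Q (f ^ i * u * (f ^ i)⁻¹) :=
    fun i => S.isI1_conj hu (pow_comm_z hfz i)
  have hmaps : ∀ p ∈ D, ψ p ∈ I := by
    rintro ⟨i, ε⟩ hp
    rw [Finset.mem_product, Finset.mem_range, Finset.mem_range] at hp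
    rw [memI]
    show IsI1 z Q (f ^ i * u * (f ^ i)⁻¹ * z ^ ε)
    have hε : ε = 0 ∨ ε = 1 := by omega
    rcases hε with rfl | rfl
    · rw [pow_zero, mul_one]; exact hc i
    · rw [pow_one]; exact S.isI1_mul_z (hc i)
  -- the key injectivity statement
  have haux : ∀ i j ε δ : ℕ, j ≤ i → i < 5 → ε < 2 → δ < 2 → ψ (i, ε) = ψ (j, δ) →
      i = j ∧ ε = δ := by
    intro i j ε δ hji hi hε hδ h
    obtain ⟨k, rfl⟩ := Nat.exists_eq_add_of_le hji
    have h1 : f ^ k * u * (f ^ k)⁻¹ * z ^ ε = u * z ^ δ := by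
      have h2 : f ^ (j + k) * u * (f ^ (j + k))⁻¹ * z ^ ε = f ^ j * u * (f ^ j)⁻¹ * z ^ δ := h
      have hzj : (f ^ j)⁻¹ * z ^ ε * f ^ j = z ^ ε := by
        have : Commute (f ^ j) (z ^ ε) := (Commute.pow_pow (show Commute f z from hfz) j ε)
        calc (f ^ j)⁻¹ * z ^ ε * f ^ j = (f ^ j)⁻¹ * (z ^ ε * f ^ j) := by group
          _ = (f ^ j)⁻¹ * (f ^ j * z ^ ε) := by rw [this.eq]
          _ = z ^ ε := by group
      have hzj' : (f ^ j)⁻¹ * z ^ δ * f ^ j = z ^ δ := by
        have : Commute (f ^ j) (z ^ δ) := (Commute.pow_pow (show Commute f z from hfz) j δ)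
        calc (f ^ j)⁻¹ * z ^ δ * f ^ j = (f ^ j)⁻¹ * (z ^ δ * f ^ j) := by group
          _ = (f ^ j)⁻¹ * (f ^ j * z ^ δ) := by rw [this.eq]
          _ = z ^ δ := by group
      calc f ^ k * u * (f ^ k)⁻¹ * z ^ ε
          = (f ^ j)⁻¹ * (f ^ (j + k) * u * (f ^ (j + k))⁻¹) * f ^ j *
              ((f ^ j)⁻¹ * z ^ ε * f ^ j) := by
            rw [hzj, pow_add]; group
        _ = (f ^ j)⁻¹ * (f ^ (j + k) * u * (f ^ (j + k))⁻¹ * z ^ ε) * f ^ j := by group
        _ = (f ^ j)⁻¹ * (f ^ j * u * (f ^ j)⁻¹ * z ^ δ) * f ^ j := by rw [h2]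
        _ = u * ((f ^ j)⁻¹ * z ^ δ * f ^ j) := by group
        _ = u * z ^ δ := by rw [hzj']
    have hε' : ε = 0 ∨ ε = 1 := by omega
    have hδ' : δ = 0 ∨ δ = 1 := by omega
    have hk0 : k = 0 := by
      by_contra hk
      have hord : orderOf (f ^ k) = 5 := by
        rw [Nat.Coprime.orderOf_pow, hf5]
        rw [hf5]
        have h5 : Nat.Prime 5 := by norm_num
        exact (Nat.Prime.coprime_iff_not_dvd h5).mpr (fun hd => by
          have := Nat.le_of_dvd (Nat.pos_of_ne_zero hk) hd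
          omega)
      have hcases : f ^ k * u * (f ^ k)⁻¹ = u ∨ f ^ k * u * (f ^ k)⁻¹ = u * z := by
        rcases hε' with rfl | rfl <;> rcases hδ' with rfl | rfl
        · left; simpa using h1
        · right; simpa using h1
        · right
          have h3 : f ^ k * u * (f ^ k)⁻¹ * z = u := by simpa using h1
          calc f ^ k * u * (f ^ k)⁻¹ = (f ^ k * u * (f ^ k)⁻¹ * z) * z := by
                rw [mul_assoc _ z z, A.zz, mul_one]
            _ = u * z := by rw [h3]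
        · left
          have h3 : f ^ k * u * (f ^ k)⁻¹ * z = u * z := by simpa using h1
          exact mul_right_cancel h3
      rcases S.fixed5' (f ^ k) (pow_comm_z hfz k) hord u hu.1 hcases with h4 | h4
      · exact hu.2.2.1 h4
      · exact hu.2.2.2 h4
    subst hk0
    refine ⟨by omega, ?_⟩
    have h5 : u * z ^ ε = u * z ^ δ := by
      rw [← h1]; simp
    have h6 : z ^ ε = z ^ δ := mul_left_cancel h5
    rcases hε' with rfl | rfl <;> rcases hδ' with rfl | rfl
    · rfl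
    · exfalso; apply A.z1; simpa using h6.symm
    · exfalso; apply A.z1; simpa using h6
    · rfl
  have hinj : Set.InjOn ψ (D : Set (ℕ × ℕ)) := by
    rintro ⟨i, ε⟩ hp ⟨j, δ⟩ hq h
    rw [Finset.mem_coe, Finset.mem_product, Finset.mem_range, Finset.mem_range] at hp hq
    rcases le_total j i with hji | hij
    · obtain ⟨h1, h2⟩ := haux i j ε δ hji hp.1 hp.2 hq.2 h
      rw [h1, h2]
    · obtain ⟨h1, h2⟩ := haux j i δ ε hij hq.1 hq.2 hp.2 h.symm
      rw [h1, h2]
  have hDcard : D.card = 10 := by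
    simp only [D, Finset.card_product, Finset.card_range]
  have himg : D.image ψ = I := by
    apply Finset.eq_of_subset_of_card_le
    · intro x hx
      obtain ⟨p, hp, rfl⟩ := Finset.mem_image.mp hx
      exact hmaps p hp
    · rw [Finset.card_image_of_injOn hinj, hDcard, hI]
  have hu'I : u' ∈ D.image ψ := by rw [himg, memI]; exact hu'
  obtain ⟨⟨i, ε⟩, hp, hpe⟩ := Finset.mem_image.mp hu'I
  rw [Finset.mem_product, Finset.mem_range, Finset.mem_range] at hp
  have hpe' : f ^ i * u * (f ^ i)⁻¹ * z ^ ε = u' := hpe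
  have hε : ε = 0 ∨ ε = 1 := by omega
  rcases hε with rfl | rfl
  · refine ⟨f ^ i, pow_comm_z hfz i, ?_⟩
    rw [← hpe', pow_zero, mul_one]
  · -- `u z` is conjugate to `u` under `Q`
    obtain ⟨y, hyQ, hyu⟩ : ∃ y ∈ Q, ¬ y * u = u * y := by
      by_contra hcon
      push Not at hcon
      rcases A.cen u hu.1 hcon with h | h
      · exact hu.2.2.1 h
      · exact hu.2.2.2 h
    have hyanti : y * u = z * (u * y) := S.anti hyQ hu.1 hyu
    have hyz : y * z = z * y := A.zc y hyQ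
    have hzu : u * z = z * u := A.zc u hu.1
    refine ⟨f ^ i * y, ?_, ?_⟩
    · calc f ^ i * y * z = f ^ i * (y * z) := by group
        _ = f ^ i * (z * y) := by rw [hyz]
        _ = (f ^ i * z) * y := by group
        _ = z * f ^ i * y := by rw [pow_comm_z hfz i]
        _ = z * (f ^ i * y) := by group
    · have h1 : y * u * y⁻¹ = u * z := by
        calc y * u * y⁻¹ = z * (u * y) * y⁻¹ := by rw [hyanti]
          _ = z * u := by group
          _ = u * z := hzu.symm
      have hfzi : f ^ i * z * (f ^ i)⁻¹ = z := by rw [pow_comm_z hfz i]; group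
      calc f ^ i * y * u * (f ^ i * y)⁻¹ = f ^ i * (y * u * y⁻¹) * (f ^ i)⁻¹ := by group
        _ = f ^ i * (u * z) * (f ^ i)⁻¹ := by rw [h1]
        _ = f ^ i * u * (f ^ i)⁻¹ * (f ^ i * z * (f ^ i)⁻¹) := by group
        _ = f ^ i * u * (f ^ i)⁻¹ * z ^ 1 := by rw [hfzi, pow_one]
        _ = u' := hpe'

end ZBase

end Cfsg.Agent.Lib.Helper14.J2Rec
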