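import Mathlib
import Cfsg.Agent.Lib.Helper14.J2RecC

/-!
helper14: S1721 / S5382, part D: for `x ∈ C_G(z)` the subgroup
`R_x = {q ∈ Q : x q x⁻¹ ∈ q⟨z⟩}` (the preimage of `C_{Q/⟨z⟩}(x)`); it has order at least 8 when
`x² ∈ Q`, and order exactly 8 when `x` is an involution outside `Q` inverting an element of order 5
modulo `Q`.
-/

set_option autoImplicit false
open scoped commutatorElement

namespace Cfsg.Agent.Lib.Helper14.J2Rec

open Cfsg.Agent.Lib.Helper14.EO2 Cfsg.Agent.Lib.Helper14.LES Cfsg.Agent.Lib.Helper20.ES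
open Cfsg.Agent.Lib.Helper14.J2Ord

variable {G : Type*} [Group G] [Finite G]

theorem card_subgroup_eq_filter [Fintype G] (K : Subgroup G) [DecidablePred (fun x => x ∈ K)] :
    Nat.card ↥K = (Finset.univ.filter (fun x : G => x ∈ K)).card := by
  rw [Nat.card_eq_fintype_card, Fintype.card_subtype]

namespace ZBase

variable {z : G} {Q : Subgroup G}

/-- `R_x`: the elements of `Q` fixed modulo `⟨z⟩` by conjugation with `x` -/
def Rx (S : ZBase z Q) (x : G) (hx : x * z = z * x) : Subgroup G where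
  carrier := {q | q ∈ Q ∧ (x * q * x⁻¹ = q ∨ x * q * x⁻¹ = q * z)}
  one_mem' := ⟨Q.one_mem, Or.inl (by group)⟩
  mul_mem' := by
    rintro p q ⟨hp, hp'⟩ ⟨hq, hq'⟩
    refine ⟨Q.mul_mem hp hq, ?_⟩
    have A := S.hyp.amb
    have e : x * (p * q) * x⁻¹ = (x * p * x⁻¹) * (x * q * x⁻¹) := by group
    have hzq : z * q = q * z := (A.zc q hq).symm
    rcases hp' with hp' | hp' <;> rcases hq' with hq' | hq'
    · left; rw [e, hp', hq']
    · right; rw [e, hp', hq', mul_assoc]
    · right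
      rw [e, hp', hq']
      calc p * z * q = p * (z * q) := by group
        _ = p * (q * z) := by rw [hzq]
        _ = p * q * z := by group
    · left
      rw [e, hp', hq']
      calc p * z * (q * z) = p * (z * q) * z := by group
        _ = p * (q * z) * z := by rw [hzq]
        _ = p * q * (z * z) := by group
        _ = p * q := by rw [A.zz, mul_one]
  inv_mem' := by
    rintro q ⟨hq, hq'⟩
    refine ⟨Q.inv_mem hq, ?_⟩
    have A := S.hyp.amb
    have e : x * q⁻¹ * x⁻¹ = (x * q * x⁻¹)⁻¹ := by group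
    have hzq : z * q⁻¹ = q⁻¹ * z := (A.zc q⁻¹ (Q.inv_mem hq)).symm
    rcases hq' with hq' | hq'
    · left; rw [e, hq']
    · right
      rw [e, hq', mul_inv_rev, S.hyp.zinv, hzq]

theorem mem_Rx (S : ZBase z Q) (x : G) (hx : x * z = z * x) (q : G) :
    q ∈ S.Rx x hx ↔ q ∈ Q ∧ (x * q * x⁻¹ = q ∨ x * q * x⁻¹ = q * z) := Iff.rfl

theorem Rx_le (S : ZBase z Q) (x : G) (hx : x * z = z * x) : S.Rx x hx ≤ Q := fun _ h => h.1

theorem z_mem_Rx (S : ZBase z Q) (x : G) (hx : x * z = z * x) : z ∈ S.Rx x hx :=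
  ⟨S.hyp.zE, Or.inl (by rw [hx]; group)⟩

/-- the order of `R_x` divides 32 -/
theorem card_Rx_dvd (S : ZBase z Q) (x : G) (hx : x * z = z * x) :
    Nat.card ↥(S.Rx x hx) ∣ 32 := S.cardQ ▸ Subgroup.card_dvd_of_le (S.Rx_le x hx)

/-- inverse of an element of `Q` -/
theorem inv_eq_or (S : ZBase z Q) {q : G} (hq : q ∈ Q) : q⁻¹ = q ∨ q⁻¹ = q * z := by
  have A := S.hyp.amb
  rcases A.sq q hq with h | h
  · left; exact inv_eq_of_mul_eq_one_right h
  · right
    apply inv_eq_of_mul_eq_one_right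
    calc q * (q * z) = (q * q) * z := by group
      _ = 1 := by rw [h, A.zz]

/-- **L1**: `8 ≤ |R_x|` when `x² ∈ Q` -/
theorem card_Rx_ge (S : ZBase z Q) (x : G) (hx : x * z = z * x) (hx2 : x * x ∈ Q) :
    8 ≤ Nat.card ↥(S.Rx x hx) := by
  classical
  haveI : Fintype G := Fintype.ofFinite G
  have A := S.hyp.amb
  let φ : G → G := fun q => q⁻¹ * (x * q * x⁻¹)
  let fQ : Finset G := Finset.univ.filter (fun q => q ∈ Q)
  let fR : Finset G := Finset.univ.filter (fun q => q ∈ S.Rx x hx)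
  have cQ : fQ.card = 32 := by rw [← card_subgroup_eq_filter, S.cardQ]
  have cR : fR.card = Nat.card ↥(S.Rx x hx) := (card_subgroup_eq_filter _).symm
  have memQ : ∀ q, q ∈ fQ ↔ q ∈ Q := by
    intro q; simp only [fQ, Finset.mem_filter, Finset.mem_univ, true_and]
  have memR : ∀ q, q ∈ fR ↔ q ∈ S.Rx x hx := by
    intro q; simp only [fR, Finset.mem_filter, Finset.mem_univ, true_and]
  -- `φ` maps `Q` to `R_x`
  have hmaps : ∀ q ∈ fQ, φ q ∈ fR := by
    intro q hq
    rw [memQ] at hq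
    rw [memR, mem_Rx]
    have hq' : x * q * x⁻¹ ∈ Q := S.hyp.nor x hx q hq
    have hφQ : φ q ∈ Q := Q.mul_mem (Q.inv_mem hq) hq'
    refine ⟨hφQ, ?_⟩
    -- `x² q x⁻² = q` or `q z`
    have hx2q : (x * x) * q * (x * x)⁻¹ = q ∨ (x * x) * q * (x * x)⁻¹ = q * z := by
      rcases A.comm (x * x) hx2 q hq with h | h
      · left
        have : (x * x) * q * (x * x)⁻¹ = ⁅x * x, q⁆ * q := by rw [commutatorElement_def]; group
        rw [this, h, one_mul]
      · right
        have : (x * x) * q * (x * x)⁻¹ = ⁅x * x, q⁆ * q := by rw [commutatorElement_def]; group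
        rw [this, h]
        exact (A.zc q hq).symm
    have e1 : x * φ q * x⁻¹ = (φ q)⁻¹ * (q⁻¹ * ((x * x) * q * (x * x)⁻¹)) := by
      show x * (q⁻¹ * (x * q * x⁻¹)) * x⁻¹ = (q⁻¹ * (x * q * x⁻¹))⁻¹ * (q⁻¹ * ((x * x) * q * (x * x)⁻¹))
      group
    have hzφ : z * φ q = φ q * z := (A.zc _ hφQ).symm
    rcases hx2q with h | h <;> rcases S.inv_eq_or hφQ with h' | h'
    · left; rw [e1, h, h']; group
    · right; rw [e1, h, h']; group
    · right; rw [e1, h, h']; group
    · left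
      rw [e1, h, h']
      calc φ q * z * (q⁻¹ * (q * z)) = φ q * (z * z) := by group
        _ = φ q := by rw [A.zz, mul_one]
  -- the fibres
  have hfib : ∀ b ∈ fR, (fQ.filter (fun q => φ q = b)).card ≤ fR.card := by
    intro b _
    rcases (fQ.filter (fun q => φ q = b)).eq_empty_or_nonempty with h | ⟨q₀, hq₀⟩
    · rw [h]; exact Nat.zero_le _
    · rw [Finset.mem_filter, memQ] at hq₀
      apply Finset.card_le_card_of_injOn (fun q => q * q₀⁻¹)
      · intro q hq
        rw [Finset.mem_coe, Finset.mem_filter, memQ] at hq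
        rw [Finset.mem_coe, memR, mem_Rx]
        refine ⟨Q.mul_mem hq.1 (Q.inv_mem hq₀.1), Or.inl ?_⟩
        have h1 : q⁻¹ * (x * q * x⁻¹) = q₀⁻¹ * (x * q₀ * x⁻¹) := hq.2.trans hq₀.2.symm
        have h2 : x * q * x⁻¹ = q * q₀⁻¹ * (x * q₀ * x⁻¹) := by
          calc x * q * x⁻¹ = q * (q⁻¹ * (x * q * x⁻¹)) := by group
            _ = q * (q₀⁻¹ * (x * q₀ * x⁻¹)) := by rw [h1]
            _ = q * q₀⁻¹ * (x * q₀ * x⁻¹) := by group
        calc x * (q * q₀⁻¹) * x⁻¹ = (x * q * x⁻¹) * (x * q₀ * x⁻¹)⁻¹ := by group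
          _ = q * q₀⁻¹ := by rw [h2]; group
      · intro p _ q _ h
        exact mul_right_cancel h
  have h1 := Finset.card_le_mul_card_image_of_maps_to hmaps fR.card hfib
  rw [cQ, cR] at h1
  have hdvd := S.card_Rx_dvd x hx
  have h32 : (32 : ℕ) = 2 ^ 5 := by norm_num
  rw [h32] at hdvd
  obtain ⟨j, hj, hj2⟩ := (Nat.dvd_prime_pow Nat.prime_two).mp hdvd
  rw [hj2] at h1 ⊢
  interval_cases j <;> simp_all

/-- **L2**: `R_x ∩ R_y ≤ R_{x⁻¹ y}` -/
theorem Rx_inf_le (S : ZBase z Q) (x y : G) (hx : x * z = z * x) (hy : y * z = z * y)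
    (hxy : x⁻¹ * y * z = z * (x⁻¹ * y)) {q : G} (h1 : q ∈ S.Rx x hx) (h2 : q ∈ S.Rx y hy) :
    q ∈ S.Rx (x⁻¹ * y) hxy := by
  have A := S.hyp.amb
  rw [mem_Rx] at h1 h2 ⊢
  refine ⟨h1.1, ?_⟩
  have hxi : x⁻¹ * z * x = z := by
    calc x⁻¹ * z * x = x⁻¹ * (z * x) := by group
      _ = x⁻¹ * (x * z) := by rw [hx]
      _ = z := by group
  -- `x⁻¹ q x`
  have h1' : x⁻¹ * q * x = q ∨ x⁻¹ * q * x = q * z := by
    rcases h1.2 with h | h
    · left
      calc x⁻¹ * q * x = x⁻¹ * (x * q * x⁻¹) * x := by rw [h]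
        _ = q := by group
    · right
      have : q = x⁻¹ * q * x * z := by
        calc q = x⁻¹ * (x * q * x⁻¹) * x := by group
          _ = x⁻¹ * (q * z) * x := by rw [h]
          _ = x⁻¹ * q * x * (x⁻¹ * z * x) := by group
          _ = x⁻¹ * q * x * z := by rw [hxi]
      calc x⁻¹ * q * x = x⁻¹ * q * x * (z * z) := by rw [A.zz, mul_one]
        _ = (x⁻¹ * q * x * z) * z := by group
        _ = q * z := by rw [← this]
  have e : x⁻¹ * y * q * (x⁻¹ * y)⁻¹ = x⁻¹ * (y * q * y⁻¹) * x := by group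
  rcases h2.2 with h | h <;> rcases h1' with h' | h'
  · left; rw [e, h, h']
  · right; rw [e, h, h']
  · right
    rw [e, h]
    calc x⁻¹ * (q * z) * x = (x⁻¹ * q * x) * (x⁻¹ * z * x) := by group
      _ = q * z := by rw [h', hxi]
  · left
    rw [e, h]
    calc x⁻¹ * (q * z) * x = (x⁻¹ * q * x) * (x⁻¹ * z * x) := by group
      _ = q * z * z := by rw [h', hxi]
      _ = q := by rw [mul_assoc, A.zz, mul_one]

/-- **L4**: two subgroups of `Q` meeting in `⟨z⟩` -/
theorem card_mul_card_le (S : ZBase z Q) (A B : Subgroup G) (hA : A ≤ Q) (hB : B ≤ Q)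
    (hAB : ∀ q, q ∈ A → q ∈ B → q = 1 ∨ q = z) : Nat.card ↥A * Nat.card ↥B ≤ 64 := by
  classical
  haveI : Fintype G := Fintype.ofFinite G
  let fQ : Finset G := Finset.univ.filter (fun q => q ∈ Q)
  let fA : Finset G := Finset.univ.filter (fun q => q ∈ A)
  let fB : Finset G := Finset.univ.filter (fun q => q ∈ B)
  have cQ : fQ.card = 32 := by rw [← card_subgroup_eq_filter, S.cardQ]
  have cA : fA.card = Nat.card ↥A := (card_subgroup_eq_filter _).symm
  have cB : fB.card = Nat.card ↥B := (card_subgroup_eq_filter _).symm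
  have memQ : ∀ q, q ∈ fQ ↔ q ∈ Q := by
    intro q; simp only [fQ, Finset.mem_filter, Finset.mem_univ, true_and]
  have memA : ∀ q, q ∈ fA ↔ q ∈ A := by
    intro q; simp only [fA, Finset.mem_filter, Finset.mem_univ, true_and]
  have memB : ∀ q, q ∈ fB ↔ q ∈ B := by
    intro q; simp only [fB, Finset.mem_filter, Finset.mem_univ, true_and]
  have hmaps : ∀ p ∈ fA ×ˢ fB, p.1 * p.2 ∈ fQ := by
    rintro ⟨a, b⟩ hp
    rw [Finset.mem_product, memA, memB] at hp
    rw [memQ]
    exact Q.mul_mem (hA hp.1) (hB hp.2)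
  have hfib : ∀ c ∈ fQ, ((fA ×ˢ fB).filter (fun p => p.1 * p.2 = c)).card ≤ 2 := by
    intro c _
    rcases ((fA ×ˢ fB).filter (fun p => p.1 * p.2 = c)).eq_empty_or_nonempty with h | ⟨p₀, hp₀⟩
    · rw [h]; exact Nat.zero_le _
    · rw [Finset.mem_filter, Finset.mem_product, memA, memB] at hp₀
      have h2 : ({1, z} : Finset G).card ≤ 2 := Finset.card_le_two
      refine le_trans ?_ h2
      apply Finset.card_le_card_of_injOn (fun p => p₀.1⁻¹ * p.1)
      · intro p hp
        rw [Finset.mem_coe, Finset.mem_filter, Finset.mem_product, memA, memB] at hp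
        rw [Finset.mem_coe, Finset.mem_insert, Finset.mem_singleton]
        apply hAB
        · show p₀.1⁻¹ * p.1 ∈ A
          exact A.mul_mem (A.inv_mem hp₀.1.1) hp.1.1
        · have : p₀.1⁻¹ * p.1 = p₀.2 * p.2⁻¹ := by
            have h3 : p.1 * p.2 = p₀.1 * p₀.2 := hp.2.trans hp₀.2.symm
            calc p₀.1⁻¹ * p.1 = p₀.1⁻¹ * (p.1 * p.2) * p.2⁻¹ := by group
              _ = p₀.1⁻¹ * (p₀.1 * p₀.2) * p.2⁻¹ := by rw [h3]
              _ = p₀.2 * p.2⁻¹ := by group
          show p₀.1⁻¹ * p.1 ∈ B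
          rw [this]
          exact B.mul_mem hp₀.1.2 (B.inv_mem hp.1.2)
      · intro p hp q hq h
        rw [Finset.mem_coe, Finset.mem_filter] at hp hq
        have h3 : p.1 = q.1 := mul_left_cancel h
        have h4 : p.1 * p.2 = q.1 * q.2 := hp.2.trans hq.2.symm
        rw [h3] at h4
        exact Prod.ext h3 (mul_left_cancel h4)
  have h1 := Finset.card_le_mul_card_image_of_maps_to hmaps 2 hfib
  rw [Finset.card_product, cQ, cA, cB] at h1
  omega

/-- **R8**: `|R_a| = 8` for an involution `a` of `C_G(z)` outside `Q` which inverts an element of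
order 5 modulo `Q` -/
theorem card_Rx_eq (S : ZBase z Q) (a : G) (ha : a * z = z * a) (ha2 : a * a = 1)
    (f : G) (hfz : f * z = z * f) (hf5 : orderOf f = 5) (hinv : a * f * a⁻¹ * f ∈ Q) :
    Nat.card ↥(S.Rx a ha) = 8 := by
  have A := S.hyp.amb
  have hai : a⁻¹ = a := inv_eq_self_of_mul_self ha2
  have hb : (a * f) * z = z * (a * f) := by
    calc a * f * z = a * (f * z) := by group
      _ = a * (z * f) := by rw [hfz]
      _ = (a * z) * f := by group
      _ = z * a * f := by rw [ha]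
      _ = z * (a * f) := by group
  have hb2 : (a * f) * (a * f) ∈ Q := by
    have : (a * f) * (a * f) = a * f * a⁻¹ * f := by rw [hai]; group
    rw [this]; exact hinv
  have h1 := S.card_Rx_ge a ha (by rw [ha2]; exact Q.one_mem)
  have h2 := S.card_Rx_ge (a * f) hb hb2
  have hf' : a⁻¹ * (a * f) * z = z * (a⁻¹ * (a * f)) := by
    have : a⁻¹ * (a * f) = f := by group
    rw [this]; exact hfz
  have h3 := S.card_mul_card_le (S.Rx a ha) (S.Rx (a * f) hb) (S.Rx_le a ha) (S.Rx_le _ hb)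
    (by
      intro q hq1 hq2
      have h4 := S.Rx_inf_le a (a * f) ha hb hf' hq1 hq2
      rw [mem_Rx] at h4
      have e : a⁻¹ * (a * f) = f := by group
      rw [e] at h4
      exact S.fixed5' f hfz hf5 q h4.1 h4.2)
  nlinarith

end ZBase

end Cfsg.Agent.Lib.Helper14.J2Rec
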