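import Mathlib
import Cfsg.Agent.Lib.Helper14.J2RecD

/-!
helper14: S1721 / S5382, part E: the action on `Q` of an involution `a ∈ C_G(z) \ Q` with
`|R_a| = 8`: `C_Q(a) = {1, z, s, sz}`, the coset `Qa` contains exactly 8 involutions, all conjugate
to `a` under `Q`, and no element of square `z`.
-/

set_option autoImplicit false
open scoped commutatorElement

namespace Cfsg.Agent.Lib.Helper14.J2Rec

open Cfsg.Agent.Lib.Helper14.EO2 Cfsg.Agent.Lib.Helper14.LES Cfsg.Agent.Lib.Helper20.ES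
open Cfsg.Agent.Lib.Helper14.J2Ord

variable {G : Type*} [Group G] [Finite G]

namespace ZBase

variable {z : G} {Q : Subgroup G}

theorem comm_of_sq {a b : G} (ha : a * a = 1) (hb : b * b = 1)
    (hab : (a * b) * (a * b) = 1) : b * a = a * b := by
  calc b * a = (a * a) * (b * a) * (b * b) := by rw [ha, hb, one_mul, mul_one]
    _ = a * ((a * b) * (a * b)) * b := by group
    _ = a * b := by rw [hab, mul_one]

/-- the commutator-like map `q ↦ q⁻¹ (a q a⁻¹)` -/
def rmap (a q : G) : G := q⁻¹ * (a * q * a⁻¹)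

theorem rmap_mem (S : ZBase z Q) {a : G} (ha : a * z = z * a) {q : G} (hq : q ∈ Q) :
    rmap a q ∈ Q := Q.mul_mem (Q.inv_mem hq) (S.hyp.nor a ha q hq)

/-- `a` inverts `rmap a q` when `a² = 1` -/
theorem rmap_inv {a : G} (ha2 : a * a = 1) (q : G) :
    a * rmap a q * a⁻¹ = (rmap a q)⁻¹ := by
  have hai : a⁻¹ = a := inv_eq_self_of_mul_self ha2
  show a * (q⁻¹ * (a * q * a⁻¹)) * a⁻¹ = (q⁻¹ * (a * q * a⁻¹))⁻¹
  calc a * (q⁻¹ * (a * q * a⁻¹)) * a⁻¹ = a * q⁻¹ * a * q * (a⁻¹ * a⁻¹) := by group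
    _ = a * q⁻¹ * a * q := by rw [hai, ha2, mul_one]
    _ = a * q⁻¹ * a⁻¹ * q := by rw [hai]
    _ = (q⁻¹ * (a * q * a⁻¹))⁻¹ := by group

/-- the structure of the action of an involution outside `Q` -/
theorem inv_struct (S : ZBase z Q) (a : G) (ha : a * z = z * a) (ha2 : a * a = 1)
    (hR : Nat.card ↥(S.Rx a ha) = 8) :
    (∃ s, IsI1 z Q s ∧ a * s = s * a ∧
      ∀ q ∈ Q, a * q = q * a → q = 1 ∨ q = z ∨ q = s ∨ q = s * z) ∧
    (∀ n ∈ Q, (n * a) * (n * a) = 1 → ∃ q ∈ Q, q * a * q⁻¹ = n * a) ∧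
    (∀ q ∈ Q, (q * a) * (q * a) ≠ z) ∧
    Nat.card {n : G // n ∈ Q ∧ (n * a) * (n * a) = 1} = 8 := by
  classical
  haveI : Fintype G := Fintype.ofFinite G
  have A := S.hyp.amb
  have hai : a⁻¹ = a := inv_eq_self_of_mul_self ha2
  have haza : a * z * a⁻¹ = z := by rw [ha]; group
  let fQ : Finset G := Finset.univ.filter (fun q => q ∈ Q)
  let fR : Finset G := Finset.univ.filter (fun q => q ∈ S.Rx a ha)
  let fC : Finset G := Finset.univ.filter (fun q => q ∈ Q ∧ a * q * a⁻¹ = q)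
  have cQ : fQ.card = 32 := by rw [← card_subgroup_eq_filter, S.cardQ]
  have cR : fR.card = 8 := by rw [← card_subgroup_eq_filter, hR]
  have memQ : ∀ q, q ∈ fQ ↔ q ∈ Q := by
    intro q; simp only [fQ, Finset.mem_filter, Finset.mem_univ, true_and]
  have memR : ∀ q, q ∈ fR ↔ q ∈ S.Rx a ha := by
    intro q; simp only [fR, Finset.mem_filter, Finset.mem_univ, true_and]
  have memC : ∀ q, q ∈ fC ↔ q ∈ Q ∧ a * q * a⁻¹ = q := by
    intro q; simp only [fC, Finset.mem_filter, Finset.mem_univ, true_and]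
  -- `rmap a q ∈ R`
  have hrR : ∀ q ∈ Q, rmap a q ∈ S.Rx a ha := by
    intro q hq
    rw [mem_Rx]
    refine ⟨S.rmap_mem ha hq, ?_⟩
    rw [rmap_inv ha2]
    exact S.inv_eq_or (S.rmap_mem ha hq)
  -- the criterion for equal values modulo `z`
  have hcrit : ∀ q q₀ w, q ∈ Q → q₀ ∈ Q → (w = 1 ∨ w = z) → rmap a q = rmap a q₀ * w →
      a * (q * q₀⁻¹) * a⁻¹ = q * q₀⁻¹ * w := by
    intro q q₀ w hq hq₀ hw h
    have hq₀' : a * q₀ * a⁻¹ ∈ Q := S.hyp.nor a ha q₀ hq₀
    have hwc : w * (a * q₀ * a⁻¹)⁻¹ = (a * q₀ * a⁻¹)⁻¹ * w := by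
      rcases hw with rfl | rfl
      · group
      · exact (A.zc _ (Q.inv_mem hq₀')).symm
    have h1 : a * q * a⁻¹ = q * q₀⁻¹ * (a * q₀ * a⁻¹) * w := by
      calc a * q * a⁻¹ = q * rmap a q := by unfold rmap; group
        _ = q * (rmap a q₀ * w) := by rw [h]
        _ = q * q₀⁻¹ * (a * q₀ * a⁻¹) * w := by unfold rmap; group
    calc a * (q * q₀⁻¹) * a⁻¹ = (a * q * a⁻¹) * (a * q₀ * a⁻¹)⁻¹ := by group
      _ = q * q₀⁻¹ * (a * q₀ * a⁻¹) * w * (a * q₀ * a⁻¹)⁻¹ := by rw [h1]
      _ = q * q₀⁻¹ * (a * q₀ * a⁻¹) * (w * (a * q₀ * a⁻¹)⁻¹) := by group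
      _ = q * q₀⁻¹ * (a * q₀ * a⁻¹) * ((a * q₀ * a⁻¹)⁻¹ * w) := by rw [hwc]
      _ = q * q₀⁻¹ * w := by group
  -- (a) every element of `R` is `rmap a q * w`
  have hsurj : ∀ x ∈ S.Rx a ha, ∃ q ∈ Q, ∃ w, (w = 1 ∨ w = z) ∧ x = rmap a q * w := by
    let W : Finset G := {1, z}
    let ψ : G × G → G := fun p => rmap a p.1 * p.2
    have hW : W.card = 2 := by
      rw [Finset.card_insert_of_notMem, Finset.card_singleton]
      rw [Finset.mem_singleton]
      exact fun h => A.z1 h.symm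
    have memW : ∀ w, w ∈ W ↔ (w = 1 ∨ w = z) := by
      intro w; simp only [W, Finset.mem_insert, Finset.mem_singleton]
    have hmaps : ∀ p ∈ fQ ×ˢ W, ψ p ∈ fR := by
      rintro ⟨q, w⟩ hp
      rw [Finset.mem_product, memQ, memW] at hp
      rw [memR]
      apply Subgroup.mul_mem _ (hrR q hp.1)
      rcases hp.2 with rfl | rfl
      · exact Subgroup.one_mem _
      · exact S.z_mem_Rx a ha
    have hfib : ∀ b ∈ fR, ((fQ ×ˢ W).filter (fun p => ψ p = b)).card ≤ 8 := by
      intro b _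
      rcases ((fQ ×ˢ W).filter (fun p => ψ p = b)).eq_empty_or_nonempty with h | ⟨p₀, hp₀⟩
      · rw [h]; exact Nat.zero_le _
      · rw [Finset.mem_filter, Finset.mem_product, memQ, memW] at hp₀
        rw [← cR]
        apply Finset.card_le_card_of_injOn (fun p => p.1 * p₀.1⁻¹)
        · intro p hp
          rw [Finset.mem_coe, Finset.mem_filter, Finset.mem_product, memQ, memW] at hp
          rw [Finset.mem_coe, memR, mem_Rx]
          refine ⟨Q.mul_mem hp.1.1 (Q.inv_mem hp₀.1.1), ?_⟩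
          -- `rmap a p.1 = rmap a p₀.1 * (p₀.2 * p.2⁻¹)`
          have h1 : rmap a p.1 * p.2 = rmap a p₀.1 * p₀.2 := hp.2.trans hp₀.2.symm
          have h2 : rmap a p.1 = rmap a p₀.1 * (p₀.2 * p.2⁻¹) := by
            calc rmap a p.1 = rmap a p.1 * p.2 * p.2⁻¹ := by group
              _ = rmap a p₀.1 * p₀.2 * p.2⁻¹ := by rw [h1]
              _ = rmap a p₀.1 * (p₀.2 * p.2⁻¹) := by group
          have hw : p₀.2 * p.2⁻¹ = 1 ∨ p₀.2 * p.2⁻¹ = z := by
            rcases hp₀.1.2 with h3 | h3 <;> rcases hp.1.2 with h4 | h4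
            · left; rw [h3, h4]; group
            · right; rw [h3, h4, S.hyp.zinv, one_mul]
            · right; rw [h3, h4]; group
            · left; rw [h3, h4]; group
          have h5 := hcrit p.1 p₀.1 _ hp.1.1 hp₀.1.1 hw h2
          rcases hw with hw | hw
          · left; show a * (p.1 * p₀.1⁻¹) * a⁻¹ = p.1 * p₀.1⁻¹
            rw [h5, hw, mul_one]
          · right; show a * (p.1 * p₀.1⁻¹) * a⁻¹ = p.1 * p₀.1⁻¹ * z
            rw [h5, hw]
        · intro p hp q hq h
          rw [Finset.mem_coe, Finset.mem_filter] at hp hq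
          have h3 : p.1 = q.1 := mul_right_cancel h
          have h4 : rmap a p.1 * p.2 = rmap a q.1 * q.2 := hp.2.trans hq.2.symm
          rw [h3] at h4
          exact Prod.ext h3 (mul_left_cancel h4)
    have h1 := Finset.card_le_mul_card_image_of_maps_to hmaps 8 hfib
    -- the image is everything
    have himg : (fQ ×ˢ W).image ψ = fR := by
      apply Finset.eq_of_subset_of_card_le
      · intro x hx
        obtain ⟨p, hp, rfl⟩ := Finset.mem_image.mp hx
        exact hmaps p hp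
      · have h2 := Finset.card_le_mul_card_image (f := ψ) (fQ ×ˢ W) 8 (by
          intro b hb
          apply hfib b
          obtain ⟨p, hp, rfl⟩ := Finset.mem_image.mp hb
          exact hmaps p hp)
        rw [Finset.card_product, cQ, hW] at h2
        rw [cR]
        omega
    intro x hx
    have hx' : x ∈ (fQ ×ˢ W).image ψ := by rw [himg, memR]; exact hx
    obtain ⟨⟨q, w⟩, hp, rfl⟩ := Finset.mem_image.mp hx'
    rw [Finset.mem_product, memQ, memW] at hp
    exact ⟨q, hp.1, w, hp.2, rfl⟩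
  -- (b) `a` inverts `R`
  have hRinv : ∀ x ∈ S.Rx a ha, a * x * a⁻¹ = x⁻¹ := by
    intro x hx
    obtain ⟨q, hq, w, hw, rfl⟩ := hsurj x hx
    have hrQ := S.rmap_mem ha hq
    have e : a * (rmap a q * w) * a⁻¹ = (a * rmap a q * a⁻¹) * (a * w * a⁻¹) := by group
    rw [e, rmap_inv ha2]
    rcases hw with rfl | rfl
    · group
    · rw [haza, mul_inv_rev, S.hyp.zinv]
      exact (A.zc _ (Q.inv_mem hrQ))
  -- (c) `C ⊆ R`, exponent 2
  have hCR : ∀ c, c ∈ Q → a * c * a⁻¹ = c → c ∈ S.Rx a ha := fun c hc h => ⟨hc, Or.inl h⟩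
  have hC2 : ∀ c, c ∈ Q → a * c * a⁻¹ = c → c * c = 1 := by
    intro c hc h
    have h1 := hRinv c (hCR c hc h)
    rw [h] at h1
    calc c * c = c * c⁻¹ := by rw [← h1]
      _ = 1 := mul_inv_cancel c
  -- (d) `|R| ≤ 2 |C|`
  have hRC : fR.card ≤ 2 * fC.card := by
    by_cases hsub : fR ⊆ fC
    · have := Finset.card_le_card hsub
      omega
    · obtain ⟨x₀, hx₀R, hx₀C⟩ := Finset.not_subset.mp hsub
      rw [memR, mem_Rx] at hx₀R
      have hx₀ : a * x₀ * a⁻¹ = x₀ * z := by
        rcases hx₀R.2 with h | h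
        · exact absurd ((memC x₀).mpr ⟨hx₀R.1, h⟩) hx₀C
        · exact h
      have hsub2 : fR ⊆ fC ∪ fC.image (fun c => x₀ * c) := by
        intro q hq
        rw [memR, mem_Rx] at hq
        rw [Finset.mem_union]
        rcases hq.2 with h | h
        · left; exact (memC q).mpr ⟨hq.1, h⟩
        · right
          rw [Finset.mem_image]
          refine ⟨x₀⁻¹ * q, ?_, by group⟩
          rw [memC]
          refine ⟨Q.mul_mem (Q.inv_mem hx₀R.1) hq.1, ?_⟩
          have hzq : z * q = q * z := (A.zc q hq.1).symm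
          have hx₀z : x₀ * z = z * x₀ := A.zc x₀ hx₀R.1
          calc a * (x₀⁻¹ * q) * a⁻¹ = (a * x₀ * a⁻¹)⁻¹ * (a * q * a⁻¹) := by group
            _ = (x₀ * z)⁻¹ * (q * z) := by rw [hx₀, h]
            _ = (z * x₀)⁻¹ * (q * z) := by rw [hx₀z]
            _ = x₀⁻¹ * (z⁻¹ * q * z) := by group
            _ = x₀⁻¹ * (z * q * z) := by rw [S.hyp.zinv]
            _ = x₀⁻¹ * (q * z * z) := by rw [hzq]
            _ = x₀⁻¹ * q := by rw [mul_assoc q z z, A.zz, mul_one]
      have h1 := Finset.card_le_card hsub2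
      have h2 := Finset.card_union_le fC (fC.image (fun c => x₀ * c))
      have h3 := Finset.card_image_le (s := fC) (f := fun c => x₀ * c)
      omega
  have hC4 : 4 ≤ fC.card := by omega
  -- (e) a non-central involution in `C`
  obtain ⟨s, hsC, hs1, hsz⟩ : ∃ s ∈ fC, s ≠ 1 ∧ s ≠ z := by
    by_contra hcon
    push Not at hcon
    have hsub : fC ⊆ ({1, z} : Finset G) := by
      intro c hc
      rw [Finset.mem_insert, Finset.mem_singleton]
      by_cases h1 : c = 1
      · left; exact h1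
      · right; exact hcon c hc h1
    have := Finset.card_le_card hsub
    have h2 : ({1, z} : Finset G).card ≤ 2 := Finset.card_le_two
    omega
  rw [memC] at hsC
  have hsI : IsI1 z Q s := ⟨hsC.1, hC2 s hsC.1 hsC.2, hs1, hsz⟩
  have hCsub : ∀ c, c ∈ Q → a * c * a⁻¹ = c → c = 1 ∨ c = z ∨ c = s ∨ c = s * z := by
    intro c hc h
    have hc2 := hC2 c hc h
    have hcs : a * (c * s) * a⁻¹ = c * s := by
      calc a * (c * s) * a⁻¹ = (a * c * a⁻¹) * (a * s * a⁻¹) := by group
        _ = c * s := by rw [h, hsC.2]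
    have hcs2 := hC2 (c * s) (Q.mul_mem hc hsC.1) hcs
    have hcomm : c * s = s * c := by
      have := comm_of_sq hc2 hsI.2.1 hcs2
      exact this.symm
    exact S.no_E8 hsI.1 hsI.2.1 hsI.2.2.1 hsI.2.2.2 hc hc2 hcomm
  have hconj_iff : ∀ q, a * q * a⁻¹ = q ↔ a * q = q * a := by
    intro q
    constructor
    · intro h
      calc a * q = a * q * a⁻¹ * a := by group
        _ = q * a := by rw [h]
    · intro h
      rw [h]; group
  -- (f) every element of `R` is `rmap a q`
  have hsurj' : ∀ x ∈ S.Rx a ha, ∃ q ∈ Q, x = rmap a q := by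
    have hmaps : ∀ q ∈ fQ, rmap a q ∈ fR := by
      intro q hq
      rw [memQ] at hq
      rw [memR]
      exact hrR q hq
    have hfib : ∀ b ∈ fR, (fQ.filter (fun q => rmap a q = b)).card ≤ 4 := by
      intro b _
      rcases (fQ.filter (fun q => rmap a q = b)).eq_empty_or_nonempty with h | ⟨q₀, hq₀⟩
      · rw [h]; exact Nat.zero_le _
      · rw [Finset.mem_filter, memQ] at hq₀
        have h4 : ({1, z, s, s * z} : Finset G).card ≤ 4 := Finset.card_le_four
        refine le_trans ?_ h4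
        apply Finset.card_le_card_of_injOn (fun q => q * q₀⁻¹)
        · intro q hq
          rw [Finset.mem_coe, Finset.mem_filter, memQ] at hq
          rw [Finset.mem_coe]
          simp only [Finset.mem_insert, Finset.mem_singleton]
          apply hCsub _ (Q.mul_mem hq.1 (Q.inv_mem hq₀.1))
          have h1 : rmap a q = rmap a q₀ * 1 := by rw [mul_one]; exact hq.2.trans hq₀.2.symm
          have := hcrit q q₀ 1 hq.1 hq₀.1 (Or.inl rfl) h1
          rw [this, mul_one]
        · intro p _ q _ h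
          exact mul_right_cancel h
    have himg : fQ.image (rmap a) = fR := by
      apply Finset.eq_of_subset_of_card_le
      · intro x hx
        obtain ⟨q, hq, rfl⟩ := Finset.mem_image.mp hx
        exact hmaps q hq
      · have h2 := Finset.card_le_mul_card_image (f := rmap a) fQ 4 (by
          intro b hb
          apply hfib b
          obtain ⟨q, hq, rfl⟩ := Finset.mem_image.mp hb
          exact hmaps q hq)
        rw [cQ] at h2
        rw [cR]
        omega
    intro x hx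
    have hx' : x ∈ fQ.image (rmap a) := by rw [himg, memR]; exact hx
    obtain ⟨q, hq, rfl⟩ := Finset.mem_image.mp hx'
    rw [memQ] at hq
    exact ⟨q, hq, rfl⟩
  -- involutions in the coset
  have hinvN : ∀ n ∈ Q, (n * a) * (n * a) = 1 ↔ n ∈ S.Rx a ha := by
    intro n hn
    constructor
    · intro h
      rw [mem_Rx]
      refine ⟨hn, ?_⟩
      have h1 : a * n * a⁻¹ = n⁻¹ := by
        have h2 : n * (a * n * a) = 1 := by rw [← h]; group
        have h3 : a * n * a = n⁻¹ := (eq_inv_of_mul_eq_one_right h2)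
        rw [hai]; exact h3
      rw [h1]
      exact S.inv_eq_or hn
    · intro h
      have h1 := hRinv n h
      calc n * a * (n * a) = n * (a * n * a⁻¹) * (a * a) := by group
        _ = 1 := by rw [h1, ha2]; group
  refine ⟨⟨s, hsI, ((hconj_iff s).mp hsC.2), ?_⟩, ?_, ?_, ?_⟩
  · intro q hq hqa
    exact hCsub q hq ((hconj_iff q).mpr hqa)
  · intro n hn h
    have hnR := (hinvN n hn).mp h
    obtain ⟨q, hq, hq'⟩ := hsurj' n hnR
    refine ⟨q⁻¹, Q.inv_mem hq, ?_⟩
    rw [hq']
    unfold rmap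
    group
  · intro q hq h
    -- `a q a⁻¹ = q⁻¹ z`, so `q ∈ R`
    have h1 : a * q * a⁻¹ = q⁻¹ * z := by
      have h2 : q * (a * q * a) = z := by rw [← h]; group
      rw [hai]
      calc a * q * a = q⁻¹ * (q * (a * q * a)) := by group
        _ = q⁻¹ * z := by rw [h2]
    have hqR : q ∈ S.Rx a ha := by
      rw [mem_Rx]
      refine ⟨hq, ?_⟩
      rw [h1]
      rcases S.inv_eq_or hq with h3 | h3
      · right; rw [h3]
      · left; rw [h3, mul_assoc, A.zz, mul_one]
    have h4 := hRinv q hqR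
    rw [h1] at h4
    have : q⁻¹ * z = q⁻¹ * 1 := by rw [mul_one]; exact h4
    exact A.z1 (mul_left_cancel this)
  · rw [← hR]
    apply Nat.card_congr
    exact
      { toFun := fun n => ⟨n.1, (hinvN n.1 n.2.1).mp n.2.2⟩
        invFun := fun n => ⟨n.1, S.Rx_le a ha n.2, (hinvN n.1 (S.Rx_le a ha n.2)).mpr n.2⟩
        left_inv := fun n => rfl
        right_inv := fun n => rfl }

end ZBase

end Cfsg.Agent.Lib.Helper14.J2Rec
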