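import Mathlib
import Cfsg.Agent.Lib.Helper14.J2RecE

/-!
helper14: S1721 / S5382, part F: the package `ZA5 z Q` (elementwise form of `C_G(z)/Q ≅ A₅`) and its
consequences `ZP z Q`: for an involution `a ∈ C_G(z) \ Q`: `|C_{C_G(z)}(a)| = 16`, all such
involutions are conjugate under `C_G(z)`, there are 120 of them, and no element of `C_G(z) \ Q` whose
square lies in `Q` has square `z`.
-/

set_option autoImplicit false
open scoped commutatorElement

namespace Cfsg.Agent.Lib.Helper14.J2Rec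

open Cfsg.Agent.Lib.Helper14.EO2 Cfsg.Agent.Lib.Helper14.LES Cfsg.Agent.Lib.Helper20.ES
open Cfsg.Agent.Lib.Helper14.J2Ord

variable {G : Type*} [Group G] [Finite G]

/-- the hypotheses on `C_G(z)`, with the `A₅` quotient in elementwise form -/
structure ZA5 (z : G) (Q : Subgroup G) : Prop where
  base : ZBase z Q
  cardH : Nat.card ↥(Subgroup.centralizer ({z} : Set G)) = 1920
  inv5 : ∀ a, a * z = z * a → a ∉ Q → a * a ∈ Q →
    ∃ f, f * z = z * f ∧ orderOf f = 5 ∧ a * f * a⁻¹ * f ∈ Q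
  cent128 : ∀ a, a * z = z * a → a ∉ Q → a * a ∈ Q →
    Nat.card {x : G // x * z = z * x ∧ x * a * x⁻¹ * a⁻¹ ∈ Q} = 128
  centsq : ∀ a x, a * z = z * a → a ∉ Q → a * a ∈ Q → x * z = z * x →
    x * a * x⁻¹ * a⁻¹ ∈ Q → x * x ∈ Q
  card480 : Nat.card {x : G // x * z = z * x ∧ x ∉ Q ∧ x * x ∈ Q} = 480

/-- the consequences -/
structure ZP (z : G) (Q : Subgroup G) : Prop where
  base : ZBase z Q
  cardH : Nat.card ↥(Subgroup.centralizer ({z} : Set G)) = 1920
  cent4 : ∀ a, a * z = z * a → a * a = 1 → a ∉ Q → ∃ s, IsI1 z Q s ∧ a * s = s * a ∧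
    ∀ q ∈ Q, a * q = q * a → q = 1 ∨ q = z ∨ q = s ∨ q = s * z
  cent16 : ∀ a, a * z = z * a → a * a = 1 → a ∉ Q →
    Nat.card {x : G // x * z = z * x ∧ x * a = a * x} = 16
  conjH : ∀ a a', a * z = z * a → a * a = 1 → a ∉ Q → a' * z = z * a' → a' * a' = 1 → a' ∉ Q →
    ∃ h, h * z = z * h ∧ h * a * h⁻¹ = a'
  sqz : ∀ b, b * z = z * b → b ∉ Q → b * b ∈ Q → b * b ≠ z
  sqQ : ∀ a b, a * z = z * a → a * a = 1 → a ∉ Q → b * z = z * b → b * a = a * b → b * b ∈ Q
  exI2 : ∃ a, a * z = z * a ∧ a * a = 1 ∧ a ∉ Q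
  cardI2 : Nat.card {x : G // x * z = z * x ∧ x * x = 1 ∧ x ∉ Q} = 120

namespace ZA5

variable {z : G} {Q : Subgroup G}

theorem card_Rx (S : ZA5 z Q) (a : G) (ha : a * z = z * a) (ha2 : a * a = 1) (haQ : a ∉ Q) :
    Nat.card ↥(S.base.Rx a ha) = 8 := by
  obtain ⟨f, hfz, hf5, hinv⟩ := S.inv5 a ha haQ (by rw [ha2]; exact Q.one_mem)
  exact S.base.card_Rx_eq a ha ha2 f hfz hf5 hinv

theorem struct (S : ZA5 z Q) (a : G) (ha : a * z = z * a) (ha2 : a * a = 1) (haQ : a ∉ Q) :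
    (∃ s, IsI1 z Q s ∧ a * s = s * a ∧
      ∀ q ∈ Q, a * q = q * a → q = 1 ∨ q = z ∨ q = s ∨ q = s * z) ∧
    (∀ n ∈ Q, (n * a) * (n * a) = 1 → ∃ q ∈ Q, q * a * q⁻¹ = n * a) ∧
    (∀ q ∈ Q, (q * a) * (q * a) ≠ z) ∧
    Nat.card {n : G // n ∈ Q ∧ (n * a) * (n * a) = 1} = 8 :=
  S.base.inv_struct a ha ha2 (S.card_Rx a ha ha2 haQ)

theorem mul_comm_z {x y : G} (hx : x * z = z * x) (hy : y * z = z * y) :
    (x * y) * z = z * (x * y) := by
  calc x * y * z = x * (y * z) := by group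
    _ = x * (z * y) := by rw [hy]
    _ = (x * z) * y := by group
    _ = z * x * y := by rw [hx]
    _ = z * (x * y) := by group

theorem inv_comm_z {x : G} (hx : x * z = z * x) : x⁻¹ * z = z * x⁻¹ := by
  calc x⁻¹ * z = x⁻¹ * (z * x) * x⁻¹ := by group
    _ = x⁻¹ * (x * z) * x⁻¹ := by rw [hx]
    _ = z * x⁻¹ := by group

/-- `|C_{C_G(z)}(a)| ≤ 16` -/
theorem cent16_le (S : ZA5 z Q) (a : G) (ha : a * z = z * a) (ha2 : a * a = 1) (haQ : a ∉ Q) :
    Nat.card {x : G // x * z = z * x ∧ x * a = a * x} ≤ 16 := by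
  classical
  haveI : Fintype G := Fintype.ofFinite G
  have A := S.base.hyp.amb
  obtain ⟨⟨s, hsI, hsa, hC⟩, -, -, -⟩ := S.struct a ha ha2 haQ
  let fQ : Finset G := Finset.univ.filter (fun q => q ∈ Q)
  let fC : Finset G := Finset.univ.filter (fun x => x * z = z * x ∧ x * a = a * x)
  let fP : Finset G := Finset.univ.filter (fun x => x * z = z * x ∧ x * a * x⁻¹ * a⁻¹ ∈ Q)
  have cQ : fQ.card = 32 := by rw [← card_subgroup_eq_filter, S.base.cardQ]
  have cP : fP.card = 128 := by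
    have := S.cent128 a ha haQ (by rw [ha2]; exact Q.one_mem)
    rw [Nat.card_eq_fintype_card, Fintype.card_subtype] at this
    exact this
  have memQ : ∀ q, q ∈ fQ ↔ q ∈ Q := by
    intro q; simp only [fQ, Finset.mem_filter, Finset.mem_univ, true_and]
  have memC : ∀ x, x ∈ fC ↔ x * z = z * x ∧ x * a = a * x := by
    intro q; simp only [fC, Finset.mem_filter, Finset.mem_univ, true_and]
  have memP : ∀ x, x ∈ fP ↔ x * z = z * x ∧ x * a * x⁻¹ * a⁻¹ ∈ Q := by
    intro q; simp only [fP, Finset.mem_filter, Finset.mem_univ, true_and]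
  have hmaps : ∀ p ∈ fC ×ˢ fQ, p.1 * p.2 ∈ fP := by
    rintro ⟨x, q⟩ hp
    rw [Finset.mem_product, memC, memQ] at hp
    rw [memP]
    refine ⟨mul_comm_z hp.1.1 (A.zc q hp.2), ?_⟩
    have hq' : a * q⁻¹ * a⁻¹ ∈ Q := S.base.hyp.nor a ha _ (Q.inv_mem hp.2)
    have e : x * q * a * (x * q)⁻¹ * a⁻¹ = x * (q * (a * q⁻¹ * a⁻¹)) * x⁻¹ := by
      have hxa : x⁻¹ * a⁻¹ = a⁻¹ * x⁻¹ := by
        rw [← mul_inv_rev, ← mul_inv_rev, hp.1.2]
      calc x * q * a * (x * q)⁻¹ * a⁻¹ = x * q * a * q⁻¹ * (x⁻¹ * a⁻¹) := by group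
        _ = x * q * a * q⁻¹ * (a⁻¹ * x⁻¹) := by rw [hxa]
        _ = x * (q * (a * q⁻¹ * a⁻¹)) * x⁻¹ := by group
    rw [e]
    exact S.base.hyp.nor x hp.1.1 _ (Q.mul_mem hp.2 hq')
  have hfib : ∀ b ∈ fP, ((fC ×ˢ fQ).filter (fun p => p.1 * p.2 = b)).card ≤ 4 := by
    intro b _
    rcases ((fC ×ˢ fQ).filter (fun p => p.1 * p.2 = b)).eq_empty_or_nonempty with h | ⟨p₀, hp₀⟩
    · rw [h]; exact Nat.zero_le _
    · rw [Finset.mem_filter, Finset.mem_product, memC, memQ] at hp₀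
      have h4 : ({1, z, s, s * z} : Finset G).card ≤ 4 := Finset.card_le_four
      refine le_trans ?_ h4
      apply Finset.card_le_card_of_injOn (fun p => p₀.1⁻¹ * p.1)
      · intro p hp
        rw [Finset.mem_coe, Finset.mem_filter, Finset.mem_product, memC, memQ] at hp
        rw [Finset.mem_coe]
        simp only [Finset.mem_insert, Finset.mem_singleton]
        have h1 : p₀.1⁻¹ * p.1 = p₀.2 * p.2⁻¹ := by
          have h3 : p.1 * p.2 = p₀.1 * p₀.2 := hp.2.trans hp₀.2.symm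
          calc p₀.1⁻¹ * p.1 = p₀.1⁻¹ * (p.1 * p.2) * p.2⁻¹ := by group
            _ = p₀.1⁻¹ * (p₀.1 * p₀.2) * p.2⁻¹ := by rw [h3]
            _ = p₀.2 * p.2⁻¹ := by group
        apply hC
        · rw [h1]; exact Q.mul_mem hp₀.1.2 (Q.inv_mem hp.1.2)
        · have h5 : p₀.1⁻¹ * a = a * p₀.1⁻¹ := by
            calc p₀.1⁻¹ * a = p₀.1⁻¹ * (a * p₀.1) * p₀.1⁻¹ := by group
              _ = p₀.1⁻¹ * (p₀.1 * a) * p₀.1⁻¹ := by rw [hp₀.1.1.2]
              _ = a * p₀.1⁻¹ := by group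
          calc a * (p₀.1⁻¹ * p.1) = (a * p₀.1⁻¹) * p.1 := by group
            _ = p₀.1⁻¹ * a * p.1 := by rw [h5]
            _ = p₀.1⁻¹ * (a * p.1) := by group
            _ = p₀.1⁻¹ * (p.1 * a) := by rw [hp.1.1.2]
            _ = p₀.1⁻¹ * p.1 * a := by group
      · intro p hp q hq h
        rw [Finset.mem_coe, Finset.mem_filter] at hp hq
        have h3 : p.1 = q.1 := mul_left_cancel h
        have h4 : p.1 * p.2 = q.1 * q.2 := hp.2.trans hq.2.symm
        rw [h3] at h4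
        exact Prod.ext h3 (mul_left_cancel h4)
  have h1 := Finset.card_le_mul_card_image_of_maps_to hmaps 4 hfib
  rw [Finset.card_product, cQ, cP] at h1
  rw [Nat.card_eq_fintype_card, Fintype.card_subtype]
  show fC.card ≤ 16
  omega

/-- the involutions of `C_G(z)` outside `Q`: at most 120, and every element of `C_G(z) \ Q` with
square in `Q` is `q x` with `x` such an involution -/
theorem I2_count (S : ZA5 z Q) :
    Nat.card {x : G // x * z = z * x ∧ x * x = 1 ∧ x ∉ Q} ≤ 120 ∧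
    (Nat.card {x : G // x * z = z * x ∧ x * x = 1 ∧ x ∉ Q} = 120 →
      ∀ b, b * z = z * b → b ∉ Q → b * b ∈ Q →
        ∃ x q, x * z = z * x ∧ x * x = 1 ∧ x ∉ Q ∧ q ∈ Q ∧ b = q * x) := by
  classical
  haveI : Fintype G := Fintype.ofFinite G
  have A := S.base.hyp.amb
  let fQ : Finset G := Finset.univ.filter (fun q => q ∈ Q)
  let fI : Finset G := Finset.univ.filter (fun x => x * z = z * x ∧ x * x = 1 ∧ x ∉ Q)
  let fT : Finset G := Finset.univ.filter (fun x => x * z = z * x ∧ x ∉ Q ∧ x * x ∈ Q)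
  have cQ : fQ.card = 32 := by rw [← card_subgroup_eq_filter, S.base.cardQ]
  have cT : fT.card = 480 := by
    have := S.card480
    rw [Nat.card_eq_fintype_card, Fintype.card_subtype] at this
    exact this
  have memQ : ∀ q, q ∈ fQ ↔ q ∈ Q := by
    intro q; simp only [fQ, Finset.mem_filter, Finset.mem_univ, true_and]
  have memI : ∀ x, x ∈ fI ↔ x * z = z * x ∧ x * x = 1 ∧ x ∉ Q := by
    intro q; simp only [fI, Finset.mem_filter, Finset.mem_univ, true_and]
  have memT : ∀ x, x ∈ fT ↔ x * z = z * x ∧ x ∉ Q ∧ x * x ∈ Q := by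
    intro q; simp only [fT, Finset.mem_filter, Finset.mem_univ, true_and]
  have hmaps : ∀ p ∈ fI ×ˢ fQ, p.2 * p.1 ∈ fT := by
    rintro ⟨x, q⟩ hp
    rw [Finset.mem_product, memI, memQ] at hp
    rw [memT]
    refine ⟨mul_comm_z (A.zc q hp.2) hp.1.1, ?_, ?_⟩
    · intro h
      apply hp.1.2.2
      have : x = q⁻¹ * (q * x) := by group
      rw [this]; exact Q.mul_mem (Q.inv_mem hp.2) h
    · have hxi : x⁻¹ = x := inv_eq_self_of_mul_self hp.1.2.1
      have e : q * x * (q * x) = q * (x * q * x⁻¹) := by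
        rw [hxi]; group
      show q * x * (q * x) ∈ Q
      rw [e]
      exact Q.mul_mem hp.2 (S.base.hyp.nor x hp.1.1 q hp.2)
  have hfib : ∀ b ∈ fT, ((fI ×ˢ fQ).filter (fun p => p.2 * p.1 = b)).card ≤ 8 := by
    intro b _
    rcases ((fI ×ˢ fQ).filter (fun p => p.2 * p.1 = b)).eq_empty_or_nonempty with h | ⟨p₀, hp₀⟩
    · rw [h]; exact Nat.zero_le _
    · rw [Finset.mem_filter, Finset.mem_product, memI, memQ] at hp₀
      obtain ⟨-, -, -, h8⟩ := S.struct p₀.1 hp₀.1.1.1 hp₀.1.1.2.1 hp₀.1.1.2.2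
      rw [Nat.card_eq_fintype_card, Fintype.card_subtype] at h8
      rw [← h8]
      apply Finset.card_le_card_of_injOn (fun p => p.1 * p₀.1⁻¹)
      · intro p hp
        rw [Finset.mem_coe, Finset.mem_filter, Finset.mem_product, memI, memQ] at hp
        rw [Finset.mem_coe, Finset.mem_filter]
        refine ⟨Finset.mem_univ _, ?_, ?_⟩
        · have h1 : p.1 * p₀.1⁻¹ = p.2⁻¹ * p₀.2 := by
            have h3 : p.2 * p.1 = p₀.2 * p₀.1 := hp.2.trans hp₀.2.symm
            calc p.1 * p₀.1⁻¹ = p.2⁻¹ * (p.2 * p.1) * p₀.1⁻¹ := by group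
              _ = p.2⁻¹ * (p₀.2 * p₀.1) * p₀.1⁻¹ := by rw [h3]
              _ = p.2⁻¹ * p₀.2 := by group
          show p.1 * p₀.1⁻¹ ∈ Q
          rw [h1]; exact Q.mul_mem (Q.inv_mem hp.1.2) hp₀.1.2
        · show p.1 * p₀.1⁻¹ * p₀.1 * (p.1 * p₀.1⁻¹ * p₀.1) = 1
          have : p.1 * p₀.1⁻¹ * p₀.1 = p.1 := by group
          rw [this]; exact hp.1.1.2.1
      · intro p hp q hq h
        rw [Finset.mem_coe, Finset.mem_filter] at hp hq
        have h3 : p.1 = q.1 := mul_right_cancel h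
        have h4 : p.2 * p.1 = q.2 * q.1 := hp.2.trans hq.2.symm
        rw [h3] at h4
        exact Prod.ext h3 (mul_right_cancel h4)
  have h1 := Finset.card_le_mul_card_image_of_maps_to hmaps 8 hfib
  rw [Finset.card_product, cQ, cT] at h1
  have hcI : Nat.card {x : G // x * z = z * x ∧ x * x = 1 ∧ x ∉ Q} = fI.card := by
    rw [Nat.card_eq_fintype_card, Fintype.card_subtype]
  rw [hcI]
  refine ⟨by omega, ?_⟩
  intro h120 b hbz hbQ hb2
  have himg : (fI ×ˢ fQ).image (fun p => p.2 * p.1) = fT := by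
    apply Finset.eq_of_subset_of_card_le
    · intro x hx
      obtain ⟨p, hp, rfl⟩ := Finset.mem_image.mp hx
      exact hmaps p hp
    · have h2 := Finset.card_le_mul_card_image (f := fun p : G × G => p.2 * p.1) (fI ×ˢ fQ) 8 (by
        intro b hb
        apply hfib b
        obtain ⟨p, hp, rfl⟩ := Finset.mem_image.mp hb
        exact hmaps p hp)
      rw [Finset.card_product, cQ, h120] at h2
      rw [cT]
      omega
  have hb : b ∈ (fI ×ˢ fQ).image (fun p => p.2 * p.1) := by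
    rw [himg, memT]; exact ⟨hbz, hbQ, hb2⟩
  obtain ⟨⟨x, q⟩, hp, rfl⟩ := Finset.mem_image.mp hb
  rw [Finset.mem_product, memI, memQ] at hp
  exact ⟨x, q, hp.1.1, hp.1.2.1, hp.1.2.2, hp.2, rfl⟩

/-- the class of an involution outside `Q` -/
theorem class_count (S : ZA5 z Q) (a : G) (ha : a * z = z * a) (ha2 : a * a = 1) (haQ : a ∉ Q) :
    Nat.card {x : G // x * z = z * x ∧ x * a = a * x} = 16 ∧
    Nat.card {x : G // x * z = z * x ∧ x * x = 1 ∧ x ∉ Q} = 120 ∧
    ∀ a', a' * z = z * a' → a' * a' = 1 → a' ∉ Q → ∃ h, h * z = z * h ∧ h * a * h⁻¹ = a' := by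
  classical
  haveI : Fintype G := Fintype.ofFinite G
  have A := S.base.hyp.amb
  let fH : Finset G := Finset.univ.filter (fun x => x * z = z * x)
  let fC : Finset G := Finset.univ.filter (fun x => x * z = z * x ∧ x * a = a * x)
  let fI : Finset G := Finset.univ.filter (fun x => x * z = z * x ∧ x * x = 1 ∧ x ∉ Q)
  have memH : ∀ x, x ∈ fH ↔ x * z = z * x := by
    intro q; simp only [fH, Finset.mem_filter, Finset.mem_univ, true_and]
  have memC : ∀ x, x ∈ fC ↔ x * z = z * x ∧ x * a = a * x := by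
    intro q; simp only [fC, Finset.mem_filter, Finset.mem_univ, true_and]
  have memI : ∀ x, x ∈ fI ↔ x * z = z * x ∧ x * x = 1 ∧ x ∉ Q := by
    intro q; simp only [fI, Finset.mem_filter, Finset.mem_univ, true_and]
  have cH : fH.card = 1920 := by
    rw [← S.cardH, Nat.card_eq_fintype_card, Fintype.card_subtype]
    congr 1
    ext x
    simp only [fH, Finset.mem_filter, Finset.mem_univ, true_and, mem_cent_iff]
  have cC : Nat.card {x : G // x * z = z * x ∧ x * a = a * x} = fC.card := by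
    rw [Nat.card_eq_fintype_card, Fintype.card_subtype]
  have cI : Nat.card {x : G // x * z = z * x ∧ x * x = 1 ∧ x ∉ Q} = fI.card := by
    rw [Nat.card_eq_fintype_card, Fintype.card_subtype]
  have hC16 := S.cent16_le a ha ha2 haQ
  have hI120 := S.I2_count.1
  rw [cC] at hC16 ⊢
  rw [cI] at hI120 ⊢
  -- the orbit map
  have hmaps : ∀ h ∈ fH, h * a * h⁻¹ ∈ fI := by
    intro h hh
    rw [memH] at hh
    rw [memI]
    refine ⟨?_, ?_, ?_⟩
    · exact mul_comm_z (mul_comm_z hh ha) (inv_comm_z hh)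
    · calc h * a * h⁻¹ * (h * a * h⁻¹) = h * (a * a) * h⁻¹ := by group
        _ = 1 := by rw [ha2]; group
    · intro hcon
      apply haQ
      have := S.base.hyp.nor h⁻¹ (inv_comm_z hh) _ hcon
      have e : h⁻¹ * (h * a * h⁻¹) * h⁻¹⁻¹ = a := by group
      rw [e] at this
      exact this
  have hfib : ∀ b ∈ fI, (fH.filter (fun h => h * a * h⁻¹ = b)).card ≤ fC.card := by
    intro b _
    rcases (fH.filter (fun h => h * a * h⁻¹ = b)).eq_empty_or_nonempty with h | ⟨h₀, hh₀⟩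
    · rw [h]; exact Nat.zero_le _
    · rw [Finset.mem_filter, memH] at hh₀
      apply Finset.card_le_card_of_injOn (fun h => h₀⁻¹ * h)
      · intro h hh
        rw [Finset.mem_coe, Finset.mem_filter, memH] at hh
        rw [Finset.mem_coe, memC]
        refine ⟨mul_comm_z (inv_comm_z hh₀.1) hh.1, ?_⟩
        have h1 : h * a * h⁻¹ = h₀ * a * h₀⁻¹ := hh.2.trans hh₀.2.symm
        calc h₀⁻¹ * h * a = h₀⁻¹ * (h * a * h⁻¹) * h := by group
          _ = h₀⁻¹ * (h₀ * a * h₀⁻¹) * h := by rw [h1]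
          _ = a * (h₀⁻¹ * h) := by group
      · intro p _ q _ h
        exact mul_left_cancel h
  have h1 := Finset.card_le_mul_card_image (f := fun h : G => h * a * h⁻¹) fH fC.card (by
    intro b hb
    apply hfib b
    obtain ⟨p, hp, rfl⟩ := Finset.mem_image.mp hb
    exact hmaps p hp)
  rw [cH] at h1
  have hsub : fH.image (fun h => h * a * h⁻¹) ⊆ fI := by
    intro x hx
    obtain ⟨p, hp, rfl⟩ := Finset.mem_image.mp hx
    exact hmaps p hp
  have h2 := Finset.card_le_card hsub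
  have h3 : 1920 ≤ fC.card * fI.card := le_trans h1 (Nat.mul_le_mul_left _ h2)
  have hC : fC.card = 16 := by nlinarith
  have hI : fI.card = 120 := by nlinarith
  refine ⟨hC, hI, ?_⟩
  have himg : fH.image (fun h => h * a * h⁻¹) = fI := by
    apply Finset.eq_of_subset_of_card_le hsub
    rw [hC] at h1
    rw [hI]
    omega
  intro a' ha' ha'2 ha'Q
  have : a' ∈ fH.image (fun h => h * a * h⁻¹) := by
    rw [himg, memI]; exact ⟨ha', ha'2, ha'Q⟩
  obtain ⟨h, hh, rfl⟩ := Finset.mem_image.mp this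
  rw [memH] at hh
  exact ⟨h, hh, rfl⟩

/-- the consequences package -/
theorem toZP (S : ZA5 z Q) (hex : ∃ a, a * z = z * a ∧ a * a = 1 ∧ a ∉ Q) : ZP z Q := by
  refine ⟨S.base, S.cardH, ?_, ?_, ?_, ?_, ?_, hex, ?_⟩
  · intro a ha ha2 haQ
    exact (S.struct a ha ha2 haQ).1
  · intro a ha ha2 haQ
    exact (S.class_count a ha ha2 haQ).1
  · intro a a' ha ha2 haQ ha' ha'2 ha'Q
    exact (S.class_count a ha ha2 haQ).2.2 a' ha' ha'2 ha'Q
  · intro b hb hbQ hb2
    obtain ⟨a, ha, ha2, haQ⟩ := hex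
    have h120 := (S.class_count a ha ha2 haQ).2.1
    obtain ⟨x, q, hx, hx2, hxQ, hq, rfl⟩ := S.I2_count.2 h120 b hb hbQ hb2
    exact (S.struct x hx hx2 hxQ).2.2.1 q hq
  · intro a b ha ha2 haQ hb hba
    apply S.centsq a b ha haQ (by rw [ha2]; exact Q.one_mem) hb
    have : b * a * b⁻¹ * a⁻¹ = 1 := by rw [hba]; group
    rw [this]; exact Q.one_mem
  · obtain ⟨a, ha, ha2, haQ⟩ := hex
    exact (S.class_count a ha ha2 haQ).2.1

end ZA5

end Cfsg.Agent.Lib.Helper14.J2Rec
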