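import Mathlib
import Cfsg.Agent.Lib.Helper14.J2RecF

/-!
helper14: S1721 / S5382, part G: transport of the package `ZP z Q` along an automorphism of `G`, in
particular along conjugation.
-/

set_option autoImplicit false
open scoped commutatorElement

namespace Cfsg.Agent.Lib.Helper14.J2Rec

open Cfsg.Agent.Lib.Helper14.EO2 Cfsg.Agent.Lib.Helper14.LES Cfsg.Agent.Lib.Helper20.ES
open Cfsg.Agent.Lib.Helper14.J2Ord

variable {G : Type*} [Group G] [Finite G]

section transport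

variable (φ : G ≃* G)

theorem map_comm_iff (x y : G) : φ x * φ y = φ y * φ x ↔ x * y = y * x := by
  rw [← map_mul, ← map_mul, φ.injective.eq_iff]

theorem map_sq_iff (x : G) : φ x * φ x = 1 ↔ x * x = 1 := by
  rw [← map_mul, map_eq_one_iff φ φ.injective]

theorem map_mem_iff (Q : Subgroup G) (x : G) : φ x ∈ Q.map φ.toMonoidHom ↔ x ∈ Q :=
  Subgroup.mem_map_iff_mem φ.injective

end transport

namespace ZP

variable {z : G} {Q : Subgroup G}

/-- transport along an automorphism -/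
theorem map (S : ZP z Q) (φ : G ≃* G) (hyp' : Hyp (φ z) (Q.map φ.toMonoidHom)) :
    ZP (φ z) (Q.map φ.toMonoidHom) := by
  have hI1 : ∀ s, IsI1 z Q s → IsI1 (φ z) (Q.map φ.toMonoidHom) (φ s) := by
    rintro s ⟨h1, h2, h3, h4⟩
    refine ⟨(map_mem_iff φ Q s).mpr h1, (map_sq_iff φ s).mpr h2, ?_, ?_⟩
    · intro h; exact h3 ((map_eq_one_iff φ φ.injective).mp h)
    · intro h; exact h4 (φ.injective h)
  refine ⟨⟨hyp', ?_, ?_⟩, ?_, ?_, ?_, ?_, ?_, ?_, ?_, ?_⟩
  · rw [Subgroup.card_map_of_injective φ.injective]; exact S.base.cardQ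
  · obtain ⟨f, hfz, hf5⟩ := S.base.ex5
    exact ⟨φ f, (map_comm_iff φ f z).mpr hfz, by rw [MulEquiv.orderOf_eq]; exact hf5⟩
  · rw [← S.cardH]
    symm
    apply Nat.card_congr
    refine φ.toEquiv.subtypeEquiv ?_
    intro x
    rw [mem_cent_iff, mem_cent_iff]
    exact (map_comm_iff φ x z).symm
  · intro a' ha' ha'2 ha'Q
    obtain ⟨a, rfl⟩ := φ.surjective a'
    obtain ⟨s, hsI, hsa, hC⟩ := S.cent4 a ((map_comm_iff φ a z).mp ha') ((map_sq_iff φ a).mp ha'2)
      (fun h => ha'Q ((map_mem_iff φ Q a).mpr h))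
    refine ⟨φ s, hI1 s hsI, (map_comm_iff φ a s).mpr hsa, ?_⟩
    rintro q' ⟨q, hq, rfl⟩ hq'
    have hq'' : a * q = q * a := (map_comm_iff φ a q).mp hq'
    rcases hC q hq hq'' with h | h | h | h
    · left; rw [h]; exact map_one φ
    · right; left; rw [h]; rfl
    · right; right; left; rw [h]; rfl
    · right; right; right; rw [h]; exact map_mul φ s z
  · intro a' ha' ha'2 ha'Q
    obtain ⟨a, rfl⟩ := φ.surjective a'
    rw [← S.cent16 a ((map_comm_iff φ a z).mp ha') ((map_sq_iff φ a).mp ha'2)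
      (fun h => ha'Q ((map_mem_iff φ Q a).mpr h))]
    symm
    apply Nat.card_congr
    refine φ.toEquiv.subtypeEquiv ?_
    intro x
    show _ ↔ φ x * φ z = φ z * φ x ∧ φ x * φ a = φ a * φ x
    rw [map_comm_iff, map_comm_iff]
  · intro a' b' ha' ha'2 ha'Q hb' hb'2 hb'Q
    obtain ⟨a, rfl⟩ := φ.surjective a'
    obtain ⟨b, rfl⟩ := φ.surjective b'
    obtain ⟨h, hh, hhab⟩ := S.conjH a b ((map_comm_iff φ a z).mp ha') ((map_sq_iff φ a).mp ha'2)
      (fun h => ha'Q ((map_mem_iff φ Q a).mpr h)) ((map_comm_iff φ b z).mp hb')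
      ((map_sq_iff φ b).mp hb'2) (fun h => hb'Q ((map_mem_iff φ Q b).mpr h))
    refine ⟨φ h, (map_comm_iff φ h z).mpr hh, ?_⟩
    rw [← hhab, map_mul, map_mul, map_inv]
  · intro b' hb' hb'Q hb'2
    obtain ⟨b, rfl⟩ := φ.surjective b'
    have h2 : b * b ∈ Q := by
      rw [← map_mul] at hb'2
      exact (map_mem_iff φ Q _).mp hb'2
    have := S.sqz b ((map_comm_iff φ b z).mp hb') (fun h => hb'Q ((map_mem_iff φ Q b).mpr h)) h2
    intro h
    apply this
    rw [← map_mul] at h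
    exact φ.injective h
  · intro a' b' ha' ha'2 ha'Q hb' hba'
    obtain ⟨a, rfl⟩ := φ.surjective a'
    obtain ⟨b, rfl⟩ := φ.surjective b'
    have := S.sqQ a b ((map_comm_iff φ a z).mp ha') ((map_sq_iff φ a).mp ha'2)
      (fun h => ha'Q ((map_mem_iff φ Q a).mpr h)) ((map_comm_iff φ b z).mp hb')
      ((map_comm_iff φ b a).mp hba')
    rw [← map_mul]
    exact (map_mem_iff φ Q _).mpr this
  · obtain ⟨a, ha, ha2, haQ⟩ := S.exI2
    exact ⟨φ a, (map_comm_iff φ a z).mpr ha, (map_sq_iff φ a).mpr ha2,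
      fun h => haQ ((map_mem_iff φ Q a).mp h)⟩
  · rw [← S.cardI2]
    symm
    apply Nat.card_congr
    refine φ.toEquiv.subtypeEquiv ?_
    intro x
    show _ ↔ φ x * φ z = φ z * φ x ∧ φ x * φ x = 1 ∧ φ x ∉ Q.map φ.toMonoidHom
    rw [map_comm_iff, map_sq_iff, map_mem_iff]

/-- transport along conjugation -/
theorem conj (S : ZP z Q) (g : G) :
    ZP (g * z * g⁻¹) (Q.map (MulAut.conj g).toMonoidHom) :=
  S.map (MulAut.conj g) (S.base.hyp.conj g)

end ZP

end Cfsg.Agent.Lib.Helper14.J2Rec
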