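import Mathlib
import Cfsg.Agent.Lib.Helper14.J2OrdD
import Cfsg.Agent.Lib.Helper14.J2RecE

/-!
helper14: S1721 / S5382, part H: an abstract configuration `KCfg J E a d e₀` in a finite group `M`:
`J` elementary abelian of order 16, `E ≤ J` of order 4 with `C_M(e) = J` for `1 ≠ e ∈ E`, a central
involution `a ∈ J \ E`, `N_M(J)` normalizes `E`, and `d` moves `e₀ ∈ E` inside `E`.
Elementary consequences: elements of `N_M(J) \ J` act on `E \ 1` as 3-cycles, `C_J(n)` has order 4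
and complements `E` in `J`, and `[J, N_M(J)] ≤ E`.
-/

set_option autoImplicit false
open scoped commutatorElement

namespace Cfsg.Agent.Lib.Helper14.J2Rec

open Cfsg.Agent.Lib.Helper14.J2Ord

theorem comm_of_sq' {M : Type*} [Group M] {a b : M} (ha : a * a = 1) (hb : b * b = 1)
    (hab : (a * b) * (a * b) = 1) : b * a = a * b := by
  calc b * a = (a * a) * (b * a) * (b * b) := by rw [ha, hb, one_mul, mul_one]
    _ = a * ((a * b) * (a * b)) * b := by group
    _ = a * b := by rw [hab, mul_one]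

/-- the configuration inside the centralizer `M` of a `t`-type involution -/
structure KCfg {M : Type*} [Group M] (J E : Subgroup M) (a d e₀ : M) : Prop where
  EJ : E ≤ J
  cardJ : Nat.card ↥J = 16
  J2 : ∀ x ∈ J, x * x = 1
  cardE : Nat.card ↥E = 4
  cent : ∀ e ∈ E, e ≠ 1 → ∀ x : M, x * e = e * x → x ∈ J
  aJ : a ∈ J
  aE : a ∉ E
  ac : ∀ x : M, x * a = a * x
  norm : ∀ n : M, (∀ x ∈ J, n * x * n⁻¹ ∈ J) → ∀ e ∈ E, n * e * n⁻¹ ∈ E
  e₀E : e₀ ∈ E
  e₀1 : e₀ ≠ 1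
  dE : d * e₀ * d⁻¹ ∈ E
  dne : d * e₀ * d⁻¹ ≠ e₀

namespace KCfg

variable {M : Type*} [Group M] {J E : Subgroup M} {a d e₀ : M}

theorem inv_J (K : KCfg J E a d e₀) {x : M} (hx : x ∈ J) : x⁻¹ = x :=
  inv_eq_of_mul_eq_one_right (K.J2 x hx)

theorem comm (K : KCfg J E a d e₀) {x y : M} (hx : x ∈ J) (hy : y ∈ J) : x * y = y * x :=
  (comm_of_sq' (K.J2 y hy) (K.J2 x hx) (K.J2 _ (J.mul_mem hy hx)))

theorem a1 (K : KCfg J E a d e₀) : a ≠ 1 := fun h => K.aE (h ▸ E.one_mem)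

theorem conj_ne_one {n e : M} (he : e ≠ 1) : n * e * n⁻¹ ≠ 1 :=
  fun h => he (conj_eq_one_iff.mp h)

/-- an element moving some `1 ≠ e ∈ E` into `E` normalizes `J` -/
theorem normalizes_of_move (K : KCfg J E a d e₀) {n e : M} (he : e ∈ E) (he1 : e ≠ 1)
    (hne : n * e * n⁻¹ ∈ E) : ∀ x ∈ J, n * x * n⁻¹ ∈ J := by
  intro x hx
  apply K.cent (n * e * n⁻¹) hne (conj_ne_one he1)
  have h := K.comm hx (K.EJ he)
  calc n * x * n⁻¹ * (n * e * n⁻¹) = n * (x * e) * n⁻¹ := by group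
    _ = n * (e * x) * n⁻¹ := by rw [h]
    _ = n * e * n⁻¹ * (n * x * n⁻¹) := by group

/-- enumeration of `E` -/
theorem E_enum [Finite M] (K : KCfg J E a d e₀) {e e' : M} (he : e ∈ E) (he1 : e ≠ 1)
    (he' : e' ∈ E) (he'1 : e' ≠ 1) (hee' : e ≠ e') {w : M} (hw : w ∈ E) :
    w = 1 ∨ w = e ∨ w = e' ∨ w = e * e' := by
  classical
  haveI : Fintype M := Fintype.ofFinite M
  let fE : Finset M := Finset.univ.filter (fun x => x ∈ E)
  have cE : fE.card = 4 := by rw [← card_subgroup_eq_filter, K.cardE]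
  have memE : ∀ x, x ∈ fE ↔ x ∈ E := by
    intro x; simp only [fE, Finset.mem_filter, Finset.mem_univ, true_and]
  have hei : e⁻¹ = e := K.inv_J (K.EJ he)
  have hsub : ({1, e, e', e * e'} : Finset M) ⊆ fE := by
    intro x hx
    simp only [Finset.mem_insert, Finset.mem_singleton] at hx
    rw [memE]
    rcases hx with rfl | rfl | rfl | rfl
    · exact E.one_mem
    · exact he
    · exact he'
    · exact E.mul_mem he he'
  have hcard4 : ({1, e, e', e * e'} : Finset M).card = 4 := by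
    have h1 : (1 : M) ≠ e := fun h => he1 h.symm
    have h2 : (1 : M) ≠ e' := fun h => he'1 h.symm
    have h3 : (1 : M) ≠ e * e' := by
      intro h
      apply hee'
      have : e' = e⁻¹ := eq_inv_of_mul_eq_one_right h.symm
      rw [this, hei]
    have h5 : e ≠ e * e' := by
      intro h
      apply he'1
      have : e * 1 = e * e' := by rw [mul_one]; exact h
      exact (mul_left_cancel this).symm
    have h6 : e' ≠ e * e' := by
      intro h
      apply he1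
      have : 1 * e' = e * e' := by rw [one_mul]; exact h
      exact (mul_right_cancel this).symm
    rw [Finset.card_insert_of_notMem, Finset.card_insert_of_notMem,
      Finset.card_insert_of_notMem, Finset.card_singleton]
    · simp only [Finset.mem_singleton]; exact h6
    · simp only [Finset.mem_insert, Finset.mem_singleton]; tauto
    · simp only [Finset.mem_insert, Finset.mem_singleton]; tauto
  have heq : ({1, e, e', e * e'} : Finset M) = fE :=
    Finset.eq_of_subset_of_card_le hsub (by rw [cE, hcard4])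
  have hwE : w ∈ fE := (memE w).mpr hw
  rw [← heq] at hwE
  simpa only [Finset.mem_insert, Finset.mem_singleton] using hwE

/-- an element of `N_M(J)` fixing some `1 ≠ e ∈ E` lies in `J` -/
theorem mem_of_fix (K : KCfg J E a d e₀) {n e : M} (he : e ∈ E) (he1 : e ≠ 1)
    (h : n * e * n⁻¹ = e) : n ∈ J := by
  apply K.cent e he he1
  calc n * e = n * e * n⁻¹ * n := by group
    _ = e * n := by rw [h]

/-- elements of `N_M(J)` act on `E \ 1` as 3-cycles or trivially -/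
theorem cyc [Finite M] (K : KCfg J E a d e₀) {n : M} (hn : ∀ x ∈ J, n * x * n⁻¹ ∈ J) {e : M}
    (he : e ∈ E) (he1 : e ≠ 1) (hmove : n * e * n⁻¹ ≠ e) :
    n * (n * e * n⁻¹) * n⁻¹ = e * (n * e * n⁻¹) ∧ n * (e * (n * e * n⁻¹)) * n⁻¹ = e := by
  have hE := K.norm n hn
  have he' : n * e * n⁻¹ ∈ E := hE e he
  have he'1 : n * e * n⁻¹ ≠ 1 := conj_ne_one he1
  have he'' : n * (n * e * n⁻¹) * n⁻¹ ∈ E := hE _ he'
  have hnJ : n ∉ J := by
    intro h
    apply hmove
    have := K.comm h (K.EJ he)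
    rw [this]; group
  have hcomm : e * (n * e * n⁻¹) = (n * e * n⁻¹) * e := K.comm (K.EJ he) (K.EJ he')
  have hprod : ∀ x y : M, n * (x * y) * n⁻¹ = (n * x * n⁻¹) * (n * y * n⁻¹) := by
    intro x y; group
  have key : n * (n * e * n⁻¹) * n⁻¹ = e * (n * e * n⁻¹) := by
    rcases K.E_enum he he1 he' he'1 (fun h => hmove h.symm) he'' with h | h | h | h
    · exact absurd h (conj_ne_one he'1)
    · -- swap: then `e e'` is fixed
      exfalso
      apply hnJ
      apply K.mem_of_fix (E.mul_mem he he') (e := e * (n * e * n⁻¹))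
      · intro h1
        apply hmove
        have : n * e * n⁻¹ = e⁻¹ := eq_inv_of_mul_eq_one_right h1
        rw [this, K.inv_J (K.EJ he)]
      · rw [hprod, h, hcomm]
    · exfalso
      apply hmove
      have h1 : n * e * n⁻¹ = e := by
        have := mul_left_cancel (mul_right_cancel h)
        exact this
      exact h1
    · exact h
  refine ⟨key, ?_⟩
  rw [hprod, key]
  have h2 : (n * e * n⁻¹) * (n * e * n⁻¹) = 1 := K.J2 _ (K.EJ he')
  calc n * e * n⁻¹ * (e * (n * e * n⁻¹)) = n * e * n⁻¹ * ((n * e * n⁻¹) * e) := by rw [hcomm]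
    _ = (n * e * n⁻¹ * (n * e * n⁻¹)) * e := by group
    _ = e := by rw [h2, one_mul]

/-- `n³ ∈ J` for `n ∈ N_M(J)` -/
theorem cube_mem [Finite M] (K : KCfg J E a d e₀) {n : M} (hn : ∀ x ∈ J, n * x * n⁻¹ ∈ J) :
    n ^ 3 ∈ J := by
  by_cases hmove : n * e₀ * n⁻¹ = e₀
  · exact J.pow_mem (K.mem_of_fix K.e₀E K.e₀1 hmove) 3
  · obtain ⟨h1, h2⟩ := K.cyc hn K.e₀E K.e₀1 hmove
    apply K.mem_of_fix K.e₀E K.e₀1
    calc n ^ 3 * e₀ * (n ^ 3)⁻¹ = n * (n * (n * e₀ * n⁻¹) * n⁻¹) * n⁻¹ := by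
          rw [pow_succ, pow_two]; group
      _ = e₀ := by rw [h1, h2]

/-- elements of `N_M(J) \ J` have no fixed points on `E \ 1` -/
theorem fpf (K : KCfg J E a d e₀) {n : M} (hnJ : n ∉ J) {e : M} (he : e ∈ E)
    (h : n * e * n⁻¹ = e) : e = 1 := by
  by_contra he1
  exact hnJ (K.mem_of_fix he he1 h)

section fix

variable [Finite M]

/-- `C_J(n)` for `n ∈ N_M(J) \ J` has order 4 and complements `E` -/
theorem fix4 (K : KCfg J E a d e₀) {n : M} (hn : ∀ x ∈ J, n * x * n⁻¹ ∈ J) (hnJ : n ∉ J) :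
    Nat.card ↥(J ⊓ Subgroup.centralizer ({n} : Set M)) = 4 ∧
    ∀ x ∈ J, ∃ v ∈ J ⊓ Subgroup.centralizer ({n} : Set M), ∃ e ∈ E, x = v * e := by
  classical
  have hn3 := K.cube_mem hn
  have hconj3 : ∀ x ∈ J, n * (n * (n * x * n⁻¹) * n⁻¹) * n⁻¹ = x := by
    intro x hx
    have h1 : n * (n * (n * x * n⁻¹) * n⁻¹) * n⁻¹ = n ^ 3 * x * (n ^ 3)⁻¹ := by
      rw [pow_succ, pow_two]; group
    rw [h1, K.comm hn3 hx]; group
  -- the permutation of `J`
  let σ : Equiv.Perm ↥J :=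
    { toFun := fun x => ⟨n * x.1 * n⁻¹, hn x.1 x.2⟩
      invFun := fun x => ⟨n * (n * x.1 * n⁻¹) * n⁻¹, hn _ (hn x.1 x.2)⟩
      left_inv := fun x => Subtype.ext (hconj3 x.1 x.2)
      right_inv := fun x => Subtype.ext (hconj3 x.1 x.2) }
  have hσ3 : σ ^ 3 = 1 := by
    ext x
    show n * (n * (n * x.1 * n⁻¹) * n⁻¹) * n⁻¹ = x.1
    exact hconj3 x.1 x.2
  have hσ1 : σ ≠ 1 := by
    intro h
    have h1 : σ ⟨e₀, K.EJ K.e₀E⟩ = ⟨e₀, K.EJ K.e₀E⟩ := by rw [h]; rfl
    have h2 : n * e₀ * n⁻¹ = e₀ := congrArg Subtype.val h1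
    exact K.e₀1 (K.fpf hnJ K.e₀E h2)
  haveI : Fact (Nat.Prime 3) := ⟨by norm_num⟩
  have hord : orderOf σ = 3 := orderOf_eq_prime hσ3 hσ1
  have hmod := card_modEq_fixed' (X := ↥J) σ 3 hord
  rw [K.cardJ] at hmod
  let C : Subgroup M := J ⊓ Subgroup.centralizer ({n} : Set M)
  have hCmem : ∀ x, x ∈ C ↔ x ∈ J ∧ n * x * n⁻¹ = x := by
    intro x
    show x ∈ J ⊓ Subgroup.centralizer ({n} : Set M) ↔ _
    rw [Subgroup.mem_inf, Cfsg.Agent.Lib.Helper14.LES.mem_cent_iff]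
    constructor
    · rintro ⟨h1, h2⟩
      refine ⟨h1, ?_⟩
      rw [← h2]; group
    · rintro ⟨h1, h2⟩
      refine ⟨h1, ?_⟩
      calc x * n = n * x * n⁻¹ * n := by rw [h2]
        _ = n * x := by group
  have efix : {x : ↥J // σ • x = x} ≃ ↥C :=
    { toFun := fun x => ⟨x.1.1, (hCmem _).mpr ⟨x.1.2, congrArg Subtype.val x.2⟩⟩
      invFun := fun x => ⟨⟨x.1, ((hCmem _).mp x.2).1⟩, Subtype.ext ((hCmem _).mp x.2).2⟩
      left_inv := fun x => rfl
      right_inv := fun x => rfl }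
  rw [Nat.card_congr efix] at hmod
  have hCJ : C ≤ J := inf_le_left
  have hdvd : Nat.card ↥C ∣ 16 := K.cardJ ▸ Subgroup.card_dvd_of_le hCJ
  have haC : a ∈ C := (hCmem a).mpr ⟨K.aJ, by rw [K.ac n]; group⟩
  have hC1 : Nat.card ↥C ≠ 1 := by
    intro h
    have : ∀ x : ↥C, x = 1 := by
      haveI := (Nat.card_eq_one_iff_unique.mp h).1
      intro x
      exact Subsingleton.elim _ _
    exact K.a1 (congrArg Subtype.val (this ⟨a, haC⟩))
  have hC16 : Nat.card ↥C ≠ 16 := by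
    intro h
    have : C = J := Subgroup.eq_of_le_of_card_ge hCJ (by rw [h, K.cardJ])
    have h1 : e₀ ∈ C := this ▸ K.EJ K.e₀E
    exact K.e₀1 (K.fpf hnJ K.e₀E ((hCmem e₀).mp h1).2)
  have hC4 : Nat.card ↥C = 4 := by
    have h16 : (16 : ℕ) = 2 ^ 4 := by norm_num
    rw [h16] at hdvd
    obtain ⟨j, hj, hj2⟩ := (Nat.dvd_prime_pow Nat.prime_two).mp hdvd
    rw [hj2] at hmod hC1 hC16 ⊢
    interval_cases j <;> simp_all [Nat.ModEq]
  refine ⟨hC4, ?_⟩
  -- `C E = J`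
  have hdisj : ∀ x, x ∈ C → x ∈ E → x = 1 := by
    intro x hxC hxE
    exact K.fpf hnJ hxE ((hCmem x).mp hxC).2
  have hnorm : ∀ h ∈ C, ∀ e ∈ E, h * e * h⁻¹ ∈ E := by
    intro h hh e he
    rw [K.comm (hCJ hh) (K.EJ he)]
    have : e * h * h⁻¹ = e := by group
    rw [this]; exact he
  have hsup : C ⊔ E = J := by
    apply Subgroup.eq_of_le_of_card_ge (sup_le hCJ K.EJ)
    rw [card_sup_of_normalizes C E hnorm hdisj, hC4, K.cardE, K.cardJ]
  intro x hx
  have hx' : x ∈ C ⊔ E := hsup ▸ hx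
  obtain ⟨v, hv, e, he, rfl⟩ := mem_sup_of_normalizes C E hnorm hx'
  exact ⟨v, hv, e, he, rfl⟩

/-- `[J, N_M(J)] ≤ E` -/
theorem comm_mem_E (K : KCfg J E a d e₀) {n : M} (hn : ∀ x ∈ J, n * x * n⁻¹ ∈ J) {x : M}
    (hx : x ∈ J) : x * (n * x * n⁻¹) ∈ E := by
  by_cases hnJ : n ∈ J
  · have : n * x * n⁻¹ = x := by rw [K.comm hnJ hx]; group
    rw [this, K.J2 x hx]
    exact E.one_mem
  · obtain ⟨-, hdec⟩ := K.fix4 hn hnJ
    obtain ⟨v, hv, e, he, rfl⟩ := hdec x hx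
    rw [Subgroup.mem_inf, Cfsg.Agent.Lib.Helper14.LES.mem_cent_iff] at hv
    have hvn : n * v * n⁻¹ = v := by rw [← hv.2]; group
    have he' : n * e * n⁻¹ ∈ E := K.norm n hn e he
    have e1 : n * (v * e) * n⁻¹ = v * (n * e * n⁻¹) := by
      calc n * (v * e) * n⁻¹ = (n * v * n⁻¹) * (n * e * n⁻¹) := by group
        _ = v * (n * e * n⁻¹) := by rw [hvn]
    rw [e1]
    have h2 : v * e * (v * (n * e * n⁻¹)) = e * (n * e * n⁻¹) := by
      calc v * e * (v * (n * e * n⁻¹)) = v * (e * v) * (n * e * n⁻¹) := by group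
        _ = v * (v * e) * (n * e * n⁻¹) := by rw [K.comm (K.EJ he) hv.1]
        _ = (v * v) * e * (n * e * n⁻¹) := by group
        _ = e * (n * e * n⁻¹) := by rw [K.J2 v hv.1, one_mul]
    rw [h2]
    exact E.mul_mem he he'

end fix

end KCfg

end Cfsg.Agent.Lib.Helper14.J2Rec
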