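import Mathlib
import Cfsg.Agent.Lib.Helper1.Focal
import Cfsg.Agent.Lib.Helper14.J2RecH

/-!
helper14: S1721 / S5382, part I: in the configuration `KCfg J E a d e₀`: `J` is a Sylow 2-subgroup of
`M`, its focal subgroup is `E`, and so `M` has a normal subgroup `B` of index 4 with `B ∩ J = E`.
-/

set_option autoImplicit false
open scoped commutatorElement

namespace Cfsg.Agent.Lib.Helper14.J2Rec

open Cfsg.Agent.Lib.Helper14.J2Ord

namespace KCfg

variable {M : Type*} [Group M] [Finite M] {J E : Subgroup M} {a d e₀ : M}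

/-- `J` is a Sylow 2-subgroup -/
theorem exists_sylow (K : KCfg J E a d e₀) : ∃ P : Sylow 2 M, (P : Subgroup M) = J := by
  haveI : Fact (Nat.Prime 2) := ⟨Nat.prime_two⟩
  have hJp : IsPGroup 2 ↥J := IsPGroup.of_card (n := 4) (by rw [K.cardJ]; norm_num)
  obtain ⟨P, hP⟩ := hJp.exists_le_sylow
  refine ⟨P, ?_⟩
  by_contra hne
  have hPJ : ¬ (P : Subgroup M) ≤ J := fun h => hne (le_antisymm h hP)
  haveI : Group.IsNilpotent ↥(P : Subgroup M) := P.2.isNilpotent
  have hNC := normalizerCondition_of_isNilpotent (G := ↥(P : Subgroup M))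
  have hlt : J.subgroupOf (P : Subgroup M) < ⊤ := by
    rw [lt_top_iff_ne_top, Ne, Subgroup.subgroupOf_eq_top]
    exact hPJ
  have h2 := hNC _ hlt
  obtain ⟨y, hyN, hyJ⟩ := SetLike.exists_of_lt h2
  rw [Subgroup.mem_normalizer_iff] at hyN
  have hyn : ∀ x ∈ J, (y : M) * x * (y : M)⁻¹ ∈ J := by
    intro x hx
    have h3 : (⟨x, hP hx⟩ : ↥(P : Subgroup M)) ∈ J.subgroupOf (P : Subgroup M) := by
      rw [Subgroup.mem_subgroupOf]; exact hx
    have h4 := (hyN _).mp h3
    rw [Subgroup.mem_subgroupOf] at h4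
    exact h4
  have hyJ' : (y : M) ∉ J := by
    intro h
    apply hyJ
    rw [Subgroup.mem_subgroupOf]; exact h
  have h3 := K.cube_mem hyn
  obtain ⟨k, hk⟩ := (IsPGroup.iff_orderOf.mp P.2) y
  have hk' : orderOf (y : M) = 2 ^ k := by rw [Subgroup.orderOf_coe]; exact hk
  have hcop : Nat.Coprime 3 (orderOf (y : M)) := by
    rw [hk']
    exact Nat.Coprime.pow_right k (by norm_num)
  obtain ⟨m, hm⟩ := exists_pow_eq_self_of_coprime hcop
  apply hyJ'
  rw [← hm]
  exact J.pow_mem h3 m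

/-- the focal subgroup of `J` is `E` -/
theorem focal_eq (K : KCfg J E a d e₀) (P : Sylow 2 M) (hP : (P : Subgroup M) = J) :
    (P : Subgroup M).focalSubgroup = E := by
  haveI : Fact (Nat.Prime 2) := ⟨Nat.prime_two⟩
  haveI : IsMulCommutative ↥(P : Subgroup M) :=
    ⟨⟨fun x y => Subtype.ext (K.comm (hP ▸ x.2) (hP ▸ y.2))⟩⟩
  apply le_antisymm
  · refine le_trans (Cfsg.Agent.Lib.Helper1.focalSubgroup_le_commutator_normalizer_of_abelian P) ?_
    rw [Subgroup.commutator_le]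
    intro x hx n hn
    rw [hP] at hx
    rw [hP, Subgroup.mem_normalizer_iff] at hn
    have hn' : ∀ y ∈ J, n * y * n⁻¹ ∈ J := fun y hy => (hn y).mp hy
    have h1 := K.comm_mem_E hn' hx
    have h2 : ⁅x, n⁆ = x * (n * x * n⁻¹) := by
      rw [commutatorElement_def]
      have hxi : x⁻¹ = x := K.inv_J hx
      calc x * n * x⁻¹ * n⁻¹ = x * (n * x⁻¹ * n⁻¹) := by group
        _ = x * (n * x * n⁻¹) := by rw [hxi]
    rw [h2]; exact h1
  · -- `E ≤ P*`
    have hdn := K.normalizes_of_move K.e₀E K.e₀1 K.dE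
    obtain ⟨h1, h2⟩ := K.cyc hdn K.e₀E K.e₀1 K.dne
    have he₀J := K.EJ K.e₀E
    have he₁J := K.EJ K.dE
    have hgen : ∀ x ∈ E, x * (d * x * d⁻¹) ∈ (P : Subgroup M).focalSubgroup := by
      intro x hx
      apply Subgroup.subset_closure
      have hxJ := K.EJ hx
      refine ⟨?_, x, hP ▸ hxJ, d, ?_⟩
      · rw [hP]; exact J.mul_mem hxJ (hdn x hxJ)
      · rw [commutatorElement_def]
        have hxi : x⁻¹ = x := K.inv_J hxJ
        calc x * (d * x * d⁻¹) = x * (d * x⁻¹ * d⁻¹) := by rw [hxi]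
          _ = x * d * x⁻¹ * d⁻¹ := by group
    have hm2 : e₀ * (d * e₀ * d⁻¹) ∈ (P : Subgroup M).focalSubgroup := hgen e₀ K.e₀E
    have hm0 : e₀ ∈ (P : Subgroup M).focalSubgroup := by
      have := hgen _ K.dE
      rw [h1] at this
      have e : d * e₀ * d⁻¹ * (e₀ * (d * e₀ * d⁻¹)) = e₀ := by
        rw [K.comm he₀J he₁J]
        calc d * e₀ * d⁻¹ * (d * e₀ * d⁻¹ * e₀) = (d * e₀ * d⁻¹ * (d * e₀ * d⁻¹)) * e₀ := by group
          _ = e₀ := by rw [K.J2 _ he₁J, one_mul]
      rw [e] at this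
      exact this
    have hm1 : d * e₀ * d⁻¹ ∈ (P : Subgroup M).focalSubgroup := by
      have := Subgroup.mul_mem _ (Subgroup.inv_mem _ hm0) hm2
      have e : e₀⁻¹ * (e₀ * (d * e₀ * d⁻¹)) = d * e₀ * d⁻¹ := by group
      rw [e] at this
      exact this
    intro w hw
    rcases K.E_enum K.e₀E K.e₀1 K.dE (conj_ne_one K.e₀1) (fun h => K.dne h.symm) hw
      with h | h | h | h
    · rw [h]; exact Subgroup.one_mem _
    · rw [h]; exact hm0
    · rw [h]; exact hm1
    · rw [h]; exact hm2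

/-- a normal subgroup of index 4 meeting `J` in `E` -/
theorem exists_B (K : KCfg J E a d e₀) :
    ∃ B : Subgroup M, B.Normal ∧ B ⊓ J = E ∧ B.index = 4 ∧ ¬ 2 ∣ J.index := by
  haveI : Fact (Nat.Prime 2) := ⟨Nat.prime_two⟩
  obtain ⟨P, hP⟩ := K.exists_sylow
  have hfoc := K.focal_eq P hP
  refine ⟨(P : Subgroup M).transferFocal.ker, inferInstance, ?_, ?_, ?_⟩
  · rw [← hP, Subgroup.ker_transferFocal_inf_eq_focalSubgroup P, hfoc]
  · have e := Subgroup.transferFocal.quotientKerMulEquivQuotientFocalSubroupOf P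
    rw [Subgroup.index_eq_card, Nat.card_congr e.toEquiv]
    have h1 := Subgroup.card_eq_card_quotient_mul_card_subgroup
      ((P : Subgroup M).focalSubgroupOf)
    have h2 : Nat.card ↥((P : Subgroup M).focalSubgroupOf) =
        Nat.card ↥((P : Subgroup M).focalSubgroup) :=
      Nat.card_congr (Subgroup.subgroupOfEquivOfLe (P : Subgroup M).focalSubgroup_le).toEquiv
    rw [h2, hfoc, K.cardE] at h1
    have h3 : Nat.card ↥(P : Subgroup M) = 16 := by rw [hP]; exact K.cardJ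
    rw [h3] at h1
    omega
  · rw [← hP]
    exact P.not_dvd_index

end KCfg

end Cfsg.Agent.Lib.Helper14.J2Rec
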