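import Mathlib
import Cfsg.Agent.S3277
import Cfsg.Agent.Lib.Helper2.Count
import Cfsg.Agent.Lib.Helper14.J2RecI

/-!
helper14: S1721 / S5382, part J: the normal subgroup `B` of index 4 of the configuration
`KCfg J E a d e₀` (with `d ∈ B`) is isomorphic to `A₅`, or has order 12 with `E ⊴ B`
(helper22's characterization S3277 of `A₅` by a Klein four centralizer).
-/

set_option autoImplicit false
open scoped commutatorElement

namespace Cfsg.Agent.Lib.Helper14.J2Rec

open Cfsg.Agent.Lib.Helper14.J2Ord Cfsg.Agent.Lib.Helper14.LES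

namespace KCfg

variable {M : Type*} [Group M] [Finite M] {J E : Subgroup M} {a d e₀ : M}

theorem orderOf_two {X : Type*} [Group X] {x : X} (h2 : x * x = 1) (h1 : x ≠ 1) : orderOf x = 2 := by
  haveI : Fact (Nat.Prime 2) := ⟨Nat.prime_two⟩
  exact orderOf_eq_prime (by rw [pow_two]; exact h2) h1

/-- the order of `B` -/
theorem card_B (K : KCfg J E a d e₀) (B : Subgroup M) (hidx : B.index = 4) :
    Nat.card ↥B = 4 * J.index := by
  have h1 := Subgroup.card_mul_index B
  have h2 := Subgroup.card_mul_index J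
  rw [hidx] at h1
  rw [K.cardJ] at h2
  omega

/-- `C_B(e) = E` -/
theorem mem_E_of_comm (K : KCfg J E a d e₀) (B : Subgroup M) (hBJ : B ⊓ J = E) {e b : M}
    (he : e ∈ E) (he1 : e ≠ 1) (hb : b ∈ B) (hbe : b * e = e * b) : b ∈ E := by
  rw [← hBJ]
  exact Subgroup.mem_inf.mpr ⟨hb, K.cent e he he1 b hbe⟩

/-- the dichotomy for `B` -/
theorem B_structure (K : KCfg J E a d e₀) (B : Subgroup M) [hBn : B.Normal] (hBJ : B ⊓ J = E)
    (hidx : B.index = 4) (hodd : ¬ 2 ∣ J.index) (hdB : d ∈ B) :
    Nonempty (↥B ≃* alternatingGroup (Fin 5)) ∨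
      (Nat.card ↥B = 12 ∧ ∀ b ∈ B, ∀ e ∈ E, b * e * b⁻¹ ∈ E) := by
  classical
  haveI : Fact (Nat.Prime 2) := ⟨Nat.prime_two⟩
  have hEB : E ≤ B := hBJ ▸ inf_le_left
  have hcardB := K.card_B B hidx
  have hdn := K.normalizes_of_move K.e₀E K.e₀1 K.dE
  have hdJ : d ∉ J := by
    intro h
    apply K.dne
    rw [K.comm h (K.EJ K.e₀E)]; group
  obtain ⟨hc1, hc2⟩ := K.cyc hdn K.e₀E K.e₀1 K.dne
  have he₀J := K.EJ K.e₀E
  have he₁J := K.EJ K.dE
  -- the elements of `↥B`
  let x : ↥B := ⟨e₀, hEB K.e₀E⟩
  let d' : ↥B := ⟨d, hdB⟩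
  have hx2 : x * x = 1 := Subtype.ext (K.J2 e₀ he₀J)
  have hx1 : x ≠ 1 := fun h => K.e₀1 (congrArg Subtype.val h)
  have hx : orderOf x = 2 := orderOf_two hx2 hx1
  have hcentmem : ∀ c : ↥B, c ∈ Subgroup.centralizer ({x} : Set ↥B) ↔ (c : M) ∈ E := by
    intro c
    rw [mem_cent_iff]
    constructor
    · intro h
      have h1 : (c : M) * e₀ = e₀ * (c : M) := congrArg Subtype.val h
      exact K.mem_E_of_comm B hBJ K.e₀E K.e₀1 c.2 h1
    · intro h
      apply Subtype.ext
      exact K.comm (K.EJ h) he₀J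
  have hC4 : Nat.card ↥(Subgroup.centralizer ({x} : Set ↥B)) = 4 := by
    rw [← K.cardE]
    apply Nat.card_congr
    exact
      { toFun := fun c => ⟨c.1.1, (hcentmem c.1).mp c.2⟩
        invFun := fun e => ⟨⟨e.1, hEB e.2⟩, (hcentmem _).mpr e.2⟩
        left_inv := fun c => rfl
        right_inv := fun e => rfl }
  have hCe : ∀ c ∈ Subgroup.centralizer ({x} : Set ↥B), c ^ 2 = 1 := by
    intro c hc
    apply Subtype.ext
    show (c : M) ^ 2 = 1
    rw [pow_two]
    exact K.J2 _ (K.EJ ((hcentmem c).mp hc))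
  by_cases hnc : Cfsg.HasNormalPComplement 2 ↥B
  · -- a normal 2-complement: impossible
    exfalso
    obtain ⟨P', N, hN, hcompl⟩ := hnc
    have h1 := hcompl.card_mul_card
    obtain ⟨j, hj⟩ := IsPGroup.iff_card.mp P'.2
    have h2 := Subgroup.card_mul_index (P' : Subgroup ↥B)
    have h3 : ¬ 2 ∣ (P' : Subgroup ↥B).index := P'.not_dvd_index
    rw [hj] at h1 h2
    rw [hcardB] at h1 h2
    have hj2 : j = 2 := by
      rcases Nat.lt_or_ge j 2 with hlt | hge
      · exfalso
        apply h3
        interval_cases j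
        · exact ⟨2 * J.index, by omega⟩
        · exact ⟨J.index, by omega⟩
      · rcases Nat.lt_or_ge 2 j with hgt | hle
        · exfalso
          apply hodd
          obtain ⟨k, rfl⟩ := Nat.exists_eq_add_of_le hgt
          have e8 : 2 ^ (3 + k) = 8 * 2 ^ k := by rw [pow_add]; norm_num
          rw [e8] at h2
          exact ⟨2 ^ k * (P' : Subgroup ↥B).index, by nlinarith⟩
        · omega
    subst hj2
    have hNcard : Nat.card ↥N = J.index := by
      have : Nat.card ↥N * 4 = 4 * J.index := by
        have e4 : (2 : ℕ) ^ 2 = 4 := by norm_num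
        rw [e4] at h1
        exact h1
      omega
    have hNidx : N.index = 4 := by
      have := Subgroup.card_mul_index N
      rw [hNcard, hcardB] at this
      have hpos : 0 < J.index := by
        rcases Nat.eq_zero_or_pos J.index with h0 | hp
        · exfalso; apply hodd; rw [h0]; exact dvd_zero 2
        · exact hp
      nlinarith
    haveI := hN
    have hq : Nat.card (↥B ⧸ N) = 2 ^ 2 := by
      rw [← Subgroup.index_eq_card, hNidx]; norm_num
    have hcomm : IsMulCommutative (↥B ⧸ N) := IsPGroup.isMulCommutative_of_card_eq_prime_sq hq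
    have hle := Subgroup.Normal.quotient_commutative_iff_commutator_le.mp hcomm
    have hmem : ⁅x, d'⁆ ∈ N := by
      apply hle
      rw [commutator_def]
      exact Subgroup.commutator_mem_commutator (Subgroup.mem_top x) (Subgroup.mem_top d')
    -- `⁅x, d'⁆ = e₀ e₁` has order 2
    have hval : ((⁅x, d'⁆ : ↥B) : M) = e₀ * (d * e₀ * d⁻¹) := by
      show e₀ * d * e₀⁻¹ * d⁻¹ = e₀ * (d * e₀ * d⁻¹)
      rw [K.inv_J he₀J]; group
    have hc2' : ⁅x, d'⁆ * ⁅x, d'⁆ = 1 := by
      apply Subtype.ext
      show ((⁅x, d'⁆ : ↥B) : M) * ((⁅x, d'⁆ : ↥B) : M) = 1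
      rw [hval]
      exact K.J2 _ (J.mul_mem he₀J he₁J)
    have hc1' : ⁅x, d'⁆ ≠ 1 := by
      intro h
      have h5 : ((⁅x, d'⁆ : ↥B) : M) = 1 := by rw [h]; rfl
      rw [hval] at h5
      apply K.dne
      have : d * e₀ * d⁻¹ = e₀⁻¹ := eq_inv_of_mul_eq_one_right h5
      rw [this, K.inv_J he₀J]
    have hord : orderOf (⟨⁅x, d'⁆, hmem⟩ : ↥N) = 2 := by
      apply orderOf_two
      · exact Subtype.ext hc2'
      · intro h; exact hc1' (congrArg Subtype.val h)
    have hdvd : orderOf (⟨⁅x, d'⁆, hmem⟩ : ↥N) ∣ Nat.card ↥N := orderOf_dvd_natCard _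
    rw [hord, hNcard] at hdvd
    exact hodd hdvd
  · by_cases hne : ∀ A : Subgroup ↥B, A.Normal → Cfsg.IsElementaryAbelian 2 A →
        Nat.card ↥A ≠ 2 ∧ Nat.card ↥A ≠ 4
    · left
      exact Cfsg.Agent.S3277.result x hx hC4 hCe hnc hne
    · right
      push Not at hne
      obtain ⟨A, hAn, hAel, hAcard⟩ := hne
      obtain ⟨hAcomm, hA2⟩ := hAel
      have hA2' : ∀ w ∈ A, w * w = 1 := fun w hw => by rw [← pow_two]; exact hA2 w hw
      have hAcomm' : ∀ u ∈ A, ∀ w ∈ A, u * w = w * u := by
        intro u hu w hw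
        have := hAcomm.is_comm.comm (⟨u, hu⟩ : ↥A) ⟨w, hw⟩
        exact congrArg Subtype.val this
      -- a non-trivial element of `A`
      have hAnt : ∃ w₁ ∈ A, w₁ ≠ 1 := by
        by_contra hcon
        push Not at hcon
        have : Nat.card ↥A = 1 := by
          rw [Nat.card_eq_one_iff_unique]
          refine ⟨⟨fun u v => ?_⟩, ⟨1⟩⟩
          apply Subtype.ext
          rw [hcon u.1 u.2, hcon v.1 v.2]
        have h4 : Nat.card ↥A = 2 ∨ Nat.card ↥A = 4 := by
          by_cases h2 : Nat.card ↥A = 2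
          · left; exact h2
          · right; exact hAcard h2
        omega
      obtain ⟨w₁, hw₁A, hw₁1⟩ := hAnt
      -- a non-trivial element of `A` commuting with `x`
      obtain ⟨w, hwA, hw1, hwx⟩ : ∃ w ∈ A, w ≠ 1 ∧ w * x = x * w := by
        have hxi : x⁻¹ = x := inv_eq_of_mul_eq_one_right hx2
        by_cases hfix : x * w₁ * x⁻¹ = w₁
        · refine ⟨w₁, hw₁A, hw₁1, ?_⟩
          calc w₁ * x = x * w₁ * x⁻¹ * x := by rw [hfix]
            _ = x * w₁ := by group
        · have hcA : x * w₁ * x⁻¹ ∈ A := hAn.conj_mem w₁ hw₁A x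
          refine ⟨w₁ * (x * w₁ * x⁻¹), A.mul_mem hw₁A hcA, ?_, ?_⟩
          · intro h
            apply hfix
            have : x * w₁ * x⁻¹ = w₁⁻¹ := eq_inv_of_mul_eq_one_right h
            rw [this]
            exact inv_eq_of_mul_eq_one_right (hA2' w₁ hw₁A)
          · have h5 : x * (w₁ * (x * w₁ * x⁻¹)) * x⁻¹ = w₁ * (x * w₁ * x⁻¹) := by
              calc x * (w₁ * (x * w₁ * x⁻¹)) * x⁻¹
                  = (x * w₁ * x⁻¹) * ((x * x) * w₁ * (x⁻¹ * x⁻¹)) := by group
                _ = (x * w₁ * x⁻¹) * w₁ := by rw [hxi, hx2]; group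
                _ = w₁ * (x * w₁ * x⁻¹) := hAcomm' _ hcA _ hw₁A
            calc w₁ * (x * w₁ * x⁻¹) * x = x * (w₁ * (x * w₁ * x⁻¹)) * x⁻¹ * x := by rw [h5]
              _ = x * (w₁ * (x * w₁ * x⁻¹)) := by group
      -- `w ∈ E`
      have hwE : (w : M) ∈ E := by
        apply K.mem_E_of_comm B hBJ K.e₀E K.e₀1 w.2
        exact congrArg Subtype.val hwx
      have hwM1 : (w : M) ≠ 1 := fun h => hw1 (Subtype.ext h)
      have hw'A : d' * w * d'⁻¹ ∈ A := hAn.conj_mem w hwA d'
      have hw'E : d * (w : M) * d⁻¹ ∈ E := K.norm d hdn _ hwE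
      have hw'ne : d * (w : M) * d⁻¹ ≠ (w : M) := fun h => hwM1 (K.fpf hdJ hwE h)
      -- `E ≤ A`
      have hEA : ∀ e ∈ E, ∃ u ∈ A, (u : M) = e := by
        intro e he
        rcases K.E_enum hwE hwM1 hw'E (conj_ne_one hwM1) (fun h => hw'ne h.symm) he
          with h | h | h | h
        · exact ⟨1, A.one_mem, h.symm⟩
        · exact ⟨w, hwA, h.symm⟩
        · exact ⟨d' * w * d'⁻¹, hw'A, h.symm⟩
        · exact ⟨w * (d' * w * d'⁻¹), A.mul_mem hwA hw'A, h.symm⟩
      -- `|A| = 4` and `A = E`
      have hA4 : Nat.card ↥A = 4 := by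
        by_cases h2 : Nat.card ↥A = 2
        · exfalso
          have hinj : Function.Injective (fun e : ↥E => (⟨⟨e.1, hEB e.2⟩, by
              obtain ⟨u, hu, hue⟩ := hEA e.1 e.2
              have : u = ⟨e.1, hEB e.2⟩ := Subtype.ext hue
              rw [← this]; exact hu⟩ : ↥A)) := by
            intro e e' h
            apply Subtype.ext
            have := congrArg (fun u : ↥A => ((u : ↥B) : M)) h
            exact this
          have := Nat.card_le_card_of_injective _ hinj
          rw [K.cardE, h2] at this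
          omega
        · exact hAcard h2
      have hAE : ∀ u ∈ A, (u : M) ∈ E := by
        -- the injection `E → A` is a bijection
        have hinj : Function.Injective (fun e : ↥E => (⟨⟨e.1, hEB e.2⟩, by
            obtain ⟨u, hu, hue⟩ := hEA e.1 e.2
            have : u = ⟨e.1, hEB e.2⟩ := Subtype.ext hue
            rw [← this]; exact hu⟩ : ↥A)) := by
          intro e e' h
          apply Subtype.ext
          have := congrArg (fun u : ↥A => ((u : ↥B) : M)) h
          exact this
        have hbij := (Nat.bijective_iff_injective_and_card _).mpr ⟨hinj, by rw [K.cardE, hA4]⟩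
        intro u hu
        obtain ⟨e, he⟩ := hbij.2 ⟨u, hu⟩
        have : (u : M) = e.1 := by
          have := congrArg (fun u : ↥A => ((u : ↥B) : M)) he
          exact this.symm
        rw [this]; exact e.2
      have hEnorm : ∀ b ∈ B, ∀ e ∈ E, b * e * b⁻¹ ∈ E := by
        intro b hb e he
        obtain ⟨u, hu, hue⟩ := hEA e he
        have := hAE _ (hAn.conj_mem u hu ⟨b, hb⟩)
        have e1 : (((⟨b, hb⟩ : ↥B) * u * (⟨b, hb⟩ : ↥B)⁻¹ : ↥B) : M) = b * e * b⁻¹ := by
          rw [← hue]; rfl
        rw [e1] at this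
        exact this
      refine ⟨?_, hEnorm⟩
      -- the class equation
      have hcls := Cfsg.Agent.Lib.Helper2.card_eq_card_conj_mul_card_centralizer x
      rw [hC4, hcardB] at hcls
      have hcle : Nat.card {y : ↥B // IsConj x y} ≤ 3 := by
        have hmemF : ∀ y : {y : ↥B // IsConj x y},
            ((y : ↥B) : M) ∈ ({e₀, d * e₀ * d⁻¹, e₀ * (d * e₀ * d⁻¹)} : Finset M) := by
          rintro ⟨y, hy⟩
          obtain ⟨g, rfl⟩ := isConj_iff.mp hy
          have h1 : (((g * x * g⁻¹ : ↥B)) : M) = (g : M) * e₀ * (g : M)⁻¹ := rfl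
          have h2 := hEnorm g g.2 e₀ K.e₀E
          simp only [Finset.mem_insert, Finset.mem_singleton]
          rw [h1]
          rcases K.E_enum K.e₀E K.e₀1 K.dE (conj_ne_one K.e₀1) (fun h => K.dne h.symm) h2
            with h | h | h | h
          · exact absurd h (conj_ne_one K.e₀1)
          · left; exact h
          · right; left; exact h
          · right; right; exact h
        have hinj : Function.Injective (fun y : {y : ↥B // IsConj x y} =>
            (⟨((y : ↥B) : M), hmemF y⟩ : {m : M // m ∈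
              ({e₀, d * e₀ * d⁻¹, e₀ * (d * e₀ * d⁻¹)} : Finset M)})) := by
          intro y y' h
          apply Subtype.ext
          apply Subtype.ext
          exact congrArg (fun u : {m : M // m ∈
              ({e₀, d * e₀ * d⁻¹, e₀ * (d * e₀ * d⁻¹)} : Finset M)} => u.1) h
        have := Nat.card_le_card_of_injective _ hinj
        rw [Nat.card_eq_fintype_card (α := {m : M // m ∈ _}), Fintype.card_coe] at this
        exact le_trans this Finset.card_le_three
      have hcge : 2 ≤ Nat.card {y : ↥B // IsConj x y} := by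
        have hinj : Function.Injective (fun i : Fin 2 =>
            (if i = 0 then ⟨x, IsConj.refl x⟩ else ⟨d' * x * d'⁻¹, isConj_iff.mpr ⟨d', rfl⟩⟩ :
              {y : ↥B // IsConj x y})) := by
          intro i j h
          fin_cases i <;> fin_cases j
          · rfl
          · exfalso
            simp only [Fin.zero_eta, Fin.mk_one, ↓reduceIte] at h
            have h1 : x = d' * x * d'⁻¹ := by
              have := congrArg (fun u : {y : ↥B // IsConj x y} => u.1) h
              simpa using this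
            apply K.dne
            exact (congrArg Subtype.val h1).symm
          · exfalso
            simp only [Fin.zero_eta, Fin.mk_one, ↓reduceIte] at h
            have h1 : d' * x * d'⁻¹ = x := by
              have := congrArg (fun u : {y : ↥B // IsConj x y} => u.1) h
              simpa using this
            apply K.dne
            exact congrArg Subtype.val h1
          · rfl
        have := Nat.card_le_card_of_injective _ hinj
        rwa [Nat.card_fin] at this
      -- `4 * J.index = c * 4`, `c` odd, `2 ≤ c ≤ 3`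
      have hc : Nat.card {y : ↥B // IsConj x y} = J.index := by omega
      rw [hc] at hcle hcge
      have h3 : J.index = 3 := by
        rcases Nat.lt_or_ge J.index 3 with hlt | hge
        · exfalso
          apply hodd
          have : J.index = 2 := by omega
          rw [this]
        · omega
      rw [hcardB, h3]

end KCfg

end Cfsg.Agent.Lib.Helper14.J2Rec
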