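import Mathlib
import Cfsg.Agent.Lib.Helper14.J2RecA
import Cfsg.Agent.Lib.Helper14.J2RecJ

/-!
helper14: S1721 / S5382, part K: the structure theorem for the configuration `KCfg J E a d e₀`:
`M = V × B` with `V ≤ J` central of order 4 containing `a`, `B ∩ J = E`, and `B ≅ A₅` or `|B| = 12`.
-/

set_option autoImplicit false
open scoped commutatorElement

namespace Cfsg.Agent.Lib.Helper14.J2Rec

open Cfsg.Agent.Lib.Helper14.J2Ord Cfsg.Agent.Lib.Helper14.LES

namespace KCfg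

variable {M : Type*} [Group M] [Finite M] {J E : Subgroup M} {a d e₀ : M}

/-- replacing `d` by `d⁴` -/
theorem pow4 (K : KCfg J E a d e₀) : KCfg J E a (d ^ 4) e₀ := by
  have hdn := K.normalizes_of_move K.e₀E K.e₀1 K.dE
  have h3 := K.cube_mem hdn
  have h4 : d ^ 4 * e₀ * (d ^ 4)⁻¹ = d * e₀ * d⁻¹ := by
    have h5 : d ^ 3 * e₀ * (d ^ 3)⁻¹ = e₀ := by
      rw [K.comm h3 (K.EJ K.e₀E)]; group
    calc d ^ 4 * e₀ * (d ^ 4)⁻¹ = d * (d ^ 3 * e₀ * (d ^ 3)⁻¹) * d⁻¹ := by
          rw [pow_succ' d 3]; group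
      _ = d * e₀ * d⁻¹ := by rw [h5]
  exact ⟨K.EJ, K.cardJ, K.J2, K.cardE, K.cent, K.aJ, K.aE, K.ac, K.norm, K.e₀E, K.e₀1,
    h4 ▸ K.dE, h4 ▸ K.dne⟩

/-- **the structure theorem** -/
theorem klein_main (K : KCfg J E a d e₀) :
    ∃ V B : Subgroup M, B.Normal ∧ Nat.card ↥V = 4 ∧ a ∈ V ∧ V ≤ J ∧
      (∀ v ∈ V, ∀ x : M, v * x = x * v) ∧ (∀ x, x ∈ V → x ∈ B → x = 1) ∧
      (∀ x : M, ∃ v ∈ V, ∃ b ∈ B, x = v * b) ∧ B ⊓ J = E ∧
      (Nonempty (↥B ≃* alternatingGroup (Fin 5)) ∨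
        (Nat.card ↥B = 12 ∧ ∀ b ∈ B, ∀ e ∈ E, b * e * b⁻¹ ∈ E)) := by
  classical
  obtain ⟨B, hBn, hBJ, hidx, hodd⟩ := K.exists_B
  haveI := hBn
  have hd4B : d ^ 4 ∈ B := by
    have := Subgroup.pow_index_mem B d
    rwa [hidx] at this
  have K' := K.pow4
  have hdn := K'.normalizes_of_move K'.e₀E K'.e₀1 K'.dE
  have hdJ : d ^ 4 ∉ J := by
    intro h
    apply K'.dne
    rw [K'.comm h (K'.EJ K'.e₀E)]; group
  obtain ⟨hV4, hdec⟩ := K'.fix4 hdn hdJ
  have hstruct := K'.B_structure B hBJ hidx hodd hd4B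
  have hEB : E ≤ B := hBJ ▸ inf_le_left
  have hcardB := K.card_B B hidx
  let V : Subgroup M := J ⊓ Subgroup.centralizer ({d ^ 4} : Set M)
  have hVJ : V ≤ J := inf_le_left
  have hVd : ∀ v ∈ V, v * d ^ 4 = d ^ 4 * v := by
    intro v hv
    exact (mem_cent_iff _ _).mp (Subgroup.mem_inf.mp hv).2
  have haV : a ∈ V := Subgroup.mem_inf.mpr ⟨K.aJ, (mem_cent_iff _ _).mpr (K.ac _).symm⟩
  have hdisj : ∀ x, x ∈ V → x ∈ B → x = 1 := by
    intro x hxV hxB
    have hxE : x ∈ E := hBJ ▸ Subgroup.mem_inf.mpr ⟨hxB, hVJ hxV⟩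
    apply K'.fpf hdJ hxE
    rw [← hVd x hxV]; group
  have hnorm : ∀ v ∈ V, ∀ b ∈ B, v * b * v⁻¹ ∈ B := fun v _ b hb => hBn.conj_mem b hb v
  have hsup : V ⊔ B = ⊤ := by
    apply Subgroup.eq_top_of_card_eq
    rw [card_sup_of_normalizes V B hnorm hdisj, hV4]
    have := Subgroup.card_mul_index B
    rw [hidx] at this
    omega
  have hgen : ∀ x : M, ∃ v ∈ V, ∃ b ∈ B, x = v * b := by
    intro x
    have hx : x ∈ V ⊔ B := hsup ▸ Subgroup.mem_top x
    exact mem_sup_of_normalizes V B hnorm hx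
  -- `V` centralizes `B`
  have hVB : ∀ v ∈ V, ∀ b ∈ B, v * b = b * v := by
    intro v hv
    let F : Subgroup M := B ⊓ Subgroup.centralizer ({v} : Set M)
    have hFmem : ∀ y, y ∈ F ↔ y ∈ B ∧ y * v = v * y := by
      intro y
      show y ∈ B ⊓ Subgroup.centralizer ({v} : Set M) ↔ _
      rw [Subgroup.mem_inf, mem_cent_iff]
    have hEF : E ≤ F := by
      intro e he
      exact (hFmem e).mpr ⟨hEB he, K.comm (K.EJ he) (hVJ hv)⟩
    have hdF : d ^ 4 ∈ F := (hFmem _).mpr ⟨hd4B, (hVd v hv).symm⟩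
    have hFB : F ≤ B := inf_le_left
    have hF8 : 8 ≤ Nat.card ↥F := by
      have h1 : Nat.card ↥E ∣ Nat.card ↥F := Subgroup.card_dvd_of_le hEF
      rw [K.cardE] at h1
      obtain ⟨k, hk⟩ := h1
      have hpos : 0 < Nat.card ↥F := Nat.card_pos
      have hk1 : k ≠ 1 := by
        intro h
        have : E = F := Subgroup.eq_of_le_of_card_ge hEF (by rw [hk, h, K.cardE])
        apply hdJ
        exact K.EJ (this ▸ hdF)
      have hk0 : k ≠ 0 := by
        intro h; rw [h] at hk; omega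
      omega
    suffices hFtop : F = B by
      intro b hb
      have : b ∈ F := hFtop ▸ hb
      exact ((hFmem b).mp this).2.symm
    rcases hstruct with ⟨⟨e⟩⟩ | ⟨h12, -⟩
    · -- `B ≅ A₅`
      let φ : ↥B ≃* ↥B := MulAut.conjNormal v
      have hφ : ∀ y : ↥B, ((φ y : ↥B) : M) = v * y * v⁻¹ := fun y => MulAut.conjNormal_apply v y
      have hfixmem : ∀ y : ↥B, φ y = y ↔ (y : M) ∈ F := by
        intro y
        rw [hFmem]
        constructor
        · intro h
          refine ⟨y.2, ?_⟩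
          have h1 : v * (y : M) * v⁻¹ = (y : M) := by rw [← hφ, h]
          calc (y : M) * v = v * (y : M) * v⁻¹ * v := by rw [h1]
            _ = v * (y : M) := by group
        · rintro ⟨-, h⟩
          apply Subtype.ext
          rw [hφ, ← h]; group
      have efix : {y : ↥B // φ y = y} ≃ ↥F :=
        { toFun := fun y => ⟨y.1.1, (hfixmem y.1).mp y.2⟩
          invFun := fun y => ⟨⟨y.1, hFB y.2⟩, (hfixmem _).mpr y.2⟩
          left_inv := fun y => rfl
          right_inv := fun y => rfl }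
      have h6 : 6 < Nat.card {y : ↥B // φ y = y} := by
        rw [Nat.card_congr efix]; omega
      apply le_antisymm hFB
      intro b hb
      have := aut_eq_of_fixed e φ h6 ⟨b, hb⟩
      exact (hfixmem ⟨b, hb⟩).mp this
    · -- `|B| = 12`
      apply Subgroup.eq_of_le_of_card_ge hFB
      have h1 : Nat.card ↥F ∣ Nat.card ↥B := Subgroup.card_dvd_of_le hFB
      have h2 : Nat.card ↥E ∣ Nat.card ↥F := Subgroup.card_dvd_of_le hEF
      rw [K.cardE] at h2
      rw [h12] at h1 ⊢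
      obtain ⟨k, hk⟩ := h2
      obtain ⟨l, hl⟩ := h1
      have : k = 3 := by
        have hkl : k * l = 3 := by
          rw [hk] at hl
          nlinarith
        have hk3 : k ∣ 3 := ⟨l, hkl.symm⟩
        have := (Nat.dvd_prime (by norm_num : Nat.Prime 3)).mp hk3
        rcases this with h | h
        · rw [h] at hk; omega
        · exact h
      rw [hk, this]
  refine ⟨V, B, hBn, hV4, haV, hVJ, ?_, hdisj, hgen, hBJ, ?_⟩
  · intro v hv x
    obtain ⟨v', hv', b, hb, rfl⟩ := hgen x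
    calc v * (v' * b) = (v * v') * b := by group
      _ = (v' * v) * b := by rw [K.comm (hVJ hv) (hVJ hv')]
      _ = v' * (v * b) := by group
      _ = v' * (b * v) := by rw [hVB v hv b hb]
      _ = v' * b * v := by group
  · rcases hstruct with h | ⟨h12, hE⟩
    · left; exact h
    · right; exact ⟨h12, hE⟩

end KCfg

end Cfsg.Agent.Lib.Helper14.J2Rec
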