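import Mathlib
import Cfsg.Agent.Lib.Helper14.J2RecG

/-!
helper14: S1721 / S5382, part L: the global package `GP z t Q` (`ZP z Q`, the involutions of `Q` are
conjugate to `z`, `t ∈ C_G(z) \ Q` an involution not conjugate to `z`) and the local analysis of
`J = C_G(z) ∩ C_G(t)`: it is elementary abelian of order 16, centralizes `E = C_Q(t) = {1,z,s,sz}`,
and equals `C_G(e) ∩ C_G(t)` for every `1 ≠ e ∈ E`.
-/

set_option autoImplicit false
open scoped commutatorElement

namespace Cfsg.Agent.Lib.Helper14.J2Rec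

open Cfsg.Agent.Lib.Helper14.EO2 Cfsg.Agent.Lib.Helper14.LES Cfsg.Agent.Lib.Helper20.ES
open Cfsg.Agent.Lib.Helper14.J2Ord

variable {G : Type*} [Group G] [Finite G]

/-- the global package -/
structure GP (z t : G) (Q : Subgroup G) : Prop where
  zp : ZP z Q
  tt : t * t = 1
  tz : t * z = z * t
  tQ : t ∉ Q
  Qz : ∀ u ∈ Q, u * u = 1 → u ≠ 1 → IsConj z u
  zt : ¬ IsConj z t

namespace GP

variable {z t : G} {Q : Subgroup G}

theorem t1 (S : GP z t Q) : t ≠ 1 := fun h => S.tQ (h ▸ Q.one_mem)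

theorem zz (S : GP z t Q) : z * z = 1 := S.zp.base.hyp.zz

theorem z1 (S : GP z t Q) : z ≠ 1 := S.zp.base.hyp.z1

/-- involutions of `C_G(z)` outside `Q` are conjugate to `t` -/
theorem conj_t_of_out (S : GP z t Q) {x : G} (hxz : x * z = z * x) (hx2 : x * x = 1)
    (hxQ : x ∉ Q) : IsConj t x := by
  obtain ⟨h, -, hh⟩ := S.zp.conjH t x S.tz S.tt S.tQ hxz hx2 hxQ
  exact isConj_iff.mpr ⟨h, hh⟩

/-- conjugates of `z` in `C_G(z)` lie in `Q` -/
theorem mem_Q_of_conj_z (S : GP z t Q) {x : G} (h : IsConj z x) (hxz : x * z = z * x) : x ∈ Q := by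
  by_contra hxQ
  have h2 := mul_self_of_isConj S.zz h
  exact S.zt (h.trans (S.conj_t_of_out hxz h2 hxQ).symm)

/-- transport along conjugation -/
theorem conj (S : GP z t Q) (g : G) :
    GP (g * z * g⁻¹) (g * t * g⁻¹) (Q.map (MulAut.conj g).toMonoidHom) := by
  have hφ : ∀ x : G, (MulAut.conj g) x = g * x * g⁻¹ := fun x => rfl
  refine ⟨S.zp.conj g, ?_, ?_, ?_, ?_, ?_⟩
  · calc g * t * g⁻¹ * (g * t * g⁻¹) = g * (t * t) * g⁻¹ := by group
      _ = 1 := by rw [S.tt]; group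
  · calc g * t * g⁻¹ * (g * z * g⁻¹) = g * (t * z) * g⁻¹ := by group
      _ = g * (z * t) * g⁻¹ := by rw [S.tz]
      _ = g * z * g⁻¹ * (g * t * g⁻¹) := by group
  · intro h
    rw [← hφ t, map_mem_iff] at h
    exact S.tQ h
  · rintro u ⟨u', hu', rfl⟩ hu2 hu1
    have hu2' : u' * u' = 1 := (map_sq_iff (MulAut.conj g) u').mp hu2
    have hu1' : u' ≠ 1 := fun h => hu1 (by rw [h]; exact map_one _)
    obtain ⟨k, hk⟩ := isConj_iff.mp (S.Qz u' hu' hu2' hu1')
    rw [isConj_iff]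
    refine ⟨g * k * g⁻¹, ?_⟩
    show g * k * g⁻¹ * (g * z * g⁻¹) * (g * k * g⁻¹)⁻¹ = g * u' * g⁻¹
    rw [← hk]; group
  · intro h
    apply S.zt
    obtain ⟨k, hk⟩ := isConj_iff.mp h
    rw [isConj_iff]
    refine ⟨g⁻¹ * k * g, ?_⟩
    calc g⁻¹ * k * g * z * (g⁻¹ * k * g)⁻¹ = g⁻¹ * (k * (g * z * g⁻¹) * k⁻¹) * g := by group
      _ = g⁻¹ * (g * t * g⁻¹) * g := by rw [hk]
      _ = t := by group

/-- the facts at a non-central involution `s` of `Q` commuting with `t` -/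
theorem at_s (S : GP z t Q) {s : G} (hsI : IsI1 z Q s) (hst : t * s = s * t) :
    ∃ Qs : Subgroup G, ZP s Qs ∧ z ∈ Qs ∧ t ∉ Qs ∧
      (∀ q ∈ Qs, t * q = q * t → q = 1 ∨ q = s ∨ q = z ∨ q = z * s) ∧
      (∃ d, d * t = t * d ∧ d * z * d⁻¹ = s) := by
  have A := S.zp.base.hyp.amb
  obtain ⟨g, hg⟩ := isConj_iff.mp (S.Qz s hsI.1 hsI.2.1 hsI.2.2.1)
  have S' := S.conj g
  rw [hg] at S'
  have hzs : z * s = s * z := (A.zc s hsI.1).symm
  have hA' := S'.zp.base.hyp.amb
  have htQs : t ∉ Q.map (MulAut.conj g).toMonoidHom := by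
    intro h
    have h1 : IsConj s t := S'.Qz t h S.tt S.t1
    have h2 : IsConj z s := isConj_iff.mpr ⟨g, hg⟩
    exact S.zt (h2.trans h1)
  have hzQs : z ∈ Q.map (MulAut.conj g).toMonoidHom := by
    apply S'.mem_Q_of_conj_z _ hzs
    exact (isConj_iff.mpr ⟨g, hg⟩ : IsConj z s).symm
  obtain ⟨s', hs'I, hts', hC⟩ := S'.zp.cent4 t hst S.tt htQs
  have hsz' : s * z = z * s := hzs.symm
  refine ⟨_, S'.zp, hzQs, htQs, ?_, ?_⟩
  · intro q hq hqt
    have hz' := hC z hzQs S.tz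
    rcases hz' with h | h | h | h
    · exact absurd h S.z1
    · exact absurd h hsI.2.2.2.symm
    · -- `z = s'`
      rcases hC q hq hqt with h1 | h1 | h1 | h1
      · left; exact h1
      · right; left; exact h1
      · right; right; left; rw [h1, h]
      · right; right; right; rw [h1, ← h]
    · -- `z = s' s`
      have hs' : s' = z * s := by
        rw [h, mul_assoc, hsI.2.1, mul_one]
      rcases hC q hq hqt with h1 | h1 | h1 | h1
      · left; exact h1
      · right; left; exact h1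
      · right; right; right; rw [h1, hs']
      · right; right; left; rw [h1, ← h]
  · obtain ⟨h, hhs, hht⟩ := S'.zp.conjH (g * t * g⁻¹) t S'.tz S'.tt S'.tQ hst S.tt htQs
    refine ⟨h * g, ?_, ?_⟩
    · have : h * g * t * (h * g)⁻¹ = t := by
        calc h * g * t * (h * g)⁻¹ = h * (g * t * g⁻¹) * h⁻¹ := by group
          _ = t := hht
      calc h * g * t = h * g * t * (h * g)⁻¹ * (h * g) := by group
        _ = t * (h * g) := by rw [this]
    · calc h * g * z * (h * g)⁻¹ = h * (g * z * g⁻¹) * h⁻¹ := by group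
        _ = h * s * h⁻¹ := by rw [hg]
        _ = s := by rw [hhs]; group

end GP

end Cfsg.Agent.Lib.Helper14.J2Rec
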