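import Mathlib
import Cfsg.Agent.Lib.Helper14.J2RecK
import Cfsg.Agent.Lib.Helper14.J2RecL

/-!
helper14: S1721 / S5382, part M: the local analysis of `J = C_G(z) ∩ C_G(t)` for a `t`-type
involution `t ∈ C_G(z) \ Q`: `J` is elementary abelian of order 16, centralizes
`E = C_Q(t) = {1,z,s,sz}`, and equals `C_G(e) ∩ C_G(t)` for every `1 ≠ e ∈ E`.
-/

set_option autoImplicit false
open scoped commutatorElement

namespace Cfsg.Agent.Lib.Helper14.J2Rec

open Cfsg.Agent.Lib.Helper14.EO2 Cfsg.Agent.Lib.Helper14.LES Cfsg.Agent.Lib.Helper20.ES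
open Cfsg.Agent.Lib.Helper14.J2Ord

variable {G : Type*} [Group G] [Finite G]

theorem conj_comm' {b x t : G} (hbt : b * t = t * b) (hxt : x * t = t * x) :
    (b * x * b⁻¹) * t = t * (b * x * b⁻¹) := by
  have h1 : Commute b t := hbt
  have h2 : Commute x t := hxt
  exact ((h1.mul_left h2).mul_left h1.inv_left)

/-- a subgroup enumerated by `1, e, e', e e'` has order 4 -/
theorem card_eq_four_of_enum (E : Subgroup G) {e e' : G} (he : e ∈ E) (he' : e' ∈ E)
    (he1 : e ≠ 1) (he'1 : e' ≠ 1) (hee' : e ≠ e') (hei : e * e = 1)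
    (henum : ∀ w ∈ E, w = 1 ∨ w = e ∨ w = e' ∨ w = e * e') : Nat.card ↥E = 4 := by
  classical
  haveI : Fintype G := Fintype.ofFinite G
  rw [card_subgroup_eq_filter]
  have heq : Finset.univ.filter (fun x => x ∈ E) = ({1, e, e', e * e'} : Finset G) := by
    ext x
    simp only [Finset.mem_filter, Finset.mem_univ, true_and, Finset.mem_insert,
      Finset.mem_singleton]
    constructor
    · exact henum x
    · rintro (rfl | rfl | rfl | rfl)
      · exact E.one_mem
      · exact he
      · exact he'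
      · exact E.mul_mem he he'
  rw [heq]
  have h1 : (1 : G) ≠ e := fun h => he1 h.symm
  have h2 : (1 : G) ≠ e' := fun h => he'1 h.symm
  have h3 : (1 : G) ≠ e * e' := by
    intro h
    apply hee'
    have : e' = e⁻¹ := eq_inv_of_mul_eq_one_right h.symm
    rw [this]
    exact (inv_eq_of_mul_eq_one_right hei).symm
  have h5 : e ≠ e * e' := by
    intro h
    apply he'1
    have : e * 1 = e * e' := by rw [mul_one]; exact h
    exact (mul_left_cancel this).symm
  have h6 : e' ≠ e * e' := by
    intro h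
    apply he1
    have : 1 * e' = e * e' := by rw [one_mul]; exact h
    exact (mul_right_cancel this).symm
  rw [Finset.card_insert_of_notMem, Finset.card_insert_of_notMem,
    Finset.card_insert_of_notMem, Finset.card_singleton]
  · simp only [Finset.mem_singleton]; exact h6
  · simp only [Finset.mem_insert, Finset.mem_singleton]; tauto
  · simp only [Finset.mem_insert, Finset.mem_singleton]; tauto

/-- the data attached to `t`: the non-central involution `s` of `C_Q(t)` -/
structure TD (z t : G) (Q : Subgroup G) (s : G) : Prop where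
  gp : GP z t Q
  sI : IsI1 z Q s
  ts : t * s = s * t
  enum : ∀ q ∈ Q, t * q = q * t → q = 1 ∨ q = z ∨ q = s ∨ q = s * z

theorem GP.exists_TD {z t : G} {Q : Subgroup G} (S : GP z t Q) : ∃ s, TD z t Q s := by
  obtain ⟨s, h1, h2, h3⟩ := S.zp.cent4 t S.tz S.tt S.tQ
  exact ⟨s, S, h1, h2, h3⟩

namespace TD

variable {z t s : G} {Q : Subgroup G}

theorem sz (D : TD z t Q s) : s * z = z * s := D.gp.zp.base.hyp.amb.zc s D.sI.1

theorem swap (D : TD z t Q s) : TD z t Q (s * z) := by
  have hs2 := D.sI.2.1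
  refine ⟨D.gp, D.gp.zp.base.isI1_mul_z D.sI, ?_, ?_⟩
  · calc t * (s * z) = (t * s) * z := by group
      _ = (s * t) * z := by rw [D.ts]
      _ = s * (t * z) := by group
      _ = s * (z * t) := by rw [D.gp.tz]
      _ = s * z * t := by group
  · intro q hq hqt
    rcases D.enum q hq hqt with h | h | h | h
    · left; exact h
    · right; left; exact h
    · right; right; right
      rw [h, mul_assoc, D.gp.zz, mul_one]
    · right; right; left; exact h

theorem cent_s (D : TD z t Q s) {b : G} (hbz : b * z = z * b) (hbt : b * t = t * b) :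
    b * s = s * b := by
  have S := D.gp
  have A := S.zp.base.hyp.amb
  have hs2 : s * s = 1 := D.sI.2.1
  have hsz : s * z = z * s := D.sz
  have hst : s * t = t * s := D.ts.symm
  have h1 : b * s * b⁻¹ ∈ Q := S.zp.base.hyp.nor b hbz s D.sI.1
  have h2 : (b * s * b⁻¹) * t = t * (b * s * b⁻¹) := conj_comm' hbt hst
  by_contra hne
  have h3 : b * s * b⁻¹ = s * z := by
    rcases D.enum _ h1 h2.symm with h | h | h | h
    · exfalso; exact D.sI.2.2.1 (conj_eq_one_iff.mp h)
    · exfalso
      apply D.sI.2.2.2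
      calc s = b⁻¹ * (b * s * b⁻¹) * b := by group
        _ = b⁻¹ * z * b := by rw [h]
        _ = b⁻¹ * (z * b) := by group
        _ = b⁻¹ * (b * z) := by rw [hbz]
        _ = z := by group
    · exfalso; apply hne
      calc b * s = (b * s * b⁻¹) * b := by group
        _ = s * b := by rw [h]
    · exact h
  have hbQ : b ∉ Q := by
    intro hbQ
    rcases D.enum b hbQ hbt.symm with h | h | h | h
    · apply hne; rw [h]; group
    · apply hne; rw [h]; exact hsz.symm
    · apply hne; rw [h]
    · apply hne; rw [h]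
      calc s * z * s = s * (z * s) := by group
        _ = s * (s * z) := by rw [hsz]
  have hb2Q : b * b ∈ Q := S.zp.sqQ t b S.tz S.tt S.tQ hbz hbt
  have hb2t : t * (b * b) = (b * b) * t := by
    calc t * (b * b) = (t * b) * b := by group
      _ = (b * t) * b := by rw [hbt]
      _ = b * (t * b) := by group
      _ = b * (b * t) := by rw [hbt]
      _ = b * b * t := by group
  have hb2 : b * b = 1 := by
    rcases D.enum _ hb2Q hb2t with h | h | h | h
    · exact h
    · exact absurd h (S.zp.sqz b hbz hbQ hb2Q)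
    · exfalso; apply hne
      rw [← h]; group
    · exfalso
      have h4 : b * (s * z) * b⁻¹ = s * z := by rw [← h]; group
      have h5 : b * (s * z) * b⁻¹ = (b * s * b⁻¹) * z := by
        calc b * (s * z) * b⁻¹ = b * s * (z * b⁻¹) := by group
          _ = b * s * (b⁻¹ * z) := by rw [ZA5.inv_comm_z hbz]
          _ = (b * s * b⁻¹) * z := by group
      rw [h5, h3] at h4
      apply S.z1
      have h6 : (s * z) * z = (s * z) * 1 := by rw [h4, mul_one]
      exact mul_left_cancel h6
  have h5 : (s * b) * (s * b) = z := by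
    calc s * b * (s * b) = s * (b * s * b⁻¹) * (b * b) := by group
      _ = s * (s * z) * 1 := by rw [h3, hb2]
      _ = (s * s) * z := by group
      _ = z := by rw [hs2, one_mul]
  have hsbQ : s * b ∉ Q := fun h => hbQ (by
    have : b = s⁻¹ * (s * b) := by group
    rw [this]; exact Q.mul_mem (Q.inv_mem D.sI.1) h)
  have hsbz : (s * b) * z = z * (s * b) := ZA5.mul_comm_z hsz hbz
  exact S.zp.sqz (s * b) hsbz hsbQ (h5 ▸ A.zQ) h5

theorem sq_ne_s (D : TD z t Q s) {b : G} (hbz : b * z = z * b) (hbt : b * t = t * b)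
    (hbQ : b ∉ Q) : b * b ≠ s := by
  intro h
  have S := D.gp
  have A := S.zp.base.hyp.amb
  obtain ⟨Qs, P, hzQs, htQs, henum', -⟩ := S.at_s D.sI D.ts
  have hbs : b * s = s * b := D.cent_s hbz hbt
  have hsQs : s ∈ Qs := P.base.hyp.zE
  have hbQs : b ∉ Qs := by
    intro hb
    rcases henum' b hb hbt.symm with h1 | h1 | h1 | h1
    · exact hbQ (h1 ▸ Q.one_mem)
    · exact hbQ (h1 ▸ D.sI.1)
    · exact hbQ (h1 ▸ A.zQ)
    · exact hbQ (h1 ▸ Q.mul_mem A.zQ D.sI.1)
  exact P.sqz b hbs hbQs (h ▸ hsQs) h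

/-- `J` has exponent 2 -/
theorem sq_one (D : TD z t Q s) {b : G} (hbz : b * z = z * b) (hbt : b * t = t * b) :
    b * b = 1 := by
  have S := D.gp
  have A := S.zp.base.hyp.amb
  have hs2 : s * s = 1 := D.sI.2.1
  have hsz2 : (s * z) * (s * z) = 1 := D.swap.sI.2.1
  by_cases hbQ : b ∈ Q
  · rcases D.enum b hbQ hbt.symm with h | h | h | h
    · rw [h, mul_one]
    · rw [h, S.zz]
    · rw [h, hs2]
    · rw [h, hsz2]
  · have hb2Q : b * b ∈ Q := S.zp.sqQ t b S.tz S.tt S.tQ hbz hbt
    have hb2t : t * (b * b) = (b * b) * t := by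
      calc t * (b * b) = (t * b) * b := by group
        _ = (b * t) * b := by rw [hbt]
        _ = b * (t * b) := by group
        _ = b * (b * t) := by rw [hbt]
        _ = b * b * t := by group
    rcases D.enum _ hb2Q hb2t with h | h | h | h
    · exact h
    · exact absurd h (S.zp.sqz b hbz hbQ hb2Q)
    · exact absurd h (D.sq_ne_s hbz hbt hbQ)
    · exact absurd h (D.swap.sq_ne_s hbz hbt hbQ)

/-- `C_G(s) ∩ C_G(t) = C_G(z) ∩ C_G(t)` -/
theorem comm_z_of_comm_s (D : TD z t Q s) {x : G} (hxs : x * s = s * x) (hxt : x * t = t * x) :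
    x * z = z * x := by
  have S := D.gp
  obtain ⟨Qs, P, hzQs, htQs, -, -⟩ := S.at_s D.sI D.ts
  have h1 := P.cent16 t D.ts S.tt htQs
  have h2 := S.zp.cent16 t S.tz S.tt S.tQ
  have hsub : {x : G | x * z = z * x ∧ x * t = t * x} ⊆ {x : G | x * s = s * x ∧ x * t = t * x} := by
    rintro y ⟨hyz, hyt⟩
    exact ⟨D.cent_s hyz hyt, hyt⟩
  have heq := Set.eq_of_subset_of_ncard_le hsub (by
    rw [← Nat.card_coe_set_eq, ← Nat.card_coe_set_eq]
    exact le_of_eq (h1.trans h2.symm)) (Set.toFinite _)
  have : x ∈ {x : G | x * z = z * x ∧ x * t = t * x} := by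
    rw [heq]; exact ⟨hxs, hxt⟩
  exact this.1

/-- an element of `C_G(t)` normalizing `J` normalizes `E` -/
theorem norm_E (D : TD z t Q s) {n : G}
    (hn : ∀ x, x * z = z * x → x * t = t * x → (n * x * n⁻¹) * z = z * (n * x * n⁻¹))
    {e : G} (he : e ∈ Q) (het : t * e = e * t) : n * e * n⁻¹ ∈ Q := by
  have S := D.gp
  have A := S.zp.base.hyp.amb
  by_cases he1 : e = 1
  · rw [he1]; simp only [mul_one, mul_inv_cancel]; exact Q.one_mem
  have he2 : e * e = 1 := D.sq_one (A.zc e he) het.symm
  have hc : IsConj z e := S.Qz e he he2 he1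
  have hc' : IsConj z (n * e * n⁻¹) := (isConj_conj_iff z n e).mpr hc
  exact S.mem_Q_of_conj_z hc' (hn e (A.zc e he) het.symm)


end TD

end Cfsg.Agent.Lib.Helper14.J2Rec
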