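import Mathlib
import Cfsg.Agent.Lib.Helper14.J2RecM

/-!
helper14: S1721 / S5382, part N: the configuration `KCfg` inside `C_G(t)` and the structure of
`C_G(t)` at the level of `G`.
-/

set_option autoImplicit false
open scoped commutatorElement

namespace Cfsg.Agent.Lib.Helper14.J2Rec

open Cfsg.Agent.Lib.Helper14.EO2 Cfsg.Agent.Lib.Helper14.LES Cfsg.Agent.Lib.Helper20.ES
open Cfsg.Agent.Lib.Helper14.J2Ord

variable {G : Type*} [Group G] [Finite G]

/-- `C_G(z) ∩ C_G(t)` -/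
def JG (z t : G) : Subgroup G :=
  Subgroup.centralizer ({z} : Set G) ⊓ Subgroup.centralizer ({t} : Set G)

/-- `C_Q(t)` -/
def EG (Q : Subgroup G) (t : G) : Subgroup G := Q ⊓ Subgroup.centralizer ({t} : Set G)

theorem mem_JG {z t x : G} : x ∈ JG z t ↔ x * z = z * x ∧ x * t = t * x := by
  rw [JG, Subgroup.mem_inf, mem_cent_iff, mem_cent_iff]

theorem mem_EG {Q : Subgroup G} {t x : G} : x ∈ EG Q t ↔ x ∈ Q ∧ x * t = t * x := by
  rw [EG, Subgroup.mem_inf, mem_cent_iff]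

theorem JG_le (z t : G) : JG z t ≤ Subgroup.centralizer ({t} : Set G) := inf_le_right

theorem EG_le (Q : Subgroup G) (t : G) : EG Q t ≤ Subgroup.centralizer ({t} : Set G) :=
  inf_le_right

namespace TD

variable {z t s : G} {Q : Subgroup G}

theorem card_JG (D : TD z t Q s) : Nat.card ↥(JG z t) = 16 := by
  rw [← D.gp.zp.cent16 t D.gp.tz D.gp.tt D.gp.tQ]
  exact Nat.card_congr (Equiv.subtypeEquivRight (fun x => mem_JG))

theorem mem_EG_iff (D : TD z t Q s) {x : G} :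
    x ∈ EG Q t ↔ x = 1 ∨ x = z ∨ x = s ∨ x = s * z := by
  have A := D.gp.zp.base.hyp.amb
  rw [mem_EG]
  constructor
  · rintro ⟨h1, h2⟩
    exact D.enum x h1 h2.symm
  · rintro (rfl | rfl | rfl | rfl)
    · exact ⟨Q.one_mem, by group⟩
    · exact ⟨A.zQ, D.gp.tz.symm⟩
    · exact ⟨D.sI.1, D.ts.symm⟩
    · exact ⟨D.swap.sI.1, D.swap.ts.symm⟩

theorem card_EG (D : TD z t Q s) : Nat.card ↥(EG Q t) = 4 := by
  have A := D.gp.zp.base.hyp.amb
  have hz : z ∈ EG Q t := D.mem_EG_iff.mpr (Or.inr (Or.inl rfl))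
  have hs : s ∈ EG Q t := D.mem_EG_iff.mpr (Or.inr (Or.inr (Or.inl rfl)))
  refine card_eq_four_of_enum (EG Q t) hz hs D.gp.z1 D.sI.2.2.1 (Ne.symm D.sI.2.2.2) D.gp.zz ?_
  intro w hw
  rcases D.mem_EG_iff.mp hw with h | h | h | h
  · left; exact h
  · right; left; exact h
  · right; right; left; exact h
  · right; right; right; rw [h, D.sz]

/-- the configuration in `C_G(t)` -/
theorem kcfg (D : TD z t Q s) :
    ∃ a d e₀ : ↥(Subgroup.centralizer ({t} : Set G)), (a : G) = t ∧ (e₀ : G) = z ∧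
      KCfg ((JG z t).subgroupOf (Subgroup.centralizer ({t} : Set G)))
        ((EG Q t).subgroupOf (Subgroup.centralizer ({t} : Set G))) a d e₀ := by
  have S := D.gp
  have A := S.zp.base.hyp.amb
  obtain ⟨Qs, P, hzQs, htQs, -, d, hdt, hdz⟩ := S.at_s D.sI D.ts
  have htM : t ∈ Subgroup.centralizer ({t} : Set G) := (mem_cent_iff t t).mpr rfl
  have hzM : z ∈ Subgroup.centralizer ({t} : Set G) := (mem_cent_iff t z).mpr S.tz.symm
  have hdM : d ∈ Subgroup.centralizer ({t} : Set G) := (mem_cent_iff t d).mpr hdt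
  refine ⟨⟨t, htM⟩, ⟨d, hdM⟩, ⟨z, hzM⟩, rfl, rfl, ?_⟩
  have hmemJ : ∀ x : ↥(Subgroup.centralizer ({t} : Set G)),
      x ∈ (JG z t).subgroupOf (Subgroup.centralizer ({t} : Set G)) ↔ (x : G) * z = z * (x : G) := by
    intro x
    rw [Subgroup.mem_subgroupOf, mem_JG]
    exact ⟨fun h => h.1, fun h => ⟨h, (mem_cent_iff t _).mp x.2⟩⟩
  have hmemE : ∀ x : ↥(Subgroup.centralizer ({t} : Set G)),
      x ∈ (EG Q t).subgroupOf (Subgroup.centralizer ({t} : Set G)) ↔ (x : G) ∈ Q := by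
    intro x
    rw [Subgroup.mem_subgroupOf, mem_EG]
    exact ⟨fun h => h.1, fun h => ⟨h, (mem_cent_iff t _).mp x.2⟩⟩
  have hxt : ∀ x : ↥(Subgroup.centralizer ({t} : Set G)), (x : G) * t = t * (x : G) :=
    fun x => (mem_cent_iff t _).mp x.2
  refine
    { EJ := ?_, cardJ := ?_, J2 := ?_, cardE := ?_, cent := ?_, aJ := ?_, aE := ?_, ac := ?_,
      norm := ?_, e₀E := ?_, e₀1 := ?_, dE := ?_, dne := ?_ }
  · intro x hx
    rw [hmemJ]; rw [hmemE] at hx
    exact A.zc _ hx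
  · rw [Nat.card_congr (Subgroup.subgroupOfEquivOfLe (JG_le z t)).toEquiv]
    exact D.card_JG
  · intro x hx
    rw [hmemJ] at hx
    apply Subtype.ext
    exact D.sq_one hx (hxt x)
  · rw [Nat.card_congr (Subgroup.subgroupOfEquivOfLe (EG_le Q t)).toEquiv]
    exact D.card_EG
  · intro e he he1 x hxe
    rw [hmemJ]
    have hxe' : (x : G) * (e : G) = (e : G) * (x : G) := congrArg Subtype.val hxe
    have he' : (e : G) ∈ EG Q t := he
    have he1' : (e : G) ≠ 1 := fun h => he1 (Subtype.ext h)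
    rcases D.mem_EG_iff.mp he' with h | h | h | h
    · exact absurd h he1'
    · rw [h] at hxe'; exact hxe'
    · rw [h] at hxe'; exact D.comm_z_of_comm_s hxe' (hxt x)
    · rw [h] at hxe'; exact D.swap.comm_z_of_comm_s hxe' (hxt x)
  · rw [hmemJ]; exact S.tz
  · rw [hmemE]; exact S.tQ
  · intro x
    apply Subtype.ext
    exact hxt x
  · intro n hn e he
    rw [hmemE] at he ⊢
    have hnx : ∀ x, x * z = z * x → x * t = t * x →
        ((n : G) * x * (n : G)⁻¹) * z = z * ((n : G) * x * (n : G)⁻¹) := by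
      intro x hxz hxt'
      have hxM : x ∈ Subgroup.centralizer ({t} : Set G) := (mem_cent_iff t x).mpr hxt'
      have := hn ⟨x, hxM⟩ ((hmemJ _).mpr hxz)
      rw [hmemJ] at this
      exact this
    exact D.norm_E hnx he (hxt e).symm
  · rw [hmemE]; exact A.zQ
  · intro h
    exact S.z1 (congrArg Subtype.val h)
  · rw [hmemE]
    show d * z * d⁻¹ ∈ Q
    rw [hdz]; exact D.sI.1
  · intro h
    have : d * z * d⁻¹ = z := congrArg Subtype.val h
    rw [hdz] at this
    exact D.sI.2.2.2 this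

end TD

end Cfsg.Agent.Lib.Helper14.J2Rec
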