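import Mathlib
import Cfsg.Agent.Lib.Helper14.J2RecN

/-!
helper14: S1721 / S5382, part O: the structure of `C_G(t)` at the level of `G`:
`C_G(t) = V × B` with `V` a four-group containing `t` and `B ≅ A₅` or `|B| = 12`.
-/

set_option autoImplicit false
open scoped commutatorElement

namespace Cfsg.Agent.Lib.Helper14.J2Rec

open Cfsg.Agent.Lib.Helper14.EO2 Cfsg.Agent.Lib.Helper14.LES Cfsg.Agent.Lib.Helper20.ES
open Cfsg.Agent.Lib.Helper14.J2Ord

variable {G : Type*} [Group G] [Finite G]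

namespace TD

variable {z t s : G} {Q : Subgroup G}

theorem klein (D : TD z t Q s) :
    ∃ V B : Subgroup G, Nat.card ↥V = 4 ∧ t ∈ V ∧ (∀ v ∈ V, v * z = z * v ∧ v * t = t * v) ∧
      (∀ b ∈ B, b * t = t * b) ∧ (∀ x, x * t = t * x → ∀ b ∈ B, x * b * x⁻¹ ∈ B) ∧
      (∀ v ∈ V, ∀ x, x * t = t * x → v * x = x * v) ∧ (∀ x, x ∈ V → x ∈ B → x = 1) ∧
      (∀ x, x * t = t * x → ∃ v ∈ V, ∃ b ∈ B, x = v * b) ∧
      (∀ x ∈ B, x * z = z * x → x ∈ Q) ∧ (∀ x ∈ Q, x * t = t * x → x ∈ B) ∧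
      (Nonempty (↥B ≃* alternatingGroup (Fin 5)) ∨
        (Nat.card ↥B = 12 ∧ ∀ b ∈ B, ∀ e ∈ Q, e * t = t * e → b * e * b⁻¹ ∈ Q)) := by
  obtain ⟨a, d, e₀, ha, he₀, K⟩ := D.kcfg
  obtain ⟨V, B, hBn, hV4, haV, hVJ, hVc, hdisj, hgen, hBJ, hcase⟩ := K.klein_main
  have hxt : ∀ x : ↥(Subgroup.centralizer ({t} : Set G)), (x : G) * t = t * (x : G) := fun x => (mem_cent_iff t _).mp x.2
  have hmemJ : ∀ x : ↥(Subgroup.centralizer ({t} : Set G)), x ∈ (JG z t).subgroupOf (Subgroup.centralizer ({t} : Set G)) ↔ (x : G) * z = z * (x : G) := by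
    intro x
    rw [Subgroup.mem_subgroupOf, mem_JG]
    exact ⟨fun h => h.1, fun h => ⟨h, hxt x⟩⟩
  have hmemE : ∀ x : ↥(Subgroup.centralizer ({t} : Set G)), x ∈ (EG Q t).subgroupOf (Subgroup.centralizer ({t} : Set G)) ↔ (x : G) ∈ Q := by
    intro x
    rw [Subgroup.mem_subgroupOf, mem_EG]
    exact ⟨fun h => h.1, fun h => ⟨h, hxt x⟩⟩
  have hinj : Function.Injective (Subgroup.centralizer ({t} : Set G)).subtype := (Subgroup.centralizer ({t} : Set G)).subtype_injective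
  refine ⟨V.map (Subgroup.centralizer ({t} : Set G)).subtype, B.map (Subgroup.centralizer ({t} : Set G)).subtype, ?_, ?_, ?_, ?_, ?_, ?_, ?_, ?_, ?_, ?_, ?_⟩
  · rw [Subgroup.card_map_of_injective hinj]; exact hV4
  · exact ⟨a, haV, ha⟩
  · rintro v ⟨v', hv', rfl⟩
    exact ⟨(hmemJ v').mp (hVJ hv'), hxt v'⟩
  · rintro b ⟨b', -, rfl⟩
    exact hxt b'
  · rintro x hx b ⟨b', hb', rfl⟩
    have hxM : x ∈ (Subgroup.centralizer ({t} : Set G)) := (mem_cent_iff t x).mpr hx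
    refine ⟨⟨x, hxM⟩ * b' * ⟨x, hxM⟩⁻¹, hBn.conj_mem b' hb' ⟨x, hxM⟩, rfl⟩
  · rintro v ⟨v', hv', rfl⟩ x hx
    have hxM : x ∈ (Subgroup.centralizer ({t} : Set G)) := (mem_cent_iff t x).mpr hx
    exact congrArg Subtype.val (hVc v' hv' ⟨x, hxM⟩)
  · rintro x ⟨v', hv', rfl⟩ ⟨b', hb', hb'x⟩
    have : b' = v' := Subtype.ext hb'x
    subst this
    have := hdisj b' hv' hb'
    rw [this]; rfl
  · intro x hx
    have hxM : x ∈ (Subgroup.centralizer ({t} : Set G)) := (mem_cent_iff t x).mpr hx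
    obtain ⟨v, hv, b, hb, hxvb⟩ := hgen ⟨x, hxM⟩
    exact ⟨v, ⟨v, hv, rfl⟩, b, ⟨b, hb, rfl⟩, congrArg Subtype.val hxvb⟩
  · rintro x ⟨b', hb', rfl⟩ hxz
    have : b' ∈ B ⊓ (JG z t).subgroupOf (Subgroup.centralizer ({t} : Set G)) := Subgroup.mem_inf.mpr ⟨hb', (hmemJ b').mpr hxz⟩
    rw [hBJ] at this
    exact (hmemE b').mp this
  · intro x hxQ hx
    have hxM : x ∈ (Subgroup.centralizer ({t} : Set G)) := (mem_cent_iff t x).mpr hx
    have : (⟨x, hxM⟩ : ↥(Subgroup.centralizer ({t} : Set G))) ∈ (EG Q t).subgroupOf (Subgroup.centralizer ({t} : Set G)) := (hmemE _).mpr hxQ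
    rw [← hBJ] at this
    exact ⟨⟨x, hxM⟩, (Subgroup.mem_inf.mp this).1, rfl⟩
  · rcases hcase with ⟨⟨e⟩⟩ | ⟨h12, hnorm⟩
    · left
      exact ⟨(Subgroup.equivMapOfInjective B (Subgroup.centralizer ({t} : Set G)).subtype hinj).symm.trans e⟩
    · right
      refine ⟨?_, ?_⟩
      · rw [Subgroup.card_map_of_injective hinj]; exact h12
      · rintro b ⟨b', hb', rfl⟩ e he het
        have heM : e ∈ (Subgroup.centralizer ({t} : Set G)) := (mem_cent_iff t e).mpr het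
        have := hnorm b' hb' ⟨e, heM⟩ ((hmemE _).mpr he)
        exact (hmemE _).mp this

end TD

end Cfsg.Agent.Lib.Helper14.J2Rec
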