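import Mathlib
import Cfsg.Agent.Lib.Helper14.J2RecO
import Cfsg.Agent.Lib.Helper14.J2OrdC

/-!
helper14: S1721 / S5382, part P: in the case `B ≅ A₅` the package `TSide z t V B` holds and
`|C_G(t)| = 240`; in general `|C_G(t)| = |V| |B|`.
-/

set_option autoImplicit false
open scoped commutatorElement

namespace Cfsg.Agent.Lib.Helper14.J2Rec

open Cfsg.Agent.Lib.Helper14.EO2 Cfsg.Agent.Lib.Helper14.LES Cfsg.Agent.Lib.Helper20.ES
open Cfsg.Agent.Lib.Helper14.J2Ord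

variable {G : Type*} [Group G] [Finite G]

/-- the order of a subgroup `M` which is the product of `V` and `B` with `V ∩ B = 1` -/
theorem card_of_decomp (M V B : Subgroup G) (hV : V ≤ M) (hB : B ≤ M)
    (hdisj : ∀ x, x ∈ V → x ∈ B → x = 1) (hgen : ∀ x ∈ M, ∃ v ∈ V, ∃ b ∈ B, x = v * b) :
    Nat.card ↥M = Nat.card ↥V * Nat.card ↥B := by
  rw [← Nat.card_prod]
  symm
  apply Nat.card_congr
  refine Equiv.ofBijective (fun p : ↥V × ↥B => ⟨(p.1 : G) * (p.2 : G),
    M.mul_mem (hV p.1.2) (hB p.2.2)⟩) ⟨?_, ?_⟩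
  · rintro ⟨⟨v, hv⟩, ⟨b, hb⟩⟩ ⟨⟨v', hv'⟩, ⟨b', hb'⟩⟩ h
    have h1 : v * b = v' * b' := congrArg Subtype.val h
    have h2 : v'⁻¹ * v = b' * b⁻¹ := by
      calc v'⁻¹ * v = v'⁻¹ * (v * b) * b⁻¹ := by group
        _ = v'⁻¹ * (v' * b') * b⁻¹ := by rw [h1]
        _ = b' * b⁻¹ := by group
    have h3 : v'⁻¹ * v = 1 :=
      hdisj _ (V.mul_mem (V.inv_mem hv') hv) (h2 ▸ B.mul_mem hb' (B.inv_mem hb))
    have h4 : v = v' := by
      calc v = v' * (v'⁻¹ * v) := by group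
        _ = v' := by rw [h3, mul_one]
    subst h4
    have h5 : b = b' := mul_left_cancel h1
    subst h5
    rfl
  · rintro ⟨x, hx⟩
    obtain ⟨v, hv, b, hb, rfl⟩ := hgen x hx
    exact ⟨⟨⟨v, hv⟩, ⟨b, hb⟩⟩, rfl⟩

namespace TD

variable {z t s : G} {Q : Subgroup G}

/-- the `t`-side package in the case `B ≅ A₅` -/
theorem tSide (D : TD z t Q s) {V B : Subgroup G} (h2 : t ∈ V)
    (h3 : ∀ v ∈ V, v * z = z * v ∧ v * t = t * v)
    (h4 : ∀ b ∈ B, b * t = t * b)
    (h6 : ∀ v ∈ V, ∀ x, x * t = t * x → v * x = x * v) (h7 : ∀ x, x ∈ V → x ∈ B → x = 1)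
    (h8 : ∀ x, x * t = t * x → ∃ v ∈ V, ∃ b ∈ B, x = v * b)
    (h10 : ∀ x ∈ Q, x * t = t * x → x ∈ B)
    (e : ↥B ≃* alternatingGroup (Fin 5)) : TSide z t V B := by
  have S := D.gp
  have A := S.zp.base.hyp.amb
  have hzB : z ∈ B := h10 z A.zQ S.tz.symm
  have hV2 : ∀ v ∈ V, v * v = 1 := fun v hv => D.sq_one (h3 v hv).1 (h3 v hv).2
  have hcomm : ∀ v ∈ V, ∀ b ∈ B, v * b = b * v := fun v hv b hb => h6 v hv b (h4 b hb)
  have hBz : ∀ x ∈ B, x * x = 1 → x ≠ 1 → ∃ g ∈ B, g * z * g⁻¹ = x := by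
    intro x hx hx2 hx1
    obtain ⟨g, hg⟩ := invol_conj e ⟨z, hzB⟩ ⟨x, hx⟩ (Subtype.ext S.zz)
      (fun h => S.z1 (congrArg Subtype.val h)) (Subtype.ext hx2)
      (fun h => hx1 (congrArg Subtype.val h))
    exact ⟨g.1, g.2, congrArg Subtype.val hg⟩
  refine ⟨S.zz, S.z1, S.tt, S.t1, S.zt, hcomm, h7, h8, hV2, h2, ⟨e⟩, ?_, ?_⟩
  · intro x hx hx2 hx1
    obtain ⟨g, -, hg⟩ := hBz x hx hx2 hx1
    exact isConj_iff.mpr ⟨g, hg⟩
  · intro x hxt hx2 hx1 hxB
    obtain ⟨v, hv, b, hb, rfl⟩ := h8 x hxt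
    have hvb := hcomm v hv b hb
    have hb2 : b * b = 1 := by
      have h1 : v * b * (v * b) = (v * v) * (b * b) := by
        calc v * b * (v * b) = v * (b * v) * b := by group
          _ = v * (v * b) * b := by rw [hvb]
          _ = (v * v) * (b * b) := by group
      rw [h1, hV2 v hv, one_mul] at hx2
      exact hx2
    have hv1 : v ≠ 1 := by
      rintro rfl
      apply hxB
      rw [one_mul]; exact hb
    have hvQ : v ∉ Q := fun h => hv1 (h7 v hv (h10 v h (h3 v hv).2))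
    by_cases hb1 : b = 1
    · rw [hb1, mul_one]
      exact S.conj_t_of_out (h3 v hv).1 (hV2 v hv) hvQ
    · obtain ⟨g, hgB, hg⟩ := hBz b hb hb2 hb1
      have hvz : v * z = z * v := (h3 v hv).1
      have h1 : IsConj t (v * z) := by
        apply S.conj_t_of_out (ZA5.mul_comm_z hvz rfl)
        · calc v * z * (v * z) = v * (z * v) * z := by group
            _ = v * (v * z) * z := by rw [hvz]
            _ = (v * v) * (z * z) := by group
            _ = 1 := by rw [hV2 v hv, S.zz, one_mul]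
        · intro h
          apply hvQ
          have : v = v * z * z⁻¹ := by group
          rw [this]; exact Q.mul_mem h (Q.inv_mem A.zQ)
      have h2' : v * b = g * (v * z) * g⁻¹ := by
        have hvg := hcomm v hv g hgB
        calc v * b = v * (g * z * g⁻¹) := by rw [hg]
          _ = (v * g) * z * g⁻¹ := by group
          _ = (g * v) * z * g⁻¹ := by rw [hvg]
          _ = g * (v * z) * g⁻¹ := by group
      rw [h2']
      exact (isConj_conj_iff t g (v * z)).mpr h1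

end TD

end Cfsg.Agent.Lib.Helper14.J2Rec
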