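import Mathlib
import Cfsg.Agent.Lib.Helper14.J2RecP
import Cfsg.Agent.Lib.Helper14.J2OrdG

/-!
helper14: S1721 / S5382, part Q: the order of `G` via the Thompson order formula, in the case
`C_G(t) = V × B`, `B ≅ A₅`.
-/

set_option autoImplicit false
open scoped commutatorElement

namespace Cfsg.Agent.Lib.Helper14.J2Rec

open Cfsg.Agent.Lib.Helper14.EO2 Cfsg.Agent.Lib.Helper14.LES Cfsg.Agent.Lib.Helper20.ES
open Cfsg.Agent.Lib.Helper14.J2Ord

variable {G : Type*} [Group G] [Finite G]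

namespace GP

variable {z t : G} {Q : Subgroup G}

/-- the conjugates of `z` in `C_G(z)` are the involutions of `Q` -/
theorem conj_z_iff (S : GP z t Q) (u : G) :
    (IsConj z u ∧ z * u = u * z) ↔ (u ∈ Q ∧ u * u = 1 ∧ u ≠ 1) := by
  constructor
  · rintro ⟨h, hc⟩
    have h2 := mul_self_of_isConj S.zz h
    have h1 := ne_one_of_isConj S.z1 h
    exact ⟨S.mem_Q_of_conj_z h hc.symm, h2, h1⟩
  · rintro ⟨hQ, h2, h1⟩
    exact ⟨S.Qz u hQ h2 h1, (S.zp.base.hyp.amb.zc u hQ).symm⟩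

theorem not_mem_Q_of_conj_t (S : GP z t Q) {v : G} (h : IsConj t v) : v ∉ Q := by
  intro hQ
  have := S.Qz v hQ (mul_self_of_isConj S.tt h) (ne_one_of_isConj S.t1 h)
  exact S.zt (this.trans h.symm)

/-- the number of conjugates of `z` in `C_G(z)` other than `z` -/
theorem card_I1c (S : GP z t Q) :
    Nat.card {u : G // IsConj z u ∧ u ≠ z ∧ z * u = u * z} = 10 := by
  rw [← S.zp.base.card_I1]
  apply Nat.card_congr
  refine Equiv.subtypeEquivRight (fun u => ?_)
  constructor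
  · rintro ⟨h1, h2, h3⟩
    obtain ⟨h4, h5, h6⟩ := (S.conj_z_iff u).mp ⟨h1, h3⟩
    exact ⟨h4, h5, h6, h2⟩
  · rintro ⟨h4, h5, h6, h2⟩
    obtain ⟨h1, h3⟩ := (S.conj_z_iff u).mpr ⟨h4, h5, h6⟩
    exact ⟨h1, h2, h3⟩

/-- **the key dichotomy**: for `u ~ z`, `v ~ t`: `z ∈ ⟨uv⟩` iff `u, v ∈ C_G(z)`, `u ≠ z` and
`u`, `v` do not commute -/
theorem mem_zpowers_iff (S : GP z t Q) {u v : G} (hu : IsConj z u) (hv : IsConj t v) :
    z ∈ Subgroup.zpowers (u * v) ↔
      (u ≠ z ∧ z * u = u * z ∧ z * v = v * z ∧ ¬ u * v = v * u) := by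
  have A := S.zp.base.hyp.amb
  have hu2 := mul_self_of_isConj S.zz hu
  have hu1 := ne_one_of_isConj S.z1 hu
  have hv2 := mul_self_of_isConj S.tt hv
  have hv1 := ne_one_of_isConj S.t1 hv
  have hvQ := S.not_mem_Q_of_conj_t hv
  have hvi : v⁻¹ = v := inv_eq_self_of_mul_self hv2
  have hui : u⁻¹ = u := inv_eq_self_of_mul_self hu2
  constructor
  · intro hmem
    obtain ⟨huz, hvz⟩ := comm_of_mem_zpowers hu2 hv2 S.zz hmem
    have huQ : u ∈ Q := ((S.conj_z_iff u).mp ⟨hu, huz.symm⟩).1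
    have hnc : ¬ u * v = v * u := by
      intro hc
      have huv2 : (u * v) * (u * v) = 1 := by
        calc u * v * (u * v) = u * (v * u) * v := by group
          _ = u * (u * v) * v := by rw [hc]
          _ = (u * u) * (v * v) := by group
          _ = 1 := by rw [hu2, hv2, one_mul]
      obtain ⟨k, hk⟩ := Subgroup.mem_zpowers_iff.mp hmem
      rcases TSide.zpow_of_mul_self huv2 k with h | ⟨-, h⟩
      · exact S.z1 (hk.symm.trans h)
      · apply hvQ
        have : v = u * z := by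
          rw [← hk, h, ← mul_assoc, hu2, one_mul]
        rw [this]
        exact Q.mul_mem huQ A.zQ
    refine ⟨?_, huz.symm, hvz.symm, hnc⟩
    rintro rfl
    exact hnc hvz.symm
  · rintro ⟨huz, hzu, hzv, hnc⟩
    have huQ : u ∈ Q := ((S.conj_z_iff u).mp ⟨hu, hzu⟩).1
    have hu'Q : v * u * v⁻¹ ∈ Q := S.zp.base.hyp.nor v hzv.symm u huQ
    have hc : (u * v) * (u * v) = u * (v * u * v⁻¹) := by rw [hvi]; group
    have hcQ : (u * v) * (u * v) ∈ Q := by rw [hc]; exact Q.mul_mem huQ hu'Q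
    have hc1 : (u * v) * (u * v) ≠ 1 := by
      intro h
      apply hnc
      calc u * v = (u * v) * (u * v) * (v⁻¹ * u⁻¹) := by group
        _ = v * u := by rw [h, hvi, hui, one_mul]
    rcases A.sq _ hcQ with h | h
    · have hu'2 : (v * u * v⁻¹) * (v * u * v⁻¹) = 1 := by
        calc v * u * v⁻¹ * (v * u * v⁻¹) = v * (u * u) * v⁻¹ := by group
          _ = 1 := by rw [hu2]; group
      have hu'i : (v * u * v⁻¹)⁻¹ = v * u * v⁻¹ := inv_eq_self_of_mul_self hu'2
      have hcomm : (v * u * v⁻¹) * u = u * (v * u * v⁻¹) := by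
        rw [hc] at h
        exact comm_of_mul_self hu2 hu'2 h
      rcases S.zp.base.no_E8 huQ hu2 hu1 huz hu'Q hu'2 hcomm with h1 | h1 | h1 | h1
      · exfalso
        apply hu1
        calc u = v⁻¹ * (v * u * v⁻¹) * v := by group
          _ = 1 := by rw [h1]; group
      · exfalso
        apply huz
        calc u = v⁻¹ * (v * u * v⁻¹) * v := by group
          _ = v⁻¹ * z * v := by rw [h1]
          _ = v⁻¹ * (z * v) := by group
          _ = v⁻¹ * (v * z) := by rw [hzv]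
          _ = z := by group
      · exfalso
        apply hnc
        calc u * v = v⁻¹ * (v * u * v⁻¹) * v * v := by group
          _ = v⁻¹ * u * v * v := by rw [h1]
          _ = v * u := by rw [hvi, mul_assoc, hv2, mul_one]
      · have hcz : (u * v) * (u * v) = z := by
          rw [hc, h1, ← mul_assoc, hu2, one_mul]
        rw [← hcz, ← pow_two]
        exact Subgroup.npow_mem_zpowers (u * v) 2
    · have : (u * v) ^ 4 = z := by
        have h4 : (u * v) ^ 4 = ((u * v) * (u * v)) * ((u * v) * (u * v)) := by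
          rw [← pow_two, ← pow_two, ← pow_mul]
        rw [h4, h]
      rw [← this]
      exact Subgroup.npow_mem_zpowers (u * v) 4

/-- the order from the two hypothesis packages -/
theorem order_eq {V B : Subgroup G} (hT : TSide z t V B) (S : GP z t Q)
    (hall : ∀ x : G, orderOf x = 2 → IsConj z x ∨ IsConj t x)
    (hCt : Nat.card ↥(Subgroup.centralizer ({t} : Set G)) = 240) :
    Nat.card G = 604800 := by
  classical
  have hz : orderOf z = 2 := KCfg.orderOf_two S.zz S.z1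
  have ht : orderOf t = 2 := KCfg.orderOf_two S.tt S.t1
  have hCz := S.zp.cardH
  have hthom := Cfsg.Agent.S0213.result z t hz ht hT.zt hall
  rw [hT.n2, hCt, hCz] at hthom
  have hNz := Cfsg.Agent.Lib.Helper2.card_eq_card_conj_mul_card_centralizer z
  have hNt := Cfsg.Agent.Lib.Helper2.card_eq_card_conj_mul_card_centralizer t
  rw [hCz] at hNz
  rw [hCt] at hNt
  have hNzpos : 0 < Nat.card {a : G // IsConj z a} := by
    haveI : Nonempty {a : G // IsConj z a} := ⟨⟨z, IsConj.refl z⟩⟩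
    exact Nat.card_pos
  have hd := double_count z t (fun a b => a * b = b * a) (fun g a b => comm_conj_iff g a b)
  rw [hT.c15] at hd
  have htr := triple_count z t
    (fun a b c => IsConj z b ∧ a ≠ b ∧ a * b = b * a ∧ a * c = c * a ∧ b * c = c * b)
    (by
      intro g a b c
      rw [isConj_conj_iff, ← ne_conj_iff, ← comm_conj_iff, ← comm_conj_iff, ← comm_conj_iff])
  rw [hT.c30] at htr
  have hNt8 : Nat.card {b : G // IsConj t b} = 8 * Nat.card {a : G // IsConj z a} := by omega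
  have hI2 : Nat.card {b : G // IsConj t b ∧ z * b = b * z} = 120 := by
    rw [hNt8] at hd
    have : Nat.card {a : G // IsConj z a} * Nat.card {b : G // IsConj t b ∧ z * b = b * z} =
        Nat.card {a : G // IsConj z a} * 120 := by rw [hd]; ring
    exact Nat.eq_of_mul_eq_mul_left hNzpos this
  have hX : Nat.card {q : G × G // IsConj t q.2 ∧ IsConj z q.1 ∧ z ≠ q.1 ∧
      z * q.1 = q.1 * z ∧ z * q.2 = q.2 * z ∧ q.1 * q.2 = q.2 * q.1} = 240 := by
    rw [hNt8] at htr
    have : Nat.card {a : G // IsConj z a} * Nat.card {q : G × G // IsConj t q.2 ∧ IsConj z q.1 ∧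
        z ≠ q.1 ∧ z * q.1 = q.1 * z ∧ z * q.2 = q.2 * z ∧ q.1 * q.2 = q.2 * q.1} =
        Nat.card {a : G // IsConj z a} * 240 := by rw [htr]; ring
    exact Nat.eq_of_mul_eq_mul_left hNzpos this
  have hW : Nat.card (WSet z t) = 10 * 120 := by
    rw [← S.card_I1c, ← hI2, ← Nat.card_prod]
    exact Nat.card_congr (Equiv.subtypeProdEquivProd
      (p := fun u : G => IsConj z u ∧ u ≠ z ∧ z * u = u * z)
      (q := fun b : G => IsConj t b ∧ z * b = b * z))
  have hsplit : Nat.card (WSet z t) =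
      Nat.card {w : WSet z t // w.1.1 * w.1.2 = w.1.2 * w.1.1} +
      Nat.card {w : WSet z t // ¬ w.1.1 * w.1.2 = w.1.2 * w.1.1} := by
    rw [← Nat.card_sum]
    exact Nat.card_congr (Equiv.sumCompl _).symm
  have e1 : {w : WSet z t // w.1.1 * w.1.2 = w.1.2 * w.1.1} ≃
      {q : G × G // IsConj t q.2 ∧ IsConj z q.1 ∧ z ≠ q.1 ∧
        z * q.1 = q.1 * z ∧ z * q.2 = q.2 * z ∧ q.1 * q.2 = q.2 * q.1} :=
    { toFun := fun w => ⟨w.1.1, w.1.2.2.1, w.1.2.1.1, w.1.2.1.2.1.symm, w.1.2.1.2.2,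
        w.1.2.2.2, w.2⟩
      invFun := fun q => ⟨⟨q.1, ⟨q.2.2.1, q.2.2.2.1.symm, q.2.2.2.2.1⟩,
        ⟨q.2.1, q.2.2.2.2.2.1⟩⟩, q.2.2.2.2.2.2⟩
      left_inv := fun w => rfl
      right_inv := fun q => rfl }
  have e2 : {w : WSet z t // ¬ w.1.1 * w.1.2 = w.1.2 * w.1.1} ≃
      {p : G × G // IsConj z p.1 ∧ IsConj t p.2 ∧ z ∈ Subgroup.zpowers (p.1 * p.2)} :=
    { toFun := fun w => ⟨w.1.1, w.1.2.1.1, w.1.2.2.1,
        (S.mem_zpowers_iff w.1.2.1.1 w.1.2.2.1).mpr
          ⟨w.1.2.1.2.1, w.1.2.1.2.2, w.1.2.2.2, w.2⟩⟩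
      invFun := fun p =>
        ⟨⟨p.1, ⟨p.2.1, ((S.mem_zpowers_iff p.2.1 p.2.2.1).mp p.2.2.2).1,
          ((S.mem_zpowers_iff p.2.1 p.2.2.1).mp p.2.2.2).2.1⟩,
          ⟨p.2.2.1, ((S.mem_zpowers_iff p.2.1 p.2.2.1).mp p.2.2.2).2.2.1⟩⟩,
          ((S.mem_zpowers_iff p.2.1 p.2.2.1).mp p.2.2.2).2.2.2⟩
      left_inv := fun w => rfl
      right_inv := fun p => rfl }
  rw [Nat.card_congr e1, Nat.card_congr e2, hX, hW] at hsplit
  omega

end GP

end Cfsg.Agent.Lib.Helper14.J2Rec
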