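import Mathlib
import Cfsg.Agent.Lib.Helper14.J2RecQ

/-!
helper14: S1721 / S5382, part R: the case `|C_G(t)| = 48` is impossible: the Thompson order formula
gives `|G| ≤ 76800`, but `z` has at least 80 conjugates.
-/

set_option autoImplicit false
open scoped commutatorElement

namespace Cfsg.Agent.Lib.Helper14.J2Rec

open Cfsg.Agent.Lib.Helper14.EO2 Cfsg.Agent.Lib.Helper14.LES Cfsg.Agent.Lib.Helper20.ES
open Cfsg.Agent.Lib.Helper14.J2Ord

variable {G : Type*} [Group G] [Finite G]

namespace ZBase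

variable {z : G} {Q : Subgroup G}

/-- the non-central involutions of `Q` not commuting with a given one -/
theorem card_noncomm (S : ZBase z Q) {u : G} (hu : IsI1 z Q u) :
    Nat.card {w : G // IsI1 z Q w ∧ ¬ w * u = u * w} = 8 := by
  classical
  haveI : Fintype G := Fintype.ofFinite G
  have h10 := S.card_I1
  have A := S.hyp.amb
  have huz := S.isI1_mul_z hu
  obtain ⟨hu1, hu2, hu3, hu4⟩ := hu
  rw [Nat.card_eq_fintype_card, Fintype.card_subtype] at h10 ⊢
  have heq : Finset.univ.filter (fun w : G => IsI1 z Q w ∧ ¬ w * u = u * w) =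
      ((Finset.univ.filter (fun x : G => x ∈ Q ∧ x * x = 1 ∧ x ≠ 1 ∧ x ≠ z)).erase u).erase
        (u * z) := by
    ext w
    simp only [Finset.mem_filter, Finset.mem_univ, true_and, Finset.mem_erase]
    constructor
    · rintro ⟨⟨h1, h2, h3, h4⟩, hnc⟩
      refine ⟨?_, ?_, h1, h2, h3, h4⟩
      · rintro rfl
        apply hnc
        rw [mul_assoc, ← A.zc u hu1]
      · rintro rfl
        exact hnc rfl
    · rintro ⟨h5, h6, h1, h2, h3, h4⟩
      exact ⟨⟨h1, h2, h3, h4⟩, S.noncomm hu1 hu2 hu3 hu4 h1 h2 h3 h4 h6 h5⟩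
  rw [heq, Finset.card_erase_of_mem, Finset.card_erase_of_mem, h10]
  · simp only [Finset.mem_filter, Finset.mem_univ, true_and]
    exact ⟨hu1, hu2, hu3, hu4⟩
  · simp only [Finset.mem_erase, Finset.mem_filter, Finset.mem_univ, true_and]
    refine ⟨?_, huz⟩
    intro h
    apply A.z1
    have : u * z = u * 1 := by rw [mul_one]; exact h
    exact mul_left_cancel this

end ZBase

namespace GP

variable {z t : G} {Q : Subgroup G}

/-- the conjugates of `z` commuting with `s` but not with `z` -/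
abbrev Fib (z s : G) : Type _ := {w : G // IsConj z w ∧ w * s = s * w ∧ ¬ w * z = z * w}

theorem card_fib_ge (S : GP z t Q) {s : G} (hs : IsI1 z Q s) : 8 ≤ Nat.card (Fib z s) := by
  have A := S.zp.base.hyp.amb
  have hzs' : IsConj z s := S.Qz s hs.1 hs.2.1 hs.2.2.1
  obtain ⟨g, hg⟩ := isConj_iff.mp hzs'
  have S' := S.conj g
  rw [hg] at S'
  have hzs : z * s = s * z := (A.zc s hs.1).symm
  have hzQs : z ∈ Q.map (MulAut.conj g).toMonoidHom := S'.mem_Q_of_conj_z hzs'.symm hzs
  have hzI : IsI1 s (Q.map (MulAut.conj g).toMonoidHom) z :=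
    ⟨hzQs, S.zz, S.z1, Ne.symm hs.2.2.2⟩
  rw [← S'.zp.base.card_noncomm hzI]
  have hwd : ∀ w : {w : G // IsI1 s (Q.map (MulAut.conj g).toMonoidHom) w ∧ ¬ w * z = z * w},
      IsConj z w.1 ∧ w.1 * s = s * w.1 ∧ ¬ w.1 * z = z * w.1 := by
    rintro ⟨w, hw, hnc⟩
    exact ⟨hzs'.trans (S'.Qz w hw.1 hw.2.1 hw.2.2.1), S'.zp.base.hyp.amb.zc w hw.1, hnc⟩
  apply Nat.card_le_card_of_injective (fun w => (⟨w.1, hwd w⟩ : Fib z s))
  intro w w' h
  have h' : (⟨w.1, hwd w⟩ : Fib z s) = ⟨w'.1, hwd w'⟩ := h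
  exact Subtype.ext (congrArg (fun x : Fib z s => x.1) h')

/-- `z` has at least 80 conjugates -/
theorem card_conj_ge (S : GP z t Q) : 80 ≤ Nat.card {w : G // IsConj z w} := by
  classical
  have A := S.zp.base.hyp.amb
  haveI : Fintype {s : G // IsI1 z Q s} := Fintype.ofFinite _
  have h10 : Fintype.card {s : G // IsI1 z Q s} = 10 := by
    rw [← Nat.card_eq_fintype_card]; exact S.zp.base.card_I1
  have hinj : Function.Injective (fun p : (Σ s : {s : G // IsI1 z Q s}, Fib z s.1) =>
      (⟨p.2.1, p.2.2.1⟩ : {w : G // IsConj z w})) := by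
    rintro ⟨⟨s, hs⟩, ⟨w, hw1, hw2, hw3⟩⟩ ⟨⟨s', hs'⟩, ⟨w', hw1', hw2', hw3'⟩⟩ h
    have hww : w = w' := congrArg Subtype.val h
    subst hww
    have hss : s = s' := by
      by_contra hne
      apply hw3
      have hc : Commute w s := hw2
      have hc' : Commute w s' := hw2'
      by_cases h2 : s' = s * z
      · rw [h2] at hc'
        have h3 : Commute w (s⁻¹ * (s * z)) := hc.inv_right.mul_right hc'
        rw [inv_mul_cancel_left] at h3
        exact h3
      · have hnc := S.zp.base.noncomm hs.1 hs.2.1 hs.2.2.1 hs.2.2.2 hs'.1 hs'.2.1 hs'.2.2.1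
          hs'.2.2.2 (Ne.symm hne) h2
        have h3 : ⁅s', s⁆ = z := by
          rcases A.comm s' hs'.1 s hs.1 with h | h
          · exact absurd (commutatorElement_eq_one_iff_mul_comm.mp h) hnc
          · exact h
        have h4 : Commute w (s' * s * s'⁻¹ * s⁻¹) :=
          ((hc'.mul_right hc).mul_right hc'.inv_right).mul_right hc.inv_right
        rw [← commutatorElement_def, h3] at h4
        exact h4
    subst hss
    rfl
  have h1 := Nat.card_le_card_of_injective _ hinj
  rw [Nat.card_sigma] at h1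
  have h2 : 10 * 8 ≤ ∑ s : {s : G // IsI1 z Q s}, Nat.card (Fib z s.1) := by
    have := Finset.card_nsmul_le_sum Finset.univ
      (fun s : {s : G // IsI1 z Q s} => Nat.card (Fib z s.1)) 8 (fun s _ => S.card_fib_ge s.2)
    rw [Finset.card_univ, h10, smul_eq_mul] at this
    exact this
  omega

end GP

end Cfsg.Agent.Lib.Helper14.J2Rec
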