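import Mathlib
import Cfsg.Agent.Lib.Helper14.J2RecR

/-!
helper14: S1721 / S5382, part S: the case `|B| = 12` of the structure theorem for `C_G(t)` is
impossible.
-/

set_option autoImplicit false
open scoped commutatorElement

namespace Cfsg.Agent.Lib.Helper14.J2Rec

open Cfsg.Agent.Lib.Helper14.EO2 Cfsg.Agent.Lib.Helper14.LES Cfsg.Agent.Lib.Helper20.ES
open Cfsg.Agent.Lib.Helper14.J2Ord

variable {G : Type*} [Group G] [Finite G]

namespace TD

variable {z t s : G} {Q : Subgroup G}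

/-- in the small case all involutions of `C_G(t)` lie in `C_G(z)` -/
theorem invol_comm_z (D : TD z t Q s) {V B : Subgroup G}
    (h3 : ∀ v ∈ V, v * z = z * v ∧ v * t = t * v)
    (h4 : ∀ b ∈ B, b * t = t * b)
    (h6 : ∀ v ∈ V, ∀ x, x * t = t * x → v * x = x * v)
    (h8 : ∀ x, x * t = t * x → ∃ v ∈ V, ∃ b ∈ B, x = v * b)
    (h10 : ∀ x ∈ Q, x * t = t * x → x ∈ B)
    (hB12 : Nat.card ↥B = 12)
    (hnormE : ∀ b ∈ B, ∀ e ∈ Q, e * t = t * e → b * e * b⁻¹ ∈ Q)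
    {x : G} (hxt : x * t = t * x) (hx2 : x * x = 1) : x * z = z * x := by
  have S := D.gp
  have A := S.zp.base.hyp.amb
  obtain ⟨v, hv, b, hb, rfl⟩ := h8 x hxt
  have hvb : v * b = b * v := h6 v hv b (h4 b hb)
  have hV2 : v * v = 1 := D.sq_one (h3 v hv).1 (h3 v hv).2
  have hb2 : b * b = 1 := by
    have h1 : v * b * (v * b) = (v * v) * (b * b) := by
      calc v * b * (v * b) = v * (b * v) * b := by group
        _ = v * (v * b) * b := by rw [hvb]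
        _ = (v * v) * (b * b) := by group
    rw [h1, hV2, one_mul] at hx2
    exact hx2
  have hbz : b * z = z * b := by
    by_contra hbz
    have hbQ : b ∉ Q := fun h => hbz (A.zc b h)
    have hb1 : b ≠ 1 := fun h => hbQ (h ▸ Q.one_mem)
    have hn : ∀ h ∈ Subgroup.zpowers b, ∀ n ∈ EG Q t, h * n * h⁻¹ ∈ EG Q t := by
      intro h hh n hn
      have hhB : h ∈ B := (Subgroup.zpowers_le.mpr hb) hh
      obtain ⟨hnQ, hnt⟩ := mem_EG.mp hn
      exact mem_EG.mpr ⟨hnormE h hhB n hnQ hnt, conj_comm' (h4 h hhB) hnt⟩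
    have hd : ∀ y, y ∈ Subgroup.zpowers b → y ∈ EG Q t → y = 1 := by
      intro y hy hyE
      obtain ⟨k, rfl⟩ := Subgroup.mem_zpowers_iff.mp hy
      rcases TSide.zpow_of_mul_self hb2 k with h | ⟨-, h⟩
      · exact h
      · rw [h] at hyE
        exact absurd (mem_EG.mp hyE).1 hbQ
    have hcard := card_sup_of_normalizes (Subgroup.zpowers b) (EG Q t) hn hd
    rw [Nat.card_zpowers, KCfg.orderOf_two hb2 hb1, D.card_EG] at hcard
    have hle : Subgroup.zpowers b ⊔ EG Q t ≤ B :=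
      sup_le (Subgroup.zpowers_le.mpr hb) (fun y hy => h10 y (mem_EG.mp hy).1 (mem_EG.mp hy).2)
    have hdvd := Subgroup.card_dvd_of_le hle
    rw [hcard, hB12] at hdvd
    omega
  exact ZA5.mul_comm_z (h3 v hv).1 hbz

/-- the small case is impossible -/
theorem not_small (D : TD z t Q s)
    (hall : ∀ x : G, orderOf x = 2 → IsConj z x ∨ IsConj t x) {V B : Subgroup G}
    (h1 : Nat.card ↥V = 4)
    (h3 : ∀ v ∈ V, v * z = z * v ∧ v * t = t * v)
    (h4 : ∀ b ∈ B, b * t = t * b)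
    (h6 : ∀ v ∈ V, ∀ x, x * t = t * x → v * x = x * v) (h7 : ∀ x, x ∈ V → x ∈ B → x = 1)
    (h8 : ∀ x, x * t = t * x → ∃ v ∈ V, ∃ b ∈ B, x = v * b)
    (h10 : ∀ x ∈ Q, x * t = t * x → x ∈ B)
    (hB12 : Nat.card ↥B = 12)
    (hnormE : ∀ b ∈ B, ∀ e ∈ Q, e * t = t * e → b * e * b⁻¹ ∈ Q) : False := by
  classical
  have S := D.gp
  have A := S.zp.base.hyp.amb
  have hinv : ∀ x, x * t = t * x → x * x = 1 → x * z = z * x :=
    fun x hxt hx2 => D.invol_comm_z h3 h4 h6 h8 h10 hB12 hnormE hxt hx2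
  -- the order of `C_G(t)`
  have hCt : Nat.card ↥(Subgroup.centralizer ({t} : Set G)) = 48 := by
    rw [card_of_decomp (Subgroup.centralizer ({t} : Set G)) V B
      (fun v hv => (mem_cent_iff t v).mpr (h3 v hv).2)
      (fun b hb => (mem_cent_iff t b).mpr (h4 b hb)) h7
      (fun x hx => h8 x ((mem_cent_iff t x).mp hx)), h1, hB12]
  have hz : orderOf z = 2 := KCfg.orderOf_two S.zz S.z1
  have ht : orderOf t = 2 := KCfg.orderOf_two S.tt S.t1
  have hthom := Cfsg.Agent.S0213.result z t hz ht S.zt hall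
  rw [hCt, S.zp.cardH] at hthom
  -- the first count
  have hn1 : Nat.card {p : G × G // IsConj z p.1 ∧ IsConj t p.2 ∧
      z ∈ Subgroup.zpowers (p.1 * p.2)} ≤ 12 * 120 := by
    rw [← S.zp.base.card_sq, ← S.zp.cardI2, ← Nat.card_prod]
    have hwd : ∀ p : {p : G × G // IsConj z p.1 ∧ IsConj t p.2 ∧
        z ∈ Subgroup.zpowers (p.1 * p.2)},
        (p.1.1 ∈ Q ∧ p.1.1 * p.1.1 = 1) ∧
          (p.1.2 * z = z * p.1.2 ∧ p.1.2 * p.1.2 = 1 ∧ p.1.2 ∉ Q) := by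
      rintro ⟨⟨u, v⟩, hu, hv, hmem⟩
      have hu2 := mul_self_of_isConj S.zz hu
      have hv2 := mul_self_of_isConj S.tt hv
      obtain ⟨huz, hvz⟩ := comm_of_mem_zpowers hu2 hv2 S.zz hmem
      exact ⟨⟨S.mem_Q_of_conj_z hu huz, hu2⟩, hvz, hv2, S.not_mem_Q_of_conj_t hv⟩
    apply Nat.card_le_card_of_injective (fun p =>
      ((⟨p.1.1, (hwd p).1⟩ : {x : G // x ∈ Q ∧ x * x = 1}),
        (⟨p.1.2, (hwd p).2⟩ : {x : G // x * z = z * x ∧ x * x = 1 ∧ x ∉ Q})))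
    rintro ⟨⟨u, v⟩, hp⟩ ⟨⟨u', v'⟩, hp'⟩ h
    simp only [Prod.mk.injEq, Subtype.mk.injEq] at h
    obtain ⟨rfl, rfl⟩ := h
    rfl
  -- the second count
  have hn2 : Nat.card {p : G × G // IsConj z p.1 ∧ IsConj t p.2 ∧
      t ∈ Subgroup.zpowers (p.1 * p.2)} ≤ 4 := by
    rw [← D.card_EG]
    have hwd : ∀ p : {p : G × G // IsConj z p.1 ∧ IsConj t p.2 ∧
        t ∈ Subgroup.zpowers (p.1 * p.2)}, p.1.1 ∈ EG Q t ∧ p.1.2 = p.1.1⁻¹ * t := by
      rintro ⟨⟨u, v⟩, hu, hv, hmem⟩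
      have hu2 := mul_self_of_isConj S.zz hu
      have hv2 := mul_self_of_isConj S.tt hv
      obtain ⟨hut, hvt⟩ := comm_of_mem_zpowers hu2 hv2 S.tt hmem
      have huz := hinv u hut hu2
      have hvz := hinv v hvt hv2
      refine ⟨mem_EG.mpr ⟨S.mem_Q_of_conj_z hu huz, hut⟩, ?_⟩
      have huv2 : (u * v) * (u * v) = 1 :=
        D.sq_one (ZA5.mul_comm_z huz hvz) (ZA5.mul_comm_z hut hvt)
      obtain ⟨k, hk⟩ := Subgroup.mem_zpowers_iff.mp hmem
      rcases TSide.zpow_of_mul_self huv2 k with h | ⟨-, h⟩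
      · exact absurd (hk.symm.trans h) S.t1
      · show v = u⁻¹ * t
        rw [← hk, h]; group
    apply Nat.card_le_card_of_injective (fun p => (⟨p.1.1, (hwd p).1⟩ : ↥(EG Q t)))
    rintro ⟨⟨u, v⟩, hp⟩ ⟨⟨u', v'⟩, hp'⟩ h
    have huu : u = u' := congrArg Subtype.val h
    subst huu
    have h1 : v = u⁻¹ * t := (hwd ⟨⟨u, v⟩, hp⟩).2
    have h2 : v' = u⁻¹ * t := (hwd ⟨⟨u, v'⟩, hp'⟩).2
    have hvv : v = v' := h1.trans h2.symm
    subst hvv
    rfl
  -- the lower bound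
  have hNz := Cfsg.Agent.Lib.Helper2.card_eq_card_conj_mul_card_centralizer z
  rw [S.zp.cardH] at hNz
  have h80 := S.card_conj_ge
  have hb1 : 48 * Nat.card {p : G × G // IsConj z p.1 ∧ IsConj t p.2 ∧
      z ∈ Subgroup.zpowers (p.1 * p.2)} ≤ 48 * (12 * 120) := Nat.mul_le_mul_left _ hn1
  have hb2 : 1920 * Nat.card {p : G × G // IsConj z p.1 ∧ IsConj t p.2 ∧
      t ∈ Subgroup.zpowers (p.1 * p.2)} ≤ 1920 * 4 := Nat.mul_le_mul_left _ hn2
  have hb3 : 80 * 1920 ≤ Nat.card {w : G // IsConj z w} * 1920 := Nat.mul_le_mul_right _ h80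
  omega

end TD

end Cfsg.Agent.Lib.Helper14.J2Rec
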