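import Mathlib
import Cfsg.Agent.Lib.Helper14.J2RecF
import Cfsg.Agent.Lib.Helper14.J2RecA

/-!
helper14: S1721 / S5382, part T: the package `ZA5 z Q` from a surjective homomorphism
`C_G(z) → B ≅ A₅` with kernel `Q`.
-/

set_option autoImplicit false
open scoped commutatorElement

namespace Cfsg.Agent.Lib.Helper14.J2Rec

open Cfsg.Agent.Lib.Helper14.EO2 Cfsg.Agent.Lib.Helper14.LES Cfsg.Agent.Lib.Helper20.ES
open Cfsg.Agent.Lib.Helper14.J2Ord

/-- fibre counting for a surjective homomorphism -/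
theorem card_preimage {H B : Type*} [Group H] [Group B] (φ : H →* B)
    (hsurj : Function.Surjective φ) (P : B → Prop) :
    Nat.card {x : H // P (φ x)} = Nat.card {y : B // P y} * Nat.card ↥φ.ker := by
  rw [← Nat.card_prod]
  apply Nat.card_congr
  have hσ : ∀ y, φ (Function.surjInv hsurj y) = y := Function.surjInv_eq hsurj
  exact
    { toFun := fun x => (⟨φ x.1, x.2⟩, ⟨(Function.surjInv hsurj (φ x.1))⁻¹ * x.1, by
        rw [MonoidHom.mem_ker, map_mul, map_inv, hσ, inv_mul_cancel]⟩)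
      invFun := fun p => ⟨Function.surjInv hsurj p.1.1 * p.2.1, by
        rw [map_mul, hσ, MonoidHom.mem_ker.mp p.2.2, mul_one]; exact p.1.2⟩
      left_inv := fun x => by
        apply Subtype.ext
        show Function.surjInv hsurj (φ x.1) * ((Function.surjInv hsurj (φ x.1))⁻¹ * x.1) = x.1
        rw [mul_inv_cancel_left]
      right_inv := fun p => by
        have h : φ (Function.surjInv hsurj p.1.1 * p.2.1) = p.1.1 := by
          rw [map_mul, hσ, MonoidHom.mem_ker.mp p.2.2, mul_one]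
        apply Prod.ext
        · exact Subtype.ext h
        · apply Subtype.ext
          show (Function.surjInv hsurj (φ (Function.surjInv hsurj p.1.1 * p.2.1)))⁻¹ *
            (Function.surjInv hsurj p.1.1 * p.2.1) = p.2.1
          rw [h, inv_mul_cancel_left] }

variable {G : Type*} [Group G] [Finite G]

/-- subtypes of `C_G(z)` as subtypes of `G` -/
def subtypeEquivH (z : G) (R : G → Prop) :
    {x : G // x * z = z * x ∧ R x} ≃
      {x : ↥(Subgroup.centralizer ({z} : Set G)) // R x.1} where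
  toFun := fun x => ⟨⟨x.1, (mem_cent_iff z x.1).mpr x.2.1⟩, x.2.2⟩
  invFun := fun x => ⟨x.1.1, (mem_cent_iff z _).mp x.1.2, x.2⟩
  left_inv := fun _ => rfl
  right_inv := fun _ => rfl

theorem za5_of_hom {B : Type*} [Group B] (e : B ≃* alternatingGroup (Fin 5)) {z : G}
    {Q : Subgroup G} (base : ZBase z Q)
    (φ : ↥(Subgroup.centralizer ({z} : Set G)) →* B) (hsurj : Function.Surjective φ)
    (hker : ∀ x, φ x = 1 ↔ (x : G) ∈ Q) : ZA5 z Q := by
  have A := base.hyp.amb
  have hkerQ : Nat.card ↥φ.ker = 32 := by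
    rw [← base.cardQ]
    exact Nat.card_congr
      { toFun := fun k => ⟨k.1.1, (hker k.1).mp (MonoidHom.mem_ker.mp k.2)⟩
        invFun := fun q => ⟨⟨q.1, (mem_cent_iff z q.1).mpr (A.zc q.1 q.2)⟩,
          MonoidHom.mem_ker.mpr ((hker _).mpr q.2)⟩
        left_inv := fun _ => rfl
        right_inv := fun _ => rfl }
  have hnot : ∀ x : ↥(Subgroup.centralizer ({z} : Set G)), (x : G) ∉ Q ↔ φ x ≠ 1 :=
    fun x => not_congr (hker x).symm
  have hsq : ∀ x : ↥(Subgroup.centralizer ({z} : Set G)),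
      (x : G) * (x : G) ∈ Q ↔ φ x * φ x = 1 := by
    intro x
    rw [← map_mul, hker]; rfl
  have hcm : ∀ x a : ↥(Subgroup.centralizer ({z} : Set G)),
      (x : G) * (a : G) * (x : G)⁻¹ * (a : G)⁻¹ ∈ Q ↔ φ x * φ a = φ a * φ x := by
    intro x a
    have : (x : G) * (a : G) * (x : G)⁻¹ * (a : G)⁻¹ =
      ((x * a * x⁻¹ * a⁻¹ : ↥(Subgroup.centralizer ({z} : Set G))) : G) := rfl
    rw [this, ← hker, map_mul, map_mul, map_mul, map_inv, map_inv, mul_inv_eq_one,
      mul_inv_eq_iff_eq_mul]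
  refine ⟨base, ?_, ?_, ?_, ?_, ?_⟩
  · have h := card_preimage φ hsurj (fun _ => True)
    rw [Nat.card_congr (Equiv.subtypeUnivEquiv (fun _ => trivial)),
      Nat.card_congr (Equiv.subtypeUnivEquiv (fun _ => trivial)), card_of_iso_A5 e, hkerQ] at h
    exact h
  · intro a ha haQ ha2
    set a' : ↥(Subgroup.centralizer ({z} : Set G)) := ⟨a, (mem_cent_iff z a).mpr ha⟩ with ha'
    have hb1 : φ a' ≠ 1 := (hnot a').mp haQ
    have hb2 : φ a' * φ a' = 1 := (hsq a').mp ha2
    obtain ⟨y, hy5, hby⟩ := exists_inverted_five e (φ a') hb2 hb1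
    obtain ⟨f₀, hf₀⟩ := hsurj y
    have hfz : ((f₀ ^ 32 : ↥(Subgroup.centralizer ({z} : Set G))) : G) * z =
        z * ((f₀ ^ 32 : ↥(Subgroup.centralizer ({z} : Set G))) : G) :=
      (mem_cent_iff z _).mp (f₀ ^ 32).2
    refine ⟨((f₀ ^ 32 : ↥(Subgroup.centralizer ({z} : Set G))) : G), hfz, ?_, ?_⟩
    · haveI : Fact (Nat.Prime 5) := ⟨by norm_num⟩
      apply orderOf_eq_prime
      · have h5 : φ (f₀ ^ 5) = 1 := by
          rw [map_pow, hf₀, ← hy5, pow_orderOf_eq_one]
        have h5Q : ((f₀ ^ 5 : ↥(Subgroup.centralizer ({z} : Set G))) : G) ∈ Q := (hker _).mp h5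
        have h32 : (⟨_, h5Q⟩ : ↥Q) ^ 32 = 1 := by
          rw [← base.cardQ]; exact pow_card_eq_one'
        have h32' : (((f₀ ^ 5 : ↥(Subgroup.centralizer ({z} : Set G))) : G)) ^ 32 = 1 :=
          congrArg Subtype.val h32
        calc ((f₀ ^ 32 : ↥(Subgroup.centralizer ({z} : Set G))) : G) ^ 5
            = (((f₀ ^ 5 : ↥(Subgroup.centralizer ({z} : Set G))) : G)) ^ 32 := by
              rw [Subgroup.coe_pow, Subgroup.coe_pow, ← pow_mul, ← pow_mul]
          _ = 1 := h32'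
      · intro h
        have h1 : f₀ ^ 32 = 1 := Subtype.ext h
        have h2 : y ^ 32 = 1 := by rw [← hf₀, ← map_pow, h1, map_one]
        have h3 := orderOf_dvd_of_pow_eq_one h2
        rw [hy5] at h3
        omega
    · have h1 : a * ((f₀ ^ 32 : ↥(Subgroup.centralizer ({z} : Set G))) : G) * a⁻¹ *
          ((f₀ ^ 32 : ↥(Subgroup.centralizer ({z} : Set G))) : G) =
          ((a' * f₀ ^ 32 * a'⁻¹ * f₀ ^ 32 : ↥(Subgroup.centralizer ({z} : Set G))) : G) := rfl
      rw [h1, ← hker, map_mul, map_mul, map_mul, map_inv, map_pow, hf₀, ← conj_pow, hby,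
        inv_pow, inv_mul_cancel]
  · intro a ha haQ ha2
    set a' : ↥(Subgroup.centralizer ({z} : Set G)) := ⟨a, (mem_cent_iff z a).mpr ha⟩ with ha'
    have hb1 : φ a' ≠ 1 := (hnot a').mp haQ
    have hb2 : φ a' * φ a' = 1 := (hsq a').mp ha2
    rw [Nat.card_congr (subtypeEquivH z (fun x => x * a * x⁻¹ * a⁻¹ ∈ Q))]
    have h1 : Nat.card {x : ↥(Subgroup.centralizer ({z} : Set G)) //
        (x : G) * a * (x : G)⁻¹ * a⁻¹ ∈ Q} =
        Nat.card {x : ↥(Subgroup.centralizer ({z} : Set G)) // φ x * φ a' = φ a' * φ x} :=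
      Nat.card_congr (Equiv.subtypeEquivRight (fun x => hcm x a'))
    rw [h1, card_preimage φ hsurj (fun y => y * φ a' = φ a' * y), hkerQ,
      card_cent_invol e (φ a') hb2 hb1]
  · intro a x ha haQ ha2 hx hxa
    set a' : ↥(Subgroup.centralizer ({z} : Set G)) := ⟨a, (mem_cent_iff z a).mpr ha⟩ with ha'
    set x' : ↥(Subgroup.centralizer ({z} : Set G)) := ⟨x, (mem_cent_iff z x).mpr hx⟩ with hx'
    have hb1 : φ a' ≠ 1 := (hnot a').mp haQ
    have hb2 : φ a' * φ a' = 1 := (hsq a').mp ha2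
    have hc : φ x' * φ a' = φ a' * φ x' := (hcm x' a').mp hxa
    exact (hsq x').mpr (sq_of_comm_invol e (φ a') hb2 hb1 (φ x') hc)
  · rw [Nat.card_congr (subtypeEquivH z (fun x => x ∉ Q ∧ x * x ∈ Q))]
    have h1 : Nat.card {x : ↥(Subgroup.centralizer ({z} : Set G)) //
        (x : G) ∉ Q ∧ (x : G) * (x : G) ∈ Q} =
        Nat.card {x : ↥(Subgroup.centralizer ({z} : Set G)) // φ x * φ x = 1 ∧ φ x ≠ 1} :=
      Nat.card_congr (Equiv.subtypeEquivRight (fun x => by
        rw [hnot, hsq]; exact And.comm))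
    rw [h1, card_preimage φ hsurj (fun y => y * y = 1 ∧ y ≠ 1), hkerQ, card_invol e]

end Cfsg.Agent.Lib.Helper14.J2Rec
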