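import Mathlib
import Cfsg.Agent.Lib.Helper14.J2RecS
import Cfsg.Agent.Lib.Helper14.J2RecT
import Cfsg.Agent.Lib.Helper14.ExtraO2B

/-!
helper14: S1721 / S5382, part U: the global package `GP z t Q` from `ZA5 z Q`, `z` not weakly
closed in `Q`, and the existence of two classes of involutions.
-/

set_option autoImplicit false
open scoped commutatorElement

namespace Cfsg.Agent.Lib.Helper14.J2Rec

open Cfsg.Agent.Lib.Helper14.EO2 Cfsg.Agent.Lib.Helper14.LES Cfsg.Agent.Lib.Helper20.ES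
open Cfsg.Agent.Lib.Helper14.J2Ord

variable {G : Type*} [Group G] [Finite G]

theorem sq_of_order_two {x : G} (h : orderOf x = 2) : x * x = 1 := by
  have := pow_orderOf_eq_one x
  rwa [h, pow_two] at this

theorem ne_one_of_order_two {x : G} (h : orderOf x = 2) : x ≠ 1 := by
  intro h1
  rw [h1, orderOf_one] at h
  omega

namespace ZA5

variable {z : G} {Q : Subgroup G}

/-- every involution is conjugate into `C_G(z)` -/
theorem conj_into (S : ZA5 z Q) {x : G} (hx : orderOf x = 2) :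
    ∃ g : G, (g * x * g⁻¹) * z = z * (g * x * g⁻¹) := by
  haveI : Fact (Nat.Prime 2) := ⟨Nat.prime_two⟩
  obtain ⟨T, -, -, hT⟩ := S.base.hyp.exists_sylow ⊥ IsPGroup.of_bot
    (fun r hr => by rw [Subgroup.mem_bot.mp hr, one_mul, mul_one])
  have hP : IsPGroup 2 ↥(Subgroup.zpowers x) :=
    IsPGroup.of_card (n := 1) (by rw [Nat.card_zpowers, hx, pow_one])
  obtain ⟨P, hP⟩ := hP.exists_le_sylow
  obtain ⟨g, hg⟩ := MulAction.exists_smul_eq G P T
  have hsub : (T : Subgroup G) = (P : Subgroup G).map (MulAut.conj g).toMonoidHom := by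
    rw [← hg]
    rfl
  refine ⟨g, hT _ ?_⟩
  show g * x * g⁻¹ ∈ (T : Subgroup G)
  rw [hsub]
  exact ⟨x, hP (Subgroup.mem_zpowers x), rfl⟩

/-- the global package -/
theorem exists_GP (S : ZA5 z Q)
    (hnwc : ∃ g : G, g * z * g⁻¹ ∈ Q ∧ g * z * g⁻¹ ≠ z)
    (hcl : ∃ x y : G, orderOf x = 2 ∧ orderOf y = 2 ∧ ¬ IsConj x y) :
    ∃ t, GP z t Q ∧ (∀ x, orderOf x = 2 → IsConj z x ∨ IsConj t x) := by
  have A := S.base.hyp.amb
  have hzz := S.base.hyp.zz
  have hz1 := S.base.hyp.z1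
  -- involutions of `Q` are conjugate to `z`
  have hQz : ∀ u ∈ Q, u * u = 1 → u ≠ 1 → IsConj z u := by
    intro u hu hu2 hu1
    by_cases huz : u = z
    · rw [huz]
    obtain ⟨g, hgQ, hgz⟩ := hnwc
    have hI : IsI1 z Q (g * z * g⁻¹) := by
      refine ⟨hgQ, ?_, fun h => hz1 (conj_eq_one_iff.mp h), hgz⟩
      calc g * z * g⁻¹ * (g * z * g⁻¹) = g * (z * z) * g⁻¹ := by group
        _ = 1 := by rw [hzz]; group
    obtain ⟨h, -, hh⟩ := S.base.transI1 hI ⟨hu, hu2, hu1, huz⟩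
    rw [← hh]
    exact (isConj_conj_iff z h _).mpr (isConj_iff.mpr ⟨g, rfl⟩)
  -- an involution of `C_G(z)` not conjugate to `z`
  have hext : ∃ t, t * z = z * t ∧ t * t = 1 ∧ t ≠ 1 ∧ ¬ IsConj z t := by
    obtain ⟨x, y, hx, hy, hxy⟩ := hcl
    have hw : ∃ w, orderOf w = 2 ∧ ¬ IsConj z w := by
      by_cases h : IsConj z x
      · exact ⟨y, hy, fun h' => hxy (h.symm.trans h')⟩
      · exact ⟨x, hx, h⟩
    obtain ⟨w, hw2, hwz⟩ := hw
    obtain ⟨g, hg⟩ := S.conj_into hw2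
    refine ⟨g * w * g⁻¹, hg, ?_, ?_, ?_⟩
    · calc g * w * g⁻¹ * (g * w * g⁻¹) = g * (w * w) * g⁻¹ := by group
        _ = 1 := by rw [sq_of_order_two hw2]; group
    · exact fun h => ne_one_of_order_two hw2 (conj_eq_one_iff.mp h)
    · intro h
      exact hwz ((isConj_conj_iff z g w).mp h)
  obtain ⟨t, htz, htt, ht1, hzt⟩ := hext
  have htQ : t ∉ Q := fun h => hzt (hQz t h htt ht1)
  have hzp : ZP z Q := S.toZP ⟨t, htz, htt, htQ⟩
  have hgp : GP z t Q := ⟨hzp, htt, htz, htQ, hQz, hzt⟩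
  refine ⟨t, hgp, ?_⟩
  intro x hx
  obtain ⟨g, hg⟩ := S.conj_into hx
  have hx2 : g * x * g⁻¹ * (g * x * g⁻¹) = 1 := by
    calc g * x * g⁻¹ * (g * x * g⁻¹) = g * (x * x) * g⁻¹ := by group
      _ = 1 := by rw [sq_of_order_two hx]; group
  have hx1 : g * x * g⁻¹ ≠ 1 := fun h => ne_one_of_order_two hx (conj_eq_one_iff.mp h)
  by_cases hxQ : g * x * g⁻¹ ∈ Q
  · left
    exact (isConj_conj_iff z g x).mp (hQz _ hxQ hx2 hx1)
  · right
    exact (isConj_conj_iff t g x).mp (hgp.conj_t_of_out hg hx2 hxQ)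

end ZA5

end Cfsg.Agent.Lib.Helper14.J2Rec
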