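import Mathlib
import Cfsg.Agent.S0824
import Cfsg.Agent.Lib.Helper14.J2RecU
import Cfsg.Agent.Lib.Helper9.FStar
import Cfsg.Agent.Lib.Helper16.AGLT

/-!
helper14: S1721 / S5382, part V: the package `ZA5 z Q` from the hypotheses of the statements.
-/

set_option autoImplicit false
open scoped commutatorElement

namespace Cfsg.Agent.Lib.Helper14.J2Rec

open Cfsg.Agent.Lib.Helper14.EO2 Cfsg.Agent.Lib.Helper14.LES Cfsg.Agent.Lib.Helper20.ES
open Cfsg.Agent.Lib.Helper14.J2Ord

/-- `Ω⁻₄(2) ≅ A₅` -/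
theorem omega_iso_A5 :
    Nonempty (↥(Cfsg.Omega (ZMod 2) (Cfsg.quadFormMinus 1 (ZMod 2) 1 1)) ≃*
      alternatingGroup (Fin 5)) := by
  obtain ⟨f⟩ := Cfsg.Agent.S0824.result (F := ZMod 2) (ZMod.card 2)
  have h1 : (commutator ↥(Cfsg.isometryGroup (ZMod 2)
      (Cfsg.quadFormMinus 1 (ZMod 2) 1 1))).map f.toMonoidHom = alternatingGroup (Fin 5) := by
    rw [commutator_def, Subgroup.map_commutator,
      Subgroup.map_top_of_surjective _ f.surjective, ← commutator_def,
      alternatingGroup.commutator_perm_eq (by simp)]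
  exact ⟨(f.subgroupMap (commutator _)).trans (MulEquiv.subgroupCongr h1)⟩

variable {G : Type*} [Group G] [Finite G]

theorem za5_of_statement (z : G) (hz : orderOf z = 2)
    (Q : Subgroup ↥(Subgroup.centralizer ({z} : Set G))) [Q.Normal]
    (hF : Cfsg.generalizedFittingSubgroup ↥(Subgroup.centralizer ({z} : Set G)) = Q)
    (hQ : Cfsg.IsExtraspecial 2 ↥Q) (hcard : Nat.card ↥Q = 2 ^ 5)
    (e : ↥(Subgroup.centralizer ({z} : Set G)) ⧸ Q ≃*
      ↥(Cfsg.Omega (ZMod 2) (Cfsg.quadFormMinus 1 (ZMod 2) 1 1))) :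
    ZA5 z (Q.map (Subgroup.centralizer ({z} : Set G)).subtype) := by
  obtain ⟨eΩ⟩ := omega_iso_A5
  have hinj : Function.Injective (Subgroup.centralizer ({z} : Set G)).subtype :=
    Subgroup.subtype_injective _
  have hmem : ∀ x : ↥(Subgroup.centralizer ({z} : Set G)),
      (x : G) ∈ Q.map (Subgroup.centralizer ({z} : Set G)).subtype ↔ x ∈ Q := by
    intro x
    constructor
    · rintro ⟨y, hy, hyx⟩
      have : y = x := Subtype.ext hyx
      rwa [← this]
    · intro hx
      exact ⟨x, hx, rfl⟩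
  have hcc := Cfsg.Agent.Lib.Helper9.centralizer_generalizedFittingSubgroup_le
    (G := ↥(Subgroup.centralizer ({z} : Set G)))
  rw [hF] at hcc
  have hzC : z ∈ Subgroup.centralizer ({z} : Set G) := (mem_cent_iff z z).mpr rfl
  have hzQ : (⟨z, hzC⟩ : ↥(Subgroup.centralizer ({z} : Set G))) ∈ Q := by
    apply hcc
    rw [Subgroup.mem_centralizer_iff]
    intro y _
    apply Subtype.ext
    show (y : G) * z = z * (y : G)
    exact (mem_cent_iff z y.1).mp y.2
  -- the hypothesis package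
  have hyp : Hyp z (Q.map (Subgroup.centralizer ({z} : Set G)).subtype) := by
    refine ⟨ne_one_of_order_two hz, sq_of_order_two hz, ?_, ?_, ?_, ?_⟩
    · exact Cfsg.Agent.Lib.Helper16.AGL.isExtraspecial_of_mulEquiv
        (Q.equivMapOfInjective _ hinj) hQ
    · rintro e' ⟨y, -, rfl⟩
      exact (mem_cent_iff z y.1).mp y.2
    · rintro h hh e' ⟨y, hy, rfl⟩
      have hhH : h ∈ Subgroup.centralizer ({z} : Set G) := (mem_cent_iff z h).mpr hh
      have hn : Q.Normal := inferInstance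
      exact ⟨⟨h, hhH⟩ * y * ⟨h, hhH⟩⁻¹, hn.conj_mem y hy ⟨h, hhH⟩, rfl⟩
    · intro x hx
      have hxz : x * z = z * x := hx z ⟨⟨z, hzC⟩, hzQ, rfl⟩
      have hxC : x ∈ Subgroup.centralizer ({z} : Set G) := (mem_cent_iff z x).mpr hxz
      refine ⟨⟨x, hxC⟩, hcc ?_, rfl⟩
      rw [Subgroup.mem_centralizer_iff]
      intro y hy
      apply Subtype.ext
      show (y : G) * x = x * (y : G)
      exact (hx y.1 ⟨y, hy, rfl⟩).symm
  have hcardQ : Nat.card ↥(Q.map (Subgroup.centralizer ({z} : Set G)).subtype) = 32 := by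
    rw [Subgroup.card_map_of_injective hinj, hcard]; norm_num
  -- the homomorphism
  let φ : ↥(Subgroup.centralizer ({z} : Set G)) →* alternatingGroup (Fin 5) :=
    (eΩ.toMonoidHom.comp e.toMonoidHom).comp (QuotientGroup.mk' Q)
  have hφ : ∀ x, φ x = eΩ (e (QuotientGroup.mk' Q x)) := fun x => rfl
  have hsurj : Function.Surjective φ := by
    intro y
    obtain ⟨x, hx⟩ := QuotientGroup.mk'_surjective Q (e.symm (eΩ.symm y))
    refine ⟨x, ?_⟩
    rw [hφ, hx, MulEquiv.apply_symm_apply, MulEquiv.apply_symm_apply]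
  have hker : ∀ x, φ x = 1 ↔ (x : G) ∈ Q.map (Subgroup.centralizer ({z} : Set G)).subtype := by
    intro x
    rw [hmem, hφ, MulEquiv.map_eq_one_iff, MulEquiv.map_eq_one_iff, QuotientGroup.mk'_apply,
      QuotientGroup.eq_one_iff]
  -- an element of order 5
  have hcardH : Nat.card ↥(Subgroup.centralizer ({z} : Set G)) = 1920 := by
    have h := card_preimage φ hsurj (fun _ => True)
    rw [Nat.card_congr (Equiv.subtypeUnivEquiv (fun _ => trivial)),
      Nat.card_congr (Equiv.subtypeUnivEquiv (fun _ => trivial)),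
      card_of_iso_A5 (MulEquiv.refl _)] at h
    have hk : Nat.card ↥φ.ker = 32 := by
      have h32 : (32 : ℕ) = 2 ^ 5 := by norm_num
      rw [h32, ← hcard]
      apply Nat.card_congr
      exact
        { toFun := fun k => ⟨k.1, (hmem k.1).mp ((hker k.1).mp (MonoidHom.mem_ker.mp k.2))⟩
          invFun := fun q => ⟨q.1, MonoidHom.mem_ker.mpr ((hker q.1).mpr ((hmem q.1).mpr q.2))⟩
          left_inv := fun _ => rfl
          right_inv := fun _ => rfl }
    rw [hk] at h
    exact h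
  have hex5 : ∃ f : G, f * z = z * f ∧ orderOf f = 5 := by
    haveI : Fact (Nat.Prime 5) := ⟨by norm_num⟩
    obtain ⟨f, hf⟩ := exists_prime_orderOf_dvd_card' (G := ↥(Subgroup.centralizer ({z} : Set G))) 5
      (by rw [hcardH]; norm_num)
    exact ⟨f.1, (mem_cent_iff z f.1).mp f.2, by rw [Subgroup.orderOf_coe]; exact hf⟩
  exact za5_of_hom (MulEquiv.refl _) ⟨hyp, hcardQ, hex5⟩ φ hsurj hker

end Cfsg.Agent.Lib.Helper14.J2Rec
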