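import Mathlib
import Cfsg.Agent.Lib.Helper14.J2RecV

/-!
helper14: S1721 / S5382, part W: the main structure theorem: `C_G(t) = V × B` with `B ≅ A₅`,
and `|G| = 604800`.
-/

set_option autoImplicit false
open scoped commutatorElement

namespace Cfsg.Agent.Lib.Helper14.J2Rec

open Cfsg.Agent.Lib.Helper14.EO2 Cfsg.Agent.Lib.Helper14.LES Cfsg.Agent.Lib.Helper20.ES
open Cfsg.Agent.Lib.Helper14.J2Ord

variable {G : Type*} [Group G] [Finite G]

namespace GP

variable {z t : G} {Q : Subgroup G}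

/-- the structure of `C_G(t)` -/
theorem structure_thm (S : GP z t Q)
    (hall : ∀ x : G, orderOf x = 2 → IsConj z x ∨ IsConj t x) :
    ∃ V B : Subgroup G, TSide z t V B ∧ Nat.card ↥V = 4 ∧
      (∀ v ∈ V, v * z = z * v ∧ v * t = t * v) ∧
      (∀ x, x * t = t * x → ∀ b ∈ B, x * b * x⁻¹ ∈ B) ∧
      (∀ v ∈ V, ∀ x, x * t = t * x → v * x = x * v) ∧
      (∀ x ∈ B, x * z = z * x → x ∈ Q) ∧ (∀ x ∈ Q, x * t = t * x → x ∈ B) ∧
      Nat.card ↥(Subgroup.centralizer ({t} : Set G)) = 240 := by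
  obtain ⟨s, D⟩ := S.exists_TD
  obtain ⟨V, B, h1, h2, h3, h4, h5, h6, h7, h8, h9, h10, hcase⟩ := D.klein
  rcases hcase with ⟨⟨e⟩⟩ | ⟨h12, hnorm⟩
  · refine ⟨V, B, D.tSide h2 h3 h4 h6 h7 h8 h10 e, h1, h3, h5, h6, h9, h10, ?_⟩
    rw [card_of_decomp (Subgroup.centralizer ({t} : Set G)) V B
      (fun v hv => (mem_cent_iff t v).mpr (h3 v hv).2)
      (fun b hb => (mem_cent_iff t b).mpr (h4 b hb)) h7
      (fun x hx => h8 x ((mem_cent_iff t x).mp hx)), h1, card_of_iso_A5 e]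
  · exact absurd (D.not_small hall h1 h3 h4 h6 h7 h8 h10 h12 hnorm) not_false

/-- the order of `G` -/
theorem order (S : GP z t Q)
    (hall : ∀ x : G, orderOf x = 2 → IsConj z x ∨ IsConj t x) : Nat.card G = 604800 := by
  obtain ⟨V, B, hT, -, -, -, -, -, -, hCt⟩ := S.structure_thm hall
  exact S.order_eq hT hall hCt

end GP

end Cfsg.Agent.Lib.Helper14.J2Rec
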