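import Mathlib
import Cfsg.Agent.Lib.Helper14.J2RecW

/-!
helper14: S5382, part X: generic lemmas: internal direct products as isomorphisms, Klein four-groups,
and subgroups isomorphic to `A₅` (trivial centre, perfect, no normal 2-subgroups).
-/

set_option autoImplicit false
open scoped commutatorElement

namespace Cfsg.Agent.Lib.Helper14.J2Rec

open Cfsg.Agent.Lib.Helper14.J2Ord

section generic

variable {G : Type*} [Group G]

/-- an internal direct product is isomorphic to the external one -/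
theorem nonempty_prodEquiv_of_decomp (M V B : Subgroup G) (hV : V ≤ M) (hB : B ≤ M)
    (hcomm : ∀ v ∈ V, ∀ b ∈ B, v * b = b * v) (hdisj : ∀ x, x ∈ V → x ∈ B → x = 1)
    (hgen : ∀ x ∈ M, ∃ v ∈ V, ∃ b ∈ B, x = v * b) : Nonempty (↥M ≃* ↥V × ↥B) := by
  let f : ↥V × ↥B →* ↥M := MonoidHom.mk'
    (fun p : ↥V × ↥B => (⟨(p.1 : G) * (p.2 : G), M.mul_mem (hV p.1.2) (hB p.2.2)⟩ : ↥M)) (by
      rintro ⟨⟨v, hv⟩, ⟨b, hb⟩⟩ ⟨⟨v', hv'⟩, ⟨b', hb'⟩⟩
      apply Subtype.ext
      show (v * v') * (b * b') = (v * b) * (v' * b')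
      have := hcomm v' hv' b hb
      calc (v * v') * (b * b') = v * (v' * b) * b' := by group
        _ = v * (b * v') * b' := by rw [this]
        _ = (v * b) * (v' * b') := by group)
  have hf : ∀ p : ↥V × ↥B, ((f p : ↥M) : G) = (p.1 : G) * (p.2 : G) := fun p => rfl
  have hbij : Function.Bijective f := by
    constructor
    · rintro ⟨⟨v, hv⟩, ⟨b, hb⟩⟩ ⟨⟨v', hv'⟩, ⟨b', hb'⟩⟩ h
      have h1 : v * b = v' * b' := congrArg Subtype.val h
      have h2 : v'⁻¹ * v = b' * b⁻¹ := by
        calc v'⁻¹ * v = v'⁻¹ * (v * b) * b⁻¹ := by group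
          _ = v'⁻¹ * (v' * b') * b⁻¹ := by rw [h1]
          _ = b' * b⁻¹ := by group
      have h3 : v'⁻¹ * v = 1 :=
        hdisj _ (V.mul_mem (V.inv_mem hv') hv) (h2 ▸ B.mul_mem hb' (B.inv_mem hb))
      have h4 : v = v' := by
        calc v = v' * (v'⁻¹ * v) := by group
          _ = v' := by rw [h3, mul_one]
      subst h4
      have h5 : b = b' := mul_left_cancel h1
      subst h5
      rfl
    · rintro ⟨x, hx⟩
      obtain ⟨v, hv, b, hb, rfl⟩ := hgen x hx
      exact ⟨⟨⟨v, hv⟩, ⟨b, hb⟩⟩, rfl⟩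
  exact ⟨(MulEquiv.ofBijective f hbij).symm⟩

theorem kleinFour_prod : IsKleinFour (Multiplicative (ZMod 2) × Multiplicative (ZMod 2)) where
  card_four := by
    rw [Nat.card_prod]
    have : Nat.card (Multiplicative (ZMod 2)) = 2 := by
      rw [Nat.card_congr Multiplicative.toAdd, Nat.card_zmod]
    rw [this]
  exponent_two := by
    rw [Monoid.exponent_prod, Monoid.exponent_multiplicative, ZMod.exponent]
    rfl

theorem kleinFour_of_subgroup (V : Subgroup G) (h4 : Nat.card ↥V = 4)
    (h2 : ∀ v ∈ V, v * v = 1) : IsKleinFour ↥V where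
  card_four := h4
  exponent_two := by
    have hdvd : Monoid.exponent ↥V ∣ 2 := by
      apply Monoid.exponent_dvd_of_forall_pow_eq_one
      rintro ⟨v, hv⟩
      apply Subtype.ext
      rw [pow_two]
      exact h2 v hv
    rcases (Nat.dvd_prime Nat.prime_two).mp hdvd with h | h
    · exfalso
      have hsub : Subsingleton ↥V := Monoid.exp_eq_one_iff.mp h
      have := Nat.card_eq_one_iff_unique.mpr ⟨hsub, ⟨1⟩⟩
      omega
    · exact h

theorem nonempty_equiv_klein (V : Subgroup G) (h4 : Nat.card ↥V = 4)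
    (h2 : ∀ v ∈ V, v * v = 1) :
    Nonempty (↥V ≃* Multiplicative (ZMod 2) × Multiplicative (ZMod 2)) := by
  haveI := kleinFour_of_subgroup V h4 h2
  haveI := kleinFour_prod
  exact IsKleinFour.nonempty_mulEquiv

end generic

section A5

variable {B : Type*} [Group B] (e : B ≃* alternatingGroup (Fin 5))

include e in
theorem exists_noncomm : ∃ x y : B, x * y ≠ y * x := by
  by_contra hcon
  push_neg at hcon
  haveI : Finite B := Finite.of_equiv _ e.symm.toEquiv
  haveI : Fact (Nat.Prime 2) := ⟨Nat.prime_two⟩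
  obtain ⟨b, hb⟩ := exists_prime_orderOf_dvd_card' (G := B) 2 (by
    rw [card_of_iso_A5 e]; norm_num)
  have hb2 : b * b = 1 := sq_of_order_two hb
  have hb1 : b ≠ 1 := ne_one_of_order_two hb
  have h4 := card_cent_invol e b hb2 hb1
  rw [Nat.card_congr (Equiv.subtypeUnivEquiv (fun x => hcon x b)), card_of_iso_A5 e] at h4
  omega

include e in
theorem center_eq_bot_of_iso : Subgroup.center B = ⊥ := by
  haveI := isSimpleGroup_of_iso e
  rcases (inferInstance : (Subgroup.center B).Normal).eq_bot_or_eq_top with h | h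
  · exact h
  · exfalso
    obtain ⟨x, y, hxy⟩ := exists_noncomm e
    have hx : x ∈ Subgroup.center B := h ▸ Subgroup.mem_top x
    exact hxy (Subgroup.mem_center_iff.mp hx y).symm

include e in
theorem commutator_eq_top_of_iso : commutator B = ⊤ := by
  haveI := isSimpleGroup_of_iso e
  rcases (inferInstance : (commutator B).Normal).eq_bot_or_eq_top with h | h
  · exfalso
    have hc := (_root_.commutator_eq_bot_iff_center_eq_top (G := B)).mp h
    rw [center_eq_bot_of_iso e] at hc
    obtain ⟨x, y, hxy⟩ := exists_noncomm e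
    have hx : x ∈ (⊥ : Subgroup B) := hc ▸ Subgroup.mem_top x
    have hy : y ∈ (⊥ : Subgroup B) := hc ▸ Subgroup.mem_top y
    rw [Subgroup.mem_bot] at hx hy
    rw [hx, hy] at hxy
    exact hxy rfl
  · exact h

include e in
theorem eq_bot_of_normal_two (N : Subgroup B) [hN : N.Normal] (h2 : IsPGroup 2 ↥N) : N = ⊥ := by
  haveI := isSimpleGroup_of_iso e
  haveI : Fact (Nat.Prime 2) := ⟨Nat.prime_two⟩
  haveI : Finite B := Finite.of_equiv _ e.symm.toEquiv
  rcases hN.eq_bot_or_eq_top with h | h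
  · exact h
  · exfalso
    have hB : IsPGroup 2 B := by
      have := h2.of_equiv (MulEquiv.subgroupCongr h)
      exact this.of_equiv Subgroup.topEquiv
    obtain ⟨n, hn⟩ := IsPGroup.iff_card.mp hB
    rw [card_of_iso_A5 e] at hn
    have h3 : 3 ∣ 2 ^ n := by rw [← hn]; norm_num
    have := (Nat.Prime.dvd_of_dvd_pow Nat.prime_three h3)
    omega

end A5

end Cfsg.Agent.Lib.Helper14.J2Rec
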