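import Mathlib
import Cfsg.Agent.Lib.Helper14.J2RecX
import Cfsg.Agent.Lib.Helper16.PCore

/-!
helper14: S5382, part Y: `C_G(t) ≅ (Z₂ × Z₂) × A₅` and `O₂(C_G(t)) = V`.
-/

set_option autoImplicit false
open scoped commutatorElement

namespace Cfsg.Agent.Lib.Helper14.J2Rec

open Cfsg.Agent.Lib.Helper14.EO2 Cfsg.Agent.Lib.Helper14.LES Cfsg.Agent.Lib.Helper20.ES
open Cfsg.Agent.Lib.Helper14.J2Ord

variable {G : Type*} [Group G] [Finite G]

/-- the package describing `C_G(t) = V × B` -/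
structure TS (z t : G) (V B : Subgroup G) : Prop where
  ts : TSide z t V B
  cardV : Nat.card ↥V = 4
  Vz : ∀ v ∈ V, v * z = z * v ∧ v * t = t * v
  Bnorm : ∀ x, x * t = t * x → ∀ b ∈ B, x * b * x⁻¹ ∈ B
  Vcent : ∀ v ∈ V, ∀ x, x * t = t * x → v * x = x * v
  cardM : Nat.card ↥(Subgroup.centralizer ({t} : Set G)) = 240

/-- a normal 2-subgroup of `B ≅ A₅` is trivial -/
theorem eq_one_of_normal_two_sub {B : Subgroup G} (e : ↥B ≃* alternatingGroup (Fin 5))
    (N : Subgroup G) (hNB : N ≤ B) (hnorm : ∀ c ∈ B, ∀ n ∈ N, c * n * c⁻¹ ∈ N)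
    (h2 : IsPGroup 2 ↥N) {n : G} (hn : n ∈ N) : n = 1 := by
  haveI : (N.subgroupOf B).Normal := by
    constructor
    intro x hx c
    rw [Subgroup.mem_subgroupOf] at hx ⊢
    exact hnorm c.1 c.2 x.1 hx
  have hp : IsPGroup 2 ↥(N.subgroupOf B) := h2.of_equiv (Subgroup.subgroupOfEquivOfLe hNB).symm
  have hbot := eq_bot_of_normal_two e (N.subgroupOf B) hp
  have : (⟨n, hNB hn⟩ : ↥B) ∈ N.subgroupOf B := Subgroup.mem_subgroupOf.mpr hn
  rw [hbot, Subgroup.mem_bot] at this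
  exact congrArg Subtype.val this

namespace TS

variable {z t : G} {V B : Subgroup G}

theorem V_le (S : TS z t V B) : V ≤ Subgroup.centralizer ({t} : Set G) :=
  fun v hv => (mem_cent_iff t v).mpr (S.Vz v hv).2

theorem B_le (S : TS z t V B) : B ≤ Subgroup.centralizer ({t} : Set G) :=
  fun b hb => (mem_cent_iff t b).mpr (S.ts.Bt b hb)

theorem gen' (S : TS z t V B) : ∀ x ∈ Subgroup.centralizer ({t} : Set G),
    ∃ v ∈ V, ∃ b ∈ B, x = v * b :=
  fun x hx => S.ts.gen x ((mem_cent_iff t x).mp hx)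

/-- `C_G(t) ≅ (Z₂ × Z₂) × A₅` -/
theorem cent_iso (S : TS z t V B) :
    Nonempty (↥(Subgroup.centralizer ({t} : Set G)) ≃*
      (Multiplicative (ZMod 2) × Multiplicative (ZMod 2)) × alternatingGroup (Fin 5)) := by
  obtain ⟨f⟩ := nonempty_prodEquiv_of_decomp (Subgroup.centralizer ({t} : Set G)) V B
    S.V_le S.B_le S.ts.comm S.ts.disj S.gen'
  obtain ⟨k⟩ := nonempty_equiv_klein V S.cardV S.ts.V2
  obtain ⟨e⟩ := S.ts.iso
  exact ⟨f.trans (MulEquiv.prodCongr k e)⟩

/-- `O₂(C_G(t)) = V` -/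
theorem pCore_eq (S : TS z t V B) :
    (Cfsg.pCore 2 ↥(Subgroup.centralizer ({t} : Set G))).map
      (Subgroup.centralizer ({t} : Set G)).subtype = V := by
  haveI : Fact (Nat.Prime 2) := ⟨Nat.prime_two⟩
  obtain ⟨e⟩ := S.ts.iso
  have hPn : (Cfsg.pCore 2 ↥(Subgroup.centralizer ({t} : Set G))).Normal :=
    Subgroup.sSup_normal _ (fun _ h => h.1)
  have hP2 : IsPGroup 2 ↥((Cfsg.pCore 2 ↥(Subgroup.centralizer ({t} : Set G))).map
      (Subgroup.centralizer ({t} : Set G)).subtype) :=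
    (Cfsg.Agent.Lib.Helper16.pCore_isPGroup).map _
  have hPM : (Cfsg.pCore 2 ↥(Subgroup.centralizer ({t} : Set G))).map
      (Subgroup.centralizer ({t} : Set G)).subtype ≤ Subgroup.centralizer ({t} : Set G) :=
    Subgroup.map_subtype_le _
  have hPnorm : ∀ x ∈ Subgroup.centralizer ({t} : Set G),
      ∀ p ∈ (Cfsg.pCore 2 ↥(Subgroup.centralizer ({t} : Set G))).map
        (Subgroup.centralizer ({t} : Set G)).subtype,
      x * p * x⁻¹ ∈ (Cfsg.pCore 2 ↥(Subgroup.centralizer ({t} : Set G))).map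
        (Subgroup.centralizer ({t} : Set G)).subtype := by
    rintro x hx p ⟨p', hp', rfl⟩
    exact ⟨⟨x, hx⟩ * p' * ⟨x, hx⟩⁻¹, hPn.conj_mem p' hp' ⟨x, hx⟩, rfl⟩
  have hV2 : IsPGroup 2 ↥V := IsPGroup.of_card (n := 2) (by rw [S.cardV]; norm_num)
  apply le_antisymm
  · -- `O₂ ≤ V`
    intro p hp
    set P : Subgroup G := (Cfsg.pCore 2 ↥(Subgroup.centralizer ({t} : Set G))).map
      (Subgroup.centralizer ({t} : Set G)).subtype with hPdef
    have hVP : ∀ v ∈ V, ∀ n ∈ P, v * n * v⁻¹ ∈ P := fun v hv n hn => hPnorm v (S.V_le hv) n hn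
    have hVle : V ≤ Subgroup.normalizer (P : Set G) := by
      intro v hv
      rw [Subgroup.mem_normalizer_iff]
      intro n
      constructor
      · exact hVP v hv n
      · intro hn'
        have := hVP v⁻¹ (V.inv_mem hv) _ hn'
        simpa [mul_assoc] using this
    have hsup2 : IsPGroup 2 ↥(V ⊔ P) := IsPGroup.to_sup_of_normal_right' hV2 hP2 hVle
    obtain ⟨v, hv, b, hb, hpvb⟩ := S.gen' p (hPM hp)
    have hbN : b ∈ (V ⊔ P) ⊓ B := by
      refine Subgroup.mem_inf.mpr ⟨?_, hb⟩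
      have : b = v⁻¹ * p := by rw [hpvb]; group
      rw [this]
      exact Subgroup.mul_mem _ (Subgroup.mem_sup_left (V.inv_mem hv)) (Subgroup.mem_sup_right hp)
    have hb1 : b = 1 := by
      refine eq_one_of_normal_two_sub e ((V ⊔ P) ⊓ B) inf_le_right ?_
        (hsup2.to_le inf_le_left) hbN
      intro c hc n hn
      obtain ⟨hn1, hn2⟩ := Subgroup.mem_inf.mp hn
      refine Subgroup.mem_inf.mpr ⟨?_, ?_⟩
      · obtain ⟨v', hv', p', hp', rfl⟩ := mem_sup_of_normalizes V P hVP hn1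
        have hcv : c * v' * c⁻¹ = v' := by
          rw [← S.Vcent v' hv' c (S.ts.Bt c hc)]; group
        have : c * (v' * p') * c⁻¹ = v' * (c * p' * c⁻¹) := by
          calc c * (v' * p') * c⁻¹ = (c * v' * c⁻¹) * (c * p' * c⁻¹) := by group
            _ = v' * (c * p' * c⁻¹) := by rw [hcv]
        rw [this]
        exact Subgroup.mul_mem _ (Subgroup.mem_sup_left hv')
          (Subgroup.mem_sup_right (hPnorm c (S.B_le hc) p' hp'))
      · exact B.mul_mem (B.mul_mem hc hn2) (B.inv_mem hc)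
    rw [hpvb, hb1, mul_one]
    exact hv
  · -- `V ≤ O₂`
    intro v hv
    have hn : (V.subgroupOf (Subgroup.centralizer ({t} : Set G))).Normal := by
      constructor
      intro x hx c
      rw [Subgroup.mem_subgroupOf] at hx ⊢
      have hcx : (x : G) * (c : G) = (c : G) * (x : G) :=
        S.Vcent x.1 hx c.1 ((mem_cent_iff t c.1).mp c.2)
      have : ((c * x * c⁻¹ : ↥(Subgroup.centralizer ({t} : Set G))) : G) = (x : G) := by
        show (c : G) * (x : G) * (c : G)⁻¹ = (x : G)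
        rw [← hcx]; group
      rw [this]
      exact hx
    have hp : IsPGroup 2 ↥(V.subgroupOf (Subgroup.centralizer ({t} : Set G))) :=
      hV2.of_equiv (Subgroup.subgroupOfEquivOfLe S.V_le).symm
    have hle := Cfsg.Agent.Lib.Helper16.le_pCore hn hp
    exact ⟨⟨v, S.V_le hv⟩, hle (Subgroup.mem_subgroupOf.mpr hv), rfl⟩

end TS

end Cfsg.Agent.Lib.Helper14.J2Rec
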