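import Mathlib
import Cfsg.Agent.Lib.Helper14.J2RecY

/-!
helper14: S5382, part Z: the normalizer `N = N_G(V)` of the four-group `V = O₂(C_G(t))`:
`C_G(v) = C_G(t)` for `1 ≠ v ∈ V`, `N = {g | g t g⁻¹ ∈ V}`, `|N| = 720`, `B ⊴ N`.
-/

set_option autoImplicit false
open scoped commutatorElement

namespace Cfsg.Agent.Lib.Helper14.J2Rec

open Cfsg.Agent.Lib.Helper14.EO2 Cfsg.Agent.Lib.Helper14.LES Cfsg.Agent.Lib.Helper20.ES
open Cfsg.Agent.Lib.Helper14.J2Ord

variable {G : Type*} [Group G] [Finite G]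

/-- conjugate elements have centralizers of the same order -/
theorem card_centralizer_conj (g t : G) :
    Nat.card ↥(Subgroup.centralizer ({g * t * g⁻¹} : Set G)) =
      Nat.card ↥(Subgroup.centralizer ({t} : Set G)) := by
  apply Nat.card_congr
  exact
    { toFun := fun x => ⟨g⁻¹ * x.1 * g, by
        have hx := (mem_cent_iff _ _).mp x.2
        rw [mem_cent_iff]
        calc g⁻¹ * x.1 * g * t = g⁻¹ * (x.1 * (g * t * g⁻¹)) * g := by group
          _ = g⁻¹ * ((g * t * g⁻¹) * x.1) * g := by rw [hx]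
          _ = t * (g⁻¹ * x.1 * g) := by group⟩
      invFun := fun y => ⟨g * y.1 * g⁻¹, by
        have hy := (mem_cent_iff _ _).mp y.2
        rw [mem_cent_iff]
        calc g * y.1 * g⁻¹ * (g * t * g⁻¹) = g * (y.1 * t) * g⁻¹ := by group
          _ = g * (t * y.1) * g⁻¹ := by rw [hy]
          _ = g * t * g⁻¹ * (g * y.1 * g⁻¹) := by group⟩
      left_inv := fun x => by
        apply Subtype.ext
        show g * (g⁻¹ * x.1 * g) * g⁻¹ = x.1
        group
      right_inv := fun y => by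
        apply Subtype.ext
        show g⁻¹ * (g * y.1 * g⁻¹) * g = y.1
        group }

namespace TS

variable {z t : G} {V B : Subgroup G}

theorem conj_t_of_mem (S : TS z t V B) {v : G} (hv : v ∈ V) (hv1 : v ≠ 1) : IsConj t v :=
  S.ts.Ct v (S.Vz v hv).2 (S.ts.V2 v hv) hv1 (fun h => hv1 (S.ts.disj v hv h))

/-- `C_G(v) = C_G(t)` for `1 ≠ v ∈ V` -/
theorem cent_eq (S : TS z t V B) {v : G} (hv : v ∈ V) (hv1 : v ≠ 1) {x : G}
    (hx : x * v = v * x) : x * t = t * x := by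
  obtain ⟨g, hg⟩ := isConj_iff.mp (S.conj_t_of_mem hv hv1)
  have hle : Subgroup.centralizer ({t} : Set G) ≤ Subgroup.centralizer ({v} : Set G) := by
    intro y hy
    rw [mem_cent_iff] at hy ⊢
    exact (S.Vcent v hv y hy).symm
  have hcard : Nat.card ↥(Subgroup.centralizer ({v} : Set G)) =
      Nat.card ↥(Subgroup.centralizer ({t} : Set G)) := by
    rw [← hg]; exact card_centralizer_conj g t
  have heq := Subgroup.eq_of_le_of_card_ge hle (le_of_eq hcard)
  have : x ∈ Subgroup.centralizer ({t} : Set G) := by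
    rw [heq]; exact (mem_cent_iff v x).mpr hx
  exact (mem_cent_iff t x).mp this

/-- the centralizer of `B` in `C_G(t)` is `V` -/
theorem mem_V_of_cent (S : TS z t V B) {x : G} (hxt : x * t = t * x)
    (hxB : ∀ b ∈ B, x * b = b * x) : x ∈ V := by
  obtain ⟨e⟩ := S.ts.iso
  obtain ⟨v, hv, b, hb, rfl⟩ := S.ts.gen x hxt
  have hbc : (⟨b, hb⟩ : ↥B) ∈ Subgroup.center ↥B := by
    rw [Subgroup.mem_center_iff]
    rintro ⟨c, hc⟩
    apply Subtype.ext
    show c * b = b * c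
    have h1 := hxB c hc
    have hvc := S.ts.comm v hv c hc
    have hvb := S.ts.comm v hv b hb
    have h2 : v * (b * c) = v * (c * b) := by
      calc v * (b * c) = (v * b) * c := by group
        _ = c * (v * b) := h1
        _ = (c * v) * b := by group
        _ = (v * c) * b := by rw [hvc]
        _ = v * (c * b) := by group
    exact (mul_left_cancel h2).symm
  rw [center_eq_bot_of_iso e, Subgroup.mem_bot] at hbc
  have hb1 : b = 1 := congrArg Subtype.val hbc
  rw [hb1, mul_one]; exact hv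

/-- an element moving `t` into `V` normalizes `C_G(t)` and `V` -/
theorem norm_of_move (S : TS z t V B) {g : G} (hg : g * t * g⁻¹ ∈ V) :
    (∀ x, x * t = t * x → (g * x * g⁻¹) * t = t * (g * x * g⁻¹)) ∧
    (∀ x, x * t = t * x → (g⁻¹ * x * g) * t = t * (g⁻¹ * x * g)) ∧
    ∀ w ∈ V, g * w * g⁻¹ ∈ V := by
  have hv1 : g * t * g⁻¹ ≠ 1 := fun h => S.ts.t1 (conj_eq_one_iff.mp h)
  have h1 : ∀ x, x * t = t * x → (g * x * g⁻¹) * t = t * (g * x * g⁻¹) := by
    intro x hx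
    apply S.cent_eq hg hv1
    calc g * x * g⁻¹ * (g * t * g⁻¹) = g * (x * t) * g⁻¹ := by group
      _ = g * (t * x) * g⁻¹ := by rw [hx]
      _ = g * t * g⁻¹ * (g * x * g⁻¹) := by group
  have h2 : ∀ x, x * t = t * x → (g⁻¹ * x * g) * t = t * (g⁻¹ * x * g) := by
    intro x hx
    have hc := S.Vcent _ hg x hx
    calc g⁻¹ * x * g * t = g⁻¹ * (x * (g * t * g⁻¹)) * g := by group
      _ = g⁻¹ * ((g * t * g⁻¹) * x) * g := by rw [hc]
      _ = t * (g⁻¹ * x * g) := by group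
  refine ⟨h1, h2, ?_⟩
  intro w hw
  apply S.mem_V_of_cent (h1 w (S.Vz w hw).2)
  intro b hb
  have hb' := h2 b (S.ts.Bt b hb)
  have hc := S.Vcent w hw _ hb'
  calc g * w * g⁻¹ * b = g * (w * (g⁻¹ * b * g)) * g⁻¹ := by group
    _ = g * ((g⁻¹ * b * g) * w) * g⁻¹ := by rw [hc]
    _ = b * (g * w * g⁻¹) := by group

/-- membership in `N_G(V)` -/
theorem mem_normalizer_iff' (S : TS z t V B) {g : G} :
    g ∈ Subgroup.normalizer (V : Set G) ↔ g * t * g⁻¹ ∈ V := by
  constructor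
  · intro hg
    exact (Subgroup.mem_normalizer_iff.mp hg t).mp S.ts.tV
  · intro hg
    apply Subgroup.mem_normalizer_fintype
    intro w hw
    exact (S.norm_of_move hg).2.2 w hw

theorem cent_le_normalizer (S : TS z t V B) :
    Subgroup.centralizer ({t} : Set G) ≤ Subgroup.normalizer (V : Set G) := by
  intro x hx
  rw [S.mem_normalizer_iff']
  have : x * t * x⁻¹ = t := by
    rw [(mem_cent_iff t x).mp hx]; group
  rw [this]; exact S.ts.tV

/-- `[C_G(t), C_G(t)] ≤ B` -/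
theorem commutator_cent_le (S : TS z t V B) :
    ⁅Subgroup.centralizer ({t} : Set G), Subgroup.centralizer ({t} : Set G)⁆ ≤ B := by
  rw [Subgroup.commutator_le]
  intro x hx y hy
  obtain ⟨v, hv, b, hb, rfl⟩ := S.gen' x hx
  obtain ⟨v', hv', b', hb', rfl⟩ := S.gen' y hy
  have hyt : (v' * b') * t = t * (v' * b') := (mem_cent_iff t _).mp hy
  have hbt := S.ts.Bt b hb
  have hb't := S.ts.Bt b' hb'
  -- `x y x⁻¹ = b y b⁻¹`
  have h1 : (b * (v' * b') * b⁻¹) * t = t * (b * (v' * b') * b⁻¹) := conj_comm' hbt hyt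
  have h2 : v * (b * (v' * b') * b⁻¹) * v⁻¹ = b * (v' * b') * b⁻¹ := by
    rw [S.Vcent v hv _ h1]; group
  have h3 : (b' * b⁻¹ * b'⁻¹) * t = t * (b' * b⁻¹ * b'⁻¹) :=
    S.ts.Bt _ (B.mul_mem (B.mul_mem hb' (B.inv_mem hb)) (B.inv_mem hb'))
  have h4 : v' * (b' * b⁻¹ * b'⁻¹) * v'⁻¹ = b' * b⁻¹ * b'⁻¹ := by
    rw [S.Vcent v' hv' _ h3]; group
  have h5 : ⁅v * b, v' * b'⁆ = b * (b' * b⁻¹ * b'⁻¹) := by
    rw [commutatorElement_def]
    calc v * b * (v' * b') * (v * b)⁻¹ * (v' * b')⁻¹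
        = (v * (b * (v' * b') * b⁻¹) * v⁻¹) * (v' * b')⁻¹ := by group
      _ = (b * (v' * b') * b⁻¹) * (v' * b')⁻¹ := by rw [h2]
      _ = b * (v' * (b' * b⁻¹ * b'⁻¹) * v'⁻¹) := by group
      _ = b * (b' * b⁻¹ * b'⁻¹) := by rw [h4]
  rw [h5]
  exact B.mul_mem hb (B.mul_mem (B.mul_mem hb' (B.inv_mem hb)) (B.inv_mem hb'))

/-- `B = [B, B]` -/
theorem B_perfect (S : TS z t V B) : ⁅B, B⁆ = B := by
  obtain ⟨e⟩ := S.ts.iso
  rw [← Subgroup.map_subtype_commutator, commutator_eq_top_of_iso e, ← MonoidHom.range_eq_map,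
    Subgroup.range_subtype]

/-- `B` is normal in `N_G(V)` -/
theorem B_normal (S : TS z t V B) {n : G} (hn : n * t * n⁻¹ ∈ V) {b : G} (hb : b ∈ B) :
    n * b * n⁻¹ ∈ B := by
  have h1 := (S.norm_of_move hn).1
  have hle : B.map (MulAut.conj n).toMonoidHom ≤ Subgroup.centralizer ({t} : Set G) := by
    rintro _ ⟨c, hc, rfl⟩
    exact (mem_cent_iff t _).mpr (h1 c (S.ts.Bt c hc))
  have h2 : (⁅B, B⁆).map (MulAut.conj n).toMonoidHom ≤ B := by
    rw [Subgroup.map_commutator]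
    exact le_trans (Subgroup.commutator_mono hle hle) S.commutator_cent_le
  apply h2
  rw [S.B_perfect]
  exact ⟨b, hb, rfl⟩

end TS

end Cfsg.Agent.Lib.Helper14.J2Rec
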