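import Mathlib
import Cfsg.Agent.Lib.Helper14.J2RecZ

/-!
helper14: S5382, part Za: `|N_G(V)| = 720` and the order of `C = C_{N_G(V)}(B)`.
-/

set_option autoImplicit false
open scoped commutatorElement

namespace Cfsg.Agent.Lib.Helper14.J2Rec

open Cfsg.Agent.Lib.Helper14.EO2 Cfsg.Agent.Lib.Helper14.LES Cfsg.Agent.Lib.Helper20.ES
open Cfsg.Agent.Lib.Helper14.J2Ord

variable {G : Type*} [Group G] [Finite G]

/-- the class equation for a subgroup `K` acting on an element `t ∈ K` -/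
theorem card_of_class (K : Subgroup G) (t : G) (htK : t ∈ K) :
    Nat.card ↥K = Nat.card {v : G // ∃ k ∈ K, k * t * k⁻¹ = v} *
      Nat.card ↥(K ⊓ Subgroup.centralizer ({t} : Set G)) := by
  have h := Cfsg.Agent.Lib.Helper2.card_eq_card_conj_mul_card_centralizer (⟨t, htK⟩ : ↥K)
  rw [h]
  congr 1
  · apply Nat.card_congr
    refine Equiv.ofBijective (fun s => ⟨s.1.1, ?_⟩) ⟨?_, ?_⟩
    · obtain ⟨k, hk⟩ := isConj_iff.mp s.2
      exact ⟨k.1, k.2, congrArg Subtype.val hk⟩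
    · intro s s' hss
      apply Subtype.ext
      apply Subtype.ext
      have h' : s.1.1 = s'.1.1 := by
        have := congrArg (fun w : {v : G // ∃ k ∈ K, k * t * k⁻¹ = v} => w.1) hss
        exact this
      exact h'
    · rintro ⟨v, k, hk, rfl⟩
      refine ⟨⟨⟨k * t * k⁻¹, K.mul_mem (K.mul_mem hk htK) (K.inv_mem hk)⟩, ?_⟩, rfl⟩
      exact isConj_iff.mpr ⟨⟨k, hk⟩, rfl⟩
  · apply Nat.card_congr
    exact
      { toFun := fun x => ⟨x.1.1, Subgroup.mem_inf.mpr ⟨x.1.2, (mem_cent_iff t _).mpr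
          (congrArg Subtype.val ((mem_cent_iff (⟨t, htK⟩ : ↥K) x.1).mp x.2))⟩⟩
        invFun := fun y => ⟨⟨y.1, (Subgroup.mem_inf.mp y.2).1⟩,
          (mem_cent_iff (⟨t, htK⟩ : ↥K) _).mpr
            (Subtype.ext ((mem_cent_iff t y.1).mp (Subgroup.mem_inf.mp y.2).2))⟩
        left_inv := fun _ => rfl
        right_inv := fun _ => rfl }

/-- the number of non-trivial elements of a subgroup of order 4 -/
theorem card_nontrivial_of_four (V : Subgroup G) (h4 : Nat.card ↥V = 4) :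
    Nat.card {v : G // v ∈ V ∧ v ≠ 1} = 3 := by
  classical
  haveI : Fintype G := Fintype.ofFinite G
  rw [card_subgroup_eq_filter] at h4
  rw [Nat.card_eq_fintype_card, Fintype.card_subtype]
  have heq : Finset.univ.filter (fun v : G => v ∈ V ∧ v ≠ 1) =
      (Finset.univ.filter (fun v : G => v ∈ V)).erase 1 := by
    ext v
    simp only [Finset.mem_filter, Finset.mem_univ, true_and, Finset.mem_erase]
    tauto
  rw [heq, Finset.card_erase_of_mem, h4]
  simp only [Finset.mem_filter, Finset.mem_univ, true_and]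
  exact V.one_mem

namespace TS

variable {z t : G} {V B : Subgroup G}

theorem t_mem_normalizer (S : TS z t V B) : t ∈ Subgroup.normalizer (V : Set G) :=
  S.cent_le_normalizer ((mem_cent_iff t t).mpr rfl)

/-- `|N_G(V)| = 720` -/
theorem card_normalizer (S : TS z t V B) :
    Nat.card ↥(Subgroup.normalizer (V : Set G)) = 720 := by
  rw [card_of_class _ t S.t_mem_normalizer]
  have h1 : Subgroup.normalizer (V : Set G) ⊓ Subgroup.centralizer ({t} : Set G) =
      Subgroup.centralizer ({t} : Set G) := inf_eq_right.mpr S.cent_le_normalizer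
  rw [h1, S.cardM]
  have h2 : Nat.card {v : G // ∃ k ∈ Subgroup.normalizer (V : Set G), k * t * k⁻¹ = v} = 3 := by
    rw [← card_nontrivial_of_four V S.cardV]
    apply Nat.card_congr
    refine Equiv.subtypeEquivRight (fun v => ?_)
    constructor
    · rintro ⟨k, hk, rfl⟩
      exact ⟨S.mem_normalizer_iff'.mp hk, fun h => S.ts.t1 (conj_eq_one_iff.mp h)⟩
    · rintro ⟨hv, hv1⟩
      obtain ⟨g, hg⟩ := isConj_iff.mp (S.conj_t_of_mem hv hv1)
      exact ⟨g, S.mem_normalizer_iff'.mpr (hg ▸ hv), hg⟩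
  rw [h2]

/-- `C = C_{N_G(V)}(B)` -/
def CN (V B : Subgroup G) : Subgroup G :=
  Subgroup.normalizer (V : Set G) ⊓ Subgroup.centralizer (B : Set G)

theorem mem_CN (S : TS z t V B) {c : G} :
    c ∈ CN V B ↔ c * t * c⁻¹ ∈ V ∧ ∀ b ∈ B, c * b = b * c := by
  rw [CN, Subgroup.mem_inf, S.mem_normalizer_iff', Subgroup.mem_centralizer_iff]
  constructor
  · rintro ⟨h1, h2⟩
    exact ⟨h1, fun b hb => (h2 b hb).symm⟩
  · rintro ⟨h1, h2⟩
    exact ⟨h1, fun b hb => (h2 b hb).symm⟩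

theorem V_le_CN (S : TS z t V B) : V ≤ CN V B := by
  intro v hv
  rw [S.mem_CN]
  refine ⟨?_, fun b hb => S.ts.comm v hv b hb⟩
  have : v * t * v⁻¹ = t := by
    rw [(S.Vz v hv).2]; group
  rw [this]; exact S.ts.tV

theorem CN_inf_cent (S : TS z t V B) :
    CN V B ⊓ Subgroup.centralizer ({t} : Set G) = V := by
  apply le_antisymm
  · intro x hx
    obtain ⟨h1, h2⟩ := Subgroup.mem_inf.mp hx
    exact S.mem_V_of_cent ((mem_cent_iff t x).mp h2) (S.mem_CN.mp h1).2
  · intro v hv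
    exact Subgroup.mem_inf.mpr ⟨S.V_le_CN hv, S.V_le hv⟩

/-- `|C| ∈ {4, 8, 12}` -/
theorem card_CN_eq (S : TS z t V B) : ∃ k, 1 ≤ k ∧ k ≤ 3 ∧ Nat.card ↥(CN V B) = k * 4 := by
  refine ⟨Nat.card {v : G // ∃ k ∈ CN V B, k * t * k⁻¹ = v}, ?_, ?_, ?_⟩
  · haveI : Nonempty {v : G // ∃ k ∈ CN V B, k * t * k⁻¹ = v} :=
      ⟨⟨t, 1, (CN V B).one_mem, by group⟩⟩
    exact Nat.card_pos
  · rw [← card_nontrivial_of_four V S.cardV]
    apply Nat.card_le_card_of_injective (fun v => (⟨v.1, by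
      obtain ⟨k, hk, hkv⟩ := v.2
      rw [← hkv]
      exact ⟨(S.mem_CN.mp hk).1, fun h => S.ts.t1 (conj_eq_one_iff.mp h)⟩⟩ :
        {v : G // v ∈ V ∧ v ≠ 1}))
    intro v v' h
    have h' : v.1 = v'.1 := by
      have := congrArg (fun w : {v : G // v ∈ V ∧ v ≠ 1} => w.1) h
      exact this
    exact Subtype.ext h'
  · rw [card_of_class _ t (S.V_le_CN S.ts.tV), S.CN_inf_cent, S.cardV]

end TS

end Cfsg.Agent.Lib.Helper14.J2Rec
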