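import Mathlib
import Cfsg.Agent.S0228
import Cfsg.Agent.Lib.Helper14.J2RecZa

/-!
helper14: S5382, part Zb: `|C_{N_G(V)}(B)| = 12`, `N_G(V) = C × B`, `C ≅ A₄`.
-/

set_option autoImplicit false
open scoped commutatorElement

namespace Cfsg.Agent.Lib.Helper14.J2Rec

open Cfsg.Agent.Lib.Helper14.EO2 Cfsg.Agent.Lib.Helper14.LES Cfsg.Agent.Lib.Helper20.ES
open Cfsg.Agent.Lib.Helper14.J2Ord

variable {G : Type*} [Group G] [Finite G]

namespace TS

variable {z t : G} {V B : Subgroup G}

theorem B_le_normalizer (S : TS z t V B) : B ≤ Subgroup.normalizer (V : Set G) :=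
  le_trans S.B_le S.cent_le_normalizer

/-- `|N : C|` divides `|Aut(B)| = 120` -/
theorem card_CN_mul (S : TS z t V B) :
    ∃ r, r ∣ 120 ∧ Nat.card ↥(CN V B) * r = 720 := by
  obtain ⟨e⟩ := S.ts.iso
  haveI hn : (B.subgroupOf (Subgroup.normalizer (V : Set G))).Normal := by
    constructor
    intro x hx n
    rw [Subgroup.mem_subgroupOf] at hx ⊢
    exact S.B_normal (S.mem_normalizer_iff'.mp n.2) hx
  let ρ : ↥(Subgroup.normalizer (V : Set G)) →*
      MulAut ↥(B.subgroupOf (Subgroup.normalizer (V : Set G))) := MulAut.conjNormal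
  have hker : Nat.card ↥ρ.ker = Nat.card ↥(CN V B) := by
    apply Nat.card_congr
    exact
      { toFun := fun x => ⟨x.1.1, by
          rw [CN, Subgroup.mem_inf]
          refine ⟨x.1.2, ?_⟩
          rw [Subgroup.mem_centralizer_iff]
          intro b hb
          have hbN : b ∈ Subgroup.normalizer (V : Set G) := S.B_le_normalizer hb
          have h1 : ρ x.1 = 1 := MonoidHom.mem_ker.mp x.2
          have h2 : ρ x.1 ⟨⟨b, hbN⟩, Subgroup.mem_subgroupOf.mpr hb⟩ =
              ⟨⟨b, hbN⟩, Subgroup.mem_subgroupOf.mpr hb⟩ := by rw [h1]; rfl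
          have h3 := congrArg (fun w : ↥(B.subgroupOf (Subgroup.normalizer (V : Set G))) =>
            ((w : ↥(Subgroup.normalizer (V : Set G))) : G)) h2
          have h4 : (x.1 : G) * b * (x.1 : G)⁻¹ = b := h3
          calc b * (x.1 : G) = ((x.1 : G) * b * (x.1 : G)⁻¹) * (x.1 : G) := by rw [h4]
            _ = (x.1 : G) * b := by group⟩
        invFun := fun c => ⟨⟨c.1, (Subgroup.mem_inf.mp c.2).1⟩, by
          rw [MonoidHom.mem_ker]
          apply MulEquiv.ext
          intro b
          apply Subtype.ext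
          apply Subtype.ext
          show c.1 * (b.1 : G) * c.1⁻¹ = (b.1 : G)
          have hb : (b.1 : G) ∈ B := Subgroup.mem_subgroupOf.mp b.2
          have := Subgroup.mem_centralizer_iff.mp (Subgroup.mem_inf.mp c.2).2 _ hb
          rw [← this]; group⟩
        left_inv := fun _ => rfl
        right_inv := fun _ => rfl }
  have h1 := Subgroup.card_mul_index ρ.ker
  rw [Subgroup.index_ker, hker, S.card_normalizer] at h1
  refine ⟨Nat.card ↥ρ.range, ?_, h1⟩
  have h2 := Subgroup.card_subgroup_dvd_card ρ.range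
  have h3 : Nat.card (MulAut ↥(B.subgroupOf (Subgroup.normalizer (V : Set G)))) = 120 :=
    card_aut ((Subgroup.subgroupOfEquivOfLe S.B_le_normalizer).trans e)
  rw [h3] at h2
  exact h2

/-- `|C| = 12` -/
theorem card_CN (S : TS z t V B) : Nat.card ↥(CN V B) = 12 := by
  obtain ⟨k, hk1, hk3, hk⟩ := S.card_CN_eq
  obtain ⟨r, hr, hr2⟩ := S.card_CN_mul
  rw [hk] at hr2 ⊢
  interval_cases k
  · exfalso
    have : r = 180 := by omega
    subst this
    norm_num at hr
  · exfalso
    have : r = 90 := by omega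
    subst this
    norm_num at hr
  · rfl

theorem CN_le (S : TS z t V B) : CN V B ≤ Subgroup.normalizer (V : Set G) := inf_le_left

theorem CN_comm (S : TS z t V B) : ∀ c ∈ CN V B, ∀ b ∈ B, c * b = b * c :=
  fun c hc b hb => (S.mem_CN.mp hc).2 b hb

theorem CN_disj (S : TS z t V B) : ∀ x, x ∈ CN V B → x ∈ B → x = 1 := by
  intro x hxC hxB
  obtain ⟨e⟩ := S.ts.iso
  have hc : (⟨x, hxB⟩ : ↥B) ∈ Subgroup.center ↥B := by
    rw [Subgroup.mem_center_iff]
    rintro ⟨c, hc⟩
    apply Subtype.ext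
    exact (S.CN_comm x hxC c hc).symm
  rw [center_eq_bot_of_iso e, Subgroup.mem_bot] at hc
  exact congrArg Subtype.val hc

/-- `N_G(V) = C B` -/
theorem CN_gen (S : TS z t V B) :
    ∀ x ∈ Subgroup.normalizer (V : Set G), ∃ c ∈ CN V B, ∃ b ∈ B, x = c * b := by
  obtain ⟨e⟩ := S.ts.iso
  have hn : ∀ c ∈ CN V B, ∀ b ∈ B, c * b * c⁻¹ ∈ B := by
    intro c hc b hb
    rw [S.CN_comm c hc b hb, mul_assoc, mul_inv_cancel, mul_one]
    exact hb
  have hcard := card_sup_of_normalizes (CN V B) B hn S.CN_disj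
  rw [S.card_CN, card_of_iso_A5 e] at hcard
  have hle : CN V B ⊔ B ≤ Subgroup.normalizer (V : Set G) := sup_le S.CN_le S.B_le_normalizer
  have heq : CN V B ⊔ B = Subgroup.normalizer (V : Set G) :=
    Subgroup.eq_of_le_of_card_ge hle (by rw [hcard, S.card_normalizer])
  intro x hx
  rw [← heq] at hx
  exact mem_sup_of_normalizes (CN V B) B hn hx

/-- `C ≅ A₄` -/
theorem CN_iso (S : TS z t V B) : Nonempty (↥(CN V B) ≃* alternatingGroup (Fin 4)) := by
  apply Cfsg.Agent.S0228.result S.card_CN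
  intro c hc hcen
  have hc2 : (c : G) * (c : G) = 1 := by
    have := sq_of_order_two hc
    exact congrArg Subtype.val this
  have hc1 : (c : G) ≠ 1 := fun h => ne_one_of_order_two hc (Subtype.ext h)
  by_cases hcV : (c : G) ∈ V
  · -- an element of `C` outside `C_G(t)` does not commute with `c`
    have hex : ∃ x ∈ CN V B, ¬ x * t = t * x := by
      by_contra hcon
      push_neg at hcon
      have hle : CN V B ≤ V := by
        intro x hx
        rw [← S.CN_inf_cent]
        exact Subgroup.mem_inf.mpr ⟨hx, (mem_cent_iff t x).mpr (hcon x hx)⟩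
      have := Subgroup.card_le_of_le hle
      rw [S.card_CN, S.cardV] at this
      omega
    obtain ⟨x, hx, hxt⟩ := hex
    apply hxt
    apply S.cent_eq hcV hc1
    have := Subgroup.mem_center_iff.mp hcen ⟨x, hx⟩
    exact congrArg Subtype.val this
  · -- `c` does not commute with `t`
    apply hcV
    have hmem : (c : G) ∈ CN V B ⊓ Subgroup.centralizer ({t} : Set G) := by
      refine Subgroup.mem_inf.mpr ⟨c.2, (mem_cent_iff t _).mpr ?_⟩
      have := Subgroup.mem_center_iff.mp hcen ⟨t, S.V_le_CN S.ts.tV⟩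
      exact (congrArg Subtype.val this).symm
    exact (le_of_eq S.CN_inf_cent) hmem

/-- `N_G(V) ≅ A₄ × A₅` -/
theorem normalizer_iso (S : TS z t V B) :
    Nonempty (↥(Subgroup.normalizer (V : Set G)) ≃*
      alternatingGroup (Fin 4) × alternatingGroup (Fin 5)) := by
  obtain ⟨f⟩ := nonempty_prodEquiv_of_decomp (Subgroup.normalizer (V : Set G)) (CN V B) B
    S.CN_le S.B_le_normalizer S.CN_comm S.CN_disj S.CN_gen
  obtain ⟨k⟩ := S.CN_iso
  obtain ⟨e⟩ := S.ts.iso
  exact ⟨f.trans (MulEquiv.prodCongr k e)⟩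

end TS

end Cfsg.Agent.Lib.Helper14.J2Rec
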