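import Cfsg.Agent.Lib.Helper14.J2R

set_option autoImplicit false

/-!
Icosian model, part S: an element of `twoJ2` commuting with all reflections is `±1`.
-/

namespace Cfsg.Agent.Lib.Helper14.J2

open Quaternion Cfsg.Spor ZQ V3

/-- an element commuting with the reflection in `r` maps `r` to a multiple of `r` -/
theorem comm_refl_prop {g : Equiv.Perm icoLeech} (hg : Ext g) (r : icoLeech)
    (hr : qip (r : Fin 3 → ℍ[ℝ]) r = 4) (hcomm : g * reflPerm r hr = reflPerm r hr * g) :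
    ∃ c : ℍ[ℝ], c * star c = 1 ∧ ((g r : icoLeech) : Fin 3 → ℍ[ℝ]) = lsm c r := by
  have h1 := hg.conj_reflPerm r hr
  have h2 : g * reflPerm r hr * g⁻¹ = reflPerm r hr := by
    rw [hcomm, mul_assoc, mul_inv_cancel, mul_one]
  rw [h2] at h1
  have hgr : qip ((g r : icoLeech) : Fin 3 → ℍ[ℝ]) (g r : icoLeech) = 4 := by
    rw [hg.qip_eq, hr]
  have h3 := congrArg (fun f : Equiv.Perm icoLeech => ((f (g r) : icoLeech) : Fin 3 → ℍ[ℝ])) h1
  simp only [reflPerm_apply] at h3
  rw [qrefl_self hgr] at h3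
  exact prop_of_qrefl_eq_neg hgr hr h3

/-- the special vectors used to pin down a central element -/
def wA : V3 := ⟨one', ⟨-1, 0, -1, 0, 1, 0, -1, 2⟩, one'⟩
/-- the special vectors used to pin down a central element -/
def wI : V3 := ⟨one', ⟨-1, 0, -1, 0, -1, 0, 1, -2⟩, qi⟩
/-- the special vectors used to pin down a central element -/
def wJ : V3 := ⟨one', ⟨-1, 0, -1, 0, -1, 2, 1, 0⟩, ⟨0, 0, 0, 0, 2, 0, 0, 0⟩⟩
/-- the special vectors used to pin down a central element -/
def wH : V3 := ⟨hh, hh, 0⟩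

set_option maxRecDepth 100000 in
theorem wA_mem : wA ∈ normLit := by decide +kernel
set_option maxRecDepth 100000 in
theorem wI_mem : wI ∈ normLit := by decide +kernel
set_option maxRecDepth 100000 in
theorem wJ_mem : wJ ∈ normLit := by decide +kernel
set_option maxRecDepth 100000 in
theorem wH_mem : wH ∈ normLit := by decide +kernel

/-- the quaternion unit `j` -/
noncomputable def qJ : ℍ[ℝ] := ⟨0, 0, 1, 0⟩

theorem toH_qj : toH ⟨0, 0, 0, 0, 2, 0, 0, 0⟩ = qJ := by
  unfold qJ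
  ext <;> simp

theorem icoH_ne_zero : icoH ≠ 0 := by
  intro h
  have h1 : icoH.imI = (0 : ℍ[ℝ]).imI := by rw [h]
  have e : icoH.imI = 1 / 2 := rfl
  rw [e, Quaternion.imI_zero] at h1
  norm_num at h1

/-- a quaternion of norm one commuting with `i` and `j` is `±1` -/
theorem unit_comm_cases {c : ℍ[ℝ]} (hc : c * star c = 1) (hi : qI * c = c * qI)
    (hj : qJ * c = c * qJ) : c = 1 ∨ c = -1 := by
  have i2 : (qI * c).imJ = (c * qI).imJ := by rw [hi]
  have i3 : (qI * c).imK = (c * qI).imK := by rw [hi]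
  have j1 : (qJ * c).imK = (c * qJ).imK := by rw [hj]
  rw [Quaternion.imJ_mul, Quaternion.imJ_mul] at i2
  rw [Quaternion.imK_mul, Quaternion.imK_mul] at i3
  rw [Quaternion.imK_mul, Quaternion.imK_mul] at j1
  have a0 : qI.re = 0 := rfl
  have a1 : qI.imI = 1 := rfl
  have a2 : qI.imJ = 0 := rfl
  have a3 : qI.imK = 0 := rfl
  have b0 : qJ.re = 0 := rfl
  have b1 : qJ.imI = 0 := rfl
  have b2 : qJ.imJ = 1 := rfl
  have b3 : qJ.imK = 0 := rfl
  rw [a0, a1, a2, a3] at i2 i3
  rw [b0, b1, b2, b3] at j1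
  have e1 : c.imK = 0 := by linarith
  have e2 : c.imJ = 0 := by linarith
  have e3 : c.imI = 0 := by linarith
  have hn : (c * star c).re = (1 : ℍ[ℝ]).re := by rw [hc]
  simp only [Quaternion.re_mul, Quaternion.re_star, Quaternion.imI_star, Quaternion.imJ_star,
    Quaternion.imK_star, Quaternion.re_one, e1, e2, e3] at hn
  norm_num at hn
  have hsq : (c.re - 1) * (c.re + 1) = 0 := by nlinarith
  rcases mul_eq_zero.mp hsq with h | h
  · left
    ext <;> simp [e1, e2, e3]
    linarith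
  · right
    ext <;> simp [e1, e2, e3]
    linarith


theorem vec_decomp (v : Fin 3 → ℍ[ℝ]) :
    v = lsm ((1 / 2 : ℝ) • v 0) (toV e0) + lsm ((1 / 2 : ℝ) • v 1) (toV e1) +
      lsm ((1 / 2 : ℝ) • v 2) (toV e2) := by
  have key : ∀ a : ℍ[ℝ], ((1 / 2 : ℝ) • a) * 2 = a := by
    intro a
    rw [mul_two_eq, smul_smul]
    norm_num
  have key' : ∀ a : ℍ[ℝ], (2⁻¹ : ℝ) • (a * 2) = a := by
    intro a
    rw [mul_two_eq, smul_smul]
    norm_num
  rw [toV_e0, toV_e1, toV_e2]
  funext t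
  fin_cases t <;> simp [lsm_apply, key']

/-- an element of `twoJ2` commuting with all reflections is `1` or `-1` -/
theorem center_cases {g : Equiv.Perm icoLeech} (hg : g ∈ twoJ2)
    (hc : ∀ w ∈ normLit, g * refl w = refl w * g) : g = 1 ∨ g = negPerm := by
  have hE := ext_of_mem_twoJ2 hg
  obtain ⟨L, L', h1, h2, h3, h4, h5, h6⟩ := hE
  -- every normalized vector is mapped to a multiple of itself
  have hprop : ∀ w ∈ normLit, ∃ c : ℍ[ℝ], c * star c = 1 ∧ L (toV w) = lsm c (toV w) := by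
    intro w hw
    have hcw := hc w hw
    rw [refl_eq (normLit_ok w hw)] at hcw
    obtain ⟨c, hc1, hc2⟩ := comm_refl_prop (ext_of_mem_twoJ2 hg) _ _ hcw
    rw [h5] at hc2
    exact ⟨c, hc1, hc2⟩
  obtain ⟨c0, n0, p0⟩ := hprop e0 e0_mem
  obtain ⟨c1, n1, p1⟩ := hprop e1 e1_mem
  obtain ⟨c2, n2, p2⟩ := hprop e2 e2_mem
  -- the extension is diagonal
  have key : ∀ a c : ℍ[ℝ], ((1 / 2 : ℝ) • a) * (c * 2) = a * c := by
    intro a c
    rw [mul_two_eq, mul_smul_comm, smul_mul_assoc, smul_smul]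
    norm_num
  have hL : ∀ v : Fin 3 → ℍ[ℝ], L v = ![v 0 * c0, v 1 * c1, v 2 * c2] := by
    intro v
    conv_lhs => rw [vec_decomp v]
    rw [h1.add, h1.add, h1.lsm, h1.lsm, h1.lsm, p0, p1, p2, toV_e0, toV_e1, toV_e2]
    funext t
    have key' : ∀ a c : ℍ[ℝ], (2⁻¹ : ℝ) • (a * (c * 2)) = a * c := by
      intro a c
      rw [mul_two_eq, mul_smul_comm, smul_smul]
      norm_num
    fin_cases t <;> simp [lsm_apply, key']
  -- the special vectors
  obtain ⟨dA, -, pA⟩ := hprop wA wA_mem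
  obtain ⟨dI, -, pI⟩ := hprop wI wI_mem
  obtain ⟨dJ, -, pJ⟩ := hprop wJ wJ_mem
  obtain ⟨dH, -, pH⟩ := hprop wH wH_mem
  rw [hL] at pA pI pJ pH
  have A0 := congrFun pA 0
  have A2 := congrFun pA 2
  have I0 := congrFun pI 0
  have I2 := congrFun pI 2
  have J0 := congrFun pJ 0
  have J2 := congrFun pJ 2
  have H0 := congrFun pH 0
  have H1 := congrFun pH 1
  simp only [Matrix.cons_val_zero, Matrix.cons_val_one, Matrix.cons_val_two, Matrix.tail_cons,
    Matrix.head_cons, lsm_apply, toV_zero, toV_one, toV_two, wA, wI, wJ, wH, toH_one', toH_qi,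
    toH_qj, toH_hh, one_mul, mul_one] at A0 A2 I0 I2 J0 J2 H0 H1
  -- consequences
  have e20 : c2 = c0 := by rw [A2, ← A0]
  have e10 : c1 = c0 := by
    have : icoH * c1 = icoH * c0 := by rw [H1, H0]
    exact mul_left_cancel₀ icoH_ne_zero this
  have ci : qI * c0 = c0 * qI := by rw [← e20, I2, ← I0, e20]
  have cj : qJ * c0 = c0 * qJ := by rw [← e20, J2, ← J0, e20]
  rw [e10, e20] at hL
  rcases unit_comm_cases n0 ci cj with h | h
  · left
    ext1 x
    apply Subtype.ext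
    rw [h5, hL, h]
    funext t
    fin_cases t <;> simp
  · right
    ext1 x
    apply Subtype.ext
    rw [h5, hL, h, negPerm_apply]
    funext t
    fin_cases t <;> simp

end Cfsg.Agent.Lib.Helper14.J2
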