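import Mathlib
import Cfsg.Agent.Lib.Helper14.J2RecA

/-!
helper14: S1722 (Sylow 5-structure of groups of Hall–Janko type), part A0: decidable facts about
elements of order 5 of the alternating group of degree 5 inside `Perm (Fin 5)`.
-/

set_option autoImplicit false
set_option maxRecDepth 1000000

namespace Cfsg.Agent.Lib.Helper14.J2Syl

open Equiv

/-- the centralizer in `S₅` of an element of order 5 consists of its powers -/
theorem cent5_perm : ∀ τ : Perm (Fin 5), τ ^ 5 = 1 → τ ≠ 1 → ∀ σ : Perm (Fin 5),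
    σ * τ = τ * σ → σ = 1 ∨ σ = τ ∨ σ = τ ^ 2 ∨ σ = τ ^ 3 ∨ σ = τ ^ 4 := by
  decide

/-- the normalizer in `A₅` of a subgroup of order 5 has order 10 -/
theorem norm5_card : ∀ τ : Perm (Fin 5), τ ^ 5 = 1 → τ ≠ 1 →
    (Finset.univ.filter (fun σ : Perm (Fin 5) => Perm.sign σ = 1 ∧
      (σ * τ * σ⁻¹ = τ ∨ σ * τ * σ⁻¹ = τ ^ 2 ∨ σ * τ * σ⁻¹ = τ ^ 3 ∨
        σ * τ * σ⁻¹ = τ ^ 4))).card = 10 := by
  decide

end Cfsg.Agent.Lib.Helper14.J2Syl
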