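import Cfsg.Agent.Lib.Helper14.LargeESD

/-!
helper14: `Q = F*(C_G(z))` extraspecial: basic package `Base Q z`, fixed-point-free involutions,
and the odd-order property of large extraspecial subgroups from `z ∈ O_2(C_G(u))`.
-/

set_option autoImplicit false
open scoped commutatorElement

namespace Cfsg.Agent.Lib.Helper14.LES

open Cfsg.Agent.Lib.Helper20.ES

variable {G : Type*} [Group G]

/-- conjugation by a normalizing element as an endomorphism -/
def conjHom (X : Subgroup G) (z : G) (hz : z ∈ Subgroup.normalizer (X : Set G)) : ↥X →* ↥X where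
  toFun x := ⟨z * x * z⁻¹, (Subgroup.mem_normalizer_iff.mp hz x).mp x.2⟩
  map_one' := by
    apply Subtype.ext
    simp
  map_mul' := by
    intro a b
    apply Subtype.ext
    show z * (a * b : G) * z⁻¹ = (z * a * z⁻¹) * (z * b * z⁻¹)
    group

/-- a fixed-point-free involution inverts -/
theorem inverts_of_fpf [Finite G] (X : Subgroup G) (z : G) (hzz : z * z = 1)
    (hz : z ∈ Subgroup.normalizer (X : Set G)) (hfpf : ∀ x ∈ X, x * z = z * x → x = 1) :
    (∀ x ∈ X, z * x * z⁻¹ = x⁻¹) ∧ (∀ x ∈ X, ∀ y ∈ X, x * y = y * x) ∧ Odd (Nat.card ↥X) := by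
  have hzinv : z⁻¹ = z := inv_eq_of_mul_eq_one_right hzz
  have h1 : MonoidHom.FixedPointFree (conjHom X z hz) := by
    intro x hx
    have h2 : z * (x : G) * z⁻¹ = x := congrArg Subtype.val hx
    apply Subtype.ext
    apply hfpf x x.2
    calc (x : G) * z = (z * x * z⁻¹) * z := by rw [h2]
      _ = z * x := by group
  have h2 : Function.Involutive (conjHom X z hz) := by
    intro x
    apply Subtype.ext
    show z * (z * (x : G) * z⁻¹) * z⁻¹ = x
    calc z * (z * (x : G) * z⁻¹) * z⁻¹ = (z * z) * x * (z * z)⁻¹ := by group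
      _ = x := by rw [hzz]; group
  refine ⟨?_, ?_, h1.odd_card_of_involutive h2⟩
  · intro x hx
    have := congrFun (h1.coe_eq_inv_of_involutive h2) ⟨x, hx⟩
    exact congrArg Subtype.val this
  · intro x hx y hy
    have := h1.commute_all_of_involutive h2 ⟨x, hx⟩ ⟨y, hy⟩
    exact congrArg Subtype.val this.eq

/-- basic package -/
structure Base (Q : Subgroup G) (z : G) : Prop where
  amb : Amb Q z
  cQ : ∀ x : G, (∀ q ∈ Q, x * q = q * x) → x = 1 ∨ x = z
  nQ : ∀ x : G, x * z = z * x → x ∈ Subgroup.normalizer (Q : Set G)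
  es : Cfsg.IsExtraspecial 2 ↥Q

theorem base_of_fstar [Finite G] (z : G) (hz : orderOf z = 2) (Q : Subgroup G)
    (hF : (Cfsg.generalizedFittingSubgroup ↥(Subgroup.centralizer ({z} : Set G))).map
      (Subgroup.centralizer ({z} : Set G)).subtype = Q)
    (hQ : Cfsg.IsExtraspecial 2 ↥Q) : Base Q z := by
  obtain ⟨hamb, -⟩ := amb_of hF hz hQ
  refine ⟨hamb, ?_, ?_, hQ⟩
  · intro x hx
    have hxQ : x ∈ Q := mem_Q_of_centralizes hF x (hx z hamb.zQ) hx
    exact hamb.cen x hxQ (fun q hq => (hx q hq).symm)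
  · intro x hx
    apply Subgroup.mem_normalizer_fintype
    intro q hq
    exact conj_mem_Q hF x hx q hq

namespace Base

variable {Q : Subgroup G} {z : G}

theorem hL2 (h : Base Q z) :
    Subgroup.centralizer (Q : Set G) = ((Subgroup.center ↥Q).map Q.subtype) := by
  rw [h.amb.center_eq]
  apply le_antisymm
  · intro x hx
    rw [h.amb.mem_zpowers]
    apply h.cQ
    intro q hq
    exact (Subgroup.mem_centralizer_iff.mp hx q hq).symm
  · intro x hx
    rw [h.amb.mem_zpowers] at hx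
    rw [Subgroup.mem_centralizer_iff]
    intro q hq
    rcases hx with rfl | rfl
    · simp
    · exact h.amb.zc q hq

theorem hL3 (h : Base Q z) :
    Subgroup.centralizer (((Subgroup.center ↥Q).map Q.subtype) : Set G) ≤
      Subgroup.normalizer (Q : Set G) := by
  rw [h.amb.center_eq]
  intro x hx
  apply h.nQ
  exact (Subgroup.mem_centralizer_iff.mp hx z (Subgroup.mem_zpowers z)).symm

theorem large_of_odd (h : Base Q z)
    (hodd : ∀ K : Subgroup G, Odd (Nat.card K) → Q ≤ Subgroup.normalizer (K : Set G) → K = ⊥) :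
    Cfsg.IsLargeExtraspecial Q := ⟨h.es, h.hL2, h.hL3, hodd⟩

/-- if some conjugate of `z` other than `z` lies in `Q` then `Q` is large -/
theorem large_of_conj [Finite G] (h : Base Q z) (g : G) (hgQ : g * z * g⁻¹ ∈ Q)
    (hgz : g * z * g⁻¹ ≠ z) : Cfsg.IsLargeExtraspecial Q := by
  have hz1 : g * z * g⁻¹ ≠ 1 := fun h' => h.amb.z1 (conj_eq_one_iff.mp h')
  have hg : g ∉ Subgroup.normalizer (((Subgroup.center ↥Q).map Q.subtype) : Set G) := by
    rw [h.amb.center_eq]
    intro h'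
    have := (Subgroup.mem_normalizer_iff.mp h' z).mp (Subgroup.mem_zpowers z)
    rw [h.amb.mem_zpowers] at this
    rcases this with h1 | h1
    · exact hz1 h1
    · exact hgz h1
  have hZg : (((Subgroup.center ↥Q).map Q.subtype)).map (MulAut.conj g).toMonoidHom ≤ Q := by
    rw [h.amb.center_eq]
    rintro _ ⟨w, hw, rfl⟩
    rw [SetLike.mem_coe, h.amb.mem_zpowers] at hw
    show g * w * g⁻¹ ∈ Q
    rcases hw with rfl | rfl
    · simp
    · exact hgQ
  exact (large_conj Q h.es h.hL2 h.hL3 g hg hZg).2.2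

/-- an element of a 2-group and of an odd-order group is trivial -/
theorem eq_one_of_mem_odd [Finite G] (h : Base Q z) (X : Subgroup G) (hX : Odd (Nat.card ↥X))
    (x : G) (hxQ : x ∈ Q) (hxX : x ∈ X) : x = 1 := by
  obtain ⟨k, hk⟩ := h.amb.pgroup ⟨x, hxQ⟩
  have hk' : x ^ (2 ^ k) = 1 := by
    have := congrArg Subtype.val hk
    simpa using this
  have h1 : orderOf x ∣ 2 ^ k := orderOf_dvd_of_pow_eq_one hk'
  have h2 : orderOf x ∣ Nat.card ↥X := by
    have := orderOf_dvd_natCard (⟨x, hxX⟩ : ↥X)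
    rwa [← Subgroup.orderOf_coe] at this
  have hc : Nat.Coprime (2 ^ k) (Nat.card ↥X) :=
    Nat.Coprime.pow_left k (Nat.coprime_two_left.mpr hX)
  have h3 : orderOf x = 1 := Nat.Coprime.eq_one_of_dvd (Nat.Coprime.coprime_dvd_left h1 hc) h2
  exact orderOf_eq_one_iff.mp h3

/-- `C_X(z) = 1` for an odd-order subgroup normalized by `Q` -/
theorem cent_z_eq_one [Finite G] (h : Base Q z) (X : Subgroup G) (hX : Odd (Nat.card ↥X))
    (hQX : Q ≤ Subgroup.normalizer (X : Set G)) (d : G) (hd : d ∈ X) (hdz : d * z = z * d) :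
    d = 1 := by
  have hdN := h.nQ d hdz
  have hall : ∀ q ∈ Q, d * q = q * d := by
    intro q hq
    have h1 : d * q * d⁻¹ * q⁻¹ ∈ Q :=
      Subgroup.mul_mem _ ((Subgroup.mem_normalizer_iff.mp hdN q).mp hq) (Subgroup.inv_mem _ hq)
    have h2 : d * q * d⁻¹ * q⁻¹ ∈ X := by
      have h3 : q * d⁻¹ * q⁻¹ ∈ X :=
        (Subgroup.mem_normalizer_iff.mp (hQX hq) d⁻¹).mp (Subgroup.inv_mem _ hd)
      have h4 : d * q * d⁻¹ * q⁻¹ = d * (q * d⁻¹ * q⁻¹) := by group
      rw [h4]
      exact Subgroup.mul_mem _ hd h3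
    have h5 := h.eq_one_of_mem_odd X hX _ h1 h2
    calc d * q = (d * q * d⁻¹ * q⁻¹) * (q * d) := by group
      _ = q * d := by rw [h5, one_mul]
  rcases h.cQ d hall with h1 | h1
  · exact h1
  · exfalso
    apply h.amb.z1
    exact h.eq_one_of_mem_odd X hX z h.amb.zQ (h1 ▸ hd)

/-- the odd-order property from an involution `u ∈ Q \ ⟨z⟩` with `z ∈ O_2(C_G(u))` -/
theorem odd_of_core [Finite G] (h : Base Q z) (u : G) (huQ : u ∈ Q) (hu1 : u ≠ 1) (huz : u ≠ z)
    (huu : u * u = 1)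
    (hW : ∃ hz' : z ∈ Subgroup.centralizer ({u} : Set G),
      (⟨z, hz'⟩ : ↥(Subgroup.centralizer ({u} : Set G))) ∈
        Cfsg.pCore 2 ↥(Subgroup.centralizer ({u} : Set G)))
    (X : Subgroup G) (hX : Odd (Nat.card ↥X)) (hQX : Q ≤ Subgroup.normalizer (X : Set G)) :
    X = ⊥ := by
  haveI : Fact (Nat.Prime 2) := ⟨Nat.prime_two⟩
  have hzN : z ∈ Subgroup.normalizer (X : Set G) := hQX h.amb.zQ
  obtain ⟨hinv, hab, -⟩ := inverts_of_fpf X z h.amb.zz hzN
    (fun x hx hxz => h.cent_z_eq_one X hX hQX x hx hxz)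
  have hzinv : z⁻¹ = z := inv_eq_of_mul_eq_one_right h.amb.zz
  have huinv : u⁻¹ = u := inv_eq_of_mul_eq_one_right huu
  obtain ⟨hz', hzW⟩ := hW
  -- `C_X(u) = 1`
  have hcu : ∀ d ∈ X, d * u = u * d → d = 1 := by
    intro d hd hdu
    have hdC : d ∈ Subgroup.centralizer ({u} : Set G) := (mem_cent_iff u d).mpr hdu
    have hWn : (Cfsg.pCore 2 ↥(Subgroup.centralizer ({u} : Set G))).Normal :=
      Subgroup.sSup_normal _ (fun _ h => h.1)
    have hWp : IsPGroup 2 ↥(Cfsg.pCore 2 ↥(Subgroup.centralizer ({u} : Set G))) :=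
      Sylow.sSup_of_normal _ (fun _ h => h.2) (fun _ h => h.1)
    have h1 : (⟨d, hdC⟩ : ↥(Subgroup.centralizer ({u} : Set G))) * ⟨z, hz'⟩ * ⟨d, hdC⟩⁻¹ *
        ⟨z, hz'⟩⁻¹ ∈ Cfsg.pCore 2 ↥(Subgroup.centralizer ({u} : Set G)) :=
      Subgroup.mul_mem _ (hWn.conj_mem _ hzW _) (Subgroup.inv_mem _ hzW)
    obtain ⟨k, hk⟩ := hWp ⟨_, h1⟩
    have hk' : (d * z * d⁻¹ * z⁻¹) ^ (2 ^ k) = 1 := by
      have := congrArg (fun w => ((w : ↥(Subgroup.centralizer ({u} : Set G))) : G))
        (congrArg Subtype.val hk)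
      simpa using this
    have hdd : d * z * d⁻¹ * z⁻¹ = d * d := by
      have h2 := hinv d⁻¹ (Subgroup.inv_mem _ hd)
      rw [inv_inv] at h2
      calc d * z * d⁻¹ * z⁻¹ = d * (z * d⁻¹ * z⁻¹) := by group
        _ = d * d := by rw [h2]
    rw [hdd] at hk'
    have hddX : d * d ∈ X := Subgroup.mul_mem _ hd hd
    -- `d * d` has odd order and 2-power order
    have h3 : orderOf (d * d) ∣ 2 ^ k := orderOf_dvd_of_pow_eq_one hk'
    have h4 : orderOf (d * d) ∣ Nat.card ↥X := by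
      have := orderOf_dvd_natCard (⟨d * d, hddX⟩ : ↥X)
      rwa [← Subgroup.orderOf_coe] at this
    have hc : Nat.Coprime (2 ^ k) (Nat.card ↥X) :=
      Nat.Coprime.pow_left k (Nat.coprime_two_left.mpr hX)
    have h5 : d * d = 1 :=
      orderOf_eq_one_iff.mp (Nat.Coprime.eq_one_of_dvd (Nat.Coprime.coprime_dvd_left h3 hc) h4)
    -- `d` has odd order and `d^2 = 1`
    have h6 : orderOf d ∣ 2 := orderOf_dvd_of_pow_eq_one (by rw [pow_two]; exact h5)
    have h7 : orderOf d ∣ Nat.card ↥X := by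
      have := orderOf_dvd_natCard (⟨d, hd⟩ : ↥X)
      rwa [← Subgroup.orderOf_coe] at this
    have hc2 : Nat.Coprime 2 (Nat.card ↥X) := Nat.coprime_two_left.mpr hX
    exact orderOf_eq_one_iff.mp
      (Nat.Coprime.eq_one_of_dvd (Nat.Coprime.coprime_dvd_left h6 hc2) h7)
  -- `u` inverts `X`
  have huN : u ∈ Subgroup.normalizer (X : Set G) := hQX huQ
  have huinvX : ∀ x ∈ X, u * x * u⁻¹ = x⁻¹ := by
    intro x hx
    have hux : u * x * u⁻¹ ∈ X := (Subgroup.mem_normalizer_iff.mp huN x).mp hx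
    have hw : x * (u * x * u⁻¹) ∈ X := Subgroup.mul_mem _ hx hux
    have hwu : x * (u * x * u⁻¹) * u = u * (x * (u * x * u⁻¹)) := by
      have hcomm := hab x hx _ hux
      calc x * (u * x * u⁻¹) * u = (u * x * u⁻¹) * x * u := by rw [hcomm]
        _ = u * (x * (u⁻¹ * x * u)) := by group
        _ = u * (x * (u * x * u⁻¹)) := by rw [huinv]
    have := hcu _ hw hwu
    exact (inv_eq_of_mul_eq_one_right this).symm
  -- so `u z` centralizes `X`; but `C_X(u z)` is conjugate to `C_X(u) = 1`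
  obtain ⟨q, hq, hqu⟩ := amb_exists_conj_mul h.amb u huQ hu1 huz
  rw [Subgroup.eq_bot_iff_forall]
  intro x hx
  have hqx : q⁻¹ * x * q ∈ X := by
    have := (Subgroup.mem_normalizer_iff.mp (hQX (Subgroup.inv_mem _ hq)) x).mp hx
    simpa using this
  -- `x` commutes with `z u`
  have hxzu : (z * u) * x * (z * u)⁻¹ = x := by
    calc (z * u) * x * (z * u)⁻¹ = z * (u * x * u⁻¹) * z⁻¹ := by group
      _ = z * x⁻¹ * z⁻¹ := by rw [huinvX x hx]
      _ = x⁻¹⁻¹ := hinv x⁻¹ (Subgroup.inv_mem _ hx)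
      _ = x := inv_inv x
  have h1 : (q⁻¹ * x * q) * u = u * (q⁻¹ * x * q) := by
    have h2 : u = q⁻¹ * (z * u) * q := by rw [← hqu]; group
    have h3 : x * (z * u) = (z * u) * x := by
      calc x * (z * u) = ((z * u) * x * (z * u)⁻¹) * (z * u) := by rw [hxzu]
        _ = (z * u) * x := by group
    calc (q⁻¹ * x * q) * u = (q⁻¹ * x * q) * (q⁻¹ * (z * u) * q) := by rw [← h2]
      _ = q⁻¹ * (x * (z * u)) * q := by group
      _ = q⁻¹ * ((z * u) * x) * q := by rw [h3]
      _ = (q⁻¹ * (z * u) * q) * (q⁻¹ * x * q) := by group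
      _ = u * (q⁻¹ * x * q) := by rw [← h2]
  have h4 := hcu _ hqx h1
  calc x = q * (q⁻¹ * x * q) * q⁻¹ := by group
    _ = 1 := by rw [h4]; group

end Base

end Cfsg.Agent.Lib.Helper14.LES
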