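import Mathlib
import Cfsg.Agent.Lib.Helper14.J2SylA0
import Cfsg.Agent.Lib.Helper14.J2RecZb
import Cfsg.Agent.Lib.Helper22.KleinCentA5
import Cfsg.Agent.Lib.Helper2.IndexTwo
import Cfsg.Agent.Lib.Helper14.LargeESG

/-!
helper14: S1722 (Sylow 5-structure of groups of Hall–Janko type), part A: elements of order 5 of a
group isomorphic to `A₅`; the trichotomy for a finite group with a self-centralizing four-group, and
its version modulo a central subgroup of odd order.
-/

set_option autoImplicit false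

namespace Cfsg.Agent.Lib.Helper14.J2Syl

open Equiv Cfsg.Agent.Lib.Helper14.J2Ord Cfsg.Agent.Lib.Helper14.J2Rec Cfsg.Agent.Lib.Helper14.LES

section iso

variable {B : Type*} [Group B] (e : B ≃* alternatingGroup (Fin 5))

include e in
/-- the centralizer of an element of order 5 consists of its powers -/
theorem cent_five (f x : B) (hf5 : f ^ 5 = 1) (hf1 : f ≠ 1) (hx : x * f = f * x) :
    ∃ i : ℕ, x = f ^ i := by
  have h5 : (toPerm5 e f) ^ 5 = 1 := by rw [← map_pow, hf5, map_one]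
  have h1 : toPerm5 e f ≠ 1 := fun h => hf1 ((toPerm5_eq_one_iff e f).mp h)
  have hc : toPerm5 e x * toPerm5 e f = toPerm5 e f * toPerm5 e x := by
    rw [← map_mul, hx, map_mul]
  rcases cent5_perm _ h5 h1 _ hc with h | h | h | h | h
  · exact ⟨0, toPerm5_injective e (by rw [h, pow_zero, map_one])⟩
  · exact ⟨1, toPerm5_injective e (by rw [h, pow_one])⟩
  · exact ⟨2, toPerm5_injective e (by rw [h, map_pow])⟩
  · exact ⟨3, toPerm5_injective e (by rw [h, map_pow])⟩
  · exact ⟨4, toPerm5_injective e (by rw [h, map_pow])⟩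

include e in
/-- the normalizer of a subgroup of order 5 has order 10 -/
theorem card_norm_five (d : B) (hd5 : d ^ 5 = 1) (hd1 : d ≠ 1) :
    Nat.card {x : B // x * d * x⁻¹ = d ∨ x * d * x⁻¹ = d ^ 2 ∨ x * d * x⁻¹ = d ^ 3 ∨
      x * d * x⁻¹ = d ^ 4} = 10 := by
  classical
  have h5 : (toPerm5 e d) ^ 5 = 1 := by rw [← map_pow, hd5, map_one]
  have h1 : toPerm5 e d ≠ 1 := fun h => hd1 ((toPerm5_eq_one_iff e d).mp h)
  rw [← norm5_card _ h5 h1]
  have hiff : ∀ (x y : B), x * d * x⁻¹ = y ↔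
      toPerm5 e x * toPerm5 e d * (toPerm5 e x)⁻¹ = toPerm5 e y := by
    intro x y
    rw [← map_inv, ← map_mul, ← map_mul]
    exact ⟨fun h => by rw [h], fun h => toPerm5_injective e h⟩
  have hmem : ∀ x : B, (x * d * x⁻¹ = d ∨ x * d * x⁻¹ = d ^ 2 ∨ x * d * x⁻¹ = d ^ 3 ∨
      x * d * x⁻¹ = d ^ 4) ↔ toPerm5 e x ∈
      Finset.univ.filter (fun σ : Perm (Fin 5) => Perm.sign σ = 1 ∧
      (σ * toPerm5 e d * σ⁻¹ = toPerm5 e d ∨ σ * toPerm5 e d * σ⁻¹ = toPerm5 e d ^ 2 ∨
        σ * toPerm5 e d * σ⁻¹ = toPerm5 e d ^ 3 ∨ σ * toPerm5 e d * σ⁻¹ = toPerm5 e d ^ 4)) := by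
    intro x
    rw [Finset.mem_filter, hiff, hiff, hiff, hiff, map_pow, map_pow, map_pow]
    constructor
    · intro h
      exact ⟨Finset.mem_univ _, toPerm5_sign e x, h⟩
    · rintro ⟨-, -, h⟩
      exact h
  have hbij : Function.Bijective (fun x : {x : B // x * d * x⁻¹ = d ∨ x * d * x⁻¹ = d ^ 2 ∨
      x * d * x⁻¹ = d ^ 3 ∨ x * d * x⁻¹ = d ^ 4} =>
      (⟨toPerm5 e x.1, (hmem x.1).mp x.2⟩ : {τ : Perm (Fin 5) // τ ∈
        Finset.univ.filter (fun σ : Perm (Fin 5) => Perm.sign σ = 1 ∧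
      (σ * toPerm5 e d * σ⁻¹ = toPerm5 e d ∨ σ * toPerm5 e d * σ⁻¹ = toPerm5 e d ^ 2 ∨
        σ * toPerm5 e d * σ⁻¹ = toPerm5 e d ^ 3 ∨
        σ * toPerm5 e d * σ⁻¹ = toPerm5 e d ^ 4))})) := by
    constructor
    · intro x y h
      have h1 : toPerm5 e x.1 = toPerm5 e y.1 :=
        congrArg (fun w : {τ : Perm (Fin 5) // τ ∈
          Finset.univ.filter (fun σ : Perm (Fin 5) => Perm.sign σ = 1 ∧
      (σ * toPerm5 e d * σ⁻¹ = toPerm5 e d ∨ σ * toPerm5 e d * σ⁻¹ = toPerm5 e d ^ 2 ∨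
        σ * toPerm5 e d * σ⁻¹ = toPerm5 e d ^ 3 ∨
        σ * toPerm5 e d * σ⁻¹ = toPerm5 e d ^ 4))} => w.1) h
      exact Subtype.ext (toPerm5_injective e h1)
    · rintro ⟨τ, hτ⟩
      have hτ' := hτ
      rw [Finset.mem_filter] at hτ'
      obtain ⟨x, hx⟩ := exists_toPerm5' e τ hτ'.2.1
      refine ⟨⟨x, (hmem x).mpr (hx ▸ hτ)⟩, ?_⟩
      apply Subtype.ext
      exact hx
  rw [Nat.card_congr (Equiv.ofBijective _ hbij), Nat.card_eq_fintype_card, Fintype.card_coe]

end iso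

/-- a finite group with a four-subgroup that contains the centralizers of its non-trivial
elements is isomorphic to `A₅` or has order at most 12 -/
theorem klein_trichotomy {X : Type*} [Group X] [Finite X] (V₀ : Subgroup X)
    (h4 : Nat.card ↥V₀ = 4) (hexp : ∀ v ∈ V₀, v * v = 1)
    (hcent : ∀ v ∈ V₀, v ≠ 1 → ∀ x, x * v = v * x → x ∈ V₀) :
    Nonempty (X ≃* alternatingGroup (Fin 5)) ∨ Nat.card X ≤ 12 := by
  classical
  haveI : Fact (Nat.Prime 2) := ⟨Nat.prime_two⟩
  have hinv : ∀ v ∈ V₀, v⁻¹ = v := fun v hv => inv_eq_of_mul_eq_one_right (hexp v hv)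
  have hcomm : ∀ u ∈ V₀, ∀ v ∈ V₀, u * v = v * u := by
    intro u hu v hv
    calc u * v = (u * v)⁻¹ := (hinv _ (V₀.mul_mem hu hv)).symm
      _ = v⁻¹ * u⁻¹ := mul_inv_rev u v
      _ = v * u := by rw [hinv v hv, hinv u hu]
  obtain ⟨v₀, hv₀, hv₀1⟩ : ∃ v ∈ V₀, v ≠ 1 := by
    by_contra hcon
    push_neg at hcon
    have : V₀ = ⊥ := (Subgroup.eq_bot_iff_forall _).mpr hcon
    rw [this, Subgroup.card_bot] at h4
    omega
  have hord : orderOf v₀ = 2 :=
    orderOf_eq_prime (by rw [pow_two]; exact hexp v₀ hv₀) hv₀1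
  have hCV : Subgroup.centralizer ({v₀} : Set X) = V₀ := by
    ext x
    rw [mem_cent_iff]
    exact ⟨hcent v₀ hv₀ hv₀1 x, fun hx => hcomm x hx v₀ hv₀⟩
  have hC4 : Nat.card ↥(Subgroup.centralizer ({v₀} : Set X)) = 4 := by rw [hCV]; exact h4
  have hCe : ∀ c ∈ Subgroup.centralizer ({v₀} : Set X), c ^ 2 = 1 := by
    intro c hc
    rw [hCV] at hc
    rw [pow_two]
    exact hexp c hc
  have hVp : IsPGroup 2 ↥V₀ := IsPGroup.of_card (n := 2) (by rw [h4]; norm_num)
  obtain ⟨T, hT⟩ := hVp.exists_le_sylow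
  have hTV : (T : Subgroup X) = V₀ := by
    apply le_antisymm _ hT
    have hTne : (T : Subgroup X) ≠ ⊥ := by
      intro h
      apply hv₀1
      have := hT hv₀
      rw [h, Subgroup.mem_bot] at this
      exact this
    obtain ⟨i, hiT, hi2, hic⟩ := Cfsg.Agent.Lib.Helper2.exists_central_invol_of_pgroup
      (T : Subgroup X) T.isPGroup' hTne
    have hi1 : i ≠ 1 := by
      intro h
      rw [h, orderOf_one] at hi2
      omega
    have hiV : i ∈ V₀ := hcent v₀ hv₀ hv₀1 i (hic v₀ (hT hv₀)).symm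
    intro x hx
    exact hcent i hiV hi1 x (hic x hx)
  have hT4 : Nat.card ↥(T : Subgroup X) = 4 := by rw [hTV]; exact h4
  by_cases hnc : Cfsg.HasNormalPComplement 2 X
  · right
    obtain ⟨P', N, hN, hcomp⟩ := hnc
    have hmul := hcomp.card_mul_card
    have hP'4 : Nat.card ↥(P' : Subgroup X) = 4 := by
      rw [P'.card_eq_multiplicity, ← T.card_eq_multiplicity]; exact hT4
    rw [hP'4] at hmul
    -- `|N|` is odd
    have hNodd : ¬ 2 ∣ Nat.card ↥N := by
      intro h2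
      have hidx := T.not_dvd_index
      have h1 := Subgroup.card_mul_index (T : Subgroup X)
      rw [hT4, ← hmul] at h1
      have : (T : Subgroup X).index = Nat.card ↥N := by omega
      rw [this] at hidx
      exact hidx h2
    have hN2 : ∀ n ∈ N, n * n = 1 → n = 1 := by
      intro n hn h2
      have h1 : orderOf n ∣ 2 := orderOf_dvd_of_pow_eq_one (by rw [pow_two]; exact h2)
      have h3 : orderOf n ∣ Nat.card ↥N := by
        have := orderOf_dvd_natCard (⟨n, hn⟩ : ↥N)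
        rwa [Subgroup.orderOf_mk] at this
      rcases (Nat.dvd_prime Nat.prime_two).mp h1 with h | h
      · exact orderOf_eq_one_iff.mp h
      · exfalso
        rw [h] at h3
        exact hNodd h3
    have hinvN : ∀ v ∈ V₀, v ≠ 1 → ∀ x ∈ N, v * x * v⁻¹ = x⁻¹ := by
      intro v hv hv1
      refine (inverts_of_fpf N v (hexp v hv) ?_ ?_).1
      · rw [Subgroup.normalizer_eq_top]
        exact Subgroup.mem_top v
      · intro x hx hxv
        exact hN2 x hx (hexp x (hcent v hv hv1 x hxv))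
    -- a second non-trivial element
    obtain ⟨v₁, hv₁, hv₁z⟩ : ∃ v ∈ V₀, v ∉ Subgroup.zpowers v₀ := by
      by_contra hcon
      push_neg at hcon
      have hle : V₀ ≤ Subgroup.zpowers v₀ := hcon
      have h1 := Subgroup.card_le_of_le hle
      rw [h4, Nat.card_zpowers, hord] at h1
      omega
    have hv₁1 : v₁ ≠ 1 := fun h => hv₁z (h ▸ Subgroup.one_mem _)
    have hv₀₁ : v₀ * v₁ ≠ 1 := by
      intro h
      apply hv₁z
      have : v₁ = v₀ := by
        calc v₁ = v₀⁻¹ * (v₀ * v₁) := by group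
          _ = v₀ := by rw [h, mul_one, hinv v₀ hv₀]
      rw [this]
      exact Subgroup.mem_zpowers v₀
    have hNbot : ∀ x ∈ N, x = 1 := by
      intro x hx
      apply hN2 x hx
      have h1 := hinvN v₁ hv₁ hv₁1 x hx
      have h2 := hinvN v₀ hv₀ hv₀1 x⁻¹ (N.inv_mem hx)
      have h3 := hinvN (v₀ * v₁) (V₀.mul_mem hv₀ hv₁) hv₀₁ x hx
      have h4' : v₀ * v₁ * x * (v₀ * v₁)⁻¹ = x := by
        calc v₀ * v₁ * x * (v₀ * v₁)⁻¹ = v₀ * (v₁ * x * v₁⁻¹) * v₀⁻¹ := by group
          _ = x := by rw [h1, h2, inv_inv]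
      rw [h4'] at h3
      calc x * x = x * x⁻¹ := by rw [← h3]
        _ = 1 := mul_inv_cancel x
    have hN1 : Nat.card ↥N = 1 := by
      have : N = ⊥ := (Subgroup.eq_bot_iff_forall _).mpr hNbot
      rw [this, Subgroup.card_bot]
    rw [hN1] at hmul
    omega
  · by_cases hnn : (T : Subgroup X).Normal
    · right
      have h1 := Cfsg.Agent.Lib.Helper2.card_eq_card_conj_mul_card_centralizer v₀
      rw [hC4] at h1
      have h3 := card_nontrivial_of_four V₀ h4
      have hinj : Function.Injective (fun s : {s' : X // IsConj v₀ s'} =>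
          (⟨s.1, by
            obtain ⟨g, hg⟩ := isConj_iff.mp s.2
            refine ⟨?_, ?_⟩
            · rw [← hg, ← hTV]
              exact hnn.conj_mem v₀ (hTV ▸ hv₀) g
            · intro h
              apply hv₀1
              rw [h] at hg
              calc v₀ = g⁻¹ * (g * v₀ * g⁻¹) * g := by group
                _ = 1 := by rw [hg]; group⟩ : {v : X // v ∈ V₀ ∧ v ≠ 1})) := by
        intro s s' hss
        apply Subtype.ext
        exact congrArg (fun w : {v : X // v ∈ V₀ ∧ v ≠ 1} => w.1) hss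
      have hle := Nat.card_le_card_of_injective _ hinj
      rw [h3] at hle
      rw [h1]
      nlinarith
    · left
      exact Cfsg.Agent.Lib.Helper22.KleinCent.iso_A5_of_eq v₀ hord hC4 hCe T
        (hTV.trans hCV.symm) hnc hnn

/-- the trichotomy modulo a central subgroup of odd order -/
theorem central_klein {W : Type*} [Group W] [Finite W] (N : Subgroup W) [hN : N.Normal]
    (hNc : ∀ n ∈ N, ∀ w : W, w * n = n * w) (hodd : Odd (Nat.card ↥N))
    (V₀ : Subgroup W) (h4 : Nat.card ↥V₀ = 4) (hexp : ∀ v ∈ V₀, v * v = 1)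
    (hcent : ∀ v ∈ V₀, v ≠ 1 → ∀ x, x * v = v * x → ∃ u ∈ V₀, ∃ n ∈ N, x = u * n) :
    Nonempty (W ⧸ N ≃* alternatingGroup (Fin 5)) ∨ Nat.card (W ⧸ N) ≤ 12 := by
  classical
  have hN2 : ∀ n ∈ N, n * n = 1 → n = 1 := by
    intro n hn h2
    have h1 : orderOf n ∣ 2 := orderOf_dvd_of_pow_eq_one (by rw [pow_two]; exact h2)
    have h3 : orderOf n ∣ Nat.card ↥N := by
      have := orderOf_dvd_natCard (⟨n, hn⟩ : ↥N)
      rwa [Subgroup.orderOf_mk] at this
    rcases (Nat.dvd_prime Nat.prime_two).mp h1 with h | h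
    · exact orderOf_eq_one_iff.mp h
    · exfalso
      rw [h] at h3
      exact (Nat.not_even_iff_odd.mpr hodd) (even_iff_two_dvd.mpr h3)
  have hVN : ∀ v ∈ V₀, v ∈ N → v = 1 := fun v hv hn => hN2 v hn (hexp v hv)
  apply klein_trichotomy (V₀.map (QuotientGroup.mk' N))
  · -- the image has order 4
    rw [← h4]
    symm
    have hbij : Function.Bijective (fun v : ↥V₀ =>
        (⟨QuotientGroup.mk' N v.1, Subgroup.mem_map_of_mem _ v.2⟩ :
          ↥(V₀.map (QuotientGroup.mk' N)))) := by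
      constructor
      · intro u v huv
        have h1 : QuotientGroup.mk' N u.1 = QuotientGroup.mk' N v.1 :=
          congrArg (fun w : ↥(V₀.map (QuotientGroup.mk' N)) => w.1) huv
        rw [QuotientGroup.mk'_eq_mk'] at h1
        obtain ⟨n, hn, hnv⟩ := h1
        have hnV : n ∈ V₀ := by
          have : n = u.1⁻¹ * v.1 := by rw [← hnv]; group
          rw [this]
          exact V₀.mul_mem (V₀.inv_mem u.2) v.2
        have := hVN n hnV hn
        rw [this, mul_one] at hnv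
        exact Subtype.ext hnv
      · rintro ⟨_, v, hv, rfl⟩
        exact ⟨⟨v, hv⟩, rfl⟩
    exact Nat.card_congr (Equiv.ofBijective _ hbij)
  · rintro _ ⟨v, hv, rfl⟩
    rw [← map_mul, hexp v hv, map_one]
  · rintro _ ⟨v, hv, rfl⟩ hv1 xb hx
    obtain ⟨x, rfl⟩ := QuotientGroup.mk'_surjective N xb
    have hv1' : v ≠ 1 := fun h => hv1 (by rw [h, map_one])
    rw [← map_mul, ← map_mul, QuotientGroup.mk'_eq_mk'] at hx
    obtain ⟨n, hn, hnx⟩ := hx
    have hm : n⁻¹ ∈ N := N.inv_mem hn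
    have hmc := hNc n⁻¹ hm
    have e0 : x * v = v * x * n⁻¹ := by rw [← hnx]; group
    have e1 : x * v * x⁻¹ = v * n⁻¹ := by
      calc x * v * x⁻¹ = v * x * n⁻¹ * x⁻¹ := by rw [e0]
        _ = v * (x * n⁻¹) * x⁻¹ := by group
        _ = v * (n⁻¹ * x) * x⁻¹ := by rw [hmc x]
        _ = v * n⁻¹ := by group
    have e2 : (v * n⁻¹) * (v * n⁻¹) = 1 := by
      rw [← e1]
      calc x * v * x⁻¹ * (x * v * x⁻¹) = x * (v * v) * x⁻¹ := by group
        _ = 1 := by rw [hexp v hv]; group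
    have e3 : n⁻¹ * n⁻¹ = 1 := by
      calc n⁻¹ * n⁻¹ = (v * v) * (n⁻¹ * n⁻¹) := by rw [hexp v hv, one_mul]
        _ = v * (v * n⁻¹) * n⁻¹ := by group
        _ = v * (n⁻¹ * v) * n⁻¹ := by rw [hmc v]
        _ = (v * n⁻¹) * (v * n⁻¹) := by group
        _ = 1 := e2
    have e4 : n⁻¹ = 1 := hN2 n⁻¹ hm e3
    rw [e4, mul_one] at e0
    obtain ⟨u, hu, n', hn', hxu⟩ := hcent v hv hv1' x e0
    refine ⟨u, hu, ?_⟩
    rw [hxu, map_mul]
    have : QuotientGroup.mk' N n' = 1 := (QuotientGroup.eq_one_iff n').mpr hn'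
    rw [this, mul_one]

end Cfsg.Agent.Lib.Helper14.J2Syl
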