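import Mathlib
import Cfsg.Agent.Lib.Helper14.J2SylA

/-!
helper14: S1722, part B: a finite group `K` with a central element `l` of order 5 and an involution
`b` with `C_K(b) = ⟨l⟩ × ⟨b⟩` containing a self-centralizing 5-subgroup has order `2 · 5 ^ k`.
-/

set_option autoImplicit false

namespace Cfsg.Agent.Lib.Helper14.J2Syl

open Cfsg.Agent.Lib.Helper14.LES

/-- an element with trivial fifth power and trivial square is trivial -/
theorem eq_one_of_pow_five_of_sq {K : Type*} [Group K] {y : K} (h5 : y ^ 5 = 1)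
    (h2 : y * y = 1) : y = 1 := by
  calc y = y ^ 5 * ((y * y)⁻¹ * (y * y)⁻¹) := by group
    _ = 1 := by rw [h5, h2]; group

/-- elements of `⟨l⟩` are powers with natural exponents -/
theorem exists_pow_of_mem_zpowers {K : Type*} [Group K] [Finite K] {l n : K}
    (hn : n ∈ Subgroup.zpowers l) : ∃ i : ℕ, n = l ^ i := by
  obtain ⟨i, hi⟩ := (Submonoid.mem_powers_iff n l).mp (mem_powers_iff_mem_zpowers.mpr hn)
  exact ⟨i, hi.symm⟩

/-- elements of odd order lie in every subgroup of index 2 -/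
theorem mem_of_index_two_of_odd {K : Type*} [Group K] (H : Subgroup K)
    (hH : H.index = 2) (y : K) (hy : Odd (orderOf y)) : y ∈ H := by
  obtain ⟨m, hm⟩ := hy
  have h1 : y ^ (2 * m + 1) = 1 := by rw [← hm]; exact pow_orderOf_eq_one y
  have h2 : (y ^ (m + 1)) ^ 2 ∈ H := Subgroup.sq_mem_of_index_two hH _
  have h3 : (y ^ (m + 1)) ^ 2 = y := by
    rw [← pow_mul]
    have : (m + 1) * 2 = (2 * m + 1) + 1 := by ring
    rw [this, pow_succ, h1, one_mul]
  rwa [h3] at h2

theorem card_of_central_five {K : Type*} [Group K] [Finite K] (l b : K) (hl5 : orderOf l = 5)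
    (hlc : ∀ x : K, x * l = l * x) (hb2 : orderOf b = 2)
    (hCb : ∀ x : K, x * b = b * x → ∃ i : ℕ, x = l ^ i ∨ x = l ^ i * b)
    (P : Subgroup K) (hP : IsPGroup 5 ↥P) (hCP : ∀ x : K, (∀ y ∈ P, x * y = y * x) → x ∈ P) :
    ∃ k : ℕ, Nat.card K = 2 * 5 ^ k := by
  classical
  haveI : Fact (Nat.Prime 2) := ⟨Nat.prime_two⟩
  haveI : Fact (Nat.Prime 5) := ⟨by norm_num⟩
  have hbb : b * b = 1 := by
    have := pow_orderOf_eq_one b
    rwa [hb2, pow_two] at this
  have hb1 : b ≠ 1 := by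
    intro h
    rw [h, orderOf_one] at hb2
    omega
  have hbinv : b⁻¹ = b := inv_eq_of_mul_eq_one_right hbb
  have hl5' : l ^ 5 = 1 := by rw [← hl5]; exact pow_orderOf_eq_one l
  have hli5 : ∀ i : ℕ, (l ^ i) ^ 5 = 1 := by
    intro i
    rw [← pow_mul, mul_comm, pow_mul, hl5', one_pow]
  have hlic : ∀ (i : ℕ) (x : K), x * l ^ i = l ^ i * x := by
    intro i x
    have h : Commute x l := hlc x
    exact (h.pow_right i).eq
  -- a Sylow 2-subgroup containing `b`
  have hbp : IsPGroup 2 ↥(Subgroup.zpowers b) :=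
    IsPGroup.of_card (n := 1) (by rw [Nat.card_zpowers, hb2, pow_one])
  obtain ⟨T, hT⟩ := hbp.exists_le_sylow
  have hbT : b ∈ (T : Subgroup K) := hT (Subgroup.mem_zpowers b)
  -- 2-elements among the powers of `l` are trivial
  have hTl : ∀ i : ℕ, l ^ i ∈ (T : Subgroup K) → l ^ i = 1 := by
    intro i hi
    obtain ⟨k, hk⟩ := T.isPGroup' ⟨l ^ i, hi⟩
    have hk' : (l ^ i) ^ 2 ^ k = 1 := congrArg Subtype.val hk
    have h1 : orderOf (l ^ i) ∣ 2 ^ k := orderOf_dvd_of_pow_eq_one hk'
    have h2 : orderOf (l ^ i) ∣ 5 := orderOf_dvd_of_pow_eq_one (hli5 i)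
    have h3 : orderOf (l ^ i) ∣ Nat.gcd (2 ^ k) 5 := Nat.dvd_gcd h1 h2
    have h4 : Nat.gcd (2 ^ k) 5 = 1 := Nat.Coprime.pow_left k (by norm_num)
    rw [h4, Nat.dvd_one] at h3
    exact orderOf_eq_one_iff.mp h3
  have hTb : ∀ x ∈ (T : Subgroup K), x * b = b * x → x = 1 ∨ x = b := by
    intro x hx hxb
    obtain ⟨i, h | h⟩ := hCb x hxb
    · left
      rw [h]
      exact hTl i (h ▸ hx)
    · right
      have h1 : l ^ i = x * b⁻¹ := by rw [h]; group
      have h2 := hTl i (h1 ▸ (T : Subgroup K).mul_mem hx ((T : Subgroup K).inv_mem hbT))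
      rw [h, h2, one_mul]
  have hTne : (T : Subgroup K) ≠ ⊥ := by
    intro h
    rw [h, Subgroup.mem_bot] at hbT
    exact hb1 hbT
  obtain ⟨i, hiT, hi2, hic⟩ := Cfsg.Agent.Lib.Helper2.exists_central_invol_of_pgroup
    (T : Subgroup K) T.isPGroup' hTne
  have hi1 : i ≠ 1 := by
    intro h
    rw [h, orderOf_one] at hi2
    omega
  have hib : i = b := by
    rcases hTb i hiT (hic b hbT).symm with h | h
    · exact absurd h hi1
    · exact h
  have hTeq : (T : Subgroup K) = Subgroup.zpowers b := by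
    apply le_antisymm _ hT
    intro x hx
    rcases hTb x hx (hib ▸ hic x hx) with h | h
    · rw [h]; exact Subgroup.one_mem _
    · rw [h]; exact Subgroup.mem_zpowers b
  have hT2 : Nat.card ↥(T : Subgroup K) = 2 := by rw [hTeq, Nat.card_zpowers, hb2]
  have hTcyc : IsCyclic ↥(T : Subgroup K) := isCyclic_of_prime_card hT2
  have h2K : 2 ∣ Nat.card K := hb2 ▸ orderOf_dvd_natCard b
  obtain ⟨H, hH⟩ := Cfsg.Agent.Lib.Helper2.exists_index_two_of_cyclic_sylow
    (even_iff_two_dvd.mpr h2K) T hTcyc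
  haveI hHn : H.Normal := Subgroup.normal_of_index_eq_two hH
  have hHK : Nat.card ↥H * 2 = Nat.card K := by rw [← hH]; exact Subgroup.card_mul_index H
  have hHodd : ¬ 2 ∣ Nat.card ↥H := by
    intro h2
    have hidx := T.not_dvd_index
    have h1 := Subgroup.card_mul_index (T : Subgroup K)
    rw [hT2, ← hHK] at h1
    have : (T : Subgroup K).index = Nat.card ↥H := by omega
    rw [this] at hidx
    exact hidx h2
  have hbH : b ∉ H := by
    intro h
    have := orderOf_dvd_natCard (⟨b, h⟩ : ↥H)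
    rw [Subgroup.orderOf_mk, hb2] at this
    exact hHodd this
  have hlH : l ∈ H := mem_of_index_two_of_odd H hH l (by rw [hl5]; decide)
  have hliH : ∀ i : ℕ, l ^ i ∈ H := fun i => H.pow_mem hlH i
  -- the quotient by `N = ⟨l⟩`
  haveI hNn : (Subgroup.zpowers l).Normal := by
    constructor
    intro n hn g
    obtain ⟨i, rfl⟩ := exists_pow_of_mem_zpowers hn
    have : g * l ^ i * g⁻¹ = l ^ i := by rw [hlic i g]; group
    rw [this]
    exact hn
  have hNcent : ∀ n ∈ Subgroup.zpowers l, ∀ x : K, x * n = n * x := by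
    intro n hn x
    obtain ⟨i, rfl⟩ := exists_pow_of_mem_zpowers hn
    exact hlic i x
  have hN5 : ∀ n ∈ Subgroup.zpowers l, n ^ 5 = 1 := by
    intro n hn
    obtain ⟨i, rfl⟩ := exists_pow_of_mem_zpowers hn
    exact hli5 i
  -- `b` acts fixed point freely on `H / N`
  have hfix : ∀ x : K, ∀ n ∈ Subgroup.zpowers l, x * b * n = b * x → x * b = b * x := by
    intro x n hn h
    have hnc := hNcent n hn
    have e1 : b * x * b⁻¹ = x * n := by
      calc b * x * b⁻¹ = x * b * n * b⁻¹ := by rw [h]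
        _ = x * (b * n) * b⁻¹ := by group
        _ = x * (n * b) * b⁻¹ := by rw [hnc b]
        _ = x * n := by group
    have e2 : x = x * (n * n) := by
      calc x = (b * b) * x * (b * b)⁻¹ := by rw [hbb]; group
        _ = b * (b * x * b⁻¹) * b⁻¹ := by group
        _ = b * (x * n) * b⁻¹ := by rw [e1]
        _ = (b * x * b⁻¹) * (b * n * b⁻¹) := by group
        _ = (x * n) * (n * b * b⁻¹) := by rw [e1, hnc b]
        _ = x * (n * n) := by group
    have e3 : n * n = 1 := by
      have := mul_left_cancel (a := x) (b := 1) (c := n * n) (by rw [mul_one]; exact e2)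
      exact this.symm
    have e4 : n = 1 := eq_one_of_pow_five_of_sq (hN5 n hn) e3
    rw [e4, mul_one] at h
    exact h
  have hbbar : QuotientGroup.mk' (Subgroup.zpowers l) b * QuotientGroup.mk' (Subgroup.zpowers l) b
      = 1 := by rw [← map_mul, hbb, map_one]
  haveI hHbar : (H.map (QuotientGroup.mk' (Subgroup.zpowers l))).Normal :=
    hHn.map _ (QuotientGroup.mk'_surjective _)
  have habel := (inverts_of_fpf (H.map (QuotientGroup.mk' (Subgroup.zpowers l)))
    (QuotientGroup.mk' (Subgroup.zpowers l) b) hbbar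
    (by rw [Subgroup.normalizer_eq_top]; exact Subgroup.mem_top _)
    (by
      rintro _ ⟨x, hx, rfl⟩ hxb
      rw [← map_mul, ← map_mul, QuotientGroup.mk'_eq_mk'] at hxb
      obtain ⟨n, hn, hnx⟩ := hxb
      have hc := hfix x n hn hnx
      obtain ⟨i, h | h⟩ := hCb x hc
      · rw [h]
        exact (QuotientGroup.eq_one_iff _).mpr (Subgroup.pow_mem _ (Subgroup.mem_zpowers l) i)
      · exfalso
        apply hbH
        have : b = (l ^ i)⁻¹ * x := by rw [h]; group
        rw [this]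
        exact H.mul_mem (H.inv_mem (hliH i)) hx)).2.1
  -- commutators of `H` lie in `N`
  have hcomm : ∀ x ∈ H, ∀ y ∈ H, ∃ m ∈ Subgroup.zpowers l, x * y * x⁻¹ = y * m := by
    intro x hx y hy
    have h := habel _ (Subgroup.mem_map_of_mem _ hx) _ (Subgroup.mem_map_of_mem _ hy)
    rw [← map_mul, ← map_mul, QuotientGroup.mk'_eq_mk'] at h
    obtain ⟨n, hn, hnx⟩ := h
    refine ⟨n⁻¹, Subgroup.inv_mem _ hn, ?_⟩
    have hnc := hNcent n⁻¹ (Subgroup.inv_mem _ hn)
    have e0 : x * y = y * x * n⁻¹ := by rw [← hnx]; group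
    calc x * y * x⁻¹ = y * x * n⁻¹ * x⁻¹ := by rw [e0]
      _ = y * (x * n⁻¹) * x⁻¹ := by group
      _ = y * (n⁻¹ * x) * x⁻¹ := by rw [hnc x]
      _ = y * n⁻¹ := by group
  have hPH : P ≤ H := by
    intro y hy
    apply mem_of_index_two_of_odd H hH
    obtain ⟨k, hk⟩ := hP ⟨y, hy⟩
    have hk' : y ^ 5 ^ k = 1 := congrArg Subtype.val hk
    have h1 : orderOf y ∣ 5 ^ k := orderOf_dvd_of_pow_eq_one hk'
    obtain ⟨j, -, hj⟩ := (Nat.dvd_prime_pow (by norm_num : Nat.Prime 5)).mp h1
    rw [hj]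
    exact Odd.pow (by decide)
  -- every prime divisor of `|H|` is 5
  have hprime : ∀ {r : ℕ}, Nat.Prime r → r ∣ Nat.card ↥H → r = 5 := by
    intro r hr hrH
    by_contra hr5
    haveI : Fact (Nat.Prime r) := ⟨hr⟩
    obtain ⟨x, hx⟩ := exists_prime_orderOf_dvd_card' (G := ↥H) r hrH
    have hxr : orderOf (x : K) = r := by rw [Subgroup.orderOf_coe]; exact hx
    have hxP : (x : K) ∈ P := by
      apply hCP
      intro y hy
      obtain ⟨m, hm, hxy⟩ := hcomm x.1 x.2 y (hPH hy)
      have hmc := hNcent m hm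
      have hind : ∀ k : ℕ, (x : K) ^ k * y * ((x : K) ^ k)⁻¹ = y * m ^ k := by
        intro k
        induction k with
        | zero => simp
        | succ k ih =>
          have hmk : (x : K) * m ^ k = m ^ k * (x : K) := by
            have h : Commute (x : K) m := hmc x.1
            exact (h.pow_right k).eq
          calc (x : K) ^ (k + 1) * y * ((x : K) ^ (k + 1))⁻¹
              = (x : K) * ((x : K) ^ k * y * ((x : K) ^ k)⁻¹) * (x : K)⁻¹ := by
                rw [pow_succ']; group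
            _ = (x : K) * (y * m ^ k) * (x : K)⁻¹ := by rw [ih]
            _ = ((x : K) * y * (x : K)⁻¹) * ((x : K) * m ^ k * (x : K)⁻¹) := by group
            _ = (y * m) * (m ^ k * (x : K) * (x : K)⁻¹) := by rw [hxy, hmk]
            _ = y * m ^ (k + 1) := by rw [pow_succ']; group
      have h1 := hind r
      rw [← hxr, pow_orderOf_eq_one, hxr] at h1
      have h2 : m ^ r = 1 := by
        have : y * 1 = y * m ^ r := by rw [← h1]; group
        exact (mul_left_cancel this).symm
      have h3 : orderOf m ∣ r := orderOf_dvd_of_pow_eq_one h2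
      have h4 : orderOf m ∣ 5 := orderOf_dvd_of_pow_eq_one (hN5 m hm)
      have h5 : orderOf m ∣ Nat.gcd r 5 := Nat.dvd_gcd h3 h4
      have h6 : Nat.gcd r 5 = 1 := (Nat.coprime_primes hr (by norm_num)).mpr hr5
      rw [h6, Nat.dvd_one] at h5
      have hm1 : m = 1 := orderOf_eq_one_iff.mp h5
      rw [hm1, mul_one] at hxy
      calc (x : K) * y = (x : K) * y * (x : K)⁻¹ * (x : K) := by group
        _ = y * (x : K) := by rw [hxy]
    obtain ⟨k, hk⟩ := hP ⟨x.1, hxP⟩
    have hk' : (x : K) ^ 5 ^ k = 1 := congrArg Subtype.val hk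
    have h1 : orderOf (x : K) ∣ 5 ^ k := orderOf_dvd_of_pow_eq_one hk'
    rw [hxr] at h1
    exact hr5 ((Nat.prime_dvd_prime_iff_eq hr (by norm_num)).mp (hr.dvd_of_dvd_pow h1))
  have hHpos : Nat.card ↥H ≠ 0 := Nat.card_pos.ne'
  have hH5 := Nat.eq_prime_pow_of_unique_prime_dvd hHpos hprime
  refine ⟨(Nat.card ↥H).primeFactorsList.length, ?_⟩
  rw [← hH5, ← hHK, mul_comm]

end Cfsg.Agent.Lib.Helper14.J2Syl
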