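import Mathlib
import Cfsg.Agent.Lib.Helper14.J2SylB

/-!
helper14: S1722, part C: a finite set of elements of order 5 that is closed under squaring has
cardinality divisible by 4.
-/

set_option autoImplicit false

namespace Cfsg.Agent.Lib.Helper14.J2Syl

variable {G : Type*} [Group G]

theorem four_dvd_card_of_sq_closed [DecidableEq G] (n : ℕ) : ∀ (S : Finset G), S.card = n →
    (∀ x ∈ S, x ^ 5 = 1) → (∀ x ∈ S, x ≠ 1) → (∀ x ∈ S, x ^ 2 ∈ S) → 4 ∣ n := by
  induction n using Nat.strong_induction_on with
  | _ n ih =>
    intro S hcard h5 h1 hsq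
    rcases S.eq_empty_or_nonempty with hS | ⟨x, hx⟩
    · rw [hS, Finset.card_empty] at hcard
      rw [← hcard]
      exact dvd_zero 4
    · have hx5 := h5 x hx
      have hx1 := h1 x hx
      have hx2 : x ^ 2 ∈ S := hsq x hx
      have hx4 : x ^ 4 ∈ S := by
        have := hsq _ hx2
        rwa [← pow_mul] at this
      have hx3 : x ^ 3 ∈ S := by
        have := hsq _ hx4
        rw [← pow_mul] at this
        have e : x ^ (4 * 2) = x ^ 3 := by
          calc x ^ (4 * 2) = x ^ 5 * x ^ 3 := by rw [← pow_add]
            _ = x ^ 3 := by rw [hx5, one_mul]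
        rwa [e] at this
      have hord : orderOf x = 5 := orderOf_eq_prime hx5 hx1
      have hne : ∀ i j : ℕ, i < 5 → j < 5 → i ≠ j → x ^ i ≠ x ^ j := by
        intro i j hi hj hij h
        apply hij
        have := pow_injOn_Iio_orderOf (x := x)
        rw [hord] at this
        exact this (Set.mem_Iio.mpr hi) (Set.mem_Iio.mpr hj) h
      let D : Finset G := {x, x ^ 2, x ^ 3, x ^ 4}
      have hD4 : D.card = 4 := by
        have e1 : x ≠ x ^ 2 := by
          have := hne 1 2 (by norm_num) (by norm_num) (by norm_num); rwa [pow_one] at this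
        have e2 : x ≠ x ^ 3 := by
          have := hne 1 3 (by norm_num) (by norm_num) (by norm_num); rwa [pow_one] at this
        have e3 : x ≠ x ^ 4 := by
          have := hne 1 4 (by norm_num) (by norm_num) (by norm_num); rwa [pow_one] at this
        have e4 : x ^ 2 ≠ x ^ 3 := hne 2 3 (by norm_num) (by norm_num) (by norm_num)
        have e5 : x ^ 2 ≠ x ^ 4 := hne 2 4 (by norm_num) (by norm_num) (by norm_num)
        have e6 : x ^ 3 ≠ x ^ 4 := hne 3 4 (by norm_num) (by norm_num) (by norm_num)
        show ({x, x ^ 2, x ^ 3, x ^ 4} : Finset G).card = 4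
        rw [Finset.card_insert_of_notMem, Finset.card_insert_of_notMem,
          Finset.card_insert_of_notMem, Finset.card_singleton]
        · simp only [Finset.mem_singleton]; exact e6
        · simp only [Finset.mem_insert, Finset.mem_singleton, not_or]; exact ⟨e4, e5⟩
        · simp only [Finset.mem_insert, Finset.mem_singleton, not_or]; exact ⟨e1, e2, e3⟩
      have hDS : D ⊆ S := by
        intro y hy
        simp only [D, Finset.mem_insert, Finset.mem_singleton] at hy
        rcases hy with rfl | rfl | rfl | rfl
        · exact hx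
        · exact hx2
        · exact hx3
        · exact hx4
      have hcard' : (S \ D).card = n - 4 := by
        rw [Finset.card_sdiff_of_subset hDS, hcard, hD4]
      have hn4 : 4 ≤ n := by
        rw [← hcard, ← hD4]
        exact Finset.card_le_card hDS
      have hlt : n - 4 < n := by omega
      have hrec := ih (n - 4) hlt (S \ D) hcard'
        (fun y hy => h5 y (Finset.mem_sdiff.mp hy).1)
        (fun y hy => h1 y (Finset.mem_sdiff.mp hy).1)
        (by
          intro y hy
          obtain ⟨hyS, hyD⟩ := Finset.mem_sdiff.mp hy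
          refine Finset.mem_sdiff.mpr ⟨hsq y hyS, ?_⟩
          intro hy2
          apply hyD
          have hy5 := h5 y hyS
          have hy6 : y = (y ^ 2) ^ 3 := by
            rw [← pow_mul]
            calc y = y ^ 5 * y := by rw [hy5, one_mul]
              _ = y ^ (2 * 3) := by rw [← pow_succ]
          simp only [D, Finset.mem_insert, Finset.mem_singleton] at hy2 ⊢
          rcases hy2 with h | h | h | h
          · right; right; left
            rw [hy6, h]
          · left
            rw [hy6, h, ← pow_mul]
            calc x ^ (2 * 3) = x ^ 5 * x := by rw [← pow_succ]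
              _ = x := by rw [hx5, one_mul]
          · right; right; right
            rw [hy6, h, ← pow_mul]
            calc x ^ (3 * 3) = x ^ 5 * x ^ 4 := by rw [← pow_add]
              _ = x ^ 4 := by rw [hx5, one_mul]
          · right; left
            rw [hy6, h, ← pow_mul]
            calc x ^ (4 * 3) = (x ^ 5) ^ 2 * x ^ 2 := by rw [← pow_mul, ← pow_add]
              _ = x ^ 2 := by rw [hx5, one_pow, one_mul])
      obtain ⟨k, hk⟩ := hrec
      exact ⟨k + 1, by omega⟩

/-- `Nat.card` version for a predicate -/
theorem four_dvd_natCard_of_sq_closed [Finite G] (p : G → Prop)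
    (h5 : ∀ x, p x → x ^ 5 = 1) (h1 : ∀ x, p x → x ≠ 1) (hsq : ∀ x, p x → p (x ^ 2)) :
    4 ∣ Nat.card {x : G // p x} := by
  classical
  haveI : Fintype G := Fintype.ofFinite G
  rw [Nat.card_eq_fintype_card, Fintype.card_subtype]
  apply four_dvd_card_of_sq_closed _ (Finset.univ.filter p) rfl
  · intro x hx
    exact h5 x (Finset.mem_filter.mp hx).2
  · intro x hx
    exact h1 x (Finset.mem_filter.mp hx).2
  · intro x hx
    exact Finset.mem_filter.mpr ⟨Finset.mem_univ _, hsq x (Finset.mem_filter.mp hx).2⟩

end Cfsg.Agent.Lib.Helper14.J2Syl
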