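import Mathlib
import Cfsg.Agent.Lib.Helper14.J2SylC
import Cfsg.Agent.Lib.Helper14.J2RecV

/-!
helper14: S1722, part D: in `C_G(z) = Q.A₅` the centralizer of an element `l` of order 5 is
`⟨l⟩ × ⟨z⟩` (the property `C5 z`), from the hypotheses of the statement, and its transport along
conjugation.
-/

set_option autoImplicit false
open scoped commutatorElement

namespace Cfsg.Agent.Lib.Helper14.J2Syl

open Cfsg.Agent.Lib.Helper14.EO2 Cfsg.Agent.Lib.Helper14.LES Cfsg.Agent.Lib.Helper20.ES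
open Cfsg.Agent.Lib.Helper14.J2Ord Cfsg.Agent.Lib.Helper14.J2Rec

variable {G : Type*} [Group G] [Finite G]

/-- `C_G(z) ∩ C_G(l) = ⟨l⟩ × ⟨z⟩` for every element `l` of order 5 of `C_G(z)` -/
def C5 (z : G) : Prop :=
  ∀ l, l * z = z * l → orderOf l = 5 → ∀ x, x * z = z * x → x * l = l * x →
    ∃ i : ℕ, x = l ^ i ∨ x = l ^ i * z

theorem c5_of_hom {B : Type*} [Group B] (e : B ≃* alternatingGroup (Fin 5)) {z : G}
    {Q : Subgroup G} (S : ZBase z Q)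
    (φ : ↥(Subgroup.centralizer ({z} : Set G)) →* B)
    (hker : ∀ x, φ x = 1 ↔ (x : G) ∈ Q) : C5 z := by
  intro l hlz hl5 x hxz hxl
  have hlC : l ∈ Subgroup.centralizer ({z} : Set G) := (mem_cent_iff z l).mpr hlz
  have hxC : x ∈ Subgroup.centralizer ({z} : Set G) := (mem_cent_iff z x).mpr hxz
  have hl5' : l ^ 5 = 1 := by rw [← hl5]; exact pow_orderOf_eq_one l
  have h1 : φ ⟨l, hlC⟩ ≠ 1 := by
    intro h
    exact S.not_mem_of_order_five l hl5 ((hker _).mp h)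
  have h5 : (φ ⟨l, hlC⟩) ^ 5 = 1 := by
    rw [← map_pow]
    have : (⟨l, hlC⟩ : ↥(Subgroup.centralizer ({z} : Set G))) ^ 5 = 1 := Subtype.ext hl5'
    rw [this, map_one]
  have hc : φ ⟨x, hxC⟩ * φ ⟨l, hlC⟩ = φ ⟨l, hlC⟩ * φ ⟨x, hxC⟩ := by
    rw [← map_mul, ← map_mul]
    congr 1
    exact Subtype.ext hxl
  obtain ⟨i, hi⟩ := cent_five e _ _ h5 h1 hc
  have hq : φ ((⟨l, hlC⟩ : ↥(Subgroup.centralizer ({z} : Set G)))⁻¹ ^ i * ⟨x, hxC⟩) = 1 := by
    rw [map_mul, map_pow, map_inv, hi, inv_pow, inv_mul_cancel]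
  have hqQ : (l⁻¹) ^ i * x ∈ Q := (hker _).mp hq
  have hli : Commute l (l⁻¹ ^ i) := ((Commute.refl l).inv_right).pow_right i
  have hfix : l * ((l⁻¹) ^ i * x) * l⁻¹ = (l⁻¹) ^ i * x := by
    calc l * ((l⁻¹) ^ i * x) * l⁻¹ = (l * (l⁻¹) ^ i) * x * l⁻¹ := by group
      _ = ((l⁻¹) ^ i * l) * x * l⁻¹ := by rw [hli.eq]
      _ = (l⁻¹) ^ i * (l * x) * l⁻¹ := by group
      _ = (l⁻¹) ^ i * (x * l) * l⁻¹ := by rw [hxl]
      _ = (l⁻¹) ^ i * x := by group
  refine ⟨i, ?_⟩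
  rcases S.fixed5 l hlz hl5 _ hqQ hfix with h | h
  · left
    calc x = l ^ i * ((l⁻¹) ^ i * x) := by rw [inv_pow]; group
      _ = l ^ i := by rw [h, mul_one]
  · right
    calc x = l ^ i * ((l⁻¹) ^ i * x) := by rw [inv_pow]; group
      _ = l ^ i * z := by rw [h]

theorem c5_of_statement (z : G) (hz : orderOf z = 2)
    (Q : Subgroup ↥(Subgroup.centralizer ({z} : Set G))) [Q.Normal]
    (hF : Cfsg.generalizedFittingSubgroup ↥(Subgroup.centralizer ({z} : Set G)) = Q)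
    (hQ : Cfsg.IsExtraspecial 2 ↥Q) (hcard : Nat.card ↥Q = 2 ^ 5)
    (e : ↥(Subgroup.centralizer ({z} : Set G)) ⧸ Q ≃*
      ↥(Cfsg.Omega (ZMod 2) (Cfsg.quadFormMinus 1 (ZMod 2) 1 1))) :
    C5 z := by
  obtain ⟨eΩ⟩ := omega_iso_A5
  have S := (za5_of_statement z hz Q hF hQ hcard e).base
  have hmem : ∀ x : ↥(Subgroup.centralizer ({z} : Set G)),
      (x : G) ∈ Q.map (Subgroup.centralizer ({z} : Set G)).subtype ↔ x ∈ Q := by
    intro x
    constructor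
    · rintro ⟨y, hy, hyx⟩
      have : y = x := Subtype.ext hyx
      rwa [← this]
    · intro hx
      exact ⟨x, hx, rfl⟩
  let φ : ↥(Subgroup.centralizer ({z} : Set G)) →* alternatingGroup (Fin 5) :=
    (eΩ.toMonoidHom.comp e.toMonoidHom).comp (QuotientGroup.mk' Q)
  have hφ : ∀ x, φ x = eΩ (e (QuotientGroup.mk' Q x)) := fun x => rfl
  have hker : ∀ x, φ x = 1 ↔ (x : G) ∈ Q.map (Subgroup.centralizer ({z} : Set G)).subtype := by
    intro x
    rw [hmem, hφ, MulEquiv.map_eq_one_iff, MulEquiv.map_eq_one_iff, QuotientGroup.mk'_apply,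
      QuotientGroup.eq_one_iff]
  exact c5_of_hom (MulEquiv.refl _) S φ hker

/-- transport along conjugation -/
theorem C5.conj {z : G} (h : C5 z) (g : G) : C5 (g * z * g⁻¹) := by
  intro l hlz hl5 x hxz hxl
  have hl' : (g⁻¹ * l * g) * z = z * (g⁻¹ * l * g) := by
    calc (g⁻¹ * l * g) * z = g⁻¹ * (l * (g * z * g⁻¹)) * g := by group
      _ = g⁻¹ * ((g * z * g⁻¹) * l) * g := by rw [hlz]
      _ = z * (g⁻¹ * l * g) := by group
  have hx' : (g⁻¹ * x * g) * z = z * (g⁻¹ * x * g) := by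
    calc (g⁻¹ * x * g) * z = g⁻¹ * (x * (g * z * g⁻¹)) * g := by group
      _ = g⁻¹ * ((g * z * g⁻¹) * x) * g := by rw [hxz]
      _ = z * (g⁻¹ * x * g) := by group
  have hord : orderOf (g⁻¹ * l * g) = 5 := by
    have := (MulAut.conj g⁻¹).orderOf_eq l
    rw [MulAut.conj_apply, inv_inv] at this
    rw [this, hl5]
  have hxl' : (g⁻¹ * x * g) * (g⁻¹ * l * g) = (g⁻¹ * l * g) * (g⁻¹ * x * g) := by
    calc (g⁻¹ * x * g) * (g⁻¹ * l * g) = g⁻¹ * (x * l) * g := by group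
      _ = g⁻¹ * (l * x) * g := by rw [hxl]
      _ = (g⁻¹ * l * g) * (g⁻¹ * x * g) := by group
  obtain ⟨i, hi⟩ := h _ hl' hord _ hx' hxl'
  have hpow : g * (g⁻¹ * l * g) ^ i * g⁻¹ = l ^ i := by
    have : (g⁻¹ * l * g) ^ i = g⁻¹ * l ^ i * g := by
      have h1 := map_pow (MulAut.conj g⁻¹) l i
      rw [MulAut.conj_apply, MulAut.conj_apply, inv_inv] at h1
      exact h1.symm
    rw [this]; group
  refine ⟨i, ?_⟩
  rcases hi with hi | hi
  · left
    calc x = g * (g⁻¹ * x * g) * g⁻¹ := by group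
      _ = l ^ i := by rw [hi, hpow]
  · right
    calc x = g * (g⁻¹ * x * g) * g⁻¹ := by group
      _ = g * ((g⁻¹ * l * g) ^ i * z) * g⁻¹ := by rw [hi]
      _ = (g * (g⁻¹ * l * g) ^ i * g⁻¹) * (g * z * g⁻¹) := by group
      _ = l ^ i * (g * z * g⁻¹) := by rw [hpow]

end Cfsg.Agent.Lib.Helper14.J2Syl
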