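import Mathlib
import Cfsg.Agent.Lib.Helper14.J2SylD

/-!
helper14: S1722, part E: the configuration `F5` (an involution `b ∈ B` inverting an element
`f ∈ B` of order 5, where `C_G(t) = V × B`), and the centralizer `C_G(f)`: it has order 300 and maps
onto `A₅` with kernel `⟨f⟩`.
-/

set_option autoImplicit false
open scoped commutatorElement

namespace Cfsg.Agent.Lib.Helper14.J2Syl

open Cfsg.Agent.Lib.Helper14.EO2 Cfsg.Agent.Lib.Helper14.LES Cfsg.Agent.Lib.Helper20.ES
open Cfsg.Agent.Lib.Helper14.J2Ord Cfsg.Agent.Lib.Helper14.J2Rec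

variable {G : Type*} [Group G] [Finite G]

/-- the configuration -/
structure F5 (z t : G) (V B : Subgroup G) (b f : G) : Prop where
  ts : TS z t V B
  c5 : C5 z
  card : Nat.card G = 604800
  bB : b ∈ B
  bb : b * b = 1
  b1 : b ≠ 1
  fB : f ∈ B
  f5 : orderOf f = 5
  inv : b * f * b⁻¹ = f⁻¹

namespace F5

variable {z t : G} {V B : Subgroup G} {b f : G}

theorem f5' (S : F5 z t V B b f) : f ^ 5 = 1 := by
  rw [← S.f5]; exact pow_orderOf_eq_one f

theorem f1 (S : F5 z t V B b f) : f ≠ 1 := by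
  intro h
  have := S.f5
  rw [h, orderOf_one] at this
  omega

theorem ft (S : F5 z t V B b f) : f * t = t * f := S.ts.ts.Bt f S.fB

theorem bt (S : F5 z t V B b f) : b * t = t * b := S.ts.ts.Bt b S.bB

theorem binv (S : F5 z t V B b f) : b⁻¹ = b := inv_eq_of_mul_eq_one_right S.bb

/-- `C_G(f) ∩ C_G(t) = V × ⟨f⟩` -/
theorem cent_ft (S : F5 z t V B b f) {x : G} (hxf : x * f = f * x) (hxt : x * t = t * x) :
    ∃ v ∈ V, ∃ i : ℕ, x = v * f ^ i := by
  obtain ⟨e⟩ := S.ts.ts.iso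
  obtain ⟨v, hv, β, hβ, rfl⟩ := S.ts.ts.gen x hxt
  have hvf : v * f = f * v := S.ts.Vcent v hv f S.ft
  have hβf : β * f = f * β := by
    have h1 : v * (β * f) = v * (f * β) := by
      calc v * (β * f) = (v * β) * f := by group
        _ = f * (v * β) := hxf
        _ = (f * v) * β := by group
        _ = (v * f) * β := by rw [hvf]
        _ = v * (f * β) := by group
    exact mul_left_cancel h1
  have h5 : (⟨f, S.fB⟩ : ↥B) ^ 5 = 1 := Subtype.ext S.f5'
  have h1 : (⟨f, S.fB⟩ : ↥B) ≠ 1 := fun h => S.f1 (congrArg Subtype.val h)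
  obtain ⟨i, hi⟩ := cent_five e (⟨f, S.fB⟩ : ↥B) ⟨β, hβ⟩ h5 h1 (Subtype.ext hβf)
  refine ⟨v, hv, i, ?_⟩
  have : β = f ^ i := congrArg Subtype.val hi
  rw [this]

/-- `C_G(f) ∩ C_G(v) = V × ⟨f⟩` for `1 ≠ v ∈ V` -/
theorem cent_fv (S : F5 z t V B b f) {v : G} (hv : v ∈ V) (hv1 : v ≠ 1) {x : G}
    (hxf : x * f = f * x) (hxv : x * v = v * x) : ∃ u ∈ V, ∃ i : ℕ, x = u * f ^ i :=
  S.cent_ft hxf (S.ts.cent_eq hv hv1 hxv)

theorem V_le_cent (S : F5 z t V B b f) : V ≤ Subgroup.centralizer ({f} : Set G) := by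
  intro v hv
  rw [mem_cent_iff]
  exact S.ts.Vcent v hv f S.ft

theorem f_mem_cent (f : G) : f ∈ Subgroup.centralizer ({f} : Set G) := (mem_cent_iff f f).mpr rfl

/-- elements of `⟨f⟩` inside `C_G(f)` -/
theorem mem_zpowers_cent_iff (f : G) (y : ↥(Subgroup.centralizer ({f} : Set G))) :
    y ∈ Subgroup.zpowers (⟨f, f_mem_cent f⟩ : ↥(Subgroup.centralizer ({f} : Set G))) ↔
      ∃ i : ℕ, (y : G) = f ^ i := by
  constructor
  · intro h
    obtain ⟨i, hi⟩ := exists_pow_of_mem_zpowers h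
    exact ⟨i, by rw [hi]; rfl⟩
  · rintro ⟨i, hi⟩
    have : y = (⟨f, f_mem_cent f⟩ : ↥(Subgroup.centralizer ({f} : Set G))) ^ i := Subtype.ext hi
    rw [this]
    exact Subgroup.pow_mem _ (Subgroup.mem_zpowers _) i

/-- the Sylow 5-subgroups have order 25 -/
theorem card_sylow (S : F5 z t V B b f) (P : Sylow 5 G) : Nat.card ↥(P : Subgroup G) = 25 := by
  haveI : Fact (Nat.Prime 5) := ⟨by norm_num⟩
  rw [P.card_eq_multiplicity, S.card]
  have h1 : (604800 : ℕ) = 5 ^ 2 * 24192 := by norm_num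
  have h2 : (24192 : ℕ).factorization 5 = 0 :=
    Nat.factorization_eq_zero_of_not_dvd (by norm_num)
  rw [h1, Nat.factorization_mul (by norm_num) (by norm_num),
    Nat.Prime.factorization_pow (by norm_num : Nat.Prime 5)]
  simp [h2]

/-- the Sylow 5-subgroups are abelian -/
theorem sylow_comm (S : F5 z t V B b f) (P : Sylow 5 G) :
    ∀ x ∈ (P : Subgroup G), ∀ y ∈ (P : Subgroup G), x * y = y * x := by
  haveI : Fact (Nat.Prime 5) := ⟨by norm_num⟩
  intro x hx y hy
  have h := IsPGroup.commutative_of_card_eq_prime_sq (p := 5) (G := ↥(P : Subgroup G))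
    (by rw [S.card_sylow P]; norm_num) ⟨x, hx⟩ ⟨y, hy⟩
  exact congrArg Subtype.val h

/-- `C_G(f)` maps onto `A₅` with kernel `⟨f⟩` -/
theorem exists_hom (S : F5 z t V B b f) :
    ∃ π : ↥(Subgroup.centralizer ({f} : Set G)) →* alternatingGroup (Fin 5),
      Function.Surjective π ∧ ∀ y, π y = 1 ↔ ∃ i : ℕ, (y : G) = f ^ i := by
  classical
  haveI : Fact (Nat.Prime 5) := ⟨by norm_num⟩
  -- the central subgroup
  have hNc : ∀ n ∈ Subgroup.zpowers (⟨f, f_mem_cent f⟩ : ↥(Subgroup.centralizer ({f} : Set G))),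
      ∀ w : ↥(Subgroup.centralizer ({f} : Set G)), w * n = n * w := by
    intro n hn w
    obtain ⟨i, hi⟩ := (mem_zpowers_cent_iff f n).mp hn
    apply Subtype.ext
    show (w : G) * (n : G) = (n : G) * (w : G)
    rw [hi]
    have h : Commute (w : G) f := (mem_cent_iff f w.1).mp w.2
    exact (h.pow_right i).eq
  haveI hNn : (Subgroup.zpowers
      (⟨f, f_mem_cent f⟩ : ↥(Subgroup.centralizer ({f} : Set G)))).Normal := by
    constructor
    intro n hn g
    have : g * n * g⁻¹ = n := by rw [hNc n hn g]; group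
    rw [this]
    exact hn
  have hN5 : Nat.card ↥(Subgroup.zpowers
      (⟨f, f_mem_cent f⟩ : ↥(Subgroup.centralizer ({f} : Set G)))) = 5 := by
    rw [Nat.card_zpowers, Subgroup.orderOf_mk, S.f5]
  have hVle := S.V_le_cent
  have hV4 : Nat.card ↥(V.subgroupOf (Subgroup.centralizer ({f} : Set G))) = 4 := by
    rw [Nat.card_congr (Subgroup.subgroupOfEquivOfLe hVle).toEquiv, S.ts.cardV]
  have hkl := central_klein (Subgroup.zpowers
      (⟨f, f_mem_cent f⟩ : ↥(Subgroup.centralizer ({f} : Set G)))) hNc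
    (by rw [hN5]; decide) (V.subgroupOf (Subgroup.centralizer ({f} : Set G))) hV4
    (by
      intro v hv
      rw [Subgroup.mem_subgroupOf] at hv
      exact Subtype.ext (S.ts.ts.V2 v.1 hv))
    (by
      intro v hv hv1 x hxv
      rw [Subgroup.mem_subgroupOf] at hv
      have hv1' : (v : G) ≠ 1 := fun h => hv1 (Subtype.ext h)
      have hxf : (x : G) * f = f * (x : G) := (mem_cent_iff f x.1).mp x.2
      have hxv' : (x : G) * (v : G) = (v : G) * (x : G) := congrArg Subtype.val hxv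
      obtain ⟨u, hu, i, hi⟩ := S.cent_fv hv hv1' hxf hxv'
      refine ⟨⟨u, hVle hu⟩, Subgroup.mem_subgroupOf.mpr hu,
        (⟨f, f_mem_cent f⟩ : ↥(Subgroup.centralizer ({f} : Set G))) ^ i,
        Subgroup.pow_mem _ (Subgroup.mem_zpowers _) i, ?_⟩
      exact Subtype.ext hi)
  -- the order of `C_G(f)`
  have hfp : IsPGroup 5 ↥(Subgroup.zpowers f) :=
    IsPGroup.of_card (n := 1) (by rw [Nat.card_zpowers, S.f5, pow_one])
  obtain ⟨P, hP⟩ := hfp.exists_le_sylow
  have hfP : f ∈ (P : Subgroup G) := hP (Subgroup.mem_zpowers f)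
  have hPle : (P : Subgroup G) ≤ Subgroup.centralizer ({f} : Set G) := by
    intro x hx
    rw [mem_cent_iff]
    exact S.sylow_comm P x hx f hfP
  have h25 : 25 ∣ Nat.card ↥(Subgroup.centralizer ({f} : Set G)) := by
    rw [← S.card_sylow P]; exact Subgroup.card_dvd_of_le hPle
  have h4 : 4 ∣ Nat.card ↥(Subgroup.centralizer ({f} : Set G)) := by
    rw [← S.ts.cardV]; exact Subgroup.card_dvd_of_le hVle
  have h100 : 100 ∣ Nat.card ↥(Subgroup.centralizer ({f} : Set G)) :=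
    Nat.Coprime.mul_dvd_of_dvd_of_dvd (by norm_num : Nat.Coprime 25 4) h25 h4
  have hquot := Subgroup.card_eq_card_quotient_mul_card_subgroup (Subgroup.zpowers
      (⟨f, f_mem_cent f⟩ : ↥(Subgroup.centralizer ({f} : Set G))))
  rw [hN5] at hquot
  have hpos : 0 < Nat.card ↥(Subgroup.centralizer ({f} : Set G)) := Nat.card_pos
  rcases hkl with ⟨⟨ε⟩⟩ | hle
  · refine ⟨ε.toMonoidHom.comp (QuotientGroup.mk' _), ?_, ?_⟩
    · intro y
      obtain ⟨x, hx⟩ := QuotientGroup.mk'_surjective _ (ε.symm y)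
      refine ⟨x, ?_⟩
      show ε (QuotientGroup.mk' _ x) = y
      rw [hx, MulEquiv.apply_symm_apply]
    · intro y
      show ε (QuotientGroup.mk' _ y) = 1 ↔ _
      rw [MulEquiv.map_eq_one_iff, QuotientGroup.mk'_apply, QuotientGroup.eq_one_iff,
        mem_zpowers_cent_iff]
  · exfalso
    obtain ⟨k, hk⟩ := h100
    rw [hk] at hquot hpos
    have : 1 ≤ k := by omega
    nlinarith

end F5

end Cfsg.Agent.Lib.Helper14.J2Syl
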