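import Mathlib
import Cfsg.Agent.Lib.Helper14.J2SylE

/-!
helper14: S1722, part F: a Sylow 5-subgroup `P ∋ f`: `C_G(f) ∩ C_G(w) = P` for `w ∈ P \ ⟨f⟩`,
`C_G(P) = P`, the involution `b` acts trivially on `C_G(f)/⟨f⟩`, and `P` contains an element `l` of
order 5 outside `⟨f⟩` commuting with `b`.
-/

set_option autoImplicit false
open scoped commutatorElement

namespace Cfsg.Agent.Lib.Helper14.J2Syl

open Cfsg.Agent.Lib.Helper14.EO2 Cfsg.Agent.Lib.Helper14.LES Cfsg.Agent.Lib.Helper20.ES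
open Cfsg.Agent.Lib.Helper14.J2Ord Cfsg.Agent.Lib.Helper14.J2Rec

variable {G : Type*} [Group G] [Finite G]

/-- the extended configuration -/
structure F5P (z t : G) (V B : Subgroup G) (b f : G)
    (π : ↥(Subgroup.centralizer ({f} : Set G)) →* alternatingGroup (Fin 5)) (P : Sylow 5 G) :
    Prop where
  base : F5 z t V B b f
  surj : Function.Surjective π
  ker : ∀ y, π y = 1 ↔ ∃ i : ℕ, (y : G) = f ^ i
  fP : f ∈ (P : Subgroup G)

namespace F5P

variable {z t : G} {V B : Subgroup G} {b f : G}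
  {π : ↥(Subgroup.centralizer ({f} : Set G)) →* alternatingGroup (Fin 5)} {P : Sylow 5 G}

theorem card_ker (S : F5P z t V B b f π P) : Nat.card ↥π.ker = 5 := by
  have h : π.ker = Subgroup.zpowers
      (⟨f, F5.f_mem_cent f⟩ : ↥(Subgroup.centralizer ({f} : Set G))) := by
    ext y
    rw [MonoidHom.mem_ker, S.ker, F5.mem_zpowers_cent_iff]
  rw [h, Nat.card_zpowers, Subgroup.orderOf_mk, S.base.f5]

/-- `|C_G(f)| = 300` -/
theorem card_cent_f (S : F5P z t V B b f π P) :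
    Nat.card ↥(Subgroup.centralizer ({f} : Set G)) = 300 := by
  have h := card_preimage π S.surj (fun _ => True)
  rw [Nat.card_congr (Equiv.subtypeUnivEquiv (fun _ => trivial)),
    Nat.card_congr (Equiv.subtypeUnivEquiv (fun _ => trivial)),
    card_of_iso_A5 (MulEquiv.refl _), S.card_ker] at h
  exact h

theorem pow_mem_P (S : F5P z t V B b f π P) (i : ℕ) : f ^ i ∈ (P : Subgroup G) :=
  Subgroup.pow_mem _ S.fP i

theorem P_le (S : F5P z t V B b f π P) : (P : Subgroup G) ≤ Subgroup.centralizer ({f} : Set G) := by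
  intro x hx
  rw [mem_cent_iff]
  exact S.base.sylow_comm P x hx f S.fP

theorem pow25 (S : F5P z t V B b f π P) {w : G} (hw : w ∈ (P : Subgroup G)) : w ^ 25 = 1 := by
  have h := pow_card_eq_one' (G := ↥(P : Subgroup G)) (x := ⟨w, hw⟩)
  rw [S.base.card_sylow P] at h
  exact congrArg Subtype.val h

/-- the image of an element of `P` has order dividing 5 -/
theorem pi_pow5 (S : F5P z t V B b f π P) {w : G} (hw : w ∈ (P : Subgroup G)) :
    (π ⟨w, S.P_le hw⟩) ^ 5 = 1 := by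
  have h25 : (π ⟨w, S.P_le hw⟩) ^ 25 = 1 := by
    rw [← map_pow]
    have : (⟨w, S.P_le hw⟩ : ↥(Subgroup.centralizer ({f} : Set G))) ^ 25 = 1 :=
      Subtype.ext (S.pow25 hw)
    rw [this, map_one]
  have h60 : (π ⟨w, S.P_le hw⟩) ^ 60 = 1 := by
    have h := pow_card_eq_one' (G := ↥(alternatingGroup (Fin 5))) (x := π ⟨w, S.P_le hw⟩)
    rwa [card_of_iso_A5 (MulEquiv.refl _)] at h
  have h := (pow_gcd_eq_one (m := 25) (n := 60)).mpr ⟨h25, h60⟩
  have hg : Nat.gcd 25 60 = 5 := by norm_num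
  rwa [hg] at h

/-- `C_G(f) ∩ C_G(w) ≤ P` for `w ∈ P \ ⟨f⟩` -/
theorem cent_fw (S : F5P z t V B b f π P) {w : G} (hw : w ∈ (P : Subgroup G))
    (hwf : ∀ i : ℕ, w ≠ f ^ i) {x : G} (hxf : x * f = f * x) (hxw : x * w = w * x) :
    x ∈ (P : Subgroup G) := by
  have hxC : x ∈ Subgroup.centralizer ({f} : Set G) := (mem_cent_iff f x).mpr hxf
  have h1 : π ⟨w, S.P_le hw⟩ ≠ 1 := by
    intro h
    obtain ⟨i, hi⟩ := (S.ker _).mp h
    exact hwf i hi
  have hc : π ⟨x, hxC⟩ * π ⟨w, S.P_le hw⟩ = π ⟨w, S.P_le hw⟩ * π ⟨x, hxC⟩ := by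
    rw [← map_mul, ← map_mul]
    congr 1
    exact Subtype.ext hxw
  obtain ⟨i, hi⟩ := cent_five (MulEquiv.refl _) _ _ (S.pi_pow5 hw) h1 hc
  have hq : π ((⟨w, S.P_le hw⟩ : ↥(Subgroup.centralizer ({f} : Set G)))⁻¹ ^ i * ⟨x, hxC⟩) = 1 := by
    rw [map_mul, map_pow, map_inv, hi, inv_pow, inv_mul_cancel]
  obtain ⟨j, hj⟩ := (S.ker _).mp hq
  have hj' : (w⁻¹) ^ i * x = f ^ j := hj
  have : x = w ^ i * f ^ j := by
    rw [← hj', inv_pow]; group
  rw [this]
  exact Subgroup.mul_mem _ (Subgroup.pow_mem _ hw i) (S.pow_mem_P j)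

/-- an element of `P` outside `⟨f⟩` -/
theorem exists_not_pow (S : F5P z t V B b f π P) :
    ∃ w ∈ (P : Subgroup G), ∀ i : ℕ, w ≠ f ^ i := by
  by_contra hcon
  push_neg at hcon
  have hle : (P : Subgroup G) ≤ Subgroup.zpowers f := by
    intro w hw
    obtain ⟨i, hi⟩ := hcon w hw
    rw [hi]
    exact Subgroup.pow_mem _ (Subgroup.mem_zpowers f) i
  have h := Subgroup.card_le_of_le hle
  rw [S.base.card_sylow P, Nat.card_zpowers, S.base.f5] at h
  omega

/-- `C_G(P) = P` -/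
theorem cent_P (S : F5P z t V B b f π P) :
    Subgroup.centralizer ((P : Subgroup G) : Set G) = (P : Subgroup G) := by
  apply le_antisymm
  · intro x hx
    obtain ⟨w, hw, hwf⟩ := S.exists_not_pow
    rw [Subgroup.mem_centralizer_iff] at hx
    exact S.cent_fw hw hwf (hx f S.fP).symm (hx w hw).symm
  · intro x hx
    rw [Subgroup.mem_centralizer_iff]
    intro y hy
    exact S.base.sylow_comm P y hy x hx

/-- `b` normalizes `C_G(f)` -/
theorem b_norm (S : F5P z t V B b f π P) {y : G} (hy : y * f = f * y) :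
    (b * y * b⁻¹) * f = f * (b * y * b⁻¹) := by
  have hinv := S.base.inv
  have h1 : b⁻¹ * f * b = f⁻¹ := by
    have := S.base.binv
    calc b⁻¹ * f * b = b * f * b⁻¹ := by rw [this]
      _ = f⁻¹ := hinv
  have h2 : y * f⁻¹ = f⁻¹ * y := by
    calc y * f⁻¹ = f⁻¹ * (f * y) * f⁻¹ := by group
      _ = f⁻¹ * (y * f) * f⁻¹ := by rw [hy]
      _ = f⁻¹ * y := by group
  have h3 : b * f⁻¹ * b⁻¹ = f := by
    calc b * f⁻¹ * b⁻¹ = (b * f * b⁻¹)⁻¹ := by group
      _ = f := by rw [hinv, inv_inv]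
  calc (b * y * b⁻¹) * f = b * y * (b⁻¹ * f * b) * b⁻¹ := by group
    _ = b * (y * f⁻¹) * b⁻¹ := by rw [h1]; group
    _ = b * (f⁻¹ * y) * b⁻¹ := by rw [h2]
    _ = (b * f⁻¹ * b⁻¹) * (b * y * b⁻¹) := by group
    _ = f * (b * y * b⁻¹) := by rw [h3]

/-- `b` acts trivially on `C_G(f)/⟨f⟩` -/
theorem b_action (S : F5P z t V B b f π P) {y : G} (hy : y * f = f * y) :
    ∃ i : ℕ, b * y * b⁻¹ = y * f ^ i := by
  classical
  have hbinv := S.base.binv
  -- conjugation by `b` on `C_G(f)`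
  let β : ↥(Subgroup.centralizer ({f} : Set G)) →* ↥(Subgroup.centralizer ({f} : Set G)) :=
    { toFun := fun y => ⟨b * y.1 * b⁻¹, (mem_cent_iff f _).mpr
        (S.b_norm ((mem_cent_iff f y.1).mp y.2))⟩
      map_one' := by
        apply Subtype.ext
        show b * (1 : G) * b⁻¹ = 1
        group
      map_mul' := by
        intro x y
        apply Subtype.ext
        show b * (x.1 * y.1) * b⁻¹ = (b * x.1 * b⁻¹) * (b * y.1 * b⁻¹)
        group }
  have hβ : ∀ y, ((β y : ↥(Subgroup.centralizer ({f} : Set G))) : G) = b * y.1 * b⁻¹ :=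
    fun y => rfl
  have hββ : ∀ y, β (β y) = y := by
    intro y
    apply Subtype.ext
    rw [hβ, hβ]
    calc b * (b * y.1 * b⁻¹) * b⁻¹ = (b * b) * y.1 * (b * b)⁻¹ := by group
      _ = y.1 := by rw [S.base.bb]; group
  have hbf : ∀ i : ℕ, b * f ^ i * b⁻¹ = f ^ (4 * i) := by
    intro i
    have h1 : b * f ^ i * b⁻¹ = (b * f * b⁻¹) ^ i := by
      have h1 := map_pow (MulAut.conj b) f i
      rw [MulAut.conj_apply, MulAut.conj_apply] at h1
      exact h1
    have h2 : f⁻¹ = f ^ 4 := by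
      have h5 := S.base.f5'
      calc f⁻¹ = f⁻¹ * f ^ 5 := by rw [h5, mul_one]
        _ = f ^ 4 := by group
    rw [h1, S.base.inv, h2, ← pow_mul]
  have hle : π.ker ≤ (π.comp β).ker := by
    intro y hy
    rw [MonoidHom.mem_ker] at hy ⊢
    obtain ⟨i, hi⟩ := (S.ker y).mp hy
    rw [MonoidHom.comp_apply, S.ker]
    refine ⟨4 * i, ?_⟩
    rw [hβ, hi, hbf]
  let α : ↥(alternatingGroup (Fin 5)) →* ↥(alternatingGroup (Fin 5)) :=
    π.liftOfSurjective S.surj ⟨π.comp β, hle⟩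
  have hα : ∀ y, α (π y) = π (β y) := by
    intro y
    exact π.liftOfRightInverse_comp_apply _ _ ⟨π.comp β, hle⟩ y
  have hαα : ∀ x, α (α x) = x := by
    intro x
    obtain ⟨y, rfl⟩ := S.surj x
    rw [hα, hα, hββ]
  let α' : ↥(alternatingGroup (Fin 5)) ≃* ↥(alternatingGroup (Fin 5)) :=
    { toFun := α
      invFun := α
      left_inv := hαα
      right_inv := hαα
      map_mul' := α.map_mul }
  have hα' : ∀ x, α' x = α x := fun x => rfl
  -- fixed points
  have hCf : ∀ c ∈ TS.CN V B, c ∈ Subgroup.centralizer ({f} : Set G) := by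
    intro c hc
    rw [mem_cent_iff]
    exact S.base.ts.CN_comm c hc f S.base.fB
  have hfixC : ∀ (c : G) (hc : c ∈ TS.CN V B), α' (π ⟨c, hCf c hc⟩) = π ⟨c, hCf c hc⟩ := by
    intro c hc
    rw [hα', hα]
    congr 1
    apply Subtype.ext
    rw [hβ]
    show b * c * b⁻¹ = c
    rw [← S.base.ts.CN_comm c hc b S.base.bB]; group
  have hinj : Function.Injective (fun c : ↥(TS.CN V B) =>
      (⟨π ⟨c.1, hCf c.1 c.2⟩, hfixC c.1 c.2⟩ :
        {x : ↥(alternatingGroup (Fin 5)) // α' x = x})) := by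
    intro c c' hcc
    have h1 : π ⟨c.1, hCf c.1 c.2⟩ = π ⟨c'.1, hCf c'.1 c'.2⟩ :=
      congrArg (fun w : {x : ↥(alternatingGroup (Fin 5)) // α' x = x} => w.1) hcc
    have h2 : π ((⟨c.1, hCf c.1 c.2⟩ : ↥(Subgroup.centralizer ({f} : Set G)))⁻¹ *
        ⟨c'.1, hCf c'.1 c'.2⟩) = 1 := by
      rw [map_mul, map_inv, h1, inv_mul_cancel]
    obtain ⟨i, hi⟩ := (S.ker _).mp h2
    have hi' : c.1⁻¹ * c'.1 = f ^ i := hi
    have h3 : c.1⁻¹ * c'.1 = 1 := by
      apply S.base.ts.CN_disj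
      · exact (TS.CN V B).mul_mem ((TS.CN V B).inv_mem c.2) c'.2
      · rw [hi']
        exact B.pow_mem S.base.fB i
    apply Subtype.ext
    calc c.1 = c.1 * (c.1⁻¹ * c'.1) := by rw [h3, mul_one]
      _ = c'.1 := by group
  have hle12 := Nat.card_le_card_of_injective _ hinj
  rw [S.base.ts.card_CN] at hle12
  have hfix := aut_eq_of_fixed (MulEquiv.refl _) α' (by omega)
  -- conclusion
  have hyC : y ∈ Subgroup.centralizer ({f} : Set G) := (mem_cent_iff f y).mpr hy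
  have h1 := hfix (π ⟨y, hyC⟩)
  rw [hα', hα] at h1
  have h2 : π ((⟨y, hyC⟩ : ↥(Subgroup.centralizer ({f} : Set G)))⁻¹ * β ⟨y, hyC⟩) = 1 := by
    rw [map_mul, map_inv, h1, inv_mul_cancel]
  obtain ⟨i, hi⟩ := (S.ker _).mp h2
  have hi' : y⁻¹ * (b * y * b⁻¹) = f ^ i := hi
  refine ⟨i, ?_⟩
  rw [← hi']; group

end F5P

end Cfsg.Agent.Lib.Helper14.J2Syl
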