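import Mathlib
import Cfsg.Agent.Lib.Helper14.J2SylF

/-!
helper14: S1722, part G: the element `l ∈ P \ ⟨f⟩` of order 5 commuting with `b`:
`|C_G(l)| = 50`, `C_G(l) ≤ N_G(P)`, and `|N_G(P) ∩ C_G(f)| = 50`.
-/

set_option autoImplicit false
open scoped commutatorElement

namespace Cfsg.Agent.Lib.Helper14.J2Syl

open Equiv Cfsg.Agent.Lib.Helper14.EO2 Cfsg.Agent.Lib.Helper14.LES Cfsg.Agent.Lib.Helper20.ES
open Cfsg.Agent.Lib.Helper14.J2Ord Cfsg.Agent.Lib.Helper14.J2Rec

section iso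

variable {B : Type*} [Group B] (e : B ≃* alternatingGroup (Fin 5))

include e in
/-- the centralizer of an element of order 5, as an explicit list -/
theorem cent_five' (f x : B) (hf5 : f ^ 5 = 1) (hf1 : f ≠ 1) (hx : x * f = f * x) :
    x = 1 ∨ x = f ∨ x = f ^ 2 ∨ x = f ^ 3 ∨ x = f ^ 4 := by
  have h5 : (toPerm5 e f) ^ 5 = 1 := by rw [← map_pow, hf5, map_one]
  have h1 : toPerm5 e f ≠ 1 := fun h => hf1 ((toPerm5_eq_one_iff e f).mp h)
  have hc : toPerm5 e x * toPerm5 e f = toPerm5 e f * toPerm5 e x := by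
    rw [← map_mul, hx, map_mul]
  rcases cent5_perm _ h5 h1 _ hc with h | h | h | h | h
  · left; exact toPerm5_injective e (by rw [h, map_one])
  · right; left; exact toPerm5_injective e h
  · right; right; left; exact toPerm5_injective e (by rw [h, map_pow])
  · right; right; right; left; exact toPerm5_injective e (by rw [h, map_pow])
  · right; right; right; right; exact toPerm5_injective e (by rw [h, map_pow])

end iso

variable {G : Type*} [Group G] [Finite G]

namespace F5P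

variable {z t : G} {V B : Subgroup G} {b f : G}
  {π : ↥(Subgroup.centralizer ({f} : Set G)) →* alternatingGroup (Fin 5)} {P : Sylow 5 G}

theorem conj_b_pow (S : F5P z t V B b f π P) (i : ℕ) : b * f ^ i * b⁻¹ = (f ^ i)⁻¹ := by
  have h1 : b * f ^ i * b⁻¹ = (b * f * b⁻¹) ^ i := by
    have h1 := map_pow (MulAut.conj b) f i
    rw [MulAut.conj_apply, MulAut.conj_apply] at h1
    exact h1
  rw [h1, S.base.inv, inv_pow]

/-- an element `l ∈ P \ ⟨f⟩` of order 5 commuting with `b` -/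
theorem exists_l (S : F5P z t V B b f π P) :
    ∃ l ∈ (P : Subgroup G), orderOf l = 5 ∧ (∀ i : ℕ, l ≠ f ^ i) ∧ l * b = b * l := by
  haveI : Fact (Nat.Prime 5) := ⟨by norm_num⟩
  obtain ⟨w, hw, hwf⟩ := S.exists_not_pow
  have hwC : w * f = f * w := S.base.sylow_comm P w hw f S.fP
  obtain ⟨i, hi⟩ := S.b_action hwC
  have hw' : b * w * b⁻¹ ∈ (P : Subgroup G) := by
    rw [hi]; exact Subgroup.mul_mem _ hw (S.pow_mem_P i)
  have hlP : w * (b * w * b⁻¹) ∈ (P : Subgroup G) := Subgroup.mul_mem _ hw hw'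
  have hlb : b * (w * (b * w * b⁻¹)) * b⁻¹ = w * (b * w * b⁻¹) := by
    calc b * (w * (b * w * b⁻¹)) * b⁻¹ = (b * w * b⁻¹) * ((b * b) * w * (b * b)⁻¹) := by group
      _ = (b * w * b⁻¹) * w := by rw [S.base.bb]; group
      _ = w * (b * w * b⁻¹) := S.base.sylow_comm P _ hw' _ hw
  have hlf : ∀ j : ℕ, w * (b * w * b⁻¹) ≠ f ^ j := by
    intro j hj
    have h1 : w * w = f ^ j * (f ^ i)⁻¹ := by
      rw [← hj, hi]; group
    have h2 : w * w ∈ Subgroup.zpowers f := by
      rw [h1]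
      exact Subgroup.mul_mem _ (Subgroup.pow_mem _ (Subgroup.mem_zpowers f) j)
        (Subgroup.inv_mem _ (Subgroup.pow_mem _ (Subgroup.mem_zpowers f) i))
    have h3 : w = (w * w) ^ 13 := by
      rw [← pow_two, ← pow_mul]
      calc w = w ^ 25 * w := by rw [S.pow25 hw, one_mul]
        _ = w ^ (2 * 13) := by rw [← pow_succ]
    have h4 : w ∈ Subgroup.zpowers f := by
      rw [h3]; exact Subgroup.pow_mem _ h2 13
    obtain ⟨k, hk⟩ := exists_pow_of_mem_zpowers h4
    exact hwf k hk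
  have hl1 : w * (b * w * b⁻¹) ≠ 1 := by
    intro h
    exact hlf 0 (by rw [h, pow_zero])
  have hl5 : (w * (b * w * b⁻¹)) ^ 5 = 1 := by
    have h1 := S.pi_pow5 hlP
    rw [← map_pow] at h1
    obtain ⟨j, hj⟩ := (S.ker _).mp h1
    have hj' : (w * (b * w * b⁻¹)) ^ 5 = f ^ j := hj
    have h2 : b * (w * (b * w * b⁻¹)) ^ 5 * b⁻¹ = (w * (b * w * b⁻¹)) ^ 5 := by
      have h2 := map_pow (MulAut.conj b) (w * (b * w * b⁻¹)) 5
      rw [MulAut.conj_apply, MulAut.conj_apply, hlb] at h2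
      exact h2
    rw [hj', S.conj_b_pow] at h2
    have h3 : f ^ j * f ^ j = 1 := by
      calc f ^ j * f ^ j = (f ^ j)⁻¹ * f ^ j := by rw [h2]
        _ = 1 := inv_mul_cancel _
    have h4 : (f ^ j) ^ 5 = 1 := by
      rw [← pow_mul, mul_comm, pow_mul, S.base.f5', one_pow]
    rw [hj', eq_one_of_pow_five_of_sq h4 h3]
  refine ⟨w * (b * w * b⁻¹), hlP, orderOf_eq_prime hl5 hl1, hlf, ?_⟩
  calc w * (b * w * b⁻¹) * b = (b * (w * (b * w * b⁻¹)) * b⁻¹) * b := by rw [hlb]
    _ = b * (w * (b * w * b⁻¹)) := by group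

end F5P

/-- the configuration with the element `l` -/
structure L5 (z t : G) (V B : Subgroup G) (b f : G)
    (π : ↥(Subgroup.centralizer ({f} : Set G)) →* alternatingGroup (Fin 5)) (P : Sylow 5 G)
    (l : G) : Prop where
  base : F5P z t V B b f π P
  lP : l ∈ (P : Subgroup G)
  l5 : orderOf l = 5
  lf : ∀ i : ℕ, l ≠ f ^ i
  lb : l * b = b * l

namespace L5

variable {z t : G} {V B : Subgroup G} {b f : G}
  {π : ↥(Subgroup.centralizer ({f} : Set G)) →* alternatingGroup (Fin 5)} {P : Sylow 5 G} {l : G}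

theorem P_le_cent_l (S : L5 z t V B b f π P l) :
    (P : Subgroup G) ≤ Subgroup.centralizer ({l} : Set G) := by
  intro x hx
  rw [mem_cent_iff]
  exact S.base.base.sylow_comm P x hx l S.lP

/-- `|C_G(l)| = 50` -/
theorem card_cent_l (S : L5 z t V B b f π P l) :
    Nat.card ↥(Subgroup.centralizer ({l} : Set G)) = 50 := by
  haveI : Fact (Nat.Prime 5) := ⟨by norm_num⟩
  have hF := S.base.base
  have hlC : l ∈ Subgroup.centralizer ({l} : Set G) := (mem_cent_iff l l).mpr rfl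
  have hbC : b ∈ Subgroup.centralizer ({l} : Set G) := (mem_cent_iff l b).mpr S.lb.symm
  obtain ⟨g, hg⟩ := isConj_iff.mp (hF.ts.ts.Bz b hF.bB hF.bb hF.b1)
  have hc5 : C5 b := hg ▸ hF.c5.conj g
  obtain ⟨k, hk⟩ := card_of_central_five (K := ↥(Subgroup.centralizer ({l} : Set G)))
    ⟨l, hlC⟩ ⟨b, hbC⟩ (by rw [Subgroup.orderOf_mk]; exact S.l5)
    (fun x => Subtype.ext ((mem_cent_iff l x.1).mp x.2))
    (by rw [Subgroup.orderOf_mk]; exact KCfg.orderOf_two hF.bb hF.b1)
    (by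
      intro x hxb
      have hxb' : (x : G) * b = b * (x : G) := congrArg Subtype.val hxb
      obtain ⟨i, hi⟩ := hc5 l S.lb S.l5 x.1 hxb' ((mem_cent_iff l x.1).mp x.2)
      refine ⟨i, ?_⟩
      rcases hi with hi | hi
      · left; exact Subtype.ext hi
      · right; exact Subtype.ext hi)
    ((P : Subgroup G).subgroupOf (Subgroup.centralizer ({l} : Set G)))
    (P.isPGroup'.comap_subtype)
    (by
      intro x hx
      rw [Subgroup.mem_subgroupOf, ← S.base.cent_P, Subgroup.mem_centralizer_iff]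
      intro p hp
      have h := hx ⟨p, S.P_le_cent_l hp⟩ (Subgroup.mem_subgroupOf.mpr hp)
      exact (congrArg Subtype.val h).symm)
  have hdvd : Nat.card ↥(Subgroup.centralizer ({l} : Set G)) ∣ 604800 := by
    rw [← hF.card]; exact Subgroup.card_subgroup_dvd_card _
  have h25 : 25 ∣ Nat.card ↥(Subgroup.centralizer ({l} : Set G)) := by
    rw [← hF.card_sylow P]; exact Subgroup.card_dvd_of_le S.P_le_cent_l
  rw [hk] at hdvd h25 ⊢
  rcases k with _ | _ | _ | k
  · norm_num at h25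
  · norm_num at h25
  · norm_num
  · exfalso
    have h1 : 5 ^ 3 ∣ 2 * 5 ^ (k + 1 + 1 + 1) :=
      Dvd.dvd.mul_left (pow_dvd_pow 5 (by omega)) 2
    have h2 := h1.trans hdvd
    norm_num at h2

/-- `C_G(l) ≤ N_G(P)` -/
theorem cent_l_le (S : L5 z t V B b f π P l) {x : G} (hx : x * l = l * x) :
    x ∈ Subgroup.normalizer ((P : Subgroup G) : Set G) := by
  have hle := S.P_le_cent_l
  have hcard : Nat.card ↥((P : Subgroup G).subgroupOf (Subgroup.centralizer ({l} : Set G))) =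
      25 := by
    rw [Nat.card_congr (Subgroup.subgroupOfEquivOfLe hle).toEquiv, S.base.base.card_sylow P]
  have hidx : ((P : Subgroup G).subgroupOf (Subgroup.centralizer ({l} : Set G))).index = 2 := by
    have h := Subgroup.card_mul_index
      ((P : Subgroup G).subgroupOf (Subgroup.centralizer ({l} : Set G)))
    rw [hcard, S.card_cent_l] at h
    omega
  have hn := Subgroup.normal_of_index_eq_two hidx
  have hxC : x ∈ Subgroup.centralizer ({l} : Set G) := (mem_cent_iff l x).mpr hx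
  apply Subgroup.mem_normalizer_fintype
  intro p hp
  have h := hn.conj_mem ⟨p, hle hp⟩ (Subgroup.mem_subgroupOf.mpr hp) ⟨x, hxC⟩
  exact Subgroup.mem_subgroupOf.mp h

theorem b_mem_normalizer (S : L5 z t V B b f π P l) :
    b ∈ Subgroup.normalizer ((P : Subgroup G) : Set G) := S.cent_l_le S.lb.symm

/-- `|N_G(P) ∩ C_G(l)| = 50` -/
theorem card_norm_l (S : L5 z t V B b f π P l) :
    Nat.card ↥(Subgroup.normalizer ((P : Subgroup G) : Set G) ⊓
      Subgroup.centralizer ({l} : Set G)) = 50 := by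
  have : Subgroup.normalizer ((P : Subgroup G) : Set G) ⊓ Subgroup.centralizer ({l} : Set G) =
      Subgroup.centralizer ({l} : Set G) := by
    apply inf_eq_right.mpr
    intro x hx
    exact S.cent_l_le ((mem_cent_iff l x).mp hx)
  rw [this, S.card_cent_l]

end L5

namespace F5P

variable {z t : G} {V B : Subgroup G} {b f : G}
  {π : ↥(Subgroup.centralizer ({f} : Set G)) →* alternatingGroup (Fin 5)} {P : Sylow 5 G}

/-- `|N_G(P) ∩ C_G(f)| = 50` -/
theorem card_norm_f (S : F5P z t V B b f π P) :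
    Nat.card ↥(Subgroup.normalizer ((P : Subgroup G) : Set G) ⊓
      Subgroup.centralizer ({f} : Set G)) = 50 := by
  obtain ⟨w, hw, hwf⟩ := S.exists_not_pow
  have hd5 := S.pi_pow5 hw
  have hd1 : π ⟨w, S.P_le hw⟩ ≠ 1 := by
    intro h
    obtain ⟨i, hi⟩ := (S.ker _).mp h
    exact hwf i hi
  -- the criterion
  have hcrit : ∀ x : ↥(Subgroup.centralizer ({f} : Set G)),
      (x : G) ∈ Subgroup.normalizer ((P : Subgroup G) : Set G) ↔
      (π x * π ⟨w, S.P_le hw⟩ * (π x)⁻¹ = π ⟨w, S.P_le hw⟩ ∨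
        π x * π ⟨w, S.P_le hw⟩ * (π x)⁻¹ = π ⟨w, S.P_le hw⟩ ^ 2 ∨
        π x * π ⟨w, S.P_le hw⟩ * (π x)⁻¹ = π ⟨w, S.P_le hw⟩ ^ 3 ∨
        π x * π ⟨w, S.P_le hw⟩ * (π x)⁻¹ = π ⟨w, S.P_le hw⟩ ^ 4) := by
    intro x
    have hxf : (x : G) * f = f * (x : G) := (mem_cent_iff f x.1).mp x.2
    constructor
    · intro hx
      have hw' : (x : G) * w * (x : G)⁻¹ ∈ (P : Subgroup G) :=
        (Subgroup.mem_normalizer_iff.mp hx w).mp hw
      have hπ : π ⟨(x : G) * w * (x : G)⁻¹, S.P_le hw'⟩ =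
          π x * π ⟨w, S.P_le hw⟩ * (π x)⁻¹ := by
        rw [← map_inv, ← map_mul, ← map_mul]
        congr 1
      have hcomm : π ⟨(x : G) * w * (x : G)⁻¹, S.P_le hw'⟩ * π ⟨w, S.P_le hw⟩ =
          π ⟨w, S.P_le hw⟩ * π ⟨(x : G) * w * (x : G)⁻¹, S.P_le hw'⟩ := by
        rw [← map_mul, ← map_mul]
        congr 1
        exact Subtype.ext (S.base.sylow_comm P _ hw' _ hw)
      rcases cent_five' (MulEquiv.refl _) _ _ hd5 hd1 hcomm with h | h | h | h | h
      · exfalso
        rw [hπ] at h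
        apply hd1
        calc π ⟨w, S.P_le hw⟩ = (π x)⁻¹ * (π x * π ⟨w, S.P_le hw⟩ * (π x)⁻¹) * π x := by group
          _ = 1 := by rw [h]; group
      · left; rw [← hπ]; exact h
      · right; left; rw [← hπ]; exact h
      · right; right; left; rw [← hπ]; exact h
      · right; right; right; rw [← hπ]; exact h
    · intro hx
      -- `x w x⁻¹ ∈ P \ ⟨f⟩`
      have hex : ∃ j : ℕ, π x * π ⟨w, S.P_le hw⟩ * (π x)⁻¹ = π ⟨w, S.P_le hw⟩ ^ j := by
        rcases hx with h | h | h | h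
        · exact ⟨1, by rw [h, pow_one]⟩
        · exact ⟨2, h⟩
        · exact ⟨3, h⟩
        · exact ⟨4, h⟩
      obtain ⟨j, hj⟩ := hex
      have hq : π ((⟨w, S.P_le hw⟩ : ↥(Subgroup.centralizer ({f} : Set G)))⁻¹ ^ j *
          (x * ⟨w, S.P_le hw⟩ * x⁻¹)) = 1 := by
        rw [map_mul, map_pow, map_inv, map_mul, map_mul, map_inv, hj, inv_pow, inv_mul_cancel]
      obtain ⟨k, hk⟩ := (S.ker _).mp hq
      have hk' : (w⁻¹) ^ j * ((x : G) * w * (x : G)⁻¹) = f ^ k := hk
      have hw' : (x : G) * w * (x : G)⁻¹ ∈ (P : Subgroup G) := by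
        have : (x : G) * w * (x : G)⁻¹ = w ^ j * f ^ k := by
          rw [← hk', inv_pow]; group
        rw [this]
        exact Subgroup.mul_mem _ (Subgroup.pow_mem _ hw j) (S.pow_mem_P k)
      have hw'f : ∀ i : ℕ, (x : G) * w * (x : G)⁻¹ ≠ f ^ i := by
        intro i hi
        apply hwf i
        have hc : Commute (x : G) (f ^ i) := (show Commute (x : G) f from hxf).pow_right i
        calc w = (x : G)⁻¹ * ((x : G) * w * (x : G)⁻¹) * (x : G) := by group
          _ = (x : G)⁻¹ * ((x : G) * f ^ i) := by rw [hi, hc.eq]; group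
          _ = f ^ i := by group
      apply Subgroup.mem_normalizer_fintype
      intro p hp
      apply S.cent_fw hw' hw'f
      · have hpf : p * f = f * p := S.base.sylow_comm P p hp f S.fP
        have h1 : Commute (x : G) f := hxf
        have h2 : Commute p f := hpf
        exact ((h1.mul_left h2).mul_left h1.inv_left)
      · have hpw : p * w = w * p := S.base.sylow_comm P p hp w hw
        calc (x : G) * p * (x : G)⁻¹ * ((x : G) * w * (x : G)⁻¹)
            = (x : G) * (p * w) * (x : G)⁻¹ := by group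
          _ = (x : G) * (w * p) * (x : G)⁻¹ := by rw [hpw]
          _ = (x : G) * w * (x : G)⁻¹ * ((x : G) * p * (x : G)⁻¹) := by group
  -- counting
  have h := card_preimage π S.surj (fun y => y * π ⟨w, S.P_le hw⟩ * y⁻¹ = π ⟨w, S.P_le hw⟩ ∨
        y * π ⟨w, S.P_le hw⟩ * y⁻¹ = π ⟨w, S.P_le hw⟩ ^ 2 ∨
        y * π ⟨w, S.P_le hw⟩ * y⁻¹ = π ⟨w, S.P_le hw⟩ ^ 3 ∨
        y * π ⟨w, S.P_le hw⟩ * y⁻¹ = π ⟨w, S.P_le hw⟩ ^ 4)
  rw [card_norm_five (MulEquiv.refl _) _ hd5 hd1, S.card_ker] at h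
  rw [← show (10 * 5 : ℕ) = 50 by norm_num, ← h]
  apply Nat.card_congr
  exact
    { toFun := fun x => ⟨⟨x.1, (Subgroup.mem_inf.mp x.2).2⟩,
        (hcrit ⟨x.1, (Subgroup.mem_inf.mp x.2).2⟩).mp (Subgroup.mem_inf.mp x.2).1⟩
      invFun := fun y => ⟨y.1.1, Subgroup.mem_inf.mpr ⟨(hcrit y.1).mpr y.2, y.1.2⟩⟩
      left_inv := fun _ => rfl
      right_inv := fun _ => rfl }

end F5P

end Cfsg.Agent.Lib.Helper14.J2Syl
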