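import Mathlib
import Cfsg.Agent.Lib.Helper14.J2SylG

/-!
helper14: S1722, part H: the counting argument: `|N_G(P)| = 300` and every non-trivial element of
`P` is conjugate under `N_G(P)` to one of `f`, `f²`, `l`, `l²`.
-/

set_option autoImplicit false
open scoped commutatorElement

namespace Cfsg.Agent.Lib.Helper14.J2Syl

open Cfsg.Agent.Lib.Helper14.EO2 Cfsg.Agent.Lib.Helper14.LES Cfsg.Agent.Lib.Helper20.ES
open Cfsg.Agent.Lib.Helper14.J2Ord Cfsg.Agent.Lib.Helper14.J2Rec

variable {G : Type*} [Group G] [Finite G]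

/-- `C_G(x²) = C_G(x)` for an element with `x⁵ = 1` -/
theorem cent_sq_eq {x : G} (h5 : x ^ 5 = 1) :
    Subgroup.centralizer ({x ^ 2} : Set G) = Subgroup.centralizer ({x} : Set G) := by
  ext y
  rw [mem_cent_iff, mem_cent_iff]
  constructor
  · intro h
    have h' : Commute y (x ^ 2) := h
    have h3 := h'.pow_right 3
    rw [← pow_mul] at h3
    have e : x ^ (2 * 3) = x := by
      calc x ^ (2 * 3) = x ^ 5 * x := by rw [← pow_succ]
        _ = x := by rw [h5, one_mul]
    rw [e] at h3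
    exact h3.eq
  · intro h
    exact ((show Commute y x from h).pow_right 2).eq

/-- the number of non-trivial elements of a subgroup -/
theorem card_nontrivial (H : Subgroup G) :
    Nat.card {v : G // v ∈ H ∧ v ≠ 1} = Nat.card ↥H - 1 := by
  classical
  haveI : Fintype G := Fintype.ofFinite G
  rw [card_subgroup_eq_filter, Nat.card_eq_fintype_card, Fintype.card_subtype]
  have heq : Finset.univ.filter (fun v : G => v ∈ H ∧ v ≠ 1) =
      (Finset.univ.filter (fun v : G => v ∈ H)).erase 1 := by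
    ext v
    simp only [Finset.mem_filter, Finset.mem_univ, true_and, Finset.mem_erase]
    tauto
  rw [heq, Finset.card_erase_of_mem]
  simp only [Finset.mem_filter, Finset.mem_univ, true_and]
  exact H.one_mem

/-- conjugate elements have centralizers of the same order -/
theorem card_cent_eq_of_conj {x y v : G} (hx : ∃ k : G, k * x * k⁻¹ = v)
    (hy : ∃ k : G, k * y * k⁻¹ = v) :
    Nat.card ↥(Subgroup.centralizer ({x} : Set G)) =
      Nat.card ↥(Subgroup.centralizer ({y} : Set G)) := by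
  obtain ⟨k, hk⟩ := hx
  obtain ⟨k', hk'⟩ := hy
  rw [← card_centralizer_conj k x, hk, ← hk', card_centralizer_conj k' y]

namespace L5

variable {z t : G} {V B : Subgroup G} {b f : G}
  {π : ↥(Subgroup.centralizer ({f} : Set G)) →* alternatingGroup (Fin 5)} {P : Sylow 5 G} {l : G}

theorem l5' (S : L5 z t V B b f π P l) : l ^ 5 = 1 := by
  rw [← S.l5]; exact pow_orderOf_eq_one l

theorem l1 (S : L5 z t V B b f π P l) : l ≠ 1 := by
  intro h
  have := S.l5
  rw [h, orderOf_one] at this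
  omega

/-- squares of elements of order 5 are non-trivial -/
theorem sq_ne_one {x : G} (h5 : x ^ 5 = 1) (h1 : x ≠ 1) : x ^ 2 ≠ 1 := by
  intro h
  apply h1
  exact eq_one_of_pow_five_of_sq h5 (by rw [← pow_two]; exact h)

/-- orbits of `N_G(P)` on `P` consist of non-trivial elements of `P` -/
theorem orbit_sub (P : Sylow 5 G) {x : G} (hx : x ∈ (P : Subgroup G)) (hx1 : x ≠ 1) {v : G}
    (hv : ∃ k ∈ Subgroup.normalizer ((P : Subgroup G) : Set G), k * x * k⁻¹ = v) :
    v ∈ (P : Subgroup G) ∧ v ≠ 1 := by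
  obtain ⟨k, hk, rfl⟩ := hv
  refine ⟨(Subgroup.mem_normalizer_iff.mp hk x).mp hx, ?_⟩
  intro h
  exact hx1 (conj_eq_one_iff.mp h)

/-- an orbit containing the square of its base point has cardinality divisible by 4 -/
theorem four_dvd_orbit (P : Sylow 5 G) {x : G} (h5 : x ^ 5 = 1) (h1 : x ≠ 1)
    (hsq : ∃ k ∈ Subgroup.normalizer ((P : Subgroup G) : Set G), k * x * k⁻¹ = x ^ 2) :
    4 ∣ Nat.card {v : G // ∃ k ∈ Subgroup.normalizer ((P : Subgroup G) : Set G),
      k * x * k⁻¹ = v} := by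
  apply four_dvd_natCard_of_sq_closed
  · rintro v ⟨k, -, rfl⟩
    have h := map_pow (MulAut.conj k) x 5
    rw [MulAut.conj_apply, MulAut.conj_apply] at h
    rw [← h, h5]; group
  · rintro v ⟨k, -, rfl⟩ h
    exact h1 (conj_eq_one_iff.mp h)
  · rintro v ⟨k, hk, rfl⟩
    obtain ⟨k', hk', hkk⟩ := hsq
    refine ⟨k * k', Subgroup.mul_mem _ hk hk', ?_⟩
    have h := map_pow (MulAut.conj k) x 2
    rw [MulAut.conj_apply, MulAut.conj_apply] at h
    rw [← h, ← hkk]; group

/-- two orbits with a common point -/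
theorem orbit_meet (P : Sylow 5 G) {x y v : G}
    (hx : ∃ k ∈ Subgroup.normalizer ((P : Subgroup G) : Set G), k * x * k⁻¹ = v)
    (hy : ∃ k ∈ Subgroup.normalizer ((P : Subgroup G) : Set G), k * y * k⁻¹ = v) :
    ∃ k ∈ Subgroup.normalizer ((P : Subgroup G) : Set G), k * x * k⁻¹ = y := by
  obtain ⟨k, hk, hkx⟩ := hx
  obtain ⟨k', hk', hky⟩ := hy
  refine ⟨k'⁻¹ * k, Subgroup.mul_mem _ (Subgroup.inv_mem _ hk') hk, ?_⟩
  calc k'⁻¹ * k * x * (k'⁻¹ * k)⁻¹ = k'⁻¹ * (k * x * k⁻¹) * k' := by group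
    _ = k'⁻¹ * (k' * y * k'⁻¹) * k' := by rw [hkx, hky]
    _ = y := by group

theorem key (S : L5 z t V B b f π P l) :
    Nat.card ↥(Subgroup.normalizer ((P : Subgroup G) : Set G)) = 300 ∧
    ∀ v ∈ (P : Subgroup G), v ≠ 1 →
      ∃ k ∈ Subgroup.normalizer ((P : Subgroup G) : Set G),
        k * f * k⁻¹ = v ∨ k * f ^ 2 * k⁻¹ = v ∨ k * l * k⁻¹ = v ∨ k * l ^ 2 * k⁻¹ = v := by
  classical
  haveI : Fintype G := Fintype.ofFinite G
  haveI : Fact (Nat.Prime 5) := ⟨by norm_num⟩
  have hF := S.base.base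
  have hPN : (P : Subgroup G) ≤ Subgroup.normalizer ((P : Subgroup G) : Set G) :=
    Subgroup.le_normalizer
  have hfP := S.base.fP
  have hlP := S.lP
  have hf2P : f ^ 2 ∈ (P : Subgroup G) := Subgroup.pow_mem _ hfP 2
  have hl2P : l ^ 2 ∈ (P : Subgroup G) := Subgroup.pow_mem _ hlP 2
  have hf1 := hF.f1
  have hl1 := S.l1
  have hf21 : f ^ 2 ≠ 1 := sq_ne_one hF.f5' hf1
  have hl21 : l ^ 2 ≠ 1 := sq_ne_one S.l5' hl1
  -- the four class equations
  have h1 := card_of_class (Subgroup.normalizer ((P : Subgroup G) : Set G)) f (hPN hfP)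
  rw [S.base.card_norm_f] at h1
  have h2 := card_of_class (Subgroup.normalizer ((P : Subgroup G) : Set G)) (f ^ 2) (hPN hf2P)
  rw [cent_sq_eq hF.f5', S.base.card_norm_f] at h2
  have h3 := card_of_class (Subgroup.normalizer ((P : Subgroup G) : Set G)) l (hPN hlP)
  rw [S.card_norm_l] at h3
  have h4 := card_of_class (Subgroup.normalizer ((P : Subgroup G) : Set G)) (l ^ 2) (hPN hl2P)
  rw [cent_sq_eq S.l5', S.card_norm_l] at h4
  -- the orbits as finsets
  rw [Nat.card_eq_fintype_card (α := {v : G // ∃ k ∈ _, k * f * k⁻¹ = v}),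
    Fintype.card_subtype] at h1
  rw [Nat.card_eq_fintype_card (α := {v : G // ∃ k ∈ _, k * f ^ 2 * k⁻¹ = v}),
    Fintype.card_subtype] at h2
  rw [Nat.card_eq_fintype_card (α := {v : G // ∃ k ∈ _, k * l * k⁻¹ = v}),
    Fintype.card_subtype] at h3
  rw [Nat.card_eq_fintype_card (α := {v : G // ∃ k ∈ _, k * l ^ 2 * k⁻¹ = v}),
    Fintype.card_subtype] at h4
  have hR := card_nontrivial (P : Subgroup G)
  rw [hF.card_sylow P, Nat.card_eq_fintype_card, Fintype.card_subtype,
    show (25 - 1 : ℕ) = 24 by norm_num] at hR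
  -- the orbits lie in `P \ 1`
  have hsub : ∀ x ∈ (P : Subgroup G), x ≠ 1 →
      Finset.univ.filter (fun v : G =>
        ∃ k ∈ Subgroup.normalizer ((P : Subgroup G) : Set G), k * x * k⁻¹ = v) ⊆
      Finset.univ.filter (fun v : G => v ∈ (P : Subgroup G) ∧ v ≠ 1) := by
    intro x hx hx1 v hv
    rw [Finset.mem_filter] at hv ⊢
    exact ⟨Finset.mem_univ _, orbit_sub P hx hx1 hv.2⟩
  -- centralizer orders
  have hCf : Nat.card ↥(Subgroup.centralizer ({f} : Set G)) = 300 := S.base.card_cent_f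
  have hCf2 : Nat.card ↥(Subgroup.centralizer ({f ^ 2} : Set G)) = 300 := by
    rw [cent_sq_eq hF.f5']; exact hCf
  have hCl : Nat.card ↥(Subgroup.centralizer ({l} : Set G)) = 50 := S.card_cent_l
  have hCl2 : Nat.card ↥(Subgroup.centralizer ({l ^ 2} : Set G)) = 50 := by
    rw [cent_sq_eq S.l5']; exact hCl
  have hdisj : ∀ x y : G, Nat.card ↥(Subgroup.centralizer ({x} : Set G)) ≠
      Nat.card ↥(Subgroup.centralizer ({y} : Set G)) →
      Disjoint (Finset.univ.filter (fun v : G =>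
        ∃ k ∈ Subgroup.normalizer ((P : Subgroup G) : Set G), k * x * k⁻¹ = v))
      (Finset.univ.filter (fun v : G =>
        ∃ k ∈ Subgroup.normalizer ((P : Subgroup G) : Set G), k * y * k⁻¹ = v)) := by
    intro x y hxy
    rw [Finset.disjoint_left]
    intro v hv hv'
    rw [Finset.mem_filter] at hv hv'
    obtain ⟨k, -, hk⟩ := hv.2
    obtain ⟨k', -, hk'⟩ := hv'.2
    exact hxy (card_cent_eq_of_conj ⟨k, hk⟩ ⟨k', hk'⟩)
  -- the common orbit length
  set k₁ := (Finset.univ.filter (fun v : G =>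
        ∃ k ∈ Subgroup.normalizer ((P : Subgroup G) : Set G), k * f * k⁻¹ = v)).card with hk₁
  -- `k₁ + k₃ ≤ 24`
  have hle : k₁ + (Finset.univ.filter (fun v : G =>
        ∃ k ∈ Subgroup.normalizer ((P : Subgroup G) : Set G), k * l * k⁻¹ = v)).card ≤ 24 := by
    rw [hk₁, ← Finset.card_union_of_disjoint (hdisj f l (by rw [hCf, hCl]; norm_num)), ← hR]
    exact Finset.card_le_card (Finset.union_subset (hsub f hfP hf1) (hsub l hlP hl1))
  -- `2 ≤ k₁`
  have hge : 2 ≤ k₁ := by
    have hne : f ≠ f⁻¹ := by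
      intro h
      apply hf1
      apply eq_one_of_pow_five_of_sq hF.f5'
      calc f * f = f * f⁻¹ := by rw [← h]
        _ = 1 := mul_inv_cancel f
    have hsub2 : ({f, f⁻¹} : Finset G) ⊆ Finset.univ.filter (fun v : G =>
        ∃ k ∈ Subgroup.normalizer ((P : Subgroup G) : Set G), k * f * k⁻¹ = v) := by
      intro v hv
      rw [Finset.mem_insert, Finset.mem_singleton] at hv
      rw [Finset.mem_filter]
      refine ⟨Finset.mem_univ _, ?_⟩
      rcases hv with rfl | rfl
      · exact ⟨1, Subgroup.one_mem _, by group⟩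
      · exact ⟨b, S.b_mem_normalizer, hF.inv⟩
    have := Finset.card_le_card hsub2
    rw [Finset.card_pair hne] at this
    exact this
  -- Sylow's theorem
  have hidx : Nat.card (Sylow 5 G) =
      (Subgroup.normalizer ((P : Subgroup G) : Set G)).index := P.card_eq_index_normalizer
  have hmod := card_sylow_modEq_one 5 G
  have hmul := Subgroup.card_mul_index (Subgroup.normalizer ((P : Subgroup G) : Set G))
  rw [hF.card, ← hidx, h1] at hmul
  have hmod' : Nat.card (Sylow 5 G) % 5 = 1 := hmod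
  have hk6 : k₁ = 6 := by
    have hk12 : k₁ ≤ 12 := by omega
    generalize Nat.card (Sylow 5 G) = n at hmul hmod'
    have hn : k₁ * n = 12096 := by nlinarith
    interval_cases k₁ <;> omega
  have hk1' : (Finset.univ.filter (fun v : G =>
        ∃ k ∈ Subgroup.normalizer ((P : Subgroup G) : Set G), k * f * k⁻¹ = v)).card = 6 := by
    rw [← hk₁]; exact hk6
  rw [hk6] at h1
  refine ⟨h1, ?_⟩
  rw [h1] at h2 h3 h4
  have hk2 : (Finset.univ.filter (fun v : G =>
        ∃ k ∈ Subgroup.normalizer ((P : Subgroup G) : Set G), k * f ^ 2 * k⁻¹ = v)).card = 6 := by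
    omega
  have hk3 : (Finset.univ.filter (fun v : G =>
        ∃ k ∈ Subgroup.normalizer ((P : Subgroup G) : Set G), k * l * k⁻¹ = v)).card = 6 := by
    omega
  have hk4 : (Finset.univ.filter (fun v : G =>
        ∃ k ∈ Subgroup.normalizer ((P : Subgroup G) : Set G), k * l ^ 2 * k⁻¹ = v)).card = 6 := by
    omega
  -- `f` and `f²` are not conjugate, `l` and `l²` are not conjugate
  have hsq : ∀ x : G, x ^ 5 = 1 → x ≠ 1 → (Finset.univ.filter (fun v : G =>
        ∃ k ∈ Subgroup.normalizer ((P : Subgroup G) : Set G), k * x * k⁻¹ = v)).card = 6 →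
      Disjoint (Finset.univ.filter (fun v : G =>
        ∃ k ∈ Subgroup.normalizer ((P : Subgroup G) : Set G), k * x * k⁻¹ = v))
      (Finset.univ.filter (fun v : G =>
        ∃ k ∈ Subgroup.normalizer ((P : Subgroup G) : Set G), k * x ^ 2 * k⁻¹ = v)) := by
    intro x hx5 hx1 hcard
    rw [Finset.disjoint_left]
    intro v hv hv'
    rw [Finset.mem_filter] at hv hv'
    have h := four_dvd_orbit P hx5 hx1 (orbit_meet P hv.2 hv'.2)
    rw [Nat.card_eq_fintype_card, Fintype.card_subtype, hcard] at h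
    omega
  have hd12 := hsq f hF.f5' hf1 hk1'
  have hd34 := hsq l S.l5' hl1 hk3
  have hd13 := hdisj f l (by rw [hCf, hCl]; norm_num)
  have hd14 := hdisj f (l ^ 2) (by rw [hCf, hCl2]; norm_num)
  have hd23 := hdisj (f ^ 2) l (by rw [hCf2, hCl]; norm_num)
  have hd24 := hdisj (f ^ 2) (l ^ 2) (by rw [hCf2, hCl2]; norm_num)
  -- the union
  have hUsub : Finset.univ.filter (fun v : G =>
        ∃ k ∈ Subgroup.normalizer ((P : Subgroup G) : Set G), k * f * k⁻¹ = v) ∪
      Finset.univ.filter (fun v : G =>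
        ∃ k ∈ Subgroup.normalizer ((P : Subgroup G) : Set G), k * f ^ 2 * k⁻¹ = v) ∪
      Finset.univ.filter (fun v : G =>
        ∃ k ∈ Subgroup.normalizer ((P : Subgroup G) : Set G), k * l * k⁻¹ = v) ∪
      Finset.univ.filter (fun v : G =>
        ∃ k ∈ Subgroup.normalizer ((P : Subgroup G) : Set G), k * l ^ 2 * k⁻¹ = v) ⊆
      Finset.univ.filter (fun v : G => v ∈ (P : Subgroup G) ∧ v ≠ 1) :=
    Finset.union_subset (Finset.union_subset (Finset.union_subset (hsub f hfP hf1)
      (hsub _ hf2P hf21)) (hsub l hlP hl1)) (hsub _ hl2P hl21)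
  have hUcard : (Finset.univ.filter (fun v : G =>
        ∃ k ∈ Subgroup.normalizer ((P : Subgroup G) : Set G), k * f * k⁻¹ = v) ∪
      Finset.univ.filter (fun v : G =>
        ∃ k ∈ Subgroup.normalizer ((P : Subgroup G) : Set G), k * f ^ 2 * k⁻¹ = v) ∪
      Finset.univ.filter (fun v : G =>
        ∃ k ∈ Subgroup.normalizer ((P : Subgroup G) : Set G), k * l * k⁻¹ = v) ∪
      Finset.univ.filter (fun v : G =>
        ∃ k ∈ Subgroup.normalizer ((P : Subgroup G) : Set G), k * l ^ 2 * k⁻¹ = v)).card = 24 := by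
    rw [Finset.card_union_of_disjoint, Finset.card_union_of_disjoint,
      Finset.card_union_of_disjoint hd12, hk1', hk2, hk3, hk4]
    · rw [Finset.disjoint_union_left]; exact ⟨hd13, hd23⟩
    · rw [Finset.disjoint_union_left, Finset.disjoint_union_left]; exact ⟨⟨hd14, hd24⟩, hd34⟩
  have hUeq := Finset.eq_of_subset_of_card_le hUsub (by rw [hUcard, hR])
  intro v hvP hv1
  have hv : v ∈ Finset.univ.filter (fun v : G => v ∈ (P : Subgroup G) ∧ v ≠ 1) :=
    Finset.mem_filter.mpr ⟨Finset.mem_univ _, hvP, hv1⟩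
  rw [← hUeq, Finset.mem_union, Finset.mem_union, Finset.mem_union, Finset.mem_filter,
    Finset.mem_filter, Finset.mem_filter, Finset.mem_filter] at hv
  rcases hv with ((⟨-, k, hk, h⟩ | ⟨-, k, hk, h⟩) | ⟨-, k, hk, h⟩) | ⟨-, k, hk, h⟩
  · exact ⟨k, hk, Or.inl h⟩
  · exact ⟨k, hk, Or.inr (Or.inl h)⟩
  · exact ⟨k, hk, Or.inr (Or.inr (Or.inl h))⟩
  · exact ⟨k, hk, Or.inr (Or.inr (Or.inr h))⟩

end L5

end Cfsg.Agent.Lib.Helper14.J2Syl
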