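import Mathlib
import Cfsg.Agent.Lib.Helper14.J2SylH
import Cfsg.Agent.Lib.Helper14.J2RecW

/-!
helper14: S1722, part I: assembly: the Sylow 5-structure of a group of Hall–Janko type.
-/

set_option autoImplicit false
open scoped commutatorElement

namespace Cfsg.Agent.Lib.Helper14.J2Syl

open Cfsg.Agent.Lib.Helper14.EO2 Cfsg.Agent.Lib.Helper14.LES Cfsg.Agent.Lib.Helper20.ES
open Cfsg.Agent.Lib.Helper14.J2Ord Cfsg.Agent.Lib.Helper14.J2Rec

variable {G : Type*} [Group G] [Finite G]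

/-- existence of the configuration `F5` -/
theorem exists_F5 {z t : G} {V B : Subgroup G} (hTS : TS z t V B) (hc5 : C5 z)
    (hcard : Nat.card G = 604800) : ∃ b f : G, F5 z t V B b f := by
  obtain ⟨e⟩ := hTS.ts.iso
  have h15 := card_invol e
  have hne : Nonempty {b : ↥B // b * b = 1 ∧ b ≠ 1} := by
    by_contra h
    rw [not_nonempty_iff] at h
    rw [Nat.card_of_isEmpty] at h15
    omega
  obtain ⟨⟨b, hb2, hb1⟩⟩ := hne
  obtain ⟨y, hy5, hy⟩ := exists_inverted_five e b hb2 hb1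
  refine ⟨b.1, y.1, hTS, hc5, hcard, b.2, congrArg Subtype.val hb2,
    fun h => hb1 (Subtype.ext h), y.2, ?_, congrArg Subtype.val hy⟩
  rw [Subgroup.orderOf_coe]; exact hy5

/-- existence of the configuration `L5` -/
theorem exists_L5 {z t : G} {V B : Subgroup G} {b f : G} (S : F5 z t V B b f) :
    ∃ (π : ↥(Subgroup.centralizer ({f} : Set G)) →* alternatingGroup (Fin 5)) (P : Sylow 5 G)
      (l : G), L5 z t V B b f π P l := by
  haveI : Fact (Nat.Prime 5) := ⟨by norm_num⟩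
  obtain ⟨π, hsurj, hker⟩ := S.exists_hom
  have hfp : IsPGroup 5 ↥(Subgroup.zpowers f) :=
    IsPGroup.of_card (n := 1) (by rw [Nat.card_zpowers, S.f5, pow_one])
  obtain ⟨P, hP⟩ := hfp.exists_le_sylow
  have hS : F5P z t V B b f π P := ⟨S, hsurj, hker, hP (Subgroup.mem_zpowers f)⟩
  obtain ⟨l, hlP, hl5, hlf, hlb⟩ := hS.exists_l
  exact ⟨π, P, l, hS, hlP, hl5, hlf, hlb⟩

/-- a subgroup of order 5 is generated by each of its non-trivial elements -/
theorem eq_zpowers_of_card_five (W : Subgroup G) (hW : Nat.card ↥W = 5) {w : G} (hw : w ∈ W)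
    (hw1 : w ≠ 1) : orderOf w = 5 ∧ W = Subgroup.zpowers w := by
  haveI : Fact (Nat.Prime 5) := ⟨by norm_num⟩
  have h1 : orderOf w ∣ 5 := by
    have := orderOf_dvd_natCard (⟨w, hw⟩ : ↥W)
    rwa [Subgroup.orderOf_mk, hW] at this
  have h5 : orderOf w = 5 := by
    rcases (Nat.dvd_prime (by norm_num : Nat.Prime 5)).mp h1 with h | h
    · exact absurd (orderOf_eq_one_iff.mp h) hw1
    · exact h
  refine ⟨h5, ?_⟩
  symm
  apply Subgroup.eq_of_le_of_card_ge
  · rw [Subgroup.zpowers_le]; exact hw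
  · rw [hW, Nat.card_zpowers, h5]

namespace L5

variable {z t : G} {V B : Subgroup G} {b f : G}
  {π : ↥(Subgroup.centralizer ({f} : Set G)) →* alternatingGroup (Fin 5)} {P : Sylow 5 G} {l : G}

theorem final (S : L5 z t V B b f π P l) (P₀ : Sylow 5 G) :
    Subgroup.centralizer ((P₀ : Subgroup G) : Set G) = P₀ ∧ Nat.card P₀ = 25 ∧
    Nat.card (Subgroup.normalizer ((P₀ : Subgroup G) : Set G)) = 300 ∧
    ∃ X Y : Subgroup G, Nat.card X = 5 ∧ Nat.card Y = 5 ∧
      (∀ g : G, X.map (MulAut.conj g).toMonoidHom ≠ Y) ∧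
      ∀ W : Subgroup G, Nat.card W = 5 →
        ∃ g : G, W.map (MulAut.conj g).toMonoidHom = X ∨
          W.map (MulAut.conj g).toMonoidHom = Y := by
  classical
  haveI : Fact (Nat.Prime 5) := ⟨by norm_num⟩
  have hF := S.base.base
  obtain ⟨hN, hcover⟩ := S.key
  -- conjugating `P` onto another Sylow subgroup
  have hconj : ∀ P' : Sylow 5 G, ∃ g : G, ∀ x : G, x ∈ (P' : Subgroup G) ↔
      g⁻¹ * x * g ∈ (P : Subgroup G) := by
    intro P'
    obtain ⟨g, hg⟩ := MulAction.exists_smul_eq G P P'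
    refine ⟨g, fun x => ?_⟩
    rw [← hg, Sylow.coe_subgroup_smul, Subgroup.mem_pointwise_smul_iff_inv_smul_mem,
      MulAut.smul_def, ← map_inv, MulAut.conj_apply, inv_inv]
  refine ⟨?_, hF.card_sylow P₀, ?_, Subgroup.zpowers f, Subgroup.zpowers l, ?_, ?_, ?_, ?_⟩
  · -- `C_G(P₀) = P₀`
    obtain ⟨g, hg⟩ := hconj P₀
    apply le_antisymm
    · intro x hx
      rw [Subgroup.mem_centralizer_iff] at hx
      rw [hg, ← S.base.cent_P, Subgroup.mem_centralizer_iff]
      intro p hp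
      have hp' : g * p * g⁻¹ ∈ (P₀ : Subgroup G) := by
        rw [hg]
        have : g⁻¹ * (g * p * g⁻¹) * g = p := by group
        rw [this]; exact hp
      have h := hx _ hp'
      calc p * (g⁻¹ * x * g) = g⁻¹ * ((g * p * g⁻¹) * x) * g := by group
        _ = g⁻¹ * (x * (g * p * g⁻¹)) * g := by rw [h]
        _ = g⁻¹ * x * g * p := by group
    · intro x hx
      rw [Subgroup.mem_centralizer_iff]
      intro y hy
      exact hF.sylow_comm P₀ y hy x hx
  · -- `|N_G(P₀)| = 300`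
    have h1 : Nat.card (Sylow 5 G) =
        (Subgroup.normalizer ((P : Subgroup G) : Set G)).index := P.card_eq_index_normalizer
    have h2 : Nat.card (Sylow 5 G) =
        (Subgroup.normalizer ((P₀ : Subgroup G) : Set G)).index := P₀.card_eq_index_normalizer
    have h3 := Subgroup.card_mul_index (Subgroup.normalizer ((P : Subgroup G) : Set G))
    have h4 := Subgroup.card_mul_index (Subgroup.normalizer ((P₀ : Subgroup G) : Set G))
    rw [← h1, hN, hF.card] at h3
    rw [← h2, hF.card] at h4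
    have hpos : 0 < Nat.card (Sylow 5 G) := Nat.card_pos
    have : Nat.card ↥(Subgroup.normalizer ((P₀ : Subgroup G) : Set G)) * Nat.card (Sylow 5 G) =
        300 * Nat.card (Sylow 5 G) := by rw [h4, h3]
    exact Nat.eq_of_mul_eq_mul_right hpos this
  · rw [Nat.card_zpowers, hF.f5]
  · rw [Nat.card_zpowers, S.l5]
  · -- `⟨f⟩` and `⟨l⟩` are not conjugate
    intro g hg
    have hl : l ∈ (Subgroup.zpowers f).map (MulAut.conj g).toMonoidHom := by
      rw [hg]; exact Subgroup.mem_zpowers l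
    obtain ⟨x, hx, hxl⟩ := hl
    obtain ⟨i, rfl⟩ := exists_pow_of_mem_zpowers hx
    have hxl' : g * f ^ i * g⁻¹ = l := hxl
    have h1 := card_centralizer_conj g (f ^ i)
    rw [hxl', S.card_cent_l] at h1
    have hle : Subgroup.centralizer ({f} : Set G) ≤ Subgroup.centralizer ({f ^ i} : Set G) := by
      intro y hy
      rw [mem_cent_iff] at hy ⊢
      exact ((show Commute y f from hy).pow_right i).eq
    have h2 := Subgroup.card_le_of_le hle
    rw [S.base.card_cent_f, ← h1] at h2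
    omega
  · -- every subgroup of order 5 is conjugate to `⟨f⟩` or `⟨l⟩`
    intro W hW
    have hWne : ∃ w ∈ W, w ≠ 1 := by
      by_contra hcon
      push_neg at hcon
      have : W = ⊥ := (Subgroup.eq_bot_iff_forall _).mpr hcon
      rw [this, Subgroup.card_bot] at hW
      omega
    obtain ⟨w, hwW, hw1⟩ := hWne
    obtain ⟨hw5, hWeq⟩ := eq_zpowers_of_card_five W hW hwW hw1
    have hWp : IsPGroup 5 ↥W := IsPGroup.of_card (n := 1) (by rw [hW, pow_one])
    obtain ⟨P', hP'⟩ := hWp.exists_le_sylow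
    obtain ⟨g, hg⟩ := hconj P'
    have hv : g⁻¹ * w * g ∈ (P : Subgroup G) := (hg w).mp (hP' hwW)
    have hv1 : g⁻¹ * w * g ≠ 1 := by
      intro h
      apply hw1
      calc w = g * (g⁻¹ * w * g) * g⁻¹ := by group
        _ = 1 := by rw [h]; group
    obtain ⟨k, -, hk⟩ := hcover _ hv hv1
    -- the conjugating element
    have hmap : ∀ h : G, W.map (MulAut.conj h).toMonoidHom = Subgroup.zpowers (h * w * h⁻¹) := by
      intro h
      rw [hWeq, MonoidHom.map_zpowers]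
      rfl
    have hcalc : ∀ x : G, k * x * k⁻¹ = g⁻¹ * w * g →
        (k⁻¹ * g⁻¹) * w * (k⁻¹ * g⁻¹)⁻¹ = x := by
      intro x hx
      calc (k⁻¹ * g⁻¹) * w * (k⁻¹ * g⁻¹)⁻¹ = k⁻¹ * (g⁻¹ * w * g) * k := by group
        _ = k⁻¹ * (k * x * k⁻¹) * k := by rw [hx]
        _ = x := by group
    have hsq : ∀ x : G, orderOf x = 5 → Subgroup.zpowers (x ^ 2) = Subgroup.zpowers x := by
      intro x hx
      apply Subgroup.eq_of_le_of_card_ge
      · rw [Subgroup.zpowers_le]
        exact Subgroup.pow_mem _ (Subgroup.mem_zpowers x) 2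
      · rw [Nat.card_zpowers, Nat.card_zpowers, Nat.Coprime.orderOf_pow (by rw [hx]; norm_num)]
    refine ⟨k⁻¹ * g⁻¹, ?_⟩
    rw [hmap]
    rcases hk with h | h | h | h
    · left; rw [hcalc _ h]
    · left; rw [hcalc _ h, hsq f hF.f5]
    · right; rw [hcalc _ h]
    · right; rw [hcalc _ h, hsq l S.l5]

end L5

/-- the Sylow 5-structure from the hypotheses of the statement -/
theorem main (z : G) (hz : orderOf z = 2)
    (Q : Subgroup ↥(Subgroup.centralizer ({z} : Set G))) [Q.Normal]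
    (hF : Cfsg.generalizedFittingSubgroup ↥(Subgroup.centralizer ({z} : Set G)) = Q)
    (hQ : Cfsg.IsExtraspecial 2 ↥Q) (hcard : Nat.card ↥Q = 2 ^ 5)
    (e : ↥(Subgroup.centralizer ({z} : Set G)) ⧸ Q ≃*
      ↥(Cfsg.Omega (ZMod 2) (Cfsg.quadFormMinus 1 (ZMod 2) 1 1)))
    (hnwc : ∃ g : G, (∃ hq : g * z * g⁻¹ ∈ Subgroup.centralizer ({z} : Set G),
      (⟨g * z * g⁻¹, hq⟩ : ↥(Subgroup.centralizer ({z} : Set G))) ∈ Q) ∧ g * z * g⁻¹ ≠ z)
    (hcl : ∃ x y : G, orderOf x = 2 ∧ orderOf y = 2 ∧ ¬ IsConj x y) :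
    ∃ (t : G) (V B : Subgroup G) (b f : G)
      (π : ↥(Subgroup.centralizer ({f} : Set G)) →* alternatingGroup (Fin 5)) (P : Sylow 5 G)
      (l : G), L5 z t V B b f π P l := by
  have S := za5_of_statement z hz Q hF hQ hcard e
  have hc5 := c5_of_statement z hz Q hF hQ hcard e
  have hnwc' : ∃ g : G, g * z * g⁻¹ ∈ Q.map (Subgroup.centralizer ({z} : Set G)).subtype ∧
      g * z * g⁻¹ ≠ z := by
    obtain ⟨g, ⟨hq, hqQ⟩, hne⟩ := hnwc
    exact ⟨g, ⟨⟨_, hq⟩, hqQ, rfl⟩, hne⟩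
  obtain ⟨t, hgp, hall⟩ := S.exists_GP hnwc' hcl
  obtain ⟨V, B, hT, hV4, hVz, hBn, hVc, -, -, hCt⟩ := hgp.structure_thm hall
  have hTS : TS z t V B := ⟨hT, hV4, hVz, hBn, hVc, hCt⟩
  obtain ⟨b, f, hF5⟩ := exists_F5 hTS hc5 (hgp.order hall)
  obtain ⟨π, P, l, hL⟩ := exists_L5 hF5
  exact ⟨t, V, B, b, f, π, P, l, hL⟩

end Cfsg.Agent.Lib.Helper14.J2Syl
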