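import Mathlib
import Cfsg.Agent.Lib.Helper14.J2SylA0

/-!
helper14: S1723 (Sylow 3-structure of groups of Hall–Janko type), part A0: decidable facts about
elements of order 3 of the alternating groups of degree 4 and 5.
-/

set_option autoImplicit false
set_option maxRecDepth 1000000

namespace Cfsg.Agent.Lib.Helper14.J2Tri

open Equiv

/-- the centralizer in `A₅` of an element of order 3 consists of its powers -/
theorem cent3_perm : ∀ τ : Perm (Fin 5), τ ^ 3 = 1 → τ ≠ 1 → ∀ σ : Perm (Fin 5),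
    Perm.sign σ = 1 → σ * τ = τ * σ → σ = 1 ∨ σ = τ ∨ σ = τ ^ 2 := by
  decide

/-- the normalizer in `A₄` of a subgroup of order 3 is the subgroup itself -/
theorem norm3_perm4 : ∀ τ : Perm (Fin 4), τ ^ 3 = 1 → τ ≠ 1 → ∀ σ : Perm (Fin 4),
    Perm.sign σ = 1 → (σ * τ * σ⁻¹ = τ ∨ σ * τ * σ⁻¹ = τ ^ 2) →
    σ = 1 ∨ σ = τ ∨ σ = τ ^ 2 := by
  decide

end Cfsg.Agent.Lib.Helper14.J2Tri
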