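import Mathlib
import Cfsg.Agent.Lib.Helper14.J2TriA0
import Cfsg.Agent.Lib.Helper14.J2SylI

/-!
helper14: S1723, part A: elements of order 3 in groups isomorphic to `A₅`, `A₄`; a perfect finite
group has no non-trivial abelian Sylow subgroup that is central in its normalizer (Burnside);
normal closures of perfect subgroups are perfect.
-/

set_option autoImplicit false
open scoped commutatorElement

namespace Cfsg.Agent.Lib.Helper14.J2Tri

open Equiv Cfsg.Agent.Lib.Helper14.J2Ord Cfsg.Agent.Lib.Helper14.J2Rec Cfsg.Agent.Lib.Helper14.LES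
open Cfsg.Agent.Lib.Helper14.J2Syl

section iso5

variable {B : Type*} [Group B] (e : B ≃* alternatingGroup (Fin 5))

include e in
/-- the centralizer of an element of order 3 consists of its powers -/
theorem cent_three (f x : B) (hf3 : f ^ 3 = 1) (hf1 : f ≠ 1) (hx : x * f = f * x) :
    x = 1 ∨ x = f ∨ x = f ^ 2 := by
  have h3 : (toPerm5 e f) ^ 3 = 1 := by rw [← map_pow, hf3, map_one]
  have h1 : toPerm5 e f ≠ 1 := fun h => hf1 ((toPerm5_eq_one_iff e f).mp h)
  have hc : toPerm5 e x * toPerm5 e f = toPerm5 e f * toPerm5 e x := by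
    rw [← map_mul, hx, map_mul]
  rcases cent3_perm _ h3 h1 _ (toPerm5_sign e x) hc with h | h | h
  · left; exact toPerm5_injective e (by rw [h, map_one])
  · right; left; exact toPerm5_injective e h
  · right; right; exact toPerm5_injective e (by rw [h, map_pow])

end iso5

section iso4

variable {C : Type*} [Group C] (e : C ≃* alternatingGroup (Fin 4))

/-- the embedding into `S₄` -/
def toPerm4 : C →* Perm (Fin 4) := (alternatingGroup (Fin 4)).subtype.comp e.toMonoidHom

theorem toPerm4_injective : Function.Injective (toPerm4 e) := by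
  intro a b h
  have h1 : ((e a : alternatingGroup (Fin 4)) : Perm (Fin 4)) = (e b : alternatingGroup (Fin 4)) :=
    h
  exact e.injective (Subtype.ext h1)

theorem toPerm4_sign (c : C) : Perm.sign (toPerm4 e c) = 1 :=
  Equiv.Perm.mem_alternatingGroup.mp (e c).2

include e in
/-- the normalizer of a subgroup of order 3 -/
theorem norm_three (r c : C) (hr3 : r ^ 3 = 1) (hr1 : r ≠ 1)
    (h : c * r * c⁻¹ = r ∨ c * r * c⁻¹ = r ^ 2) : c = 1 ∨ c = r ∨ c = r ^ 2 := by
  have h3 : (toPerm4 e r) ^ 3 = 1 := by rw [← map_pow, hr3, map_one]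
  have h1 : toPerm4 e r ≠ 1 := by
    intro h'
    apply hr1
    apply toPerm4_injective e
    rw [h', map_one]
  have hc : toPerm4 e c * toPerm4 e r * (toPerm4 e c)⁻¹ = toPerm4 e r ∨
      toPerm4 e c * toPerm4 e r * (toPerm4 e c)⁻¹ = toPerm4 e r ^ 2 := by
    rw [← map_inv, ← map_mul, ← map_mul, ← map_pow]
    rcases h with h | h
    · left; rw [h]
    · right; rw [h]
  rcases norm3_perm4 _ h3 h1 _ (toPerm4_sign e c) hc with h | h | h
  · left; exact toPerm4_injective e (by rw [h, map_one])
  · right; left; exact toPerm4_injective e h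
  · right; right; exact toPerm4_injective e (by rw [h, map_pow])

end iso4

/-- Burnside's transfer theorem for perfect groups: a non-trivial Sylow subgroup of a perfect finite
group is not central in its normalizer -/
theorem not_normalizer_le_of_perfect {X : Type*} [Group X] [Finite X]
    (hperf : commutator X = ⊤) {p : ℕ} [Fact p.Prime] (P : Sylow p X)
    (hne : ∃ a ∈ (P : Subgroup X), a ≠ 1) :
    ¬ Subgroup.normalizer (P : Set X) ≤ Subgroup.centralizer (P : Set X) := by
  intro hP
  have hc := MonoidHom.ker_transferSylow_isComplement' P hP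
  have hker : (MonoidHom.transferSylow P hP).ker = ⊤ := by
    rw [eq_top_iff, ← hperf, commutator_def, Subgroup.commutator_le]
    intro a _ b _
    rw [MonoidHom.mem_ker, map_commutatorElement, commutatorElement_eq_one_iff_mul_comm]
    apply Subtype.ext
    have h1 := (MonoidHom.transferSylow P hP a).2
    have h2 := (MonoidHom.transferSylow P hP b).2
    exact (hP (Subgroup.le_normalizer h2) _ h1)
  have hcard := hc.card_mul_card
  rw [hker, Subgroup.card_top] at hcard
  have hpos : 0 < Nat.card X := Nat.card_pos
  have hP1 : Nat.card ↥(P : Subgroup X) = 1 := by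
    have : Nat.card X * Nat.card ↥(P : Subgroup X) = Nat.card X * 1 := by rw [hcard, mul_one]
    exact Nat.eq_of_mul_eq_mul_left hpos this
  obtain ⟨a, ha, ha1⟩ := hne
  have hbot : (P : Subgroup X) = ⊥ := Subgroup.card_eq_one.mp hP1
  rw [hbot, Subgroup.mem_bot] at ha
  exact ha1 ha

/-- the normal closure of a perfect subgroup is perfect -/
theorem perfect_normalClosure {X : Type*} [Group X] (B₀ : Subgroup X) (hB : ⁅B₀, B₀⁆ = B₀) :
    ⁅Subgroup.normalClosure (B₀ : Set X), Subgroup.normalClosure (B₀ : Set X)⁆ =
      Subgroup.normalClosure (B₀ : Set X) := by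
  apply le_antisymm
  · exact Subgroup.commutator_le_left _ _
  · apply Subgroup.normalClosure_le_normal
    intro x hx
    have hx' : x ∈ ⁅B₀, B₀⁆ := by rw [hB]; exact hx
    exact Subgroup.commutator_mono Subgroup.le_normalClosure Subgroup.le_normalClosure hx'

/-- a subgroup equal to its own commutator subgroup is a perfect group -/
theorem commutator_top_of_eq {X : Type*} [Group X] (M : Subgroup X) (h : ⁅M, M⁆ = M) :
    commutator ↥M = ⊤ := by
  apply Subgroup.map_injective (Subgroup.subtype_injective M)
  rw [Subgroup.map_subtype_commutator, h, ← MonoidHom.range_eq_map, Subgroup.range_subtype]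

end Cfsg.Agent.Lib.Helper14.J2Tri
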