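import Mathlib
import Cfsg.Agent.Lib.Helper14.J2TriA
import Cfsg.Agent.Lib.Helper14.DihedralCrit
import Cfsg.Agent.S0848

/-!
helper14: S1723, part B: a finite group of order divisible by 9 that contains a subgroup `B₀ ≅ A₅`
and an involution `b ∈ B₀` whose centralizer is dihedral of order 8 is perfect of order 360.
-/

set_option autoImplicit false
open scoped commutatorElement

namespace Cfsg.Agent.Lib.Helper14.J2Tri

open Equiv Cfsg.Agent.Lib.Helper14.J2Ord Cfsg.Agent.Lib.Helper14.J2Rec Cfsg.Agent.Lib.Helper14.LES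
open Cfsg.Agent.Lib.Helper14.J2Syl

/-- the dihedral data: `r² = b`, `s` an involution inverting `r`, `C_X(b) = ⟨r, s⟩` -/
structure D8Data {X : Type*} [Group X] (b r s : X) : Prop where
  rr : r * r = b
  b1 : b ≠ 1
  bb : b * b = 1
  ss : s * s = 1
  sr : s * r * s⁻¹ = r⁻¹
  snot : ∀ j : ℕ, s ≠ r ^ j
  cent : ∀ y, y * b = b * y → ∃ j k : ℕ, y = r ^ j * s ^ k

namespace D8Data

variable {X : Type*} [Group X] [Finite X] {b r s : X}

theorem r4 (D : D8Data b r s) : r ^ 4 = 1 := by
  calc r ^ 4 = (r * r) * (r * r) := by rw [show 4 = 2 + 2 from rfl, pow_add, pow_two]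
    _ = 1 := by rw [D.rr, D.bb]

theorem r2 (D : D8Data b r s) : r ^ 2 = b := by rw [pow_two, D.rr]

theorem orderOf_r (D : D8Data b r s) : orderOf r = 4 := by
  haveI : Fact (Nat.Prime 2) := ⟨Nat.prime_two⟩
  have h := orderOf_eq_prime_pow (x := r) (p := 2) (n := 1)
    (by rw [pow_one, D.r2]; exact D.b1) (by norm_num; exact D.r4)
  simpa using h

theorem s1 (D : D8Data b r s) : s ≠ 1 := by
  have := D.snot 0
  rwa [pow_zero] at this

theorem sinv (D : D8Data b r s) : s⁻¹ = s := inv_eq_of_mul_eq_one_right D.ss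

theorem rb (D : D8Data b r s) : r * b = b * r := by
  rw [← D.rr, mul_assoc]

theorem sb (D : D8Data b r s) : s * b = b * s := by
  have h : s * b * s⁻¹ = b := by
    calc s * b * s⁻¹ = (s * r * s⁻¹) * (s * r * s⁻¹) := by rw [← D.rr]; group
      _ = (r * r)⁻¹ := by rw [D.sr]; group
      _ = b := by rw [D.rr]; exact inv_eq_of_mul_eq_one_right D.bb
  calc s * b = (s * b * s⁻¹) * s := by group
    _ = b * s := by rw [h]

theorem rT (D : D8Data b r s) : r ∈ Subgroup.centralizer ({b} : Set X) :=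
  (mem_cent_iff b r).mpr D.rb

theorem sT (D : D8Data b r s) : s ∈ Subgroup.centralizer ({b} : Set X) :=
  (mem_cent_iff b s).mpr D.sb

theorem bT (D : D8Data b r s) : b ∈ Subgroup.centralizer ({b} : Set X) :=
  (mem_cent_iff b b).mpr rfl

/-- `s` does not commute with `r` -/
theorem sr_ne (D : D8Data b r s) : s * r ≠ r * s := by
  intro h
  have h1 : s * r * s⁻¹ = r := by rw [h]; group
  rw [D.sr] at h1
  apply D.b1
  rw [← D.rr]
  calc r * r = r⁻¹ * r := by rw [h1]
    _ = 1 := inv_mul_cancel r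

/-- `r^j s` does not commute with `r` -/
theorem pow_mul_s_ne (D : D8Data b r s) (j : ℕ) : (r ^ j * s) * r ≠ r * (r ^ j * s) := by
  intro h
  apply D.sr_ne
  have h1 : r ^ j * (s * r) = r ^ j * (r * s) := by
    calc r ^ j * (s * r) = (r ^ j * s) * r := by group
      _ = r * (r ^ j * s) := h
      _ = r ^ j * (r * s) := by
        rw [← mul_assoc, ← mul_assoc, ← pow_succ', ← pow_succ]
  exact mul_left_cancel h1

theorem s_pow (D : D8Data b r s) (k : ℕ) : s ^ k = 1 ∨ s ^ k = s := by
  rcases Nat.even_or_odd k with ⟨m, rfl⟩ | ⟨m, rfl⟩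
  · left
    rw [← two_mul, pow_mul, pow_two, D.ss, one_pow]
  · right
    rw [pow_succ, pow_mul, pow_two, D.ss, one_pow, one_mul]

/-- an involution of `C_X(b)` commuting with `r` is `b` -/
theorem eq_b_of_comm (D : D8Data b r s) {y : X} (hyb : y * b = b * y) (hyr : y * r = r * y)
    (hy2 : y * y = 1) (hy1 : y ≠ 1) : y = b := by
  obtain ⟨j, k, rfl⟩ := D.cent y hyb
  rcases D.s_pow k with hk | hk
  · rw [hk, mul_one] at hy2 hy1 ⊢
    -- `r ^ j` is an involution
    have h1 : r ^ (2 * j) = 1 := by rw [two_mul, pow_add]; exact hy2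
    have h2 : 4 ∣ 2 * j := by rw [← D.orderOf_r]; exact orderOf_dvd_of_pow_eq_one h1
    have h3 : 2 ∣ j := by omega
    obtain ⟨m, rfl⟩ := h3
    rw [pow_mul, D.r2]
    rcases Nat.even_or_odd m with ⟨n, rfl⟩ | ⟨n, rfl⟩
    · exfalso
      apply hy1
      rw [pow_mul, D.r2, ← two_mul, pow_mul, pow_two, D.bb, one_pow]
    · rw [pow_succ, pow_mul, pow_two, D.bb, one_pow, one_mul]
  · rw [hk] at hyr
    exact absurd hyr (D.pow_mul_s_ne j)

/-- `|C_X(b)| = 8` -/
theorem card_cent (D : D8Data b r s) :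
    Nat.card ↥(Subgroup.centralizer ({b} : Set X)) = 8 := by
  classical
  haveI : Fintype X := Fintype.ofFinite X
  -- upper bound
  have hle : Nat.card ↥(Subgroup.centralizer ({b} : Set X)) ≤ 8 := by
    rw [card_subgroup_eq_filter]
    have hsub : Finset.univ.filter (fun x : X => x ∈ Subgroup.centralizer ({b} : Set X)) ⊆
        (Finset.univ : Finset (Fin 4 × Fin 2)).image (fun p => r ^ (p.1 : ℕ) * s ^ (p.2 : ℕ)) := by
      intro y hy
      rw [Finset.mem_filter] at hy
      obtain ⟨j, k, rfl⟩ := D.cent y ((mem_cent_iff b y).mp hy.2)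
      rw [Finset.mem_image]
      refine ⟨(⟨j % 4, Nat.mod_lt _ (by norm_num)⟩, ⟨k % 2, Nat.mod_lt _ (by norm_num)⟩),
        Finset.mem_univ _, ?_⟩
      show r ^ (j % 4) * s ^ (k % 2) = r ^ j * s ^ k
      have h1 : r ^ (j % 4) = r ^ j := by
        have := pow_mod_orderOf r j
        rwa [D.orderOf_r] at this
      have h2 : s ^ (k % 2) = s ^ k := by
        have := pow_mod_orderOf s k
        rwa [KCfg.orderOf_two D.ss D.s1] at this
      rw [h1, h2]
    calc (Finset.univ.filter (fun x : X => x ∈ Subgroup.centralizer ({b} : Set X))).card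
        ≤ ((Finset.univ : Finset (Fin 4 × Fin 2)).image
            (fun p => r ^ (p.1 : ℕ) * s ^ (p.2 : ℕ))).card := Finset.card_le_card hsub
      _ ≤ (Finset.univ : Finset (Fin 4 × Fin 2)).card := Finset.card_image_le
      _ = 8 := by simp
  -- lower bound
  have hzle : Subgroup.zpowers r ≤ Subgroup.centralizer ({b} : Set X) := by
    rw [Subgroup.zpowers_le]; exact D.rT
  have h4 : 4 ∣ Nat.card ↥(Subgroup.centralizer ({b} : Set X)) := by
    have := Subgroup.card_dvd_of_le hzle
    rwa [Nat.card_zpowers, D.orderOf_r] at this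
  have hne : Nat.card ↥(Subgroup.centralizer ({b} : Set X)) ≠ 4 := by
    intro h
    have heq := Subgroup.eq_of_le_of_card_ge hzle
      (by rw [h, Nat.card_zpowers, D.orderOf_r])
    have hs : s ∈ Subgroup.zpowers r := by rw [heq]; exact D.sT
    obtain ⟨j, hj⟩ := exists_pow_of_mem_zpowers hs
    exact D.snot j hj
  have hpos : 0 < Nat.card ↥(Subgroup.centralizer ({b} : Set X)) := Nat.card_pos
  obtain ⟨k, hk⟩ := h4
  omega

end D8Data

end Cfsg.Agent.Lib.Helper14.J2Tri
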