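import Mathlib
import Cfsg.Agent.Lib.Helper14.J2TriB

/-!
helper14: S1723, part C: a finite group of order divisible by 9 that contains a subgroup `B₀ ≅ A₅`
and an involution `b ∈ B₀` whose centralizer is dihedral of order 8 is perfect of order 360.
-/

set_option autoImplicit false
open scoped commutatorElement

namespace Cfsg.Agent.Lib.Helper14.J2Tri

open Equiv Cfsg.Agent.Lib.Helper14.J2Ord Cfsg.Agent.Lib.Helper14.J2Rec Cfsg.Agent.Lib.Helper14.LES
open Cfsg.Agent.Lib.Helper14.J2Syl

variable {X : Type*} [Group X] [Finite X]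

/-- the normalizer of `C_X(b)` is `C_X(b)` -/
theorem D8Data.normalizer_le {b r s : X} (D : D8Data b r s) :
    Subgroup.normalizer ((Subgroup.centralizer ({b} : Set X) : Subgroup X) : Set X) ≤
      Subgroup.centralizer ({b} : Set X) := by
  intro x hx
  rw [Subgroup.mem_normalizer_iff] at hx
  have h1 : x * b * x⁻¹ ∈ Subgroup.centralizer ({b} : Set X) := (hx b).mp D.bT
  have h2 : x⁻¹ * r * x ∈ Subgroup.centralizer ({b} : Set X) := by
    have : x * (x⁻¹ * r * x) * x⁻¹ ∈ Subgroup.centralizer ({b} : Set X) := by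
      have e : x * (x⁻¹ * r * x) * x⁻¹ = r := by group
      rw [e]; exact D.rT
    exact (hx _).mpr this
  rw [mem_cent_iff] at h1 h2
  have h3 : (x * b * x⁻¹) * r = r * (x * b * x⁻¹) := by
    calc (x * b * x⁻¹) * r = x * (b * (x⁻¹ * r * x)) * x⁻¹ := by group
      _ = x * ((x⁻¹ * r * x) * b) * x⁻¹ := by rw [h2]
      _ = r * (x * b * x⁻¹) := by group
  have h4 : (x * b * x⁻¹) * (x * b * x⁻¹) = 1 := by
    calc (x * b * x⁻¹) * (x * b * x⁻¹) = x * (b * b) * x⁻¹ := by group
      _ = 1 := by rw [D.bb]; group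
  have h5 : x * b * x⁻¹ ≠ 1 := fun h => D.b1 (conj_eq_one_iff.mp h)
  have h6 := D.eq_b_of_comm h1 h3 h4 h5
  rw [mem_cent_iff]
  calc x * b = (x * b * x⁻¹) * x := by group
    _ = b * x := by rw [h6]

theorem card_of_A5_D8 (B₀ : Subgroup X) (e : ↥B₀ ≃* alternatingGroup (Fin 5)) {b r s : X}
    (hbB : b ∈ B₀) (D : D8Data b r s) (h9 : 9 ∣ Nat.card X) :
    Nat.card X = 360 ∧ commutator X = ⊤ := by
  classical
  haveI : Fact (Nat.Prime 2) := ⟨Nat.prime_two⟩
  have hT8 := D.card_cent
  -- the perfect normal subgroup `M`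
  have hBperf : ⁅B₀, B₀⁆ = B₀ := by
    rw [← Subgroup.map_subtype_commutator, commutator_eq_top_of_iso e, ← MonoidHom.range_eq_map,
      Subgroup.range_subtype]
  have hMperf := perfect_normalClosure B₀ hBperf
  have hMn : (Subgroup.normalClosure (B₀ : Set X)).Normal := Subgroup.normalClosure_normal
  have hBM : B₀ ≤ Subgroup.normalClosure (B₀ : Set X) := Subgroup.le_normalClosure
  have hB60 : Nat.card ↥B₀ = 60 := card_of_iso_A5 e
  have h60M : 60 ∣ Nat.card ↥(Subgroup.normalClosure (B₀ : Set X)) := by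
    rw [← hB60]; exact Subgroup.card_dvd_of_le hBM
  -- the four-group `E4 = C_{B₀}(b)`
  have hb2' : (⟨b, hbB⟩ : ↥B₀) * ⟨b, hbB⟩ = 1 := Subtype.ext D.bb
  have hb1' : (⟨b, hbB⟩ : ↥B₀) ≠ 1 := fun h => D.b1 (congrArg Subtype.val h)
  have hE4 : Nat.card ↥(B₀ ⊓ Subgroup.centralizer ({b} : Set X)) = 4 := by
    rw [← card_cent_invol e ⟨b, hbB⟩ hb2' hb1']
    apply Nat.card_congr
    exact
      { toFun := fun x => ⟨⟨x.1, (Subgroup.mem_inf.mp x.2).1⟩,
          Subtype.ext ((mem_cent_iff b x.1).mp (Subgroup.mem_inf.mp x.2).2)⟩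
        invFun := fun y => ⟨y.1.1, Subgroup.mem_inf.mpr ⟨y.1.2,
          (mem_cent_iff b y.1.1).mpr (congrArg Subtype.val y.2)⟩⟩
        left_inv := fun _ => rfl
        right_inv := fun _ => rfl }
  have hEle : B₀ ⊓ Subgroup.centralizer ({b} : Set X) ≤
      Subgroup.normalClosure (B₀ : Set X) ⊓ Subgroup.centralizer ({b} : Set X) :=
    inf_le_inf_right _ hBM
  have h4dvd : 4 ∣ Nat.card ↥(Subgroup.normalClosure (B₀ : Set X) ⊓
      Subgroup.centralizer ({b} : Set X)) := by
    rw [← hE4]; exact Subgroup.card_dvd_of_le hEle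
  have hdvd8 : Nat.card ↥(Subgroup.normalClosure (B₀ : Set X) ⊓
      Subgroup.centralizer ({b} : Set X)) ∣ 8 := by
    rw [← hT8]; exact Subgroup.card_dvd_of_le inf_le_right
  have hcases : Nat.card ↥(Subgroup.normalClosure (B₀ : Set X) ⊓
      Subgroup.centralizer ({b} : Set X)) = 8 ∨
      Nat.card ↥(Subgroup.normalClosure (B₀ : Set X) ⊓
      Subgroup.centralizer ({b} : Set X)) = 4 := by
    have hle := Nat.le_of_dvd (by norm_num) hdvd8
    obtain ⟨k, hk⟩ := h4dvd
    have hk2 : k ≤ 2 := by omega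
    have hk0 : 1 ≤ k := by
      rcases Nat.eq_zero_or_pos k with h0 | h0
      · rw [hk, h0] at hdvd8
        norm_num at hdvd8
      · exact h0
    interval_cases k
    · right; rw [hk]
    · left; rw [hk]
  rcases hcases with h8 | h4
  · -- `C_X(b) ≤ M`
    have hTM : Subgroup.centralizer ({b} : Set X) ≤ Subgroup.normalClosure (B₀ : Set X) := by
      have heq := Subgroup.eq_of_le_of_card_ge (inf_le_right :
        Subgroup.normalClosure (B₀ : Set X) ⊓ Subgroup.centralizer ({b} : Set X) ≤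
          Subgroup.centralizer ({b} : Set X)) (by rw [h8, hT8])
      rw [← heq]
      exact inf_le_left
    have hbM : b ∈ Subgroup.normalClosure (B₀ : Set X) := hBM hbB
    -- the centralizer of `b` inside `M`
    have hmemC : ∀ y : ↥(Subgroup.normalClosure (B₀ : Set X)),
        y ∈ Subgroup.centralizer ({(⟨b, hbM⟩ : ↥(Subgroup.normalClosure (B₀ : Set X)))} : Set _) ↔
        (y : X) * b = b * (y : X) := by
      intro y
      rw [mem_cent_iff]
      constructor
      · intro h; exact congrArg Subtype.val h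
      · intro h; exact Subtype.ext h
    have hcardC : Nat.card ↥(Subgroup.centralizer
        ({(⟨b, hbM⟩ : ↥(Subgroup.normalClosure (B₀ : Set X)))} : Set _)) = 2 * 4 := by
      rw [show (2 * 4 : ℕ) = 8 by norm_num, ← hT8]
      apply Nat.card_congr
      exact
        { toFun := fun y => ⟨y.1.1, (mem_cent_iff b _).mpr ((hmemC y.1).mp y.2)⟩
          invFun := fun w => ⟨⟨w.1, hTM w.2⟩, (hmemC _).mpr ((mem_cent_iff b w.1).mp w.2)⟩
          left_inv := fun _ => rfl
          right_inv := fun _ => rfl }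
    have hrC : (⟨r, hTM D.rT⟩ : ↥(Subgroup.normalClosure (B₀ : Set X))) ∈ Subgroup.centralizer
        ({(⟨b, hbM⟩ : ↥(Subgroup.normalClosure (B₀ : Set X)))} : Set _) := (hmemC _).mpr D.rb
    have hsC : (⟨s, hTM D.sT⟩ : ↥(Subgroup.normalClosure (B₀ : Set X))) ∈ Subgroup.centralizer
        ({(⟨b, hbM⟩ : ↥(Subgroup.normalClosure (B₀ : Set X)))} : Set _) := (hmemC _).mpr D.sb
    obtain ⟨e'⟩ := Cfsg.Agent.Lib.Helper14.nonempty_mulEquiv_dihedral 4 hcardC
      ⟨⟨r, hTM D.rT⟩, hrC⟩ ⟨⟨s, hTM D.sT⟩, hsC⟩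
      (by apply Subtype.ext; apply Subtype.ext; exact D.r4)
      (by apply Subtype.ext; apply Subtype.ext; exact D.ss)
      (by
        apply Subtype.ext; apply Subtype.ext
        show s * r * s = r⁻¹
        have := D.sr
        rwa [D.sinv] at this)
      (by rw [Subgroup.orderOf_mk, Subgroup.orderOf_mk]; exact D.orderOf_r)
      (by
        intro h
        obtain ⟨j, hj⟩ := exists_pow_of_mem_zpowers h
        have hj' : s = r ^ j := by
          have := congrArg (fun w : ↥(Subgroup.centralizer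
            ({(⟨b, hbM⟩ : ↥(Subgroup.normalClosure (B₀ : Set X)))} : Set _)) => (w.1.1 : X)) hj
          simpa using this
        exact D.snot j hj')
    have hord : orderOf (⟨b, hbM⟩ : ↥(Subgroup.normalClosure (B₀ : Set X))) = 2 := by
      rw [Subgroup.orderOf_mk]; exact KCfg.orderOf_two D.bb D.b1
    have hM := Cfsg.Agent.S0848.result (commutator_top_of_eq _ hMperf) ⟨b, hbM⟩ hord e'
    have hM360 : Nat.card ↥(Subgroup.normalClosure (B₀ : Set X)) = 360 := by
      rcases hM with h | h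
      · rw [h] at h60M; norm_num at h60M
      · exact h
    -- Frattini
    have hfac : (360 : ℕ).factorization 2 = 3 := by
      have h1 : (360 : ℕ) = 2 ^ 3 * 45 := by norm_num
      have h2 : (45 : ℕ).factorization 2 = 0 :=
        Nat.factorization_eq_zero_of_not_dvd (by norm_num)
      rw [h1, Nat.factorization_mul (by norm_num) (by norm_num),
        Nat.Prime.factorization_pow Nat.prime_two]
      simp [h2]
    have hTsub : Nat.card ↥((Subgroup.centralizer ({b} : Set X)).subgroupOf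
        (Subgroup.normalClosure (B₀ : Set X))) =
        2 ^ (Nat.card ↥(Subgroup.normalClosure (B₀ : Set X))).factorization 2 := by
      rw [Nat.card_congr (Subgroup.subgroupOfEquivOfLe hTM).toEquiv, hT8, hM360, hfac]
      norm_num
    have hfr := Sylow.normalizer_sup_eq_top (Sylow.ofCard _ hTsub)
    rw [Sylow.coe_ofCard, Subgroup.subgroupOf_map_subtype, inf_of_le_left hTM] at hfr
    have htop : Subgroup.normalClosure (B₀ : Set X) = ⊤ := by
      rw [eq_top_iff, ← hfr]
      exact sup_le (D.normalizer_le.trans hTM) le_rfl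
    refine ⟨?_, ?_⟩
    · rw [← hM360, htop, Subgroup.card_top]
    · rw [commutator_def]
      rw [htop] at hMperf
      exact hMperf
  · -- `C_M(b) = C_{B₀}(b)`
    exfalso
    have hEeq : B₀ ⊓ Subgroup.centralizer ({b} : Set X) =
        Subgroup.normalClosure (B₀ : Set X) ⊓ Subgroup.centralizer ({b} : Set X) :=
      Subgroup.eq_of_le_of_card_ge hEle (by rw [h4, hE4])
    have hVle : B₀ ⊓ Subgroup.centralizer ({b} : Set X) ≤ Subgroup.normalClosure (B₀ : Set X) :=
      inf_le_left.trans hBM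
    have hkl := klein_trichotomy ((B₀ ⊓ Subgroup.centralizer ({b} : Set X)).subgroupOf
        (Subgroup.normalClosure (B₀ : Set X)))
      (by rw [Nat.card_congr (Subgroup.subgroupOfEquivOfLe hVle).toEquiv, hE4])
      (by
        intro v hv
        rw [Subgroup.mem_subgroupOf] at hv
        obtain ⟨hvB, hvT⟩ := Subgroup.mem_inf.mp hv
        have h := sq_of_comm_invol e ⟨b, hbB⟩ hb2' hb1' ⟨v.1, hvB⟩
          (Subtype.ext ((mem_cent_iff b v.1).mp hvT))
        have h' : (v : X) * (v : X) = 1 := congrArg Subtype.val h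
        exact Subtype.ext h')
      (by
        intro v hv hv1 x hxv
        rw [Subgroup.mem_subgroupOf] at hv ⊢
        obtain ⟨hvB, hvT⟩ := Subgroup.mem_inf.mp hv
        have hvb : (v : X) * b = b * (v : X) := (mem_cent_iff b v.1).mp hvT
        have hv2' : (⟨v.1, hvB⟩ : ↥B₀) * ⟨v.1, hvB⟩ = 1 :=
          sq_of_comm_invol e ⟨b, hbB⟩ hb2' hb1' ⟨v.1, hvB⟩ (Subtype.ext hvb)
        have hv1' : (⟨v.1, hvB⟩ : ↥B₀) ≠ 1 := by
          intro h
          apply hv1
          have h' : (v : X) = 1 := congrArg Subtype.val h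
          exact Subtype.ext h'
        obtain ⟨c, hc⟩ := invol_conj e ⟨b, hbB⟩ ⟨v.1, hvB⟩ hb2' hb1' hv2' hv1'
        have hc' : (c : X) * b * (c : X)⁻¹ = (v : X) := congrArg Subtype.val hc
        have hxv' : (x : X) * (v : X) = (v : X) * (x : X) := congrArg Subtype.val hxv
        -- `c⁻¹ x c ∈ M ∩ C(b) = B₀ ∩ C(b)`
        have h1 : (c : X)⁻¹ * (x : X) * (c : X) ∈
            Subgroup.normalClosure (B₀ : Set X) ⊓ Subgroup.centralizer ({b} : Set X) := by
          refine Subgroup.mem_inf.mpr ⟨?_, ?_⟩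
          · exact Subgroup.mul_mem _ (Subgroup.mul_mem _ (Subgroup.inv_mem _ (hBM c.2)) x.2)
              (hBM c.2)
          · rw [mem_cent_iff]
            calc (c : X)⁻¹ * (x : X) * (c : X) * b
                = (c : X)⁻¹ * ((x : X) * ((c : X) * b * (c : X)⁻¹)) * (c : X) := by group
              _ = (c : X)⁻¹ * (((c : X) * b * (c : X)⁻¹) * (x : X)) * (c : X) := by
                rw [hc', hxv']
              _ = b * ((c : X)⁻¹ * (x : X) * (c : X)) := by group
        rw [← hEeq] at h1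
        have hxB : (x : X) ∈ B₀ := by
          have h2 := (Subgroup.mem_inf.mp h1).1
          have : (x : X) = (c : X) * ((c : X)⁻¹ * (x : X) * (c : X)) * (c : X)⁻¹ := by group
          rw [this]
          exact B₀.mul_mem (B₀.mul_mem c.2 h2) (B₀.inv_mem c.2)
        refine Subgroup.mem_inf.mpr ⟨hxB, ?_⟩
        rw [mem_cent_iff]
        -- `x` and `b` lie in `C_{B₀}(v)`, which has exponent 2
        have hsq : ∀ y : ↥B₀, y * ⟨v.1, hvB⟩ = ⟨v.1, hvB⟩ * y → y * y = 1 :=
          fun y hy => sq_of_comm_invol e ⟨v.1, hvB⟩ hv2' hv1' y hy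
        have hxc : (⟨x.1, hxB⟩ : ↥B₀) * ⟨v.1, hvB⟩ = ⟨v.1, hvB⟩ * ⟨x.1, hxB⟩ := Subtype.ext hxv'
        have hbc : (⟨b, hbB⟩ : ↥B₀) * ⟨v.1, hvB⟩ = ⟨v.1, hvB⟩ * ⟨b, hbB⟩ := Subtype.ext hvb.symm
        have hxbc : ((⟨x.1, hxB⟩ : ↥B₀) * ⟨b, hbB⟩) * ⟨v.1, hvB⟩ =
            ⟨v.1, hvB⟩ * ((⟨x.1, hxB⟩ : ↥B₀) * ⟨b, hbB⟩) := by
          have h1 : Commute (⟨x.1, hxB⟩ : ↥B₀) ⟨v.1, hvB⟩ := hxc
          have h2 : Commute (⟨b, hbB⟩ : ↥B₀) ⟨v.1, hvB⟩ := hbc
          exact (h1.mul_left h2).eq
        have e1 := hsq _ hxc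
        have e2 := hsq _ hxbc
        have e1' : (x : X) * (x : X) = 1 := congrArg Subtype.val e1
        have e2' : ((x : X) * b) * ((x : X) * b) = 1 := congrArg Subtype.val e2
        calc (x : X) * b = ((x : X) * b)⁻¹ := (inv_eq_of_mul_eq_one_right e2').symm
          _ = b⁻¹ * (x : X)⁻¹ := mul_inv_rev _ _
          _ = b * (x : X) := by
            rw [inv_eq_of_mul_eq_one_right D.bb, inv_eq_of_mul_eq_one_right e1'])
    rcases hkl with ⟨⟨ε⟩⟩ | hle
    · -- `M ≅ A₅`: then `|X|` divides `8 * 120`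
      have haut : Nat.card (MulAut ↥(Subgroup.normalClosure (B₀ : Set X))) = 120 := card_aut ε
      have hker : (MulAut.conjNormal (H := Subgroup.normalClosure (B₀ : Set X))).ker ≤
          Subgroup.centralizer ({b} : Set X) := by
        intro x hx
        rw [MonoidHom.mem_ker] at hx
        have h1 := congrArg (fun φ : MulAut ↥(Subgroup.normalClosure (B₀ : Set X)) =>
          ((φ ⟨b, hBM hbB⟩ : ↥(Subgroup.normalClosure (B₀ : Set X))) : X)) hx
        simp only [MulAut.conjNormal_apply, MulAut.one_apply] at h1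
        rw [mem_cent_iff]
        calc x * b = (x * b * x⁻¹) * x := by group
          _ = b * x := by rw [h1]
      have h1 : Nat.card ↥(MulAut.conjNormal (H := Subgroup.normalClosure (B₀ : Set X))).ker ∣
          8 := by
        rw [← hT8]; exact Subgroup.card_dvd_of_le hker
      have h2 : Nat.card ↥(MulAut.conjNormal (H := Subgroup.normalClosure (B₀ : Set X))).range ∣
          120 := by
        rw [← haut]; exact Subgroup.card_subgroup_dvd_card _
      have h3 := Subgroup.card_mul_index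
        (MulAut.conjNormal (H := Subgroup.normalClosure (B₀ : Set X))).ker
      rw [Subgroup.index_ker] at h3
      have h4' : Nat.card X ∣ 8 * 120 := by
        rw [← h3]; exact Nat.mul_dvd_mul h1 h2
      have := h9.trans h4'
      norm_num at this
    · have h60 := Nat.le_of_dvd Nat.card_pos h60M
      omega

end Cfsg.Agent.Lib.Helper14.J2Tri
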