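import Mathlib
import Cfsg.Agent.Lib.Helper14.J2TriC

/-!
helper14: S1723, part D: in `C_G(z) = Q.A₅` the centralizer of an element `x` of order 3 is
`⟨x⟩ × D₈` (the property `D3 z`), from the hypotheses of the statement, and its transport along
conjugation.
-/

set_option autoImplicit false
open scoped commutatorElement

namespace Cfsg.Agent.Lib.Helper14.J2Tri

open Cfsg.Agent.Lib.Helper14.EO2 Cfsg.Agent.Lib.Helper14.LES Cfsg.Agent.Lib.Helper20.ES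
open Cfsg.Agent.Lib.Helper14.J2Ord Cfsg.Agent.Lib.Helper14.J2Rec Cfsg.Agent.Lib.Helper14.J2Syl

variable {G : Type*} [Group G] [Finite G]

/-- the fixed point congruence for an element of prime order of `C_G(z)` -/
theorem card_modEq_prime {z : G} {Q : Subgroup G} (S : ZBase z Q) (P : G → Prop)
    (hP : ∀ h x : G, h * z = z * h → P x → P (h * x * h⁻¹))
    (g : G) (hgz : g * z = z * g) (p : ℕ) [Fact p.Prime] (hg : orderOf g = p) :
    Nat.card {x : G // x ∈ Q ∧ P x} ≡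
      Nat.card {x : G // (x ∈ Q ∧ P x) ∧ g * x * g⁻¹ = x} [MOD p] := by
  letI := S.conjAction P hP
  have hgC : g ∈ Subgroup.centralizer ({z} : Set G) := (mem_cent_iff z g).mpr hgz
  have hg' : orderOf (⟨g, hgC⟩ : ↥(Subgroup.centralizer ({z} : Set G))) = p := by
    rw [← Subgroup.orderOf_coe]; exact hg
  have h := card_modEq_fixed' (X := {x : G // x ∈ Q ∧ P x})
    (⟨g, hgC⟩ : ↥(Subgroup.centralizer ({z} : Set G))) p hg'
  have e : {x : {x : G // x ∈ Q ∧ P x} //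
      (⟨g, hgC⟩ : ↥(Subgroup.centralizer ({z} : Set G))) • x = x} ≃
      {x : G // (x ∈ Q ∧ P x) ∧ g * x * g⁻¹ = x} :=
    { toFun := fun x => ⟨x.1.1, x.1.2, congrArg (fun y : {x : G // x ∈ Q ∧ P x} => y.1) x.2⟩
      invFun := fun x => ⟨⟨x.1, x.2.1⟩, Subtype.ext x.2.2⟩
      left_inv := fun x => rfl
      right_inv := fun x => rfl }
  rw [Nat.card_congr e] at h
  exact h

/-- `C_G(z) ∩ C_G(x) = ⟨x⟩ × D₈` for every element `x` of order 3 of `C_G(z)` -/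
def D3 (z : G) : Prop :=
  ∀ x, x * z = z * x → orderOf x = 3 → ∃ r s : G, r * x = x * r ∧ s * x = x * s ∧ r * r = z ∧
    s * s = 1 ∧ s * r * s⁻¹ = r⁻¹ ∧ (∀ j : ℕ, s ≠ r ^ j) ∧
    ∀ y, y * z = z * y → y * x = x * y → ∃ i j k : ℕ, y = x ^ i * (r ^ j * s ^ k)

theorem conj_fixed_iff (x y : G) : x * y * x⁻¹ = y ↔ y * x = x * y := by
  constructor
  · intro h
    calc y * x = x * y * x⁻¹ * x := by rw [h]
      _ = x * y := by group
  · intro h
    calc x * y * x⁻¹ = (y * x) * x⁻¹ := by rw [h]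
      _ = y := by group

theorem d3_of_hom {B : Type*} [Group B] (e : B ≃* alternatingGroup (Fin 5)) {z : G}
    {Q : Subgroup G} (S : ZBase z Q)
    (φ : ↥(Subgroup.centralizer ({z} : Set G)) →* B)
    (hker : ∀ x, φ x = 1 ↔ (x : G) ∈ Q) : D3 z := by
  classical
  intro x hxz hx3
  haveI : Fact (Nat.Prime 3) := ⟨by norm_num⟩
  have A := S.hyp.amb
  have hxC : x ∈ Subgroup.centralizer ({z} : Set G) := (mem_cent_iff z x).mpr hxz
  have hx3' : x ^ 3 = 1 := by rw [← hx3]; exact pow_orderOf_eq_one x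
  have hx1 : x ≠ 1 := by
    intro h; rw [h, orderOf_one] at hx3; omega
  have hxQ : x ∉ Q := by
    intro hxQ
    have h1 : orderOf (⟨x, hxQ⟩ : ↥Q) = 3 := by rw [← Subgroup.orderOf_coe]; exact hx3
    have h2 : orderOf (⟨x, hxQ⟩ : ↥Q) ∣ Nat.card ↥Q := orderOf_dvd_natCard _
    rw [h1, S.cardQ] at h2
    omega
  -- the fixed points `T₀ = C_Q(x)`
  let T₀ : Subgroup G := Q ⊓ Subgroup.centralizer ({x} : Set G)
  have hT : ∀ y, y ∈ T₀ ↔ (y ∈ Q ∧ x * y * x⁻¹ = y) := by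
    intro y
    show y ∈ Q ⊓ Subgroup.centralizer ({x} : Set G) ↔ _
    rw [Subgroup.mem_inf, mem_cent_iff, conj_fixed_iff]
  have h1 := card_modEq_prime S (fun _ => True) (fun _ _ _ _ => trivial) x hxz 3 hx3
  have e1 : {y : G // (y ∈ Q ∧ True) ∧ x * y * x⁻¹ = y} ≃ ↥T₀ :=
    { toFun := fun y => ⟨y.1, (hT y.1).mpr ⟨y.2.1.1, y.2.2⟩⟩
      invFun := fun y => ⟨y.1, ⟨((hT y.1).mp y.2).1, trivial⟩, ((hT y.1).mp y.2).2⟩
      left_inv := fun y => rfl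
      right_inv := fun y => rfl }
  have e2 : {y : G // y ∈ Q ∧ True} ≃ ↥Q :=
    { toFun := fun y => ⟨y.1, y.2.1⟩
      invFun := fun y => ⟨y.1, y.2, trivial⟩
      left_inv := fun y => rfl
      right_inv := fun y => rfl }
  rw [Nat.card_congr e1, Nat.card_congr e2, S.cardQ] at h1
  have hTQ : T₀ ≤ Q := inf_le_left
  have hdvd : Nat.card ↥T₀ ∣ 32 := S.cardQ ▸ Subgroup.card_dvd_of_le hTQ
  have hcases : Nat.card ↥T₀ = 2 ∨ Nat.card ↥T₀ = 8 ∨ Nat.card ↥T₀ = 32 := by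
    have h32 : (32 : ℕ) = 2 ^ 5 := by norm_num
    rw [h32] at hdvd
    obtain ⟨j, hj, hj2⟩ := (Nat.dvd_prime_pow Nat.prime_two).mp hdvd
    rw [hj2] at h1 ⊢
    interval_cases j <;> simp_all [Nat.ModEq]
  have hne32 : Nat.card ↥T₀ ≠ 32 := by
    intro h32
    have hTQ' : T₀ = Q := Subgroup.eq_of_le_of_card_ge hTQ (by rw [h32, S.cardQ])
    apply hxQ
    apply S.hyp.cen
    intro q hq
    have : q ∈ T₀ := hTQ' ▸ hq
    exact ((conj_fixed_iff x q).mp ((hT q).mp this).2).symm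
  -- the fixed non-central involutions
  have hP : ∀ h u : G, h * z = z * h → (u * u = 1 ∧ u ≠ 1 ∧ u ≠ z) →
      ((h * u * h⁻¹) * (h * u * h⁻¹) = 1 ∧ h * u * h⁻¹ ≠ 1 ∧ h * u * h⁻¹ ≠ z) := by
    rintro h u hh ⟨hu2, hu1, huz⟩
    refine ⟨?_, ?_, ?_⟩
    · calc (h * u * h⁻¹) * (h * u * h⁻¹) = h * (u * u) * h⁻¹ := by group
        _ = 1 := by rw [hu2]; group
    · intro h'
      exact hu1 (conj_eq_one_iff.mp h')
    · intro h'
      apply huz
      calc u = h⁻¹ * (h * u * h⁻¹) * h := by group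
        _ = h⁻¹ * (z * h) := by rw [h']; group
        _ = h⁻¹ * (h * z) := by rw [hh]
        _ = z := by group
  have h2 := card_modEq_prime S (fun u => u * u = 1 ∧ u ≠ 1 ∧ u ≠ z) hP x hxz 3 hx3
  rw [S.card_I1] at h2
  set F := {u : G // (u ∈ Q ∧ u * u = 1 ∧ u ≠ 1 ∧ u ≠ z) ∧ x * u * x⁻¹ = u} with hF
  have hFne : Nat.card F ≠ 0 := by
    intro h0
    rw [h0] at h2
    exact absurd h2 (by decide)
  haveI : Nonempty F := by
    by_contra hemp
    rw [not_nonempty_iff] at hemp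
    exact hFne Nat.card_of_isEmpty
  obtain ⟨⟨s₁, ⟨hs₁Q, hs₁2, hs₁1, hs₁z⟩, hs₁x⟩⟩ := ‹Nonempty F›
  have hzx : x * z * x⁻¹ = z := (conj_fixed_iff x z).mpr hxz.symm
  have hs₁z' : s₁ * z = z * s₁ := A.zc s₁ hs₁Q
  have hsz_mem : (s₁ * z ∈ Q ∧ (s₁ * z) * (s₁ * z) = 1 ∧ s₁ * z ≠ 1 ∧ s₁ * z ≠ z) ∧
      x * (s₁ * z) * x⁻¹ = s₁ * z := by
    refine ⟨⟨Q.mul_mem hs₁Q A.zQ, ?_, ?_, ?_⟩, ?_⟩
    · calc (s₁ * z) * (s₁ * z) = s₁ * (z * s₁) * z := by group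
        _ = s₁ * (s₁ * z) * z := by rw [hs₁z']
        _ = (s₁ * s₁) * (z * z) := by group
        _ = 1 := by rw [hs₁2, A.zz, one_mul]
    · intro h
      apply hs₁z
      calc s₁ = (s₁ * z) * z := by rw [mul_assoc, A.zz, mul_one]
        _ = z := by rw [h, one_mul]
    · intro h
      apply hs₁1
      have : s₁ * z = 1 * z := by rw [one_mul]; exact h
      exact mul_right_cancel this
    · calc x * (s₁ * z) * x⁻¹ = (x * s₁ * x⁻¹) * (x * z * x⁻¹) := by group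
        _ = s₁ * z := by rw [hs₁x, hzx]
  have hszne : s₁ * z ≠ s₁ := by
    intro h
    apply A.z1
    have : s₁ * z = s₁ * 1 := by rw [mul_one]; exact h
    exact mul_left_cancel this
  -- a third fixed involution
  have hex : ∃ s₂ : G, ((s₂ ∈ Q ∧ s₂ * s₂ = 1 ∧ s₂ ≠ 1 ∧ s₂ ≠ z) ∧ x * s₂ * x⁻¹ = s₂) ∧
      s₂ ≠ s₁ ∧ s₂ ≠ s₁ * z := by
    by_contra hno
    push_neg at hno
    have hall : ∀ u : F, u.1 = s₁ ∨ u.1 = s₁ * z := by
      intro u
      by_cases h : u.1 = s₁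
      · left; exact h
      · right; exact hno u.1 u.2 h
    have hinj : Function.Injective (fun u : F => decide (u.1 = s₁)) := by
      intro u v huv
      apply Subtype.ext
      simp only [decide_eq_decide] at huv
      rcases hall u with hu | hu <;> rcases hall v with hv | hv
      · rw [hu, hv]
      · exact absurd (huv.mp hu) (by rw [hv]; exact hszne)
      · exact absurd (huv.mpr hv) (by rw [hu]; exact hszne)
      · rw [hu, hv]
    have hle : Nat.card F ≤ 2 := by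
      have := Nat.card_le_card_of_injective _ hinj
      rwa [Nat.card_eq_fintype_card (α := Bool), Fintype.card_bool] at this
    have hge : 2 ≤ Nat.card F := by
      have hinj2 : Function.Injective (fun b : Bool => if b then (⟨s₁, ⟨hs₁Q, hs₁2, hs₁1, hs₁z⟩, hs₁x⟩ : F)
          else ⟨s₁ * z, hsz_mem⟩) := by
        intro a b hab
        cases a <;> cases b
        · rfl
        · exact absurd (congrArg Subtype.val hab) hszne
        · exact absurd (congrArg Subtype.val hab).symm hszne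
        · rfl
      have := Nat.card_le_card_of_injective _ hinj2
      rwa [Nat.card_eq_fintype_card (α := Bool), Fintype.card_bool] at this
    have : Nat.card F = 2 := le_antisymm hle hge
    rw [this] at h2
    exact absurd h2 (by decide)
  obtain ⟨s₂, ⟨⟨hs₂Q, hs₂2, hs₂1, hs₂z⟩, hs₂x⟩, hs₂s₁, hs₂s₁z⟩ := hex
  have hnc : ¬ s₂ * s₁ = s₁ * s₂ :=
    S.noncomm hs₁Q hs₁2 hs₁1 hs₁z hs₂Q hs₂2 hs₂1 hs₂z hs₂s₁ hs₂s₁z
  have hs₁inv : s₁⁻¹ = s₁ := inv_eq_of_mul_eq_one_right hs₁2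
  have hs₂inv : s₂⁻¹ = s₂ := inv_eq_of_mul_eq_one_right hs₂2
  have hcomm : s₁ * s₂ * s₁ * s₂ = z := by
    rcases A.comm s₁ hs₁Q s₂ hs₂Q with h | h
    · exfalso
      exact hnc (commutatorElement_eq_one_iff_mul_comm.mp h).symm
    · rw [commutatorElement_def, hs₁inv, hs₂inv] at h
      exact h
  have hs₁T : s₁ ∈ T₀ := (hT s₁).mpr ⟨hs₁Q, hs₁x⟩
  have hs₂T : s₂ ∈ T₀ := (hT s₂).mpr ⟨hs₂Q, hs₂x⟩
  have hrT : s₁ * s₂ ∈ T₀ := T₀.mul_mem hs₁T hs₂T
  have hrr : (s₁ * s₂) * (s₁ * s₂) = z := by rw [← hcomm]; group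
  have hr4 : (s₁ * s₂) ^ 4 = 1 := by
    calc (s₁ * s₂) ^ 4 = ((s₁ * s₂) * (s₁ * s₂)) * ((s₁ * s₂) * (s₁ * s₂)) := by
          rw [show 4 = 2 + 2 from rfl, pow_add, pow_two]
      _ = 1 := by rw [hrr, A.zz]
  have hr2 : (s₁ * s₂) ^ 2 = z := by rw [pow_two, hrr]
  have hr3 : (s₁ * s₂) ^ 3 = s₂ * s₁ := by
    have : (s₁ * s₂) ^ 3 * (s₁ * s₂) = (s₂ * s₁) * (s₁ * s₂) := by
      rw [← pow_succ, hr4]
      calc (1 : G) = s₂ * (s₁ * s₁) * s₂ := by rw [hs₁2, mul_one, hs₂2]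
        _ = (s₂ * s₁) * (s₁ * s₂) := by group
    exact mul_right_cancel this
  have hsnot : ∀ j : ℕ, s₁ ≠ (s₁ * s₂) ^ j := by
    intro j hj
    have hmod : (s₁ * s₂) ^ j = (s₁ * s₂) ^ (j % 4) := by
      conv_lhs => rw [← Nat.div_add_mod j 4, pow_add, pow_mul, hr4, one_pow, one_mul]
    rw [hmod] at hj
    have hlt : j % 4 < 4 := Nat.mod_lt _ (by norm_num)
    interval_cases (j % 4)
    · rw [pow_zero] at hj; exact hs₁1 hj
    · rw [pow_one] at hj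
      apply hs₂1
      have : s₁ * 1 = s₁ * s₂ := by rw [mul_one]; exact hj
      exact (mul_left_cancel this).symm
    · rw [hr2] at hj; exact hs₁z hj
    · rw [hr3] at hj
      apply hs₂1
      have : 1 * s₁ = s₂ * s₁ := by rw [one_mul]; exact hj
      exact (mul_right_cancel this).symm
  have hord : orderOf (s₁ * s₂) = 4 := by
    haveI : Fact (Nat.Prime 2) := ⟨Nat.prime_two⟩
    have h := orderOf_eq_prime_pow (x := s₁ * s₂) (p := 2) (n := 1)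
      (by rw [pow_one, hr2]; exact A.z1) (by norm_num; exact hr4)
    simpa using h
  -- `|T₀| = 8`
  have hT8 : Nat.card ↥T₀ = 8 := by
    rcases hcases with h | h | h
    · exfalso
      have : orderOf (⟨s₁ * s₂, hrT⟩ : ↥T₀) ∣ Nat.card ↥T₀ := orderOf_dvd_natCard _
      rw [← Subgroup.orderOf_coe, h] at this
      simp only at this
      rw [hord] at this
      omega
    · exact h
    · exact absurd h hne32
  -- the subgroup `⟨r⟩` of index 2
  let R : Subgroup ↥T₀ := Subgroup.zpowers (⟨s₁ * s₂, hrT⟩ : ↥T₀)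
  have hR4 : Nat.card ↥R = 4 := by
    rw [Nat.card_zpowers, ← Subgroup.orderOf_coe]
    exact hord
  have hRidx : R.index = 2 := by
    have := R.card_mul_index
    rw [hR4, hT8] at this
    omega
  have hmemR : ∀ q : ↥T₀, q ∈ R → ∃ j : ℕ, (q : G) = (s₁ * s₂) ^ j := by
    intro q hq
    obtain ⟨j, hj⟩ := exists_pow_of_mem_zpowers hq
    refine ⟨j, ?_⟩
    have h' : (q : G) = ((⟨s₁ * s₂, hrT⟩ : ↥T₀) ^ j : ↥T₀) := congrArg Subtype.val hj
    rw [h', Subgroup.coe_pow]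
  have hsR : (⟨s₁, hs₁T⟩ : ↥T₀) ∉ R := by
    intro h
    obtain ⟨j, hj⟩ := hmemR _ h
    exact hsnot j hj
  have hdecomp : ∀ q ∈ T₀, ∃ j k : ℕ, q = (s₁ * s₂) ^ j * s₁ ^ k := by
    intro q hq
    by_cases hqR : (⟨q, hq⟩ : ↥T₀) ∈ R
    · obtain ⟨j, hj⟩ := hmemR _ hqR
      exact ⟨j, 0, by rw [pow_zero, mul_one]; exact hj⟩
    · have hmul : (⟨q, hq⟩ : ↥T₀) * ⟨s₁, hs₁T⟩ ∈ R := by
        rw [Subgroup.mul_mem_iff_of_index_two hRidx]
        exact ⟨fun h => absurd h hqR, fun h => absurd h hsR⟩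
      obtain ⟨j, hj⟩ := hmemR _ hmul
      refine ⟨j, 1, ?_⟩
      have hj' : q * s₁ = (s₁ * s₂) ^ j := hj
      rw [pow_one, ← hj', mul_assoc, hs₁2, mul_one]
  refine ⟨s₁ * s₂, s₁, ?_, ?_, hrr, hs₁2, ?_, hsnot, ?_⟩
  · exact (conj_fixed_iff x _).mp ((hT _).mp hrT).2
  · exact (conj_fixed_iff x _).mp hs₁x
  · rw [hs₁inv, mul_inv_rev, hs₁inv, hs₂inv]
    calc s₁ * (s₁ * s₂) * s₁ = (s₁ * s₁) * s₂ * s₁ := by group
      _ = s₂ * s₁ := by rw [hs₁2, one_mul]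
  · intro y hyz hyx
    have hyC : y ∈ Subgroup.centralizer ({z} : Set G) := (mem_cent_iff z y).mpr hyz
    have hφ1 : φ ⟨x, hxC⟩ ≠ 1 := fun h => hxQ ((hker _).mp h)
    have hφ3 : (φ ⟨x, hxC⟩) ^ 3 = 1 := by
      rw [← map_pow]
      have : (⟨x, hxC⟩ : ↥(Subgroup.centralizer ({z} : Set G))) ^ 3 = 1 := Subtype.ext hx3'
      rw [this, map_one]
    have hc : φ ⟨y, hyC⟩ * φ ⟨x, hxC⟩ = φ ⟨x, hxC⟩ * φ ⟨y, hyC⟩ := by
      rw [← map_mul, ← map_mul]
      congr 1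
      exact Subtype.ext hyx
    have hi : ∃ i : ℕ, φ ⟨y, hyC⟩ = (φ ⟨x, hxC⟩) ^ i := by
      rcases cent_three e _ _ hφ3 hφ1 hc with h | h | h
      · exact ⟨0, by rw [pow_zero]; exact h⟩
      · exact ⟨1, by rw [pow_one]; exact h⟩
      · exact ⟨2, h⟩
    obtain ⟨i, hi⟩ := hi
    have hq : φ ((⟨x, hxC⟩ : ↥(Subgroup.centralizer ({z} : Set G)))⁻¹ ^ i * ⟨y, hyC⟩) = 1 := by
      rw [map_mul, map_pow, map_inv, hi, inv_pow, inv_mul_cancel]
    have hqQ : (x⁻¹) ^ i * y ∈ Q := (hker _).mp hq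
    have hxi : Commute x (x⁻¹ ^ i) := ((Commute.refl x).inv_right).pow_right i
    have hfix : x * ((x⁻¹) ^ i * y) * x⁻¹ = (x⁻¹) ^ i * y := by
      calc x * ((x⁻¹) ^ i * y) * x⁻¹ = (x * (x⁻¹) ^ i) * y * x⁻¹ := by group
        _ = ((x⁻¹) ^ i * x) * y * x⁻¹ := by rw [hxi.eq]
        _ = (x⁻¹) ^ i * (x * y) * x⁻¹ := by group
        _ = (x⁻¹) ^ i * (y * x) * x⁻¹ := by rw [hyx]
        _ = (x⁻¹) ^ i * y := by group
    obtain ⟨j, k, hjk⟩ := hdecomp _ ((hT _).mpr ⟨hqQ, hfix⟩)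
    refine ⟨i, j, k, ?_⟩
    calc y = x ^ i * ((x⁻¹) ^ i * y) := by rw [inv_pow]; group
      _ = x ^ i * ((s₁ * s₂) ^ j * s₁ ^ k) := by rw [hjk]

theorem d3_of_statement (z : G) (hz : orderOf z = 2)
    (Q : Subgroup ↥(Subgroup.centralizer ({z} : Set G))) [Q.Normal]
    (hF : Cfsg.generalizedFittingSubgroup ↥(Subgroup.centralizer ({z} : Set G)) = Q)
    (hQ : Cfsg.IsExtraspecial 2 ↥Q) (hcard : Nat.card ↥Q = 2 ^ 5)
    (e : ↥(Subgroup.centralizer ({z} : Set G)) ⧸ Q ≃*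
      ↥(Cfsg.Omega (ZMod 2) (Cfsg.quadFormMinus 1 (ZMod 2) 1 1))) :
    D3 z := by
  obtain ⟨eΩ⟩ := omega_iso_A5
  have S := (za5_of_statement z hz Q hF hQ hcard e).base
  have hmem : ∀ x : ↥(Subgroup.centralizer ({z} : Set G)),
      (x : G) ∈ Q.map (Subgroup.centralizer ({z} : Set G)).subtype ↔ x ∈ Q := by
    intro x
    constructor
    · rintro ⟨y, hy, hyx⟩
      have : y = x := Subtype.ext hyx
      rwa [← this]
    · intro hx
      exact ⟨x, hx, rfl⟩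
  let φ : ↥(Subgroup.centralizer ({z} : Set G)) →* alternatingGroup (Fin 5) :=
    (eΩ.toMonoidHom.comp e.toMonoidHom).comp (QuotientGroup.mk' Q)
  have hφ : ∀ x, φ x = eΩ (e (QuotientGroup.mk' Q x)) := fun x => rfl
  have hker : ∀ x, φ x = 1 ↔ (x : G) ∈ Q.map (Subgroup.centralizer ({z} : Set G)).subtype := by
    intro x
    rw [hmem, hφ, MulEquiv.map_eq_one_iff, MulEquiv.map_eq_one_iff, QuotientGroup.mk'_apply,
      QuotientGroup.eq_one_iff]
  exact d3_of_hom (MulEquiv.refl _) S φ hker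

/-- transport along conjugation -/
theorem D3.conj {z : G} (h : D3 z) (g : G) : D3 (g * z * g⁻¹) := by
  intro x hxz hx3
  have hx' : (g⁻¹ * x * g) * z = z * (g⁻¹ * x * g) := by
    calc (g⁻¹ * x * g) * z = g⁻¹ * (x * (g * z * g⁻¹)) * g := by group
      _ = g⁻¹ * ((g * z * g⁻¹) * x) * g := by rw [hxz]
      _ = z * (g⁻¹ * x * g) := by group
  have hord : orderOf (g⁻¹ * x * g) = 3 := by
    have := (MulAut.conj g⁻¹).orderOf_eq x
    rw [MulAut.conj_apply, inv_inv] at this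
    rw [this, hx3]
  obtain ⟨r, s, hrx, hsx, hrr, hss, hsr, hsnot, hall⟩ := h _ hx' hord
  have hpow : ∀ (a : G) (i : ℕ), g * a ^ i * g⁻¹ = (g * a * g⁻¹) ^ i := by
    intro a i
    have h1 := map_pow (MulAut.conj g) a i
    rw [MulAut.conj_apply, MulAut.conj_apply] at h1
    exact h1
  refine ⟨g * r * g⁻¹, g * s * g⁻¹, ?_, ?_, ?_, ?_, ?_, ?_, ?_⟩
  · calc g * r * g⁻¹ * x = g * (r * (g⁻¹ * x * g)) * g⁻¹ := by group
      _ = g * ((g⁻¹ * x * g) * r) * g⁻¹ := by rw [hrx]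
      _ = x * (g * r * g⁻¹) := by group
  · calc g * s * g⁻¹ * x = g * (s * (g⁻¹ * x * g)) * g⁻¹ := by group
      _ = g * ((g⁻¹ * x * g) * s) * g⁻¹ := by rw [hsx]
      _ = x * (g * s * g⁻¹) := by group
  · calc g * r * g⁻¹ * (g * r * g⁻¹) = g * (r * r) * g⁻¹ := by group
      _ = g * z * g⁻¹ := by rw [hrr]
  · calc g * s * g⁻¹ * (g * s * g⁻¹) = g * (s * s) * g⁻¹ := by group
      _ = 1 := by rw [hss]; group
  · calc g * s * g⁻¹ * (g * r * g⁻¹) * (g * s * g⁻¹)⁻¹ = g * (s * r * s⁻¹) * g⁻¹ := by group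
      _ = (g * r * g⁻¹)⁻¹ := by rw [hsr]; group
  · intro j hj
    rw [← hpow] at hj
    apply hsnot j
    calc s = g⁻¹ * (g * s * g⁻¹) * g := by group
      _ = r ^ j := by rw [hj]; group
  · intro y hyz hyx
    have hy' : (g⁻¹ * y * g) * z = z * (g⁻¹ * y * g) := by
      calc (g⁻¹ * y * g) * z = g⁻¹ * (y * (g * z * g⁻¹)) * g := by group
        _ = g⁻¹ * ((g * z * g⁻¹) * y) * g := by rw [hyz]
        _ = z * (g⁻¹ * y * g) := by group
    have hyx' : (g⁻¹ * y * g) * (g⁻¹ * x * g) = (g⁻¹ * x * g) * (g⁻¹ * y * g) := by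
      calc (g⁻¹ * y * g) * (g⁻¹ * x * g) = g⁻¹ * (y * x) * g := by group
        _ = g⁻¹ * (x * y) * g := by rw [hyx]
        _ = (g⁻¹ * x * g) * (g⁻¹ * y * g) := by group
    obtain ⟨i, j, k, hijk⟩ := hall _ hy' hyx'
    refine ⟨i, j, k, ?_⟩
    have hxx : g * (g⁻¹ * x * g) * g⁻¹ = x := by group
    calc y = g * (g⁻¹ * y * g) * g⁻¹ := by group
      _ = g * ((g⁻¹ * x * g) ^ i * (r ^ j * s ^ k)) * g⁻¹ := by rw [hijk]
      _ = (g * (g⁻¹ * x * g) ^ i * g⁻¹) * ((g * r ^ j * g⁻¹) * (g * s ^ k * g⁻¹)) := by group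
      _ = x ^ i * ((g * r * g⁻¹) ^ j * (g * s * g⁻¹) ^ k) := by rw [hpow, hpow, hpow, hxx]

end Cfsg.Agent.Lib.Helper14.J2Tri
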