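import Mathlib
import Cfsg.Agent.Lib.Helper14.J2TriD

/-!
helper14: S1723, part E: generic lemmas: products of disjoint subgroups, conjugation to the inverse
by elements of odd order, and the class equation in a group of order 27 with an element whose
centralizer has order 9.
-/

set_option autoImplicit false
open scoped commutatorElement

namespace Cfsg.Agent.Lib.Helper14.J2Tri

open Cfsg.Agent.Lib.Helper14.EO2 Cfsg.Agent.Lib.Helper14.LES Cfsg.Agent.Lib.Helper20.ES
open Cfsg.Agent.Lib.Helper14.J2Ord Cfsg.Agent.Lib.Helper14.J2Rec Cfsg.Agent.Lib.Helper14.J2Syl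

variable {G : Type*} [Group G] [Finite G]

/-- a subgroup whose order is the product of the orders of two disjoint subgroups is their product -/
theorem exists_mul_of_card (M H K : Subgroup G) (hH : H ≤ M) (hK : K ≤ M)
    (hdisj : ∀ x, x ∈ H → x ∈ K → x = 1) (hcard : Nat.card ↥M = Nat.card ↥H * Nat.card ↥K) :
    ∀ x ∈ M, ∃ h ∈ H, ∃ k ∈ K, x = h * k := by
  have hinj : Function.Injective (fun p : ↥H × ↥K =>
      (⟨p.1.1 * p.2.1, M.mul_mem (hH p.1.2) (hK p.2.2)⟩ : ↥M)) := by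
    rintro ⟨h, k⟩ ⟨h', k'⟩ hp
    have hp' : (h : G) * (k : G) = (h' : G) * (k' : G) := congrArg Subtype.val hp
    have h1 : (h' : G)⁻¹ * (h : G) = (k' : G) * (k : G)⁻¹ := by
      calc (h' : G)⁻¹ * (h : G) = (h' : G)⁻¹ * ((h : G) * (k : G)) * (k : G)⁻¹ := by group
        _ = (k' : G) * (k : G)⁻¹ := by rw [hp']; group
    have h2 : (h' : G)⁻¹ * (h : G) = 1 :=
      hdisj _ (H.mul_mem (H.inv_mem h'.2) h.2) (h1 ▸ K.mul_mem k'.2 (K.inv_mem k.2))
    have h3 : (k' : G) * (k : G)⁻¹ = 1 := h1 ▸ h2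
    have e1 : h = h' := Subtype.ext (inv_mul_eq_one.mp h2).symm
    have e2 : k = k' := Subtype.ext (mul_inv_eq_one.mp h3).symm
    rw [e1, e2]
  have hbij := hinj.bijective_of_nat_card_le (by rw [Nat.card_prod, hcard])
  intro x hx
  obtain ⟨⟨h, k⟩, hp⟩ := hbij.2 ⟨x, hx⟩
  exact ⟨h.1, h.2, k.1, k.2, (congrArg Subtype.val hp).symm⟩

/-- an element of odd order does not conjugate an element to its inverse, unless the latter is an
involution -/
theorem eq_inv_of_conj_odd {g τ : G} (hg : Odd (orderOf g)) (h : g * τ * g⁻¹ = τ⁻¹) :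
    τ = τ⁻¹ := by
  obtain ⟨m, hm⟩ := hg
  have h1 : g ^ (2 * m + 1) = 1 := by rw [← hm]; exact pow_orderOf_eq_one g
  have h2 : (g ^ 2) ^ (m + 1) = g := by
    rw [← pow_mul, show 2 * (m + 1) = (2 * m + 1) + 1 by ring, pow_succ, h1, one_mul]
  have h3 : g ^ 2 * τ = τ * g ^ 2 := by
    have e : g ^ 2 * τ * (g ^ 2)⁻¹ = τ := by
      calc g ^ 2 * τ * (g ^ 2)⁻¹ = g * (g * τ * g⁻¹) * g⁻¹ := by rw [pow_two]; group
        _ = g * τ⁻¹ * g⁻¹ := by rw [h]
        _ = (g * τ * g⁻¹)⁻¹ := by group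
        _ = τ := by rw [h, inv_inv]
    calc g ^ 2 * τ = g ^ 2 * τ * (g ^ 2)⁻¹ * g ^ 2 := by group
      _ = τ * g ^ 2 := by rw [e]
  have h4 : Commute g τ := by
    have : Commute ((g ^ 2) ^ (m + 1)) τ := (show Commute (g ^ 2) τ from h3).pow_left (m + 1)
    rwa [h2] at this
  calc τ = g * τ * g⁻¹ := by rw [h4.eq]; group
    _ = τ⁻¹ := h

/-- the class equation in a group `P` of order 27 with an element `τ` of order 3 such that
`|C_P(τ)| = 9`: the centre has order 3 and `C_P(τ)` is covered by the centre and the classes of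
`τ` and `τ⁻¹` -/
theorem class_cover (P : Subgroup G) (hP : Nat.card ↥P = 27) (τ : G) (hτP : τ ∈ P)
    (hτ3 : orderOf τ = 3)
    (hD : Nat.card ↥(P ⊓ Subgroup.centralizer ({τ} : Set G)) = 9) :
    Nat.card ↥(P ⊓ Subgroup.centralizer (P : Set G)) = 3 ∧
    ∀ x ∈ P, x * τ = τ * x → (∀ y ∈ P, x * y = y * x) ∨ (∃ g ∈ P, g * τ * g⁻¹ = x) ∨
      (∃ g ∈ P, g * τ⁻¹ * g⁻¹ = x) := by
  classical
  haveI : Fintype G := Fintype.ofFinite G
  haveI : Fact (Nat.Prime 3) := ⟨by norm_num⟩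
  have hp : IsPGroup 3 ↥P := IsPGroup.of_card (n := 3) (by rw [hP]; norm_num)
  have hτ1 : τ ≠ 1 := by
    intro h; rw [h, orderOf_one] at hτ3; omega
  have hτ3' : τ ^ 3 = 1 := by rw [← hτ3]; exact pow_orderOf_eq_one τ
  have hτinv : τ⁻¹ ≠ τ := by
    intro h
    apply hτ1
    have h2 : τ * τ = 1 := by
      calc τ * τ = τ⁻¹ * τ := by rw [h]
        _ = 1 := inv_mul_cancel τ
    calc τ = τ ^ 3 * (τ * τ)⁻¹ := by rw [pow_succ, pow_two]; group
      _ = 1 := by rw [hτ3', h2]; group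
  set D : Subgroup G := P ⊓ Subgroup.centralizer ({τ} : Set G) with hDdef
  set Z : Subgroup G := P ⊓ Subgroup.centralizer (P : Set G) with hZdef
  have memD : ∀ x, x ∈ D ↔ x ∈ P ∧ x * τ = τ * x := by
    intro x
    rw [hDdef, Subgroup.mem_inf, mem_cent_iff]
  have memZ : ∀ x, x ∈ Z ↔ x ∈ P ∧ ∀ y ∈ P, x * y = y * x := by
    intro x
    rw [hZdef, Subgroup.mem_inf, Subgroup.mem_centralizer_iff]
    constructor
    · rintro ⟨h1, h2⟩
      exact ⟨h1, fun y hy => (h2 y hy).symm⟩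
    · rintro ⟨h1, h2⟩
      exact ⟨h1, fun y hy => (h2 y hy).symm⟩
  have hZD : Z ≤ D := by
    intro x hx
    rw [memZ] at hx
    rw [memD]
    exact ⟨hx.1, hx.2 τ hτP⟩
  have hDP : D ≤ P := inf_le_left
  -- the centre is non-trivial
  haveI : Nontrivial ↥P := by
    rw [← Finite.one_lt_card_iff_nontrivial, hP]; norm_num
  have hZne : ∃ c ∈ Z, c ≠ 1 := by
    haveI := hp.center_nontrivial
    obtain ⟨⟨c, hc⟩, hc1⟩ := exists_ne (1 : Subgroup.center ↥P)
    refine ⟨c.1, (memZ _).mpr ⟨c.2, ?_⟩, ?_⟩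
    · intro y hy
      have := Subgroup.mem_center_iff.mp hc ⟨y, hy⟩
      exact (congrArg Subtype.val this).symm
    · intro h
      apply hc1
      apply Subtype.ext
      apply Subtype.ext
      exact h
  have hZdvd : Nat.card ↥Z ∣ 3 ^ 2 := by
    have := Subgroup.card_dvd_of_le hZD
    rwa [hD] at this
  have hτZ : τ ∉ Z := by
    intro h
    have hle : P ≤ D := by
      intro y hy
      rw [memD]
      exact ⟨hy, (((memZ τ).mp h).2 y hy).symm⟩
    have := Subgroup.card_le_of_le hle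
    rw [hP, hD] at this
    omega
  have hZ3 : Nat.card ↥Z = 3 := by
    obtain ⟨j, hj, hj2⟩ := (Nat.dvd_prime_pow (by norm_num : Nat.Prime 3)).mp hZdvd
    interval_cases j
    · exfalso
      rw [pow_zero] at hj2
      obtain ⟨c, hc, hc1⟩ := hZne
      have hbot : Z = ⊥ := Subgroup.card_eq_one.mp hj2
      rw [hbot, Subgroup.mem_bot] at hc
      exact hc1 hc
    · rw [hj2]; norm_num
    · exfalso
      have heq : Z = D := Subgroup.eq_of_le_of_card_ge hZD (by rw [hj2, hD]; norm_num)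
      apply hτZ
      rw [heq, memD]
      exact ⟨hτP, rfl⟩
  refine ⟨hZ3, ?_⟩
  -- `D` is normal in `P`
  have hidx : (D.subgroupOf P).index = (Nat.card ↥P).minFac := by
    have h1 := (D.subgroupOf P).card_mul_index
    rw [Nat.card_congr (Subgroup.subgroupOfEquivOfLe hDP).toEquiv, hD, hP] at h1
    have h2 : (D.subgroupOf P).index = 3 := by omega
    rw [h2, hP]
    have : (27 : ℕ) = 3 ^ 3 := by norm_num
    rw [this, Nat.Prime.pow_minFac (by norm_num) (by norm_num)]
  haveI hDn : (D.subgroupOf P).Normal := Subgroup.normal_of_index_eq_minFac_card hidx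
  have hnorm : ∀ g ∈ P, ∀ x ∈ D, g * x * g⁻¹ ∈ D := by
    intro g hg x hx
    have h1 : (⟨x, hDP hx⟩ : ↥P) ∈ D.subgroupOf P := Subgroup.mem_subgroupOf.mpr hx
    have h2 := hDn.conj_mem _ h1 ⟨g, hg⟩
    exact Subgroup.mem_subgroupOf.mp h2
  have hτD : τ ∈ D := (memD τ).mpr ⟨hτP, rfl⟩
  have hτiD : τ⁻¹ ∈ D := D.inv_mem hτD
  -- the classes
  have hcent_inv : Subgroup.centralizer ({τ⁻¹} : Set G) = Subgroup.centralizer ({τ} : Set G) := by
    ext x
    rw [mem_cent_iff, mem_cent_iff]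
    constructor
    · intro h
      have : Commute x τ⁻¹ := h
      have := this.inv_right
      rwa [inv_inv] at this
    · intro h
      exact (show Commute x τ from h).inv_right
  have hK1 : Nat.card {v : G // ∃ k ∈ P, k * τ * k⁻¹ = v} = 3 := by
    have h := card_of_class P τ hτP
    rw [hP, hD] at h
    omega
  have hK2 : Nat.card {v : G // ∃ k ∈ P, k * τ⁻¹ * k⁻¹ = v} = 3 := by
    have h := card_of_class P τ⁻¹ (P.inv_mem hτP)
    rw [hcent_inv, hP, hD] at h
    omega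
  rw [Nat.card_eq_fintype_card, Fintype.card_subtype] at hK1 hK2
  have hZc : (Finset.univ.filter (fun v : G => v ∈ Z)).card = 3 := by
    rw [← card_subgroup_eq_filter]; exact hZ3
  have hDc : (Finset.univ.filter (fun v : G => v ∈ D)).card = 9 := by
    rw [← card_subgroup_eq_filter]; exact hD
  set SZ := Finset.univ.filter (fun v : G => v ∈ Z) with hSZ
  set S1 := Finset.univ.filter (fun v : G => ∃ k ∈ P, k * τ * k⁻¹ = v) with hS1
  set S2 := Finset.univ.filter (fun v : G => ∃ k ∈ P, k * τ⁻¹ * k⁻¹ = v) with hS2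
  set SD := Finset.univ.filter (fun v : G => v ∈ D) with hSD
  have hodd : ∀ g ∈ P, Odd (orderOf g) := by
    intro g hg
    have h1 : orderOf g ∣ 27 := by
      have := orderOf_dvd_natCard (⟨g, hg⟩ : ↥P)
      rwa [Subgroup.orderOf_mk, hP] at this
    have h2 : Odd 27 := by decide
    exact Odd.of_dvd_nat h2 h1
  have hd1 : Disjoint SZ S1 := by
    rw [Finset.disjoint_left]
    intro v hv hv1
    simp only [hSZ, hS1, Finset.mem_filter, Finset.mem_univ, true_and] at hv hv1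
    obtain ⟨k, hk, rfl⟩ := hv1
    apply hτZ
    rw [memZ] at hv ⊢
    refine ⟨hτP, fun y hy => ?_⟩
    have h := hv.2 (k * y * k⁻¹) (P.mul_mem (P.mul_mem hk hy) (P.inv_mem hk))
    calc τ * y = k⁻¹ * ((k * τ * k⁻¹) * (k * y * k⁻¹)) * k := by group
      _ = k⁻¹ * ((k * y * k⁻¹) * (k * τ * k⁻¹)) * k := by rw [h]
      _ = y * τ := by group
  have hd2 : Disjoint SZ S2 := by
    rw [Finset.disjoint_left]
    intro v hv hv1
    simp only [hSZ, hS2, Finset.mem_filter, Finset.mem_univ, true_and] at hv hv1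
    obtain ⟨k, hk, rfl⟩ := hv1
    apply hτZ
    rw [memZ] at hv ⊢
    refine ⟨hτP, fun y hy => ?_⟩
    have h := hv.2 (k * y * k⁻¹) (P.mul_mem (P.mul_mem hk hy) (P.inv_mem hk))
    have h' : τ⁻¹ * y = y * τ⁻¹ := by
      calc τ⁻¹ * y = k⁻¹ * ((k * τ⁻¹ * k⁻¹) * (k * y * k⁻¹)) * k := by group
        _ = k⁻¹ * ((k * y * k⁻¹) * (k * τ⁻¹ * k⁻¹)) * k := by rw [h]
        _ = y * τ⁻¹ := by group
    have : Commute τ⁻¹ y := h'
    have := this.inv_left
    rwa [inv_inv] at this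
  have hd3 : Disjoint S1 S2 := by
    rw [Finset.disjoint_left]
    intro v hv hv1
    simp only [hS1, hS2, Finset.mem_filter, Finset.mem_univ, true_and] at hv hv1
    obtain ⟨k, hk, rfl⟩ := hv
    obtain ⟨k', hk', hkk⟩ := hv1
    have h1 : (k⁻¹ * k') * τ⁻¹ * (k⁻¹ * k')⁻¹ = τ := by
      calc (k⁻¹ * k') * τ⁻¹ * (k⁻¹ * k')⁻¹ = k⁻¹ * (k' * τ⁻¹ * k'⁻¹) * k := by group
        _ = k⁻¹ * (k * τ * k⁻¹) * k := by rw [hkk]
        _ = τ := by group
    have h1' : (k⁻¹ * k') * τ⁻¹ * (k⁻¹ * k')⁻¹ = (τ⁻¹)⁻¹ := by rw [h1, inv_inv]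
    have h2 := eq_inv_of_conj_odd (hodd _ (P.mul_mem (P.inv_mem hk) hk')) h1'
    rw [inv_inv] at h2
    exact hτinv h2
  have hsub : SZ ∪ S1 ∪ S2 ⊆ SD := by
    intro v hv
    simp only [Finset.mem_union] at hv
    simp only [hSD, Finset.mem_filter, Finset.mem_univ, true_and]
    rcases hv with (hv | hv) | hv
    · simp only [hSZ, Finset.mem_filter, Finset.mem_univ, true_and] at hv
      exact hZD hv
    · simp only [hS1, Finset.mem_filter, Finset.mem_univ, true_and] at hv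
      obtain ⟨k, hk, rfl⟩ := hv
      exact hnorm k hk τ hτD
    · simp only [hS2, Finset.mem_filter, Finset.mem_univ, true_and] at hv
      obtain ⟨k, hk, rfl⟩ := hv
      exact hnorm k hk τ⁻¹ hτiD
  have hcard : (SZ ∪ S1 ∪ S2).card = 9 := by
    rw [Finset.card_union_of_disjoint, Finset.card_union_of_disjoint hd1, hZc, hK1, hK2]
    rw [Finset.disjoint_union_left]
    exact ⟨hd2, hd3⟩
  have heq : SZ ∪ S1 ∪ S2 = SD := Finset.eq_of_subset_of_card_le hsub (by rw [hcard, hDc])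
  intro x hxP hxτ
  have hx : x ∈ SD := by
    simp only [hSD, Finset.mem_filter, Finset.mem_univ, true_and]
    exact (memD x).mpr ⟨hxP, hxτ⟩
  rw [← heq] at hx
  simp only [Finset.mem_union] at hx
  rcases hx with (hx | hx) | hx
  · left
    simp only [hSZ, Finset.mem_filter, Finset.mem_univ, true_and] at hx
    exact ((memZ x).mp hx).2
  · right; left
    simpa only [hS1, Finset.mem_filter, Finset.mem_univ, true_and] using hx
  · right; right
    simpa only [hS2, Finset.mem_filter, Finset.mem_univ, true_and] using hx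

end Cfsg.Agent.Lib.Helper14.J2Tri
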