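import Mathlib
import Cfsg.Agent.Lib.Helper14.J2TriE

/-!
helper14: S1723, part F: the configuration `R3` (an element `ρ` of order 3 of `C_{N(V)}(B) ≅ A₄`
and an element `τ` of order 3 of `B ≅ A₅`), and the centralizer of `τ`: it has order 36 or 180.
-/

set_option autoImplicit false
open scoped commutatorElement

namespace Cfsg.Agent.Lib.Helper14.J2Tri

open Cfsg.Agent.Lib.Helper14.EO2 Cfsg.Agent.Lib.Helper14.LES Cfsg.Agent.Lib.Helper20.ES
open Cfsg.Agent.Lib.Helper14.J2Ord Cfsg.Agent.Lib.Helper14.J2Rec Cfsg.Agent.Lib.Helper14.J2Syl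

variable {G : Type*} [Group G] [Finite G]

/-- the configuration -/
structure R3 (z t : G) (V B : Subgroup G) (b f : G)
    (π : ↥(Subgroup.centralizer ({f} : Set G)) →* alternatingGroup (Fin 5)) (P : Sylow 5 G)
    (l ρ τ : G) : Prop where
  base : L5 z t V B b f π P l
  d3 : D3 z
  ρC : ρ ∈ TS.CN V B
  ρ3 : orderOf ρ = 3
  τB : τ ∈ B
  τ3 : orderOf τ = 3

namespace R3

variable {z t : G} {V B : Subgroup G} {b f : G}
  {π : ↥(Subgroup.centralizer ({f} : Set G)) →* alternatingGroup (Fin 5)} {P : Sylow 5 G}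
  {l ρ τ : G}

theorem f5 (S : R3 z t V B b f π P l ρ τ) : F5 z t V B b f := S.base.base.base

theorem ts (S : R3 z t V B b f π P l ρ τ) : TS z t V B := S.f5.ts

theorem card (S : R3 z t V B b f π P l ρ τ) : Nat.card G = 604800 := S.f5.card

theorem ρ3' (S : R3 z t V B b f π P l ρ τ) : ρ ^ 3 = 1 := by
  rw [← S.ρ3]; exact pow_orderOf_eq_one ρ

theorem ρ1 (S : R3 z t V B b f π P l ρ τ) : ρ ≠ 1 := by
  intro h
  have := S.ρ3
  rw [h, orderOf_one] at this
  omega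

theorem τ3' (S : R3 z t V B b f π P l ρ τ) : τ ^ 3 = 1 := by
  rw [← S.τ3]; exact pow_orderOf_eq_one τ

theorem τ1 (S : R3 z t V B b f π P l ρ τ) : τ ≠ 1 := by
  intro h
  have := S.τ3
  rw [h, orderOf_one] at this
  omega

theorem ρB (S : R3 z t V B b f π P l ρ τ) {β : G} (hβ : β ∈ B) : ρ * β = β * ρ :=
  S.ts.CN_comm ρ S.ρC β hβ

theorem ρτ (S : R3 z t V B b f π P l ρ τ) : ρ * τ = τ * ρ := S.ρB S.τB

theorem τt (S : R3 z t V B b f π P l ρ τ) : τ * t = t * τ := S.ts.ts.Bt τ S.τB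

/-- powers of `ρ` lie in `C_{N(V)}(B)` -/
theorem ρpow_mem (S : R3 z t V B b f π P l ρ τ) (i : ℕ) : ρ ^ i ∈ TS.CN V B :=
  Subgroup.pow_mem _ S.ρC i

theorem τpow_mem (S : R3 z t V B b f π P l ρ τ) (i : ℕ) : τ ^ i ∈ B :=
  Subgroup.pow_mem _ S.τB i

/-- `C_G(τ) ∩ C_G(t) = V × ⟨τ⟩` -/
theorem cent_τt (S : R3 z t V B b f π P l ρ τ) {x : G} (hxτ : x * τ = τ * x)
    (hxt : x * t = t * x) : ∃ v ∈ V, ∃ i : ℕ, x = v * τ ^ i := by
  obtain ⟨e⟩ := S.ts.ts.iso
  obtain ⟨v, hv, β, hβ, rfl⟩ := S.ts.ts.gen x hxt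
  have hvτ : v * τ = τ * v := S.ts.Vcent v hv τ S.τt
  have hβτ : β * τ = τ * β := by
    have h1 : v * (β * τ) = v * (τ * β) := by
      calc v * (β * τ) = (v * β) * τ := by group
        _ = τ * (v * β) := hxτ
        _ = (τ * v) * β := by group
        _ = (v * τ) * β := by rw [hvτ]
        _ = v * (τ * β) := by group
    exact mul_left_cancel h1
  have h3 : (⟨τ, S.τB⟩ : ↥B) ^ 3 = 1 := Subtype.ext S.τ3'
  have h1 : (⟨τ, S.τB⟩ : ↥B) ≠ 1 := fun h => S.τ1 (congrArg Subtype.val h)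
  have hi : ∃ i : ℕ, β = τ ^ i := by
    rcases cent_three e (⟨τ, S.τB⟩ : ↥B) ⟨β, hβ⟩ h3 h1 (Subtype.ext hβτ) with h | h | h
    · exact ⟨0, by rw [pow_zero]; exact congrArg Subtype.val h⟩
    · exact ⟨1, by rw [pow_one]; exact congrArg Subtype.val h⟩
    · exact ⟨2, congrArg Subtype.val h⟩
  obtain ⟨i, hi⟩ := hi
  exact ⟨v, hv, i, by rw [hi]⟩

/-- `C_G(τ) ∩ C_G(v) = V × ⟨τ⟩` for `1 ≠ v ∈ V` -/
theorem cent_τv (S : R3 z t V B b f π P l ρ τ) {v : G} (hv : v ∈ V) (hv1 : v ≠ 1) {x : G}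
    (hxτ : x * τ = τ * x) (hxv : x * v = v * x) : ∃ u ∈ V, ∃ i : ℕ, x = u * τ ^ i :=
  S.cent_τt hxτ (S.ts.cent_eq hv hv1 hxv)

theorem V_le_cent (S : R3 z t V B b f π P l ρ τ) :
    V ≤ Subgroup.centralizer ({τ} : Set G) := by
  intro v hv
  rw [mem_cent_iff]
  exact S.ts.Vcent v hv τ S.τt

theorem CN_le_cent (S : R3 z t V B b f π P l ρ τ) :
    TS.CN V B ≤ Subgroup.centralizer ({τ} : Set G) := by
  intro c hc
  rw [mem_cent_iff]
  exact S.ts.CN_comm c hc τ S.τB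

/-- `|C_G(τ)| ∈ {36, 180}` -/
theorem card_cent_τ (S : R3 z t V B b f π P l ρ τ) :
    Nat.card ↥(Subgroup.centralizer ({τ} : Set G)) = 36 ∨
      Nat.card ↥(Subgroup.centralizer ({τ} : Set G)) = 180 := by
  classical
  haveI : Fact (Nat.Prime 3) := ⟨by norm_num⟩
  have hNc : ∀ n ∈ Subgroup.zpowers
      (⟨τ, F5.f_mem_cent τ⟩ : ↥(Subgroup.centralizer ({τ} : Set G))),
      ∀ w : ↥(Subgroup.centralizer ({τ} : Set G)), w * n = n * w := by
    intro n hn w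
    obtain ⟨i, hi⟩ := (F5.mem_zpowers_cent_iff τ n).mp hn
    apply Subtype.ext
    show (w : G) * (n : G) = (n : G) * (w : G)
    rw [hi]
    have h : Commute (w : G) τ := (mem_cent_iff τ w.1).mp w.2
    exact (h.pow_right i).eq
  haveI hNn : (Subgroup.zpowers
      (⟨τ, F5.f_mem_cent τ⟩ : ↥(Subgroup.centralizer ({τ} : Set G)))).Normal := by
    constructor
    intro n hn g
    have : g * n * g⁻¹ = n := by rw [hNc n hn g]; group
    rw [this]
    exact hn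
  have hN3 : Nat.card ↥(Subgroup.zpowers
      (⟨τ, F5.f_mem_cent τ⟩ : ↥(Subgroup.centralizer ({τ} : Set G)))) = 3 := by
    rw [Nat.card_zpowers, Subgroup.orderOf_mk, S.τ3]
  have hVle := S.V_le_cent
  have hV4 : Nat.card ↥(V.subgroupOf (Subgroup.centralizer ({τ} : Set G))) = 4 := by
    rw [Nat.card_congr (Subgroup.subgroupOfEquivOfLe hVle).toEquiv, S.ts.cardV]
  have hkl := central_klein (Subgroup.zpowers
      (⟨τ, F5.f_mem_cent τ⟩ : ↥(Subgroup.centralizer ({τ} : Set G)))) hNc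
    (by rw [hN3]; decide) (V.subgroupOf (Subgroup.centralizer ({τ} : Set G))) hV4
    (by
      intro v hv
      rw [Subgroup.mem_subgroupOf] at hv
      exact Subtype.ext (S.ts.ts.V2 v.1 hv))
    (by
      intro v hv hv1 x hxv
      rw [Subgroup.mem_subgroupOf] at hv
      have hv1' : (v : G) ≠ 1 := fun h => hv1 (Subtype.ext h)
      have hxτ : (x : G) * τ = τ * (x : G) := (mem_cent_iff τ x.1).mp x.2
      have hxv' : (x : G) * (v : G) = (v : G) * (x : G) := congrArg Subtype.val hxv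
      obtain ⟨u, hu, i, hi⟩ := S.cent_τv hv hv1' hxτ hxv'
      refine ⟨⟨u, hVle hu⟩, Subgroup.mem_subgroupOf.mpr hu,
        (⟨τ, F5.f_mem_cent τ⟩ : ↥(Subgroup.centralizer ({τ} : Set G))) ^ i,
        Subgroup.pow_mem _ (Subgroup.mem_zpowers _) i, ?_⟩
      exact Subtype.ext hi)
  have hquot := Subgroup.card_eq_card_quotient_mul_card_subgroup (Subgroup.zpowers
      (⟨τ, F5.f_mem_cent τ⟩ : ↥(Subgroup.centralizer ({τ} : Set G))))
  rw [hN3] at hquot
  -- the image of `C_{N(V)}(B)` in the quotient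
  let φ : ↥(TS.CN V B) →* ↥(Subgroup.centralizer ({τ} : Set G)) ⧸ Subgroup.zpowers
      (⟨τ, F5.f_mem_cent τ⟩ : ↥(Subgroup.centralizer ({τ} : Set G))) :=
    (QuotientGroup.mk' _).comp (Subgroup.inclusion S.CN_le_cent)
  have hφinj : Function.Injective φ := by
    rw [injective_iff_map_eq_one]
    intro c hc
    have hc' : (Subgroup.inclusion S.CN_le_cent c) ∈ Subgroup.zpowers
        (⟨τ, F5.f_mem_cent τ⟩ : ↥(Subgroup.centralizer ({τ} : Set G))) :=
      (QuotientGroup.eq_one_iff _).mp hc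
    obtain ⟨i, hi⟩ := (F5.mem_zpowers_cent_iff τ _).mp hc'
    have hi' : (c : G) = τ ^ i := hi
    apply Subtype.ext
    exact S.ts.CN_disj c.1 c.2 (hi' ▸ S.τpow_mem i)
  have h12 : 12 ∣ Nat.card (↥(Subgroup.centralizer ({τ} : Set G)) ⧸ Subgroup.zpowers
      (⟨τ, F5.f_mem_cent τ⟩ : ↥(Subgroup.centralizer ({τ} : Set G)))) := by
    rw [← S.ts.card_CN]
    exact Subgroup.card_dvd_of_injective φ hφinj
  rcases hkl with ⟨⟨ε⟩⟩ | hle
  · right
    rw [hquot, card_of_iso_A5 ε]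
  · left
    have hpos : 0 < Nat.card (↥(Subgroup.centralizer ({τ} : Set G)) ⧸ Subgroup.zpowers
      (⟨τ, F5.f_mem_cent τ⟩ : ↥(Subgroup.centralizer ({τ} : Set G)))) := Nat.card_pos
    obtain ⟨k, hk⟩ := h12
    rw [hquot]
    have : k = 1 := by
      rw [hk] at hle hpos
      omega
    rw [hk, this]

end R3

end Cfsg.Agent.Lib.Helper14.J2Tri
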