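import Mathlib
import Cfsg.Agent.Lib.Helper14.J2TriF

/-!
helper14: S1723, part G: `|C_G(τ)| = 36`: if `C_G(τ)` contained an element of order 5 then `τ` would
be conjugate to a power of `ρ`, so `C_G(ρ) = ⟨ρ⟩ × B`, which does not contain a square root of
the involution `b`.
-/

set_option autoImplicit false
open scoped commutatorElement

namespace Cfsg.Agent.Lib.Helper14.J2Tri

open Cfsg.Agent.Lib.Helper14.EO2 Cfsg.Agent.Lib.Helper14.LES Cfsg.Agent.Lib.Helper20.ES
open Cfsg.Agent.Lib.Helper14.J2Ord Cfsg.Agent.Lib.Helper14.J2Rec Cfsg.Agent.Lib.Helper14.J2Syl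

/-- two elements of prime order `p` in a group whose order is divisible by `p` exactly once
generate conjugate subgroups -/
theorem exists_conj_pow_of_sylow {K : Type*} [Group K] [Finite K] (p : ℕ) [Fact p.Prime]
    (hK : (Nat.card K).factorization p = 1) (x y : K) (hx : orderOf x = p) (hy : orderOf y = p) :
    ∃ c : K, ∃ i : ℕ, c * x * c⁻¹ = y ^ i := by
  have h1 : Nat.card ↥(Subgroup.zpowers x) = p ^ (Nat.card K).factorization p := by
    rw [hK, pow_one, Nat.card_zpowers, hx]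
  have h2 : Nat.card ↥(Subgroup.zpowers y) = p ^ (Nat.card K).factorization p := by
    rw [hK, pow_one, Nat.card_zpowers, hy]
  obtain ⟨c, hc⟩ := MulAction.exists_smul_eq K (Sylow.ofCard _ h1) (Sylow.ofCard _ h2)
  have hmem : c * x * c⁻¹ ∈ ((Sylow.ofCard _ h2 : Sylow p K) : Subgroup K) := by
    rw [← hc, Sylow.coe_subgroup_smul, Subgroup.mem_pointwise_smul_iff_inv_smul_mem,
      MulAut.smul_def, ← map_inv, MulAut.conj_apply, inv_inv, Sylow.coe_ofCard]
    have : c⁻¹ * (c * x * c⁻¹) * c = x := by group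
    rw [this]
    exact Subgroup.mem_zpowers x
  rw [Sylow.coe_ofCard] at hmem
  obtain ⟨i, hi⟩ := exists_pow_of_mem_zpowers hmem
  exact ⟨c, i, hi⟩

variable {G : Type*} [Group G] [Finite G]

/-- elements that are powers of each other have the same centralizer -/
theorem cent_eq_of_pow {x y : G} (h1 : ∃ i : ℕ, y = x ^ i) (h2 : ∃ j : ℕ, x = y ^ j) :
    Subgroup.centralizer ({x} : Set G) = Subgroup.centralizer ({y} : Set G) := by
  obtain ⟨i, hi⟩ := h1
  obtain ⟨j, hj⟩ := h2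
  ext w
  rw [mem_cent_iff, mem_cent_iff]
  constructor
  · intro h
    rw [hi]
    exact ((show Commute w x from h).pow_right i).eq
  · intro h
    rw [hj]
    exact ((show Commute w y from h).pow_right j).eq

/-- a non-trivial power of an element of order 3 has the same centralizer -/
theorem cent_pow_three {x : G} (h3 : x ^ 3 = 1) (i : ℕ) (hi : x ^ i ≠ 1) :
    Subgroup.centralizer ({x ^ i} : Set G) = Subgroup.centralizer ({x} : Set G) := by
  have hmod : x ^ i = x ^ (i % 3) := by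
    conv_lhs => rw [← Nat.div_add_mod i 3, pow_add, pow_mul, h3, one_pow, one_mul]
  have hlt : i % 3 < 3 := Nat.mod_lt _ (by norm_num)
  rw [hmod] at hi ⊢
  interval_cases (i % 3)
  · exact absurd (pow_zero x) hi
  · rw [pow_one]
  · symm
    apply cent_eq_of_pow ⟨2, rfl⟩ ⟨2, ?_⟩
    rw [← pow_mul]
    calc x = x ^ 3 * x := by rw [h3, one_mul]
      _ = x ^ (2 * 2) := by rw [← pow_succ]

namespace R3

variable {z t : G} {V B : Subgroup G} {b f : G}
  {π : ↥(Subgroup.centralizer ({f} : Set G)) →* alternatingGroup (Fin 5)} {P : Sylow 5 G}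
  {l ρ τ : G}

/-- `D3` at the involution `b` -/
theorem d3b (S : R3 z t V B b f π P l ρ τ) : D3 b := by
  obtain ⟨g, hg⟩ := isConj_iff.mp (S.ts.ts.Bz b S.f5.bB S.f5.bb S.f5.b1)
  rw [← hg]
  exact S.d3.conj g

theorem ρb (S : R3 z t V B b f π P l ρ τ) : ρ * b = b * ρ := S.ρB S.f5.bB

theorem zpowers_ρ_le (S : R3 z t V B b f π P l ρ τ) : Subgroup.zpowers ρ ≤ TS.CN V B := by
  rw [Subgroup.zpowers_le]; exact S.ρC

theorem B_le_cent_ρ (S : R3 z t V B b f π P l ρ τ) :
    B ≤ Subgroup.centralizer ({ρ} : Set G) := by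
  intro β hβ
  rw [mem_cent_iff]
  exact (S.ρB hβ).symm

/-- `C_G(ρ)` is not `⟨ρ⟩ × B` -/
theorem card_cent_ρ_ne (S : R3 z t V B b f π P l ρ τ) :
    Nat.card ↥(Subgroup.centralizer ({ρ} : Set G)) ≠ 180 := by
  intro h180
  obtain ⟨e⟩ := S.ts.ts.iso
  have hdec := exists_mul_of_card (Subgroup.centralizer ({ρ} : Set G)) (Subgroup.zpowers ρ) B
    (by
      rw [Subgroup.zpowers_le]
      exact (mem_cent_iff ρ ρ).mpr rfl)
    S.B_le_cent_ρ
    (fun x hx hxB => S.ts.CN_disj x (S.zpowers_ρ_le hx) hxB)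
    (by rw [h180, Nat.card_zpowers, S.ρ3, card_of_iso_A5 e])
  obtain ⟨r, s, hrρ, -, hrr, -, -, -, -⟩ := S.d3b ρ S.ρb S.ρ3
  obtain ⟨h, hh, β, hβ, hrhβ⟩ := hdec r ((mem_cent_iff ρ r).mpr hrρ)
  have hhC : h ∈ TS.CN V B := S.zpowers_ρ_le hh
  have hhβ : h * β = β * h := S.ts.CN_comm h hhC β hβ
  have h1 : (h * h) * (β * β) = b := by
    rw [← hrr, hrhβ]
    calc h * h * (β * β) = h * (h * β) * β := by group
      _ = h * (β * h) * β := by rw [hhβ]
      _ = h * β * (h * β) := by group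
  have h2 : h * h = b * (β * β)⁻¹ := by rw [← h1]; group
  have h3 : h * h = 1 := S.ts.CN_disj _ (Subgroup.mul_mem _ hhC hhC)
    (h2 ▸ B.mul_mem S.f5.bB (B.inv_mem (B.mul_mem hβ hβ)))
  rw [h3, one_mul] at h1
  have hβb : β * b = b * β := by rw [← h1]; group
  have h4 := sq_of_comm_invol e ⟨b, S.f5.bB⟩ (Subtype.ext S.f5.bb)
    (fun h => S.f5.b1 (congrArg Subtype.val h)) ⟨β, hβ⟩ (Subtype.ext hβb)
  have h4' : β * β = 1 := congrArg Subtype.val h4
  exact S.f5.b1 (h1 ▸ h4')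

/-- `|C_G(τ)| = 36` -/
theorem card_cent_τ' (S : R3 z t V B b f π P l ρ τ) :
    Nat.card ↥(Subgroup.centralizer ({τ} : Set G)) = 36 := by
  classical
  haveI : Fact (Nat.Prime 3) := ⟨by norm_num⟩
  haveI : Fact (Nat.Prime 5) := ⟨by norm_num⟩
  rcases S.card_cent_τ with h | h180
  · exact h
  exfalso
  have hF := S.f5
  have hL := S.base
  -- an element of order 5 of `C_G(τ)`
  obtain ⟨y, hy⟩ := exists_prime_orderOf_dvd_card' (G := ↥(Subgroup.centralizer ({τ} : Set G))) 5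
    (by rw [h180]; norm_num)
  have hyτ : (y : G) * τ = τ * (y : G) := (mem_cent_iff τ y.1).mp y.2
  have hy5 : orderOf (y : G) = 5 := by rw [Subgroup.orderOf_coe]; exact hy
  have hy1 : (y : G) ≠ 1 := by
    intro h; rw [h, orderOf_one] at hy5; omega
  have hyp : IsPGroup 5 ↥(Subgroup.zpowers (y : G)) :=
    IsPGroup.of_card (n := 1) (by rw [Nat.card_zpowers, hy5, pow_one])
  obtain ⟨P', hP'⟩ := hyp.exists_le_sylow
  obtain ⟨g, hg⟩ := MulAction.exists_smul_eq G P P'
  have hmem : ∀ x : G, x ∈ (P' : Subgroup G) ↔ g⁻¹ * x * g ∈ (P : Subgroup G) := by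
    intro x
    rw [← hg, Sylow.coe_subgroup_smul, Subgroup.mem_pointwise_smul_iff_inv_smul_mem,
      MulAut.smul_def, ← map_inv, MulAut.conj_apply, inv_inv]
  have hv : g⁻¹ * (y : G) * g ∈ (P : Subgroup G) := (hmem _).mp (hP' (Subgroup.mem_zpowers _))
  have hv1 : g⁻¹ * (y : G) * g ≠ 1 := by
    intro h
    apply hy1
    calc (y : G) = g * (g⁻¹ * (y : G) * g) * g⁻¹ := by group
      _ = 1 := by rw [h]; group
  obtain ⟨k, -, hk⟩ := hL.key.2 _ hv hv1
  -- `τ' = (g k)⁻¹ τ (g k)` centralizes `f`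
  have hcomm : ∀ x : G, k * x * k⁻¹ = g⁻¹ * (y : G) * g →
      ((g * k)⁻¹ * τ * (g * k)) * x = x * ((g * k)⁻¹ * τ * (g * k)) := by
    intro x hx
    have hxy : x = (g * k)⁻¹ * (y : G) * (g * k) := by
      calc x = k⁻¹ * (k * x * k⁻¹) * k := by group
        _ = k⁻¹ * (g⁻¹ * (y : G) * g) * k := by rw [hx]
        _ = (g * k)⁻¹ * (y : G) * (g * k) := by group
    rw [hxy]
    calc (g * k)⁻¹ * τ * (g * k) * ((g * k)⁻¹ * (y : G) * (g * k))
        = (g * k)⁻¹ * (τ * (y : G)) * (g * k) := by group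
      _ = (g * k)⁻¹ * ((y : G) * τ) * (g * k) := by rw [hyτ]
      _ = (g * k)⁻¹ * (y : G) * (g * k) * ((g * k)⁻¹ * τ * (g * k)) := by group
  have hord : orderOf ((g * k)⁻¹ * τ * (g * k)) = 3 := by
    have := (MulAut.conj (g * k)⁻¹).orderOf_eq τ
    rw [MulAut.conj_apply, inv_inv] at this
    rw [this, S.τ3]
  have hnotl : ¬ ((g * k)⁻¹ * τ * (g * k)) * l = l * ((g * k)⁻¹ * τ * (g * k)) := by
    intro hc
    have hmemC : (g * k)⁻¹ * τ * (g * k) ∈ Subgroup.centralizer ({l} : Set G) :=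
      (mem_cent_iff l _).mpr hc
    have := orderOf_dvd_natCard (⟨_, hmemC⟩ : ↥(Subgroup.centralizer ({l} : Set G)))
    rw [Subgroup.orderOf_mk, hord, hL.card_cent_l] at this
    omega
  have hτf : ((g * k)⁻¹ * τ * (g * k)) * f = f * ((g * k)⁻¹ * τ * (g * k)) := by
    rcases hk with h | h | h | h
    · exact hcomm _ h
    · have h1 := hcomm _ h
      have h2 : (g * k)⁻¹ * τ * (g * k) ∈ Subgroup.centralizer ({f ^ 2} : Set G) :=
        (mem_cent_iff _ _).mpr h1
      rw [cent_sq_eq hF.f5'] at h2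
      exact (mem_cent_iff _ _).mp h2
    · exact absurd (hcomm _ h) hnotl
    · exfalso
      apply hnotl
      have h1 := hcomm _ h
      have h2 : (g * k)⁻¹ * τ * (g * k) ∈ Subgroup.centralizer ({l ^ 2} : Set G) :=
        (mem_cent_iff _ _).mpr h1
      rw [cent_sq_eq hL.l5'] at h2
      exact (mem_cent_iff _ _).mp h2
  -- Sylow's theorem in `C_G(f)`
  have hτC : (g * k)⁻¹ * τ * (g * k) ∈ Subgroup.centralizer ({f} : Set G) :=
    (mem_cent_iff f _).mpr hτf
  have hρC : ρ ∈ Subgroup.centralizer ({f} : Set G) :=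
    (mem_cent_iff f ρ).mpr (S.ρB hF.fB)
  have hfac : (Nat.card ↥(Subgroup.centralizer ({f} : Set G))).factorization 3 = 1 := by
    rw [hL.base.card_cent_f]
    have h1 : (300 : ℕ) = 3 ^ 1 * 100 := by norm_num
    have h2 : (100 : ℕ).factorization 3 = 0 :=
      Nat.factorization_eq_zero_of_not_dvd (by norm_num)
    rw [h1, Nat.factorization_mul (by norm_num) (by norm_num),
      Nat.Prime.factorization_pow (by norm_num : Nat.Prime 3)]
    simp [h2]
  obtain ⟨c, i, hci⟩ := exists_conj_pow_of_sylow 3 hfac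
    (⟨ρ, hρC⟩ : ↥(Subgroup.centralizer ({f} : Set G))) ⟨_, hτC⟩
    (by rw [Subgroup.orderOf_mk]; exact S.ρ3) (by rw [Subgroup.orderOf_mk]; exact hord)
  have hci' : (c : G) * ρ * (c : G)⁻¹ = ((g * k)⁻¹ * τ * (g * k)) ^ i := by
    have := congrArg Subtype.val hci
    simpa using this
  have hpow : ((g * k)⁻¹ * τ * (g * k)) ^ i = (g * k)⁻¹ * τ ^ i * (g * k) := by
    have h1 := map_pow (MulAut.conj (g * k)⁻¹) τ i
    rw [MulAut.conj_apply, MulAut.conj_apply, inv_inv] at h1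
    exact h1.symm
  rw [hpow] at hci'
  -- `ρ` is conjugate to `τ ^ i`
  have hconj : ((g * k) * (c : G)) * ρ * ((g * k) * (c : G))⁻¹ = τ ^ i := by
    calc ((g * k) * (c : G)) * ρ * ((g * k) * (c : G))⁻¹
        = (g * k) * ((c : G) * ρ * (c : G)⁻¹) * (g * k)⁻¹ := by group
      _ = τ ^ i := by rw [hci']; group
  have hτi1 : τ ^ i ≠ 1 := by
    rw [← hconj]
    intro h
    exact S.ρ1 (conj_eq_one_iff.mp h)
  have hcard := card_centralizer_conj ((g * k) * (c : G)) ρ
  rw [hconj, cent_pow_three S.τ3' i hτi1, h180] at hcard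
  exact S.card_cent_ρ_ne hcard.symm

end R3

end Cfsg.Agent.Lib.Helper14.J2Tri
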