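import Mathlib
import Cfsg.Agent.Lib.Helper14.J2TriG

/-!
helper14: S1723, part H: a Sylow 3-subgroup `P₃` containing `ρ` and `τ`: it has order 27,
`C_{P₃}(τ) = ⟨ρ, τ⟩` has order 9, and `Z(P₃) = ⟨ρ⟩`.
-/

set_option autoImplicit false
open scoped commutatorElement

namespace Cfsg.Agent.Lib.Helper14.J2Tri

open Cfsg.Agent.Lib.Helper14.EO2 Cfsg.Agent.Lib.Helper14.LES Cfsg.Agent.Lib.Helper20.ES
open Cfsg.Agent.Lib.Helper14.J2Ord Cfsg.Agent.Lib.Helper14.J2Rec Cfsg.Agent.Lib.Helper14.J2Syl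

variable {G : Type*} [Group G] [Finite G]

/-- the configuration with a Sylow 3-subgroup -/
structure R3P (z t : G) (V B : Subgroup G) (b f : G)
    (π : ↥(Subgroup.centralizer ({f} : Set G)) →* alternatingGroup (Fin 5)) (P : Sylow 5 G)
    (l ρ τ : G) (P₃ : Sylow 3 G) : Prop where
  base : R3 z t V B b f π P l ρ τ
  ρP : ρ ∈ (P₃ : Subgroup G)
  τP : τ ∈ (P₃ : Subgroup G)

namespace R3

variable {z t : G} {V B : Subgroup G} {b f : G}
  {π : ↥(Subgroup.centralizer ({f} : Set G)) →* alternatingGroup (Fin 5)} {P : Sylow 5 G}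
  {l ρ τ : G}

theorem exists_R3P (S : R3 z t V B b f π P l ρ τ) :
    ∃ P₃ : Sylow 3 G, R3P z t V B b f π P l ρ τ P₃ := by
  haveI : Fact (Nat.Prime 3) := ⟨by norm_num⟩
  have h1 : IsPGroup 3 ↥(Subgroup.zpowers τ) :=
    IsPGroup.of_card (n := 1) (by rw [Nat.card_zpowers, S.τ3, pow_one])
  have h2 : IsPGroup 3 ↥(Subgroup.zpowers ρ) :=
    IsPGroup.of_card (n := 1) (by rw [Nat.card_zpowers, S.ρ3, pow_one])
  have hle : Subgroup.zpowers τ ≤ Subgroup.normalizer ((Subgroup.zpowers ρ : Subgroup G) : Set G) := by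
    rw [Subgroup.zpowers_le, Subgroup.mem_normalizer_iff]
    intro n
    have hc : ∀ m ∈ Subgroup.zpowers ρ, τ * m * τ⁻¹ = m := by
      intro m hm
      obtain ⟨i, rfl⟩ := exists_pow_of_mem_zpowers hm
      have : Commute τ (ρ ^ i) := (show Commute τ ρ from S.ρτ.symm).pow_right i
      rw [this.eq]; group
    constructor
    · intro hn
      rw [hc n hn]; exact hn
    · intro hn
      have h3 := hc _ hn
      have h4 : τ * n * τ⁻¹ = n := by
        have : τ * (τ * n * τ⁻¹) * τ⁻¹ = τ * n * τ⁻¹ := h3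
        have h5 : τ * n * τ⁻¹ = τ⁻¹ * (τ * (τ * n * τ⁻¹) * τ⁻¹) * τ := by group
        rw [this] at h5
        calc τ * n * τ⁻¹ = τ⁻¹ * (τ * n * τ⁻¹) * τ := h5
          _ = n := by group
      rw [← h4]; exact hn
  have h3 := h1.to_sup_of_normal_right' h2 hle
  obtain ⟨P₃, hP₃⟩ := h3.exists_le_sylow
  exact ⟨P₃, S, hP₃ (Subgroup.mem_sup_right (Subgroup.mem_zpowers ρ)),
    hP₃ (Subgroup.mem_sup_left (Subgroup.mem_zpowers τ))⟩

end R3

namespace R3P

variable {z t : G} {V B : Subgroup G} {b f : G}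
  {π : ↥(Subgroup.centralizer ({f} : Set G)) →* alternatingGroup (Fin 5)} {P : Sylow 5 G}
  {l ρ τ : G} {P₃ : Sylow 3 G}

/-- the Sylow 3-subgroups have order 27 -/
theorem card_P3 (S : R3P z t V B b f π P l ρ τ P₃) (P' : Sylow 3 G) :
    Nat.card ↥(P' : Subgroup G) = 27 := by
  haveI : Fact (Nat.Prime 3) := ⟨by norm_num⟩
  rw [P'.card_eq_multiplicity, S.base.card]
  have h1 : (604800 : ℕ) = 3 ^ 3 * 22400 := by norm_num
  have h2 : (22400 : ℕ).factorization 3 = 0 :=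
    Nat.factorization_eq_zero_of_not_dvd (by norm_num)
  rw [h1, Nat.factorization_mul (by norm_num) (by norm_num),
    Nat.Prime.factorization_pow (by norm_num : Nat.Prime 3)]
  simp [h2]

/-- `ρ` is not a power of `τ` -/
theorem ρ_ne_pow (S : R3P z t V B b f π P l ρ τ P₃) (i : ℕ) : ρ ≠ τ ^ i := by
  intro h
  exact S.base.ρ1 (S.base.ts.CN_disj ρ S.base.ρC (h ▸ S.base.τpow_mem i))

/-- `|C_{P₃}(τ)| = 9` -/
theorem card_D (S : R3P z t V B b f π P l ρ τ P₃) :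
    Nat.card ↥((P₃ : Subgroup G) ⊓ Subgroup.centralizer ({τ} : Set G)) = 9 := by
  have h1 : Nat.card ↥((P₃ : Subgroup G) ⊓ Subgroup.centralizer ({τ} : Set G)) ∣ 27 := by
    rw [← S.card_P3 P₃]; exact Subgroup.card_dvd_of_le inf_le_left
  have h2 : Nat.card ↥((P₃ : Subgroup G) ⊓ Subgroup.centralizer ({τ} : Set G)) ∣ 36 := by
    rw [← S.base.card_cent_τ']; exact Subgroup.card_dvd_of_le inf_le_right
  have h3 : Nat.card ↥((P₃ : Subgroup G) ⊓ Subgroup.centralizer ({τ} : Set G)) ∣ 9 :=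
    Nat.dvd_gcd h1 h2
  have hτD : τ ∈ (P₃ : Subgroup G) ⊓ Subgroup.centralizer ({τ} : Set G) :=
    Subgroup.mem_inf.mpr ⟨S.τP, (mem_cent_iff τ τ).mpr rfl⟩
  have hρD : ρ ∈ (P₃ : Subgroup G) ⊓ Subgroup.centralizer ({τ} : Set G) :=
    Subgroup.mem_inf.mpr ⟨S.ρP, (mem_cent_iff τ ρ).mpr S.base.ρτ⟩
  have hle : Subgroup.zpowers τ ≤ (P₃ : Subgroup G) ⊓ Subgroup.centralizer ({τ} : Set G) := by
    rw [Subgroup.zpowers_le]; exact hτD
  have h4 : 3 ∣ Nat.card ↥((P₃ : Subgroup G) ⊓ Subgroup.centralizer ({τ} : Set G)) := by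
    have := Subgroup.card_dvd_of_le hle
    rwa [Nat.card_zpowers, S.base.τ3] at this
  have h5 : Nat.card ↥((P₃ : Subgroup G) ⊓ Subgroup.centralizer ({τ} : Set G)) ≠ 3 := by
    intro h
    have heq : Subgroup.zpowers τ = (P₃ : Subgroup G) ⊓ Subgroup.centralizer ({τ} : Set G) :=
      Subgroup.eq_of_le_of_card_ge hle (by rw [h, Nat.card_zpowers, S.base.τ3])
    rw [← heq] at hρD
    obtain ⟨i, hi⟩ := exists_pow_of_mem_zpowers hρD
    exact S.ρ_ne_pow i hi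
  have hle9 := Nat.le_of_dvd (by norm_num) h3
  obtain ⟨k, hk⟩ := h4
  rw [hk] at h3 h5 hle9 ⊢
  have hk3 : k ≤ 3 := by omega
  interval_cases k
  · norm_num at h3
  · exact absurd rfl h5
  · norm_num at h3
  · rfl

/-- `B ≤ C_G(ρ)`, so `60 ∣ |C_G(ρ)|` -/
theorem sixty_dvd (S : R3P z t V B b f π P l ρ τ P₃) :
    60 ∣ Nat.card ↥(Subgroup.centralizer ({ρ} : Set G)) := by
  obtain ⟨e⟩ := S.base.ts.ts.iso
  rw [← card_of_iso_A5 e]
  exact Subgroup.card_dvd_of_le S.base.B_le_cent_ρ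

/-- `ρ` is not conjugate to `τ` or `τ⁻¹` -/
theorem not_conj (S : R3P z t V B b f π P l ρ τ P₃) (g : G) :
    g * τ * g⁻¹ ≠ ρ ∧ g * τ⁻¹ * g⁻¹ ≠ ρ := by
  have h60 := S.sixty_dvd
  constructor
  · intro h
    have h1 := card_centralizer_conj g τ
    rw [h, S.base.card_cent_τ'] at h1
    rw [h1] at h60
    norm_num at h60
  · intro h
    have h1 := card_centralizer_conj g τ⁻¹
    have hinv : τ⁻¹ = τ ^ 2 := by
      apply inv_eq_of_mul_eq_one_right
      rw [← pow_succ']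
      exact S.base.τ3'
    have h2 : Subgroup.centralizer ({τ⁻¹} : Set G) = Subgroup.centralizer ({τ} : Set G) := by
      apply cent_eq_of_pow
      · exact ⟨2, by rw [inv_pow, ← hinv, inv_inv]⟩
      · exact ⟨2, hinv⟩
    rw [h, h2, S.base.card_cent_τ'] at h1
    rw [h1] at h60
    norm_num at h60

/-- `ρ` is central in `P₃` -/
theorem ρ_central (S : R3P z t V B b f π P l ρ τ P₃) :
    ∀ y ∈ (P₃ : Subgroup G), ρ * y = y * ρ := by
  have h := (class_cover (P₃ : Subgroup G) (S.card_P3 P₃) τ S.τP S.base.τ3 S.card_D).2 ρ S.ρP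
    S.base.ρτ
  rcases h with h | ⟨g, -, hg⟩ | ⟨g, -, hg⟩
  · exact h
  · exact absurd hg (S.not_conj g).1
  · exact absurd hg (S.not_conj g).2

/-- `Z(P₃) = ⟨ρ⟩` -/
theorem Z_eq (S : R3P z t V B b f π P l ρ τ P₃) :
    (P₃ : Subgroup G) ⊓ Subgroup.centralizer ((P₃ : Subgroup G) : Set G) = Subgroup.zpowers ρ := by
  have h3 := (class_cover (P₃ : Subgroup G) (S.card_P3 P₃) τ S.τP S.base.τ3 S.card_D).1
  symm
  apply Subgroup.eq_of_le_of_card_ge
  · rw [Subgroup.zpowers_le, Subgroup.mem_inf, Subgroup.mem_centralizer_iff]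
    exact ⟨S.ρP, fun y hy => (S.ρ_central y hy).symm⟩
  · rw [h3, Nat.card_zpowers, S.base.ρ3]

/-- an element of `P₃` that is central in `P₃` is a power of `ρ` -/
theorem eq_pow_of_central (S : R3P z t V B b f π P l ρ τ P₃) {x : G}
    (hx : x ∈ (P₃ : Subgroup G)) (hc : ∀ y ∈ (P₃ : Subgroup G), x * y = y * x) :
    ∃ i : ℕ, x = ρ ^ i := by
  have : x ∈ (P₃ : Subgroup G) ⊓ Subgroup.centralizer ((P₃ : Subgroup G) : Set G) := by
    rw [Subgroup.mem_inf, Subgroup.mem_centralizer_iff]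
    exact ⟨hx, fun y hy => (hc y hy).symm⟩
  rw [S.Z_eq] at this
  exact exists_pow_of_mem_zpowers this

theorem P_le_cent_ρ (S : R3P z t V B b f π P l ρ τ P₃) :
    (P₃ : Subgroup G) ≤ Subgroup.centralizer ({ρ} : Set G) := by
  intro y hy
  rw [mem_cent_iff]
  exact (S.ρ_central y hy).symm

/-- `τ` is not central in `P₃` -/
theorem τ_not_central (S : R3P z t V B b f π P l ρ τ P₃) :
    ∃ y ∈ (P₃ : Subgroup G), τ * y ≠ y * τ := by
  by_contra hcon
  push_neg at hcon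
  obtain ⟨i, hi⟩ := S.eq_pow_of_central S.τP hcon
  have h1 : τ ∈ TS.CN V B := hi ▸ S.base.ρpow_mem i
  exact S.base.τ1 (S.base.ts.CN_disj τ h1 S.base.τB)

end R3P

end Cfsg.Agent.Lib.Helper14.J2Tri
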