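import Mathlib
import Cfsg.Agent.Lib.Helper14.J2TriH

/-!
helper14: S1723, part I: the quotient `C_G(ρ) / ⟨ρ⟩` is a perfect group of order 360, so
`|C_G(ρ)| = 1080`.
-/

set_option autoImplicit false
open scoped commutatorElement

namespace Cfsg.Agent.Lib.Helper14.J2Tri

open Cfsg.Agent.Lib.Helper14.EO2 Cfsg.Agent.Lib.Helper14.LES Cfsg.Agent.Lib.Helper20.ES
open Cfsg.Agent.Lib.Helper14.J2Ord Cfsg.Agent.Lib.Helper14.J2Rec Cfsg.Agent.Lib.Helper14.J2Syl

variable {G : Type*} [Group G] [Finite G]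

theorem eq_one_of_pow_three_of_sq {n : G} (h3 : n ^ 3 = 1) (h2 : n * n = 1) : n = 1 := by
  calc n = n ^ 3 * (n * n)⁻¹ := by rw [pow_succ, pow_two]; group
    _ = 1 := by rw [h3, h2]; group

/-- the subgroup `⟨ρ⟩` of `C_G(ρ)` -/
def Nρ (ρ : G) : Subgroup ↥(Subgroup.centralizer ({ρ} : Set G)) :=
  Subgroup.zpowers (⟨ρ, F5.f_mem_cent ρ⟩ : ↥(Subgroup.centralizer ({ρ} : Set G)))

theorem mem_Nρ (ρ : G) (y : ↥(Subgroup.centralizer ({ρ} : Set G))) :
    y ∈ Nρ ρ ↔ ∃ i : ℕ, (y : G) = ρ ^ i := F5.mem_zpowers_cent_iff ρ y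

theorem Nρ_central (ρ : G) : ∀ n ∈ Nρ ρ, ∀ w : ↥(Subgroup.centralizer ({ρ} : Set G)),
    w * n = n * w := by
  intro n hn w
  obtain ⟨i, hi⟩ := (mem_Nρ ρ n).mp hn
  apply Subtype.ext
  show (w : G) * (n : G) = (n : G) * (w : G)
  rw [hi]
  have h : Commute (w : G) ρ := (mem_cent_iff ρ w.1).mp w.2
  exact (h.pow_right i).eq

instance Nρ_normal (ρ : G) : (Nρ ρ).Normal := by
  constructor
  intro n hn g
  have : g * n * g⁻¹ = n := by rw [Nρ_central ρ n hn g]; group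
  rw [this]
  exact hn

theorem card_Nρ (ρ : G) : Nat.card ↥(Nρ ρ) = orderOf ρ := by
  unfold Nρ
  rw [Nat.card_zpowers, Subgroup.orderOf_mk]

/-- the order of `C_G(ρ)` in terms of the quotient -/
theorem card_cent_eq (ρ : G) : Nat.card ↥(Subgroup.centralizer ({ρ} : Set G)) =
    Nat.card (↥(Subgroup.centralizer ({ρ} : Set G)) ⧸ Nρ ρ) * orderOf ρ := by
  rw [← card_Nρ ρ]
  exact Subgroup.card_eq_card_quotient_mul_card_subgroup (Nρ ρ)

namespace R3P

variable {z t : G} {V B : Subgroup G} {b f : G}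
  {π : ↥(Subgroup.centralizer ({f} : Set G)) →* alternatingGroup (Fin 5)} {P : Sylow 5 G}
  {l ρ τ : G} {P₃ : Sylow 3 G}

/-- a power of `ρ` that lies in `B` is trivial -/
theorem pow_ρ_eq_one (S : R3P z t V B b f π P l ρ τ P₃) {i : ℕ} (h : ρ ^ i ∈ B) : ρ ^ i = 1 :=
  S.base.ts.CN_disj _ (S.base.ρpow_mem i) h

/-- the quotient `C_G(ρ) / ⟨ρ⟩` is perfect of order 360 -/
theorem card_quot (S : R3P z t V B b f π P l ρ τ P₃) :
    Nat.card (↥(Subgroup.centralizer ({ρ} : Set G)) ⧸ Nρ ρ) = 360 ∧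
      commutator (↥(Subgroup.centralizer ({ρ} : Set G)) ⧸ Nρ ρ) = ⊤ := by
  classical
  obtain ⟨e⟩ := S.base.ts.ts.iso
  have hF := S.base.f5
  -- the image of `B`
  let ψ : ↥B →* ↥(Subgroup.centralizer ({ρ} : Set G)) ⧸ Nρ ρ :=
    (QuotientGroup.mk' (Nρ ρ)).comp (Subgroup.inclusion S.base.B_le_cent_ρ)
  have hψ : ∀ β : ↥B, ψ β = QuotientGroup.mk' (Nρ ρ) ⟨β.1, S.base.B_le_cent_ρ β.2⟩ := fun β => rfl
  have hψinj : Function.Injective ψ := by
    rw [injective_iff_map_eq_one]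
    intro β hβ
    rw [hψ] at hβ
    have hβ' := (QuotientGroup.eq_one_iff _).mp hβ
    obtain ⟨i, hi⟩ := (mem_Nρ ρ _).mp hβ'
    have hi' : (β : G) = ρ ^ i := hi
    apply Subtype.ext
    rw [hi']
    exact S.pow_ρ_eq_one (hi' ▸ β.2)
  let e₀ : ↥ψ.range ≃* alternatingGroup (Fin 5) := (MonoidHom.ofInjective hψinj).symm.trans e
  -- the dihedral group
  obtain ⟨r, s, hrρ, hsρ, hrr, hss, hsr, hsnot, hall⟩ := S.base.d3b ρ S.base.ρb S.base.ρ3
  have hrC : r ∈ Subgroup.centralizer ({ρ} : Set G) := (mem_cent_iff ρ r).mpr hrρ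
  have hsC : s ∈ Subgroup.centralizer ({ρ} : Set G) := (mem_cent_iff ρ s).mpr hsρ
  have hbC : b ∈ Subgroup.centralizer ({ρ} : Set G) := S.base.B_le_cent_ρ hF.bB
  have hbmem : QuotientGroup.mk' (Nρ ρ) ⟨b, hbC⟩ ∈ ψ.range := ⟨⟨b, hF.bB⟩, rfl⟩
  have hsinv : s⁻¹ = s := inv_eq_of_mul_eq_one_right hss
  have hρi3 : ∀ i : ℕ, (ρ ^ i) ^ 3 = 1 := by
    intro i
    rw [← pow_mul, mul_comm, pow_mul, S.base.ρ3', one_pow]
  have hρib : ∀ i : ℕ, ρ ^ i * b = b * ρ ^ i := by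
    intro i
    exact ((show Commute ρ b from S.base.ρb).pow_left i).eq
  have hD : D8Data (QuotientGroup.mk' (Nρ ρ) ⟨b, hbC⟩) (QuotientGroup.mk' (Nρ ρ) ⟨r, hrC⟩)
      (QuotientGroup.mk' (Nρ ρ) ⟨s, hsC⟩) := by
    refine ⟨?_, ?_, ?_, ?_, ?_, ?_, ?_⟩
    · rw [← map_mul]
      congr 1
      exact Subtype.ext hrr
    · intro h
      have h' := (QuotientGroup.eq_one_iff _).mp h
      obtain ⟨i, hi⟩ := (mem_Nρ ρ _).mp h'
      have hi' : b = ρ ^ i := hi
      apply hF.b1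
      rw [hi']
      exact S.pow_ρ_eq_one (hi' ▸ hF.bB)
    · rw [← map_mul]
      have : (⟨b, hbC⟩ : ↥(Subgroup.centralizer ({ρ} : Set G))) * ⟨b, hbC⟩ = 1 :=
        Subtype.ext hF.bb
      rw [this, map_one]
    · rw [← map_mul]
      have : (⟨s, hsC⟩ : ↥(Subgroup.centralizer ({ρ} : Set G))) * ⟨s, hsC⟩ = 1 :=
        Subtype.ext hss
      rw [this, map_one]
    · rw [← map_inv, ← map_mul, ← map_mul, ← map_inv]
      congr 1
      exact Subtype.ext hsr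
    · intro j hj
      rw [← map_pow, QuotientGroup.mk'_apply, QuotientGroup.mk'_apply, QuotientGroup.eq] at hj
      obtain ⟨i, hi⟩ := (mem_Nρ ρ _).mp hj
      have hi' : s⁻¹ * r ^ j = ρ ^ i := by
        have : ((⟨s, hsC⟩⁻¹ * ⟨r, hrC⟩ ^ j : ↥(Subgroup.centralizer ({ρ} : Set G))) : G) =
            s⁻¹ * r ^ j := by simp
        rw [← this]; exact hi
      rw [hsinv] at hi'
      -- `s r^j` is an involution
      have hsrj : s * r ^ j * s⁻¹ = (r ^ j)⁻¹ := by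
        have h1 := map_pow (MulAut.conj s) r j
        rw [MulAut.conj_apply, MulAut.conj_apply, hsr, inv_pow] at h1
        exact h1
      have hsq : (s * r ^ j) * (s * r ^ j) = 1 := by
        calc (s * r ^ j) * (s * r ^ j) = (s * r ^ j * s⁻¹) * (s * s) * r ^ j := by group
          _ = 1 := by rw [hsrj, hss]; group
      rw [hi'] at hsq
      have h1 := eq_one_of_pow_three_of_sq (hρi3 i) hsq
      rw [h1] at hi'
      apply hsnot (4 * j + 3 * j)
      -- `s = (r^j)⁻¹ = r^(3 j)`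
      have hr4 : r ^ 4 = 1 := by
        calc r ^ 4 = (r * r) * (r * r) := by rw [show 4 = 2 + 2 from rfl, pow_add, pow_two]
          _ = 1 := by rw [hrr, hF.bb]
      have h2 : s = (r ^ j)⁻¹ := eq_inv_of_mul_eq_one_left hi'
      rw [h2]
      apply inv_eq_of_mul_eq_one_right
      rw [← pow_add, show j + (4 * j + 3 * j) = 4 * (2 * j) by ring, pow_mul, hr4, one_pow]
    · intro y hyb
      obtain ⟨w, rfl⟩ := QuotientGroup.mk'_surjective (Nρ ρ) y
      rw [← map_mul, ← map_mul, QuotientGroup.mk'_apply, QuotientGroup.mk'_apply,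
        QuotientGroup.eq] at hyb
      obtain ⟨i, hi⟩ := (mem_Nρ ρ _).mp hyb
      have hi' : ((w : G) * b)⁻¹ * (b * (w : G)) = ρ ^ i := by
        have : (((w * ⟨b, hbC⟩)⁻¹ * (⟨b, hbC⟩ * w) : ↥(Subgroup.centralizer ({ρ} : Set G))) : G) =
            ((w : G) * b)⁻¹ * (b * (w : G)) := by simp
        rw [← this]; exact hi
      have h1 : (w : G)⁻¹ * b * (w : G) = b * ρ ^ i := by
        rw [← hi']; group
      have h2 : (b * ρ ^ i) * (b * ρ ^ i) = 1 := by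
        rw [← h1]
        calc (w : G)⁻¹ * b * (w : G) * ((w : G)⁻¹ * b * (w : G)) = (w : G)⁻¹ * (b * b) * (w : G) := by
              group
          _ = 1 := by rw [hF.bb]; group
      have h3 : ρ ^ i * ρ ^ i = 1 := by
        calc ρ ^ i * ρ ^ i = (b * b) * (ρ ^ i * ρ ^ i) := by rw [hF.bb, one_mul]
          _ = b * (b * ρ ^ i) * ρ ^ i := by group
          _ = b * (ρ ^ i * b) * ρ ^ i := by rw [hρib i]
          _ = (b * ρ ^ i) * (b * ρ ^ i) := by group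
          _ = 1 := h2
      have h4 := eq_one_of_pow_three_of_sq (hρi3 i) h3
      rw [h4, mul_one] at h1
      have hwb : (w : G) * b = b * (w : G) := by
        calc (w : G) * b = (w : G) * ((w : G)⁻¹ * b * (w : G)) := by rw [h1]
          _ = b * (w : G) := by group
      have hwρ : (w : G) * ρ = ρ * (w : G) := (mem_cent_iff ρ w.1).mp w.2
      obtain ⟨i', j, k, hijk⟩ := hall _ hwb hwρ
      refine ⟨j, k, ?_⟩
      have hw : w = (⟨ρ, F5.f_mem_cent ρ⟩ : ↥(Subgroup.centralizer ({ρ} : Set G))) ^ i' *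
          (⟨r, hrC⟩ ^ j * ⟨s, hsC⟩ ^ k) := by
        apply Subtype.ext
        rw [hijk]
        simp
      have hρ1 : QuotientGroup.mk' (Nρ ρ)
          ((⟨ρ, F5.f_mem_cent ρ⟩ : ↥(Subgroup.centralizer ({ρ} : Set G))) ^ i') = 1 := by
        rw [QuotientGroup.mk'_apply, QuotientGroup.eq_one_iff]
        exact Subgroup.pow_mem _ (Subgroup.mem_zpowers _) i'
      rw [hw, map_mul, hρ1, one_mul, map_mul, map_pow, map_pow]
  -- `9 ∣ |X|`
  have h27 : 27 ∣ Nat.card ↥(Subgroup.centralizer ({ρ} : Set G)) := by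
    rw [← S.card_P3 P₃]; exact Subgroup.card_dvd_of_le S.P_le_cent_ρ
  have h9 : 9 ∣ Nat.card (↥(Subgroup.centralizer ({ρ} : Set G)) ⧸ Nρ ρ) := by
    rw [card_cent_eq ρ, S.base.ρ3] at h27
    obtain ⟨k, hk⟩ := h27
    exact ⟨k, by omega⟩
  exact card_of_A5_D8 ψ.range e₀ hbmem hD h9

/-- `|C_G(ρ)| = 1080` -/
theorem card_cent_ρ (S : R3P z t V B b f π P l ρ τ P₃) :
    Nat.card ↥(Subgroup.centralizer ({ρ} : Set G)) = 1080 := by
  rw [card_cent_eq ρ, S.card_quot.1, S.base.ρ3]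

end R3P

end Cfsg.Agent.Lib.Helper14.J2Tri
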