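import Mathlib
import Cfsg.Agent.Lib.Helper14.J2TriI

/-!
helper14: S1723, part J: generic lemmas: normalizers and quotients, normalizers in subgroups,
counting the complement of a subgroup, and the Sylow 3-normalizers of a perfect group of order 360.
-/

set_option autoImplicit false
open scoped commutatorElement

namespace Cfsg.Agent.Lib.Helper14.J2Tri

open Cfsg.Agent.Lib.Helper14.EO2 Cfsg.Agent.Lib.Helper14.LES Cfsg.Agent.Lib.Helper20.ES
open Cfsg.Agent.Lib.Helper14.J2Ord Cfsg.Agent.Lib.Helper14.J2Rec Cfsg.Agent.Lib.Helper14.J2Syl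

/-- orders of a subgroup containing a normal subgroup `N`, and of its normalizer, in terms of the
quotient by `N` -/
theorem card_map_mk {W : Type*} [Group W] [Finite W] (N : Subgroup W) [N.Normal]
    (P' : Subgroup W) (hN : N ≤ P') :
    Nat.card ↥P' = Nat.card ↥(P'.map (QuotientGroup.mk' N)) * Nat.card ↥N ∧
    Nat.card ↥(Subgroup.normalizer (P' : Set W)) =
      Nat.card ↥(Subgroup.normalizer
        ((P'.map (QuotientGroup.mk' N) : Subgroup (W ⧸ N)) : Set (W ⧸ N))) * Nat.card ↥N := by
  have hcomap : (P'.map (QuotientGroup.mk' N)).comap (QuotientGroup.mk' N) = P' := by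
    rw [Subgroup.comap_map_eq, QuotientGroup.ker_mk', sup_of_le_left hN]
  have hcomapN : (Subgroup.normalizer
      ((P'.map (QuotientGroup.mk' N) : Subgroup (W ⧸ N)) : Set (W ⧸ N))).comap
        (QuotientGroup.mk' N) = Subgroup.normalizer (P' : Set W) := by
    rw [Subgroup.comap_normalizer_eq_of_surjective _ (QuotientGroup.mk'_surjective N), hcomap]
  have hker : Nat.card ↥(QuotientGroup.mk' N).ker = Nat.card ↥N := by
    rw [QuotientGroup.ker_mk']
  constructor
  · have h := card_preimage (QuotientGroup.mk' N) (QuotientGroup.mk'_surjective N)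
      (fun y => y ∈ P'.map (QuotientGroup.mk' N))
    rw [hker] at h
    rw [← h]
    apply Nat.card_congr
    apply Equiv.subtypeEquivRight
    intro x
    rw [← Subgroup.mem_comap, hcomap]
  · have h := card_preimage (QuotientGroup.mk' N) (QuotientGroup.mk'_surjective N)
      (fun y => y ∈ Subgroup.normalizer
        ((P'.map (QuotientGroup.mk' N) : Subgroup (W ⧸ N)) : Set (W ⧸ N)))
    rw [hker] at h
    rw [← h]
    apply Nat.card_congr
    apply Equiv.subtypeEquivRight
    intro x
    rw [← Subgroup.mem_comap, hcomapN]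

variable {G : Type*} [Group G] [Finite G]

/-- the normalizer of `H` inside a subgroup `K ≥ H` -/
theorem card_normalizer_subgroupOf (H K : Subgroup G) (hHK : H ≤ K) :
    Nat.card ↥(Subgroup.normalizer ((H.subgroupOf K : Subgroup ↥K) : Set ↥K)) =
      Nat.card ↥(Subgroup.normalizer (H : Set G) ⊓ K) := by
  rw [← Subgroup.subgroupOf_normalizer_eq hHK]
  apply Nat.card_congr
  exact
    { toFun := fun x => ⟨x.1.1, Subgroup.mem_inf.mpr ⟨Subgroup.mem_subgroupOf.mp x.2, x.1.2⟩⟩
      invFun := fun y => ⟨⟨y.1, (Subgroup.mem_inf.mp y.2).2⟩,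
        Subgroup.mem_subgroupOf.mpr (Subgroup.mem_inf.mp y.2).1⟩
      left_inv := fun _ => rfl
      right_inv := fun _ => rfl }

/-- the number of elements of a subgroup outside a smaller subgroup -/
theorem card_sdiff_subgroup (H K : Subgroup G) (hKH : K ≤ H) :
    Nat.card {v : G // v ∈ H ∧ v ∉ K} = Nat.card ↥H - Nat.card ↥K := by
  classical
  haveI : Fintype G := Fintype.ofFinite G
  rw [card_subgroup_eq_filter, card_subgroup_eq_filter, Nat.card_eq_fintype_card,
    Fintype.card_subtype]
  have heq : Finset.univ.filter (fun v : G => v ∈ H ∧ v ∉ K) =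
      (Finset.univ.filter (fun v : G => v ∈ H)) \ (Finset.univ.filter (fun v : G => v ∈ K)) := by
    ext v
    simp only [Finset.mem_filter, Finset.mem_univ, true_and, Finset.mem_sdiff]
  rw [heq, Finset.card_sdiff_of_subset]
  intro v hv
  simp only [Finset.mem_filter, Finset.mem_univ, true_and] at hv ⊢
  exact hKH hv

/-- in a perfect group of order 360 the normalizer of a subgroup of order 9 has order 36, 90
or 360 -/
theorem card_normalizer_nine {X : Type*} [Group X] [Finite X] (hX : Nat.card X = 360)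
    (hperf : commutator X = ⊤) (Q : Subgroup X) (hQ : Nat.card ↥Q = 9) :
    ∃ k : ℕ, (k = 4 ∨ k = 10 ∨ k = 40) ∧
      Nat.card ↥(Subgroup.normalizer ((Q : Subgroup X) : Set X)) = 9 * k := by
  haveI : Fact (Nat.Prime 3) := ⟨by norm_num⟩
  have hfac : (360 : ℕ).factorization 3 = 2 := by
    have h1 : (360 : ℕ) = 3 ^ 2 * 40 := by norm_num
    have h2 : (40 : ℕ).factorization 3 = 0 :=
      Nat.factorization_eq_zero_of_not_dvd (by norm_num)
    rw [h1, Nat.factorization_mul (by norm_num) (by norm_num),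
      Nat.Prime.factorization_pow (by norm_num : Nat.Prime 3)]
    simp [h2]
  have hQ' : Nat.card ↥Q = 3 ^ (Nat.card X).factorization 3 := by
    rw [hX, hfac, hQ]; norm_num
  have hcoe : ((Sylow.ofCard Q hQ' : Sylow 3 X) : Subgroup X) = Q := Sylow.coe_ofCard Q hQ'
  have h1 : Nat.card (Sylow 3 X) =
      (Subgroup.normalizer (((Sylow.ofCard Q hQ' : Sylow 3 X) : Subgroup X) : Set X)).index :=
    (Sylow.ofCard Q hQ').card_eq_index_normalizer
  rw [hcoe] at h1
  have h2 : Nat.card (Sylow 3 X) ≡ 1 [MOD 3] := card_sylow_modEq_one 3 X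
  have h3 := Subgroup.card_mul_index (Subgroup.normalizer ((Q : Subgroup X) : Set X))
  rw [← h1, hX] at h3
  have h9 : 9 ∣ Nat.card ↥(Subgroup.normalizer ((Q : Subgroup X) : Set X)) := by
    rw [← hQ]; exact Subgroup.card_dvd_of_le Subgroup.le_normalizer
  -- Burnside
  have hne : ∃ a ∈ ((Sylow.ofCard Q hQ' : Sylow 3 X) : Subgroup X), a ≠ 1 := by
    rw [hcoe]
    by_contra hcon
    push_neg at hcon
    have : Q = ⊥ := (Subgroup.eq_bot_iff_forall _).mpr hcon
    rw [this, Subgroup.card_bot] at hQ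
    omega
  have hB := not_normalizer_le_of_perfect hperf (Sylow.ofCard Q hQ') hne
  change ¬ Subgroup.normalizer ((((Sylow.ofCard Q hQ' : Sylow 3 X) : Subgroup X)) : Set X) ≤
    Subgroup.centralizer ((((Sylow.ofCard Q hQ' : Sylow 3 X) : Subgroup X)) : Set X) at hB
  rw [hcoe] at hB
  have hab : ∀ x ∈ Q, ∀ y ∈ Q, x * y = y * x := by
    intro x hx y hy
    have h := IsPGroup.commutative_of_card_eq_prime_sq (p := 3) (G := ↥Q)
      (by rw [hQ]; norm_num) ⟨x, hx⟩ ⟨y, hy⟩
    exact congrArg Subtype.val h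
  have hne9 : Nat.card ↥(Subgroup.normalizer ((Q : Subgroup X) : Set X)) ≠ 9 := by
    intro h
    apply hB
    have heq : Q = Subgroup.normalizer ((Q : Subgroup X) : Set X) :=
      Subgroup.eq_of_le_of_card_ge Subgroup.le_normalizer (by rw [h, hQ])
    rw [← heq]
    intro x hx
    rw [Subgroup.mem_centralizer_iff]
    intro y hy
    exact hab y hy x hx
  obtain ⟨k, hk⟩ := h9
  rw [hk] at h3 hne9 ⊢
  have hn : k * Nat.card (Sylow 3 X) = 40 := by
    have : 9 * (k * Nat.card (Sylow 3 X)) = 9 * 40 := by rw [← mul_assoc, h3]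
    exact Nat.eq_of_mul_eq_mul_left (by norm_num) this
  have hk1 : k ≠ 1 := fun h => hne9 (by rw [h])
  have hmod : Nat.card (Sylow 3 X) % 3 = 1 := h2
  have hle : Nat.card (Sylow 3 X) ≤ 40 := by
    rcases Nat.eq_zero_or_pos k with h0 | h0
    · rw [h0] at hn; omega
    · nlinarith
  refine ⟨k, ?_, rfl⟩
  generalize Nat.card (Sylow 3 X) = n at hn hmod hle
  interval_cases n <;> omega

end Cfsg.Agent.Lib.Helper14.J2Tri
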