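import Mathlib
import Cfsg.Agent.Lib.Helper14.J2TriJ

/-!
helper14: S1723, part K: the normalizer of the Sylow 3-subgroup `P₃`: it has order 216, it is
transitive on `P₃ ∖ ⟨ρ⟩`, and it inverts `ρ`.
-/

set_option autoImplicit false
open scoped commutatorElement

namespace Cfsg.Agent.Lib.Helper14.J2Tri

open Cfsg.Agent.Lib.Helper14.EO2 Cfsg.Agent.Lib.Helper14.LES Cfsg.Agent.Lib.Helper20.ES
open Cfsg.Agent.Lib.Helper14.J2Ord Cfsg.Agent.Lib.Helper14.J2Rec Cfsg.Agent.Lib.Helper14.J2Syl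

variable {G : Type*} [Group G] [Finite G]

theorem conj_mem_of_normalizer {H : Subgroup G} {k x : G}
    (hk : k ∈ Subgroup.normalizer (H : Set G)) (hx : x ∈ H) : k * x * k⁻¹ ∈ H :=
  (Subgroup.mem_normalizer_iff.mp hk x).mp hx

theorem conj_mem_of_normalizer' {H : Subgroup G} {k x : G}
    (hk : k ∈ Subgroup.normalizer (H : Set G)) (hx : x ∈ H) : k⁻¹ * x * k ∈ H := by
  have h := conj_mem_of_normalizer (Subgroup.inv_mem _ hk) hx
  rwa [inv_inv] at h

theorem pow_three_mod {x : G} (h3 : x ^ 3 = 1) (i : ℕ) : x ^ i = x ^ (i % 3) := by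
  conv_lhs => rw [← Nat.div_add_mod i 3, pow_add, pow_mul, h3, one_pow, one_mul]

namespace R3P

variable {z t : G} {V B : Subgroup G} {b f : G}
  {π : ↥(Subgroup.centralizer ({f} : Set G)) →* alternatingGroup (Fin 5)} {P : Sylow 5 G}
  {l ρ τ : G} {P₃ : Sylow 3 G}

/-- `N_G(P₃)` normalizes `Z(P₃) = ⟨ρ⟩` -/
theorem conj_ρ (S : R3P z t V B b f π P l ρ τ P₃) {k : G}
    (hk : k ∈ Subgroup.normalizer ((P₃ : Subgroup G) : Set G)) :
    k * ρ * k⁻¹ = ρ ∨ k * ρ * k⁻¹ = ρ ^ 2 := by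
  have h1 : k * ρ * k⁻¹ ∈ (P₃ : Subgroup G) := conj_mem_of_normalizer hk S.ρP
  have h2 : ∀ y ∈ (P₃ : Subgroup G), (k * ρ * k⁻¹) * y = y * (k * ρ * k⁻¹) := by
    intro y hy
    have h := S.ρ_central _ (conj_mem_of_normalizer' hk hy)
    calc k * ρ * k⁻¹ * y = k * (ρ * (k⁻¹ * y * k)) * k⁻¹ := by group
      _ = k * ((k⁻¹ * y * k) * ρ) * k⁻¹ := by rw [h]
      _ = y * (k * ρ * k⁻¹) := by group
  obtain ⟨i, hi⟩ := S.eq_pow_of_central h1 h2
  rw [pow_three_mod S.base.ρ3' i] at hi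
  have hlt : i % 3 < 3 := Nat.mod_lt _ (by norm_num)
  interval_cases (i % 3)
  · exfalso
    rw [pow_zero] at hi
    exact S.base.ρ1 (conj_eq_one_iff.mp hi)
  · left; rw [hi, pow_one]
  · right; exact hi

/-- conjugates of `τ` under `N_G(P₃)` are not powers of `ρ` -/
theorem conj_τ_ne (S : R3P z t V B b f π P l ρ τ P₃) {k : G}
    (hk : k ∈ Subgroup.normalizer ((P₃ : Subgroup G) : Set G)) (i : ℕ) :
    k * τ * k⁻¹ ≠ ρ ^ i := by
  intro h
  have h1 := S.conj_ρ (Subgroup.inv_mem _ hk)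
  rw [inv_inv] at h1
  have h2 : τ = (k⁻¹ * ρ * k) ^ i := by
    have e := map_pow (MulAut.conj k⁻¹) ρ i
    rw [MulAut.conj_apply, MulAut.conj_apply, inv_inv] at e
    rw [← e, ← h]; group
  have h3 : τ ∈ TS.CN V B := by
    rw [h2]
    apply Subgroup.pow_mem
    rcases h1 with h | h
    · rw [h]; exact S.base.ρC
    · rw [h]; exact S.base.ρpow_mem 2
  exact S.base.τ1 (S.base.ts.CN_disj τ h3 S.base.τB)

/-- `N_G(P₃) ∩ C_G(τ) = C_{P₃}(τ)` -/
theorem norm_inf_cent_τ (S : R3P z t V B b f π P l ρ τ P₃) :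
    Subgroup.normalizer ((P₃ : Subgroup G) : Set G) ⊓ Subgroup.centralizer ({τ} : Set G) =
      (P₃ : Subgroup G) ⊓ Subgroup.centralizer ({τ} : Set G) := by
  apply le_antisymm
  · intro x hx
    obtain ⟨hxN, hxτ⟩ := Subgroup.mem_inf.mp hx
    refine Subgroup.mem_inf.mpr ⟨?_, hxτ⟩
    obtain ⟨e₄⟩ := S.base.ts.CN_iso
    have hdec := exists_mul_of_card (Subgroup.centralizer ({τ} : Set G)) (Subgroup.zpowers τ)
      (TS.CN V B)
      (by
        rw [Subgroup.zpowers_le]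
        exact (mem_cent_iff τ τ).mpr rfl)
      S.base.CN_le_cent
      (by
        intro y hy hyC
        obtain ⟨i, rfl⟩ := exists_pow_of_mem_zpowers hy
        exact S.base.ts.CN_disj _ hyC (S.base.τpow_mem i))
      (by rw [S.base.card_cent_τ', Nat.card_zpowers, S.base.τ3, S.base.ts.card_CN])
    obtain ⟨h, hh, c, hc, rfl⟩ := hdec x hxτ
    obtain ⟨i, rfl⟩ := exists_pow_of_mem_zpowers hh
    have hτiρ : Commute (τ ^ i) ρ := (show Commute τ ρ from S.base.ρτ.symm).pow_left i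
    have hτiρ2 : Commute (τ ^ i) (ρ ^ 2) := hτiρ.pow_right 2
    have hcρ : c * ρ * c⁻¹ = ρ ∨ c * ρ * c⁻¹ = ρ ^ 2 := by
      have e1 : c * ρ * c⁻¹ = (τ ^ i)⁻¹ * ((τ ^ i * c) * ρ * (τ ^ i * c)⁻¹) * τ ^ i := by group
      rcases S.conj_ρ hxN with h | h
      · left
        rw [e1, h, mul_assoc, ← hτiρ.eq]; group
      · right
        rw [e1, h, mul_assoc, ← hτiρ2.eq]; group
    have h3 : (⟨ρ, S.base.ρC⟩ : ↥(TS.CN V B)) ^ 3 = 1 := Subtype.ext S.base.ρ3'
    have h1 : (⟨ρ, S.base.ρC⟩ : ↥(TS.CN V B)) ≠ 1 := fun h => S.base.ρ1 (congrArg Subtype.val h)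
    have hcρ' : (⟨c, hc⟩ : ↥(TS.CN V B)) * ⟨ρ, S.base.ρC⟩ * (⟨c, hc⟩ : ↥(TS.CN V B))⁻¹ =
        ⟨ρ, S.base.ρC⟩ ∨
        (⟨c, hc⟩ : ↥(TS.CN V B)) * ⟨ρ, S.base.ρC⟩ * (⟨c, hc⟩ : ↥(TS.CN V B))⁻¹ =
        (⟨ρ, S.base.ρC⟩ : ↥(TS.CN V B)) ^ 2 := by
      rcases hcρ with h | h
      · left; exact Subtype.ext h
      · right; exact Subtype.ext h
    have hτiP : τ ^ i ∈ (P₃ : Subgroup G) := Subgroup.pow_mem _ S.τP i
    rcases norm_three e₄ _ _ h3 h1 hcρ' with h | h | h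
    · have : c = 1 := congrArg Subtype.val h
      rw [this, mul_one]; exact hτiP
    · have : c = ρ := congrArg Subtype.val h
      rw [this]; exact Subgroup.mul_mem _ hτiP S.ρP
    · have : c = ρ ^ 2 := congrArg Subtype.val h
      rw [this]; exact Subgroup.mul_mem _ hτiP (Subgroup.pow_mem _ S.ρP 2)
  · exact inf_le_inf_right _ Subgroup.le_normalizer

/-- `|N_G(P₃) ∩ C_G(ρ)| ∈ {108, 270, 1080}` -/
theorem card_norm_inf_cent_ρ (S : R3P z t V B b f π P l ρ τ P₃) :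
    ∃ k : ℕ, (k = 4 ∨ k = 10 ∨ k = 40) ∧
      Nat.card ↥(Subgroup.normalizer ((P₃ : Subgroup G) : Set G) ⊓
        Subgroup.centralizer ({ρ} : Set G)) = 27 * k := by
  have hNle : Nρ ρ ≤ (P₃ : Subgroup G).subgroupOf (Subgroup.centralizer ({ρ} : Set G)) := by
    unfold Nρ
    rw [Subgroup.zpowers_le, Subgroup.mem_subgroupOf]
    exact S.ρP
  obtain ⟨h1, h2⟩ := card_map_mk (Nρ ρ) _ hNle
  have hP' : Nat.card ↥((P₃ : Subgroup G).subgroupOf (Subgroup.centralizer ({ρ} : Set G))) = 27 := by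
    rw [Nat.card_congr (Subgroup.subgroupOfEquivOfLe S.P_le_cent_ρ).toEquiv, S.card_P3 P₃]
  rw [hP', card_Nρ, S.base.ρ3] at h1
  have h9 : Nat.card ↥(((P₃ : Subgroup G).subgroupOf (Subgroup.centralizer ({ρ} : Set G))).map
      (QuotientGroup.mk' (Nρ ρ))) = 9 := by omega
  obtain ⟨k, hk, hk2⟩ := card_normalizer_nine S.card_quot.1 S.card_quot.2 _ h9
  rw [hk2, card_Nρ, S.base.ρ3, card_normalizer_subgroupOf _ _ S.P_le_cent_ρ] at h2
  exact ⟨k, hk, by rw [h2]; ring⟩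

/-- the normalizer of `P₃` -/
theorem norm_main (S : R3P z t V B b f π P l ρ τ P₃) :
    Nat.card ↥(Subgroup.normalizer ((P₃ : Subgroup G) : Set G)) = 216 ∧
    (∀ v ∈ (P₃ : Subgroup G), (∀ i : ℕ, v ≠ ρ ^ i) →
      ∃ k ∈ Subgroup.normalizer ((P₃ : Subgroup G) : Set G), k * τ * k⁻¹ = v) ∧
    ∃ k ∈ Subgroup.normalizer ((P₃ : Subgroup G) : Set G), k * ρ * k⁻¹ = ρ ^ 2 := by
  classical
  haveI : Fact (Nat.Prime 3) := ⟨by norm_num⟩
  obtain ⟨k, hk, hk2⟩ := S.card_norm_inf_cent_ρ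
  have hρN : ρ ∈ Subgroup.normalizer ((P₃ : Subgroup G) : Set G) := Subgroup.le_normalizer S.ρP
  have hτN : τ ∈ Subgroup.normalizer ((P₃ : Subgroup G) : Set G) := Subgroup.le_normalizer S.τP
  have hcρ := card_of_class (Subgroup.normalizer ((P₃ : Subgroup G) : Set G)) ρ hρN
  have hcτ := card_of_class (Subgroup.normalizer ((P₃ : Subgroup G) : Set G)) τ hτN
  rw [hk2] at hcρ
  rw [S.norm_inf_cent_τ, S.card_D] at hcτ
  have hρ2 : ρ ^ 2 ≠ ρ := by
    intro h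
    apply S.base.ρ1
    have : ρ * ρ = ρ * 1 := by rw [mul_one, ← pow_two]; exact h
    exact mul_left_cancel this
  -- the orbit of `ρ`
  have ho1 : 1 ≤ Nat.card {v : G // ∃ k ∈ Subgroup.normalizer ((P₃ : Subgroup G) : Set G),
      k * ρ * k⁻¹ = v} := by
    haveI : Nonempty {v : G // ∃ k ∈ Subgroup.normalizer ((P₃ : Subgroup G) : Set G),
        k * ρ * k⁻¹ = v} := ⟨⟨ρ, 1, Subgroup.one_mem _, by group⟩⟩
    exact Nat.card_pos
  have hOρ : ∀ v : {v : G // ∃ k ∈ Subgroup.normalizer ((P₃ : Subgroup G) : Set G),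
      k * ρ * k⁻¹ = v}, v.1 = ρ ∨ v.1 = ρ ^ 2 := by
    rintro ⟨v, k, hk, rfl⟩
    exact S.conj_ρ hk
  have ho2 : Nat.card {v : G // ∃ k ∈ Subgroup.normalizer ((P₃ : Subgroup G) : Set G),
      k * ρ * k⁻¹ = v} ≤ 2 := by
    have hinj : Function.Injective (fun v : {v : G // ∃ k ∈ Subgroup.normalizer
        ((P₃ : Subgroup G) : Set G), k * ρ * k⁻¹ = v} => decide (v.1 = ρ)) := by
      intro u v huv
      apply Subtype.ext
      simp only [decide_eq_decide] at huv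
      rcases hOρ u with hu | hu <;> rcases hOρ v with hv | hv
      · rw [hu, hv]
      · exact absurd (huv.mp hu) (by rw [hv]; exact hρ2)
      · exact absurd (huv.mpr hv) (by rw [hu]; exact hρ2)
      · rw [hu, hv]
    have := Nat.card_le_card_of_injective _ hinj
    rwa [Nat.card_eq_fintype_card (α := Bool), Fintype.card_bool] at this
  -- the orbit of `τ`
  have hzle : Subgroup.zpowers ρ ≤ (P₃ : Subgroup G) := by
    rw [Subgroup.zpowers_le]; exact S.ρP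
  have h24 : Nat.card {v : G // v ∈ (P₃ : Subgroup G) ∧ v ∉ Subgroup.zpowers ρ} = 24 := by
    rw [card_sdiff_subgroup _ _ hzle, S.card_P3 P₃, Nat.card_zpowers, S.base.ρ3]
  have hιmem : ∀ v : {v : G // ∃ k ∈ Subgroup.normalizer ((P₃ : Subgroup G) : Set G),
      k * τ * k⁻¹ = v}, v.1 ∈ (P₃ : Subgroup G) ∧ v.1 ∉ Subgroup.zpowers ρ := by
    rintro ⟨v, k, hk, rfl⟩
    refine ⟨conj_mem_of_normalizer hk S.τP, fun h => ?_⟩
    obtain ⟨i, hi⟩ := exists_pow_of_mem_zpowers h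
    exact S.conj_τ_ne hk i hi
  have hιinj : Function.Injective (fun v : {v : G // ∃ k ∈ Subgroup.normalizer
      ((P₃ : Subgroup G) : Set G), k * τ * k⁻¹ = v} =>
      (⟨v.1, hιmem v⟩ : {v : G // v ∈ (P₃ : Subgroup G) ∧ v ∉ Subgroup.zpowers ρ})) := by
    intro u v huv
    apply Subtype.ext
    exact congrArg (fun w : {v : G // v ∈ (P₃ : Subgroup G) ∧ v ∉ Subgroup.zpowers ρ} => w.1) huv
  have hτ24 : Nat.card {v : G // ∃ k ∈ Subgroup.normalizer ((P₃ : Subgroup G) : Set G),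
      k * τ * k⁻¹ = v} ≤ 24 := by
    rw [← h24]; exact Nat.card_le_card_of_injective _ hιinj
  -- Sylow's theorem in `G`
  have hs1 : Nat.card (Sylow 3 G) =
      (Subgroup.normalizer ((P₃ : Subgroup G) : Set G)).index := P₃.card_eq_index_normalizer
  have hs2 : Nat.card (Sylow 3 G) ≡ 1 [MOD 3] := card_sylow_modEq_one 3 G
  have hs3 := Subgroup.card_mul_index (Subgroup.normalizer ((P₃ : Subgroup G) : Set G))
  rw [← hs1, S.base.card] at hs3
  have hmod : Nat.card (Sylow 3 G) % 3 = 1 := hs2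
  -- arithmetic
  have harith : Nat.card ↥(Subgroup.normalizer ((P₃ : Subgroup G) : Set G)) = 216 ∧
      Nat.card {v : G // ∃ k ∈ Subgroup.normalizer ((P₃ : Subgroup G) : Set G),
        k * τ * k⁻¹ = v} = 24 ∧
      Nat.card {v : G // ∃ k ∈ Subgroup.normalizer ((P₃ : Subgroup G) : Set G),
        k * ρ * k⁻¹ = v} = 2 := by
    generalize Nat.card ↥(Subgroup.normalizer ((P₃ : Subgroup G) : Set G)) = n at hcρ hcτ hs3
    generalize Nat.card {v : G // ∃ k ∈ Subgroup.normalizer ((P₃ : Subgroup G) : Set G),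
        k * τ * k⁻¹ = v} = a at hcτ hτ24
    generalize Nat.card {v : G // ∃ k ∈ Subgroup.normalizer ((P₃ : Subgroup G) : Set G),
        k * ρ * k⁻¹ = v} = o at hcρ ho1 ho2
    generalize Nat.card (Sylow 3 G) = s at hs3 hmod
    have ho : o = 1 ∨ o = 2 := by omega
    rcases hk with rfl | rfl | rfl <;> rcases ho with rfl | rfl
    · exfalso
      have hn : n = 108 := by omega
      rw [hn] at hs3
      omega
    · refine ⟨by omega, by omega, rfl⟩
    all_goals (exfalso; omega)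
  obtain ⟨hn, ha, ho⟩ := harith
  refine ⟨hn, ?_, ?_⟩
  · have hbij := hιinj.bijective_of_nat_card_le (by rw [h24, ha])
    intro v hv hvne
    obtain ⟨⟨w, k, hk, hkw⟩, hw⟩ := hbij.2 ⟨v, hv, fun h => by
      obtain ⟨i, hi⟩ := exists_pow_of_mem_zpowers h
      exact hvne i hi⟩
    refine ⟨k, hk, ?_⟩
    rw [hkw]
    exact congrArg (fun w : {v : G // v ∈ (P₃ : Subgroup G) ∧ v ∉ Subgroup.zpowers ρ} => w.1) hw
  · by_contra hcon
    push_neg at hcon
    have hsub : Subsingleton {v : G // ∃ k ∈ Subgroup.normalizer ((P₃ : Subgroup G) : Set G),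
        k * ρ * k⁻¹ = v} := by
      constructor
      rintro ⟨u, k, hk, rfl⟩ ⟨v, k', hk', rfl⟩
      apply Subtype.ext
      show k * ρ * k⁻¹ = k' * ρ * k'⁻¹
      rcases S.conj_ρ hk with h | h
      · rcases S.conj_ρ hk' with h' | h'
        · rw [h, h']
        · exact absurd h' (hcon k' hk')
      · exact absurd h (hcon k hk)
    have := Finite.card_le_one_iff_subsingleton.mpr hsub
    omega

end R3P

end Cfsg.Agent.Lib.Helper14.J2Tri
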