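import Mathlib
import Cfsg.Agent.Lib.Helper14.J2TriK

/-!
helper14: S1723, part L: assembly: the Sylow 3-structure of a group of Hall–Janko type.
-/

set_option autoImplicit false
open scoped commutatorElement

namespace Cfsg.Agent.Lib.Helper14.J2Tri

open Cfsg.Agent.Lib.Helper14.EO2 Cfsg.Agent.Lib.Helper14.LES Cfsg.Agent.Lib.Helper20.ES
open Cfsg.Agent.Lib.Helper14.J2Ord Cfsg.Agent.Lib.Helper14.J2Rec Cfsg.Agent.Lib.Helper14.J2Syl

/-- the extraspecial data are preserved by isomorphisms -/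
theorem esData_of_mulEquiv {p : ℕ} {A B : Type*} [Group A] [Group B] (e : A ≃* B) {z : A}
    (hz : ESData p A z) : ESData p B (e z) := by
  have hzp : ∀ w : A, w ∈ Subgroup.zpowers z → e w ∈ Subgroup.zpowers (e z) := by
    intro w hw
    obtain ⟨k, rfl⟩ := Subgroup.mem_zpowers_iff.mp hw
    rw [map_zpow]
    exact Subgroup.zpow_mem_zpowers _ _
  refine ⟨?_, ?_, ?_, ?_, ?_, ?_⟩
  · intro h1
    exact hz.z_ne ((e.map_eq_one_iff).mp h1)
  · rw [← map_pow, hz.z_pow, map_one]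
  · rw [Subgroup.mem_center_iff]
    intro b
    have := Subgroup.mem_center_iff.mp hz.z_central (e.symm b)
    have h2 := congrArg e this
    rwa [map_mul, map_mul, e.apply_symm_apply] at h2
  · intro w hw
    have h1 : e.symm w ∈ Subgroup.center A := by
      rw [Subgroup.mem_center_iff]
      intro a
      have := Subgroup.mem_center_iff.mp hw (e a)
      have h2 := congrArg e.symm this
      rwa [map_mul, map_mul, e.symm_apply_apply] at h2
    have := hzp _ (hz.center_le _ h1)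
    rwa [e.apply_symm_apply] at this
  · intro x y
    have := hzp _ (hz.comm_mem (e.symm x) (e.symm y))
    rwa [map_commutatorElement, e.apply_symm_apply, e.apply_symm_apply] at this
  · intro x
    have := hzp _ (hz.pow_mem (e.symm x))
    rwa [map_pow, e.apply_symm_apply] at this

variable {G : Type*} [Group G] [Finite G]

/-- existence of the configuration `R3` -/
theorem exists_R3 {z t : G} {V B : Subgroup G} {b f : G}
    {π : ↥(Subgroup.centralizer ({f} : Set G)) →* alternatingGroup (Fin 5)} {P : Sylow 5 G}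
    {l : G} (S : L5 z t V B b f π P l) (hd3 : D3 z) :
    ∃ ρ τ : G, R3 z t V B b f π P l ρ τ := by
  haveI : Fact (Nat.Prime 3) := ⟨by norm_num⟩
  have hTS := S.base.base.ts
  obtain ⟨e⟩ := hTS.ts.iso
  obtain ⟨ρ, hρ⟩ := exists_prime_orderOf_dvd_card' (G := ↥(TS.CN V B)) 3
    (by rw [hTS.card_CN]; norm_num)
  obtain ⟨τ, hτ⟩ := exists_prime_orderOf_dvd_card' (G := ↥B) 3
    (by rw [card_of_iso_A5 e]; norm_num)
  refine ⟨ρ.1, τ.1, S, hd3, ρ.2, ?_, τ.2, ?_⟩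
  · rw [Subgroup.orderOf_coe]; exact hρ
  · rw [Subgroup.orderOf_coe]; exact hτ

namespace R3P

variable {z t : G} {V B : Subgroup G} {b f : G}
  {π : ↥(Subgroup.centralizer ({f} : Set G)) →* alternatingGroup (Fin 5)} {P : Sylow 5 G}
  {l ρ τ : G} {P₃ : Sylow 3 G}

/-- every element of `P₃` has order dividing 3 -/
theorem pow_three (S : R3P z t V B b f π P l ρ τ P₃) {x : G} (hx : x ∈ (P₃ : Subgroup G)) :
    x ^ 3 = 1 := by
  by_cases h : ∃ i : ℕ, x = ρ ^ i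
  · obtain ⟨i, rfl⟩ := h
    rw [← pow_mul, mul_comm, pow_mul, S.base.ρ3', one_pow]
  · push_neg at h
    obtain ⟨k, -, rfl⟩ := S.norm_main.2.1 x hx h
    have e := map_pow (MulAut.conj k) τ 3
    rw [MulAut.conj_apply, MulAut.conj_apply] at e
    rw [← e, S.base.τ3']; group

/-- the extraspecial data of `P₃` -/
theorem esData (S : R3P z t V B b f π P l ρ τ P₃) :
    ESData 3 ↥(P₃ : Subgroup G) ⟨ρ, S.ρP⟩ := by
  haveI : Fact (Nat.Prime 3) := ⟨by norm_num⟩
  have hcent : ∀ g : ↥(P₃ : Subgroup G), g * ⟨ρ, S.ρP⟩ = ⟨ρ, S.ρP⟩ * g := by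
    intro g
    apply Subtype.ext
    exact (S.ρ_central g.1 g.2).symm
  have hmemZ : ∀ w : ↥(P₃ : Subgroup G), (∃ i : ℕ, (w : G) = ρ ^ i) →
      w ∈ Subgroup.zpowers (⟨ρ, S.ρP⟩ : ↥(P₃ : Subgroup G)) := by
    rintro w ⟨i, hi⟩
    have : w = (⟨ρ, S.ρP⟩ : ↥(P₃ : Subgroup G)) ^ i := Subtype.ext hi
    rw [this]
    exact Subgroup.pow_mem _ (Subgroup.mem_zpowers _) i
  haveI hZn : (Subgroup.zpowers (⟨ρ, S.ρP⟩ : ↥(P₃ : Subgroup G))).Normal := by
    constructor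
    intro n hn g
    obtain ⟨i, rfl⟩ := exists_pow_of_mem_zpowers hn
    have hc : Commute g (⟨ρ, S.ρP⟩ : ↥(P₃ : Subgroup G)) := hcent g
    have : g * (⟨ρ, S.ρP⟩ : ↥(P₃ : Subgroup G)) ^ i * g⁻¹ = ⟨ρ, S.ρP⟩ ^ i := by
      rw [(hc.pow_right i).eq]; group
    rw [this]
    exact Subgroup.pow_mem _ (Subgroup.mem_zpowers _) i
  refine ⟨?_, ?_, ?_, ?_, ?_, ?_⟩
  · intro h
    exact S.base.ρ1 (congrArg Subtype.val h)
  · exact Subtype.ext S.base.ρ3'
  · rw [Subgroup.mem_center_iff]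
    exact hcent
  · intro w hw
    apply hmemZ
    apply S.eq_pow_of_central w.2
    intro y hy
    have := Subgroup.mem_center_iff.mp hw ⟨y, hy⟩
    exact (congrArg Subtype.val this).symm
  · intro x y
    have hq := Subgroup.card_eq_card_quotient_mul_card_subgroup
      (Subgroup.zpowers (⟨ρ, S.ρP⟩ : ↥(P₃ : Subgroup G)))
    rw [S.card_P3 P₃, Nat.card_zpowers, Subgroup.orderOf_mk, S.base.ρ3] at hq
    have h9 : Nat.card (↥(P₃ : Subgroup G) ⧸
        Subgroup.zpowers (⟨ρ, S.ρP⟩ : ↥(P₃ : Subgroup G))) = 3 ^ 2 := by omega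
    have hab := IsPGroup.commutative_of_card_eq_prime_sq (p := 3) h9
      (QuotientGroup.mk' _ x) (QuotientGroup.mk' _ y)
    have h1 : QuotientGroup.mk' (Subgroup.zpowers (⟨ρ, S.ρP⟩ : ↥(P₃ : Subgroup G))) ⁅x, y⁆ = 1 := by
      rw [map_commutatorElement, commutatorElement_eq_one_iff_mul_comm]
      exact hab
    exact (QuotientGroup.eq_one_iff _).mp h1
  · intro x
    have : x ^ 3 = 1 := Subtype.ext (by rw [Subgroup.coe_pow]; exact S.pow_three x.2)
    rw [this]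
    exact Subgroup.one_mem _

/-- `P₃` is extraspecial -/
theorem extraspecial (S : R3P z t V B b f π P l ρ τ P₃) (P₀ : Sylow 3 G) :
    Cfsg.IsExtraspecial 3 ↥(P₀ : Subgroup G) := by
  haveI : Fact (Nat.Prime 3) := ⟨by norm_num⟩
  have hd := esData_of_mulEquiv (Sylow.equiv P₃ P₀) S.esData
  apply hd.isExtraspecial
  obtain ⟨y, hy, hne⟩ := S.τ_not_central
  refine ⟨Sylow.equiv P₃ P₀ ⟨τ, S.τP⟩, Sylow.equiv P₃ P₀ ⟨y, hy⟩, ?_⟩
  rw [← map_commutatorElement]
  intro h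
  have h1 := (MulEquiv.map_eq_one_iff _).mp h
  rw [commutatorElement_eq_one_iff_mul_comm] at h1
  exact hne (congrArg Subtype.val h1)

theorem final (S : R3P z t V B b f π P l ρ τ P₃) (P₀ : Sylow 3 G) :
    Cfsg.IsExtraspecial 3 ↥(P₀ : Subgroup G) ∧ Nat.card ↥(P₀ : Subgroup G) = 27 ∧
    Nat.card ↥(Subgroup.normalizer ((P₀ : Subgroup G) : Set G)) = 216 ∧
    ∃ a b : G, orderOf a = 3 ∧ orderOf b = 3 ∧ ¬ IsConj a b ∧
      ∀ c : G, orderOf c = 3 → IsConj c a ∨ IsConj c b := by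
  classical
  haveI : Fact (Nat.Prime 3) := ⟨by norm_num⟩
  obtain ⟨hN, horb, k₀, hk₀, hk₀ρ⟩ := S.norm_main
  refine ⟨S.extraspecial P₀, S.card_P3 P₀, ?_, ρ, τ, S.base.ρ3, S.base.τ3, ?_, ?_⟩
  · -- `|N_G(P₀)| = 216`
    have h1 : Nat.card (Sylow 3 G) =
        (Subgroup.normalizer ((P₃ : Subgroup G) : Set G)).index := P₃.card_eq_index_normalizer
    have h2 : Nat.card (Sylow 3 G) =
        (Subgroup.normalizer ((P₀ : Subgroup G) : Set G)).index := P₀.card_eq_index_normalizer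
    have h3 := Subgroup.card_mul_index (Subgroup.normalizer ((P₃ : Subgroup G) : Set G))
    have h4 := Subgroup.card_mul_index (Subgroup.normalizer ((P₀ : Subgroup G) : Set G))
    rw [← h1, hN, S.base.card] at h3
    rw [← h2, S.base.card] at h4
    have hpos : 0 < Nat.card (Sylow 3 G) := Nat.card_pos
    have : Nat.card ↥(Subgroup.normalizer ((P₀ : Subgroup G) : Set G)) * Nat.card (Sylow 3 G) =
        216 * Nat.card (Sylow 3 G) := by rw [h4, h3]
    exact Nat.eq_of_mul_eq_mul_right hpos this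
  · -- `ρ` and `τ` are not conjugate
    intro h
    obtain ⟨c, hc⟩ := isConj_iff.mp h
    have h1 := card_centralizer_conj c ρ
    rw [hc, S.base.card_cent_τ', S.card_cent_ρ] at h1
    omega
  · -- every element of order 3 is conjugate to `ρ` or `τ`
    intro c hc3
    have hc1 : c ≠ 1 := by
      intro h; rw [h, orderOf_one] at hc3; omega
    have hcp : IsPGroup 3 ↥(Subgroup.zpowers c) :=
      IsPGroup.of_card (n := 1) (by rw [Nat.card_zpowers, hc3, pow_one])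
    obtain ⟨P', hP'⟩ := hcp.exists_le_sylow
    obtain ⟨g, hg⟩ := MulAction.exists_smul_eq G P₃ P'
    have hmem : ∀ x : G, x ∈ (P' : Subgroup G) ↔ g⁻¹ * x * g ∈ (P₃ : Subgroup G) := by
      intro x
      rw [← hg, Sylow.coe_subgroup_smul, Subgroup.mem_pointwise_smul_iff_inv_smul_mem,
        MulAut.smul_def, ← map_inv, MulAut.conj_apply, inv_inv]
    have hv : g⁻¹ * c * g ∈ (P₃ : Subgroup G) := (hmem c).mp (hP' (Subgroup.mem_zpowers c))
    have hv1 : g⁻¹ * c * g ≠ 1 := by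
      intro h
      apply hc1
      calc c = g * (g⁻¹ * c * g) * g⁻¹ := by group
        _ = 1 := by rw [h]; group
    by_cases hpow : ∃ i : ℕ, g⁻¹ * c * g = ρ ^ i
    · left
      obtain ⟨i, hi⟩ := hpow
      rw [pow_three_mod S.base.ρ3' i] at hi
      have hlt : i % 3 < 3 := Nat.mod_lt _ (by norm_num)
      rw [isConj_iff]
      interval_cases (i % 3)
      · rw [pow_zero] at hi
        exact absurd hi hv1
      · refine ⟨g⁻¹, ?_⟩
        rw [inv_inv, hi, pow_one]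
      · refine ⟨k₀⁻¹ * g⁻¹, ?_⟩
        calc k₀⁻¹ * g⁻¹ * c * (k₀⁻¹ * g⁻¹)⁻¹ = k₀⁻¹ * (g⁻¹ * c * g) * k₀ := by group
          _ = k₀⁻¹ * (k₀ * ρ * k₀⁻¹) * k₀ := by rw [hi, hk₀ρ]
          _ = ρ := by group
    · right
      push_neg at hpow
      obtain ⟨k, -, hk⟩ := horb _ hv hpow
      rw [isConj_iff]
      refine ⟨k⁻¹ * g⁻¹, ?_⟩
      calc k⁻¹ * g⁻¹ * c * (k⁻¹ * g⁻¹)⁻¹ = k⁻¹ * (g⁻¹ * c * g) * k := by group
        _ = k⁻¹ * (k * τ * k⁻¹) * k := by rw [hk]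
        _ = τ := by group

end R3P

/-- the Sylow 3-structure from the hypotheses of the statement -/
theorem main (z : G) (hz : orderOf z = 2)
    (Q : Subgroup ↥(Subgroup.centralizer ({z} : Set G))) [Q.Normal]
    (hF : Cfsg.generalizedFittingSubgroup ↥(Subgroup.centralizer ({z} : Set G)) = Q)
    (hQ : Cfsg.IsExtraspecial 2 ↥Q) (hcard : Nat.card ↥Q = 2 ^ 5)
    (e : ↥(Subgroup.centralizer ({z} : Set G)) ⧸ Q ≃*
      ↥(Cfsg.Omega (ZMod 2) (Cfsg.quadFormMinus 1 (ZMod 2) 1 1)))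
    (hnwc : ∃ g : G, (∃ hq : g * z * g⁻¹ ∈ Subgroup.centralizer ({z} : Set G),
      (⟨g * z * g⁻¹, hq⟩ : ↥(Subgroup.centralizer ({z} : Set G))) ∈ Q) ∧ g * z * g⁻¹ ≠ z)
    (hcl : ∃ x y : G, orderOf x = 2 ∧ orderOf y = 2 ∧ ¬ IsConj x y) (P₀ : Sylow 3 G) :
    Cfsg.IsExtraspecial 3 ↥(P₀ : Subgroup G) ∧ Nat.card ↥(P₀ : Subgroup G) = 27 ∧
    Nat.card ↥(Subgroup.normalizer ((P₀ : Subgroup G) : Set G)) = 216 ∧
    ∃ a b : G, orderOf a = 3 ∧ orderOf b = 3 ∧ ¬ IsConj a b ∧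
      ∀ c : G, orderOf c = 3 → IsConj c a ∨ IsConj c b := by
  obtain ⟨t, V, B, b, f, π, P, l, hL⟩ := J2Syl.main z hz Q hF hQ hcard e hnwc hcl
  have hd3 := d3_of_statement z hz Q hF hQ hcard e
  obtain ⟨ρ, τ, hR⟩ := exists_R3 hL hd3
  obtain ⟨P₃, hRP⟩ := hR.exists_R3P
  exact hRP.final P₀

end Cfsg.Agent.Lib.Helper14.J2Tri
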