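import Mathlib
import Cfsg.Agent.Lib.Helper14.J2TriL

/-!
helper14: S1724: the Sylow 7-structure of a group of Hall–Janko type: the centralizers of the
elements of order 2, 3 and 5 have orders prime to 7, so a Sylow 7-subgroup is self-centralizing, and
Sylow's theorem forces its normalizer to have order 42.
-/

set_option autoImplicit false
open scoped commutatorElement

namespace Cfsg.Agent.Lib.Helper14.J2Sep

open Cfsg.Agent.Lib.Helper14.EO2 Cfsg.Agent.Lib.Helper14.LES Cfsg.Agent.Lib.Helper20.ES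
open Cfsg.Agent.Lib.Helper14.J2Ord Cfsg.Agent.Lib.Helper14.J2Rec Cfsg.Agent.Lib.Helper14.J2Syl
open Cfsg.Agent.Lib.Helper14.J2Tri

variable {G : Type*} [Group G] [Finite G]

/-- the generic statement -/
theorem sylow_seven (hcard : Nat.card G = 604800)
    (h2 : ∀ x : G, orderOf x = 2 → Nat.card ↥(Subgroup.centralizer ({x} : Set G)) = 1920 ∨
      Nat.card ↥(Subgroup.centralizer ({x} : Set G)) = 240)
    (h3 : ∀ x : G, orderOf x = 3 → Nat.card ↥(Subgroup.centralizer ({x} : Set G)) = 1080 ∨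
      Nat.card ↥(Subgroup.centralizer ({x} : Set G)) = 36)
    (h5 : ∀ x : G, orderOf x = 5 → Nat.card ↥(Subgroup.centralizer ({x} : Set G)) = 300 ∨
      Nat.card ↥(Subgroup.centralizer ({x} : Set G)) = 50)
    (D : Sylow 7 G) :
    Subgroup.centralizer ((D : Subgroup G) : Set G) = D ∧
    Nat.card ↥(Subgroup.normalizer ((D : Subgroup G) : Set G)) = 42 ∧
    ¬ IsMulCommutative ↥(Subgroup.normalizer ((D : Subgroup G) : Set G)) := by
  classical
  haveI : Fact (Nat.Prime 7) := ⟨by norm_num⟩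
  haveI : Fact (Nat.Prime 2) := ⟨by norm_num⟩
  haveI : Fact (Nat.Prime 3) := ⟨by norm_num⟩
  haveI : Fact (Nat.Prime 5) := ⟨by norm_num⟩
  have hD7 : Nat.card ↥(D : Subgroup G) = 7 := by
    rw [D.card_eq_multiplicity, hcard]
    have h1 : (604800 : ℕ) = 7 ^ 1 * 86400 := by norm_num
    have h2 : (86400 : ℕ).factorization 7 = 0 :=
      Nat.factorization_eq_zero_of_not_dvd (by norm_num)
    rw [h1, Nat.factorization_mul (by norm_num) (by norm_num),
      Nat.Prime.factorization_pow (by norm_num : Nat.Prime 7)]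
    simp [h2]
  -- a generator
  obtain ⟨d, hdD, hd1⟩ : ∃ d ∈ (D : Subgroup G), d ≠ 1 := by
    by_contra hcon
    push_neg at hcon
    have : (D : Subgroup G) = ⊥ := (Subgroup.eq_bot_iff_forall _).mpr hcon
    rw [this, Subgroup.card_bot] at hD7
    omega
  have hd7 : orderOf d = 7 := by
    have h1 : orderOf d ∣ 7 := by
      have := orderOf_dvd_natCard (⟨d, hdD⟩ : ↥(D : Subgroup G))
      rwa [Subgroup.orderOf_mk, hD7] at this
    rcases (Nat.dvd_prime (by norm_num : Nat.Prime 7)).mp h1 with h | h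
    · exact absurd (orderOf_eq_one_iff.mp h) hd1
    · exact h
  have hzle : Subgroup.zpowers d ≤ (D : Subgroup G) := by
    rw [Subgroup.zpowers_le]; exact hdD
  have hDeq : Subgroup.zpowers d = (D : Subgroup G) :=
    Subgroup.eq_of_le_of_card_ge hzle (by rw [hD7, Nat.card_zpowers, hd7])
  -- the centralizer of `d`
  have hnot : ∀ y : G, y * d = d * y → ∀ m : ℕ,
      Nat.card ↥(Subgroup.centralizer ({y} : Set G)) = m → 7 ∣ m := by
    intro y hy m hm
    have hdC : d ∈ Subgroup.centralizer ({y} : Set G) := (mem_cent_iff y d).mpr hy.symm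
    have := orderOf_dvd_natCard (⟨d, hdC⟩ : ↥(Subgroup.centralizer ({y} : Set G)))
    rwa [Subgroup.orderOf_mk, hd7, hm] at this
  have hp : ∀ p : ℕ, [Fact p.Prime] → p ∣ Nat.card ↥(Subgroup.centralizer ({d} : Set G)) →
      ∃ y : G, orderOf y = p ∧ y * d = d * y := by
    intro p _ hpd
    obtain ⟨y, hy⟩ := exists_prime_orderOf_dvd_card' (G := ↥(Subgroup.centralizer ({d} : Set G))) p
      hpd
    refine ⟨y.1, ?_, (mem_cent_iff d y.1).mp y.2⟩
    rw [Subgroup.orderOf_coe]; exact hy
  have hn2 : ¬ 2 ∣ Nat.card ↥(Subgroup.centralizer ({d} : Set G)) := by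
    intro h
    obtain ⟨y, hy, hyd⟩ := hp 2 h
    rcases h2 y hy with h' | h' <;> have := hnot y hyd _ h' <;> omega
  have hn3 : ¬ 3 ∣ Nat.card ↥(Subgroup.centralizer ({d} : Set G)) := by
    intro h
    obtain ⟨y, hy, hyd⟩ := hp 3 h
    rcases h3 y hy with h' | h' <;> have := hnot y hyd _ h' <;> omega
  have hn5 : ¬ 5 ∣ Nat.card ↥(Subgroup.centralizer ({d} : Set G)) := by
    intro h
    obtain ⟨y, hy, hyd⟩ := hp 5 h
    rcases h5 y hy with h' | h' <;> have := hnot y hyd _ h' <;> omega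
  have hdvd : Nat.card ↥(Subgroup.centralizer ({d} : Set G)) ∣ 2 ^ 7 * (3 ^ 3 * (5 ^ 2 * 7)) := by
    have := Subgroup.card_subgroup_dvd_card (Subgroup.centralizer ({d} : Set G))
    rw [hcard] at this
    have e : (604800 : ℕ) = 2 ^ 7 * (3 ^ 3 * (5 ^ 2 * 7)) := by norm_num
    rwa [e] at this
  have hc2 : Nat.Coprime (Nat.card ↥(Subgroup.centralizer ({d} : Set G))) (2 ^ 7) :=
    Nat.Coprime.pow_right 7
      ((Nat.Prime.coprime_iff_not_dvd (by norm_num : Nat.Prime 2)).mpr hn2).symm
  have hc3 : Nat.Coprime (Nat.card ↥(Subgroup.centralizer ({d} : Set G))) (3 ^ 3) :=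
    Nat.Coprime.pow_right 3
      ((Nat.Prime.coprime_iff_not_dvd (by norm_num : Nat.Prime 3)).mpr hn3).symm
  have hc5 : Nat.Coprime (Nat.card ↥(Subgroup.centralizer ({d} : Set G))) (5 ^ 2) :=
    Nat.Coprime.pow_right 2
      ((Nat.Prime.coprime_iff_not_dvd (by norm_num : Nat.Prime 5)).mpr hn5).symm
  have hdvd7 : Nat.card ↥(Subgroup.centralizer ({d} : Set G)) ∣ 7 :=
    hc5.dvd_of_dvd_mul_left (hc3.dvd_of_dvd_mul_left (hc2.dvd_of_dvd_mul_left hdvd))
  have hDC : (D : Subgroup G) ≤ Subgroup.centralizer ({d} : Set G) := by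
    rw [← hDeq, Subgroup.zpowers_le]
    exact (mem_cent_iff d d).mpr rfl
  have hC7 : Nat.card ↥(Subgroup.centralizer ({d} : Set G)) = 7 := by
    have h1 := Nat.le_of_dvd (by norm_num) hdvd7
    have h2 := Subgroup.card_le_of_le hDC
    rw [hD7] at h2
    omega
  -- `C_G(D) = D`
  have hDab : (D : Subgroup G) ≤ Subgroup.centralizer ((D : Subgroup G) : Set G) := by
    intro x hx
    rw [Subgroup.mem_centralizer_iff]
    intro y hy
    rw [← hDeq] at hx hy
    obtain ⟨i, rfl⟩ := exists_pow_of_mem_zpowers hx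
    obtain ⟨j, rfl⟩ := exists_pow_of_mem_zpowers hy
    exact (Commute.pow_pow (Commute.refl d) j i).eq
  have hCDle : Subgroup.centralizer ((D : Subgroup G) : Set G) ≤
      Subgroup.centralizer ({d} : Set G) := by
    intro x hx
    rw [Subgroup.mem_centralizer_iff] at hx
    rw [mem_cent_iff]
    exact (hx d hdD).symm
  have hCD : Subgroup.centralizer ((D : Subgroup G) : Set G) = D := by
    symm
    apply Subgroup.eq_of_le_of_card_ge hDab
    have := Subgroup.card_le_of_le hCDle
    rw [hC7] at this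
    rw [hD7]; exact this
  -- the normalizer
  have hDN : (D : Subgroup G) ≤ Subgroup.normalizer ((D : Subgroup G) : Set G) :=
    Subgroup.le_normalizer
  have hdN : d ∈ Subgroup.normalizer ((D : Subgroup G) : Set G) := hDN hdD
  have hcl := card_of_class (Subgroup.normalizer ((D : Subgroup G) : Set G)) d hdN
  have hNC7 : Nat.card ↥(Subgroup.normalizer ((D : Subgroup G) : Set G) ⊓
      Subgroup.centralizer ({d} : Set G)) = 7 := by
    have h1 : (D : Subgroup G) ≤ Subgroup.normalizer ((D : Subgroup G) : Set G) ⊓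
        Subgroup.centralizer ({d} : Set G) := le_inf hDN hDC
    have h2 := Subgroup.card_le_of_le h1
    have h3 := Subgroup.card_le_of_le (inf_le_right :
      Subgroup.normalizer ((D : Subgroup G) : Set G) ⊓ Subgroup.centralizer ({d} : Set G) ≤
        Subgroup.centralizer ({d} : Set G))
    rw [hD7] at h2
    rw [hC7] at h3
    omega
  rw [hNC7] at hcl
  have h6 : Nat.card {v : G // v ∈ (D : Subgroup G) ∧ v ≠ 1} = 6 := by
    rw [card_nontrivial, hD7]
  have hmemO : ∀ v : {v : G // ∃ k ∈ Subgroup.normalizer ((D : Subgroup G) : Set G),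
      k * d * k⁻¹ = v}, v.1 ∈ (D : Subgroup G) ∧ v.1 ≠ 1 := by
    rintro ⟨v, k, hk, rfl⟩
    exact ⟨conj_mem_of_normalizer hk hdD, fun h => hd1 (conj_eq_one_iff.mp h)⟩
  have hinj : Function.Injective (fun v : {v : G // ∃ k ∈ Subgroup.normalizer
      ((D : Subgroup G) : Set G), k * d * k⁻¹ = v} =>
      (⟨v.1, hmemO v⟩ : {v : G // v ∈ (D : Subgroup G) ∧ v ≠ 1})) := by
    intro u v huv
    apply Subtype.ext
    exact congrArg (fun w : {v : G // v ∈ (D : Subgroup G) ∧ v ≠ 1} => w.1) huv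
  have hle6 : Nat.card {v : G // ∃ k ∈ Subgroup.normalizer ((D : Subgroup G) : Set G),
      k * d * k⁻¹ = v} ≤ 6 := by
    rw [← h6]; exact Nat.card_le_card_of_injective _ hinj
  have hge1 : 1 ≤ Nat.card {v : G // ∃ k ∈ Subgroup.normalizer ((D : Subgroup G) : Set G),
      k * d * k⁻¹ = v} := by
    haveI : Nonempty {v : G // ∃ k ∈ Subgroup.normalizer ((D : Subgroup G) : Set G),
        k * d * k⁻¹ = v} := ⟨⟨d, 1, Subgroup.one_mem _, by group⟩⟩
    exact Nat.card_pos
  have hs1 : Nat.card (Sylow 7 G) =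
      (Subgroup.normalizer ((D : Subgroup G) : Set G)).index := D.card_eq_index_normalizer
  have hs2 : Nat.card (Sylow 7 G) ≡ 1 [MOD 7] := card_sylow_modEq_one 7 G
  have hs3 := Subgroup.card_mul_index (Subgroup.normalizer ((D : Subgroup G) : Set G))
  rw [← hs1, hcard] at hs3
  have hmod : Nat.card (Sylow 7 G) % 7 = 1 := hs2
  have hN42 : Nat.card ↥(Subgroup.normalizer ((D : Subgroup G) : Set G)) = 42 := by
    generalize Nat.card ↥(Subgroup.normalizer ((D : Subgroup G) : Set G)) = n at hcl hs3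
    generalize Nat.card {v : G // ∃ k ∈ Subgroup.normalizer ((D : Subgroup G) : Set G),
        k * d * k⁻¹ = v} = k at hcl hle6 hge1
    generalize Nat.card (Sylow 7 G) = s at hs3 hmod
    subst hcl
    interval_cases k <;> omega
  refine ⟨hCD, hN42, ?_⟩
  intro hcomm
  have hle : Subgroup.normalizer ((D : Subgroup G) : Set G) ≤
      Subgroup.centralizer ({d} : Set G) := by
    intro x hx
    rw [mem_cent_iff]
    have := hcomm.is_comm.comm (⟨x, hx⟩ : ↥(Subgroup.normalizer ((D : Subgroup G) : Set G)))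
      ⟨d, hdN⟩
    exact congrArg Subtype.val this
  have := Subgroup.card_le_of_le hle
  rw [hN42, hC7] at this
  omega

end Cfsg.Agent.Lib.Helper14.J2Sep
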