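import Mathlib
import Cfsg.Agent.Lib.Helper14.J2SepA

/-!
helper14: S1724, part B: the orders of the centralizers of the elements of order 2, 3 and 5 in a
group of Hall–Janko type, and the assembly.
-/

set_option autoImplicit false
open scoped commutatorElement

namespace Cfsg.Agent.Lib.Helper14.J2Sep

open Cfsg.Agent.Lib.Helper14.EO2 Cfsg.Agent.Lib.Helper14.LES Cfsg.Agent.Lib.Helper20.ES
open Cfsg.Agent.Lib.Helper14.J2Ord Cfsg.Agent.Lib.Helper14.J2Rec Cfsg.Agent.Lib.Helper14.J2Syl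
open Cfsg.Agent.Lib.Helper14.J2Tri

variable {G : Type*} [Group G] [Finite G]

/-- conjugate elements have centralizers of the same order -/
theorem card_cent_of_isConj {x y : G} (h : IsConj x y) :
    Nat.card ↥(Subgroup.centralizer ({y} : Set G)) =
      Nat.card ↥(Subgroup.centralizer ({x} : Set G)) := by
  obtain ⟨g, hg⟩ := isConj_iff.mp h
  rw [← hg]
  exact card_centralizer_conj g x

variable {z t : G} {V B : Subgroup G} {b f : G}
  {π : ↥(Subgroup.centralizer ({f} : Set G)) →* alternatingGroup (Fin 5)} {P : Sylow 5 G}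
  {l ρ τ : G} {P₃ : Sylow 3 G}

/-- centralizers of elements of order 5 -/
theorem card_cent_five (S : L5 z t V B b f π P l) (c : G) (hc5 : orderOf c = 5) :
    Nat.card ↥(Subgroup.centralizer ({c} : Set G)) = 300 ∨
      Nat.card ↥(Subgroup.centralizer ({c} : Set G)) = 50 := by
  haveI : Fact (Nat.Prime 5) := ⟨by norm_num⟩
  have hF := S.base.base
  have hc1 : c ≠ 1 := by
    intro h; rw [h, orderOf_one] at hc5; omega
  have hcp : IsPGroup 5 ↥(Subgroup.zpowers c) :=
    IsPGroup.of_card (n := 1) (by rw [Nat.card_zpowers, hc5, pow_one])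
  obtain ⟨P', hP'⟩ := hcp.exists_le_sylow
  obtain ⟨g, hg⟩ := MulAction.exists_smul_eq G P P'
  have hmem : ∀ x : G, x ∈ (P' : Subgroup G) ↔ g⁻¹ * x * g ∈ (P : Subgroup G) := by
    intro x
    rw [← hg, Sylow.coe_subgroup_smul, Subgroup.mem_pointwise_smul_iff_inv_smul_mem,
      MulAut.smul_def, ← map_inv, MulAut.conj_apply, inv_inv]
  have hv : g⁻¹ * c * g ∈ (P : Subgroup G) := (hmem c).mp (hP' (Subgroup.mem_zpowers c))
  have hv1 : g⁻¹ * c * g ≠ 1 := by
    intro h
    apply hc1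
    calc c = g * (g⁻¹ * c * g) * g⁻¹ := by group
      _ = 1 := by rw [h]; group
  obtain ⟨k, -, hk⟩ := S.key.2 _ hv hv1
  have hcalc : ∀ x : G, k * x * k⁻¹ = g⁻¹ * c * g →
      Nat.card ↥(Subgroup.centralizer ({c} : Set G)) =
        Nat.card ↥(Subgroup.centralizer ({x} : Set G)) := by
    intro x hx
    have : (g * k) * x * (g * k)⁻¹ = c := by
      calc (g * k) * x * (g * k)⁻¹ = g * (k * x * k⁻¹) * g⁻¹ := by group
        _ = c := by rw [hx]; group
    rw [← this]
    exact card_centralizer_conj (g * k) x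
  rcases hk with h | h | h | h
  · left; rw [hcalc _ h, S.base.card_cent_f]
  · left; rw [hcalc _ h, cent_sq_eq hF.f5', S.base.card_cent_f]
  · right; rw [hcalc _ h, S.card_cent_l]
  · right; rw [hcalc _ h, cent_sq_eq S.l5', S.card_cent_l]

/-- centralizers of elements of order 3 -/
theorem card_cent_three (S : R3P z t V B b f π P l ρ τ P₃) (c : G) (hc3 : orderOf c = 3) :
    Nat.card ↥(Subgroup.centralizer ({c} : Set G)) = 1080 ∨
      Nat.card ↥(Subgroup.centralizer ({c} : Set G)) = 36 := by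
  obtain ⟨-, -, -, a, b', ha, hb, hab, hall⟩ := S.final P₃
  -- `ρ` and `τ` are conjugate to `a` and `b'`, in some order
  have hρ := hall ρ S.base.ρ3
  have hτ := hall τ S.base.τ3
  have hρτ : ¬ IsConj ρ τ := by
    intro h
    have := card_cent_of_isConj h
    rw [S.base.card_cent_τ', S.card_cent_ρ] at this
    omega
  have key : ∀ x : G, IsConj c x → (IsConj ρ x ∨ IsConj τ x) →
      Nat.card ↥(Subgroup.centralizer ({c} : Set G)) = 1080 ∨
        Nat.card ↥(Subgroup.centralizer ({c} : Set G)) = 36 := by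
    intro x hcx h
    rcases h with h | h
    · left
      rw [← card_cent_of_isConj hcx, card_cent_of_isConj h, S.card_cent_ρ]
    · right
      rw [← card_cent_of_isConj hcx, card_cent_of_isConj h, S.base.card_cent_τ']
  rcases hall c hc3 with hca | hcb
  · apply key a hca
    rcases hρ with h | h
    · left; exact h
    · rcases hτ with h' | h'
      · right; exact h'
      · exact absurd (h.trans h'.symm) hρτ
  · apply key b' hcb
    rcases hρ with h | h
    · rcases hτ with h' | h'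
      · exact absurd (h.trans h'.symm) hρτ
      · right; exact h'
    · left; exact h

/-- the Sylow 7-structure from the hypotheses of the statement -/
theorem main (z : G) (hz : orderOf z = 2)
    (Q : Subgroup ↥(Subgroup.centralizer ({z} : Set G))) [Q.Normal]
    (hF : Cfsg.generalizedFittingSubgroup ↥(Subgroup.centralizer ({z} : Set G)) = Q)
    (hQ : Cfsg.IsExtraspecial 2 ↥Q) (hcard : Nat.card ↥Q = 2 ^ 5)
    (e : ↥(Subgroup.centralizer ({z} : Set G)) ⧸ Q ≃*
      ↥(Cfsg.Omega (ZMod 2) (Cfsg.quadFormMinus 1 (ZMod 2) 1 1)))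
    (hnwc : ∃ g : G, (∃ hq : g * z * g⁻¹ ∈ Subgroup.centralizer ({z} : Set G),
      (⟨g * z * g⁻¹, hq⟩ : ↥(Subgroup.centralizer ({z} : Set G))) ∈ Q) ∧ g * z * g⁻¹ ≠ z)
    (hcl : ∃ x y : G, orderOf x = 2 ∧ orderOf y = 2 ∧ ¬ IsConj x y) (D : Sylow 7 G) :
    Subgroup.centralizer ((D : Subgroup G) : Set G) = D ∧
    Nat.card ↥(Subgroup.normalizer ((D : Subgroup G) : Set G)) = 42 ∧
    ¬ IsMulCommutative ↥(Subgroup.normalizer ((D : Subgroup G) : Set G)) := by
  have S := za5_of_statement z hz Q hF hQ hcard e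
  have hc5 := c5_of_statement z hz Q hF hQ hcard e
  have hd3 := d3_of_statement z hz Q hF hQ hcard e
  have hnwc' : ∃ g : G, g * z * g⁻¹ ∈ Q.map (Subgroup.centralizer ({z} : Set G)).subtype ∧
      g * z * g⁻¹ ≠ z := by
    obtain ⟨g, ⟨hq, hqQ⟩, hne⟩ := hnwc
    exact ⟨g, ⟨⟨_, hq⟩, hqQ, rfl⟩, hne⟩
  obtain ⟨t, hgp, hall⟩ := S.exists_GP hnwc' hcl
  obtain ⟨V, B, hT, hV4, hVz, hBn, hVc, -, -, hCt⟩ := hgp.structure_thm hall
  have hTS : TS z t V B := ⟨hT, hV4, hVz, hBn, hVc, hCt⟩
  obtain ⟨b, f, hF5⟩ := exists_F5 hTS hc5 (hgp.order hall)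
  obtain ⟨π, P, l, hL⟩ := exists_L5 hF5
  obtain ⟨ρ, τ, hR⟩ := exists_R3 hL hd3
  obtain ⟨P₃, hRP⟩ := hR.exists_R3P
  apply sylow_seven (hgp.order hall) _ (card_cent_three hRP) (card_cent_five hL) D
  intro x hx
  rcases hall x hx with h | h
  · left; rw [card_cent_of_isConj h, S.cardH]
  · right; rw [card_cent_of_isConj h, hCt]

end Cfsg.Agent.Lib.Helper14.J2Sep
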