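import Cfsg.Agent.Lib.Helper10.SWGlue

set_option autoImplicit false

/-!
Normal forms from a verified stabiliser chain: every element of the group is the product of one
transversal word per level.
-/

namespace Cfsg.Agent.Lib.Helper14.J2

open Cfsg.Agent.Lib.Helper10.SW MulAction

/-- the transversal words of a level -/
def lvlWords (n : ℕ) (L : Lvl) : List (List ℕ) :=
  (orbList n L).flatMap fun p =>
    match pathOf L.tree fuel p with
    | some (_, w) => [codes L.moves w]
    | none => []

/-- the normal forms of a chain: one transversal word per level -/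
def nfWords (n : ℕ) : List Lvl → List (List ℕ)
  | [] => [[]]
  | L :: rest => (lvlWords n L).flatMap fun u => (nfWords n rest).map fun v => u ++ v

/-- the chain invariant for a chain and all its tails -/
def AllInv (n : ℕ) (RB : List ℕ) (Gtop : Subgroup (Equiv.Perm (Fin n))) : List Lvl → Prop
  | [] => True
  | L :: rest => ChainInv n RB Gtop (L :: rest) ∧ AllInv n RB Gtop rest

theorem mem_nfWords {n : ℕ} {RB : List ℕ} {Gtop : Subgroup (Equiv.Perm (Fin n))} :
    ∀ Ls : List Lvl, AllInv n RB Gtop Ls → ∀ h ∈ grp n (allGens Ls),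
      ∃ W ∈ nfWords n Ls, h = prodL n W ∧
        ∀ c ∈ W, Valid n c ∧ perm n c ∈ grp n (allGens Ls) := by
  intro Ls
  induction Ls with
  | nil =>
    intro _ h hh
    refine ⟨[], List.mem_cons_self, ?_, fun c hc => absurd hc List.not_mem_nil⟩
    have : grp n (allGens []) = ⊥ := grp_nil n
    rw [this, Subgroup.mem_bot] at hh
    rw [hh, prodL_nil]
  | cons L rest ih =>
    intro hall h hh
    obtain ⟨inv, hrest⟩ := hall
    have hb := (inv.fixb L rest rfl).1
    have hsome := inv.orbmem L rest rfl hb h hh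
    obtain ⟨w, hw, hwl, hev, hcodes⟩ :=
      inv.orb L rest rfl (h ⟨L.b, hb⟩).val (h ⟨L.b, hb⟩).isLt hsome
    have hcv : ∀ c ∈ codes L.moves w, Valid n c ∧ perm n c ∈ grp n (allGens (L :: rest)) :=
      fun c hc => hcodes c (List.mem_append_left _ hc)
    set u := prodL n (codes L.moves w) with hu
    have huG : u ∈ grp n (allGens (L :: rest)) := prodL_mem fun c hc => (hcv c hc).2
    have hub : u ⟨L.b, hb⟩ = h ⟨L.b, hb⟩ := by
      apply Fin.ext
      rw [hu, prodL_apply_val _ (fun c hc => (hcv c hc).1)]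
      exact hev
    have h'G : u⁻¹ * h ∈ grp n (allGens (L :: rest)) :=
      Subgroup.mul_mem _ (Subgroup.inv_mem _ huG) hh
    have h'b : (u⁻¹ * h) ⟨L.b, hb⟩ = ⟨L.b, hb⟩ := by
      rw [Equiv.Perm.mul_apply, ← hub]; exact u.symm_apply_apply _
    have h'R := inv.stab L rest rfl hb _ h'G h'b
    obtain ⟨W', hW', hprod, hval⟩ := ih hrest _ h'R
    refine ⟨codes L.moves w ++ W', ?_, ?_, ?_⟩
    · show codes L.moves w ++ W' ∈ (lvlWords n L).flatMap fun u => (nfWords n rest).map fun v => u ++ v
      rw [List.mem_flatMap]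
      refine ⟨codes L.moves w, ?_, List.mem_map.mpr ⟨W', hW', rfl⟩⟩
      unfold lvlWords
      rw [List.mem_flatMap]
      refine ⟨(h ⟨L.b, hb⟩).val, ?_, ?_⟩
      · unfold orbList
        rw [List.mem_filter]
        exact ⟨List.mem_range.mpr (h ⟨L.b, hb⟩).isLt, hsome⟩
      · rw [hw]
        exact List.mem_cons_self
    · rw [prodL_append, ← hprod, ← hu, mul_inv_cancel_left]
    · intro c hc
      rcases List.mem_append.mp hc with hc | hc
      · exact hcv c hc
      · exact ⟨(hval c hc).1, grp_mono (allGens_sub_cons L rest) (hval c hc).2⟩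

end Cfsg.Agent.Lib.Helper14.J2
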