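import Cfsg.Agent.Lib.Helper14.J2Sp1
import Cfsg.Agent.Lib.Helper14.J2Y

set_option autoImplicit false

/-!
The Hall–Janko group on 315 points: kernel checks of the orders of the elements, by coset
representatives of the point stabiliser up to conjugacy.
-/

namespace Cfsg.Agent.Lib.Helper14.J2

open Cfsg.Agent.Lib.Helper10.SW

/-- some power of the word with exponent in `10, 12, 8, 7, 15` fixes the rigidity points -/
def spOK (n : ℕ) (RB : List ℕ) (W : List ℕ) : Bool :=
  [10, 12, 8, 7, 15].any fun m => RB.all fun x => evalL n (List.replicate m W).flatten x == x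

set_option maxRecDepth 1000000 in
set_option maxHeartbeats 4000000 in
theorem sp_ok0 : ((nfWords 315 [lv1, lv2, lv3]).all fun W => spOK 315 rbPts W) = true := by
  decide +kernel

set_option maxRecDepth 1000000 in
set_option maxHeartbeats 4000000 in
theorem sp_ok1 :
    ((nfWords 315 [lv1, lv2, lv3]).all fun W => spOK 315 rbPts (cA1 :: W)) = true := by
  decide +kernel

end Cfsg.Agent.Lib.Helper14.J2
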