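import Cfsg.Agent.Lib.Helper14.J2Sp2

set_option autoImplicit false

/-!
The Hall–Janko group on 315 points: kernel checks of the orders of the elements (continued).
-/

namespace Cfsg.Agent.Lib.Helper14.J2

open Cfsg.Agent.Lib.Helper10.SW

set_option maxRecDepth 1000000 in
set_option maxHeartbeats 4000000 in
theorem sp_ok4 :
    ((nfWords 315 [lv1, lv2, lv3]).all fun W => spOK 315 rbPts (cA4 :: W)) = true := by
  decide +kernel

set_option maxRecDepth 1000000 in
set_option maxHeartbeats 4000000 in
theorem sp_ok5 :
    ((nfWords 315 [lv1, lv2, lv3]).all fun W => spOK 315 rbPts (cA5 :: W)) = true := by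
  decide +kernel

end Cfsg.Agent.Lib.Helper14.J2
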