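import Cfsg.Agent.Lib.Helper14.J2Sp3
import Cfsg.Agent.Lib.Helper14.J2Sp4
import Cfsg.Agent.Lib.Helper14.J2Xb

set_option autoImplicit false
set_option linter.style.haveILetI false

/-!
The Hall–Janko group on 315 points: the orders of the elements are `1, …, 8, 10, 12, 15`.
-/

namespace Cfsg.Agent.Lib.Helper14.J2

open Cfsg.Agent.Lib.Helper10.SW MulAction

attribute [local irreducible] perm

/-- the element orders of the Hall–Janko group -/
def specL : List ℕ := [1, 2, 3, 4, 5, 6, 7, 8, 10, 12, 15]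

theorem divisors_spec : ∀ m ∈ [10, 12, 8, 7, 15], ∀ k ∈ Nat.divisors m, k ∈ specL := by decide

theorem spOK_sound {W : List ℕ} (hW : ∀ c ∈ W, Valid 315 c ∧ perm 315 c ∈ autGroup 315 gam)
    (h : spOK 315 rbPts W = true) : orderOf (prodL 315 W) ∈ specL := by
  unfold spOK at h
  rw [List.any_eq_true] at h
  obtain ⟨m, hm, hall⟩ := h
  have hL : ∀ c ∈ (List.replicate m W).flatten, Valid 315 c ∧ perm 315 c ∈ autGroup 315 gam := by
    intro c hc
    rw [List.mem_flatten] at hc
    obtain ⟨l, hl, hc⟩ := hc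
    rw [List.eq_of_mem_replicate hl] at hc
    exact hW c hc
  have h1 := prodL_eq_one_of_rigid rigid5 hL hall
  rw [prodL_flatten_replicate] at h1
  have hdvd : orderOf (prodL 315 W) ∣ m := orderOf_dvd_of_pow_eq_one h1
  have hm0 : m ≠ 0 := by
    intro h0
    rw [h0] at hm
    simp at hm
  exact divisors_spec m hm _ (Nat.mem_divisors.mpr ⟨hdvd, hm0⟩)

theorem htop2 : ∀ c ∈ allGens [lv2, lv3], perm 315 c ∈ autGroup 315 gam :=
  fun c hc => htop1 c (allGens_sub_cons lv1 _ c hc)

theorem htop3 : ∀ c ∈ allGens [lv3], perm 315 c ∈ autGroup 315 gam :=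
  fun c hc => htop2 c (allGens_sub_cons lv2 _ c hc)

theorem inv2 : ChainInv 315 rbPts (autGroup 315 gam) [lv2, lv3] :=
  chain_sound 315 rbPts _ rigid5 _ htop2 chain2

theorem inv3 : ChainInv 315 rbPts (autGroup 315 gam) [lv3] :=
  chain_sound 315 rbPts _ rigid5 _ htop3 chain3

theorem allInv1 : AllInv 315 rbPts (autGroup 315 gam) [lv1, lv2, lv3] :=
  ⟨inv1, inv2, inv3, trivial⟩

/-- every element of the point stabiliser is a normal form -/
theorem KJ_nf {h : Equiv.Perm (Fin 315)} (hh : h ∈ KJ) :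
    ∃ W ∈ nfWords 315 [lv1, lv2, lv3], h = prodL 315 W ∧
      ∀ c ∈ W, Valid 315 c ∧ perm 315 c ∈ autGroup 315 gam := by
  obtain ⟨W, hW, e, hv⟩ := mem_nfWords _ allInv1 h hh
  refine ⟨W, hW, e, fun c hc => ⟨(hv c hc).1, ?_⟩⟩
  exact PJ_le_aut (KJ_le_PJ (hv c hc).2)

/-- the checks of the cosets, together -/
theorem sp_roots : ∀ e ∈ rootsA, ∀ W ∈ nfWords 315 [lv1, lv2, lv3],
    spOK 315 rbPts (e.2.1 :: W) = true := by
  intro e he W hW
  unfold rootsA at he
  rcases List.mem_cons.mp he with rfl | he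
  · exact List.all_eq_true.mp sp_ok1 W hW
  rcases List.mem_cons.mp he with rfl | he
  · exact List.all_eq_true.mp sp_ok2 W hW
  rcases List.mem_cons.mp he with rfl | he
  · exact List.all_eq_true.mp sp_ok3 W hW
  rcases List.mem_cons.mp he with rfl | he
  · exact List.all_eq_true.mp sp_ok4 W hW
  rcases List.mem_cons.mp he with rfl | he
  · exact List.all_eq_true.mp sp_ok5 W hW
  exact absurd he List.not_mem_nil

theorem orderOf_conj' {G : Type*} [Group G] (k g : G) : orderOf (k * g * k⁻¹) = orderOf g := by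
  have := (MulAut.conj k).orderOf_eq g
  rwa [MulAut.conj_apply] at this

/-- the orders of the elements of the group -/
theorem order_mem {g : Equiv.Perm (Fin 315)} (hg : g ∈ PJ) : orderOf g ∈ specL := by
  by_cases hfix : g v0 = v0
  · have hK : g ∈ KJ := by
      rw [← stabP]
      exact Subgroup.mem_inf.mpr ⟨hg, mem_stabilizer_iff.mpr hfix⟩
    obtain ⟨W, hW, e, hv⟩ := KJ_nf hK
    rw [e]
    exact spOK_sound hv (List.all_eq_true.mp sp_ok0 W hW)
  · obtain ⟨r, w, hpath, hr⟩ := coverChk_sound v0 (K := PJ) (dom := fun _ => true)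
      (fun _ _ => rfl) coverA g hg hfix
    obtain ⟨e, he, rfl⟩ := List.mem_map.mp hr
    obtain ⟨hv, hvi, hinv, heP, hey, -, -⟩ := rootsA_ok e he
    -- an element of the stabiliser mapping the root to `g v0`
    obtain ⟨hr', k, hk, hkr⟩ := Cfsg.Agent.Lib.Helper10.SW.exists_of_path forestA moves1
      (g v0).isLt hpath
    have hkP : k ∈ PJ := KJ_le_PJ hk
    have hkfix : k v0 = v0 := by
      have : k ∈ PJ ⊓ stabilizer (Equiv.Perm (Fin 315)) v0 := by rw [stabP]; exact hk
      exact mem_stabilizer_iff.mp (Subgroup.mem_inf.mp this).2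
    -- the conjugate maps the base point to the root
    set g' := k⁻¹ * g * k⁻¹⁻¹ with hg'
    have hg'P : g' ∈ PJ :=
      PJ.mul_mem (PJ.mul_mem (PJ.inv_mem hkP) hg) (PJ.inv_mem (PJ.inv_mem hkP))
    have ht : perm 315 e.2.1 v0 = ⟨e.1, hr'⟩ := by
      apply Fin.ext
      rw [perm_apply_val hv]
      exact hey
    have hg'v : g' v0 = ⟨e.1, hr'⟩ := by
      rw [hg', inv_inv, Equiv.Perm.mul_apply, Equiv.Perm.mul_apply, hkfix]
      rw [Equiv.Perm.inv_eq_iff_eq, hkr]
    have hK : (perm 315 e.2.1)⁻¹ * g' ∈ KJ := by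
      rw [← stabP]
      refine Subgroup.mem_inf.mpr ⟨PJ.mul_mem (PJ.inv_mem heP) hg'P, ?_⟩
      rw [mem_stabilizer_iff]
      show ((perm 315 e.2.1)⁻¹ * g') v0 = v0
      rw [Equiv.Perm.mul_apply, hg'v, ← ht]
      exact (perm 315 e.2.1).symm_apply_apply v0
    obtain ⟨W, hW, eW, hvW⟩ := KJ_nf hK
    have hprod : g' = prodL 315 (e.2.1 :: W) := by
      rw [prodL_cons, ← eW, mul_inv_cancel_left]
    have hord : orderOf g = orderOf g' := (orderOf_conj' k⁻¹ g).symm
    rw [hord, hprod]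
    apply spOK_sound _ (sp_roots e he W hW)
    intro c hc
    rcases List.mem_cons.mp hc with rfl | hc
    · exact ⟨hv, PJ_le_aut heP⟩
    · exact hvW c hc

end Cfsg.Agent.Lib.Helper14.J2
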