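import Cfsg.Agent.Lib.Helper14.J2Sp5

set_option autoImplicit false
set_option linter.style.haveILetI false

/-!
The Hall–Janko group on 315 points: elements of each of the orders `1, …, 8, 10, 12, 15`.
-/

namespace Cfsg.Agent.Lib.Helper14.J2

open Cfsg.Agent.Lib.Helper10.SW MulAction

attribute [local irreducible] perm

theorem prodL_top_mem {W : List ℕ} (hW : ∀ c ∈ W, c ∈ topGens) : prodL 315 W ∈ PJ :=
  prodL_mem fun c hc => perm_mem_PJ (hW c hc)

/-- the order of a word in the generators, from evaluations -/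
theorem word_order {W : List ℕ} (hW : ∀ c ∈ W, c ∈ topGens) {n : ℕ} (hn : 0 < n)
    (h1 : (rbPts.all fun x => evalL 315 (List.replicate n W).flatten x == x) = true)
    (h2 : ∀ p, p.Prime → p ∣ n →
      ∃ x : Fin 315, evalL 315 (List.replicate (n / p) W).flatten x.val ≠ x.val) :
    orderOf (prodL 315 W) = n := by
  have hL : ∀ m, ∀ d ∈ (List.replicate m W).flatten, d ∈ topGens := by
    intro m d hd
    rw [List.mem_flatten] at hd
    obtain ⟨l, hl, hd⟩ := hd
    rw [List.eq_of_mem_replicate hl] at hd
    exact hW d hd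
  apply orderOf_eq_of_pow_and_pow_div_prime hn
  · rw [← prodL_flatten_replicate]
    exact prodL_one (hL n) h1
  · intro p hp hd h
    obtain ⟨x, hx⟩ := h2 p hp hd
    apply hx
    rw [← prodL_flatten_replicate] at h
    rw [← prodL_apply_val _ (fun c hc => valid_top (hL _ c hc)), h]
    rfl

/-- words for the orders 7, 8, 10, 12, 15 -/
def wd7 : List ℕ := [c0, c1, c0, c2, c3]
/-- word of order 8 -/
def wd8 : List ℕ := [c0, c1, c2]
/-- word of order 10 -/
def wd10 : List ℕ := [c0, c1, c3]
/-- word of order 12 -/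
def wd12 : List ℕ := [c1, c2, c3, c1, c3]
/-- word of order 15 -/
def wd15 : List ℕ := [c1, c2, c3]

set_option maxRecDepth 100000 in
theorem wd_top : ∀ W ∈ [wd7, wd8, wd10, wd12, wd15], ∀ c ∈ W, c ∈ topGens := by decide +kernel

set_option maxRecDepth 1000000 in
theorem wd7_one :
    (rbPts.all fun x => evalL 315 (List.replicate 7 wd7).flatten x == x) = true := by
  decide +kernel

set_option maxRecDepth 1000000 in
theorem wd8_one :
    (rbPts.all fun x => evalL 315 (List.replicate 8 wd8).flatten x == x) = true := by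
  decide +kernel

set_option maxRecDepth 1000000 in
theorem wd10_one :
    (rbPts.all fun x => evalL 315 (List.replicate 10 wd10).flatten x == x) = true := by
  decide +kernel

set_option maxRecDepth 1000000 in
theorem wd12_one :
    (rbPts.all fun x => evalL 315 (List.replicate 12 wd12).flatten x == x) = true := by
  decide +kernel

set_option maxRecDepth 1000000 in
theorem wd15_one :
    (rbPts.all fun x => evalL 315 (List.replicate 15 wd15).flatten x == x) = true := by
  decide +kernel

set_option maxRecDepth 1000000 in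
theorem wd7_ne : evalL 315 (List.replicate 1 wd7).flatten 0 ≠ 0 := by decide +kernel

set_option maxRecDepth 1000000 in
theorem wd8_ne : evalL 315 (List.replicate 4 wd8).flatten 0 ≠ 0 := by decide +kernel

set_option maxRecDepth 1000000 in
theorem wd10_ne2 : evalL 315 (List.replicate 5 wd10).flatten 0 ≠ 0 := by decide +kernel

set_option maxRecDepth 1000000 in
theorem wd10_ne5 : evalL 315 (List.replicate 2 wd10).flatten 1 ≠ 1 := by decide +kernel

set_option maxRecDepth 1000000 in
theorem wd12_ne2 : evalL 315 (List.replicate 6 wd12).flatten 0 ≠ 0 := by decide +kernel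

set_option maxRecDepth 1000000 in
theorem wd12_ne3 : evalL 315 (List.replicate 4 wd12).flatten 0 ≠ 0 := by decide +kernel

set_option maxRecDepth 1000000 in
theorem wd15_ne3 : evalL 315 (List.replicate 5 wd15).flatten 0 ≠ 0 := by decide +kernel

set_option maxRecDepth 1000000 in
theorem wd15_ne5 : evalL 315 (List.replicate 3 wd15).flatten 0 ≠ 0 := by decide +kernel

theorem wd7_top : ∀ c ∈ wd7, c ∈ topGens := wd_top wd7 (by simp)
theorem wd8_top : ∀ c ∈ wd8, c ∈ topGens := wd_top wd8 (by simp)
theorem wd10_top : ∀ c ∈ wd10, c ∈ topGens := wd_top wd10 (by simp)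
theorem wd12_top : ∀ c ∈ wd12, c ∈ topGens := wd_top wd12 (by simp)
theorem wd15_top : ∀ c ∈ wd15, c ∈ topGens := wd_top wd15 (by simp)

theorem order_wd7 : orderOf (prodL 315 wd7) = 7 := by
  apply word_order wd7_top (by norm_num) wd7_one
  intro p hp hd
  have hle : p ≤ 7 := Nat.le_of_dvd (by norm_num) hd
  have hcases : p = 7 := by
    interval_cases p
    all_goals first
      | (norm_num at hp; done)
      | (norm_num at hd; done)
      | exact rfl
  subst hcases
  exact ⟨⟨0, by norm_num⟩, wd7_ne⟩

theorem order_wd8 : orderOf (prodL 315 wd8) = 8 := by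
  apply word_order wd8_top (by norm_num) wd8_one
  intro p hp hd
  have hle : p ≤ 8 := Nat.le_of_dvd (by norm_num) hd
  have hcases : p = 2 := by
    interval_cases p
    all_goals first
      | (norm_num at hp; done)
      | (norm_num at hd; done)
      | exact rfl
  subst hcases
  exact ⟨⟨0, by norm_num⟩, wd8_ne⟩

theorem order_wd10 : orderOf (prodL 315 wd10) = 10 := by
  apply word_order wd10_top (by norm_num) wd10_one
  intro p hp hd
  have hle : p ≤ 10 := Nat.le_of_dvd (by norm_num) hd
  have hcases : p = 2 ∨ p = 5 := by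
    interval_cases p
    all_goals first
      | (norm_num at hp; done)
      | (norm_num at hd; done)
      | exact Or.inl rfl
      | exact Or.inr rfl
  rcases hcases with rfl | rfl
  · exact ⟨⟨0, by norm_num⟩, wd10_ne2⟩
  · exact ⟨⟨1, by norm_num⟩, wd10_ne5⟩

theorem order_wd12 : orderOf (prodL 315 wd12) = 12 := by
  apply word_order wd12_top (by norm_num) wd12_one
  intro p hp hd
  have hle : p ≤ 12 := Nat.le_of_dvd (by norm_num) hd
  have hcases : p = 2 ∨ p = 3 := by
    interval_cases p
    all_goals first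
      | (norm_num at hp; done)
      | (norm_num at hd; done)
      | exact Or.inl rfl
      | exact Or.inr rfl
  rcases hcases with rfl | rfl
  · exact ⟨⟨0, by norm_num⟩, wd12_ne2⟩
  · exact ⟨⟨0, by norm_num⟩, wd12_ne3⟩

theorem order_wd15 : orderOf (prodL 315 wd15) = 15 := by
  apply word_order wd15_top (by norm_num) wd15_one
  intro p hp hd
  have hle : p ≤ 15 := Nat.le_of_dvd (by norm_num) hd
  have hcases : p = 3 ∨ p = 5 := by
    interval_cases p
    all_goals first
      | (norm_num at hp; done)
      | (norm_num at hd; done)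
      | exact Or.inl rfl
      | exact Or.inr rfl
  rcases hcases with rfl | rfl
  · exact ⟨⟨0, by norm_num⟩, wd15_ne3⟩
  · exact ⟨⟨0, by norm_num⟩, wd15_ne5⟩

theorem order_pow_of {G : Type*} [Group G] {g : G} {m : ℕ} (h : orderOf g = m) (k : ℕ)
    (hk : k ≠ 0) (hd : k ∣ m) : orderOf (g ^ k) = m / k := by
  rw [orderOf_pow_of_dvd hk (by rw [h]; exact hd), h]

/-- every order in the list occurs -/
theorem exists_order : ∀ n ∈ specL, ∃ g ∈ PJ, orderOf g = n := by
  intro n hn
  unfold specL at hn
  simp only [List.mem_cons, List.not_mem_nil, or_false] at hn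
  have m12 := prodL_top_mem wd12_top
  have m15 := prodL_top_mem wd15_top
  rcases hn with rfl | rfl | rfl | rfl | rfl | rfl | rfl | rfl | rfl | rfl | rfl
  · exact ⟨1, PJ.one_mem, orderOf_one⟩
  · exact ⟨_, PJ.pow_mem m12 6, order_pow_of order_wd12 6 (by norm_num) (by norm_num)⟩
  · exact ⟨_, PJ.pow_mem m12 4, order_pow_of order_wd12 4 (by norm_num) (by norm_num)⟩
  · exact ⟨_, PJ.pow_mem m12 3, order_pow_of order_wd12 3 (by norm_num) (by norm_num)⟩
  · exact ⟨_, PJ.pow_mem m15 3, order_pow_of order_wd15 3 (by norm_num) (by norm_num)⟩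
  · exact ⟨_, PJ.pow_mem m12 2, order_pow_of order_wd12 2 (by norm_num) (by norm_num)⟩
  · exact ⟨_, prodL_top_mem wd7_top, order_wd7⟩
  · exact ⟨_, prodL_top_mem wd8_top, order_wd8⟩
  · exact ⟨_, prodL_top_mem wd10_top, order_wd10⟩
  · exact ⟨_, m12, order_wd12⟩
  · exact ⟨_, m15, order_wd15⟩

/-- the set of element orders of the permutation group -/
theorem range_orderOf_PJ : Set.range (orderOf : ↥PJ → ℕ) = {n | n ∈ specL} := by
  ext n
  constructor
  · rintro ⟨g, rfl⟩
    rw [← Subgroup.orderOf_coe]
    exact order_mem g.2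
  · intro hn
    obtain ⟨g, hg, rfl⟩ := exists_order n hn
    exact ⟨⟨g, hg⟩, Subgroup.orderOf_mk g hg⟩

end Cfsg.Agent.Lib.Helper14.J2
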