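import Mathlib

set_option autoImplicit false

/-!
The element orders of the symmetric group of degree 8 are `1, …, 8, 10, 12, 15`.
-/

namespace Cfsg.Agent.Lib.Helper14.J2

/-- all least common multiples of the lists of numbers at least 2 with sum at most `s` -/
def reach : ℕ → ℕ → List ℕ
  | 0, _ => [1]
  | k + 1, s => 1 :: ((List.range (s + 1)).filter (2 ≤ ·)).flatMap
      (fun a => (reach k (s - a)).map (Nat.lcm a))

theorem lcm_mem_reach (m : Multiset ℕ) :
    (∀ a ∈ m, 2 ≤ a) → ∀ k s, m.sum ≤ s → s ≤ k → m.lcm ∈ reach k s := by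
  induction m using Multiset.induction_on with
  | empty =>
    intro _ k s _ _
    cases k <;> simp [reach]
  | cons a m ih =>
    intro h k s hs hk
    rw [Multiset.sum_cons] at hs
    rw [Multiset.lcm_cons]
    have ha : 2 ≤ a := h a (Multiset.mem_cons_self _ _)
    cases k with
    | zero => omega
    | succ k =>
      unfold reach
      apply List.mem_cons_of_mem
      rw [List.mem_flatMap]
      refine ⟨a, ?_, ?_⟩
      · rw [List.mem_filter, List.mem_range]
        refine ⟨by omega, ?_⟩
        simpa using ha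
      · rw [List.mem_map]
        exact ⟨m.lcm, ih (fun b hb => h b (Multiset.mem_cons_of_mem hb)) k (s - a)
          (by omega) (by omega), rfl⟩

/-- the element orders of the symmetric group of degree 8 -/
def specS : List ℕ := [1, 2, 3, 4, 5, 6, 7, 8, 10, 12, 15]

theorem reach_sub : ∀ n ∈ reach 8 8, n ∈ specS := by decide

theorem orderOf_mem_specS (σ : Equiv.Perm (Fin 8)) : orderOf σ ∈ specS := by
  rw [← Equiv.Perm.lcm_cycleType]
  apply reach_sub
  apply lcm_mem_reach _ (fun a ha => Equiv.Perm.two_le_of_mem_cycleType ha) 8 8 _ le_rfl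
  rw [Equiv.Perm.sum_cycleType]
  exact (Finset.card_le_univ _).trans (by simp)

/-- a permutation from the list of its values -/
def mkPerm (f g : Fin 8 → Fin 8) (h : ∀ x, g (f x) = x) (h' : ∀ x, f (g x) = x) :
    Equiv.Perm (Fin 8) := ⟨f, g, h, h'⟩

/-- a cycle of length 7 -/
def p7 : Equiv.Perm (Fin 8) :=
  mkPerm ![1, 2, 3, 4, 5, 6, 0, 7] ![6, 0, 1, 2, 3, 4, 5, 7] (by decide) (by decide)
/-- a cycle of length 8 -/
def p8 : Equiv.Perm (Fin 8) :=
  mkPerm ![1, 2, 3, 4, 5, 6, 7, 0] ![7, 0, 1, 2, 3, 4, 5, 6] (by decide) (by decide)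
/-- a permutation of order 10 -/
def p10 : Equiv.Perm (Fin 8) :=
  mkPerm ![1, 0, 3, 4, 5, 6, 2, 7] ![1, 0, 6, 2, 3, 4, 5, 7] (by decide) (by decide)
/-- a permutation of order 12 -/
def p12 : Equiv.Perm (Fin 8) :=
  mkPerm ![1, 2, 0, 4, 5, 6, 3, 7] ![2, 0, 1, 6, 3, 4, 5, 7] (by decide) (by decide)
/-- a permutation of order 15 -/
def p15 : Equiv.Perm (Fin 8) :=
  mkPerm ![1, 2, 0, 4, 5, 6, 7, 3] ![2, 0, 1, 7, 3, 4, 5, 6] (by decide) (by decide)

theorem pow_eq_one_of {σ : Equiv.Perm (Fin 8)} {n : ℕ} (h : ∀ x, (σ ^ n) x = x) : σ ^ n = 1 :=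
  Equiv.ext h

theorem order_p7 : orderOf p7 = 7 := by
  apply orderOf_eq_of_pow_and_pow_div_prime (by norm_num)
  · exact pow_eq_one_of (by decide)
  · intro p hp hd h
    have hle : p ≤ 7 := Nat.le_of_dvd (by norm_num) hd
    have h0 := congrArg (fun s : Equiv.Perm (Fin 8) => s 0) h
    have h3 := congrArg (fun s : Equiv.Perm (Fin 8) => s 3) h
    interval_cases p
    all_goals first
      | (norm_num at hp; done)
      | (norm_num at hd; done)
      | exact absurd h0 (by decide)
      | exact absurd h3 (by decide)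

theorem order_p8 : orderOf p8 = 8 := by
  apply orderOf_eq_of_pow_and_pow_div_prime (by norm_num)
  · exact pow_eq_one_of (by decide)
  · intro p hp hd h
    have hle : p ≤ 8 := Nat.le_of_dvd (by norm_num) hd
    have h0 := congrArg (fun s : Equiv.Perm (Fin 8) => s 0) h
    have h3 := congrArg (fun s : Equiv.Perm (Fin 8) => s 3) h
    interval_cases p
    all_goals first
      | (norm_num at hp; done)
      | (norm_num at hd; done)
      | exact absurd h0 (by decide)
      | exact absurd h3 (by decide)

theorem order_p10 : orderOf p10 = 10 := by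
  apply orderOf_eq_of_pow_and_pow_div_prime (by norm_num)
  · exact pow_eq_one_of (by decide)
  · intro p hp hd h
    have hle : p ≤ 10 := Nat.le_of_dvd (by norm_num) hd
    have h0 := congrArg (fun s : Equiv.Perm (Fin 8) => s 0) h
    have h3 := congrArg (fun s : Equiv.Perm (Fin 8) => s 3) h
    interval_cases p
    all_goals first
      | (norm_num at hp; done)
      | (norm_num at hd; done)
      | exact absurd h0 (by decide)
      | exact absurd h3 (by decide)

theorem order_p12 : orderOf p12 = 12 := by
  apply orderOf_eq_of_pow_and_pow_div_prime (by norm_num)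
  · exact pow_eq_one_of (by decide)
  · intro p hp hd h
    have hle : p ≤ 12 := Nat.le_of_dvd (by norm_num) hd
    have h0 := congrArg (fun s : Equiv.Perm (Fin 8) => s 0) h
    have h3 := congrArg (fun s : Equiv.Perm (Fin 8) => s 3) h
    interval_cases p
    all_goals first
      | (norm_num at hp; done)
      | (norm_num at hd; done)
      | exact absurd h0 (by decide)
      | exact absurd h3 (by decide)

theorem order_p15 : orderOf p15 = 15 := by
  apply orderOf_eq_of_pow_and_pow_div_prime (by norm_num)
  · exact pow_eq_one_of (by decide)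
  · intro p hp hd h
    have hle : p ≤ 15 := Nat.le_of_dvd (by norm_num) hd
    have h0 := congrArg (fun s : Equiv.Perm (Fin 8) => s 0) h
    have h3 := congrArg (fun s : Equiv.Perm (Fin 8) => s 3) h
    interval_cases p
    all_goals first
      | (norm_num at hp; done)
      | (norm_num at hd; done)
      | exact absurd h0 (by decide)
      | exact absurd h3 (by decide)

theorem order_pow_of' {G : Type*} [Group G] {g : G} {m : ℕ} (h : orderOf g = m) (k : ℕ)
    (hk : k ≠ 0) (hd : k ∣ m) : orderOf (g ^ k) = m / k := by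
  rw [orderOf_pow_of_dvd hk (by rw [h]; exact hd), h]

theorem exists_order_S8 : ∀ n ∈ specS, ∃ g : Equiv.Perm (Fin 8), orderOf g = n := by
  intro n hn
  unfold specS at hn
  simp only [List.mem_cons, List.not_mem_nil, or_false] at hn
  rcases hn with rfl | rfl | rfl | rfl | rfl | rfl | rfl | rfl | rfl | rfl | rfl
  · exact ⟨1, orderOf_one⟩
  · exact ⟨_, order_pow_of' order_p12 6 (by norm_num) (by norm_num)⟩
  · exact ⟨_, order_pow_of' order_p12 4 (by norm_num) (by norm_num)⟩
  · exact ⟨_, order_pow_of' order_p12 3 (by norm_num) (by norm_num)⟩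
  · exact ⟨_, order_pow_of' order_p15 3 (by norm_num) (by norm_num)⟩
  · exact ⟨_, order_pow_of' order_p12 2 (by norm_num) (by norm_num)⟩
  · exact ⟨_, order_p7⟩
  · exact ⟨_, order_p8⟩
  · exact ⟨_, order_p10⟩
  · exact ⟨_, order_p12⟩
  · exact ⟨_, order_p15⟩

/-- the set of element orders of the symmetric group of degree 8 -/
theorem range_orderOf_S8 :
    Set.range (orderOf : Equiv.Perm (Fin 8) → ℕ) = {n | n ∈ specS} := by
  ext n
  constructor
  · rintro ⟨g, rfl⟩
    exact orderOf_mem_specS g
  · intro hn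
    obtain ⟨g, rfl⟩ := exists_order_S8 n hn
    exact ⟨g, rfl⟩

end Cfsg.Agent.Lib.Helper14.J2
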