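import Cfsg.Agent.Lib.Helper14.J2S

set_option autoImplicit false

/-!
Icosian model, part T: the action of `twoJ2` on the 315 reflections by conjugation, as a
homomorphism to the symmetric group of degree 315; its kernel is the centre `{1, -1}`.
-/

namespace Cfsg.Agent.Lib.Helper14.J2

open Quaternion Cfsg.Spor ZQ V3

/-- the `i`-th normalized vector -/
def nl (i : ℕ) : V3 := normLit.getD i ⟨0, 0, 0⟩

theorem nl_mem {i : ℕ} (hi : i < 315) : nl i ∈ normLit := by
  unfold nl
  have hi' : i < normLit.length := by rw [normLit_length]; exact hi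
  rw [List.getD_eq_getElem _ _ hi']
  exact List.getElem_mem hi'

theorem nl_inj {i j : ℕ} (hi : i < 315) (hj : j < 315) (h : nl i = nl j) : i = j := by
  unfold nl at h
  have hi' : i < normLit.length := by rw [normLit_length]; exact hi
  have hj' : j < normLit.length := by rw [normLit_length]; exact hj
  rw [List.getD_eq_getElem _ _ hi', List.getD_eq_getElem _ _ hj'] at h
  exact (List.Nodup.getElem_inj_iff normLit_nodup).mp h

theorem exists_nl {w : V3} (hw : w ∈ normLit) : ∃ i, i < 315 ∧ nl i = w := by
  obtain ⟨i, hi, e⟩ := List.mem_iff_getElem.mp hw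
  refine ⟨i, by rw [← normLit_length]; exact hi, ?_⟩
  unfold nl
  rw [List.getD_eq_getElem _ _ hi]
  exact e

/-- the type of reflections -/
abbrev Refl : Type := {f : Equiv.Perm icoLeech // IsIcoReflection f}

/-- conjugates of reflections by elements of `twoJ2` are reflections -/
theorem conj_isIcoReflection {g : Equiv.Perm icoLeech} (hg : g ∈ twoJ2) {f : Equiv.Perm icoLeech}
    (hf : IsIcoReflection f) : IsIcoReflection (g * f * g⁻¹) := by
  obtain ⟨r, hr, rfl⟩ := (isIcoReflection_iff f).mp hf
  rw [(ext_of_mem_twoJ2 hg).conj_reflPerm r hr]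
  exact isIcoReflection_reflPerm _ _

/-- the enumeration of the reflections -/
noncomputable def reflEquiv : Fin 315 ≃ Refl :=
  Equiv.ofBijective (fun i => ⟨refl (nl i.val), isIcoReflection_refl (nl_mem i.isLt)⟩) (by
    constructor
    · intro i j h
      have h' : refl (nl i.val) = refl (nl j.val) := congrArg Subtype.val h
      exact Fin.ext (nl_inj i.isLt j.isLt (refl_injOn (nl_mem i.isLt) (nl_mem j.isLt) h'))
    · rintro ⟨f, hf⟩
      obtain ⟨w, hw, rfl⟩ := (isIcoReflection_iff_refl f).mp hf
      obtain ⟨i, hi, rfl⟩ := exists_nl hw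
      exact ⟨⟨i, hi⟩, rfl⟩)

theorem reflEquiv_apply (i : Fin 315) :
    ((reflEquiv i : Refl) : Equiv.Perm icoLeech) = refl (nl i.val) := rfl

/-- conjugation by an element of `twoJ2` as a permutation of the reflections -/
noncomputable def conjR (g : twoJ2) : Equiv.Perm Refl where
  toFun f := ⟨g.1 * f.1 * g.1⁻¹, conj_isIcoReflection g.2 f.2⟩
  invFun f := ⟨g.1⁻¹ * f.1 * g.1⁻¹⁻¹, conj_isIcoReflection (twoJ2.inv_mem g.2) f.2⟩
  left_inv f := Subtype.ext (by simp [mul_assoc])
  right_inv f := Subtype.ext (by simp [mul_assoc])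

/-- the conjugation action on the reflections -/
noncomputable def conjHom : twoJ2 →* Equiv.Perm Refl where
  toFun := conjR
  map_one' := by
    ext1 f
    apply Subtype.ext
    simp [conjR]
  map_mul' g h := by
    ext1 f
    apply Subtype.ext
    simp [conjR, mul_assoc]

/-- the action of `twoJ2` on the indices of the 315 reflections -/
noncomputable def kap : twoJ2 →* Equiv.Perm (Fin 315) :=
  (reflEquiv.symm.permCongrHom).toMonoidHom.comp conjHom

theorem kap_spec (g : twoJ2) (i : Fin 315) :
    refl (nl (kap g i).val) = g.1 * refl (nl i.val) * g.1⁻¹ := by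
  have h : reflEquiv (kap g i) = conjR g (reflEquiv i) := by
    unfold kap
    simp [conjHom, Equiv.permCongrHom]
  have h' := congrArg Subtype.val h
  rw [reflEquiv_apply] at h'
  exact h'

theorem kap_eq_iff (g : twoJ2) (i k : Fin 315) :
    kap g i = k ↔ g.1 * refl (nl i.val) * g.1⁻¹ = refl (nl k.val) := by
  rw [← kap_spec]
  constructor
  · rintro rfl; rfl
  · intro h
    exact Fin.ext (nl_inj (kap g i).isLt k.isLt
      (refl_injOn (nl_mem (kap g i).isLt) (nl_mem k.isLt) h))

/-- `-1` as an element of `twoJ2` -/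
noncomputable def negJ : twoJ2 := ⟨negPerm, negPerm_mem⟩

theorem negJ_ne_one : negJ ≠ 1 := by
  intro h
  exact negPerm_ne_one (congrArg Subtype.val h)

theorem mem_ker_kap_iff (g : twoJ2) : g ∈ kap.ker ↔ g = 1 ∨ g = negJ := by
  rw [MonoidHom.mem_ker]
  constructor
  · intro h
    have hc : ∀ w ∈ normLit, g.1 * refl w = refl w * g.1 := by
      intro w hw
      obtain ⟨i, hi, rfl⟩ := exists_nl hw
      have h1 := (kap_eq_iff g ⟨i, hi⟩ ⟨i, hi⟩).mp (by rw [h]; rfl)
      simp only at h1
      calc g.1 * refl (nl i) = (g.1 * refl (nl i) * g.1⁻¹) * g.1 := by group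
        _ = refl (nl i) * g.1 := by rw [h1]
    rcases center_cases g.2 hc with h1 | h1
    · left; exact Subtype.ext h1
    · right; exact Subtype.ext h1
  · intro h
    ext1 i
    rw [Equiv.Perm.coe_one, id_eq, kap_eq_iff]
    rcases h with rfl | rfl
    · simp
    · show negPerm * refl (nl i.val) * negPerm⁻¹ = refl (nl i.val)
      rw [← negPerm_comm (refl_mem_twoJ2 (nl_mem i.isLt)), mul_assoc, mul_inv_cancel, mul_one]

theorem negJ_mem_center : negJ ∈ Subgroup.center twoJ2 := by
  rw [Subgroup.mem_center_iff]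
  intro g
  apply Subtype.ext
  exact negPerm_comm g.2

theorem ker_kap : kap.ker = Subgroup.center twoJ2 := by
  ext g
  rw [mem_ker_kap_iff]
  constructor
  · rintro (rfl | rfl)
    · exact Subgroup.one_mem _
    · exact negJ_mem_center
  · intro hg
    rw [Subgroup.mem_center_iff] at hg
    rw [← mem_ker_kap_iff, MonoidHom.mem_ker]
    ext1 i
    rw [Equiv.Perm.coe_one, id_eq, kap_eq_iff]
    have := hg ⟨refl (nl i.val), refl_mem_twoJ2 (nl_mem i.isLt)⟩
    have h' : refl (nl i.val) * g.1 = g.1 * refl (nl i.val) := congrArg Subtype.val this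
    rw [← h', mul_assoc, mul_inv_cancel, mul_one]

theorem card_center : Nat.card ↥(Subgroup.center twoJ2) = 2 := by
  have e : (Subgroup.center twoJ2 : Set twoJ2) = {1, negJ} := by
    ext g
    rw [SetLike.mem_coe, ← ker_kap, mem_ker_kap_iff]
    simp
  rw [← SetLike.coe_sort_coe, e, Nat.card_coe_set_eq, Set.ncard_pair negJ_ne_one.symm]

end Cfsg.Agent.Lib.Helper14.J2
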