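import Cfsg.Agent.Lib.Helper14.J2T
import Cfsg.Agent.Lib.Helper14.J2U

set_option autoImplicit false

/-!
The actions of four reflections on the 315 normalized vectors: for each normalized vector the
unit by which the image has to be normalized.  Generated data, with the kernel checks.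
-/

namespace Cfsg.Agent.Lib.Helper14.J2

open Cfsg.Agent.Lib.Helper10.SW ZQ V3

/-- left multiple of a vector by a model quaternion -/
def umul (u : ZQ) (w : V3) : V3 := ⟨mulH u w.x, mulH u w.y, mulH u w.z⟩

/-- the table check: the reflection in the `j`-th vector maps the `i`-th vector to the unit multiple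
of the `c i`-th one given by the table -/
def tabOK (j c : ℕ) (tab : List ZQ) : Bool :=
  allLt 315 fun i => decide (IsUnitZ (tab.getD i 0) ∧
    IsRefl (nl j) (nl i) (umul (tab.getD i 0) (nl (ap 315 c i))))

/-- the units for the reflection in the vector 0 -/
def utab0 : List ZQ := [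
  ⟨-2, 0, 0, 0, 0, 0, 0, 0⟩,
  ⟨2, 0, 0, 0, 0, 0, 0, 0⟩,
  ⟨2, 0, 0, 0, 0, 0, 0, 0⟩,
  ⟨-2, 0, 0, 0, 0, 0, 0, 0⟩,
  ⟨-2, 0, 0, 0, 0, 0, 0, 0⟩,
  ⟨-2, 0, 0, 0, 0, 0, 0, 0⟩,
  ⟨-2, 0, 0, 0, 0, 0, 0, 0⟩,
  ⟨-2, 0, 0, 0, 0, 0, 0, 0⟩,
  ⟨-2, 0, 0, 0, 0, 0, 0, 0⟩,
  ⟨-2, 0, 0, 0, 0, 0, 0, 0⟩,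
  ⟨-2, 0, 0, 0, 0, 0, 0, 0⟩,
  ⟨-2, 0, 0, 0, 0, 0, 0, 0⟩,
  ⟨-2, 0, 0, 0, 0, 0, 0, 0⟩,
  ⟨-2, 0, 0, 0, 0, 0, 0, 0⟩,
  ⟨-2, 0, 0, 0, 0, 0, 0, 0⟩,
  ⟨-2, 0, 0, 0, 0, 0, 0, 0⟩,
  ⟨-2, 0, 0, 0, 0, 0, 0, 0⟩,
  ⟨-2, 0, 0, 0, 0, 0, 0, 0⟩,
  ⟨-2, 0, 0, 0, 0, 0, 0, 0⟩,
  ⟨-2, 0, 0, 0, 0, 0, 0, 0⟩,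
  ⟨-2, 0, 0, 0, 0, 0, 0, 0⟩,
  ⟨-2, 0, 0, 0, 0, 0, 0, 0⟩,
  ⟨-2, 0, 0, 0, 0, 0, 0, 0⟩,
  ⟨-2, 0, 0, 0, 0, 0, 0, 0⟩,
  ⟨-2, 0, 0, 0, 0, 0, 0, 0⟩,
  ⟨-2, 0, 0, 0, 0, 0, 0, 0⟩,
  ⟨-2, 0, 0, 0, 0, 0, 0, 0⟩,
  ⟨-2, 0, 0, 0, 0, 0, 0, 0⟩,
  ⟨-2, 0, 0, 0, 0, 0, 0, 0⟩,
  ⟨-2, 0, 0, 0, 0, 0, 0, 0⟩,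
  ⟨-2, 0, 0, 0, 0, 0, 0, 0⟩,
  ⟨-2, 0, 0, 0, 0, 0, 0, 0⟩,
  ⟨-2, 0, 0, 0, 0, 0, 0, 0⟩,
  ⟨-2, 0, 0, 0, 0, 0, 0, 0⟩,
  ⟨-2, 0, 0, 0, 0, 0, 0, 0⟩,
  ⟨-2, 0, 0, 0, 0, 0, 0, 0⟩,
  ⟨-2, 0, 0, 0, 0, 0, 0, 0⟩,
  ⟨-2, 0, 0, 0, 0, 0, 0, 0⟩,
  ⟨-2, 0, 0, 0, 0, 0, 0, 0⟩,
  ⟨-2, 0, 0, 0, 0, 0, 0, 0⟩,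
  ⟨-2, 0, 0, 0, 0, 0, 0, 0⟩,
  ⟨-2, 0, 0, 0, 0, 0, 0, 0⟩,
  ⟨-2, 0, 0, 0, 0, 0, 0, 0⟩,
  ⟨-2, 0, 0, 0, 0, 0, 0, 0⟩,
  ⟨-2, 0, 0, 0, 0, 0, 0, 0⟩,
  ⟨-2, 0, 0, 0, 0, 0, 0, 0⟩,
  ⟨-2, 0, 0, 0, 0, 0, 0, 0⟩,
  ⟨-2, 0, 0, 0, 0, 0, 0, 0⟩,
  ⟨-2, 0, 0, 0, 0, 0, 0, 0⟩,
  ⟨-2, 0, 0, 0, 0, 0, 0, 0⟩,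
  ⟨-2, 0, 0, 0, 0, 0, 0, 0⟩,
  ⟨2, 0, 0, 0, 0, 0, 0, 0⟩,
  ⟨2, 0, 0, 0, 0, 0, 0, 0⟩,
  ⟨2, 0, 0, 0, 0, 0, 0, 0⟩,
  ⟨2, 0, 0, 0, 0, 0, 0, 0⟩,
  ⟨2, 0, 0, 0, 0, 0, 0, 0⟩,
  ⟨2, 0, 0, 0, 0, 0, 0, 0⟩,
  ⟨2, 0, 0, 0, 0, 0, 0, 0⟩,
  ⟨2, 0, 0, 0, 0, 0, 0, 0⟩,
  ⟨-2, 0, 0, 0, 0, 0, 0, 0⟩,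
  ⟨-2, 0, 0, 0, 0, 0, 0, 0⟩,
  ⟨-2, 0, 0, 0, 0, 0, 0, 0⟩,
  ⟨-2, 0, 0, 0, 0, 0, 0, 0⟩,
  ⟨-2, 0, 0, 0, 0, 0, 0, 0⟩,
  ⟨-2, 0, 0, 0, 0, 0, 0, 0⟩,
  ⟨-2, 0, 0, 0, 0, 0, 0, 0⟩,
  ⟨-2, 0, 0, 0, 0, 0, 0, 0⟩,
  ⟨-2, 0, 0, 0, 0, 0, 0, 0⟩,
  ⟨-2, 0, 0, 0, 0, 0, 0, 0⟩,
  ⟨-2, 0, 0, 0, 0, 0, 0, 0⟩,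
  ⟨-2, 0, 0, 0, 0, 0, 0, 0⟩,
  ⟨-2, 0, 0, 0, 0, 0, 0, 0⟩,
  ⟨-2, 0, 0, 0, 0, 0, 0, 0⟩,
  ⟨-2, 0, 0, 0, 0, 0, 0, 0⟩,
  ⟨-2, 0, 0, 0, 0, 0, 0, 0⟩,
  ⟨-2, 0, 0, 0, 0, 0, 0, 0⟩,
  ⟨-2, 0, 0, 0, 0, 0, 0, 0⟩,
  ⟨-2, 0, 0, 0, 0, 0, 0, 0⟩,
  ⟨-2, 0, 0, 0, 0, 0, 0, 0⟩,
  ⟨-2, 0, 0, 0, 0, 0, 0, 0⟩,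
  ⟨-2, 0, 0, 0, 0, 0, 0, 0⟩,
  ⟨-2, 0, 0, 0, 0, 0, 0, 0⟩,
  ⟨-2, 0, 0, 0, 0, 0, 0, 0⟩,
  ⟨-2, 0, 0, 0, 0, 0, 0, 0⟩,
  ⟨-2, 0, 0, 0, 0, 0, 0, 0⟩,
  ⟨-2, 0, 0, 0, 0, 0, 0, 0⟩,
  ⟨-2, 0, 0, 0, 0, 0, 0, 0⟩,
  ⟨-2, 0, 0, 0, 0, 0, 0, 0⟩,
  ⟨-2, 0, 0, 0, 0, 0, 0, 0⟩,
  ⟨-2, 0, 0, 0, 0, 0, 0, 0⟩,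
  ⟨-2, 0, 0, 0, 0, 0, 0, 0⟩,
  ⟨-2, 0, 0, 0, 0, 0, 0, 0⟩,
  ⟨-2, 0, 0, 0, 0, 0, 0, 0⟩,
  ⟨-2, 0, 0, 0, 0, 0, 0, 0⟩,
  ⟨-2, 0, 0, 0, 0, 0, 0, 0⟩,
  ⟨-2, 0, 0, 0, 0, 0, 0, 0⟩,
  ⟨-2, 0, 0, 0, 0, 0, 0, 0⟩,
  ⟨-2, 0, 0, 0, 0, 0, 0, 0⟩,
  ⟨-2, 0, 0, 0, 0, 0, 0, 0⟩,
  ⟨-2, 0, 0, 0, 0, 0, 0, 0⟩,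
  ⟨-2, 0, 0, 0, 0, 0, 0, 0⟩,
  ⟨-2, 0, 0, 0, 0, 0, 0, 0⟩,
  ⟨-2, 0, 0, 0, 0, 0, 0, 0⟩,
  ⟨-2, 0, 0, 0, 0, 0, 0, 0⟩,
  ⟨-2, 0, 0, 0, 0, 0, 0, 0⟩,
  ⟨-2, 0, 0, 0, 0, 0, 0, 0⟩,
  ⟨-2, 0, 0, 0, 0, 0, 0, 0⟩,
  ⟨-2, 0, 0, 0, 0, 0, 0, 0⟩,
  ⟨-2, 0, 0, 0, 0, 0, 0, 0⟩,
  ⟨-2, 0, 0, 0, 0, 0, 0, 0⟩,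
  ⟨-2, 0, 0, 0, 0, 0, 0, 0⟩,
  ⟨-2, 0, 0, 0, 0, 0, 0, 0⟩,
  ⟨-2, 0, 0, 0, 0, 0, 0, 0⟩,
  ⟨-2, 0, 0, 0, 0, 0, 0, 0⟩,
  ⟨-2, 0, 0, 0, 0, 0, 0, 0⟩,
  ⟨-2, 0, 0, 0, 0, 0, 0, 0⟩,
  ⟨-2, 0, 0, 0, 0, 0, 0, 0⟩,
  ⟨-2, 0, 0, 0, 0, 0, 0, 0⟩,
  ⟨-2, 0, 0, 0, 0, 0, 0, 0⟩,
  ⟨-2, 0, 0, 0, 0, 0, 0, 0⟩,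
  ⟨-2, 0, 0, 0, 0, 0, 0, 0⟩,
  ⟨-2, 0, 0, 0, 0, 0, 0, 0⟩,
  ⟨-2, 0, 0, 0, 0, 0, 0, 0⟩,
  ⟨-2, 0, 0, 0, 0, 0, 0, 0⟩,
  ⟨-2, 0, 0, 0, 0, 0, 0, 0⟩,
  ⟨-2, 0, 0, 0, 0, 0, 0, 0⟩,
  ⟨-2, 0, 0, 0, 0, 0, 0, 0⟩,
  ⟨-2, 0, 0, 0, 0, 0, 0, 0⟩,
  ⟨-2, 0, 0, 0, 0, 0, 0, 0⟩,
  ⟨-2, 0, 0, 0, 0, 0, 0, 0⟩,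
  ⟨-2, 0, 0, 0, 0, 0, 0, 0⟩,
  ⟨-2, 0, 0, 0, 0, 0, 0, 0⟩,
  ⟨-2, 0, 0, 0, 0, 0, 0, 0⟩,
  ⟨-2, 0, 0, 0, 0, 0, 0, 0⟩,
  ⟨-2, 0, 0, 0, 0, 0, 0, 0⟩,
  ⟨-2, 0, 0, 0, 0, 0, 0, 0⟩,
  ⟨-2, 0, 0, 0, 0, 0, 0, 0⟩,
  ⟨-2, 0, 0, 0, 0, 0, 0, 0⟩,
  ⟨-2, 0, 0, 0, 0, 0, 0, 0⟩,
  ⟨-2, 0, 0, 0, 0, 0, 0, 0⟩,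
  ⟨-2, 0, 0, 0, 0, 0, 0, 0⟩,
  ⟨-2, 0, 0, 0, 0, 0, 0, 0⟩,
  ⟨-2, 0, 0, 0, 0, 0, 0, 0⟩,
  ⟨-2, 0, 0, 0, 0, 0, 0, 0⟩,
  ⟨-2, 0, 0, 0, 0, 0, 0, 0⟩,
  ⟨-2, 0, 0, 0, 0, 0, 0, 0⟩,
  ⟨-2, 0, 0, 0, 0, 0, 0, 0⟩,
  ⟨-2, 0, 0, 0, 0, 0, 0, 0⟩,
  ⟨-2, 0, 0, 0, 0, 0, 0, 0⟩,
  ⟨-2, 0, 0, 0, 0, 0, 0, 0⟩,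
  ⟨-2, 0, 0, 0, 0, 0, 0, 0⟩,
  ⟨-2, 0, 0, 0, 0, 0, 0, 0⟩,
  ⟨-2, 0, 0, 0, 0, 0, 0, 0⟩,
  ⟨-2, 0, 0, 0, 0, 0, 0, 0⟩,
  ⟨-2, 0, 0, 0, 0, 0, 0, 0⟩,
  ⟨-2, 0, 0, 0, 0, 0, 0, 0⟩,
  ⟨-2, 0, 0, 0, 0, 0, 0, 0⟩,
  ⟨-2, 0, 0, 0, 0, 0, 0, 0⟩,
  ⟨-2, 0, 0, 0, 0, 0, 0, 0⟩,
  ⟨-2, 0, 0, 0, 0, 0, 0, 0⟩,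
  ⟨-2, 0, 0, 0, 0, 0, 0, 0⟩,
  ⟨-2, 0, 0, 0, 0, 0, 0, 0⟩,
  ⟨-2, 0, 0, 0, 0, 0, 0, 0⟩,
  ⟨-2, 0, 0, 0, 0, 0, 0, 0⟩,
  ⟨-2, 0, 0, 0, 0, 0, 0, 0⟩,
  ⟨-2, 0, 0, 0, 0, 0, 0, 0⟩,
  ⟨-2, 0, 0, 0, 0, 0, 0, 0⟩,
  ⟨-2, 0, 0, 0, 0, 0, 0, 0⟩,
  ⟨-2, 0, 0, 0, 0, 0, 0, 0⟩,
  ⟨-2, 0, 0, 0, 0, 0, 0, 0⟩,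
  ⟨-2, 0, 0, 0, 0, 0, 0, 0⟩,
  ⟨-2, 0, 0, 0, 0, 0, 0, 0⟩,
  ⟨-2, 0, 0, 0, 0, 0, 0, 0⟩,
  ⟨-2, 0, 0, 0, 0, 0, 0, 0⟩,
  ⟨-2, 0, 0, 0, 0, 0, 0, 0⟩,
  ⟨-2, 0, 0, 0, 0, 0, 0, 0⟩,
  ⟨-2, 0, 0, 0, 0, 0, 0, 0⟩,
  ⟨-2, 0, 0, 0, 0, 0, 0, 0⟩,
  ⟨-2, 0, 0, 0, 0, 0, 0, 0⟩,
  ⟨-2, 0, 0, 0, 0, 0, 0, 0⟩,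
  ⟨-2, 0, 0, 0, 0, 0, 0, 0⟩,
  ⟨-2, 0, 0, 0, 0, 0, 0, 0⟩,
  ⟨-2, 0, 0, 0, 0, 0, 0, 0⟩,
  ⟨-2, 0, 0, 0, 0, 0, 0, 0⟩,
  ⟨-2, 0, 0, 0, 0, 0, 0, 0⟩,
  ⟨-2, 0, 0, 0, 0, 0, 0, 0⟩,
  ⟨-2, 0, 0, 0, 0, 0, 0, 0⟩,
  ⟨-2, 0, 0, 0, 0, 0, 0, 0⟩,
  ⟨-2, 0, 0, 0, 0, 0, 0, 0⟩,
  ⟨-2, 0, 0, 0, 0, 0, 0, 0⟩,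
  ⟨-2, 0, 0, 0, 0, 0, 0, 0⟩,
  ⟨-2, 0, 0, 0, 0, 0, 0, 0⟩,
  ⟨-2, 0, 0, 0, 0, 0, 0, 0⟩,
  ⟨-2, 0, 0, 0, 0, 0, 0, 0⟩,
  ⟨-2, 0, 0, 0, 0, 0, 0, 0⟩,
  ⟨-2, 0, 0, 0, 0, 0, 0, 0⟩,
  ⟨-2, 0, 0, 0, 0, 0, 0, 0⟩,
  ⟨-2, 0, 0, 0, 0, 0, 0, 0⟩,
  ⟨-2, 0, 0, 0, 0, 0, 0, 0⟩,
  ⟨-2, 0, 0, 0, 0, 0, 0, 0⟩,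
  ⟨-2, 0, 0, 0, 0, 0, 0, 0⟩,
  ⟨-2, 0, 0, 0, 0, 0, 0, 0⟩,
  ⟨-2, 0, 0, 0, 0, 0, 0, 0⟩,
  ⟨-2, 0, 0, 0, 0, 0, 0, 0⟩,
  ⟨-2, 0, 0, 0, 0, 0, 0, 0⟩,
  ⟨-2, 0, 0, 0, 0, 0, 0, 0⟩,
  ⟨-2, 0, 0, 0, 0, 0, 0, 0⟩,
  ⟨-2, 0, 0, 0, 0, 0, 0, 0⟩,
  ⟨-2, 0, 0, 0, 0, 0, 0, 0⟩,
  ⟨-2, 0, 0, 0, 0, 0, 0, 0⟩,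
  ⟨-2, 0, 0, 0, 0, 0, 0, 0⟩,
  ⟨-2, 0, 0, 0, 0, 0, 0, 0⟩,
  ⟨-2, 0, 0, 0, 0, 0, 0, 0⟩,
  ⟨-2, 0, 0, 0, 0, 0, 0, 0⟩,
  ⟨-2, 0, 0, 0, 0, 0, 0, 0⟩,
  ⟨-2, 0, 0, 0, 0, 0, 0, 0⟩,
  ⟨-2, 0, 0, 0, 0, 0, 0, 0⟩,
  ⟨-2, 0, 0, 0, 0, 0, 0, 0⟩,
  ⟨-2, 0, 0, 0, 0, 0, 0, 0⟩,
  ⟨-2, 0, 0, 0, 0, 0, 0, 0⟩,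
  ⟨-2, 0, 0, 0, 0, 0, 0, 0⟩,
  ⟨-2, 0, 0, 0, 0, 0, 0, 0⟩,
  ⟨-2, 0, 0, 0, 0, 0, 0, 0⟩,
  ⟨-2, 0, 0, 0, 0, 0, 0, 0⟩,
  ⟨-2, 0, 0, 0, 0, 0, 0, 0⟩,
  ⟨-2, 0, 0, 0, 0, 0, 0, 0⟩,
  ⟨-2, 0, 0, 0, 0, 0, 0, 0⟩,
  ⟨-2, 0, 0, 0, 0, 0, 0, 0⟩,
  ⟨-2, 0, 0, 0, 0, 0, 0, 0⟩,
  ⟨-2, 0, 0, 0, 0, 0, 0, 0⟩,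
  ⟨-2, 0, 0, 0, 0, 0, 0, 0⟩,
  ⟨-2, 0, 0, 0, 0, 0, 0, 0⟩,
  ⟨-2, 0, 0, 0, 0, 0, 0, 0⟩,
  ⟨-2, 0, 0, 0, 0, 0, 0, 0⟩,
  ⟨-2, 0, 0, 0, 0, 0, 0, 0⟩,
  ⟨-2, 0, 0, 0, 0, 0, 0, 0⟩,
  ⟨-2, 0, 0, 0, 0, 0, 0, 0⟩,
  ⟨-2, 0, 0, 0, 0, 0, 0, 0⟩,
  ⟨-2, 0, 0, 0, 0, 0, 0, 0⟩,
  ⟨-2, 0, 0, 0, 0, 0, 0, 0⟩,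
  ⟨-2, 0, 0, 0, 0, 0, 0, 0⟩,
  ⟨-2, 0, 0, 0, 0, 0, 0, 0⟩,
  ⟨-2, 0, 0, 0, 0, 0, 0, 0⟩,
  ⟨-2, 0, 0, 0, 0, 0, 0, 0⟩,
  ⟨-2, 0, 0, 0, 0, 0, 0, 0⟩,
  ⟨-2, 0, 0, 0, 0, 0, 0, 0⟩,
  ⟨-2, 0, 0, 0, 0, 0, 0, 0⟩,
  ⟨-2, 0, 0, 0, 0, 0, 0, 0⟩,
  ⟨-2, 0, 0, 0, 0, 0, 0, 0⟩,
  ⟨-2, 0, 0, 0, 0, 0, 0, 0⟩,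
  ⟨-2, 0, 0, 0, 0, 0, 0, 0⟩,
  ⟨-2, 0, 0, 0, 0, 0, 0, 0⟩,
  ⟨-2, 0, 0, 0, 0, 0, 0, 0⟩,
  ⟨-2, 0, 0, 0, 0, 0, 0, 0⟩,
  ⟨-2, 0, 0, 0, 0, 0, 0, 0⟩,
  ⟨-2, 0, 0, 0, 0, 0, 0, 0⟩,
  ⟨-2, 0, 0, 0, 0, 0, 0, 0⟩,
  ⟨-2, 0, 0, 0, 0, 0, 0, 0⟩,
  ⟨-2, 0, 0, 0, 0, 0, 0, 0⟩,
  ⟨-2, 0, 0, 0, 0, 0, 0, 0⟩,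
  ⟨-2, 0, 0, 0, 0, 0, 0, 0⟩,
  ⟨-2, 0, 0, 0, 0, 0, 0, 0⟩,
  ⟨-2, 0, 0, 0, 0, 0, 0, 0⟩,
  ⟨-2, 0, 0, 0, 0, 0, 0, 0⟩,
  ⟨-2, 0, 0, 0, 0, 0, 0, 0⟩,
  ⟨-2, 0, 0, 0, 0, 0, 0, 0⟩,
  ⟨-2, 0, 0, 0, 0, 0, 0, 0⟩,
  ⟨-2, 0, 0, 0, 0, 0, 0, 0⟩,
  ⟨-2, 0, 0, 0, 0, 0, 0, 0⟩,
  ⟨-2, 0, 0, 0, 0, 0, 0, 0⟩,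
  ⟨-2, 0, 0, 0, 0, 0, 0, 0⟩,
  ⟨-2, 0, 0, 0, 0, 0, 0, 0⟩,
  ⟨-2, 0, 0, 0, 0, 0, 0, 0⟩,
  ⟨-2, 0, 0, 0, 0, 0, 0, 0⟩,
  ⟨-2, 0, 0, 0, 0, 0, 0, 0⟩,
  ⟨-2, 0, 0, 0, 0, 0, 0, 0⟩,
  ⟨-2, 0, 0, 0, 0, 0, 0, 0⟩,
  ⟨-2, 0, 0, 0, 0, 0, 0, 0⟩,
  ⟨-2, 0, 0, 0, 0, 0, 0, 0⟩,
  ⟨-2, 0, 0, 0, 0, 0, 0, 0⟩,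
  ⟨-2, 0, 0, 0, 0, 0, 0, 0⟩,
  ⟨-2, 0, 0, 0, 0, 0, 0, 0⟩,
  ⟨-2, 0, 0, 0, 0, 0, 0, 0⟩,
  ⟨-2, 0, 0, 0, 0, 0, 0, 0⟩,
  ⟨-2, 0, 0, 0, 0, 0, 0, 0⟩,
  ⟨-2, 0, 0, 0, 0, 0, 0, 0⟩,
  ⟨-2, 0, 0, 0, 0, 0, 0, 0⟩,
  ⟨-2, 0, 0, 0, 0, 0, 0, 0⟩,
  ⟨-2, 0, 0, 0, 0, 0, 0, 0⟩,
  ⟨-2, 0, 0, 0, 0, 0, 0, 0⟩,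
  ⟨-2, 0, 0, 0, 0, 0, 0, 0⟩,
  ⟨-2, 0, 0, 0, 0, 0, 0, 0⟩,
  ⟨-2, 0, 0, 0, 0, 0, 0, 0⟩,
  ⟨-2, 0, 0, 0, 0, 0, 0, 0⟩,
  ⟨-2, 0, 0, 0, 0, 0, 0, 0⟩,
  ⟨-2, 0, 0, 0, 0, 0, 0, 0⟩,
  ⟨-2, 0, 0, 0, 0, 0, 0, 0⟩,
  ⟨-2, 0, 0, 0, 0, 0, 0, 0⟩,
  ⟨-2, 0, 0, 0, 0, 0, 0, 0⟩,
  ⟨-2, 0, 0, 0, 0, 0, 0, 0⟩,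
  ⟨-2, 0, 0, 0, 0, 0, 0, 0⟩,
  ⟨-2, 0, 0, 0, 0, 0, 0, 0⟩,
  ⟨-2, 0, 0, 0, 0, 0, 0, 0⟩,
  ⟨-2, 0, 0, 0, 0, 0, 0, 0⟩,
  ⟨-2, 0, 0, 0, 0, 0, 0, 0⟩,
  ⟨-2, 0, 0, 0, 0, 0, 0, 0⟩,
  ⟨-2, 0, 0, 0, 0, 0, 0, 0⟩,
  ⟨-2, 0, 0, 0, 0, 0, 0, 0⟩,
  ⟨-2, 0, 0, 0, 0, 0, 0, 0⟩,
  ⟨-2, 0, 0, 0, 0, 0, 0, 0⟩,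
  ⟨-2, 0, 0, 0, 0, 0, 0, 0⟩,
  ⟨-2, 0, 0, 0, 0, 0, 0, 0⟩,
  ⟨-2, 0, 0, 0, 0, 0, 0, 0⟩,
  ⟨-2, 0, 0, 0, 0, 0, 0, 0⟩,
  ⟨-2, 0, 0, 0, 0, 0, 0, 0⟩]

/-- the units for the reflection in the vector 131 -/
def utab1 : List ZQ := [
  ⟨2, 0, 0, 0, 0, 0, 0, 0⟩,
  ⟨0, 0, -1, 0, -1, 1, 0, -1⟩,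
  ⟨2, 0, 0, 0, 0, 0, 0, 0⟩,
  ⟨-1, 0, -1, 0, 1, 0, 1, 0⟩,
  ⟨1, 0, 1, 0, 1, 0, -1, 0⟩,
  ⟨1, -1, 0, 0, 1, 0, 0, -1⟩,
  ⟨1, 0, 0, -1, 1, -1, 0, 0⟩,
  ⟨0, -1, 0, 0, 1, -1, -1, 0⟩,
  ⟨1, -1, 0, -1, 0, 0, -1, 0⟩,
  ⟨1, -1, 0, 0, 1, 0, 0, -1⟩,
  ⟨1, -1, 1, 0, 0, 1, 0, 0⟩,
  ⟨1, -1, 0, -1, 0, 0, 1, 0⟩,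
  ⟨1, -1, -1, 0, 0, -1, 0, 0⟩,
  ⟨1, -1, -1, 0, 0, 1, 0, 0⟩,
  ⟨1, -1, 1, 0, 0, -1, 0, 0⟩,
  ⟨-2, 0, 0, 0, 0, 0, 0, 0⟩,
  ⟨0, -1, -1, 1, 1, 0, 0, 0⟩,
  ⟨-1, 0, 1, -1, 0, 0, 0, -1⟩,
  ⟨1, -1, 0, 0, -1, 0, 0, -1⟩,
  ⟨1, -1, 0, 0, 1, 0, 0, 1⟩,
  ⟨1, -1, 0, 0, -1, 0, 0, 1⟩,
  ⟨1, 0, 1, 0, -1, 0, -1, 0⟩,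
  ⟨2, 0, 0, 0, 0, 0, 0, 0⟩,
  ⟨-1, 0, 0, 0, 0, -1, -1, 1⟩,
  ⟨1, -1, 1, 0, 0, -1, 0, 0⟩,
  ⟨-1, 0, 0, 1, -1, 1, 0, 0⟩,
  ⟨1, -1, 0, 1, 0, 0, -1, 0⟩,
  ⟨1, -1, -1, 0, 0, -1, 0, 0⟩,
  ⟨1, 0, -1, 1, 0, 0, 0, 1⟩,
  ⟨1, -1, 0, 1, 0, 0, 1, 0⟩,
  ⟨1, 0, 0, 0, 0, 1, 1, -1⟩,
  ⟨1, -1, 0, 1, 0, 0, -1, 0⟩,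
  ⟨1, -1, 0, 0, -1, 0, 0, 1⟩,
  ⟨2, 0, 0, 0, 0, 0, 0, 0⟩,
  ⟨1, -1, -1, 0, 0, 1, 0, 0⟩,
  ⟨0, 0, 0, 0, 0, 0, 2, 0⟩,
  ⟨1, -1, 1, 0, 0, -1, 0, 0⟩,
  ⟨0, -1, 1, -1, -1, 0, 0, 0⟩,
  ⟨0, 0, 1, 0, 1, -1, 0, 1⟩,
  ⟨1, 0, 0, 0, 0, -1, 1, -1⟩,
  ⟨1, -1, 0, 1, 0, 0, 1, 0⟩,
  ⟨0, -1, 1, 0, 0, 0, -1, 1⟩,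
  ⟨1, -1, 0, 1, 0, 0, -1, 0⟩,
  ⟨0, -1, 0, 0, 1, -1, 1, 0⟩,
  ⟨0, -1, 1, -1, 1, 0, 0, 0⟩,
  ⟨0, -1, 1, 0, 0, 0, 1, -1⟩,
  ⟨0, 0, 1, 0, 1, -1, 0, 1⟩,
  ⟨2, 0, 0, 0, 0, 0, 0, 0⟩,
  ⟨1, -1, 0, 0, 1, 0, 0, 1⟩,
  ⟨1, -1, 0, 1, 0, 0, 1, 0⟩,
  ⟨1, -1, 1, 0, 0, 1, 0, 0⟩,
  ⟨0, -1, -1, 0, 0, 0, 1, -1⟩,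
  ⟨-1, 0, -1, 0, 1, 0, -1, 0⟩,
  ⟨0, 0, 1, 0, -1, 1, 0, -1⟩,
  ⟨0, 0, -1, 0, -1, 1, 0, -1⟩,
  ⟨1, 0, 0, 0, 0, -1, 1, -1⟩,
  ⟨1, -1, -1, 0, 0, 1, 0, 0⟩,
  ⟨1, 0, -1, 0, -1, 0, 1, 0⟩,
  ⟨1, -1, -1, 0, 0, 1, 0, 0⟩,
  ⟨0, -1, -1, 0, 0, 0, 1, -1⟩,
  ⟨1, -1, 0, -1, 0, 0, -1, 0⟩,
  ⟨0, 0, -2, 0, 0, 0, 0, 0⟩,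
  ⟨1, 0, 0, 0, 0, 1, -1, 1⟩,
  ⟨-1, 0, -1, 0, -1, 0, -1, 0⟩,
  ⟨0, -1, -1, 0, 0, 0, -1, 1⟩,
  ⟨0, -1, 0, 0, 1, -1, -1, 0⟩,
  ⟨1, -1, -1, 0, 0, -1, 0, 0⟩,
  ⟨0, -1, 0, 0, -1, 1, -1, 0⟩,
  ⟨0, -1, 0, 0, -1, 1, 1, 0⟩,
  ⟨1, -1, 0, 0, -1, 0, 0, -1⟩,
  ⟨1, -1, 0, 0, 1, 0, 0, -1⟩,
  ⟨2, 0, 0, 0, 0, 0, 0, 0⟩,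
  ⟨1, 0, 0, 0, 0, 1, -1, 1⟩,
  ⟨0, -1, -1, 1, -1, 0, 0, 0⟩,
  ⟨1, -1, -1, 0, 0, 1, 0, 0⟩,
  ⟨1, 0, -1, 1, 0, 0, 0, -1⟩,
  ⟨1, 0, 1, -1, 0, 0, 0, -1⟩,
  ⟨0, 0, 1, 0, 1, -1, 0, -1⟩,
  ⟨0, 0, 1, 0, 1, -1, 0, -1⟩,
  ⟨0, 0, -1, 0, 1, -1, 0, -1⟩,
  ⟨0, 0, -1, 0, 1, -1, 0, 1⟩,
  ⟨1, 0, 0, 0, 0, -1, 1, -1⟩,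
  ⟨-1, 0, 1, 0, 1, 0, 1, 0⟩,
  ⟨1, -1, 0, 1, 0, 0, -1, 0⟩,
  ⟨1, 0, 1, 0, 1, 0, -1, 0⟩,
  ⟨2, 0, 0, 0, 0, 0, 0, 0⟩,
  ⟨1, -1, 0, -1, 0, 0, -1, 0⟩,
  ⟨1, 0, 0, 0, 0, 1, 1, -1⟩,
  ⟨2, 0, 0, 0, 0, 0, 0, 0⟩,
  ⟨1, 0, 0, 1, 1, -1, 0, 0⟩,
  ⟨1, -1, 0, 0, 1, 0, 0, -1⟩,
  ⟨1, -1, 0, 0, 1, 0, 0, 1⟩,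
  ⟨1, 0, 1, -1, 0, 0, 0, 1⟩,
  ⟨0, 0, 1, 0, -1, 1, 0, 1⟩,
  ⟨0, 0, 2, 0, 0, 0, 0, 0⟩,
  ⟨1, -1, 1, 0, 0, -1, 0, 0⟩,
  ⟨1, 0, 0, 0, 0, 1, 1, -1⟩,
  ⟨1, 0, 1, 0, 1, 0, 1, 0⟩,
  ⟨1, 0, 0, 0, 0, 1, -1, 1⟩,
  ⟨1, 0, 1, 0, -1, 0, 1, 0⟩,
  ⟨1, -1, 1, 0, 0, 1, 0, 0⟩,
  ⟨0, 0, 0, 0, 0, 0, -2, 0⟩,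
  ⟨2, 0, 0, 0, 0, 0, 0, 0⟩,
  ⟨0, 0, -1, 0, -1, 1, 0, 1⟩,
  ⟨2, 0, 0, 0, 0, 0, 0, 0⟩,
  ⟨1, 0, 0, 1, -1, 1, 0, 0⟩,
  ⟨0, -1, 0, 0, -1, 1, 1, 0⟩,
  ⟨-1, 1, 0, 0, 1, 0, 0, -1⟩,
  ⟨1, 0, 1, 0, 1, 0, -1, 0⟩,
  ⟨0, -1, 1, -1, -1, 0, 0, 0⟩,
  ⟨0, 1, -1, 1, 1, 0, 0, 0⟩,
  ⟨1, 0, 0, -1, -1, 1, 0, 0⟩,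
  ⟨1, -1, 0, 0, -1, 0, 0, 1⟩,
  ⟨0, 1, 0, 0, -1, 1, -1, 0⟩,
  ⟨0, 1, 0, 0, 1, -1, -1, 0⟩,
  ⟨1, -1, 1, 0, 0, 1, 0, 0⟩,
  ⟨1, -1, 0, -1, 0, 0, 1, 0⟩,
  ⟨0, 1, 1, 0, 0, 0, 1, -1⟩,
  ⟨-1, 1, 0, 1, 0, 0, -1, 0⟩,
  ⟨1, -1, 0, 0, -1, 0, 0, -1⟩,
  ⟨1, 0, -1, 1, 0, 0, 0, -1⟩,
  ⟨0, -1, 0, 0, -1, 1, 1, 0⟩,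
  ⟨1, 0, 1, 0, -1, 0, 1, 0⟩,
  ⟨1, 0, 0, -1, 1, -1, 0, 0⟩,
  ⟨0, 1, 1, -1, -1, 0, 0, 0⟩,
  ⟨0, 1, 0, 0, -1, 1, -1, 0⟩,
  ⟨1, 0, 0, 0, 0, 1, 1, -1⟩,
  ⟨1, 0, 0, -1, 1, -1, 0, 0⟩,
  ⟨1, -1, 0, -1, 0, 0, 1, 0⟩,
  ⟨0, 0, 0, 0, 2, 0, 0, 0⟩,
  ⟨1, -1, -1, 0, 0, -1, 0, 0⟩,
  ⟨-2, 0, 0, 0, 0, 0, 0, 0⟩,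
  ⟨2, 0, 0, 0, 0, 0, 0, 0⟩,
  ⟨0, 0, -1, 0, 1, -1, 0, -1⟩,
  ⟨0, 0, 1, 0, 1, -1, 0, -1⟩,
  ⟨1, -1, 1, 0, 0, 1, 0, 0⟩,
  ⟨1, 0, 0, -1, 1, -1, 0, 0⟩,
  ⟨1, 0, 0, 0, 0, 1, -1, 1⟩,
  ⟨0, -1, 1, 0, 0, 0, 1, -1⟩,
  ⟨1, 0, 0, 0, 0, -1, -1, 1⟩,
  ⟨1, -1, 0, 0, 1, 0, 0, 1⟩,
  ⟨0, 0, 0, 0, 0, 0, -2, 0⟩,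
  ⟨0, -1, -1, 0, 0, 0, -1, 1⟩,
  ⟨1, -1, 0, -1, 0, 0, 1, 0⟩,
  ⟨1, 0, 1, -1, 0, 0, 0, -1⟩,
  ⟨1, -1, 0, 0, -1, 0, 0, -1⟩,
  ⟨1, 0, 1, -1, 0, 0, 0, -1⟩,
  ⟨0, 0, 0, 1, 1, 0, -1, 1⟩,
  ⟨0, 1, 0, 0, 1, -1, -1, 0⟩,
  ⟨0, 0, 1, -1, 0, -1, 1, 0⟩,
  ⟨0, 1, 1, 0, 0, 0, 1, -1⟩,
  ⟨1, 0, 1, 0, -1, 0, -1, 0⟩,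
  ⟨1, 0, 1, -1, 0, 0, 0, 1⟩,
  ⟨1, -1, 1, 0, 0, -1, 0, 0⟩,
  ⟨0, -1, 1, -1, 1, 0, 0, 0⟩,
  ⟨0, 1, 1, 0, 0, 0, -1, 1⟩,
  ⟨1, 0, -1, 1, 0, 0, 0, 1⟩,
  ⟨0, 1, -1, 1, -1, 0, 0, 0⟩,
  ⟨0, 1, 0, 0, 1, -1, 1, 0⟩,
  ⟨1, 0, 0, 0, 0, -1, -1, 1⟩,
  ⟨1, 0, 0, 0, 0, -1, -1, 1⟩,
  ⟨0, 0, 2, 0, 0, 0, 0, 0⟩,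
  ⟨1, -1, 0, -1, 0, 0, -1, 0⟩,
  ⟨0, 0, -2, 0, 0, 0, 0, 0⟩,
  ⟨0, -1, -1, 1, -1, 0, 0, 0⟩,
  ⟨0, 0, -2, 0, 0, 0, 0, 0⟩,
  ⟨1, 0, 0, 0, 0, 1, 1, -1⟩,
  ⟨1, 0, 0, 1, -1, 1, 0, 0⟩,
  ⟨1, -1, -1, 0, 0, 1, 0, 0⟩,
  ⟨1, 0, -1, 0, 1, 0, -1, 0⟩,
  ⟨1, -1, 0, 1, 0, 0, 1, 0⟩,
  ⟨0, 0, -1, 0, -1, 1, 0, -1⟩,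
  ⟨0, 1, -1, 1, -1, 0, 0, 0⟩,
  ⟨1, 0, -1, 0, 1, 0, 1, 0⟩,
  ⟨1, 0, -1, 0, 1, 0, 1, 0⟩,
  ⟨1, -1, 0, 1, 0, 0, -1, 0⟩,
  ⟨1, 0, -1, 0, 1, 0, -1, 0⟩,
  ⟨1, -1, 0, 0, -1, 0, 0, -1⟩,
  ⟨1, 0, 0, -1, -1, 1, 0, 0⟩,
  ⟨1, 0, -1, 1, 0, 0, 0, 1⟩,
  ⟨0, -1, 0, 0, 1, -1, -1, 0⟩,
  ⟨0, 1, -1, 0, 0, 0, -1, 1⟩,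
  ⟨0, 1, 1, 0, 0, 0, 1, -1⟩,
  ⟨0, 0, 0, 0, 0, 0, 2, 0⟩,
  ⟨1, -1, 0, 0, -1, 0, 0, -1⟩,
  ⟨0, 1, 0, 0, 1, -1, -1, 0⟩,
  ⟨1, 0, -1, 0, -1, 0, 1, 0⟩,
  ⟨0, 0, -1, 1, 0, -1, -1, 0⟩,
  ⟨0, 0, -1, 1, 0, -1, 1, 0⟩,
  ⟨0, 0, 0, 1, -1, 0, 1, -1⟩,
  ⟨0, 0, 0, 1, 1, 0, 1, -1⟩,
  ⟨0, 0, -1, 0, -1, 1, 0, 1⟩,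
  ⟨2, 0, 0, 0, 0, 0, 0, 0⟩,
  ⟨2, 0, 0, 0, 0, 0, 0, 0⟩,
  ⟨2, 0, 0, 0, 0, 0, 0, 0⟩,
  ⟨0, 0, 0, 0, -2, 0, 0, 0⟩,
  ⟨0, -1, 0, 0, -1, 1, -1, 0⟩,
  ⟨1, -1, 0, 0, -1, 0, 0, 1⟩,
  ⟨1, 0, 0, 1, -1, 1, 0, 0⟩,
  ⟨1, -1, -1, 0, 0, -1, 0, 0⟩,
  ⟨1, -1, 0, 0, 1, 0, 0, -1⟩,
  ⟨1, -1, -1, 0, 0, -1, 0, 0⟩,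
  ⟨1, 0, 0, 1, 1, -1, 0, 0⟩,
  ⟨0, 0, 0, -1, 1, 0, -1, 1⟩,
  ⟨0, 0, 1, 0, 1, -1, 0, 1⟩,
  ⟨0, 0, 1, -1, 0, 1, -1, 0⟩,
  ⟨0, 1, 1, -1, 1, 0, 0, 0⟩,
  ⟨1, -1, 0, -1, 0, 0, -1, 0⟩,
  ⟨1, 0, 0, -1, 1, -1, 0, 0⟩,
  ⟨0, 0, 2, 0, 0, 0, 0, 0⟩,
  ⟨1, 0, 1, -1, 0, 0, 0, -1⟩,
  ⟨1, 0, -1, 0, 1, 0, 1, 0⟩,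
  ⟨1, -1, 0, 0, 1, 0, 0, 1⟩,
  ⟨0, 1, -1, 0, 0, 0, 1, -1⟩,
  ⟨1, -1, 0, 1, 0, 0, 1, 0⟩,
  ⟨0, 0, 0, -1, -1, 0, 1, -1⟩,
  ⟨1, -1, -1, 0, 0, -1, 0, 0⟩,
  ⟨0, 0, -1, 1, 0, 1, -1, 0⟩,
  ⟨1, -1, 0, 0, 1, 0, 0, -1⟩,
  ⟨0, 1, -1, 0, 0, 0, 1, -1⟩,
  ⟨0, 1, -1, 1, 1, 0, 0, 0⟩,
  ⟨0, 1, 0, 0, 1, -1, 1, 0⟩,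
  ⟨2, 0, 0, 0, 0, 0, 0, 0⟩,
  ⟨1, 0, -1, 0, 1, 0, 1, 0⟩,
  ⟨0, 1, 1, -1, 1, 0, 0, 0⟩,
  ⟨0, 1, -1, 0, 0, 0, -1, 1⟩,
  ⟨0, 1, 0, 0, -1, 1, 1, 0⟩,
  ⟨0, 0, -1, 0, -1, 1, 0, 1⟩,
  ⟨0, 0, 0, -1, -1, 0, -1, 1⟩,
  ⟨0, -1, 1, 0, 0, 0, -1, 1⟩,
  ⟨0, 1, -1, 0, 0, 0, -1, 1⟩,
  ⟨1, -1, 0, 0, -1, 0, 0, 1⟩,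
  ⟨1, 0, 0, 0, 0, -1, -1, 1⟩,
  ⟨1, 0, -1, 1, 0, 0, 0, 1⟩,
  ⟨1, 0, 0, 0, 0, -1, -1, 1⟩,
  ⟨0, -1, -1, 1, 1, 0, 0, 0⟩,
  ⟨1, 0, 0, -1, 1, -1, 0, 0⟩,
  ⟨1, 0, 0, 0, 0, -1, -1, 1⟩,
  ⟨0, 1, 1, -1, -1, 0, 0, 0⟩,
  ⟨1, -1, 0, 0, 1, 0, 0, 1⟩,
  ⟨0, 0, -1, 0, 1, -1, 0, -1⟩,
  ⟨1, -1, 0, 0, 1, 0, 0, 1⟩,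
  ⟨2, 0, 0, 0, 0, 0, 0, 0⟩,
  ⟨1, -1, 1, 0, 0, -1, 0, 0⟩,
  ⟨0, 0, 1, -1, 0, 1, 1, 0⟩,
  ⟨0, 0, 1, 0, -1, 1, 0, 1⟩,
  ⟨0, 1, 0, 0, -1, 1, 1, 0⟩,
  ⟨1, -1, 1, 0, 0, 1, 0, 0⟩,
  ⟨1, 0, 0, 0, 0, 1, 1, -1⟩,
  ⟨1, 0, 0, 1, -1, 1, 0, 0⟩,
  ⟨0, 0, 1, 0, -1, 1, 0, 1⟩,
  ⟨1, 0, 0, 0, 0, 1, 1, -1⟩,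
  ⟨1, 0, 1, -1, 0, 0, 0, -1⟩,
  ⟨1, -1, 0, -1, 0, 0, 1, 0⟩,
  ⟨0, 1, 0, 0, -1, 1, -1, 0⟩,
  ⟨1, -1, 0, -1, 0, 0, 1, 0⟩,
  ⟨2, 0, 0, 0, 0, 0, 0, 0⟩,
  ⟨0, -1, 0, 0, 1, -1, 1, 0⟩,
  ⟨2, 0, 0, 0, 0, 0, 0, 0⟩,
  ⟨1, -1, 0, 0, -1, 0, 0, -1⟩,
  ⟨1, -1, 0, 1, 0, 0, -1, 0⟩,
  ⟨1, -1, 1, 0, 0, -1, 0, 0⟩,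
  ⟨1, 0, 1, 0, -1, 0, -1, 0⟩,
  ⟨2, 0, 0, 0, 0, 0, 0, 0⟩,
  ⟨1, -1, 0, 0, -1, 0, 0, 1⟩,
  ⟨1, -1, 1, 0, 0, 1, 0, 0⟩,
  ⟨1, -1, 0, -1, 0, 0, -1, 0⟩,
  ⟨0, 1, 0, 0, 1, -1, 1, 0⟩,
  ⟨1, 0, 0, 0, 0, -1, 1, -1⟩,
  ⟨0, 1, -1, 1, 1, 0, 0, 0⟩,
  ⟨1, 0, -1, 1, 0, 0, 0, 1⟩,
  ⟨0, 0, 1, 0, 1, -1, 0, 1⟩,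
  ⟨1, -1, 0, 1, 0, 0, 1, 0⟩,
  ⟨1, 0, 1, 0, -1, 0, -1, 0⟩,
  ⟨1, 0, 1, 0, -1, 0, -1, 0⟩,
  ⟨1, 0, -1, 1, 0, 0, 0, 1⟩,
  ⟨0, 0, -1, 0, -1, 1, 0, -1⟩,
  ⟨1, 0, 0, 1, -1, 1, 0, 0⟩,
  ⟨0, 1, 1, 0, 0, 0, -1, 1⟩,
  ⟨1, -1, -1, 0, 0, 1, 0, 0⟩,
  ⟨1, 0, -1, 0, -1, 0, 1, 0⟩,
  ⟨2, 0, 0, 0, 0, 0, 0, 0⟩,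
  ⟨1, 0, -1, 1, 0, 0, 0, -1⟩,
  ⟨-2, 0, 0, 0, 0, 0, 0, 0⟩,
  ⟨0, 1, 1, -1, -1, 0, 0, 0⟩,
  ⟨-1, 0, 0, -1, 1, -1, 0, 0⟩,
  ⟨0, 1, 0, 0, 1, -1, 1, 0⟩,
  ⟨0, 1, 1, 0, 0, 0, -1, 1⟩,
  ⟨0, -1, 1, 0, 0, 0, -1, 1⟩,
  ⟨0, 1, 1, -1, -1, 0, 0, 0⟩,
  ⟨1, 0, 1, -1, 0, 0, 0, 1⟩,
  ⟨-1, 0, -1, 1, 0, 0, 0, 1⟩,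
  ⟨0, 1, -1, 1, 1, 0, 0, 0⟩,
  ⟨-1, 0, 0, 0, 0, 1, 1, -1⟩,
  ⟨0, 1, -1, 0, 0, 0, 1, -1⟩,
  ⟨0, 1, 0, 0, -1, 1, -1, 0⟩,
  ⟨1, 0, -1, 0, -1, 0, -1, 0⟩,
  ⟨1, 0, -1, 0, 1, 0, 1, 0⟩,
  ⟨2, 0, 0, 0, 0, 0, 0, 0⟩,
  ⟨-1, 1, 0, -1, 0, 0, 1, 0⟩,
  ⟨0, 1, -1, 0, 0, 0, -1, 1⟩,
  ⟨0, 1, 0, 0, -1, 1, 1, 0⟩,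
  ⟨0, 1, 1, -1, 1, 0, 0, 0⟩,
  ⟨-1, 0, 1, 0, -1, 0, -1, 0⟩,
  ⟨-1, 0, 1, 0, -1, 0, 1, 0⟩,
  ⟨0, 1, 0, 0, 1, -1, -1, 0⟩,
  ⟨1, 0, 1, -1, 0, 0, 0, -1⟩,
  ⟨-1, 1, 0, 0, -1, 0, 0, 1⟩,
  ⟨0, 1, 0, 0, -1, 1, 1, 0⟩,
  ⟨2, 0, 0, 0, 0, 0, 0, 0⟩,
  ⟨0, -1, -1, 0, 0, 0, 1, -1⟩,
  ⟨0, 1, -1, 1, -1, 0, 0, 0⟩,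
  ⟨1, 0, 0, 0, 0, -1, -1, 1⟩,
  ⟨0, 1, 1, 0, 0, 0, 1, -1⟩,
  ⟨1, 0, 0, 1, -1, 1, 0, 0⟩]

/-- the units for the reflection in the vector 184 -/
def utab2 : List ZQ := [
  ⟨2, 0, 0, 0, 0, 0, 0, 0⟩,
  ⟨0, 0, 0, 1, 1, 0, 1, -1⟩,
  ⟨-2, 0, 0, 0, 0, 0, 0, 0⟩,
  ⟨1, -1, 0, 1, 0, 0, -1, 0⟩,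
  ⟨1, -1, 0, 0, 1, 0, 0, 1⟩,
  ⟨1, 0, 1, -1, 0, 0, 0, 1⟩,
  ⟨1, -1, 1, 0, 0, 1, 0, 0⟩,
  ⟨1, -1, 0, 0, -1, 0, 0, 1⟩,
  ⟨2, 0, 0, 0, 0, 0, 0, 0⟩,
  ⟨1, 0, 0, 1, -1, 1, 0, 0⟩,
  ⟨1, -1, 0, 0, -1, 0, 0, -1⟩,
  ⟨1, -1, -1, 0, 0, 1, 0, 0⟩,
  ⟨-1, 0, 0, 0, 0, 1, -1, 1⟩,
  ⟨1, 0, 0, 1, 1, -1, 0, 0⟩,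
  ⟨1, -1, 0, 1, 0, 0, 1, 0⟩,
  ⟨1, -1, 0, 0, 1, 0, 0, -1⟩,
  ⟨-1, 0, -1, 1, 0, 0, 0, -1⟩,
  ⟨2, 0, 0, 0, 0, 0, 0, 0⟩,
  ⟨1, 0, -1, 0, 1, 0, -1, 0⟩,
  ⟨1, -1, 0, 1, 0, 0, 1, 0⟩,
  ⟨-2, 0, 0, 0, 0, 0, 0, 0⟩,
  ⟨1, -1, 0, 0, 1, 0, 0, -1⟩,
  ⟨1, -1, 0, 0, -1, 0, 0, 1⟩,
  ⟨1, -1, 0, -1, 0, 0, -1, 0⟩,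
  ⟨-1, 0, 0, -1, 1, -1, 0, 0⟩,
  ⟨1, 0, -1, 0, -1, 0, -1, 0⟩,
  ⟨1, -1, 1, 0, 0, -1, 0, 0⟩,
  ⟨1, -1, 0, 0, 1, 0, 0, 1⟩,
  ⟨0, -1, 0, 0, 1, -1, 1, 0⟩,
  ⟨-1, 0, 1, 0, -1, 0, -1, 0⟩,
  ⟨-1, 0, 1, 0, -1, 0, 1, 0⟩,
  ⟨1, -1, -1, 0, 0, -1, 0, 0⟩,
  ⟨0, -1, -1, 1, 1, 0, 0, 0⟩,
  ⟨1, 0, 0, 0, 0, -1, 1, -1⟩,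
  ⟨1, -1, 0, -1, 0, 0, 1, 0⟩,
  ⟨0, -1, -1, 1, 1, 0, 0, 0⟩,
  ⟨1, -1, 0, 1, 0, 0, 1, 0⟩,
  ⟨1, -1, -1, 0, 0, 1, 0, 0⟩,
  ⟨1, 0, 1, -1, 0, 0, 0, -1⟩,
  ⟨0, 0, 0, 1, 1, 0, 1, -1⟩,
  ⟨1, -1, 1, 0, 0, -1, 0, 0⟩,
  ⟨0, -1, 0, 0, 1, -1, -1, 0⟩,
  ⟨1, -1, 0, 0, 1, 0, 0, -1⟩,
  ⟨1, -1, 1, 0, 0, 1, 0, 0⟩,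
  ⟨1, -1, 0, 1, 0, 0, 1, 0⟩,
  ⟨1, -1, 0, 0, 1, 0, 0, 1⟩,
  ⟨2, 0, 0, 0, 0, 0, 0, 0⟩,
  ⟨0, 0, 0, -1, -1, 0, -1, 1⟩,
  ⟨0, -1, 1, 0, 0, 0, 1, -1⟩,
  ⟨0, -1, 1, -1, 1, 0, 0, 0⟩,
  ⟨0, -1, 0, 0, 1, -1, 1, 0⟩,
  ⟨1, 0, 1, 0, 1, 0, -1, 0⟩,
  ⟨0, 1, -1, 1, -1, 0, 0, 0⟩,
  ⟨0, 1, -1, 1, 1, 0, 0, 0⟩,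
  ⟨0, 0, 0, 1, 1, 0, 1, -1⟩,
  ⟨-1, 0, -1, 1, 0, 0, 0, 1⟩,
  ⟨0, 1, 1, 0, 0, 0, 1, -1⟩,
  ⟨-1, 1, 0, 0, 1, 0, 0, -1⟩,
  ⟨-1, 0, -1, 0, 1, 0, 1, 0⟩,
  ⟨1, -1, 0, 0, -1, 0, 0, 1⟩,
  ⟨0, -1, 0, 0, -1, 1, -1, 0⟩,
  ⟨0, -1, 1, 0, 0, 0, -1, 1⟩,
  ⟨0, -1, -1, 0, 0, 0, -1, 1⟩,
  ⟨1, 0, -1, 1, 0, 0, 0, 1⟩,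
  ⟨2, 0, 0, 0, 0, 0, 0, 0⟩,
  ⟨1, -1, 0, -1, 0, 0, 1, 0⟩,
  ⟨1, -1, 0, -1, 0, 0, -1, 0⟩,
  ⟨0, -1, -1, 1, -1, 0, 0, 0⟩,
  ⟨0, 0, 0, 0, 0, 0, -2, 0⟩,
  ⟨-1, 0, 1, -1, 0, 0, 0, -1⟩,
  ⟨0, 0, 0, 0, -2, 0, 0, 0⟩,
  ⟨1, -1, 0, 0, -1, 0, 0, -1⟩,
  ⟨0, 0, -1, 0, -1, 1, 0, -1⟩,
  ⟨1, -1, -1, 0, 0, -1, 0, 0⟩,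
  ⟨0, -1, 1, -1, -1, 0, 0, 0⟩,
  ⟨2, 0, 0, 0, 0, 0, 0, 0⟩,
  ⟨0, 1, 1, 0, 0, 0, 1, -1⟩,
  ⟨1, 0, 0, -1, 1, -1, 0, 0⟩,
  ⟨1, 0, 1, -1, 0, 0, 0, -1⟩,
  ⟨1, 0, 1, 0, 1, 0, -1, 0⟩,
  ⟨0, 0, 1, 0, 1, -1, 0, 1⟩,
  ⟨0, 1, 1, -1, 1, 0, 0, 0⟩,
  ⟨0, 1, -1, 0, 0, 0, -1, 1⟩,
  ⟨2, 0, 0, 0, 0, 0, 0, 0⟩,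
  ⟨1, -1, -1, 0, 0, 1, 0, 0⟩,
  ⟨1, 0, 1, 0, -1, 0, 1, 0⟩,
  ⟨1, 0, 0, 0, 0, -1, 1, -1⟩,
  ⟨1, 0, 0, 1, 1, -1, 0, 0⟩,
  ⟨0, 0, 0, 1, 1, 0, 1, -1⟩,
  ⟨1, 0, 1, 0, 1, 0, 1, 0⟩,
  ⟨0, 0, 1, 0, 1, -1, 0, -1⟩,
  ⟨0, -1, 1, -1, -1, 0, 0, 0⟩,
  ⟨1, -1, 1, 0, 0, 1, 0, 0⟩,
  ⟨1, 0, 1, 0, -1, 0, -1, 0⟩,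
  ⟨0, -1, 0, 0, -1, 1, -1, 0⟩,
  ⟨0, 1, -1, 1, 1, 0, 0, 0⟩,
  ⟨0, 1, 1, 0, 0, 0, -1, 1⟩,
  ⟨1, -1, 0, -1, 0, 0, -1, 0⟩,
  ⟨-1, 1, 0, 1, 0, 0, 1, 0⟩,
  ⟨1, 0, 0, -1, -1, 1, 0, 0⟩,
  ⟨0, 1, 0, 0, -1, 1, 1, 0⟩,
  ⟨1, -1, 0, 0, -1, 0, 0, -1⟩,
  ⟨1, -1, 0, 0, -1, 0, 0, 1⟩,
  ⟨1, 0, 1, 0, 1, 0, 1, 0⟩,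
  ⟨-1, 1, 0, 0, 1, 0, 0, 1⟩,
  ⟨0, 1, 0, 0, 1, -1, 1, 0⟩,
  ⟨1, 0, -1, 1, 0, 0, 0, 1⟩,
  ⟨1, -1, 0, -1, 0, 0, -1, 0⟩,
  ⟨2, 0, 0, 0, 0, 0, 0, 0⟩,
  ⟨1, 0, 0, 1, -1, 1, 0, 0⟩,
  ⟨1, 0, 0, -1, -1, 1, 0, 0⟩,
  ⟨1, 0, 0, 1, -1, 1, 0, 0⟩,
  ⟨1, 0, 0, 0, 0, 1, 1, -1⟩,
  ⟨2, 0, 0, 0, 0, 0, 0, 0⟩,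
  ⟨1, 0, 0, 0, 0, 1, -1, 1⟩,
  ⟨0, 0, 0, 0, 0, 0, 2, 0⟩,
  ⟨0, 0, 1, 0, -1, 1, 0, -1⟩,
  ⟨1, 0, 1, 0, -1, 0, -1, 0⟩,
  ⟨0, 1, 1, -1, -1, 0, 0, 0⟩,
  ⟨0, 1, 0, 0, -1, 1, -1, 0⟩,
  ⟨1, 0, 1, -1, 0, 0, 0, -1⟩,
  ⟨0, 1, 1, -1, 1, 0, 0, 0⟩,
  ⟨0, 0, -1, 0, -1, 1, 0, -1⟩,
  ⟨1, 0, 0, 0, 0, 1, -1, 1⟩,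
  ⟨1, -1, 0, 1, 0, 0, -1, 0⟩,
  ⟨1, 0, -1, 1, 0, 0, 0, 1⟩,
  ⟨1, 0, 0, 0, 0, -1, -1, 1⟩,
  ⟨0, 0, 1, -1, 0, 1, 1, 0⟩,
  ⟨0, 0, 1, -1, 0, 1, -1, 0⟩,
  ⟨1, -1, 0, -1, 0, 0, -1, 0⟩,
  ⟨0, 0, 2, 0, 0, 0, 0, 0⟩,
  ⟨0, -1, -1, 0, 0, 0, -1, 1⟩,
  ⟨0, 0, 0, 0, 0, 0, -2, 0⟩,
  ⟨1, 0, 1, -1, 0, 0, 0, -1⟩,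
  ⟨0, 1, -1, 0, 0, 0, 1, -1⟩,
  ⟨1, 0, -1, 0, 1, 0, 1, 0⟩,
  ⟨1, -1, 0, 0, -1, 0, 0, -1⟩,
  ⟨0, -1, -1, 0, 0, 0, 1, -1⟩,
  ⟨1, 0, 0, 1, -1, 1, 0, 0⟩,
  ⟨1, -1, 0, -1, 0, 0, 1, 0⟩,
  ⟨1, -1, 0, 0, 1, 0, 0, -1⟩,
  ⟨2, 0, 0, 0, 0, 0, 0, 0⟩,
  ⟨2, 0, 0, 0, 0, 0, 0, 0⟩,
  ⟨0, 0, 1, 0, -1, 1, 0, -1⟩,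
  ⟨0, 0, -1, 0, -1, 1, 0, -1⟩,
  ⟨0, 1, 1, -1, 1, 0, 0, 0⟩,
  ⟨1, 0, -1, 0, -1, 0, -1, 0⟩,
  ⟨1, 0, 0, -1, 1, -1, 0, 0⟩,
  ⟨1, -1, 0, -1, 0, 0, -1, 0⟩,
  ⟨0, 1, 0, 0, -1, 1, -1, 0⟩,
  ⟨0, 0, 0, -1, -1, 0, -1, 1⟩,
  ⟨0, 0, -1, 0, -1, 1, 0, 1⟩,
  ⟨1, -1, -1, 0, 0, 1, 0, 0⟩,
  ⟨1, 0, 1, 0, -1, 0, 1, 0⟩,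
  ⟨1, 0, 1, 0, -1, 0, 1, 0⟩,
  ⟨1, -1, 0, 0, -1, 0, 0, 1⟩,
  ⟨1, 0, 0, 0, 0, 1, -1, 1⟩,
  ⟨1, 0, 1, -1, 0, 0, 0, 1⟩,
  ⟨0, 0, 0, -1, -1, 0, -1, 1⟩,
  ⟨1, -1, 1, 0, 0, 1, 0, 0⟩,
  ⟨1, -1, -1, 0, 0, -1, 0, 0⟩,
  ⟨0, -1, 0, 0, -1, 1, -1, 0⟩,
  ⟨0, 0, 0, 0, -2, 0, 0, 0⟩,
  ⟨1, -1, -1, 0, 0, -1, 0, 0⟩,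
  ⟨0, 0, 0, 0, 2, 0, 0, 0⟩,
  ⟨1, 0, 0, 1, -1, 1, 0, 0⟩,
  ⟨0, 1, -1, 1, 1, 0, 0, 0⟩,
  ⟨0, 1, -1, 1, 1, 0, 0, 0⟩,
  ⟨1, 0, -1, 1, 0, 0, 0, -1⟩,
  ⟨0, 1, -1, 0, 0, 0, 1, -1⟩,
  ⟨0, 1, 0, 0, -1, 1, -1, 0⟩,
  ⟨0, 1, 0, 0, 1, -1, -1, 0⟩,
  ⟨1, 0, -1, 0, 1, 0, -1, 0⟩,
  ⟨0, 1, 1, -1, 1, 0, 0, 0⟩,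
  ⟨0, 0, 1, 0, 1, -1, 0, -1⟩,
  ⟨0, -1, 0, 0, 1, -1, 1, 0⟩,
  ⟨1, -1, 0, 0, 1, 0, 0, -1⟩,
  ⟨0, 1, -1, 0, 0, 0, 1, -1⟩,
  ⟨0, 0, -1, 1, 0, 1, 1, 0⟩,
  ⟨1, 0, 0, -1, 1, -1, 0, 0⟩,
  ⟨1, -1, 1, 0, 0, -1, 0, 0⟩,
  ⟨0, -1, 1, -1, 1, 0, 0, 0⟩,
  ⟨0, 0, -1, 0, 1, -1, 0, 1⟩,
  ⟨-2, 0, 0, 0, 0, 0, 0, 0⟩,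
  ⟨-2, 0, 0, 0, 0, 0, 0, 0⟩,
  ⟨1, 0, 1, -1, 0, 0, 0, 1⟩,
  ⟨0, 1, -1, 0, 0, 0, -1, 1⟩,
  ⟨1, 0, 0, -1, 1, -1, 0, 0⟩,
  ⟨1, 0, -1, 0, 1, 0, -1, 0⟩,
  ⟨0, 1, 0, 0, 1, -1, -1, 0⟩,
  ⟨1, 0, 0, 0, 0, -1, 1, -1⟩,
  ⟨1, -1, 0, 1, 0, 0, 1, 0⟩,
  ⟨1, 0, -1, 1, 0, 0, 0, -1⟩,
  ⟨1, -1, 0, 0, -1, 0, 0, -1⟩,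
  ⟨0, 0, 0, 0, 0, 0, 2, 0⟩,
  ⟨0, -1, -1, 1, -1, 0, 0, 0⟩,
  ⟨0, 0, -2, 0, 0, 0, 0, 0⟩,
  ⟨1, 0, -1, 0, -1, 0, 1, 0⟩,
  ⟨1, -1, 0, 0, 1, 0, 0, 1⟩,
  ⟨0, 0, 0, -1, 1, 0, 1, -1⟩,
  ⟨0, 0, 0, -1, -1, 0, 1, -1⟩,
  ⟨1, 0, 0, 0, 0, -1, 1, -1⟩,
  ⟨1, 0, 0, 0, 0, -1, 1, -1⟩,
  ⟨2, 0, 0, 0, 0, 0, 0, 0⟩,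
  ⟨1, 0, 0, 0, 0, 1, -1, 1⟩,
  ⟨2, 0, 0, 0, 0, 0, 0, 0⟩,
  ⟨1, -1, 0, 0, -1, 0, 0, 1⟩,
  ⟨0, 1, -1, 1, 1, 0, 0, 0⟩,
  ⟨0, 0, 0, -1, -1, 0, -1, 1⟩,
  ⟨1, 0, 0, 1, -1, 1, 0, 0⟩,
  ⟨1, 0, 0, 0, 0, 1, -1, 1⟩,
  ⟨1, -1, 1, 0, 0, 1, 0, 0⟩,
  ⟨0, 0, 0, 1, 1, 0, 1, -1⟩,
  ⟨1, 0, -1, 1, 0, 0, 0, 1⟩,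
  ⟨0, 1, 0, 0, -1, 1, 1, 0⟩,
  ⟨1, 0, -1, 0, 1, 0, -1, 0⟩,
  ⟨1, 0, -1, 0, 1, 0, -1, 0⟩,
  ⟨2, 0, 0, 0, 0, 0, 0, 0⟩,
  ⟨0, 1, 1, 0, 0, 0, 1, -1⟩,
  ⟨0, 0, 1, 0, 1, -1, 0, 1⟩,
  ⟨1, 0, 1, -1, 0, 0, 0, 1⟩,
  ⟨1, 0, 0, 0, 0, 1, -1, 1⟩,
  ⟨1, -1, 0, 0, 1, 0, 0, 1⟩,
  ⟨0, 1, 1, 0, 0, 0, -1, 1⟩,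
  ⟨0, 0, 1, 0, 1, -1, 0, 1⟩,
  ⟨0, 0, 0, 1, 1, 0, -1, 1⟩,
  ⟨-1, 1, 0, 0, -1, 0, 0, 1⟩,
  ⟨1, -1, 0, 0, 1, 0, 0, 1⟩,
  ⟨1, -1, -1, 0, 0, -1, 0, 0⟩,
  ⟨1, -1, 0, 1, 0, 0, -1, 0⟩,
  ⟨2, 0, 0, 0, 0, 0, 0, 0⟩,
  ⟨1, 0, -1, 0, 1, 0, -1, 0⟩,
  ⟨1, -1, 0, 0, 1, 0, 0, -1⟩,
  ⟨1, -1, 0, -1, 0, 0, -1, 0⟩,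
  ⟨1, -1, -1, 0, 0, 1, 0, 0⟩,
  ⟨0, -1, 1, 0, 0, 0, 1, -1⟩,
  ⟨2, 0, 0, 0, 0, 0, 0, 0⟩,
  ⟨1, 0, -1, 0, 1, 0, 1, 0⟩,
  ⟨1, -1, 1, 0, 0, -1, 0, 0⟩,
  ⟨0, 1, -1, 0, 0, 0, -1, 1⟩,
  ⟨1, 0, 1, -1, 0, 0, 0, 1⟩,
  ⟨1, -1, 1, 0, 0, -1, 0, 0⟩,
  ⟨1, 0, 0, -1, 1, -1, 0, 0⟩,
  ⟨1, 0, 0, 1, -1, 1, 0, 0⟩,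
  ⟨0, 1, -1, 1, -1, 0, 0, 0⟩,
  ⟨1, 0, -1, 1, 0, 0, 0, -1⟩,
  ⟨1, -1, 0, 1, 0, 0, -1, 0⟩,
  ⟨0, 1, -1, 1, -1, 0, 0, 0⟩,
  ⟨0, 0, 0, 1, -1, 0, -1, 1⟩,
  ⟨0, 1, 1, -1, -1, 0, 0, 0⟩,
  ⟨0, 0, -1, 1, 0, -1, -1, 0⟩,
  ⟨0, 1, -1, 1, -1, 0, 0, 0⟩,
  ⟨0, 1, 1, 0, 0, 0, -1, 1⟩,
  ⟨0, 1, 0, 0, 1, -1, 1, 0⟩,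
  ⟨1, 0, 1, 0, -1, 0, 1, 0⟩,
  ⟨2, 0, 0, 0, 0, 0, 0, 0⟩,
  ⟨0, 1, 1, 0, 0, 0, 1, -1⟩,
  ⟨0, 1, 1, -1, -1, 0, 0, 0⟩,
  ⟨0, 1, 0, 0, -1, 1, 1, 0⟩,
  ⟨2, 0, 0, 0, 0, 0, 0, 0⟩,
  ⟨1, 0, 0, -1, -1, 1, 0, 0⟩,
  ⟨1, -1, 0, 1, 0, 0, 1, 0⟩,
  ⟨1, -1, 0, 1, 0, 0, 1, 0⟩,
  ⟨0, 1, 0, 0, 1, -1, -1, 0⟩,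
  ⟨1, 0, 0, 0, 0, -1, 1, -1⟩,
  ⟨1, 0, -1, 1, 0, 0, 0, -1⟩,
  ⟨0, -1, 0, 0, -1, 1, 1, 0⟩,
  ⟨1, -1, 0, -1, 0, 0, 1, 0⟩,
  ⟨0, 0, -1, 0, -1, 1, 0, 1⟩,
  ⟨1, 0, 0, 1, 1, -1, 0, 0⟩,
  ⟨1, 0, 1, 0, -1, 0, 1, 0⟩,
  ⟨1, -1, 0, 0, -1, 0, 0, -1⟩,
  ⟨0, 0, 1, -1, 0, -1, -1, 0⟩,
  ⟨1, -1, 1, 0, 0, 1, 0, 0⟩,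
  ⟨0, 1, 1, -1, -1, 0, 0, 0⟩,
  ⟨1, 0, 0, 0, 0, -1, 1, -1⟩,
  ⟨1, 0, 0, -1, 1, -1, 0, 0⟩,
  ⟨0, 0, 0, 0, 2, 0, 0, 0⟩,
  ⟨1, -1, -1, 0, 0, -1, 0, 0⟩,
  ⟨0, 1, 0, 0, 1, -1, 1, 0⟩,
  ⟨0, 0, 0, -1, -1, 0, -1, 1⟩,
  ⟨0, 0, -1, 1, 0, -1, 1, 0⟩,
  ⟨0, 0, -1, 0, 1, -1, 0, 1⟩,
  ⟨0, 1, -1, 0, 0, 0, -1, 1⟩,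
  ⟨0, 1, -1, 0, 0, 0, -1, 1⟩,
  ⟨0, 1, 1, -1, -1, 0, 0, 0⟩,
  ⟨-1, 0, 1, -1, 0, 0, 0, 1⟩,
  ⟨2, 0, 0, 0, 0, 0, 0, 0⟩,
  ⟨1, 0, 1, 0, -1, 0, 1, 0⟩,
  ⟨0, 1, 0, 0, -1, 1, 1, 0⟩,
  ⟨-1, 0, 0, 1, -1, 1, 0, 0⟩,
  ⟨0, 1, 0, 0, 1, -1, 1, 0⟩,
  ⟨0, 1, 0, 0, 1, -1, -1, 0⟩,
  ⟨-1, 1, 0, -1, 0, 0, -1, 0⟩,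
  ⟨-2, 0, 0, 0, 0, 0, 0, 0⟩,
  ⟨0, -1, -1, 1, 1, 0, 0, 0⟩,
  ⟨0, 1, -1, 1, 1, 0, 0, 0⟩,
  ⟨0, 1, 1, 0, 0, 0, 1, -1⟩,
  ⟨-1, 0, 0, 0, 0, -1, 1, -1⟩,
  ⟨1, 0, 0, 0, 0, 1, -1, 1⟩,
  ⟨0, 1, 1, -1, 1, 0, 0, 0⟩,
  ⟨0, 1, 1, 0, 0, 0, -1, 1⟩,
  ⟨0, 1, 0, 0, -1, 1, -1, 0⟩,
  ⟨1, 0, -1, 1, 0, 0, 0, -1⟩,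
  ⟨0, 1, 0, 0, -1, 1, -1, 0⟩,
  ⟨0, -1, 1, -1, -1, 0, 0, 0⟩,
  ⟨2, 0, 0, 0, 0, 0, 0, 0⟩,
  ⟨1, 0, -1, 0, -1, 0, 1, 0⟩,
  ⟨-1, 0, -1, 0, 1, 0, -1, 0⟩,
  ⟨0, 1, 0, 0, 1, -1, 1, 0⟩,
  ⟨0, 1, 1, -1, -1, 0, 0, 0⟩,
  ⟨1, 0, 0, -1, 1, -1, 0, 0⟩,
  ⟨0, 1, -1, 0, 0, 0, 1, -1⟩,
  ⟨0, 1, -1, 1, -1, 0, 0, 0⟩,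
  ⟨-1, 1, 0, 0, -1, 0, 0, -1⟩]

/-- the units for the reflection in the vector 272 -/
def utab3 : List ZQ := [
  ⟨2, 0, 0, 0, 0, 0, 0, 0⟩,
  ⟨-1, 0, 1, 0, -1, 0, 1, 0⟩,
  ⟨-1, 0, -1, 0, -1, 0, 1, 0⟩,
  ⟨1, -1, -1, 0, 0, 1, 0, 0⟩,
  ⟨1, -1, 1, 0, 0, 1, 0, 0⟩,
  ⟨-1, 0, 1, 0, 1, 0, -1, 0⟩,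
  ⟨2, 0, 0, 0, 0, 0, 0, 0⟩,
  ⟨1, -1, 0, -1, 0, 0, 1, 0⟩,
  ⟨1, -1, 0, -1, 0, 0, -1, 0⟩,
  ⟨1, -1, 0, 0, -1, 0, 0, -1⟩,
  ⟨1, -1, 0, 0, 1, 0, 0, -1⟩,
  ⟨1, -1, 0, 0, 1, 0, 0, 1⟩,
  ⟨1, 0, -1, 0, 1, 0, 1, 0⟩,
  ⟨1, 0, 1, 0, 1, 0, -1, 0⟩,
  ⟨1, 0, 0, 1, -1, 1, 0, 0⟩,
  ⟨1, 0, -1, 1, 0, 0, 0, 1⟩,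
  ⟨-1, 0, -1, 0, 1, 0, -1, 0⟩,
  ⟨1, 0, 1, 0, 1, 0, 1, 0⟩,
  ⟨1, 0, -1, 0, -1, 0, -1, 0⟩,
  ⟨2, 0, 0, 0, 0, 0, 0, 0⟩,
  ⟨-1, 0, 1, 0, 1, 0, 1, 0⟩,
  ⟨1, 0, 0, 1, 1, -1, 0, 0⟩,
  ⟨1, 0, 1, 0, -1, 0, 1, 0⟩,
  ⟨-1, 0, -1, 0, -1, 0, 1, 0⟩,
  ⟨1, 0, 0, 1, -1, 1, 0, 0⟩,
  ⟨1, 0, 0, 0, 0, 1, -1, 1⟩,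
  ⟨-1, 0, 1, 0, -1, 0, -1, 0⟩,
  ⟨1, -1, 0, 0, -1, 0, 0, 1⟩,
  ⟨1, -1, 0, 0, 1, 0, 0, 1⟩,
  ⟨1, -1, 0, 1, 0, 0, 1, 0⟩,
  ⟨1, -1, 0, 1, 0, 0, -1, 0⟩,
  ⟨-2, 0, 0, 0, 0, 0, 0, 0⟩,
  ⟨2, 0, 0, 0, 0, 0, 0, 0⟩,
  ⟨1, -1, -1, 0, 0, -1, 0, 0⟩,
  ⟨1, -1, 1, 0, 0, -1, 0, 0⟩,
  ⟨-1, 0, 0, 0, 0, 1, -1, 1⟩,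
  ⟨1, 0, 1, 0, 1, 0, 1, 0⟩,
  ⟨1, -1, 0, -1, 0, 0, 1, 0⟩,
  ⟨-1, 0, -1, 1, 0, 0, 0, 1⟩,
  ⟨1, -1, 0, 0, 1, 0, 0, -1⟩,
  ⟨-1, 0, 0, 1, -1, 1, 0, 0⟩,
  ⟨-2, 0, 0, 0, 0, 0, 0, 0⟩,
  ⟨1, -1, 1, 0, 0, -1, 0, 0⟩,
  ⟨1, 0, 1, -1, 0, 0, 0, -1⟩,
  ⟨2, 0, 0, 0, 0, 0, 0, 0⟩,
  ⟨0, -1, 1, 0, 0, 0, -1, 1⟩,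
  ⟨1, 0, 0, -1, 1, -1, 0, 0⟩,
  ⟨0, -1, 0, 0, -1, 1, 1, 0⟩,
  ⟨1, 0, 0, 0, 0, -1, 1, -1⟩,
  ⟨-1, 0, 1, 0, 1, 0, 1, 0⟩,
  ⟨0, -1, -1, 1, 1, 0, 0, 0⟩,
  ⟨1, 0, 1, -1, 0, 0, 0, -1⟩,
  ⟨1, 0, -1, 0, 1, 0, -1, 0⟩,
  ⟨0, 0, 0, 0, 0, 0, -2, 0⟩,
  ⟨0, 0, 1, 0, 1, -1, 0, 1⟩,
  ⟨0, 0, -1, 0, -1, 1, 0, -1⟩,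
  ⟨1, 0, 0, 0, 0, 1, 1, -1⟩,
  ⟨-1, 1, 0, 0, 1, 0, 0, -1⟩,
  ⟨-1, 0, -1, 0, 1, 0, -1, 0⟩,
  ⟨1, -1, 0, -1, 0, 0, -1, 0⟩,
  ⟨0, 0, -1, 0, -1, 1, 0, -1⟩,
  ⟨0, 0, -1, 0, -1, 1, 0, -1⟩,
  ⟨1, 0, -1, 0, -1, 0, -1, 0⟩,
  ⟨0, -1, -1, 0, 0, 0, -1, 1⟩,
  ⟨0, -1, 0, 0, -1, 1, -1, 0⟩,
  ⟨1, -1, -1, 0, 0, -1, 0, 0⟩,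
  ⟨0, 0, 0, -1, -1, 0, -1, 1⟩,
  ⟨0, -1, -1, 1, 1, 0, 0, 0⟩,
  ⟨0, -1, 0, 0, -1, 1, -1, 0⟩,
  ⟨0, 0, -1, 1, 0, -1, -1, 0⟩,
  ⟨1, -1, 0, 0, -1, 0, 0, -1⟩,
  ⟨-1, 0, -1, 0, -1, 0, -1, 0⟩,
  ⟨2, 0, 0, 0, 0, 0, 0, 0⟩,
  ⟨0, -1, 0, 0, 1, -1, -1, 0⟩,
  ⟨0, -1, -1, 1, -1, 0, 0, 0⟩,
  ⟨2, 0, 0, 0, 0, 0, 0, 0⟩,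
  ⟨0, 1, 0, 0, 1, -1, -1, 0⟩,
  ⟨0, 0, 1, -1, 0, -1, -1, 0⟩,
  ⟨1, 0, 0, 0, 0, -1, 1, -1⟩,
  ⟨1, 0, 1, -1, 0, 0, 0, -1⟩,
  ⟨1, 0, -1, 0, 1, 0, -1, 0⟩,
  ⟨0, 1, 0, 0, 1, -1, 1, 0⟩,
  ⟨2, 0, 0, 0, 0, 0, 0, 0⟩,
  ⟨0, 0, 1, 0, 1, -1, 0, -1⟩,
  ⟨1, -1, 0, 0, 1, 0, 0, -1⟩,
  ⟨1, 0, 0, 0, 0, -1, 1, -1⟩,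
  ⟨1, 0, 0, 1, 1, -1, 0, 0⟩,
  ⟨1, 0, 1, 0, 1, 0, -1, 0⟩,
  ⟨0, -1, 0, 0, 1, -1, 1, 0⟩,
  ⟨1, 0, 0, -1, 1, -1, 0, 0⟩,
  ⟨1, 0, 0, 0, 0, -1, -1, 1⟩,
  ⟨0, 0, 1, -1, 0, 1, 1, 0⟩,
  ⟨1, 0, 0, 0, 0, 1, -1, 1⟩,
  ⟨-1, 0, 1, 0, -1, 0, 1, 0⟩,
  ⟨1, 0, 0, -1, -1, 1, 0, 0⟩,
  ⟨2, 0, 0, 0, 0, 0, 0, 0⟩,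
  ⟨0, 1, 0, 0, -1, 1, -1, 0⟩,
  ⟨0, -1, 1, -1, -1, 0, 0, 0⟩,
  ⟨1, 0, 0, 1, -1, 1, 0, 0⟩,
  ⟨1, 0, 1, -1, 0, 0, 0, 1⟩,
  ⟨1, 0, -1, 0, -1, 0, 1, 0⟩,
  ⟨1, -1, 0, 0, -1, 0, 0, 1⟩,
  ⟨0, 0, 1, 0, -1, 1, 0, 1⟩,
  ⟨0, 1, 0, 0, -1, 1, 1, 0⟩,
  ⟨2, 0, 0, 0, 0, 0, 0, 0⟩,
  ⟨1, 0, 1, 0, -1, 0, 1, 0⟩,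
  ⟨1, 0, 0, 0, 0, -1, -1, 1⟩,
  ⟨1, 0, -1, 1, 0, 0, 0, -1⟩,
  ⟨2, 0, 0, 0, 0, 0, 0, 0⟩,
  ⟨1, 0, 0, 1, -1, 1, 0, 0⟩,
  ⟨1, 0, 0, 0, 0, 1, 1, -1⟩,
  ⟨1, 0, 0, 0, 0, 1, -1, 1⟩,
  ⟨1, 0, 0, 0, 0, 1, 1, -1⟩,
  ⟨2, 0, 0, 0, 0, 0, 0, 0⟩,
  ⟨0, -1, 0, 0, -1, 1, 1, 0⟩,
  ⟨1, -1, 0, 0, 1, 0, 0, -1⟩,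
  ⟨0, 0, 1, 0, -1, 1, 0, -1⟩,
  ⟨1, 0, 1, 0, -1, 0, -1, 0⟩,
  ⟨0, 0, 0, 1, -1, 0, 1, -1⟩,
  ⟨1, 0, -1, 0, -1, 0, -1, 0⟩,
  ⟨1, 0, 1, -1, 0, 0, 0, -1⟩,
  ⟨1, 0, 1, 0, -1, 0, 1, 0⟩,
  ⟨1, -1, 0, 0, -1, 0, 0, -1⟩,
  ⟨0, 1, -1, 0, 0, 0, -1, 1⟩,
  ⟨0, 0, -1, 0, -1, 1, 0, 1⟩,
  ⟨0, 1, 1, 0, 0, 0, 1, -1⟩,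
  ⟨2, 0, 0, 0, 0, 0, 0, 0⟩,
  ⟨1, 0, -1, 0, 1, 0, 1, 0⟩,
  ⟨1, 0, -1, 0, 1, 0, 1, 0⟩,
  ⟨1, 0, 1, 0, 1, 0, -1, 0⟩,
  ⟨1, 0, 1, 0, 1, 0, -1, 0⟩,
  ⟨1, -1, 0, -1, 0, 0, -1, 0⟩,
  ⟨0, 0, -1, 0, -1, 1, 0, -1⟩,
  ⟨1, 0, -1, 0, -1, 0, -1, 0⟩,
  ⟨1, 0, -1, 0, -1, 0, -1, 0⟩,
  ⟨0, 1, 0, 0, -1, 1, 1, 0⟩,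
  ⟨0, -1, 1, 0, 0, 0, 1, -1⟩,
  ⟨0, -1, 0, 0, 1, -1, 1, 0⟩,
  ⟨0, 1, -1, 1, 1, 0, 0, 0⟩,
  ⟨1, -1, 0, 0, 1, 0, 0, -1⟩,
  ⟨0, 0, 1, -1, 0, 1, -1, 0⟩,
  ⟨1, 0, 0, -1, 1, -1, 0, 0⟩,
  ⟨0, 1, 0, 0, 1, -1, -1, 0⟩,
  ⟨0, 0, 0, -1, 1, 0, 1, -1⟩,
  ⟨1, -1, -1, 0, 0, 1, 0, 0⟩,
  ⟨0, 1, 1, -1, -1, 0, 0, 0⟩,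
  ⟨1, 0, 0, -1, -1, 1, 0, 0⟩,
  ⟨-1, 1, 0, 0, -1, 0, 0, 1⟩,
  ⟨1, 0, 1, 0, -1, 0, -1, 0⟩,
  ⟨1, 0, -1, 0, -1, 0, 1, 0⟩,
  ⟨0, 0, 0, 0, 0, 0, 2, 0⟩,
  ⟨1, 0, 1, 0, -1, 0, 1, 0⟩,
  ⟨2, 0, 0, 0, 0, 0, 0, 0⟩,
  ⟨0, 0, 1, 0, 1, -1, 0, 1⟩,
  ⟨1, 0, 1, 0, 1, 0, 1, 0⟩,
  ⟨1, -1, 0, 1, 0, 0, 1, 0⟩,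
  ⟨0, 0, 1, 0, -1, 1, 0, 1⟩,
  ⟨1, 0, 1, 0, -1, 0, 1, 0⟩,
  ⟨1, 0, 1, 0, -1, 0, 1, 0⟩,
  ⟨0, 0, 1, -1, 0, -1, 1, 0⟩,
  ⟨1, -1, 0, 0, -1, 0, 0, 1⟩,
  ⟨1, -1, 1, 0, 0, -1, 0, 0⟩,
  ⟨0, 0, 0, 1, -1, 0, 1, -1⟩,
  ⟨1, 0, 0, -1, 1, -1, 0, 0⟩,
  ⟨0, 1, 1, -1, 1, 0, 0, 0⟩,
  ⟨0, 1, 0, 0, -1, 1, -1, 0⟩,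
  ⟨1, 0, -1, 0, 1, 0, -1, 0⟩,
  ⟨1, 0, -1, 0, 1, 0, -1, 0⟩,
  ⟨1, -1, 0, 0, -1, 0, 0, 1⟩,
  ⟨0, 0, -1, 0, 1, -1, 0, -1⟩,
  ⟨0, 1, -1, 0, 0, 0, 1, -1⟩,
  ⟨1, 0, -1, 0, -1, 0, -1, 0⟩,
  ⟨2, 0, 0, 0, 0, 0, 0, 0⟩,
  ⟨1, 0, -1, 1, 0, 0, 0, 1⟩,
  ⟨1, 0, -1, 0, 1, 0, -1, 0⟩,
  ⟨2, 0, 0, 0, 0, 0, 0, 0⟩,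
  ⟨1, 0, 1, 0, 1, 0, -1, 0⟩,
  ⟨1, 0, -1, 0, 1, 0, 1, 0⟩,
  ⟨2, 0, 0, 0, 0, 0, 0, 0⟩,
  ⟨0, 0, 0, 1, 1, 0, -1, 1⟩,
  ⟨1, -1, 1, 0, 0, 1, 0, 0⟩,
  ⟨0, 1, -1, 1, -1, 0, 0, 0⟩,
  ⟨1, 0, 0, 0, 0, -1, -1, 1⟩,
  ⟨1, -1, 0, 0, 1, 0, 0, 1⟩,
  ⟨0, 0, -1, 1, 0, 1, 1, 0⟩,
  ⟨1, 0, -1, 0, -1, 0, 1, 0⟩,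
  ⟨0, 1, 0, 0, 1, -1, 1, 0⟩,
  ⟨1, -1, -1, 0, 0, -1, 0, 0⟩,
  ⟨0, 0, 0, -1, -1, 0, -1, 1⟩,
  ⟨0, 0, -1, 1, 0, -1, -1, 0⟩,
  ⟨1, -1, 0, 0, -1, 0, 0, -1⟩,
  ⟨1, 0, 1, 0, 1, 0, 1, 0⟩,
  ⟨1, 0, -1, 0, -1, 0, -1, 0⟩,
  ⟨0, -1, 1, -1, 1, 0, 0, 0⟩,
  ⟨0, 1, 1, 0, 0, 0, -1, 1⟩,
  ⟨1, -1, 0, 1, 0, 0, -1, 0⟩,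
  ⟨1, 0, -1, 0, -1, 0, 1, 0⟩,
  ⟨1, -1, -1, 0, 0, 1, 0, 0⟩,
  ⟨1, 0, 1, 0, -1, 0, -1, 0⟩,
  ⟨0, 0, -1, 0, 1, -1, 0, 1⟩,
  ⟨1, -1, 0, -1, 0, 0, 1, 0⟩,
  ⟨0, 0, 1, 0, 1, -1, 0, -1⟩,
  ⟨1, -1, 0, 1, 0, 0, -1, 0⟩,
  ⟨1, 0, -1, 0, 1, 0, 1, 0⟩,
  ⟨0, 1, 1, -1, 1, 0, 0, 0⟩,
  ⟨1, 0, -1, 0, 1, 0, -1, 0⟩,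
  ⟨1, 0, 0, 0, 0, 1, -1, 1⟩,
  ⟨0, 1, -1, 0, 0, 0, 1, -1⟩,
  ⟨0, -1, 1, -1, -1, 0, 0, 0⟩,
  ⟨1, -1, 0, 1, 0, 0, 1, 0⟩,
  ⟨0, 1, 0, 0, -1, 1, -1, 0⟩,
  ⟨1, 0, 1, 0, 1, 0, 1, 0⟩,
  ⟨0, 0, -1, 1, 0, 1, 1, 0⟩,
  ⟨2, 0, 0, 0, 0, 0, 0, 0⟩,
  ⟨2, 0, 0, 0, 0, 0, 0, 0⟩,
  ⟨0, 0, 0, -1, 1, 0, -1, 1⟩,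
  ⟨0, 0, 0, 1, 1, 0, 1, -1⟩,
  ⟨0, 0, 1, 0, 1, -1, 0, 1⟩,
  ⟨0, 1, 0, 0, -1, 1, -1, 0⟩,
  ⟨0, 1, 1, 0, 0, 0, -1, 1⟩,
  ⟨1, 0, 1, 0, 1, 0, 1, 0⟩,
  ⟨2, 0, 0, 0, 0, 0, 0, 0⟩,
  ⟨1, 0, -1, 1, 0, 0, 0, 1⟩,
  ⟨0, 1, 0, 0, -1, 1, 1, 0⟩,
  ⟨0, 1, -1, 1, 1, 0, 0, 0⟩,
  ⟨-1, 0, -1, 0, -1, 0, -1, 0⟩,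
  ⟨1, 0, -1, 1, 0, 0, 0, 1⟩,
  ⟨0, 0, 0, -1, 1, 0, -1, 1⟩,
  ⟨1, -1, 0, 1, 0, 0, -1, 0⟩,
  ⟨1, 0, 1, 0, -1, 0, -1, 0⟩,
  ⟨1, -1, 1, 0, 0, -1, 0, 0⟩,
  ⟨0, 0, -1, 0, -1, 1, 0, 1⟩,
  ⟨1, 0, -1, 0, 1, 0, 1, 0⟩,
  ⟨0, 0, 1, -1, 0, 1, 1, 0⟩,
  ⟨1, -1, 0, 0, -1, 0, 0, -1⟩,
  ⟨1, 0, 0, 0, 0, -1, 1, -1⟩,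
  ⟨1, -1, 1, 0, 0, 1, 0, 0⟩,
  ⟨0, 0, -1, 0, 1, -1, 0, 1⟩,
  ⟨0, -1, 0, 0, 1, -1, -1, 0⟩,
  ⟨1, 0, -1, 0, -1, 0, 1, 0⟩,
  ⟨0, 1, 1, -1, -1, 0, 0, 0⟩,
  ⟨0, 1, 0, 0, 1, -1, 1, 0⟩,
  ⟨0, 1, -1, 0, 0, 0, -1, 1⟩,
  ⟨1, -1, 0, -1, 0, 0, 1, 0⟩,
  ⟨1, -1, 0, 0, -1, 0, 0, 1⟩,
  ⟨1, -1, -1, 0, 0, -1, 0, 0⟩,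
  ⟨1, 0, 1, 0, 1, 0, -1, 0⟩,
  ⟨1, 0, -1, 0, -1, 0, 1, 0⟩,
  ⟨0, 0, 1, 0, -1, 1, 0, -1⟩,
  ⟨0, 0, 0, 1, 1, 0, 1, -1⟩,
  ⟨0, 0, -1, 1, 0, 1, -1, 0⟩,
  ⟨0, 1, 0, 0, 1, -1, -1, 0⟩,
  ⟨1, -1, 0, 0, 1, 0, 0, 1⟩,
  ⟨1, 0, 1, 0, -1, 0, -1, 0⟩,
  ⟨2, 0, 0, 0, 0, 0, 0, 0⟩,
  ⟨0, 1, -1, 1, -1, 0, 0, 0⟩,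
  ⟨0, -1, -1, 0, 0, 0, 1, -1⟩,
  ⟨0, 1, 1, 0, 0, 0, 1, -1⟩,
  ⟨1, 0, -1, 1, 0, 0, 0, -1⟩,
  ⟨0, 0, 1, -1, 0, -1, -1, 0⟩,
  ⟨1, 0, 1, 0, 1, 0, 1, 0⟩,
  ⟨1, -1, 1, 0, 0, 1, 0, 0⟩,
  ⟨1, -1, 0, 0, 1, 0, 0, 1⟩,
  ⟨0, 0, 0, -1, -1, 0, 1, -1⟩,
  ⟨0, 0, -1, 0, 1, -1, 0, -1⟩,
  ⟨1, 0, -1, 0, -1, 0, -1, 0⟩,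
  ⟨1, -1, 0, 1, 0, 0, 1, 0⟩,
  ⟨0, 1, 0, 0, 1, -1, 1, 0⟩,
  ⟨1, -1, 0, 0, -1, 0, 0, 1⟩,
  ⟨1, 0, 1, 0, 1, 0, -1, 0⟩,
  ⟨1, 0, 1, 0, -1, 0, 1, 0⟩,
  ⟨2, 0, 0, 0, 0, 0, 0, 0⟩,
  ⟨-2, 0, 0, 0, 0, 0, 0, 0⟩,
  ⟨0, 0, 1, -1, 0, 1, 1, 0⟩,
  ⟨0, 0, -1, 1, 0, -1, -1, 0⟩,
  ⟨1, -1, 0, 0, 1, 0, 0, -1⟩,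
  ⟨0, 0, 1, 0, 1, -1, 0, 1⟩,
  ⟨1, 0, -1, 0, 1, 0, -1, 0⟩,
  ⟨1, -1, 0, -1, 0, 0, -1, 0⟩,
  ⟨0, 0, -1, 1, 0, -1, 1, 0⟩,
  ⟨1, 0, 1, 0, -1, 0, 1, 0⟩,
  ⟨1, -1, -1, 0, 0, 1, 0, 0⟩,
  ⟨0, 0, 0, 1, -1, 0, -1, 1⟩,
  ⟨0, 1, 1, -1, -1, 0, 0, 0⟩,
  ⟨0, 1, -1, 1, -1, 0, 0, 0⟩,
  ⟨-1, 0, -1, 0, 1, 0, -1, 0⟩,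
  ⟨-2, 0, 0, 0, 0, 0, 0, 0⟩,
  ⟨0, 1, 1, 0, 0, 0, -1, 1⟩,
  ⟨0, 1, 1, 0, 0, 0, 1, -1⟩,
  ⟨0, 1, 0, 0, 1, -1, 1, 0⟩,
  ⟨0, 1, 0, 0, -1, 1, 1, 0⟩,
  ⟨0, 1, 0, 0, 1, -1, -1, 0⟩,
  ⟨0, 1, 0, 0, -1, 1, -1, 0⟩,
  ⟨0, 1, -1, 0, 0, 0, -1, 1⟩,
  ⟨0, 1, -1, 0, 0, 0, 1, -1⟩,
  ⟨2, 0, 0, 0, 0, 0, 0, 0⟩,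
  ⟨2, 0, 0, 0, 0, 0, 0, 0⟩,
  ⟨0, 1, 1, -1, 1, 0, 0, 0⟩,
  ⟨0, 1, -1, 1, 1, 0, 0, 0⟩,
  ⟨1, 0, 1, -1, 0, 0, 0, 1⟩,
  ⟨-1, 0, 0, 0, 0, -1, 1, -1⟩,
  ⟨-1, 0, 0, -1, 1, -1, 0, 0⟩,
  ⟨0, 1, 0, 0, -1, 1, 1, 0⟩,
  ⟨1, 0, -1, 0, 1, 0, -1, 0⟩,
  ⟨-1, 0, 1, 0, -1, 0, 1, 0⟩,
  ⟨-1, 0, 1, 0, 1, 0, 1, 0⟩,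
  ⟨-2, 0, 0, 0, 0, 0, 0, 0⟩,
  ⟨1, 0, 1, 0, 1, 0, 1, 0⟩,
  ⟨-1, 0, -1, 0, -1, 0, -1, 0⟩,
  ⟨0, 1, 0, 0, 1, -1, -1, 0⟩,
  ⟨-1, 0, 1, -1, 0, 0, 0, -1⟩,
  ⟨-1, 0, 1, 0, 1, 0, -1, 0⟩,
  ⟨1, 0, -1, 0, -1, 0, 1, 0⟩,
  ⟨1, 0, 1, 0, -1, 0, -1, 0⟩,
  ⟨-1, 0, -1, 0, 1, 0, 1, 0⟩]

set_option maxRecDepth 1000000 in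
set_option maxHeartbeats 4000000 in
theorem tab_ok0 : tabOK 0 c0 utab0 = true := by decide +kernel

set_option maxRecDepth 1000000 in
set_option maxHeartbeats 4000000 in
theorem tab_ok1 : tabOK 131 c1 utab1 = true := by decide +kernel

set_option maxRecDepth 1000000 in
set_option maxHeartbeats 4000000 in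
theorem tab_ok2 : tabOK 184 c2 utab2 = true := by decide +kernel

set_option maxRecDepth 1000000 in
set_option maxHeartbeats 4000000 in
theorem tab_ok3 : tabOK 272 c3 utab3 = true := by decide +kernel

end Cfsg.Agent.Lib.Helper14.J2
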