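import Cfsg.Agent.Lib.Helper14.J2EsB
import Cfsg.Agent.Lib.Helper19.G2Graph

set_option autoImplicit false
set_option linter.style.haveILetI false
set_option maxRecDepth 100000

/-!
Data for a subgroup of index 100 of the Hall–Janko group on 315 points, isomorphic to `PSU₃(3)`:
two generators matching the generators of helper19's model of `SU₃(3)`, the images of the base
points under the 6048 elements, and representatives of the cosets.  (generated by gen4.py)
-/

namespace Cfsg.Agent.Lib.Helper14.J2U3

open Cfsg.Agent.Lib.Helper10.SW Cfsg.Agent.Lib.Helper14.J2 Cfsg.Agent.Lib.Helper19.B2Enc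
  Cfsg.Agent.Lib.Helper19.G2Data

/-- the first generator, the first reflection -/
def cA0 : ℕ := c0

/-- the second generator, of order 6 -/
def cA1 : ℕ := 2806093709495062056016830139800239419901641260532633815808991928993391699910018466960372959461854641745426562126548501150947058109764842281149413217652778432807133463480930798613525363617336057443174910252060743165214654957058946109201205096427422068564465337191284583761511116861529694906389813188307150697836475636094299293959847393299657655346235828475174357835834528587868817513507041403816873781506312985489803055957686190726875216645358334718434705432116977766059275825844857934227374120058638465591867482804635439707605332010936690472708120583281877902674891408304013476312919888283954276720674341086638259270593929944034507385424498146520665501496338846204695499686993758831098156371959214817998021664828932888341908040580955056933877096819578660796699581755921350421323005294328458315768339366046179254402180405738988944628359607334538816487671596884462938662770824158341277563203468275154069220158793102510451374900403185691262821212157303143552822077869666583387713025698028653585058747963023972727612495075514152473277277775899625108791698997317176144537207150460528809563810592233586753257877478799048940541154397817408752139818932820567275457019970573930019273161784778687468009468711635265356643018811647175240532209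

/-- its inverse -/
def cA1i : ℕ := 15617597706467088965156587276716900329461780153048858786981149963852594802260141889834661134130697429444633984920619825991496980122187618274483104070064499824940431213206493766589686327452031341132132762098165443932570477875247443004038107380028717850832109189245426047909193005176762895720567005934404602121286514499738684852825973053517265569390860011653488396070680934672412127403369759933174953806810321737492047371846213992755938356702147695453777333291731529640461800815894833030907372837091977826239521397410010429752340714330926823079285143274849397561933764132759891511668426786826602842846975965600755809068266873135906599315648628841361677375340518018838426343200710380711900052929788953673584176198846465056567819821500402391028931989100502755441970722855786291948400536415003280381941769233931149559375614400281508075768454422787383015931357052770167530537414452487461862036819179904538426284051721805208356827335593698543876860286435743264757660500349104852584365508295577445493141248417839714762523127284525233346847084233756383675094833749373008014730408905330878064486941931792433624501076980064295352345124533703373645929050500789733159898916286244999866569307744503434320333402414476187729329714061731655383572737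

/-- the second generator as a word in the generators of the group -/
def wA1 : List ℕ := [c3, c2, c0, c2, c3, c1, c2, c1, c0, c1, c2, c1, c3, c1, c3, c0, c3, c1, c3]

set_option maxRecDepth 1000000 in
theorem cA1_inv : invB 315 cA1 cA1i = true := by decide +kernel

set_option maxRecDepth 1000000 in
theorem cA1_aut : autOk 315 gam cA1 = true := by decide +kernel

set_option maxRecDepth 1000000 in
theorem wA1_top : ∀ c ∈ wA1, c ∈ topGens := by decide +kernel

set_option maxRecDepth 1000000 in
theorem cA1_word : bimg [cA1] = bimg wA1 := by decide +kernel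

/-- the generators -/
def cA (r : ℕ) : ℕ := if r = 0 then cA0 else cA1

/-- the images of the base points under the 6048 elements, packed -/
def BtT : BT ℕ :=
 (.node (.node (.node (.node (.node (.node (.node (.node (.node (.node (.node (.node (.node (.leaf 671352320)
 (.leaf 40698753777))
 (.leaf 24755835427))
 (.node (.node (.leaf 37457905409)
 (.leaf 14423183933))
 (.leaf 37110826151)))
 (.node (.node (.node (.leaf 17191205053)
 (.leaf 13835460351))
 (.leaf 14526802662))
 (.node (.node (.leaf 39339584569)
 (.leaf 11020885111))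
 (.leaf 19387215907))))
 (.node (.node (.node (.node (.leaf 9012102299)
 (.leaf 34657037039))
 (.leaf 572547645))
 (.node (.node (.leaf 13575498470)
 (.leaf 34016898218))
 (.leaf 11821765879)))
 (.node (.node (.node (.leaf 26454102664)
 (.leaf 40575014630))
 (.leaf 17881768177))
 (.node (.node (.leaf 19203705593)
 (.leaf 7126730942))
 (.leaf 35330724461)))))
 (.node (.node (.node (.node (.node (.leaf 10398092426)
 (.leaf 10344593134))
 (.leaf 11737589880))
 (.node (.node (.leaf 9034159865)
 (.leaf 38552036916))
 (.leaf 7535132861)))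
 (.node (.node (.node (.leaf 18720840232)
 (.leaf 27430270702))
 (.leaf 40063020188))
 (.node (.node (.leaf 17998870645)
 (.leaf 17894810742))
 (.leaf 13431525105))))
 (.node (.node (.node (.node (.leaf 4898457197)
 (.leaf 9261329458))
 (.leaf 11158986473))
 (.node (.node (.leaf 23255371966)
 (.leaf 40967233588))
 (.leaf 4037843133)))
 (.node (.node (.node (.leaf 28733879346)
 (.leaf 10621854910))
 (.leaf 27444430493))
 (.node (.node (.leaf 25953912558)
 (.leaf 19624463412))
 (.leaf 33717524669))))))
 (.node (.node (.node (.node (.node (.node (.leaf 3799278192)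
 (.leaf 28114786933))
 (.leaf 37863613514))
 (.node (.node (.leaf 9280529565)
 (.leaf 39898719931))
 (.leaf 39098064641)))
 (.node (.node (.node (.leaf 20430318235)
 (.leaf 38667891201))
 (.leaf 24737318986))
 (.node (.node (.leaf 2301149926)
 (.leaf 32898965558))
 (.leaf 10201166885))))
 (.node (.node (.node (.node (.leaf 11334740711)
 (.leaf 37073304633))
 (.leaf 467151932))
 (.node (.node (.leaf 10080038005)
 (.leaf 28856950274))
 (.leaf 731648547)))
 (.node (.node (.node (.leaf 21886694630)
 (.leaf 1342443008))
 (.leaf 41272307452))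
 (.node (.node (.leaf 31874140841)
 (.leaf 37088508150))
 (.leaf 29840641141)))))
 (.node (.node (.node (.node (.node (.leaf 28202053258)
 (.leaf 2029295356))
 (.leaf 8724454448))
 (.node (.node (.leaf 24025601064)
 (.leaf 34961242248))
 (.leaf 18003795518)))
 (.node (.node (.node (.leaf 15631785199)
 (.leaf 17478989041))
 (.leaf 32946093641))
 (.node (.node (.leaf 10887932673)
 (.leaf 33617675893))
 (.leaf 19631220983))))
 (.node (.node (.node (.node (.leaf 28101317229)
 (.leaf 21340742708))
 (.leaf 16657437246))
 (.node (.node (.leaf 29587707582)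
 (.leaf 29139507771))
 (.leaf 7528843932)))
 (.node (.node (.node (.leaf 13834256625)
 (.leaf 35365983341))
 (.leaf 24456583867))
 (.node (.leaf 38989783719)
 (.leaf 30382593584)))))))
 (.node (.node (.node (.node (.node (.node (.node (.leaf 23663037551)
 (.leaf 29528002615))
 (.leaf 24194693240))
 (.node (.node (.leaf 39509673607)
 (.leaf 19624898678))
 (.leaf 26740935305)))
 (.node (.node (.node (.leaf 28924233468)
 (.leaf 27311020603))
 (.leaf 36401604350))
 (.node (.node (.leaf 21756540040)
 (.leaf 27977066102))
 (.leaf 12951113372))))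
 (.node (.node (.node (.node (.leaf 22291180284)
 (.leaf 36384808496))
 (.leaf 33327247434))
 (.node (.node (.leaf 37206987502)
 (.leaf 38715869885))
 (.leaf 11592584754)))
 (.node (.node (.node (.leaf 2062600752)
 (.leaf 41770411060))
 (.leaf 955554440))
 (.node (.node (.leaf 39757116606)
 (.leaf 23686354472))
 (.leaf 14291719927)))))
 (.node (.node (.node (.node (.node (.leaf 13488516863)
 (.leaf 36946058288))
 (.leaf 36300699377))
 (.node (.node (.leaf 40594381542)
 (.leaf 1105018478))
 (.leaf 12129454151)))
 (.node (.node (.node (.leaf 19873925672)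
 (.leaf 20685353129))
 (.leaf 24175234284))
 (.node (.node (.leaf 26508327466)
 (.leaf 11994973768))
 (.leaf 39629761213))))
 (.node (.node (.node (.node (.leaf 36791163127)
 (.leaf 2569648187))
 (.leaf 41537304313))
 (.node (.node (.leaf 980426864)
 (.leaf 29863826494))
 (.leaf 12383826551)))
 (.node (.node (.node (.leaf 16281525834)
 (.leaf 18938874939))
 (.leaf 27530690300))
 (.node (.leaf 11543115314)
 (.leaf 10131762932))))))
 (.node (.node (.node (.node (.node (.node (.leaf 23638600327)
 (.leaf 29004147755))
 (.leaf 23769208833))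
 (.node (.node (.leaf 1267819043)
 (.leaf 16437232713))
 (.leaf 8474953959)))
 (.node (.node (.node (.leaf 36657207030)
 (.leaf 32240918716))
 (.leaf 5160054902))
 (.node (.node (.leaf 27528813627)
 (.leaf 34420333705))
 (.leaf 20733583400))))
 (.node (.node (.node (.node (.leaf 15349940468)
 (.leaf 13437274879))
 (.leaf 40063579836))
 (.node (.node (.leaf 41889708089)
 (.leaf 27147734780))
 (.leaf 39623160509)))
 (.node (.node (.node (.leaf 39071151161)
 (.leaf 29294987819))
 (.leaf 21658176622))
 (.node (.node (.leaf 10913187913)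
 (.leaf 26745030396))
 (.leaf 22076303479)))))
 (.node (.node (.node (.node (.node (.leaf 41742134274)
 (.leaf 37746131055))
 (.leaf 11842728183))
 (.node (.node (.leaf 23114696859)
 (.leaf 18656348215))
 (.leaf 29939774697)))
 (.node (.node (.node (.leaf 24188437561)
 (.leaf 32932510857))
 (.leaf 26759241287))
 (.node (.node (.leaf 39930112667)
 (.leaf 31157413625))
 (.leaf 32928046128))))
 (.node (.node (.node (.node (.leaf 4191505008)
 (.leaf 41248643308))
 (.leaf 9414481566))
 (.node (.node (.leaf 27658175716)
 (.leaf 20061713445))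
 (.leaf 24337812713)))
 (.node (.node (.node (.leaf 39772608158)
 (.leaf 21927452910))
 (.leaf 14133884489))
 (.node (.leaf 2162430464)
 (.leaf 37328274505))))))))
 (.node (.node (.node (.node (.node (.node (.node (.node (.leaf 19207611975)
 (.leaf 3396120109))
 (.leaf 29278471913))
 (.node (.node (.leaf 21891214968)
 (.leaf 34688566346))
 (.leaf 11200785638)))
 (.node (.node (.node (.leaf 36652587522)
 (.leaf 15470722610))
 (.leaf 7815949030))
 (.node (.node (.leaf 1105243271)
 (.leaf 13757678191))
 (.leaf 35340715769))))
 (.node (.node (.node (.node (.leaf 28339385070)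
 (.leaf 37759861495))
 (.leaf 30352606875))
 (.node (.node (.leaf 35328239673)
 (.leaf 19524318245))
 (.leaf 3505960689)))
 (.node (.node (.node (.leaf 32901967934)
 (.leaf 39120118940))
 (.leaf 25013568244))
 (.node (.node (.leaf 2073611895)
 (.leaf 28095359036))
 (.leaf 8521778730)))))
 (.node (.node (.node (.node (.node (.leaf 1670514759)
 (.leaf 37993384689))
 (.leaf 36839678713))
 (.node (.node (.leaf 9455596579)
 (.leaf 38531838977))
 (.leaf 5301869167)))
 (.node (.node (.node (.leaf 13060584047)
 (.leaf 39878804022))
 (.leaf 31557232776))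
 (.node (.node (.leaf 31569752696)
 (.leaf 18809458230))
 (.leaf 38985027239))))
 (.node (.node (.node (.node (.leaf 13860378685)
 (.leaf 11189216878))
 (.leaf 24353287401))
 (.node (.node (.leaf 20011171329)
 (.leaf 20198794396))
 (.leaf 26908123817)))
 (.node (.node (.node (.leaf 40428780089)
 (.leaf 9302002940))
 (.leaf 32516883063))
 (.node (.node (.leaf 8517728935)
 (.leaf 2883341371))
 (.leaf 40950711863))))))
 (.node (.node (.node (.node (.node (.node (.leaf 22071534782)
 (.leaf 31590831147))
 (.leaf 39658261661))
 (.node (.node (.leaf 16692869860)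
 (.leaf 13301789768))
 (.leaf 36120673516)))
 (.node (.node (.node (.leaf 33583687225)
 (.leaf 5167796891))
 (.leaf 1082994730))
 (.node (.node (.leaf 23940165770)
 (.leaf 35880816688))
 (.leaf 28484933361))))
 (.node (.node (.node (.node (.leaf 33688764982)
 (.leaf 39789078686))
 (.leaf 15336549054))
 (.node (.node (.leaf 12226986142)
 (.leaf 41253978879))
 (.leaf 13189115965)))
 (.node (.node (.node (.leaf 23632036392)
 (.leaf 30754780860))
 (.leaf 1621994546))
 (.node (.node (.leaf 14136786686)
 (.leaf 5946630396))
 (.leaf 23919481022)))))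
 (.node (.node (.node (.node (.node (.leaf 10938638590)
 (.leaf 38954435641))
 (.leaf 16955318844))
 (.node (.node (.leaf 30264377020)
 (.leaf 26997168878))
 (.leaf 34388591223)))
 (.node (.node (.node (.leaf 35900921590)
 (.leaf 24337540849))
 (.leaf 12124046057))
 (.node (.node (.leaf 1890953264)
 (.leaf 6590343792))
 (.leaf 5162990236))))
 (.node (.node (.node (.node (.leaf 19356517534)
 (.leaf 2585566763))
 (.leaf 26988841729))
 (.node (.node (.leaf 26862302775)
 (.leaf 40683856439))
 (.leaf 1945126000)))
 (.node (.node (.node (.leaf 20328806437)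
 (.leaf 6856218878))
 (.leaf 20282490536))
 (.node (.leaf 18855847976)
 (.leaf 19108740717)))))))
 (.node (.node (.node (.node (.node (.node (.node (.leaf 24159818280)
 (.leaf 40596478190))
 (.leaf 21908796134))
 (.node (.node (.leaf 41084402233)
 (.leaf 26183745191))
 (.leaf 26477111014)))
 (.node (.node (.node (.leaf 41756278838)
 (.leaf 601631291))
 (.leaf 4201687664))
 (.node (.node (.leaf 29412821148)
 (.leaf 26203988105))
 (.leaf 10078190747))))
 (.node (.node (.node (.node (.leaf 21537237101)
 (.leaf 6218434294))
 (.leaf 11072593663))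
 (.node (.node (.leaf 38805008950)
 (.leaf 11690091710))
 (.leaf 13840790257)))
 (.node (.node (.node (.leaf 36298605801)
 (.leaf 12815497787))
 (.leaf 39122652318))
 (.node (.node (.leaf 2830507568)
 (.leaf 29031782145))
 (.leaf 5949487852)))))
 (.node (.node (.node (.node (.node (.leaf 24871307337)
 (.leaf 13337221704))
 (.leaf 2854282802))
 (.node (.node (.leaf 29544258615)
 (.leaf 26862777399))
 (.leaf 6856444061)))
 (.node (.node (.node (.leaf 27648947255)
 (.leaf 29437994029))
 (.leaf 39235390109))
 (.node (.node (.leaf 3659336766)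
 (.leaf 13731250858))
 (.leaf 17332840123))))
 (.node (.node (.node (.node (.leaf 8788905512)
 (.leaf 24874898679))
 (.leaf 15181062729))
 (.node (.node (.leaf 23255123576)
 (.leaf 11557804655))
 (.leaf 24597871224)))
 (.node (.node (.node (.leaf 34018233461)
 (.leaf 5941357308))
 (.leaf 29726979704))
 (.node (.leaf 12120871024)
 (.leaf 11020153418))))))
 (.node (.node (.node (.node (.node (.node (.leaf 18834899516)
 (.leaf 28197099677))
 (.leaf 33573205220))
 (.node (.node (.leaf 38803498038)
 (.leaf 5248701514))
 (.leaf 40717550319)))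
 (.node (.node (.node (.leaf 10077383932)
 (.leaf 13622733991))
 (.leaf 28216922762))
 (.node (.node (.leaf 37744655924)
 (.leaf 38685993017))
 (.leaf 12092280490))))
 (.node (.node (.node (.node (.leaf 13422362147)
 (.leaf 37372444842))
 (.leaf 39929627835))
 (.node (.node (.leaf 9310201599)
 (.leaf 34389222964))
 (.leaf 1805439561)))
 (.node (.node (.node (.leaf 39479475869)
 (.leaf 31473600572))
 (.leaf 37348719678))
 (.node (.node (.leaf 31179673200)
 (.leaf 38137316406))
 (.leaf 18954172060)))))
 (.node (.node (.node (.node (.node (.leaf 13019745322)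
 (.leaf 32644020854))
 (.leaf 700048503))
 (.node (.node (.leaf 20177043573)
 (.leaf 3384910453))
 (.leaf 37644284584)))
 (.node (.node (.node (.leaf 27577150107)
 (.leaf 13166464680))
 (.leaf 34960695367))
 (.node (.node (.leaf 11820357860)
 (.leaf 26054060711))
 (.leaf 13565715185))))
 (.node (.node (.node (.node (.leaf 706871415)
 (.leaf 34672363166))
 (.leaf 21376952561))
 (.node (.node (.leaf 31149104889)
 (.leaf 28603949303))
 (.leaf 40862587549)))
 (.node (.node (.node (.leaf 27295298697)
 (.leaf 38674250806))
 (.leaf 33570210471))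
 (.node (.leaf 35596677359)
 (.leaf 29053001334)))))))))
 (.node (.node (.node (.node (.node (.node (.node (.node (.node (.leaf 40195651831)
 (.leaf 27380508212))
 (.leaf 16838406884))
 (.node (.node (.leaf 8993150501)
 (.leaf 19474236042))
 (.leaf 13048538356)))
 (.node (.node (.node (.leaf 30498927751)
 (.leaf 13434899614))
 (.leaf 26606316654))
 (.node (.node (.leaf 537135616)
 (.leaf 15363507749))
 (.leaf 38158852266))))
 (.node (.node (.node (.node (.leaf 12263778542)
 (.leaf 1274550381))
 (.leaf 37595143754))
 (.node (.node (.leaf 19089698025)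
 (.leaf 38396823799))
 (.leaf 17325196030)))
 (.node (.node (.node (.leaf 10232063223)
 (.leaf 18045509789))
 (.leaf 13462558465))
 (.node (.node (.leaf 38024915623)
 (.leaf 27798669366))
 (.leaf 35066359851)))))
 (.node (.node (.node (.node (.node (.leaf 23504121992)
 (.leaf 26315917543))
 (.leaf 30094133917))
 (.node (.node (.leaf 5517394494)
 (.leaf 24603362889))
 (.leaf 28201779948)))
 (.node (.node (.node (.leaf 19929065000)
 (.leaf 39729119745))
 (.leaf 20329357861))
 (.node (.node (.leaf 41120262889)
 (.leaf 12660288043))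
 (.leaf 3150233717))))
 (.node (.node (.node (.node (.leaf 31572255801)
 (.leaf 20442309287))
 (.leaf 11292942564))
 (.node (.node (.leaf 14428700714)
 (.leaf 36119655535))
 (.leaf 27798118518)))
 (.node (.node (.node (.leaf 35762605193)
 (.leaf 25968607401))
 (.leaf 3906735104))
 (.node (.node (.leaf 28498729008)
 (.leaf 14122007289))
 (.leaf 38973012196))))))
 (.node (.node (.node (.node (.node (.node (.leaf 42020772354)
 (.leaf 31169971821))
 (.leaf 37909297834))
 (.node (.node (.leaf 23798040137)
 (.leaf 6349260015))
 (.leaf 18723215931)))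
 (.node (.node (.node (.leaf 40699023417)
 (.leaf 3136822834))
 (.leaf 10900796161))
 (.node (.node (.leaf 40546452156)
 (.leaf 14536443440))
 (.leaf 36403984620))))
 (.node (.node (.node (.node (.leaf 23772659849)
 (.leaf 20161623741))
 (.leaf 32521607420))
 (.node (.node (.leaf 10229424829)
 (.leaf 23517004475))
 (.leaf 13974143144)))
 (.node (.node (.node (.leaf 14258155175)
 (.leaf 36015074039))
 (.leaf 33589973693))
 (.node (.node (.leaf 26991427696)
 (.leaf 28335773950))
 (.leaf 7800695433)))))
 (.node (.node (.node (.node (.node (.leaf 4440286243)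
 (.leaf 2725786674))
 (.leaf 23503876265))
 (.node (.node (.leaf 735917096)
 (.leaf 20734346280))
 (.leaf 13824812082)))
 (.node (.node (.node (.leaf 23686821928)
 (.leaf 1507471983))
 (.leaf 15598467742))
 (.node (.node (.leaf 27783164470)
 (.leaf 21487579274))
 (.leaf 23553447976))))
 (.node (.node (.node (.node (.leaf 37446817335)
 (.leaf 5517911159))
 (.leaf 10478814447))
 (.node (.node (.leaf 37072682104)
 (.leaf 37356420332))
 (.leaf 2073915977)))
 (.node (.node (.node (.leaf 2031993406)
 (.leaf 7525473508))
 (.leaf 23951399971))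
 (.node (.leaf 22023557307)
 (.leaf 2211588208)))))))
 (.node (.node (.node (.node (.node (.node (.node (.leaf 6621248118)
 (.leaf 36543514353))
 (.leaf 17199035550))
 (.node (.node (.leaf 23397721757)
 (.leaf 38032742025))
 (.leaf 4441023145)))
 (.node (.node (.node (.leaf 20192506915)
 (.leaf 12764951099))
 (.leaf 29166529254))
 (.node (.node (.leaf 824491166)
 (.leaf 38539770423))
 (.leaf 36542771457))))
 (.node (.node (.node (.node (.leaf 21491189898)
 (.leaf 20718591113))
 (.leaf 32521415791))
 (.node (.node (.leaf 36386117163)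
 (.leaf 6185166590))
 (.leaf 22160173629)))
 (.node (.node (.node (.leaf 14240846445)
 (.leaf 40864900846))
 (.leaf 22146053177))
 (.node (.node (.leaf 24036864169)
 (.leaf 19656421513))
 (.leaf 40936829954)))))
 (.node (.node (.node (.node (.node (.leaf 37197200573)
 (.leaf 40059603100))
 (.leaf 34657360542))
 (.node (.node (.leaf 36920434425)
 (.leaf 28518760055))
 (.leaf 19761609351)))
 (.node (.node (.node (.leaf 3097537782)
 (.leaf 2434909757))
 (.leaf 39207197750))
 (.node (.node (.leaf 23500835329)
 (.leaf 8505412743))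
 (.leaf 2427299890))))
 (.node (.node (.node (.node (.leaf 10102647870)
 (.leaf 38800345601))
 (.leaf 41085192246))
 (.node (.node (.leaf 13038069948)
 (.leaf 32677342910))
 (.leaf 5954754804)))
 (.node (.node (.node (.leaf 4478600264)
 (.leaf 11018456746))
 (.leaf 22187184752))
 (.node (.leaf 37513472167)
 (.leaf 24312947430))))))
 (.node (.node (.node (.node (.node (.node (.leaf 24458397864)
 (.leaf 23771049545))
 (.leaf 19390540405))
 (.node (.node (.leaf 30766802031)
 (.leaf 13038551270))
 (.leaf 10663908510)))
 (.node (.node (.node (.leaf 39610378806)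
 (.leaf 11726074925))
 (.leaf 29993056446))
 (.node (.node (.leaf 23284229672)
 (.leaf 5167133755))
 (.leaf 40045967604))))
 (.node (.node (.node (.node (.leaf 29806180588)
 (.leaf 18020867324))
 (.leaf 41522675961))
 (.node (.node (.leaf 31473847464)
 (.leaf 6620840177))
 (.leaf 28772005625)))
 (.node (.node (.node (.leaf 4894239341)
 (.leaf 11989301484))
 (.leaf 9324203125))
 (.node (.node (.leaf 3903412771)
 (.leaf 9431039678))
 (.leaf 42173069038)))))
 (.node (.node (.node (.node (.node (.leaf 21672270474)
 (.leaf 3419971132))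
 (.leaf 41753643145))
 (.node (.node (.leaf 28866146306)
 (.leaf 21539372168))
 (.leaf 3015446638)))
 (.node (.node (.node (.leaf 4344629870)
 (.leaf 40415656684))
 (.leaf 3910971070))
 (.node (.node (.leaf 23095949861)
 (.leaf 39923765949))
 (.leaf 36924351049))))
 (.node (.node (.node (.node (.leaf 24087781614)
 (.leaf 737732668))
 (.leaf 3019684974))
 (.node (.node (.leaf 8653257896)
 (.leaf 36392284399))
 (.leaf 41240815852)))
 (.node (.node (.node (.leaf 35635115143)
 (.leaf 10778211566))
 (.leaf 19221718782))
 (.node (.leaf 15604678699)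
 (.leaf 31188420717))))))))
 (.node (.node (.node (.node (.node (.node (.node (.node (.leaf 5946216559)
 (.leaf 27690142964))
 (.leaf 14556734692))
 (.node (.node (.leaf 2428613677)
 (.leaf 13086009386))
 (.leaf 29050902646)))
 (.node (.node (.node (.leaf 37590150377)
 (.leaf 2295860736))
 (.leaf 19123415100))
 (.node (.node (.leaf 30498435239)
 (.leaf 38531580670))
 (.leaf 42185065198))))
 (.node (.node (.node (.node (.leaf 39256398983)
 (.leaf 33330436653))
 (.leaf 30215085622))
 (.node (.node (.leaf 35469273650)
 (.leaf 40817812534))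
 (.leaf 31606480542)))
 (.node (.node (.node (.leaf 11825663038)
 (.leaf 39925122715))
 (.leaf 11957276841))
 (.node (.node (.leaf 36249950722)
 (.leaf 32902337590))
 (.leaf 35093612142)))))
 (.node (.node (.node (.node (.node (.leaf 39460688385)
 (.leaf 5564802109))
 (.leaf 29135871490))
 (.node (.node (.leaf 36517864962)
 (.leaf 5114476091))
 (.leaf 24983780919)))
 (.node (.node (.node (.leaf 13968472812)
 (.leaf 41492833846))
 (.leaf 3153901115))
 (.node (.node (.leaf 31581823745)
 (.leaf 1404606501))
 (.leaf 27711547548))))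
 (.node (.node (.node (.node (.leaf 8505010285)
 (.leaf 30126648893))
 (.leaf 8921177326))
 (.node (.node (.leaf 9187247754)
 (.leaf 36973176488))
 (.leaf 32511627375)))
 (.node (.node (.node (.leaf 38405300278)
 (.leaf 30333531184))
 (.leaf 3684185207))
 (.node (.node (.leaf 2191792685)
 (.leaf 30352435439))
 (.leaf 16940155068))))))
 (.node (.node (.node (.node (.node (.node (.leaf 17508610167)
 (.leaf 12544721005))
 (.leaf 11156458631))
 (.node (.node (.leaf 36677476397)
 (.leaf 22077877309))
 (.leaf 42159985206)))
 (.node (.node (.node (.leaf 8650599142)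
 (.leaf 2885204589))
 (.leaf 20700808328))
 (.node (.node (.leaf 28503566896)
 (.leaf 36954555440))
 (.leaf 28872567542))))
 (.node (.node (.node (.node (.leaf 31443187774)
 (.leaf 14536754918))
 (.leaf 7129894023))
 (.node (.node (.leaf 14539578427)
 (.leaf 24471496940))
 (.leaf 27812505245)))
 (.node (.node (.node (.leaf 19259334913)
 (.leaf 28469215351))
 (.leaf 13203030761))
 (.node (.node (.leaf 29693417190)
 (.leaf 28246907509))
 (.leaf 33749782205)))))
 (.node (.node (.node (.node (.node (.leaf 35855082233)
 (.leaf 40314625278))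
 (.leaf 12794766907))
 (.node (.node (.leaf 36440417532)
 (.leaf 9059177069))
 (.leaf 35469799153)))
 (.node (.node (.node (.leaf 29571942459)
 (.leaf 12258494011))
 (.leaf 40449190127))
 (.node (.node (.leaf 35900191481)
 (.leaf 39354704441))
 (.leaf 12123780849))))
 (.node (.node (.node (.node (.leaf 41621804087)
 (.leaf 19659052581))
 (.leaf 42070010601))
 (.node (.node (.leaf 1218523173)
 (.leaf 36656515694))
 (.leaf 36283487792)))
 (.node (.node (.node (.leaf 3233162288)
 (.leaf 16300902947))
 (.leaf 24324612838))
 (.node (.leaf 23152035882)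
 (.leaf 10931455523)))))))
 (.node (.node (.node (.node (.node (.node (.node (.leaf 29156492006)
 (.leaf 4309134336))
 (.leaf 31591118984))
 (.node (.node (.leaf 36838182509)
 (.leaf 38695997607))
 (.leaf 34628286519)))
 (.node (.node (.node (.leaf 35348361799)
 (.leaf 26588315304))
 (.leaf 20414826605))
 (.node (.node (.leaf 32243229866)
 (.leaf 20014577289))
 (.leaf 29974627057))))
 (.node (.node (.node (.node (.leaf 1115210351)
 (.leaf 17643614837))
 (.leaf 19208972030))
 (.node (.node (.leaf 12769606393)
 (.leaf 10094945470))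
 (.leaf 28336085740)))
 (.node (.node (.node (.leaf 39738246383)
 (.leaf 4576027818))
 (.leaf 41000995063))
 (.node (.node (.leaf 6864378599)
 (.leaf 451990637))
 (.leaf 19796667946)))))
 (.node (.node (.node (.node (.node (.leaf 16708382452)
 (.leaf 41537823991))
 (.leaf 34777875626))
 (.node (.node (.leaf 4192334957)
 (.leaf 38399005185))
 (.leaf 20176768117)))
 (.node (.node (.node (.leaf 6863806139)
 (.leaf 40600451772))
 (.leaf 40578089193))
 (.node (.node (.leaf 35445410953)
 (.leaf 19490507321))
 (.leaf 13620635817))))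
 (.node (.node (.node (.node (.leaf 41487847990)
 (.leaf 35071994923))
 (.leaf 4344011886))
 (.node (.node (.leaf 4310793801)
 (.leaf 25919581352))
 (.leaf 30393107646)))
 (.node (.node (.node (.leaf 19794585640)
 (.leaf 41138099867))
 (.leaf 21807246407))
 (.node (.leaf 4070622837)
 (.leaf 41348343810))))))
 (.node (.node (.node (.node (.node (.node (.leaf 19998516737)
 (.leaf 1083520040))
 (.leaf 32212397110))
 (.node (.node (.leaf 14108416168)
 (.leaf 37780597359))
 (.leaf 2966954496)))
 (.node (.node (.node (.leaf 39894017593)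
 (.leaf 11717982890))
 (.leaf 16520578715))
 (.node (.node (.leaf 32242952937)
 (.leaf 15494811207))
 (.leaf 1248633930))))
 (.node (.node (.node (.node (.leaf 20059599395)
 (.leaf 24171071675))
 (.leaf 28649498852))
 (.node (.node (.leaf 23121408187)
 (.leaf 13855165169))
 (.leaf 26216841974)))
 (.node (.node (.node (.leaf 7800205055)
 (.leaf 19908304542))
 (.leaf 12230099697))
 (.node (.node (.leaf 6861203180)
 (.leaf 29326155324))
 (.leaf 6223977710)))))
 (.node (.node (.node (.node (.node (.leaf 13079829734)
 (.leaf 3236735223))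
 (.leaf 21774570120))
 (.node (.node (.leaf 42025239092)
 (.leaf 26452263079))
 (.leaf 15500326952)))
 (.node (.node (.node (.leaf 15629917342)
 (.leaf 27977974942))
 (.leaf 21384710897))
 (.node (.node (.leaf 38583808168)
 (.leaf 17747570228))
 (.leaf 28784572477))))
 (.node (.node (.node (.node (.leaf 30349302524)
 (.leaf 30209621239))
 (.leaf 35598971530))
 (.node (.node (.leaf 15207905959)
 (.leaf 32231811638))
 (.leaf 27832669929)))
 (.node (.node (.node (.leaf 27967172232)
 (.leaf 11826934441))
 (.leaf 26213493321))
 (.node (.leaf 24463131710)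
 (.leaf 26878986497))))))))))
 (.node (.node (.node (.node (.node (.node (.node (.node (.node (.node (.leaf 10115509492)
 (.leaf 6352917751))
 (.leaf 30517044871))
 (.node (.node (.leaf 3549468790)
 (.leaf 34001001196))
 (.leaf 596674166)))
 (.node (.node (.node (.leaf 41636480569)
 (.leaf 39374951561))
 (.leaf 20445515931))
 (.node (.node (.leaf 30266473022)
 (.leaf 6223423230))
 (.leaf 33992540792))))
 (.node (.node (.node (.node (.leaf 30771912749)
 (.leaf 4037105701))
 (.leaf 21504209525))
 (.node (.node (.leaf 36408518187)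
 (.leaf 4491583562))
 (.leaf 11687544566)))
 (.node (.node (.node (.leaf 34962715272)
 (.leaf 3637512192))
 (.leaf 18992085034))
 (.node (.node (.leaf 32883449398)
 (.leaf 40430859321))
 (.leaf 1136427118)))))
 (.node (.node (.node (.node (.node (.leaf 849953339)
 (.leaf 30486314557))
 (.leaf 2703606332))
 (.node (.node (.leaf 42021317634)
 (.leaf 1646798384))
 (.leaf 29010038521)))
 (.node (.node (.node (.leaf 3101431296)
 (.leaf 15229028389))
 (.leaf 28897555501))
 (.node (.node (.leaf 10915574014)
 (.leaf 14405099068))
 (.leaf 10066948645))))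
 (.node (.node (.node (.node (.leaf 15478967965)
 (.leaf 3116495989))
 (.leaf 26188551817))
 (.node (.node (.leaf 26978347048)
 (.leaf 8760141499))
 (.leaf 39101435038)))
 (.node (.node (.node (.leaf 31859518180)
 (.leaf 37108199536))
 (.leaf 26186937417))
 (.node (.node (.leaf 26222074478)
 (.leaf 36408815356))
 (.leaf 42157608584))))))
 (.node (.node (.node (.node (.node (.node (.leaf 8491786983)
 (.leaf 27311593118))
 (.leaf 12896040191))
 (.node (.node (.leaf 27528300661)
 (.leaf 5249479279))
 (.leaf 35031125035)))
 (.node (.node (.node (.leaf 5563516024)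
 (.leaf 36104677890))
 (.leaf 31157806831))
 (.node (.node (.leaf 10095505563)
 (.leaf 14105462922))
 (.leaf 39362070246))))
 (.node (.node (.node (.node (.leaf 40325203134)
 (.leaf 34420861609))
 (.leaf 1512319021))
 (.node (.node (.leaf 41086463734)
 (.leaf 33973102316))
 (.leaf 35581465709)))
 (.node (.node (.node (.leaf 18656854568)
 (.leaf 4897970312))
 (.leaf 17887215345))
 (.node (.node (.leaf 39795315387)
 (.leaf 42188287212))
 (.leaf 17776522358)))))
 (.node (.node (.node (.node (.node (.leaf 19059497002)
 (.leaf 33985676408))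
 (.leaf 35608421450))
 (.node (.node (.leaf 42028888119)
 (.leaf 25789093943))
 (.leaf 2615415368)))
 (.node (.node (.node (.leaf 27665256503)
 (.leaf 27394676283))
 (.leaf 21621684874))
 (.node (.node (.leaf 22156539641)
 (.leaf 19875643905))
 (.leaf 25967231144))))
 (.node (.node (.node (.node (.leaf 6184634102)
 (.leaf 30100961911))
 (.leaf 36660211444))
 (.node (.node (.leaf 41268053228)
 (.leaf 11586874418))
 (.leaf 22292880572)))
 (.node (.node (.node (.leaf 13165226171)
 (.leaf 12948119669))
 (.leaf 14561607210))
 (.node (.leaf 16839194173)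
 (.leaf 3128479282)))))))
 (.node (.node (.node (.node (.node (.node (.node (.leaf 19739708456)
 (.leaf 20566559882))
 (.leaf 30397291195))
 (.node (.node (.leaf 41668639460)
 (.leaf 13999840811))
 (.leaf 2481213039)))
 (.node (.node (.node (.leaf 10872262179)
 (.leaf 11553234166))
 (.leaf 38312364170))
 (.node (.node (.leaf 26590602920)
 (.leaf 24964579895))
 (.leaf 20579219101))))
 (.node (.node (.node (.node (.leaf 816393251)
 (.leaf 14142511214))
 (.leaf 1402506275))
 (.node (.node (.leaf 5567038651)
 (.leaf 9296560317))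
 (.leaf 23524071611)))
 (.node (.node (.node (.leaf 12769329851)
 (.leaf 28080868469))
 (.leaf 36255153905))
 (.node (.node (.leaf 22027181130)
 (.leaf 22311081583))
 (.leaf 26173015589)))))
 (.node (.node (.node (.node (.node (.leaf 40332201214)
 (.leaf 17224277109))
 (.leaf 27014010609))
 (.node (.node (.leaf 14093460517)
 (.leaf 6857769098))
 (.leaf 13220785706)))
 (.node (.node (.node (.leaf 25635705910)
 (.leaf 35205990140))
 (.leaf 40728633502))
 (.node (.node (.leaf 11573964534)
 (.leaf 10746714852))
 (.leaf 13572296433))))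
 (.node (.node (.node (.node (.leaf 28653688564)
 (.leaf 26989576873))
 (.leaf 10264670457))
 (.node (.node (.leaf 30234729591)
 (.leaf 30210053375))
 (.leaf 8631441576)))
 (.node (.node (.node (.leaf 12088811241)
 (.leaf 20065886875))
 (.leaf 12275834609))
 (.node (.leaf 22310881332)
 (.leaf 36677221110))))))
 (.node (.node (.node (.node (.node (.node (.leaf 19730082817)
 (.leaf 37911393447))
 (.leaf 9323789501))
 (.node (.node (.leaf 41223866934)
 (.leaf 35865650940))
 (.leaf 13197800169)))
 (.node (.node (.node (.leaf 34822819466)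
 (.leaf 5296458407))
 (.leaf 6864119033))
 (.node (.node (.leaf 13485775431)
 (.leaf 33717252334))
 (.leaf 9011535609))))
 (.node (.node (.node (.node (.leaf 2695767090)
 (.leaf 27440859293))
 (.leaf 39655424189))
 (.node (.node (.leaf 28364248621)
 (.leaf 22157875899))
 (.leaf 5914897124)))
 (.node (.node (.node (.leaf 2207872074)
 (.leaf 15229785125))
 (.leaf 2416450560))
 (.node (.node (.leaf 19100400359)
 (.leaf 4599363192))
 (.leaf 31560353950)))))
 (.node (.node (.node (.node (.node (.leaf 40330667252)
 (.leaf 38417537160))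
 (.leaf 40144881209))
 (.node (.node (.leaf 39527464583)
 (.leaf 3355975168))
 (.leaf 26624235630)))
 (.node (.node (.node (.leaf 23085538305)
 (.leaf 41353364535))
 (.leaf 23255664248))
 (.node (.node (.leaf 24218980010)
 (.leaf 35061831916))
 (.leaf 38690223805))))
 (.node (.node (.node (.node (.leaf 7133012635)
 (.leaf 1383113289))
 (.leaf 36706772212))
 (.node (.node (.leaf 32633611454)
 (.leaf 3531115058))
 (.leaf 2834698824)))
 (.node (.node (.node (.leaf 34909817480)
 (.leaf 26586485895))
 (.leaf 20017880219))
 (.node (.leaf 28655860798)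
 (.leaf 12792262905))))))))
 (.node (.node (.node (.node (.node (.node (.node (.node (.leaf 29040583211)
 (.leaf 17378677800))
 (.leaf 20297641128))
 (.node (.node (.leaf 35733114504)
 (.leaf 40296093748))
 (.leaf 15479615035)))
 (.node (.node (.node (.leaf 18819096814)
 (.leaf 13303319806))
 (.leaf 6349808359))
 (.node (.node (.leaf 23635516417)
 (.leaf 8625331243))
 (.leaf 1257806957))))
 (.node (.node (.node (.node (.leaf 20600675880)
 (.leaf 10215565942))
 (.leaf 30382858991))
 (.node (.node (.leaf 1001946733)
 (.leaf 38838531817))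
 (.leaf 31809967664)))
 (.node (.node (.node (.leaf 37996875265)
 (.leaf 5297206345))
 (.leaf 41388456190))
 (.node (.node (.leaf 22162288897)
 (.leaf 26619458793))
 (.leaf 30108624541)))))
 (.node (.node (.node (.node (.node (.leaf 19525674233)
 (.leaf 8742879419))
 (.leaf 37482968305))
 (.node (.node (.leaf 36651297282)
 (.leaf 13081133223))
 (.leaf 2748322887)))
 (.node (.node (.node (.leaf 36020009515)
 (.leaf 34925325038))
 (.leaf 10603582507))
 (.node (.node (.leaf 465364005)
 (.leaf 16961029353))
 (.leaf 29807636669))))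
 (.node (.node (.node (.node (.leaf 8521007215)
 (.leaf 38853817514))
 (.leaf 580730486))
 (.node (.node (.leaf 29729552446)
 (.leaf 10781771381))
 (.leaf 9008118007)))
 (.node (.node (.node (.leaf 23413656611)
 (.leaf 39357342345))
 (.leaf 20063864478))
 (.node (.node (.leaf 26843613751)
 (.leaf 37996275201))
 (.leaf 16927576630))))))
 (.node (.node (.node (.node (.node (.node (.leaf 38535585844)
 (.leaf 15202069693))
 (.leaf 27277661321))
 (.node (.node (.leaf 39252214921)
 (.leaf 30801961116))
 (.leaf 5160980638)))
 (.node (.node (.node (.leaf 20669607937)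
 (.leaf 6183827182))
 (.leaf 6587269369))
 (.node (.node (.leaf 19339154569)
 (.leaf 41502769204))
 (.leaf 35768600685))))
 (.node (.node (.node (.node (.leaf 14539894939)
 (.leaf 17328298043))
 (.leaf 2833528832))
 (.node (.node (.leaf 580959803)
 (.leaf 2566259784))
 (.leaf 21893225033)))
 (.node (.node (.node (.leaf 29832599614)
 (.leaf 11042153591))
 (.leaf 27260413499))
 (.node (.node (.leaf 18685514910)
 (.leaf 38824688318))
 (.leaf 35330345529)))))
 (.node (.node (.node (.node (.node (.leaf 20151562429)
 (.leaf 2609980534))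
 (.leaf 32912483995))
 (.node (.node (.leaf 1224264842)
 (.leaf 26460339430))
 (.leaf 15619153544)))
 (.node (.node (.node (.leaf 17917816379)
 (.leaf 15344607787))
 (.leaf 3652505276))
 (.node (.node (.leaf 3928280637)
 (.leaf 3769940155))
 (.leaf 27832094279))))
 (.node (.node (.node (.node (.leaf 35313815623)
 (.leaf 18839637575))
 (.leaf 9060065947))
 (.node (.node (.leaf 11602650794)
 (.leaf 38183913608))
 (.leaf 13750123178)))
 (.node (.node (.node (.leaf 28892857901)
 (.leaf 25031102119))
 (.leaf 13617216681))
 (.node (.leaf 36548652594)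
 (.leaf 2854796848)))))))
 (.node (.node (.node (.node (.node (.node (.node (.leaf 20043087478)
 (.leaf 23797738663))
 (.leaf 25819656420))
 (.node (.node (.leaf 25830104138)
 (.leaf 31850606640))
 (.leaf 27575056029)))
 (.node (.node (.node (.leaf 40330131190)
 (.leaf 20194619941))
 (.leaf 38265841209))
 (.node (.node (.leaf 13184847079)
 (.leaf 8790232688))
 (.leaf 14524491451))))
 (.node (.node (.node (.node (.leaf 546121258)
 (.leaf 33724441650))
 (.leaf 41249020159))
 (.node (.node (.leaf 12666420360)
 (.leaf 10513436827))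
 (.leaf 1808895559)))
 (.node (.node (.node (.leaf 19900522684)
 (.leaf 41101418729))
 (.leaf 8630854256))
 (.node (.node (.leaf 9170858613)
 (.leaf 28920093813))
 (.leaf 22321106172)))))
 (.node (.node (.node (.node (.node (.leaf 41876351490)
 (.leaf 24303189745))
 (.leaf 35061514408))
 (.node (.node (.leaf 3281632887)
 (.leaf 3490193408))
 (.leaf 2029096521)))
 (.node (.node (.node (.leaf 1543811695)
 (.leaf 28736861757))
 (.leaf 41492538599))
 (.node (.node (.leaf 1004845096)
 (.leaf 19377034312))
 (.leaf 33973392010))))
 (.node (.node (.node (.node (.leaf 3234444331)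
 (.leaf 8922392616))
 (.leaf 17064411838))
 (.node (.node (.leaf 38293337255)
 (.leaf 36409320496))
 (.leaf 35229930119)))
 (.node (.node (.node (.leaf 40279625783)
 (.leaf 2459965490))
 (.leaf 27262518513))
 (.node (.leaf 38127602924)
 (.leaf 25819422792))))))
 (.node (.node (.node (.node (.node (.node (.leaf 28320051714)
 (.leaf 40999166108))
 (.leaf 31456831624))
 (.node (.node (.leaf 10778976306)
 (.leaf 23282122430))
 (.leaf 35072337064)))
 (.node (.node (.node (.leaf 2982002294)
 (.leaf 17106297891))
 (.leaf 39764394683))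
 (.node (.node (.leaf 26856229002)
 (.leaf 25785805384))
 (.leaf 18004322364))))
 (.node (.node (.node (.node (.leaf 24491673787)
 (.leaf 40038113524))
 (.leaf 20584901767))
 (.node (.node (.leaf 24892219941)
 (.leaf 30533568573))
 (.leaf 27006869761)))
 (.node (.node (.node (.leaf 29711769643)
 (.leaf 24468362351))
 (.leaf 684724224))
 (.node (.node (.leaf 26098669642)
 (.leaf 17618529912))
 (.leaf 9410231926)))))
 (.node (.node (.node (.node (.node (.leaf 20143671843)
 (.leaf 24074822382))
 (.leaf 19253705251))
 (.node (.node (.leaf 1794410606)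
 (.leaf 39370152091))
 (.leaf 41403689641)))
 (.node (.node (.node (.leaf 13987535035)
 (.leaf 17363986158))
 (.leaf 31828896823))
 (.node (.node (.leaf 23238319806)
 (.leaf 12645925108))
 (.leaf 13288144931))))
 (.node (.node (.node (.node (.leaf 24178466543)
 (.leaf 20417166985))
 (.leaf 29270089730))
 (.node (.node (.leaf 18790565430)
 (.leaf 28066030652))
 (.leaf 8500363492)))
 (.node (.node (.node (.leaf 16793621559)
 (.leaf 41358313015))
 (.leaf 40440537839))
 (.node (.leaf 4442826240)
 (.leaf 26859027018)))))))))
 (.node (.node (.node (.node (.node (.node (.node (.node (.node (.leaf 682175011)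
 (.leaf 12786900016))
 (.leaf 4308124840))
 (.node (.node (.leaf 33966927084)
 (.leaf 5113943669))
 (.leaf 3399488117)))
 (.node (.node (.node (.leaf 27928305921)
 (.leaf 32241250047))
 (.leaf 28619601126))
 (.node (.node (.leaf 2300433470)
 (.leaf 11707653865))
 (.leaf 40818042622))))
 (.node (.node (.node (.node (.leaf 556048540)
 (.leaf 37327612527))
 (.leaf 24758799037))
 (.node (.node (.leaf 4594173040)
 (.leaf 14107370057))
 (.leaf 35179334216)))
 (.node (.node (.node (.leaf 19242173511)
 (.leaf 34905831142))
 (.leaf 8516955364))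
 (.node (.node (.leaf 11861123812)
 (.leaf 40574490862))
 (.leaf 25935226478)))))
 (.node (.node (.node (.node (.node (.leaf 19118824681)
 (.leaf 11288814140))
 (.leaf 13213263081))
 (.node (.node (.leaf 3386427116)
 (.leaf 40842845422))
 (.leaf 7132217022)))
 (.node (.node (.node (.leaf 11151414919)
 (.leaf 14562115626))
 (.leaf 3518588535))
 (.node (.node (.leaf 35206553711)
 (.leaf 3014760566))
 (.leaf 17245219486))))
 (.node (.node (.node (.node (.leaf 28786596089)
 (.leaf 29413172974))
 (.leaf 28118982299))
 (.node (.node (.leaf 29559200502)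
 (.leaf 41919850238))
 (.leaf 39644103406)))
 (.node (.node (.node (.leaf 2720303149)
 (.leaf 17595784862))
 (.leaf 38311924906))
 (.node (.node (.leaf 12093316720)
 (.leaf 41761254454))
 (.leaf 23931694762))))))
 (.node (.node (.node (.node (.node (.node (.leaf 23622411265)
 (.leaf 27693231221))
 (.leaf 1352740389))
 (.node (.node (.leaf 2024648242)
 (.leaf 26738728188))
 (.leaf 36953766142)))
 (.node (.node (.node (.leaf 41939994873)
 (.leaf 14107936878))
 (.leaf 37743900212))
 (.node (.node (.leaf 36035720436)
 (.leaf 31570131513))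
 (.leaf 26234910757))))
 (.node (.node (.node (.node (.leaf 29275547884)
 (.leaf 21503831097))
 (.leaf 20729840675))
 (.node (.node (.leaf 35066883308)
 (.leaf 39744240183))
 (.leaf 38581600937)))
 (.node (.node (.node (.leaf 40459902183)
 (.leaf 6214776558))
 (.leaf 29861205624))
 (.node (.node (.leaf 446480444)
 (.leaf 3820017213))
 (.leaf 39375721608)))))
 (.node (.node (.node (.node (.node (.leaf 28923458303)
 (.leaf 19774348443))
 (.leaf 26753422591))
 (.node (.node (.leaf 12491448039)
 (.leaf 20729364515))
 (.leaf 9191715062)))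
 (.node (.node (.node (.leaf 6617566832)
 (.leaf 34689335880))
 (.leaf 3659575415))
 (.node (.node (.leaf 7545119421)
 (.leaf 12678491785))
 (.leaf 32223400191))))
 (.node (.node (.node (.node (.leaf 1511896107)
 (.leaf 19779583623))
 (.leaf 39524080285))
 (.node (.node (.leaf 26505398408)
 (.leaf 20683789384))
 (.leaf 38318727847)))
 (.node (.node (.node (.leaf 38935801857)
 (.leaf 39469271271))
 (.leaf 9006266989))
 (.node (.leaf 1385980534)
 (.leaf 6214967881)))))))
 (.node (.node (.node (.node (.node (.node (.node (.leaf 16942767334)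
 (.leaf 24574570666))
 (.leaf 700497565))
 (.node (.node (.leaf 10265191159)
 (.leaf 27421182190))
 (.leaf 22176602224)))
 (.node (.node (.node (.leaf 1754570990)
 (.leaf 31205924507))
 (.leaf 4604873289))
 (.node (.node (.leaf 19927026844)
 (.leaf 35449476233))
 (.leaf 19758868155))))
 (.node (.node (.node (.node (.leaf 27917607979)
 (.leaf 41806295799))
 (.leaf 3907912778))
 (.node (.node (.leaf 33321525505)
 (.leaf 20281919086))
 (.leaf 17512284712)))
 (.node (.node (.node (.leaf 35586453047)
 (.leaf 13734140652))
 (.leaf 19511513709))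
 (.node (.node (.leaf 27019060848)
 (.leaf 10885356152))
 (.leaf 7129654524)))))
 (.node (.node (.node (.node (.node (.leaf 26325659897)
 (.leaf 20182004362))
 (.leaf 3667667004))
 (.node (.node (.leaf 7547463816)
 (.leaf 32545479815))
 (.leaf 20414353921)))
 (.node (.node (.node (.leaf 37213789373)
 (.leaf 7142514415))
 (.leaf 39873249017))
 (.node (.node (.leaf 36806654692)
 (.leaf 10082103030))
 (.leaf 37911883850))))
 (.node (.node (.node (.node (.leaf 38851407550)
 (.leaf 42210563208))
 (.leaf 4210056813))
 (.node (.node (.leaf 22021525743)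
 (.leaf 33986311225))
 (.leaf 3501072434)))
 (.node (.node (.node (.leaf 41772535348)
 (.leaf 31417578231))
 (.leaf 38402088105))
 (.node (.leaf 29288436463)
 (.leaf 2344496201))))))
 (.node (.node (.node (.node (.node (.node (.leaf 9444681982)
 (.leaf 35712413943))
 (.leaf 31820745470))
 (.node (.node (.leaf 37756429386)
 (.leaf 37782176424))
 (.leaf 35045045320)))
 (.node (.node (.node (.leaf 41522937577)
 (.leaf 2962009833))
 (.leaf 35226256456))
 (.node (.node (.leaf 11712378488)
 (.leaf 16550284025))
 (.leaf 18692491505))))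
 (.node (.node (.node (.node (.leaf 19193694755)
 (.leaf 27446582428))
 (.leaf 29691573492))
 (.node (.node (.leaf 21805177993)
 (.leaf 37729481802))
 (.leaf 37777698890)))
 (.node (.node (.node (.leaf 41636723257)
 (.leaf 21918484041))
 (.leaf 939790848))
 (.node (.node (.leaf 32932757552)
 (.leaf 12630761032))
 (.leaf 26087313151)))))
 (.node (.node (.node (.node (.node (.leaf 23907138186)
 (.leaf 36409038060))
 (.leaf 1074009088))
 (.node (.node (.leaf 10937849601)
 (.leaf 30083397819))
 (.leaf 29403388654)))
 (.node (.node (.node (.leaf 35603755751)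
 (.leaf 18723713671))
 (.leaf 36172083823))
 (.node (.node (.leaf 41618615298)
 (.leaf 24053811831))
 (.leaf 15180803645))))
 (.node (.node (.node (.node (.leaf 42077652615)
 (.leaf 11583406703))
 (.leaf 14156983033))
 (.node (.node (.leaf 31557572353)
 (.leaf 18940810888))
 (.leaf 37776404137)))
 (.node (.node (.node (.leaf 17377402604)
 (.leaf 29681006268))
 (.leaf 20151835292))
 (.node (.leaf 31448229419)
 (.leaf 30078981693))))))))
 (.node (.node (.node (.node (.node (.node (.node (.node (.leaf 4573192232)
 (.leaf 16524521206))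
 (.leaf 687443527))
 (.node (.node (.leaf 37482197761)
 (.leaf 16254544458))
 (.leaf 28470176508)))
 (.node (.node (.node (.leaf 16573670134)
 (.leaf 2563383851))
 (.leaf 10936438904))
 (.node (.node (.leaf 38556517563)
 (.leaf 12779340542))
 (.leaf 13839452279))))
 (.node (.node (.node (.node (.leaf 27039767793)
 (.leaf 7529383048))
 (.leaf 25024933962))
 (.node (.node (.leaf 6352430847)
 (.leaf 26038368825))
 (.leaf 37730999977)))
 (.node (.node (.node (.leaf 20596456995)
 (.leaf 27409517174))
 (.leaf 5949655157))
 (.node (.node (.leaf 19876098561)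
 (.leaf 33737958137))
 (.leaf 34369580785)))))
 (.node (.node (.node (.node (.node (.leaf 23890845185)
 (.leaf 40733349534))
 (.leaf 19742667777))
 (.node (.node (.leaf 16552662646)
 (.leaf 30108818994))
 (.leaf 37490900721)))
 (.node (.node (.node (.leaf 40996801767)
 (.leaf 38271291447))
 (.leaf 21652931326))
 (.node (.node (.leaf 12348646952)
 (.leaf 35091249802))
 (.leaf 19773825181))))
 (.node (.node (.node (.node (.leaf 26709396534)
 (.leaf 6322441290))
 (.leaf 12683352686))
 (.node (.node (.leaf 3822629928)
 (.leaf 2832999424))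
 (.leaf 4845017736)))
 (.node (.node (.node (.leaf 4460216943)
 (.leaf 7813797534))
 (.leaf 2457137738))
 (.node (.node (.leaf 33573397181)
 (.leaf 17598391030))
 (.leaf 11692738294))))))
 (.node (.node (.node (.node (.node (.node (.leaf 3422929470)
 (.leaf 11470949450))
 (.leaf 40811503618))
 (.node (.node (.leaf 38683964473)
 (.leaf 13873602303))
 (.leaf 24597236856)))
 (.node (.node (.node (.leaf 14396956733)
 (.leaf 23551427240))
 (.leaf 6613005041))
 (.node (.node (.leaf 12762003613)
 (.leaf 26191864550))
 (.leaf 24740721399))))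
 (.node (.node (.node (.node (.leaf 26773423687)
 (.leaf 10211601153))
 (.leaf 17752212727))
 (.node (.node (.leaf 16518053609)
 (.leaf 35742819888))
 (.leaf 13216661160)))
 (.node (.node (.node (.leaf 28652898039)
 (.leaf 11592419463))
 (.leaf 25913749742))
 (.node (.node (.leaf 10669853756)
 (.leaf 22052642543))
 (.leaf 23637355631)))))
 (.node (.node (.node (.node (.node (.leaf 1785740361)
 (.leaf 24174803626))
 (.leaf 14242895527))
 (.node (.node (.leaf 10370816045)
 (.leaf 40056672958))
 (.leaf 23389327037)))
 (.node (.node (.node (.leaf 30534843015)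
 (.leaf 39092851457))
 (.leaf 4578355200))
 (.node (.node (.leaf 17864114334)
 (.leaf 35732921060))
 (.leaf 13972358776))))
 (.node (.node (.node (.node (.leaf 1780854317)
 (.leaf 31577097336))
 (.leaf 27289978998))
 (.node (.node (.leaf 41484397058)
 (.leaf 10639000254))
 (.leaf 41214125570)))
 (.node (.node (.node (.leaf 37322278636)
 (.leaf 11070393975))
 (.leaf 2312943334))
 (.node (.leaf 6591134279)
 (.leaf 33689047090)))))))
 (.node (.node (.node (.node (.node (.node (.node (.leaf 15435610152)
 (.leaf 41215482882))
 (.leaf 9460011640))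
 (.node (.node (.leaf 38147033657)
 (.leaf 3758373376))
 (.leaf 41101712953)))
 (.node (.node (.node (.leaf 41502001204)
 (.leaf 26049670311))
 (.leaf 26776065791))
 (.node (.node (.leaf 25676834928)
 (.leaf 17210876473))
 (.leaf 12518038066))))
 (.node (.node (.node (.node (.leaf 17865963126)
 (.leaf 34829878919))
 (.leaf 38452464264))
 (.node (.node (.leaf 10399413384)
 (.leaf 31809744439))
 (.leaf 30503625457)))
 (.node (.node (.node (.leaf 16304326727)
 (.leaf 14392847591))
 (.leaf 29997184700))
 (.node (.node (.leaf 10936272041)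
 (.leaf 10768491748))
 (.leaf 8872054904)))))
 (.node (.node (.node (.node (.node (.leaf 35362585226)
 (.leaf 34812204103))
 (.leaf 13618744905))
 (.node (.node (.leaf 7123374831)
 (.leaf 1490038784))
 (.leaf 983850556)))
 (.node (.node (.node (.leaf 21756976237)
 (.leaf 38415711796))
 (.leaf 39117973662))
 (.node (.node (.leaf 21385248374)
 (.leaf 29675773048))
 (.leaf 29539722939))))
 (.node (.node (.node (.node (.leaf 4170014250)
 (.leaf 23238626492))
 (.leaf 2013795840))
 (.node (.node (.leaf 35847938608)
 (.leaf 17086584572))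
 (.leaf 12813231259)))
 (.node (.node (.node (.leaf 20450687623)
 (.leaf 39604028142))
 (.leaf 28898124532))
 (.node (.leaf 35609159911)
 (.leaf 30347647038))))))
 (.node (.node (.node (.node (.node (.node (.leaf 27659387636)
 (.leaf 3416019576))
 (.leaf 1409029742))
 (.node (.node (.leaf 27018672240)
 (.leaf 27545892598))
 (.leaf 7813266620)))
 (.node (.node (.node (.leaf 23114107070)
 (.leaf 4356868133))
 (.leaf 42185578726))
 (.node (.node (.leaf 28229764725)
 (.leaf 17354802926))
 (.leaf 1358000713))))
 (.node (.node (.node (.node (.leaf 4042389065)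
 (.leaf 24360852010))
 (.leaf 6858310312))
 (.node (.node (.leaf 5920051262)
 (.leaf 15476467762))
 (.leaf 17870366267)))
 (.node (.node (.node (.leaf 24592909994)
 (.leaf 23018703402))
 (.leaf 5114738748))
 (.node (.node (.leaf 35767323208)
 (.leaf 33347947069))
 (.leaf 1919695434)))))
 (.node (.node (.node (.node (.node (.leaf 33330648732)
 (.leaf 14509711419))
 (.leaf 841243768))
 (.node (.node (.leaf 38936925753)
 (.leaf 25781758121))
 (.leaf 4308613632)))
 (.node (.node (.node (.leaf 30780574876)
 (.leaf 11154331707))
 (.leaf 865116707))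
 (.node (.node (.leaf 10216836353)
 (.leaf 15367810216))
 (.leaf 5165613214))))
 (.node (.node (.node (.node (.leaf 34400517801)
 (.leaf 38252726273))
 (.leaf 19503028473))
 (.node (.node (.leaf 27698714852)
 (.leaf 21755116681))
 (.leaf 36032885322)))
 (.node (.node (.node (.leaf 40812835330)
 (.leaf 18026229500))
 (.leaf 7796506249))
 (.node (.leaf 8768353009)
 (.leaf 6357548653)))))))))))
 (.node (.node (.node (.node (.node (.node (.node (.node (.node (.node (.node (.leaf 12115926769)
 (.leaf 999299655))
 (.leaf 42144786434))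
 (.node (.node (.leaf 37724507367)
 (.leaf 19481120923))
 (.leaf 36970438217)))
 (.node (.node (.node (.leaf 26606057071)
 (.leaf 35312398472))
 (.leaf 19893370014))
 (.node (.node (.leaf 29990962295)
 (.leaf 23682181290))
 (.leaf 23663837295))))
 (.node (.node (.node (.node (.leaf 5562791102)
 (.leaf 952677000))
 (.leaf 13703369384))
 (.node (.node (.leaf 7803853470)
 (.leaf 30780289069))
 (.leaf 3793816125)))
 (.node (.node (.node (.leaf 17074754678)
 (.leaf 11170797289))
 (.leaf 27564454962))
 (.node (.node (.leaf 8893783160)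
 (.leaf 29192199227))
 (.leaf 2425141991)))))
 (.node (.node (.node (.node (.node (.leaf 16674593015)
 (.leaf 8768724528))
 (.leaf 25953641582))
 (.node (.node (.leaf 33335425674)
 (.leaf 8590237227))
 (.leaf 41652198116)))
 (.node (.node (.node (.leaf 3642574398)
 (.leaf 27966845483))
 (.leaf 18047621275))
 (.node (.node (.leaf 23957697192)
 (.leaf 21787411711))
 (.leaf 28875558132))))
 (.node (.node (.node (.node (.leaf 3933597770)
 (.leaf 40033203388))
 (.leaf 23529356912))
 (.node (.node (.leaf 36521772615)
 (.leaf 12245063910))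
 (.leaf 10229984924)))
 (.node (.node (.node (.leaf 39876456505)
 (.leaf 11471841960))
 (.leaf 32277056682))
 (.node (.node (.leaf 37080095352)
 (.leaf 10634011369))
 (.leaf 4325985391))))))
 (.node (.node (.node (.node (.node (.node (.leaf 31437696680)
 (.leaf 13587499145))
 (.leaf 28100866157))
 (.node (.node (.leaf 11458105387)
 (.leaf 4896475784))
 (.leaf 20282911368)))
 (.node (.node (.node (.leaf 33583807605)
 (.leaf 12549780103))
 (.leaf 37222989028))
 (.node (.node (.leaf 10363476718)
 (.leaf 26082432767))
 (.leaf 29459079356))))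
 (.node (.node (.node (.node (.leaf 39747924123)
 (.leaf 11206181418))
 (.leaf 29974407798))
 (.node (.node (.leaf 12228044347)
 (.leaf 41626789943))
 (.leaf 28369594923)))
 (.node (.node (.node (.leaf 28906628146)
 (.leaf 39068777985))
 (.leaf 2550672896))
 (.node (.node (.leaf 22982194343)
 (.leaf 41086219830))
 (.leaf 23104920731)))))
 (.node (.node (.node (.node (.node (.leaf 14262625015)
 (.leaf 36811448370))
 (.leaf 24459093223))
 (.node (.node (.leaf 23538030216)
 (.leaf 4223960613))
 (.leaf 37104004266)))
 (.node (.node (.node (.leaf 29810866750)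
 (.leaf 40162678007))
 (.leaf 10483220552))
 (.node (.node (.leaf 28061246703)
 (.leaf 13838691389))
 (.leaf 17727254775))))
 (.node (.node (.node (.node (.leaf 22164603579)
 (.leaf 35763907209))
 (.leaf 10079457982))
 (.node (.node (.leaf 9053292681)
 (.leaf 19255012470))
 (.leaf 38301370506)))
 (.node (.node (.node (.leaf 24575509624)
 (.leaf 34370330871))
 (.leaf 13458093809))
 (.node (.leaf 36388798206)
 (.leaf 16410744880)))))))
 (.node (.node (.node (.node (.node (.node (.node (.leaf 2293609008)
 (.leaf 41894924537))
 (.leaf 37312600118))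
 (.node (.node (.leaf 36036447489)
 (.leaf 18705681480))
 (.leaf 15630340168)))
 (.node (.node (.node (.leaf 35433777714)
 (.leaf 18939676782))
 (.leaf 6591651446))
 (.node (.node (.leaf 23383318173)
 (.leaf 1490814976))
 (.leaf 10482754669))))
 (.node (.node (.node (.node (.leaf 29136525874)
 (.leaf 6612185345))
 (.leaf 21893637174))
 (.node (.node (.leaf 19088131227)
 (.leaf 34663703083))
 (.leaf 37458634409)))
 (.node (.node (.node (.leaf 2331290155)
 (.leaf 31407323691))
 (.leaf 16306513665))
 (.node (.node (.leaf 40314448628)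
 (.leaf 35711154404))
 (.leaf 23231084545)))))
 (.node (.node (.node (.node (.node (.leaf 22992504487)
 (.leaf 32677642862))
 (.leaf 20009790977))
 (.node (.node (.leaf 2720047154)
 (.leaf 21518666988))
 (.leaf 13874343474)))
 (.node (.node (.node (.leaf 1757521453)
 (.leaf 16818682087))
 (.leaf 20468005930))
 (.node (.node (.leaf 8499814962)
 (.leaf 17862088449))
 (.leaf 15613571132))))
 (.node (.node (.node (.node (.leaf 22207088317)
 (.leaf 40431103207))
 (.leaf 20316732552))
 (.node (.node (.leaf 19607667849)
 (.leaf 41264755882))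
 (.leaf 4892977224)))
 (.node (.node (.node (.leaf 23787307177)
 (.leaf 19205722762))
 (.leaf 2297563209))
 (.node (.leaf 37190250153)
 (.leaf 21371820654))))))
 (.node (.node (.node (.node (.node (.node (.leaf 2282232320)
 (.leaf 17081971319))
 (.leaf 23499463169))
 (.node (.node (.leaf 12531315783)
 (.leaf 17869840445))
 (.leaf 37609625790)))
 (.node (.node (.node (.leaf 9457109622)
 (.leaf 2827792612))
 (.leaf 5166486684))
 (.node (.node (.leaf 9142597366)
 (.leaf 1776130158))
 (.leaf 3391677502))))
 (.node (.node (.node (.node (.leaf 27525652220)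
 (.leaf 13436269127))
 (.leaf 1392082503))
 (.node (.node (.leaf 21401208457)
 (.leaf 41802403977))
 (.leaf 12384248951)))
 (.node (.node (.node (.leaf 38855828648)
 (.leaf 35567761975))
 (.leaf 41473694210))
 (.node (.node (.leaf 27948808439)
 (.leaf 7124894343))
 (.leaf 24890976841)))))
 (.node (.node (.node (.node (.node (.leaf 36641576450)
 (.leaf 31438037228))
 (.leaf 40977937639))
 (.node (.node (.leaf 28332535341)
 (.leaf 720942151))
 (.leaf 36115848754)))
 (.node (.node (.node (.leaf 21637764862)
 (.leaf 29006075510))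
 (.leaf 3520383217))
 (.node (.node (.leaf 30486196279)
 (.leaf 18049774652))
 (.leaf 3911256637))))
 (.node (.node (.node (.node (.leaf 23797215401)
 (.leaf 23414542371))
 (.leaf 21359631593))
 (.node (.node (.leaf 8654556808)
 (.leaf 29404795649))
 (.leaf 3773040128)))
 (.node (.node (.node (.leaf 41405972222)
 (.leaf 3772521472))
 (.leaf 18965403886))
 (.node (.leaf 1239202442)
 (.leaf 40059309246))))))))
 (.node (.node (.node (.node (.node (.node (.node (.node (.leaf 20143146533)
 (.leaf 10262991397))
 (.leaf 6617858672))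
 (.node (.node (.leaf 37885319725)
 (.leaf 5245863591))
 (.leaf 29057938686)))
 (.node (.node (.node (.leaf 41885263362)
 (.leaf 23932218024))
 (.leaf 24762755327))
 (.node (.node (.leaf 3235387392)
 (.leaf 30125966013))
 (.leaf 41782643452))))
 (.node (.node (.node (.node (.leaf 39235994779)
 (.leaf 37715256372))
 (.leaf 35845461506))
 (.node (.node (.leaf 23921786538)
 (.leaf 15633233448))
 (.leaf 31541273145)))
 (.node (.node (.node (.leaf 1893479424)
 (.leaf 26098060458))
 (.leaf 20432120487))
 (.node (.node (.leaf 38580341950)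
 (.leaf 11572193532))
 (.leaf 35751465544)))))
 (.node (.node (.node (.node (.node (.leaf 24477532388)
 (.leaf 38421760247))
 (.leaf 37197023972))
 (.node (.node (.leaf 21351931015)
 (.leaf 24710237770))
 (.leaf 36910171696)))
 (.node (.node (.node (.leaf 36288185392)
 (.leaf 24043877564))
 (.leaf 34915626038))
 (.node (.node (.leaf 31845667003)
 (.leaf 6856985275))
 (.leaf 23364909603))))
 (.node (.node (.node (.node (.leaf 26457032328)
 (.leaf 18989459003))
 (.leaf 38987192507))
 (.node (.node (.leaf 40544351234)
 (.leaf 26342139127))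
 (.leaf 1758464512)))
 (.node (.node (.node (.leaf 26319798440)
 (.leaf 29006913790))
 (.leaf 33554799154))
 (.node (.node (.leaf 41224117487)
 (.leaf 26057484527))
 (.leaf 41777387772))))))
 (.node (.node (.node (.node (.node (.node (.leaf 41672833268)
 (.leaf 24983373885))
 (.leaf 17645809269))
 (.node (.node (.leaf 10082355964)
 (.leaf 10751159925))
 (.leaf 3690757674)))
 (.node (.node (.node (.leaf 36938551550)
 (.leaf 27391760541))
 (.leaf 5514293437))
 (.node (.node (.leaf 38855591612)
 (.leaf 6590877245))
 (.leaf 22321348852))))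
 (.node (.node (.node (.node (.leaf 24044511470)
 (.leaf 30767470644))
 (.leaf 41885767682))
 (.node (.node (.leaf 21370077748)
 (.leaf 13318886026))
 (.leaf 35080713352)))
 (.node (.node (.node (.leaf 23767040037)
 (.leaf 39253521545))
 (.leaf 38400841270))
 (.node (.node (.leaf 23149476539)
 (.leaf 1085060231))
 (.leaf 10891068654)))))
 (.node (.node (.node (.node (.node (.leaf 24488031463)
 (.leaf 35880033022))
 (.leaf 33598808181))
 (.node (.node (.leaf 24965122085)
 (.leaf 12098772207))
 (.leaf 16813010493)))
 (.node (.node (.node (.leaf 19626608692)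
 (.leaf 37377320106))
 (.leaf 18669445278))
 (.node (.node (.leaf 35334795009)
 (.leaf 8639892104))
 (.leaf 19523524645))))
 (.node (.node (.node (.node (.leaf 13837058748)
 (.leaf 30261793469))
 (.leaf 2148014080))
 (.node (.node (.leaf 15167181861)
 (.leaf 30486682167))
 (.leaf 26320892490)))
 (.node (.node (.node (.leaf 40965114932)
 (.leaf 36950598313))
 (.leaf 37909700682))
 (.node (.leaf 10107373820)
 (.leaf 39344737334)))))))
 (.node (.node (.node (.node (.node (.node (.node (.leaf 21676484231)
 (.leaf 9162524406))
 (.leaf 41130466537))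
 (.node (.node (.leaf 11475499176)
 (.leaf 33595961906))
 (.leaf 12812590710)))
 (.node (.node (.node (.leaf 36654555691)
 (.leaf 27931729468))
 (.leaf 12389600487))
 (.node (.node (.leaf 31169192560)
 (.leaf 10353940636))
 (.leaf 15465776369))))
 (.node (.node (.node (.node (.leaf 29591977147)
 (.leaf 26728347702))
 (.leaf 17758319335))
 (.node (.node (.leaf 6209827062)
 (.leaf 25685466695))
 (.leaf 3955545125)))
 (.node (.node (.node (.leaf 17916298910)
 (.leaf 15345544951))
 (.leaf 41135474422))
 (.node (.node (.leaf 13989368488)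
 (.leaf 30131736763))
 (.leaf 30230552823)))))
 (.node (.node (.node (.node (.node (.leaf 4040690176)
 (.leaf 26235635749))
 (.leaf 13194540144))
 (.node (.node (.leaf 21408072327)
 (.leaf 1406202439))
 (.leaf 23785524925)))
 (.node (.node (.node (.leaf 30772125884)
 (.leaf 27847664700))
 (.leaf 36573908735))
 (.node (.node (.leaf 20599865896)
 (.leaf 26722010282))
 (.leaf 3368689195))))
 (.node (.node (.node (.node (.leaf 1139857450)
 (.leaf 26490282605))
 (.leaf 9297208439))
 (.node (.node (.leaf 21877612598)
 (.leaf 40565335604))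
 (.leaf 38942437431)))
 (.node (.node (.node (.leaf 36535956718)
 (.leaf 28504075314))
 (.leaf 39997554689))
 (.node (.leaf 22212805307)
 (.leaf 38714508458))))))
 (.node (.node (.node (.node (.node (.node (.leaf 23120923710)
 (.leaf 26181699302))
 (.leaf 39192252417))
 (.node (.node (.leaf 38668492345)
 (.leaf 27850590875))
 (.leaf 20296364188)))
 (.node (.node (.node (.leaf 10347915400)
 (.leaf 37641401418))
 (.leaf 13069075684))
 (.node (.node (.leaf 31853713979)
 (.leaf 14425785916))
 (.leaf 37893813805))))
 (.node (.node (.node (.node (.leaf 1673103981)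
 (.leaf 35898927177))
 (.leaf 42010568194))
 (.node (.node (.leaf 3665320047)
 (.leaf 30802489020))
 (.leaf 20017645214)))
 (.node (.node (.node (.leaf 4091317368)
 (.leaf 11852103216))
 (.leaf 35845941762))
 (.node (.node (.leaf 17510310129)
 (.leaf 24025054772))
 (.leaf 10647390878)))))
 (.node (.node (.node (.node (.node (.leaf 3420258424)
 (.leaf 42039652916))
 (.leaf 42163366454))
 (.node (.node (.leaf 12526178973)
 (.leaf 14390015164))
 (.leaf 2345684592)))
 (.node (.node (.node (.leaf 40833794612)
 (.leaf 4489791011))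
 (.leaf 36417709616))
 (.node (.node (.leaf 39121918600)
 (.leaf 31605693064))
 (.leaf 7803380468))))
 (.node (.node (.node (.node (.leaf 19883215548)
 (.leaf 11558225066))
 (.leaf 3284466750))
 (.node (.node (.leaf 29563378296)
 (.leaf 10747141358))
 (.leaf 22053193959)))
 (.node (.node (.node (.leaf 1888788207)
 (.leaf 2325485099))
 (.leaf 32924855881))
 (.node (.leaf 40415370295)
 (.leaf 414492315)))))))))
 (.node (.node (.node (.node (.node (.node (.node (.node (.node (.leaf 38270819895)
 (.leaf 28186018861))
 (.leaf 4070845045))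
 (.node (.node (.leaf 6861433994)
 (.leaf 35092010056))
 (.leaf 21369350708)))
 (.node (.node (.node (.leaf 33737773639)
 (.leaf 28869400109))
 (.leaf 3642802364))
 (.node (.node (.leaf 35836241410)
 (.leaf 41760748598))
 (.leaf 3643086908))))
 (.node (.node (.node (.node (.leaf 17330215660)
 (.leaf 31448515240))
 (.leaf 24171867818))
 (.node (.node (.leaf 20286042268)
 (.leaf 38569837310))
 (.leaf 12357258471)))
 (.node (.node (.node (.leaf 34656786110)
 (.leaf 20316521070))
 (.leaf 22963173889))
 (.node (.node (.leaf 4464849015)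
 (.leaf 3283140214))
 (.leaf 28248480924)))))
 (.node (.node (.node (.node (.node (.leaf 13994447038)
 (.leaf 19792546459))
 (.leaf 13587269350))
 (.node (.node (.leaf 30754501876)
 (.leaf 23263766686))
 (.leaf 6874004155)))
 (.node (.node (.node (.leaf 29676591166)
 (.leaf 36238896130))
 (.leaf 39088443961))
 (.node (.node (.leaf 40717086975)
 (.leaf 36283213545))
 (.leaf 20029998729))))
 (.node (.node (.node (.node (.leaf 38829950634)
 (.leaf 37375321673))
 (.leaf 26575706666))
 (.node (.node (.leaf 33732813874)
 (.leaf 30517340210))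
 (.leaf 27958054657)))
 (.node (.node (.node (.leaf 25953358078)
 (.leaf 22020908775))
 (.leaf 7800989937))
 (.node (.node (.leaf 27124581546)
 (.leaf 36149261540))
 (.leaf 36164916967))))))
 (.node (.node (.node (.node (.node (.node (.leaf 40703495937)
 (.leaf 8786696943))
 (.leaf 16374873648))
 (.node (.node (.leaf 12110617258)
 (.leaf 8877357756))
 (.leaf 5301484712)))
 (.node (.node (.node (.leaf 23663266986)
 (.leaf 35880311346))
 (.leaf 1773449966))
 (.node (.node (.leaf 446775413)
 (.leaf 17195388671))
 (.leaf 32630662910))))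
 (.node (.node (.node (.node (.leaf 40852030702)
 (.leaf 10107639028))
 (.leaf 2860099634))
 (.node (.node (.leaf 1138246696)
 (.leaf 3262175280))
 (.leaf 11468898378)))
 (.node (.node (.node (.leaf 11860554288)
 (.leaf 2733653613))
 (.leaf 10756589724))
 (.node (.node (.leaf 15501904955)
 (.leaf 33585745977))
 (.leaf 29429348413)))))
 (.node (.node (.node (.node (.node (.leaf 27006448366)
 (.leaf 27152627311))
 (.leaf 2478452298))
 (.node (.node (.leaf 10345800449)
 (.leaf 33603716717))
 (.leaf 10668629662)))
 (.node (.node (.node (.leaf 4628765736)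
 (.leaf 37222465586))
 (.leaf 40296930356))
 (.node (.node (.leaf 37219557543)
 (.leaf 10533892743))
 (.leaf 35041903358))))
 (.node (.node (.node (.node (.leaf 1915334704)
 (.leaf 7545428225))
 (.leaf 2614991931))
 (.node (.node (.leaf 2464973869)
 (.leaf 1220596362))
 (.leaf 28607875814)))
 (.node (.node (.node (.leaf 24725299457)
 (.leaf 41669506215))
 (.leaf 3270778923))
 (.node (.leaf 32276810812)
 (.leaf 27396279038)))))))
 (.node (.node (.node (.node (.node (.node (.node (.leaf 12232737468)
 (.leaf 12645611166))
 (.leaf 25030566973))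
 (.node (.node (.leaf 19645466734)
 (.leaf 27581584955))
 (.leaf 17094976254)))
 (.node (.node (.node (.leaf 12482638898)
 (.leaf 35580307082))
 (.leaf 23638148263))
 (.node (.node (.leaf 2988238891)
 (.leaf 24443630316))
 (.leaf 39204831233))))
 (.node (.node (.node (.node (.leaf 11006480419)
 (.leaf 5115254902))
 (.leaf 32912730876))
 (.node (.node (.leaf 39892103837)
 (.leaf 6626337001))
 (.leaf 20550872746)))
 (.node (.node (.node (.leaf 19119351015)
 (.leaf 26335779065))
 (.leaf 11811547696))
 (.node (.node (.leaf 36543001650)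
 (.leaf 6344271079))
 (.leaf 30243611895)))))
 (.node (.node (.node (.node (.node (.leaf 1671184457)
 (.leaf 568167534))
 (.leaf 30377585307))
 (.node (.node (.leaf 566270620)
 (.leaf 20058828323))
 (.leaf 3369616384)))
 (.node (.node (.node (.leaf 21759531079)
 (.leaf 21540249160))
 (.leaf 3102779126))
 (.node (.node (.leaf 40410132994)
 (.leaf 1104766575))
 (.leaf 12885293613))))
 (.node (.node (.node (.node (.leaf 36516533762)
 (.leaf 24493759530))
 (.leaf 11422762058))
 (.node (.node (.leaf 35986716417)
 (.leaf 11309825271))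
 (.leaf 39742763575)))
 (.node (.node (.node (.leaf 36816565296)
 (.leaf 7534933220))
 (.leaf 12913820927))
 (.node (.leaf 40838236908)
 (.leaf 37245011623))))))
 (.node (.node (.node (.node (.node (.node (.leaf 36439953662)
 (.leaf 35443193073))
 (.leaf 37778408616))
 (.node (.node (.leaf 19363073276)
 (.leaf 21762768438))
 (.leaf 24446903527)))
 (.node (.node (.node (.leaf 27713705531)
 (.leaf 2561200382))
 (.leaf 12647986313))
 (.node (.node (.leaf 18021171436)
 (.leaf 16434859043))
 (.leaf 20278301697))))
 (.node (.node (.node (.node (.leaf 14109165194)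
 (.leaf 17591823078))
 (.leaf 10101768766))
 (.node (.node (.leaf 40309159166)
 (.leaf 1520205867))
 (.leaf 3788886128)))
 (.node (.node (.node (.leaf 7546942633)
 (.leaf 1268550179))
 (.leaf 33565557503))
 (.node (.node (.leaf 22960420906)
 (.leaf 36804896505))
 (.leaf 41920375030)))))
 (.node (.node (.node (.node (.node (.leaf 35309900537)
 (.leaf 5517132861))
 (.leaf 23637831338))
 (.node (.node (.leaf 35483103879)
 (.leaf 988906605))
 (.leaf 19878714428)))
 (.node (.node (.node (.leaf 27161337928)
 (.leaf 2745508469))
 (.leaf 26844143651))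
 (.node (.node (.leaf 28336222465)
 (.leaf 17910837366))
 (.leaf 12359368349))))
 (.node (.node (.node (.node (.leaf 23529574568)
 (.leaf 27287229488))
 (.leaf 2744162887))
 (.node (.node (.leaf 16808811239)
 (.leaf 36660979942))
 (.leaf 13699507431)))
 (.node (.node (.node (.leaf 24085274231)
 (.leaf 40549897782))
 (.leaf 20013457014))
 (.node (.leaf 16434367011)
 (.leaf 40327822014))))))))
 (.node (.node (.node (.node (.node (.node (.node (.node (.leaf 28465967152)
 (.leaf 12548873325))
 (.leaf 3221758976))
 (.node (.node (.leaf 35500987015)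
 (.leaf 36014770733))
 (.leaf 5941654764)))
 (.node (.node (.node (.leaf 27678025886)
 (.leaf 18925278762))
 (.leaf 11587180790))
 (.node (.node (.leaf 1383604809)
 (.leaf 28230363292))
 (.leaf 11691182653))))
 (.node (.node (.node (.node (.leaf 3016804423)
 (.leaf 38818428468))
 (.leaf 21506301037))
 (.node (.node (.leaf 8765315184)
 (.leaf 7143036668))
 (.leaf 38825216700)))
 (.node (.node (.node (.leaf 27123385991)
 (.leaf 30076681403))
 (.leaf 30369209531))
 (.node (.node (.leaf 17891750145)
 (.leaf 28772293865))
 (.leaf 10263814693)))))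
 (.node (.node (.node (.node (.node (.leaf 29141591793)
 (.leaf 26208733926))
 (.leaf 820252160))
 (.node (.node (.leaf 40413842487)
 (.leaf 10665131638))
 (.leaf 26369390117)))
 (.node (.node (.node (.leaf 19072583277)
 (.leaf 36014267435))
 (.leaf 41540268200))
 (.node (.node (.leaf 38800797185)
 (.leaf 13202772729))
 (.leaf 15350402091))))
 (.node (.node (.node (.node (.leaf 22344639607)
 (.leaf 5299797615))
 (.leaf 21803908745))
 (.node (.node (.leaf 32918749246)
 (.leaf 41785898239))
 (.leaf 7527548605)))
 (.node (.node (.node (.leaf 26356554861)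
 (.leaf 10802216507))
 (.leaf 11986913903))
 (.node (.node (.leaf 3954968101)
 (.leaf 31205404859))
 (.leaf 15232678461))))))
 (.node (.node (.node (.node (.node (.node (.leaf 13080355556)
 (.leaf 1224032840))
 (.leaf 27832955463))
 (.node (.node (.leaf 17242542781)
 (.leaf 24492908143))
 (.leaf 7129398006)))
 (.node (.node (.node (.leaf 32633942761)
 (.leaf 11284820215))
 (.leaf 9304879773))
 (.node (.node (.leaf 37482674749)
 (.leaf 3921486966))
 (.leaf 24866569278))))
 (.node (.node (.node (.node (.leaf 8520600711)
 (.leaf 29290292457))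
 (.leaf 27390157550))
 (.node (.node (.leaf 16539462889)
 (.leaf 7144844534))
 (.leaf 27961592380)))
 (.node (.node (.node (.leaf 14000208040)
 (.leaf 2176623361))
 (.leaf 25780319476))
 (.node (.node (.leaf 18968805947)
 (.leaf 32509394996))
 (.leaf 42021555335)))))
 (.node (.node (.node (.node (.node (.leaf 24629325564)
 (.leaf 13709454567))
 (.leaf 28252318780))
 (.node (.node (.leaf 9408919160)
 (.leaf 10622633627))
 (.leaf 5955187784)))
 (.node (.node (.node (.leaf 38159397032)
 (.leaf 1622547504))
 (.leaf 41895210551))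
 (.node (.node (.leaf 19661868188)
 (.leaf 40172625657))
 (.leaf 22206588536))))
 (.node (.node (.node (.node (.leaf 3936143478)
 (.leaf 1659692615))
 (.leaf 32481094194))
 (.node (.node (.leaf 24712323329)
 (.leaf 2849548516))
 (.leaf 25027748901)))
 (.node (.node (.node (.leaf 20149057674)
 (.leaf 23775475901))
 (.leaf 15202542141))
 (.node (.leaf 39764242622)
 (.leaf 5947032687)))))))
 (.node (.node (.node (.node (.node (.node (.node (.leaf 23901257253)
 (.leaf 9028045047))
 (.leaf 41134622457))
 (.node (.node (.leaf 4459901097)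
 (.leaf 23363598376))
 (.leaf 40947556866)))
 (.node (.node (.node (.leaf 23952636965)
 (.leaf 32892631782))
 (.leaf 6875869864))
 (.node (.node (.leaf 2829982258)
 (.leaf 25664793849))
 (.leaf 1505805044))))
 (.node (.node (.node (.node (.leaf 36299397350)
 (.leaf 13318547692))
 (.leaf 2209399869))
 (.node (.node (.leaf 17484050551)
 (.leaf 3504095744))
 (.leaf 29556824251)))
 (.node (.node (.node (.leaf 40281692727)
 (.leaf 9439360158))
 (.leaf 12095203498))
 (.node (.node (.leaf 10644255471)
 (.leaf 37085602377))
 (.leaf 36250596400)))))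
 (.node (.node (.node (.node (.node (.leaf 36167792876)
 (.leaf 24089794600))
 (.leaf 17065076381))
 (.node (.node (.leaf 23805684361)
 (.leaf 28753370857))
 (.leaf 37343290536)))
 (.node (.node (.node (.leaf 13297307884)
 (.leaf 700268150))
 (.leaf 3019446332))
 (.node (.node (.leaf 8759828087)
 (.leaf 17193044638))
 (.leaf 37647032944))))
 (.node (.node (.node (.node (.leaf 13031794364)
 (.leaf 16793015863))
 (.leaf 41911345921))
 (.node (.node (.leaf 41621274681)
 (.leaf 17345032940))
 (.leaf 38435325577)))
 (.node (.node (.node (.leaf 3374197822)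
 (.leaf 17996496541))
 (.leaf 35980160002))
 (.node (.leaf 22346761404)
 (.leaf 29825697397))))))
 (.node (.node (.node (.node (.node (.node (.leaf 37599591102)
 (.leaf 41383125745))
 (.leaf 15166913074))
 (.node (.node (.leaf 30397707383)
 (.leaf 37240318119))
 (.leaf 12898055838)))
 (.node (.node (.node (.leaf 28619986679)
 (.leaf 30129374327))
 (.leaf 36522754303))
 (.node (.node (.leaf 6854917356)
 (.leaf 27442389110))
 (.leaf 17343575709))))
 (.node (.node (.node (.node (.leaf 22321665135)
 (.leaf 3250447990))
 (.leaf 21519204469))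
 (.node (.node (.leaf 23953482277)
 (.leaf 40813567645))
 (.leaf 36304988272)))
 (.node (.node (.node (.leaf 6215439433)
 (.leaf 34375783561))
 (.leaf 32252997165))
 (.node (.node (.leaf 6357932783)
 (.leaf 17061433598))
 (.leaf 4496589935)))))
 (.node (.node (.node (.node (.node (.leaf 9007581302)
 (.leaf 16671976125))
 (.leaf 29443594478))
 (.node (.node (.leaf 2160176173)
 (.leaf 25800569001))
 (.leaf 26992199751)))
 (.node (.node (.node (.leaf 34388846198)
 (.leaf 17077259828))
 (.leaf 39491298442))
 (.node (.node (.leaf 29290972391)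
 (.leaf 38833318633))
 (.leaf 31577481958))))
 (.node (.node (.node (.node (.leaf 1538828874)
 (.leaf 40147461889))
 (.leaf 34677217524))
 (.node (.node (.leaf 17752483447)
 (.leaf 38683355324))
 (.leaf 39073241655)))
 (.node (.node (.node (.leaf 39076042295)
 (.leaf 29301010663))
 (.leaf 13586981543))
 (.node (.leaf 35493352007)
 (.leaf 38936398849))))))))))
 (.node (.node (.node (.node (.node (.node (.node (.node (.node (.node (.leaf 40985486580)
 (.leaf 11341223466))
 (.leaf 9461456641))
 (.node (.node (.leaf 24358766268)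
 (.leaf 3118241526))
 (.leaf 27980066972)))
 (.node (.node (.node (.leaf 20467171370)
 (.leaf 23230692387))
 (.leaf 21787114556))
 (.node (.node (.leaf 12214429736)
 (.leaf 1486930164))
 (.leaf 22176925241))))
 (.node (.node (.node (.node (.leaf 27262267529)
 (.leaf 2163052618))
 (.leaf 11050053375))
 (.node (.node (.leaf 33348698268)
 (.leaf 8474401508))
 (.leaf 13567317159)))
 (.node (.node (.node (.leaf 40699315257)
 (.leaf 40843194108))
 (.leaf 28722704386))
 (.node (.node (.leaf 1894657610)
 (.leaf 17363435262))
 (.leaf 2862910069)))))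
 (.node (.node (.node (.node (.node (.leaf 19759413917)
 (.leaf 30100248253))
 (.leaf 13890581565))
 (.node (.node (.leaf 9055255077)
 (.leaf 1909839472))
 (.leaf 12926217972)))
 (.node (.node (.node (.leaf 39875918337)
 (.leaf 7532566273))
 (.leaf 1405369893))
 (.node (.node (.leaf 35227057289)
 (.leaf 1249125450))
 (.leaf 39255559325))))
 (.node (.node (.node (.node (.leaf 18809631292)
 (.leaf 39907093147))
 (.leaf 13450658047))
 (.node (.node (.leaf 21753889015)
 (.leaf 42208987784))
 (.leaf 33732577437)))
 (.node (.node (.node (.leaf 32496834812)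
 (.leaf 12913525436))
 (.leaf 18667617927))
 (.node (.node (.leaf 37482485309)
 (.leaf 39524839559))
 (.leaf 20411585573))))))
 (.node (.node (.node (.node (.node (.node (.leaf 26738274047)
 (.leaf 26906740874))
 (.leaf 27698476104))
 (.node (.node (.leaf 2699872511)
 (.leaf 31456601643))
 (.leaf 22174510712)))
 (.node (.node (.node (.leaf 26187417710)
 (.leaf 39227331836))
 (.leaf 19346602654))
 (.node (.node (.leaf 4037631011)
 (.leaf 17107529846))
 (.leaf 30262291006))))
 (.node (.node (.node (.node (.leaf 16276264493)
 (.leaf 24208778479))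
 (.leaf 8789485096))
 (.node (.node (.leaf 34826489927)
 (.leaf 19611808905))
 (.leaf 4444735562)))
 (.node (.node (.node (.leaf 40548321846)
 (.leaf 39759790137))
 (.leaf 20719157320))
 (.node (.node (.leaf 23369642153)
 (.leaf 31605228656))
 (.leaf 18973854318)))))
 (.node (.node (.node (.node (.node (.leaf 22210683512)
 (.leaf 27555663100))
 (.leaf 36789424237))
 (.node (.node (.leaf 40678618114)
 (.leaf 24089015336))
 (.leaf 17753010295)))
 (.node (.node (.node (.leaf 41483130882)
 (.leaf 7815656615))
 (.leaf 33616342183))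
 (.node (.node (.leaf 6209422456)
 (.leaf 7794441969))
 (.leaf 14238138623))))
 (.node (.node (.node (.node (.leaf 27799327815)
 (.leaf 12625665254))
 (.leaf 1257603144))
 (.node (.node (.leaf 11553860348)
 (.leaf 32646108782))
 (.leaf 40444133092)))
 (.node (.node (.node (.leaf 23819002917)
 (.leaf 22979854524))
 (.leaf 2310388856))
 (.node (.leaf 15635466888)
 (.leaf 20416970919)))))))
 (.node (.node (.node (.node (.node (.node (.node (.leaf 680863272)
 (.leaf 10242118393))
 (.leaf 3509180987))
 (.node (.node (.leaf 5949897845)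
 (.leaf 13440956062))
 (.leaf 23921976970)))
 (.node (.node (.node (.leaf 24428183594)
 (.leaf 27715062940))
 (.leaf 8652605550))
 (.node (.node (.leaf 2565916414)
 (.leaf 35047084682))
 (.leaf 1391762030))))
 (.node (.node (.node (.node (.leaf 13699930348)
 (.leaf 41807087348))
 (.leaf 10261778109))
 (.node (.node (.leaf 32221544169)
 (.leaf 38665798911))
 (.leaf 40461997807)))
 (.node (.node (.node (.leaf 28195515628)
 (.leaf 27290576539))
 (.leaf 12080191528))
 (.node (.node (.leaf 23260691114)
 (.leaf 29588585080))
 (.leaf 3288617534)))))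
 (.node (.node (.node (.node (.node (.leaf 28782951143)
 (.leaf 10638638123))
 (.leaf 40565058278))
 (.node (.node (.leaf 37054621430)
 (.leaf 39769414895))
 (.leaf 23121141438)))
 (.node (.node (.node (.leaf 11408901163)
 (.leaf 34644167752))
 (.leaf 41354153524))
 (.node (.node (.leaf 37475956481)
 (.leaf 23013721637))
 (.leaf 25818909940))))
 (.node (.node (.node (.node (.leaf 23147392037)
 (.leaf 3624156160))
 (.leaf 21942347384))
 (.node (.node (.leaf 3936889974)
 (.leaf 17649942171))
 (.leaf 26078966858)))
 (.node (.node (.node (.leaf 26740288170)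
 (.leaf 37058651721))
 (.leaf 12681102984))
 (.node (.leaf 14271267071)
 (.leaf 25696148041))))))
 (.node (.node (.node (.node (.node (.node (.leaf 1252022389)
 (.leaf 8764929705))
 (.leaf 5248963145))
 (.node (.node (.leaf 10518844525)
 (.leaf 2161911296))
 (.leaf 18051772476)))
 (.node (.node (.node (.leaf 1403348003)
 (.leaf 6317516007))
 (.leaf 11206744106))
 (.node (.node (.leaf 21906389181)
 (.leaf 3905459902))
 (.leaf 33317268618))))
 (.node (.node (.node (.node (.leaf 23767564835)
 (.leaf 6223562862))
 (.leaf 27679921380))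
 (.node (.node (.leaf 9140487797)
 (.leaf 35046383272))
 (.leaf 4846044744)))
 (.node (.node (.node (.leaf 28772525106)
 (.leaf 4062512760))
 (.leaf 38449544872))
 (.node (.node (.leaf 39742235705)
 (.leaf 4175178240))
 (.leaf 33315123457)))))
 (.node (.node (.node (.node (.node (.leaf 24222476012)
 (.leaf 26067491385))
 (.leaf 948776490))
 (.node (.node (.leaf 10370312449)
 (.leaf 14375755324))
 (.leaf 2612022390)))
 (.node (.node (.node (.leaf 431791259)
 (.leaf 14276405357))
 (.leaf 13482940963))
 (.node (.node (.leaf 21674338888)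
 (.leaf 30093964025))
 (.leaf 5299343018))))
 (.node (.node (.node (.node (.leaf 34687996094)
 (.leaf 12495963245))
 (.leaf 39240728713))
 (.node (.node (.leaf 24357380208)
 (.leaf 36123996398))
 (.leaf 6343901815)))
 (.node (.node (.node (.leaf 25786140727)
 (.leaf 41205258242))
 (.leaf 11176397542))
 (.node (.leaf 16777833002)
 (.leaf 13328603388))))))))
 (.node (.node (.node (.node (.node (.node (.node (.node (.leaf 40952806967)
 (.leaf 12244537073))
 (.leaf 40972456679))
 (.node (.node (.leaf 10498136219)
 (.leaf 26640390767))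
 (.leaf 13085257770)))
 (.node (.node (.node (.leaf 29055591671)
 (.leaf 16406124169))
 (.leaf 13351668893))
 (.node (.node (.leaf 41770688767)
 (.leaf 6319387903))
 (.leaf 32544694429))))
 (.node (.node (.node (.node (.leaf 4062761022)
 (.leaf 19639680630))
 (.leaf 25684953849))
 (.node (.node (.leaf 38819958442)
 (.leaf 13889854652))
 (.leaf 452467821)))
 (.node (.node (.node (.leaf 4493994024)
 (.leaf 5946854132))
 (.leaf 2611256392))
 (.node (.node (.leaf 27037538375)
 (.leaf 18000802870))
 (.leaf 21762420796)))))
 (.node (.node (.node (.node (.node (.leaf 16303657610)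
 (.leaf 33554573369))
 (.leaf 21940674110))
 (.node (.node (.leaf 16522003646)
 (.leaf 11743055421))
 (.leaf 1655217200)))
 (.node (.node (.node (.leaf 23506866875)
 (.leaf 720115783))
 (.leaf 3384109176))
 (.node (.node (.leaf 23099930686)
 (.leaf 35359159879))
 (.leaf 9305348213))))
 (.node (.node (.node (.node (.leaf 26874891402)
 (.leaf 28751745785))
 (.leaf 1520736813))
 (.node (.node (.leaf 2966435328)
 (.leaf 25648745640))
 (.leaf 22980150973)))
 (.node (.node (.node (.leaf 27026857543)
 (.leaf 2698525696))
 (.leaf 29429947068))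
 (.node (.node (.leaf 23418710056)
 (.leaf 39875338753))
 (.leaf 17211215929))))))
 (.node (.node (.node (.node (.node (.node (.leaf 21356709513)
 (.leaf 17761114172))
 (.leaf 3767884328))
 (.node (.node (.leaf 29577287934)
 (.leaf 14018566334))
 (.leaf 38804019252)))
 (.node (.node (.node (.leaf 5567684728)
 (.leaf 14106070184))
 (.leaf 32248285741))
 (.node (.node (.leaf 23671989383)
 (.leaf 37878872820))
 (.leaf 38549399227))))
 (.node (.node (.node (.node (.leaf 3823372840)
 (.leaf 17109691549))
 (.leaf 6876401802))
 (.node (.node (.leaf 12494882442)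
 (.leaf 22207900733))
 (.leaf 2971991100)))
 (.node (.node (.node (.leaf 14154765861)
 (.leaf 37053418214))
 (.leaf 28112209566))
 (.node (.node (.leaf 6874536093)
 (.leaf 27287488742))
 (.leaf 11055022335)))))
 (.node (.node (.node (.node (.node (.leaf 37373212233)
 (.leaf 14141924974))
 (.leaf 7797296316))
 (.node (.node (.leaf 24437407980)
 (.leaf 35315330696))
 (.leaf 26502126308)))
 (.node (.node (.node (.leaf 29681330846)
 (.leaf 41486527656))
 (.leaf 1006460970))
 (.node (.node (.leaf 1811811438)
 (.leaf 16416005193))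
 (.leaf 21944969790))))
 (.node (.node (.node (.node (.leaf 22294654014)
 (.leaf 2994054699))
 (.leaf 33286403117))
 (.node (.node (.leaf 1944424520)
 (.leaf 10667737148))
 (.leaf 41234099257)))
 (.node (.node (.node (.leaf 1114381935)
 (.leaf 14287415882))
 (.leaf 7803592892))
 (.node (.leaf 4086901283)
 (.leaf 39206679092)))))))
 (.node (.node (.node (.node (.node (.node (.node (.leaf 22299083964)
 (.leaf 1492491336))
 (.leaf 15230719737))
 (.node (.node (.leaf 2063131186)
 (.leaf 27429735678))
 (.leaf 18989269128)))
 (.node (.node (.node (.leaf 21627824183)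
 (.leaf 13153962538))
 (.leaf 23094638122))
 (.node (.node (.leaf 17611440185)
 (.leaf 41224361014))
 (.leaf 33748501575))))
 (.node (.node (.node (.node (.leaf 4624497187)
 (.leaf 8874454252))
 (.leaf 11609454247))
 (.node (.node (.leaf 25964713545)
 (.leaf 12660659358))
 (.leaf 30368609854)))
 (.node (.node (.node (.leaf 11274877994)
 (.leaf 2347853936))
 (.leaf 28629374512))
 (.node (.node (.leaf 6217951486)
 (.leaf 37782669935))
 (.leaf 29166775858)))))
 (.node (.node (.node (.node (.node (.leaf 36775794690)
 (.leaf 12635216116))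
 (.leaf 29002831920))
 (.node (.node (.leaf 29322713324)
 (.leaf 29943687870))
 (.leaf 11021888764)))
 (.node (.node (.node (.leaf 34360116272)
 (.leaf 18826446572))
 (.leaf 20027147454))
 (.node (.node (.leaf 22186920560)
 (.leaf 39496026343))
 (.leaf 35040539372))))
 (.node (.node (.node (.node (.leaf 40686719543)
 (.leaf 13219964458))
 (.leaf 2747550837))
 (.node (.node (.leaf 4055408829)
 (.leaf 28067107071))
 (.leaf 2482023997)))
 (.node (.node (.node (.leaf 23096797185)
 (.leaf 2983503593))
 (.leaf 20464334373))
 (.node (.leaf 24861096104)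
 (.leaf 8739147383))))))
 (.node (.node (.node (.node (.node (.node (.leaf 402918400)
 (.leaf 15362691621))
 (.leaf 17618004088))
 (.node (.node (.leaf 25649320560)
 (.leaf 26351322359))
 (.leaf 16827073252)))
 (.node (.node (.node (.leaf 21540979848)
 (.leaf 10756334269))
 (.leaf 16952637158))
 (.node (.node (.leaf 27424532027)
 (.leaf 21893024822))
 (.leaf 10213194396))))
 (.node (.node (.node (.node (.leaf 23497293866)
 (.leaf 27308695195))
 (.leaf 40197234433))
 (.node (.node (.leaf 4055190136)
 (.leaf 40027618868))
 (.leaf 15463684846)))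
 (.node (.node (.node (.leaf 12898602101)
 (.leaf 24715064509))
 (.leaf 10395218058))
 (.node (.node (.leaf 5295716009)
 (.leaf 21653158459))
 (.leaf 22186625793)))))
 (.node (.node (.node (.node (.node (.leaf 36133214446)
 (.leaf 1087386624))
 (.leaf 13352868936))
 (.node (.node (.leaf 28638041643)
 (.leaf 35176943241))
 (.leaf 16527486654)))
 (.node (.node (.node (.leaf 34781409513)
 (.leaf 28112714357))
 (.leaf 10129036325))
 (.node (.node (.leaf 11472570992)
 (.leaf 10513599024))
 (.leaf 24159273017))))
 (.node (.node (.node (.node (.leaf 20413767169)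
 (.leaf 12141616369))
 (.leaf 4175707136))
 (.node (.node (.leaf 24979969610)
 (.leaf 8784459383))
 (.leaf 1898226927)))
 (.node (.node (.node (.leaf 15569827368)
 (.leaf 38281038393))
 (.leaf 31582153328))
 (.node (.leaf 23634267137)
 (.leaf 30785504878)))))))))
 (.node (.node (.node (.node (.node (.node (.node (.node (.node (.leaf 42207122158)
 (.leaf 17513157160))
 (.leaf 17112609022))
 (.node (.node (.leaf 26776835836)
 (.leaf 23016570044))
 (.leaf 18674978871)))
 (.node (.node (.node (.leaf 40008301569)
 (.leaf 40306318076))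
 (.leaf 29966554685))
 (.node (.node (.leaf 38556271806)
 (.leaf 2042668284))
 (.leaf 15207504457))))
 (.node (.node (.node (.node (.leaf 16911531574)
 (.leaf 1893993472))
 (.leaf 13082341438))
 (.node (.node (.leaf 36136141031)
 (.leaf 18934482670))
 (.leaf 1088175616)))
 (.node (.node (.node (.leaf 8922861608)
 (.leaf 16709126300))
 (.leaf 30361795262))
 (.node (.node (.leaf 27173066312)
 (.leaf 17623839974))
 (.leaf 13739641994)))))
 (.node (.node (.node (.node (.node (.leaf 13487991041)
 (.leaf 38448198793))
 (.leaf 34956513351))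
 (.node (.node (.leaf 20316212362)
 (.leaf 35717457143))
 (.leaf 9261589027)))
 (.node (.node (.node (.leaf 3953455651)
 (.leaf 29300731947))
 (.leaf 6617456385))
 (.node (.node (.leaf 9188729893)
 (.leaf 41904887353))
 (.leaf 12545585290))))
 (.node (.node (.node (.node (.leaf 34409130544)
 (.leaf 29840147692))
 (.leaf 37849696301))
 (.node (.node (.leaf 10363906817)
 (.leaf 35716094024))
 (.leaf 30803329135)))
 (.node (.node (.node (.leaf 11873965757)
 (.leaf 14255977215))
 (.leaf 36438413896))
 (.node (.node (.leaf 28503332607)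
 (.leaf 32615051828))
 (.leaf 23663529639))))))
 (.node (.node (.node (.node (.node (.node (.leaf 26459615972)
 (.leaf 17779460764))
 (.leaf 29410042113))
 (.node (.node (.leaf 40681753145)
 (.leaf 22040344254))
 (.leaf 12414656060)))
 (.node (.node (.node (.leaf 36840199415)
 (.leaf 1089830984))
 (.leaf 19505724533))
 (.node (.node (.leaf 4326286958)
 (.leaf 17076397108))
 (.leaf 12144129576))))
 (.node (.node (.node (.node (.leaf 7535404188)
 (.leaf 28619414756))
 (.leaf 1140416042))
 (.node (.node (.leaf 17349570168)
 (.leaf 4894501998))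
 (.leaf 1358219913)))
 (.node (.node (.node (.leaf 24841636541)
 (.leaf 10932007971))
 (.leaf 41219408438))
 (.node (.node (.leaf 29827637817)
 (.leaf 17594359451))
 (.leaf 41131281126)))))
 (.node (.node (.node (.node (.node (.leaf 35474727591)
 (.leaf 20042529950))
 (.leaf 8609433318))
 (.node (.node (.leaf 19655661174)
 (.leaf 28898346546))
 (.leaf 37865143975)))
 (.node (.node (.node (.leaf 24060740215)
 (.leaf 1641425008))
 (.leaf 27143543431))
 (.node (.node (.leaf 33704386121)
 (.leaf 39878215222))
 (.leaf 31550474470))))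
 (.node (.node (.node (.node (.leaf 38798180073)
 (.leaf 41517866743))
 (.leaf 12011584648))
 (.node (.node (.leaf 27313688731)
 (.leaf 3262435371))
 (.leaf 26771986505)))
 (.node (.node (.node (.leaf 6625692231)
 (.leaf 28234755629))
 (.leaf 33301467722))
 (.node (.leaf 36543275565)
 (.leaf 14153460809)))))))
 (.node (.node (.node (.node (.node (.node (.node (.leaf 413215269)
 (.leaf 10379119661))
 (.leaf 10236603965))
 (.node (.node (.leaf 21888915133)
 (.leaf 5111612061))
 (.leaf 6218070075)))
 (.node (.node (.node (.leaf 955874887)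
 (.leaf 1940146248))
 (.leaf 17489283311))
 (.node (.node (.leaf 36672175337)
 (.leaf 28216789740))
 (.leaf 40192292541))))
 (.node (.node (.node (.node (.leaf 24562430499)
 (.leaf 3533444214))
 (.leaf 13720937640))
 (.node (.node (.leaf 5112920220)
 (.leaf 12945612446))
 (.leaf 38118509569)))
 (.node (.node (.node (.leaf 26991006856)
 (.leaf 35079852142))
 (.leaf 14022761147))
 (.node (.node (.leaf 23116146344)
 (.leaf 868493429))
 (.leaf 1780492850)))))
 (.node (.node (.node (.node (.node (.leaf 28521594620)
 (.leaf 16977584170))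
 (.leaf 2581466222))
 (.node (.node (.leaf 21487983240)
 (.leaf 29547185207))
 (.leaf 19356199167)))
 (.node (.node (.node (.leaf 37331154494)
 (.leaf 1775887471))
 (.leaf 12249344120))
 (.node (.node (.leaf 22195365113)
 (.leaf 8918939768))
 (.leaf 35361780845))))
 (.node (.node (.node (.node (.leaf 35497450055)
 (.leaf 40162449977))
 (.leaf 35444557055))
 (.node (.node (.leaf 27793605881)
 (.leaf 19493043821))
 (.leaf 39912011513)))
 (.node (.node (.node (.leaf 19341568072)
 (.leaf 38051006599))
 (.leaf 41607912450))
 (.node (.leaf 41674222247)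
 (.leaf 37110272112))))))
 (.node (.node (.node (.node (.node (.node (.leaf 10401686638)
 (.leaf 33563743460))
 (.leaf 24977689790))
 (.node (.node (.leaf 31840314025)
 (.leaf 3525632573))
 (.leaf 15315018826)))
 (.node (.node (.node (.leaf 21624068718)
 (.leaf 38024370857))
 (.leaf 25969433199))
 (.node (.node (.leaf 19340564126)
 (.leaf 37893554943))
 (.leaf 23248838814))))
 (.node (.node (.node (.node (.leaf 13959026219)
 (.leaf 14424102044))
 (.leaf 21510907628))
 (.node (.node (.leaf 14411000553)
 (.leaf 24593051382))
 (.leaf 3654929007)))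
 (.node (.node (.node (.leaf 29019736830)
 (.leaf 35715579501))
 (.leaf 8740498161))
 (.node (.node (.leaf 38148593832)
 (.leaf 26485502692))
 (.leaf 17492713532)))))
 (.node (.node (.node (.node (.node (.leaf 41508701943)
 (.leaf 5569603260))
 (.leaf 3252721911))
 (.node (.node (.leaf 24488815332)
 (.leaf 24849825846))
 (.leaf 8638965358)))
 (.node (.node (.node (.leaf 4445297224)
 (.leaf 39390359176))
 (.leaf 10469366320))
 (.node (.node (.leaf 12090886279)
 (.leaf 30766654516))
 (.leaf 2208092280))))
 (.node (.node (.node (.node (.leaf 40730421487)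
 (.leaf 29815299261))
 (.leaf 21493586660))
 (.node (.node (.leaf 19068700911)
 (.leaf 11851938985))
 (.leaf 37916912239)))
 (.node (.node (.node (.leaf 28082966125)
 (.leaf 25684678727))
 (.leaf 29959653494))
 (.node (.leaf 8656574506)
 (.leaf 30348184183))))))))
 (.node (.node (.node (.node (.node (.node (.node (.node (.leaf 23497819176)
 (.leaf 12651994155))
 (.leaf 19914064008))
 (.node (.node (.leaf 29000363522)
 (.leaf 30498646774))
 (.leaf 19473439899)))
 (.node (.node (.node (.leaf 10349264455)
 (.leaf 13556371504))
 (.leaf 42180566246))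
 (.node (.node (.leaf 29975120502)
 (.leaf 10219788444))
 (.leaf 23816919587))))
 (.node (.node (.node (.node (.leaf 41656630004)
 (.leaf 20277367333))
 (.leaf 32630424744))
 (.node (.node (.leaf 7804165350)
 (.leaf 37245690991))
 (.leaf 26481929840)))
 (.node (.node (.node (.leaf 27153544303)
 (.leaf 11341710378))
 (.leaf 26337465512))
 (.node (.node (.leaf 11335529700)
 (.leaf 19521941130))
 (.leaf 37868111604)))))
 (.node (.node (.node (.node (.node (.leaf 15497065201)
 (.leaf 23658550972))
 (.leaf 3920928446))
 (.node (.node (.leaf 29674815164)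
 (.leaf 20554835101))
 (.leaf 22078638779)))
 (.node (.node (.node (.leaf 30210326717)
 (.leaf 42173362233))
 (.leaf 27983979580))
 (.node (.node (.leaf 37725710583)
 (.leaf 20163954826))
 (.leaf 3508678205))))
 (.node (.node (.node (.node (.leaf 28516595951)
 (.leaf 11690681976))
 (.leaf 29846248676))
 (.node (.node (.leaf 23419261480)
 (.leaf 30242768444))
 (.leaf 3902887461)))
 (.node (.node (.node (.leaf 40837975292)
 (.leaf 17782849692))
 (.leaf 38670535335))
 (.node (.node (.leaf 16410370300)
 (.leaf 34778194678))
 (.leaf 29962115124))))))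
 (.node (.node (.node (.node (.node (.node (.leaf 39788329662)
 (.leaf 2880966253))
 (.leaf 16269546241))
 (.node (.node (.leaf 37325661864)
 (.leaf 27126955631))
 (.leaf 10781346973)))
 (.node (.node (.node (.leaf 17198892221)
 (.leaf 27577884789))
 (.leaf 7544905966))
 (.node (.node (.leaf 28199377013)
 (.leaf 5295052873))
 (.leaf 38720072380))))
 (.node (.node (.node (.node (.leaf 42072106737)
 (.leaf 16808194276))
 (.leaf 16926971958))
 (.node (.node (.leaf 3365194988)
 (.leaf 9028826160))
 (.leaf 33717906169)))
 (.node (.node (.node (.leaf 10211840701)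
 (.leaf 14271790327))
 (.leaf 27712156789))
 (.node (.node (.leaf 24309272743)
 (.leaf 34793135337))
 (.leaf 2057446450)))))
 (.node (.node (.node (.node (.node (.leaf 953696256)
 (.leaf 1907930351))
 (.leaf 26213891145))
 (.node (.node (.leaf 18821705864)
 (.leaf 10216059127))
 (.leaf 26637896302)))
 (.node (.node (.node (.leaf 19660434167)
 (.leaf 9192216820))
 (.leaf 16271647882))
 (.node (.node (.leaf 29671392998)
 (.leaf 16705404965))
 (.leaf 37188082414))))
 (.node (.node (.node (.node (.leaf 29321901295)
 (.leaf 31838527163))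
 (.leaf 20311558812))
 (.node (.node (.leaf 21620486791)
 (.leaf 27664716343))
 (.leaf 38952384569)))
 (.node (.node (.node (.leaf 35903539964)
 (.leaf 7527345921))
 (.leaf 25666612906))
 (.node (.leaf 16946965566)
 (.leaf 11450072744)))))))
 (.node (.node (.node (.node (.node (.node (.node (.leaf 12147112583)
 (.leaf 11559020167))
 (.leaf 39608808502))
 (.node (.node (.leaf 13316177662)
 (.leaf 22987452092))
 (.leaf 22308991095)))
 (.node (.node (.node (.leaf 36569908462)
 (.leaf 13570545225))
 (.leaf 11046540362))
 (.node (.node (.leaf 38698840319)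
 (.leaf 13885658813))
 (.leaf 28651668030))))
 (.node (.node (.node (.node (.leaf 19908827804)
 (.leaf 35095434888))
 (.leaf 29808196283))
 (.node (.node (.leaf 18801827485)
 (.leaf 1476930048))
 (.leaf 24203014892)))
 (.node (.node (.node (.leaf 23819729445)
 (.leaf 37727006889))
 (.leaf 21772245247))
 (.node (.node (.leaf 4893853833)
 (.leaf 14155328549))
 (.leaf 4898719854)))))
 (.node (.node (.node (.node (.node (.leaf 12761195257)
 (.leaf 24069059825))
 (.leaf 35496006765))
 (.node (.node (.leaf 34644580919)
 (.leaf 38264001537))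
 (.leaf 34638804212)))
 (.node (.node (.node (.leaf 12628314249)
 (.leaf 39254070939))
 (.leaf 8918280362))
 (.node (.node (.leaf 17467323580)
 (.leaf 19626999918))
 (.leaf 10612924143))))
 (.node (.node (.node (.node (.leaf 10883003069)
 (.leaf 36571318343))
 (.leaf 40668392962))
 (.node (.node (.leaf 19596375589)
 (.leaf 30130894397))
 (.leaf 11066984483)))
 (.node (.node (.node (.leaf 1358513223)
 (.leaf 24440874664))
 (.leaf 12364055788))
 (.node (.leaf 24740204287)
 (.leaf 41217566890))))))
 (.node (.node (.node (.node (.node (.node (.leaf 16572854521)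
 (.leaf 29407349880))
 (.leaf 29032305707))
 (.node (.node (.leaf 2160701483)
 (.leaf 24442588783))
 (.leaf 23018079786)))
 (.node (.node (.node (.leaf 12128722503)
 (.leaf 2158533377))
 (.leaf 16975934012))
 (.node (.node (.leaf 37877987004)
 (.leaf 27259413150))
 (.leaf 34937594441))))
 (.node (.node (.node (.node (.leaf 8873362031)
 (.leaf 39488660532))
 (.leaf 28386838270))
 (.node (.node (.leaf 28464799746)
 (.leaf 32509539447))
 (.leaf 11318638652)))
 (.node (.node (.node (.leaf 4895164042)
 (.leaf 18020658238))
 (.leaf 12818206875))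
 (.node (.node (.leaf 11976616072)
 (.leaf 39232545020))
 (.leaf 13452502769)))))
 (.node (.node (.node (.node (.node (.leaf 42070474471)
 (.leaf 25785279562))
 (.leaf 10384364142))
 (.node (.node (.leaf 39251928733)
 (.leaf 30079737463))
 (.leaf 15195801849)))
 (.node (.node (.node (.leaf 32491816188)
 (.leaf 28249810077))
 (.leaf 40265737218))
 (.node (.node (.leaf 34637980399)
 (.leaf 18953280238))
 (.leaf 12921225404))))
 (.node (.node (.node (.node (.leaf 8921658604)
 (.leaf 38182683818))
 (.leaf 42046464241))
 (.node (.node (.leaf 12677617224)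
 (.leaf 37860812967))
 (.leaf 23931487306)))
 (.node (.node (.node (.leaf 23552865832)
 (.leaf 35583692872))
 (.leaf 11584028839))
 (.node (.leaf 24219754616)
 (.leaf 19070818971))))))))))))
 (.node (.node (.node (.node (.node (.node (.node (.node (.node (.node (.node (.node (.leaf 4295246848)
 (.leaf 2317618296))
 (.leaf 5570356286))
 (.node (.node (.leaf 34408835721)
 (.leaf 34928145545))
 (.leaf 21519499492)))
 (.node (.node (.node (.leaf 19611364087)
 (.leaf 23650960572))
 (.leaf 715473980))
 (.node (.node (.leaf 2562070064)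
 (.leaf 24891446973))
 (.leaf 13887227069))))
 (.node (.node (.node (.node (.leaf 32524557469)
 (.leaf 24055913071))
 (.leaf 2326404656))
 (.node (.node (.leaf 6352025148)
 (.leaf 17582641209))
 (.leaf 9167449133)))
 (.node (.node (.node (.leaf 11452394027)
 (.leaf 9141795950))
 (.leaf 9168115956))
 (.node (.node (.leaf 40332763388)
 (.leaf 2713780341))
 (.leaf 10505295408)))))
 (.node (.node (.node (.node (.node (.leaf 40729940721)
 (.leaf 36676967979))
 (.leaf 39344996510))
 (.node (.node (.leaf 20680893441)
 (.leaf 4176314442))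
 (.leaf 38002836023)))
 (.node (.node (.node (.leaf 28599497730)
 (.leaf 17180487203))
 (.leaf 39654598301))
 (.node (.node (.leaf 17358131259)
 (.leaf 24307060336))
 (.leaf 40971932919))))
 (.node (.node (.node (.node (.leaf 31850312873)
 (.leaf 9395546667))
 (.leaf 31426096188))
 (.node (.node (.leaf 39069243905)
 (.leaf 8496961191))
 (.leaf 41894703671)))
 (.node (.node (.node (.leaf 7144551082)
 (.leaf 39594902529))
 (.leaf 32626030846))
 (.node (.node (.leaf 38666651137)
 (.leaf 28092535535))
 (.leaf 22311755828))))))
 (.node (.node (.node (.node (.node (.node (.leaf 40548848692)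
 (.leaf 2477799485))
 (.leaf 37055460519))
 (.node (.node (.leaf 31605999224)
 (.leaf 31438434551))
 (.leaf 41082528411)))
 (.node (.node (.node (.leaf 32511517236)
 (.leaf 24223749672))
 (.leaf 25836432551))
 (.node (.node (.leaf 17492086332)
 (.leaf 37063604966))
 (.leaf 22280267316))))
 (.node (.node (.node (.node (.leaf 1760701513)
 (.leaf 25917287080))
 (.leaf 38014637735))
 (.node (.node (.leaf 3416561269)
 (.leaf 4331156030))
 (.leaf 18853273838)))
 (.node (.node (.node (.leaf 24092488815)
 (.leaf 27824623353))
 (.leaf 10756112612))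
 (.node (.node (.leaf 3932970570)
 (.leaf 3017296956))
 (.leaf 26887377662)))))
 (.node (.node (.node (.node (.node (.leaf 37456496881)
 (.leaf 35482766957))
 (.leaf 41803715721))
 (.node (.node (.leaf 19528961179)
 (.leaf 29300226605))
 (.leaf 17314644520)))
 (.node (.node (.node (.leaf 29405070013)
 (.leaf 7531790583))
 (.leaf 26908955720))
 (.node (.node (.leaf 17046269987)
 (.leaf 34400754224))
 (.leaf 27948561544))))
 (.node (.node (.node (.node (.leaf 10737796658)
 (.leaf 41536595624))
 (.leaf 41368285441))
 (.node (.node (.leaf 30503401021)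
 (.leaf 19744234043))
 (.leaf 1507665006)))
 (.node (.node (.node (.leaf 6876157164)
 (.leaf 40007467252))
 (.leaf 6618206457))
 (.node (.leaf 33748991645)
 (.leaf 23389603959)))))))
 (.node (.node (.node (.node (.node (.node (.node (.leaf 36140230706)
 (.leaf 4041480192))
 (.leaf 41533111529))
 (.node (.node (.leaf 27043103272)
 (.leaf 26604561972))
 (.leaf 16837669607)))
 (.node (.node (.node (.leaf 4210675821)
 (.leaf 17745849462))
 (.leaf 5516127934))
 (.node (.node (.leaf 36117164589)
 (.leaf 19880317576))
 (.leaf 7125404827))))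
 (.node (.node (.node (.node (.leaf 2746787949)
 (.leaf 5563253367))
 (.leaf 26239140007))
 (.node (.node (.leaf 24605724926)
 (.leaf 10881374958))
 (.leaf 8471590055)))
 (.node (.node (.node (.leaf 36167313134)
 (.leaf 30486833723))
 (.leaf 30243366972))
 (.node (.node (.leaf 20145844225)
 (.leaf 35310311681))
 (.leaf 39068453633)))))
 (.node (.node (.node (.node (.node (.leaf 34668810826)
 (.leaf 6854423271))
 (.leaf 29032604921))
 (.node (.node (.leaf 22320876655)
 (.leaf 24846335030))
 (.leaf 41782933748)))
 (.node (.node (.node (.leaf 11287468168)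
 (.leaf 18046365301))
 (.leaf 37348242684))
 (.node (.node (.leaf 28483620604)
 (.leaf 869303336))
 (.leaf 35096108104))))
 (.node (.node (.node (.node (.leaf 2044333167)
 (.leaf 20576240810))
 (.leaf 6612375101))
 (.node (.node (.leaf 41370631732)
 (.leaf 25702476456))
 (.leaf 5955508964)))
 (.node (.node (.node (.leaf 22026743927)
 (.leaf 11155091054))
 (.leaf 12786745019))
 (.node (.leaf 1642144365)
 (.leaf 549496988))))))
 (.node (.node (.node (.node (.node (.node (.leaf 36123224292)
 (.leaf 34772889334))
 (.leaf 22342586558))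
 (.node (.node (.leaf 35880594678)
 (.leaf 26638376616))
 (.leaf 25947953406)))
 (.node (.node (.node (.leaf 16973899419)
 (.leaf 33603561727))
 (.leaf 32659235561))
 (.node (.node (.leaf 27794368157)
 (.leaf 11286891676))
 (.leaf 5566112318))))
 (.node (.node (.node (.node (.leaf 23631511082)
 (.leaf 19368312572))
 (.leaf 16843901994))
 (.node (.node (.leaf 10110499445)
 (.leaf 4221101130))
 (.leaf 17613615161)))
 (.node (.node (.node (.leaf 32644425780)
 (.leaf 22208630461))
 (.leaf 21390528071))
 (.node (.node (.leaf 34669180143)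
 (.leaf 29728819900))
 (.leaf 35195994735)))))
 (.node (.node (.node (.node (.node (.leaf 12277821992)
 (.leaf 39739809281))
 (.leaf 4470688879))
 (.node (.node (.leaf 18803671176)
 (.leaf 34906459886))
 (.leaf 21805802605)))
 (.node (.node (.node (.leaf 17209234037)
 (.leaf 14121497854))
 (.leaf 35206236404))
 (.node (.node (.leaf 33957459501)
 (.leaf 21653400822))
 (.leaf 12363088503))))
 (.node (.node (.node (.node (.leaf 36842377837)
 (.leaf 29824923768))
 (.leaf 586422894))
 (.node (.node (.leaf 551293440)
 (.leaf 12652801254))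
 (.leaf 13033625662)))
 (.node (.node (.node (.leaf 970762888)
 (.leaf 16375138339))
 (.leaf 12949453884))
 (.node (.leaf 12501260025)
 (.leaf 9411035902))))))))
 (.node (.node (.node (.node (.node (.node (.node (.node (.leaf 39744859191)
 (.leaf 17329825534))
 (.leaf 690293820))
 (.node (.node (.leaf 15613448350)
 (.leaf 4892468361))
 (.leaf 31438189192)))
 (.node (.node (.node (.leaf 18855320616)
 (.leaf 40162140729))
 (.leaf 35903021822))
 (.node (.node (.leaf 29186359012)
 (.leaf 20146364533))
 (.leaf 8785375913))))
 (.node (.node (.node (.node (.leaf 16540112630)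
 (.leaf 26103086762))
 (.leaf 36149008429))
 (.node (.node (.leaf 38536055976)
 (.leaf 23219755009))
 (.leaf 9143192202)))
 (.node (.node (.node (.leaf 37187496676)
 (.leaf 35165109812))
 (.leaf 36536087807))
 (.node (.node (.leaf 2349117502)
 (.leaf 12928723004))
 (.leaf 16388764232)))))
 (.node (.node (.node (.node (.node (.leaf 28454269954)
 (.leaf 29940397809))
 (.leaf 8472074887))
 (.node (.node (.leaf 599319077)
 (.leaf 28897830140))
 (.leaf 32530613810)))
 (.node (.node (.node (.leaf 1756239410)
 (.leaf 34688778398))
 (.leaf 12920855085))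
 (.node (.node (.leaf 4844494474)
 (.leaf 13865885746))
 (.leaf 1239516269))))
 (.node (.node (.node (.node (.leaf 37868362428)
 (.leaf 13487196830))
 (.leaf 6358042221))
 (.node (.node (.leaf 2969176135)
 (.leaf 16923297435))
 (.leaf 25005265482)))
 (.node (.node (.node (.leaf 1676719216)
 (.leaf 33590212146))
 (.leaf 26088120941))
 (.node (.node (.leaf 11555353770)
 (.leaf 2075938377))
 (.leaf 6626105081))))))
 (.node (.node (.node (.node (.node (.node (.leaf 23756627969)
 (.leaf 26893196360))
 (.leaf 33957219897))
 (.node (.node (.leaf 41351000745)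
 (.leaf 28226487853))
 (.leaf 10504791804)))
 (.node (.node (.node (.leaf 2848046197)
 (.leaf 5162728603))
 (.leaf 36435428079))
 (.node (.node (.leaf 38287804150)
 (.leaf 13034902695))
 (.leaf 11826694391))))
 (.node (.node (.node (.node (.leaf 19526479094)
 (.leaf 18831161070))
 (.leaf 20549833287))
 (.node (.node (.leaf 27929975964)
 (.leaf 38405770806))
 (.leaf 39660835516)))
 (.node (.node (.node (.leaf 22028116535)
 (.leaf 5297769640))
 (.leaf 31157172411))
 (.node (.node (.leaf 19759172763)
 (.leaf 8899794543))
 (.leaf 12392453180)))))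
 (.node (.node (.node (.node (.node (.leaf 38267607722)
 (.leaf 1252390005))
 (.leaf 26069518905))
 (.node (.node (.leaf 41643743974)
 (.leaf 9193657454))
 (.leaf 9057234679)))
 (.node (.node (.node (.leaf 30362379931)
 (.leaf 21787880183))
 (.leaf 40150644790))
 (.node (.node (.leaf 13884764279)
 (.leaf 1812218479))
 (.leaf 9145491700))))
 (.node (.node (.node (.node (.leaf 1892292651)
 (.leaf 19796159530))
 (.leaf 11964022500))
 (.node (.node (.leaf 36115163138)
 (.leaf 37193286767))
 (.leaf 38044786345)))
 (.node (.node (.node (.leaf 13465589878)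
 (.leaf 32545261687))
 (.leaf 42051110127))
 (.node (.leaf 28386066689)
 (.leaf 11726644457)))))))
 (.node (.node (.node (.node (.node (.node (.node (.leaf 17196259585)
 (.leaf 18937389212))
 (.leaf 34829338222))
 (.node (.node (.leaf 24054481460)
 (.leaf 11960410223))
 (.leaf 2748948028)))
 (.node (.node (.node (.leaf 12243016862)
 (.leaf 12223040230))
 (.leaf 35462460671))
 (.node (.node (.leaf 13301292149)
 (.leaf 40952267831))
 (.leaf 40306580724))))
 (.node (.node (.node (.node (.leaf 3098391090)
 (.leaf 34017725048))
 (.leaf 12280550588))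
 (.node (.node (.leaf 28235084426)
 (.leaf 12810520694))
 (.leaf 22329320180)))
 (.node (.node (.node (.leaf 30199090742)
 (.leaf 24859518201))
 (.leaf 34825695370))
 (.node (.node (.leaf 3549975159)
 (.leaf 31442884844))
 (.leaf 3786737272)))))
 (.node (.node (.node (.node (.node (.leaf 27140928751)
 (.leaf 11202772078))
 (.leaf 3501568048))
 (.node (.node (.leaf 20008929317)
 (.leaf 12518320871))
 (.leaf 24611226366)))
 (.node (.node (.node (.leaf 600125477)
 (.leaf 29825581113))
 (.leaf 980730992))
 (.node (.node (.leaf 23121693758)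
 (.leaf 38942092477))
 (.leaf 17994901228))))
 (.node (.node (.node (.node (.leaf 41751046146)
 (.leaf 23689239594))
 (.leaf 31138911280))
 (.node (.node (.leaf 29319266537)
 (.leaf 31183202864))
 (.leaf 33704795190)))
 (.node (.node (.node (.leaf 13194366576)
 (.leaf 1677215853))
 (.leaf 9413996734))
 (.node (.leaf 27141349116)
 (.leaf 37647930536))))))
 (.node (.node (.node (.node (.node (.node (.leaf 41942053633)
 (.leaf 29190101051))
 (.leaf 2819109376))
 (.node (.node (.leaf 37611914410)
 (.leaf 16439195305))
 (.leaf 40026059934)))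
 (.node (.node (.node (.leaf 16940559003)
 (.leaf 30096336103))
 (.leaf 36036977919))
 (.node (.node (.leaf 9274703989)
 (.leaf 16522957373))
 (.leaf 4355580489))))
 (.node (.node (.node (.node (.leaf 5916695292)
 (.leaf 12501437671))
 (.leaf 13347413027))
 (.node (.node (.leaf 29547301947)
 (.leaf 27958577707))
 (.leaf 36257950447)))
 (.node (.node (.node (.leaf 20535389697)
 (.leaf 8908276462))
 (.leaf 12496805959))
 (.node (.node (.leaf 3892590080)
 (.leaf 5298487408))
 (.leaf 6187691640)))))
 (.node (.node (.node (.node (.node (.leaf 42207635692)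
 (.leaf 32261909737))
 (.leaf 41400280745))
 (.node (.node (.leaf 21628464699)
 (.leaf 39772853915))
 (.leaf 38719475370)))
 (.node (.node (.node (.leaf 27845060214)
 (.leaf 23549273769))
 (.leaf 31426469942))
 (.node (.node (.leaf 4443617280)
 (.leaf 22965450301))
 (.leaf 6343782135))))
 (.node (.node (.node (.node (.leaf 16544787005)
 (.leaf 22995830940))
 (.leaf 1137751592))
 (.node (.node (.leaf 9328550140)
 (.leaf 33286102071))
 (.leaf 13974421246)))
 (.node (.node (.node (.leaf 17726042343)
 (.leaf 27661989022))
 (.leaf 31840563428))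
 (.node (.leaf 15227830461)
 (.leaf 39526107292)))))))))
 (.node (.node (.node (.node (.node (.node (.node (.node (.node (.leaf 23901783075)
 (.leaf 38854284988))
 (.leaf 1356345344))
 (.node (.node (.leaf 32497018503)
 (.leaf 36402507004))
 (.leaf 24606242038)))
 (.node (.node (.node (.leaf 24463803966)
 (.leaf 34776834631))
 (.leaf 41643182326))
 (.node (.node (.leaf 12542089287)
 (.leaf 20266955777))
 (.leaf 18700941371))))
 (.node (.node (.node (.node (.leaf 20278763521)
 (.leaf 1134828616))
 (.leaf 38716713639))
 (.node (.node (.leaf 1543260270)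
 (.leaf 23769794561))
 (.leaf 23955652778)))
 (.node (.node (.node (.leaf 39071672375)
 (.leaf 16796099645))
 (.leaf 34663916734))
 (.node (.node (.leaf 26373266541)
 (.leaf 10236249149))
 (.leaf 11742363836)))))
 (.node (.node (.node (.node (.node (.leaf 40851566334)
 (.leaf 11557241417))
 (.leaf 21518940277))
 (.node (.node (.leaf 32228514375)
 (.leaf 13168857768))
 (.leaf 6209965176)))
 (.node (.node (.node (.leaf 28329225730)
 (.leaf 1804617799))
 (.leaf 34773799559))
 (.node (.node (.leaf 4629496432)
 (.leaf 29960060468))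
 (.leaf 29589893181))))
 (.node (.node (.node (.node (.leaf 32656404136)
 (.leaf 12276626670))
 (.leaf 1745364480))
 (.node (.node (.leaf 24591343356)
 (.leaf 2312473200))
 (.leaf 9171522716)))
 (.node (.node (.node (.leaf 16424118856)
 (.leaf 16423733385))
 (.leaf 12895410420))
 (.node (.node (.leaf 24843480232)
 (.leaf 32480794676))
 (.leaf 36434218056))))))
 (.node (.node (.node (.node (.node (.node (.leaf 24897659454)
 (.leaf 1219047971))
 (.leaf 26440959545))
 (.node (.node (.leaf 4310487208)
 (.leaf 9310842418))
 (.leaf 10260364918)))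
 (.node (.node (.node (.leaf 15342386344)
 (.leaf 37342004476))
 (.leaf 34657692916))
 (.node (.node (.leaf 15464513693)
 (.leaf 3250205303))
 (.leaf 28763333677))))
 (.node (.node (.node (.node (.leaf 27849774140)
 (.leaf 21670272584))
 (.leaf 33585895533))
 (.node (.node (.leaf 16679267390)
 (.leaf 13989645548))
 (.leaf 15610305263)))
 (.node (.node (.node (.leaf 8469402733)
 (.leaf 469549610))
 (.leaf 2883896904))
 (.node (.node (.leaf 36014514431)
 (.leaf 12145707632))
 (.leaf 11310353639)))))
 (.node (.node (.node (.node (.node (.leaf 468717610)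
 (.leaf 4361566250))
 (.leaf 35717661353))
 (.node (.node (.leaf 19928191016)
 (.leaf 12278390824))
 (.leaf 16841200315)))
 (.node (.node (.node (.leaf 16704964645)
 (.leaf 24726869161))
 (.leaf 29423118492))
 (.node (.node (.leaf 37462229578)
 (.leaf 17220540673))
 (.leaf 29946910449))))
 (.node (.node (.node (.node (.leaf 37178631730)
 (.leaf 36972621385))
 (.leaf 10800660597))
 (.node (.node (.leaf 28064683678)
 (.leaf 24187767928))
 (.leaf 22177275449)))
 (.node (.node (.node (.leaf 36785515522)
 (.leaf 38048203433))
 (.leaf 29187945198))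
 (.node (.leaf 17596744251)
 (.leaf 5160717981)))))))
 (.node (.node (.node (.node (.node (.node (.node (.leaf 41756800564)
 (.leaf 21787640892))
 (.leaf 36551668781))
 (.node (.node (.leaf 26872230142)
 (.leaf 40832977460))
 (.leaf 11847226043)))
 (.node (.node (.node (.leaf 21609181239)
 (.leaf 35045792878))
 (.leaf 3287857212))
 (.node (.node (.leaf 17913665180)
 (.leaf 13600663600))
 (.leaf 16537497790))))
 (.node (.node (.node (.node (.leaf 36928576699)
 (.leaf 31838335230))
 (.leaf 36951049328))
 (.node (.node (.leaf 5515602620)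
 (.leaf 4172071591))
 (.leaf 38182355080)))
 (.node (.node (.node (.leaf 26184388745)
 (.leaf 1673309257))
 (.leaf 35633093192))
 (.node (.node (.leaf 14531577019)
 (.leaf 12379017452))
 (.leaf 36282984689)))))
 (.node (.node (.node (.node (.node (.leaf 1895110216)
 (.leaf 27661509788))
 (.leaf 22980740764))
 (.node (.node (.leaf 11073378556)
 (.leaf 28361203755))
 (.leaf 42205539556)))
 (.node (.node (.node (.leaf 24293965354)
 (.leaf 30084000999))
 (.leaf 21535164554))
 (.node (.node (.leaf 26725591111)
 (.leaf 28738427638))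
 (.leaf 31825599560))))
 (.node (.node (.node (.node (.leaf 988592711)
 (.leaf 38167225482))
 (.leaf 24086073001))
 (.node (.node (.leaf 36270095078)
 (.leaf 41786422007))
 (.leaf 3767359530)))
 (.node (.node (.node (.leaf 35474909746)
 (.leaf 13030411943))
 (.leaf 19394074879))
 (.node (.leaf 27799211574)
 (.leaf 6349394506))))))
 (.node (.node (.node (.node (.node (.node (.leaf 33718099101)
 (.leaf 35577549039))
 (.leaf 16841978939))
 (.node (.node (.leaf 8603617904)
 (.leaf 983425084))
 (.leaf 39613443740)))
 (.node (.node (.node (.leaf 40057504926)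
 (.leaf 39335053030))
 (.leaf 29455663165))
 (.node (.node (.leaf 34798184694)
 (.leaf 32516744423))
 (.leaf 41112068857))))
 (.node (.node (.node (.node (.leaf 840825464)
 (.leaf 34006215725))
 (.leaf 21669429386))
 (.node (.node (.leaf 19212648605)
 (.leaf 19125856810))
 (.leaf 5920566383)))
 (.node (.node (.node (.leaf 17463267959)
 (.leaf 2176187000))
 (.leaf 26102340720))
 (.node (.node (.leaf 28787378422)
 (.leaf 40008770561))
 (.leaf 14137309942)))))
 (.node (.node (.node (.node (.node (.leaf 14559590587)
 (.leaf 33335147053))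
 (.leaf 15331625640))
 (.node (.node (.leaf 4223490085)
 (.leaf 24177829563))
 (.leaf 40583324393)))
 (.node (.node (.node (.leaf 12098502889)
 (.leaf 26469874233))
 (.leaf 37984291329))
 (.node (.node (.leaf 18791072808)
 (.leaf 30243071231))
 (.leaf 32945782427))))
 (.node (.node (.node (.node (.leaf 19492652601)
 (.leaf 41388979950))
 (.leaf 40593577705))
 (.node (.node (.leaf 19389301897)
 (.leaf 32546062959))
 (.leaf 31174827568)))
 (.node (.node (.node (.leaf 34677560392)
 (.leaf 2591306283))
 (.leaf 40278539966))
 (.node (.leaf 35737449207)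
 (.leaf 13752701002))))))))
 (.node (.node (.node (.node (.node (.node (.node (.node (.leaf 1646375474)
 (.leaf 603505706))
 (.leaf 29143995620))
 (.node (.node (.leaf 28866651138)
 (.leaf 36282696747))
 (.leaf 41002575004)))
 (.node (.node (.node (.leaf 38669278262)
 (.leaf 12903562484))
 (.leaf 33729393390))
 (.node (.node (.leaf 34803376298)
 (.leaf 7795999911))
 (.leaf 1373682825))))
 (.node (.node (.node (.node (.leaf 29725306942)
 (.leaf 5247699112))
 (.leaf 30065065522))
 (.node (.node (.leaf 36787461168)
 (.leaf 10902352553))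
 (.leaf 32615276587)))
 (.node (.node (.node (.leaf 24892747301)
 (.leaf 39793789598))
 (.leaf 35852240124))
 (.node (.node (.leaf 30217616446)
 (.leaf 27556188210))
 (.leaf 736395816)))))
 (.node (.node (.node (.node (.node (.leaf 22290760948)
 (.leaf 20701039241))
 (.leaf 29840949988))
 (.node (.node (.leaf 20584431175)
 (.leaf 6188219963))
 (.leaf 13739273773)))
 (.node (.node (.node (.leaf 26203506343)
 (.leaf 17461415070))
 (.leaf 27306074230))
 (.node (.node (.leaf 32650712254)
 (.leaf 27042515496))
 (.leaf 42054594793))))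
 (.node (.node (.node (.node (.leaf 37509280842)
 (.leaf 14392030953))
 (.leaf 24329324605))
 (.node (.node (.leaf 28732449282)
 (.leaf 4179687997))
 (.leaf 24200482416)))
 (.node (.node (.node (.leaf 13706252524)
 (.leaf 23390144631))
 (.leaf 26993623209))
 (.node (.node (.leaf 35979679746)
 (.leaf 26594294503))
 (.leaf 25024354494))))))
 (.node (.node (.node (.node (.node (.node (.leaf 35999238399)
 (.leaf 35847417394))
 (.leaf 2953327616))
 (.node (.node (.leaf 555872317)
 (.leaf 41777243383))
 (.leaf 14153300106)))
 (.node (.node (.node (.leaf 27429966958)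
 (.leaf 5916179188))
 (.leaf 13354561790))
 (.node (.node (.leaf 11846858871)
 (.leaf 26050866346))
 (.leaf 4228163626))))
 (.node (.node (.node (.node (.leaf 14290294821)
 (.leaf 34911684206))
 (.leaf 8590501930))
 (.node (.node (.leaf 715693686)
 (.leaf 4592042104))
 (.leaf 10631832766)))
 (.node (.node (.node (.leaf 23529081456)
 (.leaf 11605428809))
 (.leaf 6322700348))
 (.node (.node (.leaf 11184682555)
 (.leaf 27126155336))
 (.leaf 36387296328)))))
 (.node (.node (.node (.node (.node (.leaf 7532013225)
 (.leaf 29546789437))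
 (.leaf 39367023334))
 (.node (.node (.leaf 27946649756)
 (.leaf 20710195881))
 (.leaf 14023477880)))
 (.node (.node (.node (.leaf 39893663801)
 (.leaf 5954866248))
 (.leaf 4045451453))
 (.node (.node (.leaf 30344320252)
 (.leaf 22052966474))
 (.leaf 27147966700))))
 (.node (.node (.node (.node (.leaf 464596517)
 (.leaf 4895811655))
 (.leaf 9042419309))
 (.node (.node (.leaf 8724722216)
 (.leaf 16942149353))
 (.leaf 30214046839)))
 (.node (.node (.node (.leaf 16643580453)
 (.leaf 22061407983))
 (.leaf 29572539963))
 (.node (.leaf 19233833217)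
 (.leaf 39925353149)))))))
 (.node (.node (.node (.node (.node (.node (.node (.leaf 40140910082)
 (.leaf 30477227761))
 (.leaf 11424268969))
 (.node (.node (.leaf 11826210935)
 (.leaf 1525737544))
 (.leaf 23014484517)))
 (.node (.node (.node (.leaf 38534797879)
 (.leaf 25648326314))
 (.leaf 1354028169))
 (.node (.node (.leaf 33616905325)
 (.leaf 26639878279))
 (.leaf 38430929143))))
 (.node (.node (.node (.node (.leaf 3270646832)
 (.leaf 38397618689))
 (.leaf 11315862247))
 (.node (.node (.leaf 2331017776)
 (.leaf 19743261697))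
 (.leaf 29698047096)))
 (.node (.node (.node (.leaf 20168176829)
 (.leaf 17327739512))
 (.leaf 4325690536))
 (.node (.node (.leaf 24624505417)
 (.leaf 6323220599))
 (.leaf 13059886191)))))
 (.node (.node (.node (.node (.node (.leaf 40704282865)
 (.leaf 6587785473))
 (.leaf 18029290101))
 (.node (.node (.leaf 36811954736)
 (.leaf 4846823022))
 (.leaf 21653684795)))
 (.node (.node (.node (.leaf 39877238838)
 (.leaf 14560266299))
 (.leaf 18965920998))
 (.node (.node (.leaf 36836000999)
 (.leaf 25779107044))
 (.leaf 26502848679))))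
 (.node (.node (.node (.node (.leaf 17477534878)
 (.leaf 19387661347))
 (.leaf 20545015848))
 (.node (.node (.leaf 16271421610)
 (.leaf 12254596846))
 (.leaf 29996729917)))
 (.node (.node (.node (.leaf 42155534850)
 (.leaf 41133120155))
 (.leaf 17448862760))
 (.node (.leaf 40197720831)
 (.leaf 36536463105))))))
 (.node (.node (.node (.node (.node (.node (.leaf 39523262090)
 (.leaf 15330281204))
 (.leaf 35617583213))
 (.node (.node (.leaf 11959667784)
 (.leaf 26470082617))
 (.leaf 38808481334)))
 (.node (.node (.node (.leaf 13331971189)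
 (.leaf 13865727655))
 (.leaf 970287216))
 (.node (.node (.leaf 33315399836)
 (.leaf 24329172541))
 (.leaf 30508729511))))
 (.node (.node (.node (.node (.leaf 39474327607)
 (.leaf 2290924774))
 (.leaf 3638041088))
 (.node (.node (.leaf 20595884579)
 (.leaf 15610422827))
 (.leaf 19078379163)))
 (.node (.node (.node (.leaf 28217244391)
 (.leaf 10379480732))
 (.leaf 27927867639))
 (.node (.node (.leaf 11066487331)
 (.leaf 4224721520))
 (.leaf 27845502619)))))
 (.node (.node (.node (.node (.node (.leaf 958780476)
 (.leaf 15332372727))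
 (.leaf 15635860540))
 (.node (.node (.leaf 11958503560)
 (.leaf 25934962287))
 (.leaf 438948926)))
 (.node (.node (.node (.leaf 3554451515)
 (.leaf 29166035182))
 (.leaf 29454303864))
 (.node (.node (.leaf 34958609545)
 (.leaf 31560594662))
 (.leaf 32914877065))))
 (.node (.node (.node (.node (.leaf 21792655981)
 (.leaf 4330395198))
 (.leaf 7142204606))
 (.node (.node (.leaf 10535641709)
 (.leaf 12903810236))
 (.leaf 40821196854)))
 (.node (.node (.node (.leaf 30736254509)
 (.leaf 9187904629))
 (.leaf 42158146617))
 (.node (.leaf 2048656958)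
 (.leaf 11034503870))))))))))
 (.node (.node (.node (.node (.node (.node (.node (.node (.node (.node (.leaf 19739182634)
 (.leaf 7814120692))
 (.leaf 17379378216))
 (.node (.node (.leaf 34359872564)
 (.leaf 17611104888))
 (.leaf 12233028766)))
 (.node (.node (.node (.leaf 25029927668)
 (.leaf 28194907367))
 (.leaf 12501682845))
 (.node (.node (.leaf 29721999550)
 (.leaf 27843467421))
 (.leaf 8456020018))))
 (.node (.node (.node (.node (.leaf 3105977405)
 (.leaf 11976137897))
 (.leaf 36923531888))
 (.node (.node (.leaf 5568348860)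
 (.leaf 37458048167))
 (.leaf 39393199771)))
 (.node (.node (.node (.leaf 29308493869)
 (.leaf 28872433407))
 (.leaf 4891665991))
 (.node (.node (.leaf 37208998569)
 (.leaf 28116115516))
 (.leaf 35193762356)))))
 (.node (.node (.node (.node (.node (.leaf 14123674792)
 (.leaf 30342913263))
 (.leaf 14292511988))
 (.node (.node (.leaf 24848893502)
 (.leaf 19341003893))
 (.leaf 4093915198)))
 (.node (.node (.node (.leaf 6874330873)
 (.leaf 10480297607))
 (.leaf 16777314359))
 (.node (.node (.leaf 10214817341)
 (.leaf 19102762044))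
 (.leaf 19746362503))))
 (.node (.node (.node (.node (.leaf 23145370814)
 (.leaf 6873799422))
 (.leaf 19094898919))
 (.node (.node (.leaf 24309675249)
 (.leaf 24727531767))
 (.leaf 27009065096)))
 (.node (.node (.node (.leaf 5246390953)
 (.leaf 28062662911))
 (.leaf 15583452232))
 (.node (.node (.leaf 19077803241)
 (.leaf 24091646652))
 (.leaf 3368136237))))))
 (.node (.node (.node (.node (.node (.node (.leaf 11871544951)
 (.leaf 14397620924))
 (.leaf 18943322852))
 (.node (.node (.leaf 26471577712)
 (.leaf 26068918384))
 (.leaf 11713270972)))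
 (.node (.node (.node (.leaf 20688787102)
 (.leaf 16658477303))
 (.leaf 34419575414))
 (.node (.node (.leaf 40463615163)
 (.leaf 24897146536))
 (.leaf 35738232368))))
 (.node (.node (.node (.node (.leaf 421872700)
 (.leaf 20193308707))
 (.leaf 24354075366))
 (.node (.node (.leaf 20334263850)
 (.leaf 30534060711))
 (.leaf 11841893545)))
 (.node (.node (.node (.leaf 3776757435)
 (.leaf 28771722797))
 (.leaf 29458444920))
 (.node (.node (.leaf 34375546025)
 (.leaf 5166871100))
 (.leaf 29974906089)))))
 (.node (.node (.node (.node (.node (.leaf 27175295724)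
 (.leaf 17106832931))
 (.leaf 35464429223))
 (.node (.node (.leaf 24830903845)
 (.leaf 37080301798))
 (.leaf 27246494256)))
 (.node (.node (.node (.leaf 547433509)
 (.leaf 5164815932))
 (.leaf 26052495434))
 (.node (.node (.leaf 19394862844)
 (.leaf 26373619368))
 (.leaf 37510829680))))
 (.node (.node (.node (.node (.leaf 11140659754)
 (.leaf 38703793407))
 (.leaf 38985887933))
 (.node (.node (.leaf 26370747641)
 (.leaf 27393028252))
 (.leaf 23519417480)))
 (.node (.node (.node (.leaf 26769686563)
 (.leaf 7795745535))
 (.leaf 36148504300))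
 (.node (.leaf 21942808252)
 (.leaf 27038941865)))))))
 (.node (.node (.node (.node (.node (.node (.node (.leaf 15301399077)
 (.leaf 38265236481))
 (.leaf 21743397430))
 (.node (.node (.leaf 416814080)
 (.leaf 23286402748))
 (.leaf 38533220353)))
 (.node (.node (.node (.leaf 38262605558)
 (.leaf 18974261358))
 (.leaf 30755083932))
 (.node (.node (.leaf 10797863581)
 (.leaf 11437713153))
 (.leaf 41904643838))))
 (.node (.node (.node (.node (.leaf 14157764854)
 (.leaf 7132538601))
 (.leaf 18685140719))
 (.node (.node (.leaf 20680544803)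
 (.leaf 21620090622))
 (.leaf 26725071945)))
 (.node (.node (.node (.leaf 39340371510)
 (.leaf 2578764542))
 (.leaf 4313644094))
 (.node (.node (.leaf 23787523751)
 (.leaf 11961250473))
 (.leaf 19075294343)))))
 (.node (.node (.node (.node (.node (.leaf 8873969322)
 (.leaf 16821360699))
 (.leaf 36034877687))
 (.node (.node (.leaf 13706496138)
 (.leaf 13348152355))
 (.leaf 41916599553)))
 (.node (.node (.node (.leaf 28116830366)
 (.leaf 13182286011))
 (.leaf 16662252188))
 (.node (.node (.leaf 8522618410)
 (.leaf 2564569600))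
 (.leaf 11440009463))))
 (.node (.node (.node (.node (.leaf 3690014250)
 (.leaf 40281417980))
 (.leaf 35176093436))
 (.node (.node (.leaf 16307087103)
 (.leaf 35984650314))
 (.leaf 32253227690)))
 (.node (.node (.node (.leaf 40145669686)
 (.leaf 29930654772))
 (.leaf 14375491645))
 (.node (.leaf 23503667880)
 (.leaf 26611067111))))))
 (.node (.node (.node (.node (.node (.node (.leaf 15366248692)
 (.leaf 13622150256))
 (.leaf 31859149896))
 (.node (.node (.leaf 29812434156)
 (.leaf 20465945735))
 (.leaf 41111892710)))
 (.node (.node (.node (.leaf 16806198971)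
 (.leaf 26069706861))
 (.leaf 24577842940))
 (.node (.node (.leaf 29300514543)
 (.leaf 5565726909))
 (.leaf 20682264577))))
 (.node (.node (.node (.node (.leaf 22075715771)
 (.leaf 2166470717))
 (.leaf 40012695607))
 (.node (.node (.leaf 29681609446)
 (.leaf 39624985652))
 (.leaf 23012463293)))
 (.node (.node (.node (.leaf 7800434855)
 (.leaf 36537939697))
 (.leaf 30075263225))
 (.node (.node (.leaf 33729549385)
 (.leaf 35498353799))
 (.leaf 12947710620)))))
 (.node (.node (.node (.node (.node (.leaf 15471282929)
 (.leaf 13734618669))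
 (.leaf 10131236086))
 (.node (.node (.leaf 16509363237)
 (.leaf 13298846877))
 (.leaf 10751641147)))
 (.node (.node (.node (.leaf 28384803960)
 (.leaf 3818664568))
 (.leaf 3786985659))
 (.node (.node (.leaf 17179968569)
 (.leaf 13572015753))
 (.leaf 37044167225))))
 (.node (.node (.node (.node (.leaf 39906548381)
 (.leaf 42039117039))
 (.leaf 16574854205))
 (.node (.node (.leaf 17731224636)
 (.leaf 3824713770))
 (.leaf 13605318704)))
 (.node (.node (.node (.leaf 29272057901)
 (.leaf 38386943489))
 (.leaf 9127112237))
 (.node (.leaf 1090034823)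
 (.leaf 38447452841))))))))
 (.node (.node (.node (.node (.node (.node (.node (.node (.leaf 12094148167)
 (.leaf 9435958017))
 (.leaf 13437854345))
 (.node (.node (.leaf 16441567486)
 (.leaf 23101040296))
 (.leaf 38019896049)))
 (.node (.node (.node (.leaf 28333057579)
 (.leaf 13690587693))
 (.leaf 37219221577))
 (.node (.node (.leaf 16692114676)
 (.leaf 38958645437))
 (.leaf 24758461514))))
 (.node (.node (.node (.node (.leaf 40399953922)
 (.leaf 31585081387))
 (.leaf 23372800189))
 (.node (.node (.leaf 36518500402)
 (.leaf 38136858678))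
 (.leaf 3928557687)))
 (.node (.node (.node (.leaf 26319391370)
 (.leaf 37197821678))
 (.leaf 10766312125))
 (.node (.node (.leaf 4429463552)
 (.leaf 25655137846))
 (.leaf 3131576379)))))
 (.node (.node (.node (.node (.node (.leaf 23488193025)
 (.leaf 24696648739))
 (.leaf 23283733544))
 (.node (.node (.leaf 28349141249)
 (.leaf 36920895230))
 (.leaf 26728821302)))
 (.node (.node (.node (.leaf 41623861303)
 (.leaf 29272579115))
 (.leaf 39630439612))
 (.node (.node (.leaf 15484674183)
 (.leaf 36819839538))
 (.leaf 10480015612))))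
 (.node (.node (.node (.node (.leaf 23366543873)
 (.leaf 4896738439))
 (.leaf 27265338526))
 (.node (.node (.leaf 18955741924)
 (.leaf 28100561663))
 (.leaf 24066526319)))
 (.node (.node (.node (.leaf 25008853750)
 (.leaf 37609903343))
 (.leaf 15569571883))
 (.node (.node (.leaf 30396496446)
 (.leaf 23420883131))
 (.leaf 40284599863))))))
 (.node (.node (.node (.node (.node (.node (.leaf 23921479848)
 (.leaf 10534339144))
 (.leaf 27429514862))
 (.node (.node (.leaf 21524484168)
 (.leaf 27526536859))
 (.leaf 27399629980)))
 (.node (.node (.node (.leaf 36436226796)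
 (.leaf 42173605945))
 (.leaf 41809147132))
 (.node (.node (.leaf 15227178569)
 (.leaf 37379519144))
 (.leaf 2465770546))))
 (.node (.node (.node (.node (.leaf 18718288113)
 (.leaf 35046629118))
 (.leaf 36928850169))
 (.node (.node (.leaf 37331549238)
 (.leaf 11739486398))
 (.leaf 18985394918)))
 (.node (.node (.node (.leaf 869872168)
 (.leaf 6357382399))
 (.leaf 17778716790))
 (.node (.node (.leaf 3636508348)
 (.leaf 27155841260))
 (.leaf 24732352631)))))
 (.node (.node (.node (.node (.node (.leaf 21625050696)
 (.leaf 25680043241))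
 (.leaf 12914059422))
 (.node (.node (.leaf 30478051574)
 (.leaf 17997128859))
 (.leaf 37878337279)))
 (.node (.node (.node (.leaf 28380608632)
 (.leaf 8902680621))
 (.leaf 10097582838))
 (.node (.node (.leaf 38044308617)
 (.leaf 23368893559))
 (.leaf 23229380136))))
 (.node (.node (.node (.node (.leaf 37465504311)
 (.leaf 17866846775))
 (.leaf 20719381128))
 (.node (.node (.leaf 31138626617)
 (.leaf 24574966462))
 (.leaf 25700397738)))
 (.node (.node (.node (.leaf 14556226790)
 (.leaf 13721749735))
 (.leaf 10890624189))
 (.node (.leaf 40411445435)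
 (.leaf 5296943690)))))))
 (.node (.node (.node (.node (.node (.node (.node (.leaf 39475112500)
 (.leaf 40869109502))
 (.leaf 4161028608))
 (.node (.node (.leaf 4176531111)
 (.leaf 3921235063))
 (.leaf 11202611355)))
 (.node (.node (.node (.leaf 15449496135)
 (.leaf 21640615047))
 (.leaf 41940776182))
 (.node (.node (.leaf 26750888009)
 (.leaf 24745182463))
 (.leaf 732210211))))
 (.node (.node (.node (.node (.leaf 21355109959)
 (.leaf 31425982006))
 (.leaf 26347846218))
 (.node (.node (.leaf 34908435593)
 (.leaf 30084246685))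
 (.leaf 11945973288)))
 (.node (.node (.node (.leaf 7124138230)
 (.leaf 36169985135))
 (.leaf 26456650919))
 (.node (.node (.leaf 28205124253)
 (.leaf 23501826672))
 (.leaf 2715946605)))))
 (.node (.node (.node (.node (.node (.leaf 27176010792)
 (.leaf 21778819831))
 (.leaf 15618562120))
 (.node (.node (.leaf 34896673846)
 (.leaf 12682687624))
 (.leaf 24708000425)))
 (.node (.node (.node (.leaf 3539605042)
 (.leaf 32945257609))
 (.leaf 29571719934))
 (.node (.node (.leaf 36573324033)
 (.leaf 28350981356))
 (.leaf 17593035510))))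
 (.node (.node (.node (.node (.leaf 16707626231)
 (.leaf 32946605118))
 (.leaf 27578701981))
 (.node (.node (.leaf 19528165997)
 (.leaf 37074779760))
 (.leaf 13182493433)))
 (.node (.node (.node (.leaf 41917413113)
 (.leaf 26709925411))
 (.leaf 27697911540))
 (.node (.leaf 1621147385)
 (.leaf 2057837616))))))
 (.node (.node (.node (.node (.node (.node (.leaf 41657416932)
 (.leaf 41760443124))
 (.leaf 8858671661))
 (.node (.node (.leaf 2591140400)
 (.leaf 21918163182))
 (.leaf 34395456631)))
 (.node (.node (.node (.leaf 40563260468)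
 (.leaf 28101097711))
 (.leaf 21352574601))
 (.node (.node (.leaf 24995736822)
 (.leaf 4196676669))
 (.leaf 17376850670))))
 (.node (.node (.node (.node (.leaf 4574503459)
 (.leaf 30785690862))
 (.leaf 12144944680))
 (.node (.node (.leaf 40443417836)
 (.leaf 9041699465))
 (.leaf 35999741172)))
 (.node (.node (.node (.leaf 2997390454)
 (.leaf 8773797103))
 (.leaf 16558158585))
 (.node (.node (.leaf 37744032375)
 (.leaf 17915818555))
 (.leaf 39638901916)))))
 (.node (.node (.node (.node (.node (.leaf 23688468522)
 (.leaf 14558057115))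
 (.leaf 39778059503))
 (.node (.node (.leaf 36257703657)
 (.leaf 6318855415))
 (.leaf 4026808320)))
 (.node (.node (.node (.leaf 23280749091)
 (.leaf 37073074233))
 (.leaf 29442810925))
 (.node (.node (.leaf 15583717436)
 (.leaf 14428159530))
 (.leaf 20196771997))))
 (.node (.node (.node (.node (.leaf 37377926255)
 (.leaf 11964816110))
 (.leaf 25814522596))
 (.node (.node (.leaf 26874245289)
 (.leaf 25819158088))
 (.leaf 37239006793)))
 (.node (.node (.node (.leaf 21896114750)
 (.leaf 16553350262))
 (.leaf 5161365109))
 (.node (.leaf 15215984377)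
 (.leaf 16403209982)))))))))
 (.node (.node (.node (.node (.node (.node (.node (.node (.node (.leaf 41357823031)
 (.leaf 2344891966))
 (.leaf 11439761544))
 (.node (.node (.leaf 13163870969)
 (.leaf 31845896240))
 (.leaf 40142486717)))
 (.node (.node (.node (.leaf 9457745598)
 (.leaf 14267843658))
 (.leaf 1118329915))
 (.node (.node (.leaf 35339946241)
 (.leaf 39341411894))
 (.leaf 14021182142))))
 (.node (.node (.node (.node (.leaf 21403281006)
 (.leaf 24189869168))
 (.leaf 30467559991))
 (.node (.node (.leaf 40683566335)
 (.leaf 7795248372))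
 (.leaf 41119965945)))
 (.node (.node (.node (.leaf 40274648578)
 (.leaf 1922874411))
 (.leaf 1624770048))
 (.node (.node (.leaf 24859144381)
 (.leaf 24056495668))
 (.leaf 38670794294)))))
 (.node (.node (.node (.node (.node (.leaf 3265531452)
 (.leaf 29944823869))
 (.leaf 14530911806))
 (.node (.node (.leaf 12227557496)
 (.leaf 29290424044))
 (.leaf 39863336449)))
 (.node (.node (.node (.leaf 31425577022)
 (.leaf 34937300718))
 (.leaf 29136417282))
 (.node (.node (.leaf 3538952752)
 (.leaf 34912225334))
 (.leaf 38690993852))))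
 (.node (.node (.node (.node (.leaf 12410581743)
 (.leaf 39473206785))
 (.leaf 11458463368))
 (.node (.node (.leaf 16978381354)
 (.leaf 20401172993))
 (.leaf 17644981403)))
 (.node (.node (.node (.leaf 37465634877)
 (.leaf 2965512237))
 (.leaf 19461655097))
 (.node (.node (.leaf 40175203071)
 (.leaf 36302892656))
 (.leaf 15341460554))))))
 (.node (.node (.node (.node (.node (.node (.leaf 27530891399)
 (.leaf 556352059))
 (.leaf 22315596862))
 (.node (.node (.leaf 4594380458)
 (.leaf 16418423550))
 (.leaf 32924523750)))
 (.node (.node (.node (.leaf 27174480111)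
 (.leaf 7144322281))
 (.leaf 8877871854))
 (.node (.node (.leaf 40949094556)
 (.leaf 11422276720))
 (.leaf 2480448631))))
 (.node (.node (.node (.node (.leaf 21913469048)
 (.leaf 3148088949))
 (.leaf 26208183030))
 (.node (.node (.leaf 17061779196)
 (.leaf 22970440348))
 (.leaf 16661967037)))
 (.node (.node (.node (.leaf 42072642799)
 (.leaf 10644495915))
 (.leaf 25644885737))
 (.node (.node (.leaf 2728187452)
 (.leaf 23416602813))
 (.leaf 2713244927)))))
 (.node (.node (.node (.node (.node (.leaf 4201465930)
 (.leaf 29541643896))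
 (.leaf 17649480251))
 (.node (.node (.leaf 21754311935)
 (.leaf 9444798507))
 (.leaf 37487730288)))
 (.node (.node (.node (.leaf 20308354216)
 (.leaf 8470711407))
 (.leaf 28638337764))
 (.node (.node (.leaf 1537610312)
 (.leaf 24226127035))
 (.leaf 5165078587))))
 (.node (.node (.node (.node (.leaf 33704905287)
 (.leaf 3370392576))
 (.leaf 14103920382))
 (.node (.node (.leaf 25915153150)
 (.leaf 5567422071))
 (.leaf 5950303460)))
 (.node (.node (.node (.leaf 36383647746)
 (.leaf 7797802654))
 (.leaf 20700349609))
 (.node (.leaf 42038881844)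
 (.leaf 42189073124)))))))
 (.node (.node (.node (.node (.node (.node (.node (.leaf 40275128322)
 (.leaf 33749303881))
 (.leaf 16687146101))
 (.node (.node (.leaf 35205693551)
 (.leaf 32656176171))
 (.leaf 19342928127)))
 (.node (.node (.node (.leaf 36274185771)
 (.leaf 37207234237))
 (.leaf 40708890351))
 (.node (.node (.leaf 29691219102)
 (.leaf 12779570363))
 (.leaf 20450460781))))
 (.node (.node (.node (.node (.leaf 7526793975)
 (.leaf 38266361911))
 (.leaf 6855724793))
 (.node (.node (.leaf 26237840116)
 (.leaf 35059541758))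
 (.leaf 38807612094)))
 (.node (.node (.node (.leaf 4438973992)
 (.leaf 39660353692))
 (.leaf 27514954290))
 (.node (.node (.leaf 40280410164)
 (.leaf 18856621192))
 (.leaf 11323700333)))))
 (.node (.node (.node (.node (.node (.leaf 4444957353)
 (.leaf 21644864758))
 (.leaf 10750040220))
 (.node (.node (.leaf 24628799230)
 (.leaf 32276299335))
 (.leaf 28637529332)))
 (.node (.node (.node (.leaf 38939489335)
 (.leaf 11289790199))
 (.leaf 13355083516))
 (.node (.node (.leaf 2026902528)
 (.leaf 821399624))
 (.leaf 13596771497))))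
 (.node (.node (.node (.node (.leaf 38129258497)
 (.leaf 3404473389))
 (.leaf 2077768311))
 (.node (.node (.leaf 23791962813)
 (.leaf 38314016935))
 (.leaf 36938725563)))
 (.node (.node (.node (.leaf 24443226792)
 (.leaf 15499559976))
 (.leaf 16290163783))
 (.node (.leaf 21938627261)
 (.leaf 13755526255))))))
 (.node (.node (.node (.node (.node (.node (.leaf 40032593086)
 (.leaf 2483381871))
 (.leaf 21809391752))
 (.node (.node (.leaf 9276012663)
 (.leaf 5294405802))
 (.leaf 34777366638)))
 (.node (.node (.node (.leaf 20177272988)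
 (.leaf 3956836983))
 (.leaf 37600216303))
 (.node (.node (.leaf 39391174814)
 (.leaf 26771212425))
 (.leaf 3668224060))))
 (.node (.node (.node (.node (.leaf 23555561002)
 (.leaf 12635638942))
 (.leaf 40577897201))
 (.node (.node (.leaf 12679200366)
 (.leaf 11303688348))
 (.leaf 9325531767)))
 (.node (.node (.node (.leaf 432080501)
 (.leaf 15598165231))
 (.leaf 11024580286))
 (.node (.node (.leaf 4843708553)
 (.leaf 19595873332))
 (.leaf 2838035003)))))
 (.node (.node (.node (.node (.node (.leaf 21350434545)
 (.leaf 30534338107))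
 (.leaf 29187184369))
 (.node (.node (.leaf 38283581063)
 (.leaf 27932264054))
 (.leaf 17618746598)))
 (.node (.node (.node (.leaf 11830069949)
 (.leaf 29407863357))
 (.leaf 15216446002))
 (.node (.node (.leaf 4357445157)
 (.leaf 32676841590))
 (.leaf 10530998921))))
 (.node (.node (.node (.node (.leaf 24894399737)
 (.leaf 41254503663))
 (.leaf 39207919751))
 (.node (.node (.leaf 38789593601)
 (.leaf 35634401389))
 (.leaf 13840187047)))
 (.node (.node (.node (.leaf 37106008743)
 (.leaf 9302500914))
 (.leaf 21671846510))
 (.node (.leaf 8925102780)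
 (.leaf 16436562057))))))))
 (.node (.node (.node (.node (.node (.node (.node (.node (.leaf 19462158373)
 (.leaf 19931687466))
 (.leaf 16576218779))
 (.node (.node (.leaf 14026109502)
 (.leaf 17880390300))
 (.leaf 24494215210)))
 (.node (.node (.node (.leaf 19873400874)
 (.leaf 29943200956))
 (.leaf 32212624429))
 (.node (.node (.leaf 2197087275)
 (.leaf 18716839070))
 (.leaf 35732677289))))
 (.node (.node (.node (.node (.leaf 36001923831)
 (.leaf 40013284407))
 (.leaf 27411221556))
 (.node (.node (.leaf 3556510779)
 (.leaf 11015593199))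
 (.leaf 37890835055)))
 (.node (.node (.node (.leaf 41890233911)
 (.leaf 10618253430))
 (.leaf 3802703419))
 (.node (.node (.leaf 7145072263)
 (.leaf 31188082415))
 (.leaf 37750625527)))))
 (.node (.node (.node (.node (.node (.leaf 38315291274)
 (.leaf 15301131307))
 (.leaf 19224457354))
 (.node (.node (.leaf 39220217908)
 (.leaf 23129786011))
 (.leaf 14019243640)))
 (.node (.node (.node (.leaf 36301269231)
 (.leaf 13466451574))
 (.leaf 12255120102))
 (.node (.node (.leaf 34376021233)
 (.leaf 19212015865))
 (.leaf 2868134472))))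
 (.node (.node (.node (.node (.leaf 40462779116)
 (.leaf 7126220458))
 (.leaf 14421205737))
 (.node (.node (.leaf 26368542245)
 (.leaf 36258344166))
 (.leaf 28735188013)))
 (.node (.node (.node (.leaf 37460521072)
 (.leaf 29538532086))
 (.leaf 30114683442))
 (.node (.node (.leaf 30114160377)
 (.leaf 20327316106))
 (.leaf 39388204187))))))
 (.node (.node (.node (.node (.node (.node (.leaf 19228592897)
 (.leaf 38561182889))
 (.leaf 13973170750))
 (.node (.node (.leaf 24225392240)
 (.leaf 28617790708))
 (.leaf 28070980251)))
 (.node (.node (.node (.leaf 17752701671)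
 (.leaf 16305240234))
 (.leaf 19124991530))
 (.node (.node (.leaf 39356880441)
 (.leaf 6621129449))
 (.leaf 37616358955))))
 (.node (.node (.node (.node (.leaf 40410702850)
 (.leaf 42075033735))
 (.leaf 17239740451))
 (.node (.node (.leaf 39206151734)
 (.leaf 28870550645))
 (.leaf 19123748487)))
 (.node (.node (.node (.leaf 3664634991)
 (.leaf 1625566720))
 (.leaf 17780738717))
 (.node (.node (.leaf 1536704074)
 (.leaf 3802146363))
 (.leaf 35329950832)))))
 (.node (.node (.node (.node (.node (.leaf 36267693807)
 (.leaf 31180042489))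
 (.leaf 29156336356))
 (.node (.node (.leaf 36702044902)
 (.leaf 39073439368))
 (.leaf 19615075996)))
 (.node (.node (.node (.leaf 9056687865)
 (.leaf 2971710697))
 (.leaf 19480493817))
 (.node (.node (.leaf 28369088557)
 (.leaf 2429561856))
 (.leaf 8456283690))))
 (.node (.node (.node (.node (.leaf 34912354377)
 (.leaf 4892205706))
 (.leaf 3396635691))
 (.node (.node (.leaf 20195054629)
 (.leaf 39606171649))
 (.leaf 26872683265)))
 (.node (.node (.node (.leaf 12492853497)
 (.leaf 38963909801))
 (.leaf 41271492863))
 (.node (.leaf 41751549442)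
 (.leaf 28082572857)))))))
 (.node (.node (.node (.node (.node (.node (.node (.leaf 29007323905)
 (.leaf 26307233829))
 (.leaf 10612498665))
 (.node (.node (.leaf 33986455669)
 (.leaf 34628569643))
 (.leaf 29032034864)))
 (.node (.node (.node (.leaf 36006276141)
 (.leaf 2837230308))
 (.leaf 36836838116))
 (.node (.node (.leaf 37594628720)
 (.leaf 38695662250))
 (.leaf 36507360258))))
 (.node (.node (.node (.node (.leaf 29706234014)
 (.leaf 13167580733))
 (.leaf 23394648233))
 (.node (.node (.leaf 36682084909)
 (.leaf 29422874881))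
 (.leaf 26641234986)))
 (.node (.node (.node (.leaf 22011828791)
 (.leaf 34938045513))
 (.leaf 38436184200))
 (.node (.node (.leaf 32883746352)
 (.leaf 2563776000))
 (.leaf 31585295006)))))
 (.node (.node (.node (.node (.node (.leaf 38584544443)
 (.leaf 41071047170))
 (.leaf 35608652015))
 (.node (.node (.leaf 39898112701)
 (.leaf 23926443198))
 (.leaf 41405214977)))
 (.node (.node (.node (.leaf 27295494192)
 (.leaf 28369865454))
 (.leaf 9146054300))
 (.node (.node (.leaf 41488367156)
 (.leaf 17863697052))
 (.leaf 6188485193))))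
 (.node (.node (.node (.node (.leaf 35447960135)
 (.leaf 3687110718))
 (.leaf 4613235271))
 (.node (.node (.leaf 30393566327)
 (.leaf 26100137639))
 (.leaf 25935563828)))
 (.node (.node (.node (.leaf 28602909758)
 (.leaf 38281232441))
 (.leaf 35464222449))
 (.node (.leaf 2042232951)
 (.leaf 1222919168))))))
 (.node (.node (.node (.node (.node (.node (.leaf 17464696049)
 (.leaf 15600255724))
 (.leaf 10244456566))
 (.node (.node (.leaf 11974010606)
 (.leaf 36252558960))
 (.leaf 28753942774)))
 (.node (.node (.node (.leaf 20548510209)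
 (.leaf 12111095431))
 (.leaf 36677776614))
 (.node (.node (.leaf 14287779465)
 (.leaf 32646482484))
 (.leaf 18672271944))))
 (.node (.node (.node (.node (.leaf 18718793455)
 (.leaf 14401964077))
 (.leaf 19895565448))
 (.node (.node (.leaf 1626971719)
 (.leaf 9033493040))
 (.leaf 19908593724)))
 (.node (.node (.node (.leaf 22951320065)
 (.leaf 11419016951))
 (.leaf 27525213942))
 (.node (.node (.leaf 30211601596)
 (.leaf 33617129661))
 (.leaf 3234873344)))))
 (.node (.node (.node (.node (.node (.leaf 4578913450)
 (.leaf 29324059196))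
 (.leaf 16972149990))
 (.node (.node (.leaf 36925358248)
 (.leaf 13704501322))
 (.leaf 40180493561)))
 (.node (.node (.node (.leaf 8604930670)
 (.leaf 12766551806))
 (.leaf 19243075143))
 (.node (.node (.leaf 39058034177)
 (.leaf 11175869174))
 (.leaf 31541571627))))
 (.node (.node (.node (.node (.leaf 31407081526)
 (.leaf 38852120232))
 (.leaf 16289777290))
 (.node (.node (.leaf 29422533821)
 (.leaf 41106933990))
 (.leaf 40951495732)))
 (.node (.node (.node (.leaf 22343428670)
 (.leaf 17343016123))
 (.leaf 26347450442))
 (.node (.leaf 37348487916)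
 (.leaf 5564101309)))))))))))
 (.node (.node (.node (.node (.node (.node (.node (.node (.node (.node (.node (.leaf 41375295217)
 (.leaf 13600185585))
 (.leaf 1270650405))
 (.node (.node (.leaf 37860419839)
 (.leaf 27558489245))
 (.leaf 11025023727)))
 (.node (.node (.node (.leaf 30260107453)
 (.leaf 37511275177))
 (.leaf 10364180124))
 (.node (.node (.leaf 36249380354)
 (.leaf 35299328057))
 (.leaf 35340172912))))
 (.node (.node (.node (.node (.leaf 32231405116)
 (.leaf 40415942711))
 (.leaf 37056703146))
 (.node (.node (.leaf 11337090716)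
 (.leaf 3153089085))
 (.leaf 29273989180)))
 (.node (.node (.node (.leaf 38550008372)
 (.leaf 31552288513))
 (.leaf 11155835126))
 (.node (.node (.leaf 28782405353)
 (.leaf 26342690023))
 (.leaf 2024316156)))))
 (.node (.node (.node (.node (.node (.leaf 29840452725)
 (.leaf 24711037559))
 (.leaf 37599939817))
 (.node (.node (.leaf 4627949096)
 (.leaf 32248581820))
 (.leaf 417604096)))
 (.node (.node (.node (.leaf 21484040420)
 (.leaf 1222389248))
 (.leaf 35363883144))
 (.node (.node (.leaf 12367508125)
 (.leaf 12635917030))
 (.leaf 41349700098))))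
 (.node (.node (.node (.node (.leaf 422092443)
 (.leaf 21504033849))
 (.leaf 40817282100))
 (.node (.node (.leaf 28598232066)
 (.leaf 1208225792))
 (.leaf 23233364600)))
 (.node (.node (.node (.leaf 9327747327)
 (.leaf 37914291370))
 (.leaf 33295286503))
 (.node (.node (.leaf 29185844966)
 (.leaf 27440316534))
 (.leaf 1651783792))))))
 (.node (.node (.node (.node (.node (.node (.leaf 14243121289)
 (.leaf 25953114734))
 (.leaf 29995164791))
 (.node (.node (.leaf 17090322038)
 (.leaf 33317608167))
 (.leaf 34798449709)))
 (.node (.node (.node (.leaf 2885490235)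
 (.leaf 21803180103))
 (.leaf 11603377737))
 (.node (.node (.leaf 41382975230)
 (.leaf 9052376182))
 (.leaf 11677331501))))
 (.node (.node (.node (.node (.leaf 20176485021)
 (.leaf 41400959729))
 (.leaf 38414994484))
 (.node (.node (.leaf 17325361821)
 (.leaf 30377779760))
 (.leaf 12108490991)))
 (.node (.node (.node (.leaf 14495828528)
 (.leaf 9176179850))
 (.leaf 19661202164))
 (.node (.node (.leaf 4845512813)
 (.leaf 18016247532))
 (.leaf 27313056315)))))
 (.node (.node (.node (.node (.node (.leaf 26191179508)
 (.leaf 15211065590))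
 (.leaf 23821172393))
 (.node (.node (.leaf 16240656429)
 (.leaf 27176471592))
 (.leaf 28051597369)))
 (.node (.node (.node (.leaf 815081512)
 (.leaf 10900548797))
 (.leaf 12631491182))
 (.node (.node (.leaf 10772956349)
 (.leaf 21369730166))
 (.leaf 25971398255))))
 (.node (.node (.node (.node (.leaf 19327912995)
 (.leaf 2447423719))
 (.leaf 29590443198))
 (.node (.node (.leaf 19662646382)
 (.leaf 15495437981))
 (.leaf 19497264886)))
 (.node (.node (.node (.leaf 34006445194)
 (.leaf 11150601974))
 (.leaf 28922139892))
 (.node (.leaf 42051622631)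
 (.leaf 30074046695)))))))
 (.node (.node (.node (.node (.node (.node (.node (.leaf 10080861246)
 (.leaf 23098178561))
 (.leaf 20451001453))
 (.node (.node (.leaf 15466628743)
 (.leaf 949301800))
 (.leaf 10488218863)))
 (.node (.node (.node (.leaf 12366693563)
 (.leaf 834453662))
 (.leaf 5516599928))
 (.node (.node (.leaf 41218625593)
 (.leaf 26903391267))
 (.leaf 2431521354))))
 (.node (.node (.node (.node (.leaf 29860450491)
 (.leaf 30467801138))
 (.leaf 15605239020))
 (.node (.node (.leaf 33349221002)
 (.leaf 31148355823))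
 (.leaf 22296243964)))
 (.node (.node (.node (.leaf 38536839223)
 (.leaf 8894621884))
 (.leaf 13029653748))
 (.node (.node (.leaf 16269254911)
 (.leaf 2430341120))
 (.leaf 15634039336)))))
 (.node (.node (.node (.node (.node (.leaf 19222561437)
 (.leaf 17745395252))
 (.leaf 39509427850))
 (.node (.node (.leaf 29137053232)
 (.leaf 3115722872))
 (.leaf 33972970742)))
 (.node (.node (.node (.leaf 26635033833)
 (.leaf 37645019760))
 (.leaf 36153701933))
 (.node (.node (.leaf 26904165923)
 (.leaf 39241257095))
 (.leaf 29057140993))))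
 (.node (.node (.node (.node (.leaf 38146827321)
 (.leaf 4068076105))
 (.leaf 24040848553))
 (.node (.node (.leaf 26635541223)
 (.leaf 25000525373))
 (.leaf 13213784807)))
 (.node (.node (.node (.leaf 27123059964)
 (.leaf 40296630006))
 (.leaf 17510806767))
 (.node (.leaf 1939395658)
 (.leaf 10384193674))))))
 (.node (.node (.node (.node (.node (.node (.leaf 10126250174)
 (.leaf 38584995497))
 (.leaf 14245726452))
 (.node (.node (.leaf 23389847227)
 (.leaf 16284468479))
 (.leaf 35196245102)))
 (.node (.node (.node (.leaf 40028497972)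
 (.leaf 36974505641))
 (.leaf 38153852140))
 (.node (.node (.leaf 3825543210)
 (.leaf 33992760566))
 (.leaf 954479104))))
 (.node (.node (.node (.node (.leaf 26503417965)
 (.leaf 40946266114))
 (.leaf 10632076527))
 (.node (.node (.leaf 19892827324)
 (.leaf 41618910887))
 (.leaf 40180145919)))
 (.node (.node (.node (.leaf 12900507903)
 (.leaf 35702233136))
 (.leaf 35720669924))
 (.node (.node (.leaf 30777282671)
 (.leaf 27794940571))
 (.leaf 27131124975)))))
 (.node (.node (.node (.node (.node (.leaf 16974726206)
 (.leaf 36414173227))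
 (.leaf 4335945289))
 (.node (.node (.leaf 29000868354)
 (.leaf 42163119332))
 (.leaf 23372581563)))
 (.node (.node (.node (.leaf 690535069)
 (.leaf 39504631452))
 (.leaf 13974746348))
 (.node (.node (.leaf 26591512711)
 (.leaf 39609760822))
 (.leaf 26047965935))))
 (.node (.node (.node (.node (.leaf 35608871498)
 (.leaf 20410273322))
 (.leaf 16930573884))
 (.node (.node (.leaf 27391573758)
 (.leaf 40466497723))
 (.leaf 5247177898)))
 (.node (.node (.node (.leaf 14524717723)
 (.leaf 19658273317))
 (.leaf 29572260598))
 (.node (.leaf 3633667112)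
 (.leaf 25945010761))))))))
 (.node (.node (.node (.node (.node (.node (.node (.node (.leaf 15497829102)
 (.leaf 17110253687))
 (.leaf 40011984436))
 (.node (.node (.leaf 26501586150)
 (.leaf 12359848635))
 (.leaf 39503904925)))
 (.node (.node (.node (.leaf 23151610922)
 (.leaf 38293091498))
 (.leaf 11036832938))
 (.node (.node (.leaf 15329510590)
 (.leaf 30745701102))
 (.leaf 37353250927))))
 (.node (.node (.node (.node (.leaf 36569134321)
 (.leaf 31874419259))
 (.leaf 20463838245))
 (.node (.node (.leaf 20598591626)
 (.leaf 28991168514))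
 (.leaf 4897121864)))
 (.node (.node (.node (.leaf 1639761145)
 (.leaf 37734432999))
 (.leaf 682411677))
 (.node (.node (.leaf 27112564264)
 (.leaf 37624855083))
 (.leaf 10488419995)))))
 (.node (.node (.node (.node (.node (.leaf 4563680768)
 (.leaf 1495061748))
 (.leaf 1879582720))
 (.node (.node (.leaf 16930054718)
 (.leaf 38987769513))
 (.leaf 37581285419)))
 (.node (.node (.node (.leaf 27040524014)
 (.leaf 30508971058))
 (.leaf 18004132918))
 (.node (.node (.leaf 3952946211)
 (.leaf 24622211107))
 (.leaf 41267299567))))
 (.node (.node (.node (.node (.leaf 28473341167)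
 (.leaf 32678128296))
 (.leaf 27668252731))
 (.node (.node (.leaf 28330581506)
 (.leaf 11608099951))
 (.leaf 30498250481)))
 (.node (.node (.node (.leaf 30400167099)
 (.leaf 29394006573))
 (.leaf 12411363564))
 (.node (.node (.leaf 29859103421)
 (.leaf 36794938087))
 (.leaf 12249768568))))))
 (.node (.node (.node (.node (.node (.node (.leaf 35340508784)
 (.leaf 36123863783))
 (.leaf 3148937789))
 (.node (.node (.leaf 19766041275)
 (.leaf 17728168093))
 (.leaf 2196556845)))
 (.node (.node (.node (.leaf 6864592029)
 (.leaf 28200200252))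
 (.leaf 33304725047))
 (.node (.node (.leaf 38167701640)
 (.leaf 20331465352))
 (.leaf 23554759210))))
 (.node (.node (.node (.node (.leaf 28888102134)
 (.leaf 20315980398))
 (.leaf 33599019236))
 (.node (.node (.leaf 27662588533)
 (.leaf 9008713865))
 (.leaf 7813587199)))
 (.node (.node (.node (.leaf 41617348098)
 (.leaf 6876688615))
 (.leaf 2599174254))
 (.node (.node (.leaf 20546327587)
 (.leaf 33569928447))
 (.leaf 15195551421)))))
 (.node (.node (.node (.node (.node (.leaf 4579214921)
 (.leaf 10804333115))
 (.leaf 31853403390))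
 (.node (.node (.leaf 20417391751)
 (.leaf 4360250479))
 (.leaf 21944159420)))
 (.node (.node (.node (.leaf 834748533)
 (.leaf 27261166198))
 (.leaf 28632161323))
 (.node (.node (.leaf 22339995838)
 (.leaf 26087595117))
 (.leaf 27546169991))))
 (.node (.node (.node (.node (.leaf 15231463158)
 (.leaf 17851089975))
 (.leaf 38923811841))
 (.node (.node (.leaf 10485268103)
 (.leaf 37751127783))
 (.leaf 38453208232)))
 (.node (.node (.node (.leaf 24037639868)
 (.leaf 37622472360))
 (.leaf 2444869239))
 (.node (.leaf 971063405)
 (.leaf 42026030135)))))))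
 (.node (.node (.node (.node (.node (.node (.node (.leaf 14545480932)
 (.leaf 22052440138))
 (.leaf 11424844545))
 (.node (.node (.leaf 35449020671)
 (.leaf 11449451632))
 (.leaf 28251900572)))
 (.node (.node (.node (.leaf 16924083388)
 (.leaf 35183801588))
 (.leaf 10912584265))
 (.node (.node (.leaf 9276556543)
 (.leaf 36704226414))
 (.leaf 17215924344))))
 (.node (.node (.node (.node (.leaf 20009454627)
 (.leaf 19108335725))
 (.leaf 29959403127))
 (.node (.node (.leaf 29460381372)
 (.leaf 11424540808))
 (.leaf 38048398983)))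
 (.node (.node (.node (.leaf 29662412843)
 (.leaf 11738892349))
 (.leaf 15632594156))
 (.node (.node (.leaf 23235160746)
 (.leaf 40549326390))
 (.leaf 16301460515)))))
 (.node (.node (.node (.node (.node (.leaf 20585201223)
 (.leaf 13303899274))
 (.leaf 39609328180))
 (.node (.node (.leaf 1123073096)
 (.leaf 3688673832))
 (.leaf 35628911176)))
 (.node (.node (.node (.leaf 27255382758)
 (.leaf 8907445805))
 (.leaf 3374702652))
 (.node (.node (.leaf 10128286757)
 (.leaf 35494166665))
 (.leaf 12226417340))))
 (.node (.node (.node (.node (.leaf 29153954030)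
 (.leaf 4361070122))
 (.leaf 22961732645))
 (.node (.node (.leaf 1491988554)
 (.leaf 34643648586))
 (.leaf 31169861177)))
 (.node (.node (.node (.leaf 28601496107)
 (.leaf 10498387196))
 (.leaf 30746451188))
 (.node (.leaf 35583180362)
 (.leaf 11070751402))))))
 (.node (.node (.node (.node (.node (.node (.leaf 18850261063)
 (.leaf 19073354812))
 (.leaf 39795881627))
 (.node (.node (.leaf 27698139208)
 (.leaf 40866260125))
 (.leaf 39625834036)))
 (.node (.node (.node (.leaf 29705904171)
 (.leaf 25965152937))
 (.leaf 7528087721))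
 (.node (.node (.leaf 21762303542)
 (.leaf 32664299262))
 (.leaf 13605161609))))
 (.node (.node (.node (.node (.leaf 28465440818)
 (.leaf 10354262766))
 (.leaf 23148202021))
 (.node (.node (.leaf 28637767728)
 (.leaf 17601732766))
 (.leaf 39522684060)))
 (.node (.node (.node (.leaf 39220739227)
 (.leaf 4458086007))
 (.leaf 14526511332))
 (.node (.node (.leaf 7547759351)
 (.leaf 31874957384))
 (.leaf 11305574024)))))
 (.node (.node (.node (.node (.node (.leaf 19256394378)
 (.leaf 40977586420))
 (.leaf 3371481324))
 (.node (.node (.leaf 35864758014)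
 (.leaf 11708247798))
 (.leaf 17459414271)))
 (.node (.node (.node (.leaf 39117734538)
 (.leaf 28503822575))
 (.leaf 32499853031))
 (.node (.node (.leaf 13969677566)
 (.leaf 38013078580))
 (.leaf 39881369787))))
 (.node (.node (.node (.node (.leaf 10350788744)
 (.leaf 8516119783))
 (.leaf 34912865863))
 (.node (.node (.leaf 16971314409)
 (.leaf 1611148288))
 (.leaf 23797531209)))
 (.node (.node (.node (.leaf 13859966653)
 (.leaf 17476971196))
 (.leaf 12389077231))
 (.node (.leaf 11842134244)
 (.leaf 26320324717)))))))))
 (.node (.node (.node (.node (.node (.node (.node (.node (.node (.leaf 15365419255)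
 (.leaf 6210311910))
 (.leaf 18675676219))
 (.node (.node (.leaf 24572412662)
 (.leaf 12791718960))
 (.leaf 41358596846)))
 (.node (.node (.node (.leaf 36382316546)
 (.leaf 11686142697))
 (.leaf 36519813165))
 (.node (.node (.leaf 36115733506)
 (.leaf 16976728764))
 (.leaf 1626466889))))
 (.node (.node (.node (.node (.leaf 9431163512)
 (.leaf 8899410090))
 (.leaf 8743392495))
 (.node (.node (.leaf 16656665205)
 (.leaf 17374448797))
 (.leaf 10886195273)))
 (.node (.node (.node (.leaf 22964413953)
 (.leaf 14410330669))
 (.leaf 11574240903))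
 (.node (.node (.leaf 28520794367)
 (.leaf 36939088121))
 (.leaf 17729364124)))))
 (.node (.node (.node (.node (.node (.leaf 26239310446)
 (.leaf 19204514973))
 (.leaf 35232024174))
 (.node (.node (.leaf 27255991025)
 (.leaf 39102035612))
 (.leaf 24622928931)))
 (.node (.node (.node (.leaf 9189211173)
 (.leaf 41339475458))
 (.leaf 2859479088))
 (.node (.node (.leaf 1093256763)
 (.leaf 30218535478))
 (.leaf 585945710))))
 (.node (.node (.node (.node (.leaf 4899280519)
 (.leaf 35865257721))
 (.leaf 25651850311))
 (.node (.node (.leaf 9321640483)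
 (.leaf 40015849148))
 (.leaf 30777126644)))
 (.node (.node (.node (.leaf 37616704190)
 (.leaf 1353266211))
 (.leaf 38134162058))
 (.node (.node (.leaf 4055966325)
 (.leaf 2296654336))
 (.leaf 38562040488))))))
 (.node (.node (.node (.node (.node (.node (.leaf 15360736958)
 (.leaf 24707349693))
 (.leaf 22047948407))
 (.node (.node (.leaf 41939240586)
 (.leaf 35043544714))
 (.leaf 32500139677)))
 (.node (.node (.node (.leaf 20602828423)
 (.leaf 9395807267))
 (.leaf 30511863542))
 (.node (.node (.leaf 27013255425)
 (.leaf 732964470))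
 (.leaf 33301880375))))
 (.node (.node (.node (.node (.leaf 23231540225)
 (.leaf 40583669486))
 (.leaf 5514816699))
 (.node (.node (.leaf 17618256630)
 (.leaf 13453363337))
 (.leaf 17074495095)))
 (.node (.node (.node (.leaf 26721224329)
 (.leaf 18991377450))
 (.leaf 2612831854))
 (.node (.node (.leaf 41627014886)
 (.leaf 21918713574))
 (.leaf 11743681724)))))
 (.node (.node (.node (.node (.node (.leaf 35983470635)
 (.leaf 2025171504))
 (.leaf 13167111792))
 (.node (.node (.leaf 20450167433)
 (.leaf 5569865915))
 (.leaf 39120614026)))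
 (.node (.node (.node (.leaf 40734134529)
 (.leaf 31205179501))
 (.leaf 23126987944))
 (.node (.node (.leaf 1945767533)
 (.leaf 13323614444))
 (.leaf 17056992413))))
 (.node (.node (.node (.node (.leaf 7526025454)
 (.leaf 29980204777))
 (.leaf 25698861736))
 (.node (.node (.leaf 13565286118)
 (.leaf 24756690467))
 (.leaf 23931996234)))
 (.node (.node (.node (.leaf 11019056318)
 (.leaf 434211437))
 (.leaf 36402000623))
 (.node (.leaf 15197671591)
 (.leaf 28227277543)))))))
 (.node (.node (.node (.node (.node (.node (.node (.leaf 36654029357)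
 (.leaf 14390763676))
 (.leaf 41401778926))
 (.node (.node (.leaf 26594096361)
 (.leaf 27277005041))
 (.leaf 28063328923)))
 (.node (.node (.node (.leaf 35872320048)
 (.leaf 15197892342))
 (.leaf 16673942244))
 (.node (.node (.leaf 40599140028)
 (.leaf 23823217831))
 (.leaf 40595686641))))
 (.node (.node (.node (.node (.leaf 604245546)
 (.leaf 12929615516))
 (.leaf 12415029947))
 (.node (.node (.leaf 34001140853)
 (.leaf 40041574556))
 (.leaf 8740017321)))
 (.node (.node (.node (.leaf 22157242557)
 (.leaf 25923528430))
 (.leaf 4465408119))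
 (.node (.node (.leaf 28600183344)
 (.leaf 29805556452))
 (.leaf 19931148330)))))
 (.node (.node (.node (.node (.node (.leaf 38033221255)
 (.leaf 41489383990))
 (.leaf 23373434013))
 (.node (.node (.leaf 27961404062)
 (.leaf 39475892279))
 (.leaf 24993098430)))
 (.node (.node (.node (.leaf 6318048495)
 (.leaf 19234628345))
 (.leaf 20042287734))
 (.node (.node (.leaf 11878584382)
 (.leaf 24711893673))
 (.leaf 7816187529))))
 (.node (.node (.node (.node (.leaf 22156964097)
 (.leaf 38296448758))
 (.leaf 25781127847))
 (.node (.node (.leaf 16240920099)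
 (.leaf 1810156655))
 (.leaf 1517827695)))
 (.node (.node (.node (.leaf 8737834096)
 (.leaf 24576282185))
 (.leaf 18985917156))
 (.node (.leaf 23280061987)
 (.leaf 38967799012))))))
 (.node (.node (.node (.node (.node (.node (.leaf 27933281928)
 (.leaf 36811178231))
 (.leaf 9325137565))
 (.node (.node (.leaf 16789078715)
 (.leaf 15368207422))
 (.leaf 4626062921)))
 (.node (.node (.node (.leaf 566036598)
 (.leaf 29949254334))
 (.leaf 29319801063))
 (.node (.node (.leaf 28872844540)
 (.leaf 18806098486))
 (.leaf 34811752074))))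
 (.node (.node (.node (.node (.leaf 19748737211)
 (.leaf 36685361195))
 (.leaf 10394581575))
 (.node (.node (.leaf 24307622461)
 (.leaf 1789194797))
 (.leaf 28766640690)))
 (.node (.node (.node (.leaf 38050301607)
 (.leaf 3633141290))
 (.leaf 5299081385))
 (.node (.node (.leaf 5915413228)
 (.leaf 24190451769))
 (.leaf 5300558960)))))
 (.node (.node (.node (.node (.node (.leaf 38521157633)
 (.leaf 20731498121))
 (.leaf 4604643952))
 (.node (.node (.leaf 12413350952)
 (.leaf 30259413111))
 (.leaf 29672609524)))
 (.node (.node (.node (.leaf 22181640765)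
 (.leaf 40441062631))
 (.leaf 24980814391))
 (.node (.node (.leaf 438065214)
 (.leaf 13757213352))
 (.leaf 17462777404))))
 (.node (.node (.node (.node (.leaf 16281328298)
 (.leaf 17745585271))
 (.leaf 29125386754))
 (.node (.node (.leaf 31818890468)
 (.leaf 11151887515))
 (.leaf 28495682098)))
 (.node (.node (.node (.leaf 17985304118)
 (.leaf 19924850334))
 (.leaf 28333685368))
 (.node (.leaf 33704241718)
 (.leaf 15475825902))))))))
 (.node (.node (.node (.node (.node (.node (.node (.node (.leaf 24442102846)
 (.leaf 35886055474))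
 (.leaf 14496089130))
 (.node (.node (.leaf 14227677733)
 (.leaf 19490942581))
 (.leaf 1629541113)))
 (.node (.node (.node (.leaf 17461000892)
 (.leaf 10766031598))
 (.leaf 31157999771))
 (.node (.node (.leaf 11420349097)
 (.leaf 6188997230))
 (.leaf 39387734153))))
 (.node (.node (.node (.node (.leaf 40544920066)
 (.leaf 27559201851))
 (.leaf 26855441065))
 (.node (.node (.leaf 13569719920)
 (.leaf 37999682697))
 (.leaf 34420116599)))
 (.node (.node (.node (.leaf 4045212734)
 (.leaf 7793944806))
 (.leaf 12142143215))
 (.node (.node (.leaf 29697857726)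
 (.leaf 1788918322))
 (.leaf 26323035274)))))
 (.node (.node (.node (.node (.node (.leaf 40195138297)
 (.leaf 1122861678))
 (.leaf 14111770361))
 (.node (.node (.leaf 4088451621)
 (.leaf 39923024541))
 (.leaf 14256487668)))
 (.node (.node (.node (.leaf 13433644169)
 (.leaf 13047808700))
 (.leaf 20152125597))
 (.node (.node (.leaf 4846307399)
 (.leaf 11055550703))
 (.leaf 10085835419))))
 (.node (.node (.node (.node (.leaf 23528786601)
 (.leaf 26104305776))
 (.leaf 27277458662))
 (.node (.node (.leaf 5941772350)
 (.leaf 11035276540))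
 (.leaf 38002378295)))
 (.node (.node (.node (.leaf 14238452391)
 (.leaf 2579299958))
 (.leaf 2188410992))
 (.node (.node (.leaf 26087868655)
 (.leaf 38582966974))
 (.leaf 10518148745))))))
 (.node (.node (.node (.node (.node (.node (.leaf 42154990594)
 (.leaf 34762708525))
 (.leaf 40802611202))
 (.node (.node (.leaf 37645836458)
 (.leaf 19371718773))
 (.leaf 6620481142)))
 (.node (.node (.node (.leaf 12665795144)
 (.leaf 33967676150))
 (.leaf 17627158075))
 (.node (.node (.leaf 2725096493)
 (.leaf 35195866164))
 (.leaf 4227610154))))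
 (.node (.node (.node (.node (.leaf 11874420286)
 (.leaf 18720319016))
 (.leaf 32650429483))
 (.node (.node (.leaf 19893652124)
 (.leaf 10530110536))
 (.leaf 30755416302)))
 (.node (.node (.node (.leaf 3256910455)
 (.leaf 25685176041))
 (.leaf 14238894217))
 (.node (.node (.leaf 6215328998)
 (.leaf 25811314287))
 (.leaf 24879613177)))))
 (.node (.node (.node (.node (.node (.leaf 39792466107)
 (.leaf 16439855176))
 (.leaf 37507171402))
 (.node (.node (.leaf 40041029790)
 (.leaf 39638131869))
 (.leaf 3777054781)))
 (.node (.node (.node (.leaf 33998127274)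
 (.leaf 28514566775))
 (.leaf 24472292068))
 (.node (.node (.leaf 834000504)
 (.leaf 23902176769))
 (.leaf 40833234156))))
 (.node (.node (.node (.node (.leaf 38012346932)
 (.leaf 18687043825))
 (.leaf 30802787950))
 (.node (.node (.leaf 37348005950)
 (.leaf 3503299072))
 (.leaf 3687844904)))
 (.node (.node (.node (.leaf 21619669750)
 (.leaf 26770483747))
 (.leaf 10529697417))
 (.node (.leaf 20144603137)
 (.leaf 3799111280)))))))
 (.node (.node (.node (.node (.node (.node (.node (.leaf 38319558791)
 (.leaf 19614449908))
 (.leaf 17996309756))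
 (.node (.node (.leaf 15233330855)
 (.leaf 32914693350))
 (.leaf 4088924197)))
 (.node (.node (.node (.leaf 21384459894)
 (.leaf 12362524732))
 (.leaf 24577414314))
 (.node (.node (.leaf 10773117490)
 (.leaf 30227650236))
 (.leaf 24360259114))))
 (.node (.node (.node (.node (.leaf 30218127932)
 (.leaf 14402799847))
 (.leaf 29995978428))
 (.node (.node (.leaf 572900925)
 (.leaf 9320808995))
 (.leaf 39904157433)))
 (.node (.node (.node (.leaf 421390910)
 (.leaf 16796618811))
 (.leaf 2183137341))
 (.node (.node (.leaf 11336727149)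
 (.leaf 2209893962))
 (.leaf 32927733915)))))
 (.node (.node (.node (.node (.node (.leaf 2346492536)
 (.leaf 35181375623))
 (.leaf 38564359934))
 (.node (.node (.leaf 35576920295)
 (.leaf 7547237092))
 (.leaf 7532284552)))
 (.node (.node (.node (.leaf 24324441767)
 (.leaf 16558390505))
 (.leaf 27827710582))
 (.node (.node (.leaf 41808392447)
 (.leaf 25933536308))
 (.leaf 38427043497))))
 (.node (.node (.node (.node (.leaf 28921635574)
 (.leaf 14008299563))
 (.leaf 27128306823))
 (.node (.node (.leaf 11994766408)
 (.leaf 17732347127))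
 (.leaf 27530495734)))
 (.node (.node (.node (.leaf 25027227685)
 (.leaf 10617686076))
 (.leaf 13054634558))
 (.node (.leaf 23788024969)
 (.leaf 41517718761))))))
 (.node (.node (.node (.node (.node (.node (.leaf 38655374849)
 (.leaf 42180419308))
 (.leaf 24830362678))
 (.node (.node (.leaf 463767669)
 (.leaf 1910612589))
 (.leaf 2191401515)))
 (.node (.node (.node (.leaf 42024450615)
 (.leaf 16415284393))
 (.leaf 19774128699))
 (.node (.node (.leaf 12780103325)
 (.leaf 12511444729))
 (.leaf 9462226686))))
 (.node (.node (.node (.node (.leaf 29174537776)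
 (.leaf 19208096886))
 (.leaf 3106511931))
 (.node (.node (.leaf 38301702791)
 (.leaf 37864364143))
 (.leaf 30248116991)))
 (.node (.node (.node (.leaf 6860648104)
 (.leaf 36526762734))
 (.leaf 33321664061))
 (.node (.node (.leaf 2435106023)
 (.leaf 36976078960))
 (.leaf 37242919593)))))
 (.node (.node (.node (.node (.node (.leaf 20713702558)
 (.leaf 39759465017))
 (.leaf 39471956481))
 (.node (.node (.leaf 12511656093)
 (.leaf 35447135853))
 (.leaf 40967461604)))
 (.node (.node (.node (.leaf 24343052009)
 (.leaf 6223069294))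
 (.leaf 29863229627))
 (.node (.node (.leaf 16652271844)
 (.leaf 35896831049))
 (.leaf 32663930990))))
 (.node (.node (.node (.node (.leaf 3554213495)
 (.leaf 23909430974))
 (.leaf 24086948081))
 (.node (.node (.leaf 17246564095)
 (.leaf 12795136155))
 (.leaf 29027341360)))
 (.node (.node (.node (.leaf 9127368741)
 (.leaf 13619997296))
 (.leaf 6321904749))
 (.node (.leaf 25799273204)
 (.leaf 8786129649))))))))))
 (.node (.node (.node (.node (.node (.node (.node (.node (.node (.node (.leaf 4304232490)
 (.leaf 37213968434))
 (.leaf 34793853063))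
 (.node (.node (.leaf 8626267366)
 (.leaf 8633771051))
 (.leaf 35999607041)))
 (.node (.node (.node (.leaf 1269841957)
 (.leaf 27792392937))
 (.leaf 19608443548))
 (.node (.node (.leaf 27933606145)
 (.leaf 33698453742))
 (.leaf 38830375080))))
 (.node (.node (.node (.node (.leaf 3422030396)
 (.leaf 12526332978))
 (.leaf 17228932351))
 (.node (.node (.leaf 20698657950)
 (.leaf 37192752201))
 (.leaf 18049206429)))
 (.node (.node (.node (.leaf 16687305333)
 (.leaf 41080483330))
 (.leaf 40131518978))
 (.node (.node (.leaf 1654685234)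
 (.leaf 17886966845))
 (.leaf 2594232379)))))
 (.node (.node (.node (.node (.node (.leaf 19260118782)
 (.leaf 41269735594))
 (.leaf 35751014537))
 (.node (.node (.leaf 32530380423)
 (.leaf 13839941887))
 (.leaf 7815415537)))
 (.node (.node (.node (.leaf 13300212362)
 (.leaf 24580581054))
 (.leaf 41081775106))
 (.node (.node (.leaf 34825049710)
 (.leaf 30362660604))
 (.leaf 21474956857))))
 (.node (.node (.node (.node (.leaf 28382639854)
 (.leaf 13307000989))
 (.leaf 40997559012))
 (.node (.node (.leaf 12627069684)
 (.leaf 12379543271))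
 (.leaf 29711244532)))
 (.node (.node (.node (.leaf 36945877179)
 (.leaf 18937810568))
 (.leaf 10249988857))
 (.node (.node (.leaf 4478752840)
 (.leaf 819732480))
 (.leaf 24731716215))))))
 (.node (.node (.node (.node (.node (.node (.leaf 40460671204)
 (.leaf 11604749479))
 (.leaf 25918539337))
 (.node (.node (.leaf 22043276519)
 (.leaf 24334406256))
 (.leaf 1373471342)))
 (.node (.node (.node (.leaf 1117903419)
 (.leaf 21541561453))
 (.leaf 16839944348))
 (.node (.node (.leaf 2966035499)
 (.leaf 13482107427))
 (.leaf 12010174504))))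
 (.node (.node (.node (.node (.leaf 22030595133)
 (.leaf 41533664487))
 (.leaf 24762233089))
 (.node (.node (.leaf 18697205999)
 (.leaf 34672072235))
 (.leaf 39086261817)))
 (.node (.node (.node (.leaf 31416755436)
 (.leaf 27021885169))
 (.leaf 33304882749))
 (.node (.node (.leaf 26905941578)
 (.leaf 18850794653))
 (.leaf 11290414728)))))
 (.node (.node (.node (.node (.node (.leaf 35631009418)
 (.leaf 26472360557))
 (.leaf 11878161083))
 (.node (.node (.leaf 14558712382)
 (.leaf 11419644161))
 (.leaf 1928889965)))
 (.node (.node (.node (.leaf 15337019454)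
 (.leaf 19087760623))
 (.leaf 12397733615))
 (.node (.node (.leaf 11200000745)
 (.leaf 25837312623))
 (.leaf 11954594020))))
 (.node (.node (.node (.node (.leaf 4488969251)
 (.leaf 35176344199))
 (.leaf 35850693193))
 (.node (.node (.leaf 10803634844)
 (.leaf 32228374070))
 (.leaf 36811731687)))
 (.node (.node (.node (.leaf 35579071623)
 (.leaf 17497391359))
 (.leaf 35311947914))
 (.node (.leaf 35742637737)
 (.leaf 12012801135)))))))
 (.node (.node (.node (.node (.node (.node (.node (.leaf 41374523137)
 (.leaf 39106771594))
 (.leaf 34403531382))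
 (.node (.node (.leaf 3777566267)
 (.leaf 3958386237))
 (.leaf 40449366244)))
 (.node (.node (.node (.leaf 4579778631)
 (.leaf 27575724149))
 (.leaf 1371406454))
 (.node (.node (.leaf 19908084796)
 (.leaf 18021446206))
 (.leaf 42029163241))))
 (.node (.node (.node (.node (.leaf 37079496824)
 (.leaf 5569045053))
 (.leaf 5301222055))
 (.node (.node (.leaf 42158930998)
 (.leaf 5113447582))
 (.leaf 28516083441)))
 (.node (.node (.node (.leaf 37477769895)
 (.leaf 17736212125))
 (.leaf 27171849386))
 (.node (.node (.leaf 21919010377)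
 (.leaf 9280039613))
 (.leaf 13471703111)))))
 (.node (.node (.node (.node (.node (.leaf 32899077193)
 (.leaf 39659558588))
 (.leaf 31451264572))
 (.node (.node (.leaf 21484655852)
 (.leaf 5919784008))
 (.leaf 20547259905)))
 (.node (.node (.node (.leaf 37885662908)
 (.leaf 10921066238))
 (.leaf 19774637627))
 (.node (.node (.leaf 22293294782)
 (.leaf 14289807909))
 (.leaf 35764312173))))
 (.node (.node (.node (.node (.leaf 20566852231)
 (.leaf 22187392761))
 (.leaf 34771629801))
 (.node (.node (.leaf 37998713908)
 (.leaf 5164301981))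
 (.leaf 33595666599)))
 (.node (.node (.node (.leaf 40413319737)
 (.leaf 36923126440))
 (.leaf 11692455082))
 (.node (.leaf 4470393930)
 (.leaf 28082852409))))))
 (.node (.node (.node (.node (.node (.node (.leaf 30512003131)
 (.leaf 24439437499))
 (.leaf 37590736111))
 (.node (.node (.leaf 24304825511)
 (.leaf 24993997556))
 (.leaf 9439830646)))
 (.node (.node (.node (.leaf 10622156521)
 (.leaf 818464926))
 (.leaf 10615035547))
 (.node (.node (.leaf 13994858046)
 (.leaf 17611893365))
 (.leaf 39607427073))))
 (.node (.node (.node (.node (.leaf 41672303350)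
 (.leaf 35200838908))
 (.leaf 550511616))
 (.node (.node (.leaf 11184224315)
 (.leaf 2078683759))
 (.leaf 4843183239)))
 (.node (.node (.node (.leaf 22967088295)
 (.leaf 41936358026))
 (.leaf 13755115178))
 (.node (.node (.leaf 31873618107)
 (.leaf 38129707009))
 (.leaf 26201822964)))))
 (.node (.node (.node (.node (.node (.leaf 17244732024)
 (.leaf 7122820841))
 (.leaf 8773490736))
 (.node (.node (.leaf 16710382142)
 (.leaf 854595144))
 (.leaf 17911553694)))
 (.node (.node (.node (.leaf 41668143846)
 (.leaf 8491375154))
 (.leaf 28588486146))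
 (.node (.node (.leaf 707288695)
 (.leaf 24322105532))
 (.leaf 32490001127))))
 (.node (.node (.node (.node (.leaf 3240468028)
 (.leaf 38953914537))
 (.leaf 20564698781))
 (.node (.node (.leaf 30735973940)
 (.leaf 34963573358))
 (.leaf 11981447404)))
 (.node (.node (.node (.leaf 4171325989)
 (.leaf 26641770026))
 (.leaf 31473056904))
 (.node (.leaf 21887306478)
 (.leaf 8496371823))))))))
 (.node (.node (.node (.node (.node (.node (.node (.node (.leaf 4305544229)
 (.leaf 27932890359))
 (.leaf 28885782783))
 (.node (.node (.leaf 35715156104)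
 (.leaf 38027750129))
 (.leaf 36251901995)))
 (.node (.node (.node (.leaf 39478692407)
 (.leaf 10497957103))
 (.leaf 24624319678))
 (.node (.node (.leaf 1223521354)
 (.leaf 40681184414))
 (.leaf 5565464254))))
 (.node (.node (.node (.node (.leaf 16572057125)
 (.leaf 26603830324))
 (.leaf 41240568060))
 (.node (.node (.leaf 38131620409)
 (.leaf 27813873385))
 (.leaf 15435353650)))
 (.node (.node (.node (.leaf 28463443970)
 (.leaf 10921594606))
 (.leaf 25651323465))
 (.node (.node (.leaf 35970459650)
 (.leaf 5294790218))
 (.leaf 6352595004)))))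
 (.node (.node (.node (.node (.node (.leaf 20017081022)
 (.leaf 2881856117))
 (.leaf 2700736071))
 (.node (.node (.leaf 39204248577)
 (.leaf 16404026620))
 (.leaf 26325820647)))
 (.node (.node (.node (.leaf 40816752694)
 (.leaf 21385019113))
 (.leaf 30767057006))
 (.node (.node (.leaf 18806752327)
 (.leaf 12412870184))
 (.leaf 31829014587))))
 (.node (.node (.node (.node (.leaf 11558800636)
 (.leaf 40175765751))
 (.leaf 3555833917))
 (.node (.node (.leaf 27832391929)
 (.leaf 37106870857))
 (.leaf 27412026420)))
 (.node (.node (.node (.leaf 31174516411)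
 (.leaf 21890125500))
 (.leaf 28383176940))
 (.node (.node (.leaf 20420520603)
 (.leaf 29724632766))
 (.leaf 29594075197))))))
 (.node (.node (.node (.node (.node (.node (.leaf 41509264615)
 (.leaf 17246089473))
 (.leaf 13457311489))
 (.node (.node (.leaf 20034217662)
 (.leaf 16284681261))
 (.leaf 6218638907)))
 (.node (.node (.node (.leaf 7142725787)
 (.leaf 39391936648))
 (.leaf 42204954854))
 (.node (.node (.leaf 35318277881)
 (.leaf 26507814954))
 (.leaf 23951908387))))
 (.node (.node (.node (.node (.leaf 40534171138)
 (.leaf 4196440125))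
 (.leaf 20679233064))
 (.node (.node (.leaf 35867441398)
 (.leaf 19358935689))
 (.leaf 11169207963)))
 (.node (.node (.node (.leaf 19795283496)
 (.leaf 19070193799))
 (.leaf 35227821678))
 (.node (.node (.leaf 13331633781)
 (.leaf 12811133085))
 (.leaf 38932398308)))))
 (.node (.node (.node (.node (.node (.leaf 12531939975)
 (.leaf 26993826440))
 (.leaf 17358756411))
 (.node (.node (.leaf 33699276537)
 (.leaf 13034204271))
 (.leaf 16442042620)))
 (.node (.node (.node (.leaf 10349847150)
 (.leaf 41368578612))
 (.leaf 36567125575))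
 (.node (.node (.leaf 12008708844)
 (.leaf 25832331338))
 (.leaf 41636993268))))
 (.node (.node (.node (.node (.leaf 15484084807)
 (.leaf 12751077424))
 (.leaf 4598804088))
 (.node (.node (.leaf 37751446647)
 (.leaf 39741175297))
 (.leaf 854897224)))
 (.node (.node (.node (.leaf 29161033778)
 (.leaf 37507972777))
 (.leaf 1489115693))
 (.node (.leaf 41911722742)
 (.leaf 6348923978)))))))
 (.node (.node (.node (.node (.node (.node (.node (.leaf 2697074733)
 (.leaf 4067449929))
 (.leaf 22986967613))
 (.node (.node (.leaf 35449299111)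
 (.leaf 39222400052))
 (.leaf 2993434157)))
 (.node (.node (.node (.leaf 14509971006)
 (.leaf 16389024841))
 (.leaf 24995575463))
 (.node (.node (.leaf 8605542056)
 (.leaf 26337943178))
 (.leaf 36373142018))))
 (.node (.node (.node (.node (.leaf 40682272311)
 (.leaf 33986081849))
 (.leaf 19790370973))
 (.node (.node (.leaf 27564257415)
 (.leaf 14405938844))
 (.leaf 19636983540)))
 (.node (.node (.node (.leaf 1761155143)
 (.leaf 23905005642))
 (.leaf 3652782199))
 (.node (.node (.leaf 38177693866)
 (.leaf 39107299976))
 (.leaf 865604643)))))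
 (.node (.node (.node (.node (.node (.leaf 2076492350)
 (.leaf 14361870890))
 (.leaf 22340544631))
 (.node (.node (.leaf 25831769255)
 (.leaf 28250283068))
 (.leaf 38959173819)))
 (.node (.node (.node (.leaf 8858940456)
 (.leaf 872212027))
 (.leaf 2984102510))
 (.node (.node (.leaf 38820479540)
 (.leaf 28469732095))
 (.leaf 2452097655))))
 (.node (.node (.node (.node (.leaf 21349821161)
 (.leaf 39634934510))
 (.leaf 22073581629))
 (.node (.node (.leaf 18717353544)
 (.leaf 13597450825))
 (.leaf 13853054652)))
 (.node (.node (.node (.leaf 20584635018)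
 (.leaf 22987213373))
 (.leaf 12547147911))
 (.node (.leaf 27127577258)
 (.leaf 9055822373))))))
 (.node (.node (.node (.node (.node (.node (.leaf 29055046393)
 (.leaf 4612552263))
 (.leaf 8649861865))
 (.node (.node (.leaf 39490836532)
 (.leaf 34395152119))
 (.leaf 11171618951)))
 (.node (.node (.node (.leaf 3136166445)
 (.leaf 9456337955))
 (.leaf 28369377534))
 (.node (.node (.leaf 32659545718)
 (.leaf 3499412209))
 (.leaf 41106409206))))
 (.node (.node (.node (.node (.leaf 16254809159)
 (.leaf 27982668446))
 (.leaf 18687748743))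
 (.node (.node (.leaf 41888649866)
 (.leaf 12280700987))
 (.leaf 41651821814)))
 (.node (.node (.node (.leaf 2178289264)
 (.leaf 16523758710))
 (.leaf 41502512889))
 (.node (.node (.leaf 39210522678)
 (.leaf 25698375241))
 (.leaf 19368584436)))))
 (.node (.node (.node (.node (.node (.leaf 2294916651)
 (.leaf 29155947761))
 (.leaf 24306005692))
 (.node (.node (.leaf 1386866294)
 (.leaf 18960942822))
 (.leaf 40550138097)))
 (.node (.node (.node (.leaf 41086763062)
 (.leaf 10647816310))
 (.leaf 36670944500))
 (.node (.node (.leaf 17045750324)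
 (.leaf 37325203626))
 (.leaf 17243057781))))
 (.node (.node (.node (.node (.leaf 12513505930)
 (.leaf 1006949930))
 (.leaf 36794691833))
 (.node (.node (.leaf 36148737586)
 (.leaf 12765694582))
 (.leaf 14276993645)))
 (.node (.node (.node (.leaf 10670728347)
 (.leaf 15210652722))
 (.leaf 33327439591))
 (.node (.leaf 35359609482)
 (.leaf 8608881897)))))))))
 (.node (.node (.node (.node (.node (.node (.node (.node (.node (.leaf 3405125675)
 (.leaf 18821523180))
 (.leaf 34946231918))
 (.node (.node (.leaf 16806604956)
 (.leaf 32919133948))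
 (.leaf 9162781229)))
 (.node (.node (.node (.leaf 10398811207)
 (.leaf 23114333883))
 (.leaf 38446844041))
 (.node (.node (.leaf 23902639617)
 (.leaf 29796436537))
 (.leaf 23653893767))))
 (.node (.node (.node (.node (.leaf 36706243318)
 (.leaf 34403917041))
 (.leaf 1004290600))
 (.node (.node (.leaf 2323182665)
 (.leaf 39337154561))
 (.leaf 35175683316)))
 (.node (.node (.node (.leaf 28733714946)
 (.leaf 23238953630))
 (.leaf 23367136769))
 (.node (.node (.leaf 20566393514)
 (.leaf 9036379254))
 (.leaf 37079798518)))))
 (.node (.node (.node (.node (.node (.leaf 5941024830)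
 (.leaf 29857003128))
 (.leaf 29259604994))
 (.node (.node (.leaf 17325998267)
 (.leaf 2446953583))
 (.leaf 31825986615)))
 (.node (.node (.node (.leaf 37997931575)
 (.leaf 35583575607))
 (.leaf 5112133275))
 (.node (.node (.leaf 8902309100)
 (.leaf 36030787146))
 (.leaf 37323688188))))
 (.node (.node (.node (.node (.leaf 37750847095)
 (.leaf 9192970396))
 (.leaf 3122431096))
 (.node (.node (.leaf 29541072574)
 (.leaf 11717623853))
 (.leaf 8653913712)))
 (.node (.node (.node (.leaf 26774168746)
 (.leaf 37621612106))
 (.leaf 8992895024))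
 (.node (.node (.leaf 14241326154)
 (.leaf 1273295944))
 (.leaf 20276056106))))))
 (.node (.node (.node (.node (.node (.node (.leaf 2684891136)
 (.leaf 8634318569))
 (.leaf 11695590590))
 (.node (.node (.leaf 40734630143)
 (.leaf 23353972225))
 (.leaf 17508928158)))
 (.node (.node (.node (.leaf 2053930607)
 (.leaf 6612598333))
 (.leaf 26237343478))
 (.node (.node (.leaf 40147214390)
 (.leaf 20461796489))
 (.leaf 40171839745))))
 (.node (.node (.node (.node (.leaf 1539148910)
 (.leaf 19237762678))
 (.leaf 40708714753))
 (.node (.node (.leaf 9460666526)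
 (.leaf 25701784688))
 (.leaf 42046086887)))
 (.node (.node (.node (.leaf 15315284030)
 (.leaf 34644029495))
 (.leaf 8518125677))
 (.node (.node (.leaf 849649781)
 (.leaf 17463781631))
 (.leaf 18014346395)))))
 (.node (.node (.node (.node (.node (.leaf 12377497245)
 (.leaf 36708419694))
 (.leaf 32256105532))
 (.node (.node (.leaf 26575177780)
 (.leaf 20333525546))
 (.leaf 3530600496)))
 (.node (.node (.node (.leaf 12008188142)
 (.leaf 3101965824))
 (.leaf 2027431936))
 (.node (.node (.leaf 19376652872)
 (.leaf 5163485813))
 (.leaf 12899431484))))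
 (.node (.node (.node (.node (.leaf 38132410934)
 (.leaf 21628289079))
 (.leaf 30346426558))
 (.node (.node (.leaf 14361611309)
 (.leaf 4623747107))
 (.leaf 37243677807)))
 (.node (.node (.node (.leaf 40011193911)
 (.leaf 6183294694))
 (.leaf 41099595321))
 (.node (.leaf 28648996070)
 (.leaf 7132795119)))))))
 (.node (.node (.node (.node (.node (.node (.node (.leaf 15502560391)
 (.leaf 20047525001))
 (.leaf 35225654409))
 (.node (.node (.leaf 34793415850)
 (.leaf 33348485194))
 (.leaf 11181382886)))
 (.node (.node (.node (.leaf 6585987305)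
 (.leaf 25904152628))
 (.leaf 28917998197))
 (.node (.node (.leaf 21407605358)
 (.leaf 29166272560))
 (.leaf 18672143415))))
 (.node (.node (.node (.node (.leaf 39202671868)
 (.leaf 34388472372))
 (.leaf 37059649706))
 (.node (.node (.leaf 27411615854)
 (.leaf 18943899804))
 (.leaf 19337923828)))
 (.node (.node (.node (.leaf 35982943277)
 (.leaf 17647832222))
 (.leaf 40865469676))
 (.node (.node (.leaf 35214406728)
 (.leaf 8925761135))
 (.leaf 40309720822)))))
 (.node (.node (.node (.node (.node (.leaf 11875270331)
 (.leaf 21489066056))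
 (.leaf 14128669942))
 (.node (.node (.leaf 3099730477)
 (.leaf 13705248879))
 (.leaf 13855413415)))
 (.node (.node (.node (.leaf 21404721223)
 (.leaf 15600587912))
 (.leaf 16528298139))
 (.node (.node (.leaf 38178260618)
 (.leaf 31169566265))
 (.leaf 28868094514))))
 (.node (.node (.node (.node (.leaf 36786805762)
 (.leaf 42054332145))
 (.leaf 36794298596))
 (.node (.node (.leaf 40869662460)
 (.leaf 5248169072))
 (.leaf 13323356412)))
 (.node (.node (.node (.leaf 13888998519)
 (.leaf 29006524663))
 (.leaf 12009416744))
 (.node (.leaf 4335643759)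
 (.leaf 36971085993))))))
 (.node (.node (.node (.node (.node (.node (.leaf 36701310185)
 (.leaf 12761818878))
 (.leaf 33297141505))
 (.node (.node (.leaf 32624215785)
 (.leaf 26049372415))
 (.leaf 23684334759)))
 (.node (.node (.node (.leaf 18853816044)
 (.leaf 38427813544))
 (.leaf 39338525697))
 (.node (.node (.leaf 16789866652)
 (.leaf 37593689258))
 (.leaf 39086783132))))
 (.node (.node (.node (.node (.leaf 3231754999)
 (.leaf 17716857396))
 (.leaf 3147676792))
 (.node (.node (.leaf 31204671088)
 (.leaf 3518863478))
 (.leaf 13063845092)))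
 (.node (.node (.node (.leaf 20042792603)
 (.leaf 16405375657))
 (.leaf 24224543272))
 (.node (.node (.leaf 33972630186)
 (.leaf 2699304960))
 (.leaf 7535708910)))))
 (.node (.node (.node (.node (.node (.leaf 35989038324)
 (.leaf 27445287483))
 (.leaf 15361134154))
 (.node (.node (.leaf 4577572352)
 (.leaf 23641347260))
 (.leaf 25646098169)))
 (.node (.node (.node (.leaf 19477409014)
 (.leaf 30127551677))
 (.leaf 12616853035))
 (.node (.node (.leaf 35632592519)
 (.leaf 1923675184))
 (.leaf 6586503409))))
 (.node (.node (.node (.node (.leaf 14544811056)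
 (.leaf 13436821110))
 (.leaf 3087540736))
 (.node (.node (.leaf 33724129981)
 (.leaf 8606032008))
 (.leaf 26504862832)))
 (.node (.node (.node (.leaf 2586347056)
 (.leaf 37625380585))
 (.leaf 18857173052))
 (.node (.leaf 32262064711)
 (.leaf 23384677033))))))))
 (.node (.node (.node (.node (.node (.node (.node (.node (.leaf 16275889921)
 (.leaf 14426686140))
 (.leaf 10335150125))
 (.node (.node (.leaf 20061098533)
 (.leaf 9037042331))
 (.leaf 13215247933)))
 (.node (.node (.node (.leaf 16654382781)
 (.leaf 6344444535))
 (.leaf 20735735944))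
 (.node (.node (.leaf 38401370164)
 (.leaf 17058821822))
 (.leaf 5162175606))))
 (.node (.node (.node (.node (.leaf 411904042)
 (.leaf 20718911560))
 (.leaf 32256319231))
 (.node (.node (.leaf 11318182460)
 (.leaf 5919252597))
 (.leaf 26884846154)))
 (.node (.node (.node (.leaf 36786938930)
 (.leaf 33997840429))
 (.leaf 26910546174))
 (.node (.node (.leaf 1758999040)
 (.leaf 13721454218))
 (.leaf 26441489450)))))
 (.node (.node (.node (.node (.node (.leaf 29022581495)
 (.leaf 2850148461))
 (.leaf 13068293364))
 (.node (.node (.leaf 2988752941)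
 (.leaf 16655583388))
 (.leaf 23816380451)))
 (.node (.node (.node (.leaf 17869652535)
 (.leaf 32524867122))
 (.leaf 27709514398))
 (.node (.node (.leaf 37859959028)
 (.leaf 16571448869))
 (.leaf 13172506343))))
 (.node (.node (.node (.node (.leaf 11822473917)
 (.leaf 39369947806))
 (.leaf 805570560))
 (.node (.node (.leaf 26909743361)
 (.leaf 37332042294))
 (.leaf 3793530488)))
 (.node (.node (.node (.leaf 13970490555)
 (.leaf 12946048629))
 (.leaf 25915861673))
 (.node (.node (.leaf 25651660342)
 (.leaf 34017417866))
 (.leaf 19254308387))))))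
 (.node (.node (.node (.node (.node (.node (.leaf 20132734977)
 (.leaf 13172025019))
 (.leaf 22024968382))
 (.node (.node (.leaf 38990071995)
 (.leaf 37728383656))
 (.leaf 27802207804)))
 (.node (.node (.node (.leaf 27664847432)
 (.leaf 2695417599))
 (.leaf 1489611307))
 (.node (.node (.leaf 19522757749)
 (.leaf 38184781992))
 (.leaf 25769920055))))
 (.node (.node (.node (.node (.leaf 24861780727)
 (.leaf 1355825664))
 (.leaf 9436457003))
 (.node (.node (.leaf 18819994269)
 (.leaf 32277581500))
 (.leaf 31451650295)))
 (.node (.node (.node (.leaf 23250722986)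
 (.leaf 37465995319))
 (.leaf 34932926694))
 (.node (.node (.leaf 11305277668)
 (.leaf 3280996470))
 (.leaf 16302752330)))))
 (.node (.node (.node (.node (.node (.leaf 6626538055)
 (.leaf 34375361271))
 (.leaf 19099883247))
 (.node (.node (.leaf 41942871806)
 (.leaf 4086363171))
 (.leaf 2212248696)))
 (.node (.node (.node (.leaf 26615884911)
 (.leaf 28788768317))
 (.leaf 31474402878))
 (.node (.node (.leaf 29538964222)
 (.leaf 34803034157))
 (.leaf 1914448939))))
 (.node (.node (.node (.node (.leaf 25784849519)
 (.leaf 26371299575))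
 (.leaf 17374654072))
 (.node (.node (.leaf 21405416071)
 (.leaf 3127694893))
 (.leaf 1237449333)))
 (.node (.node (.node (.leaf 7545640604)
 (.leaf 16844676650))
 (.leaf 39501503719))
 (.node (.leaf 11990090980)
 (.leaf 37890385066)))))))
 (.node (.node (.node (.node (.node (.node (.node (.leaf 40986307812)
 (.leaf 10801537181))
 (.leaf 11469744297))
 (.node (.node (.leaf 31182965403)
 (.leaf 10883452585))
 (.leaf 29270635522)))
 (.node (.node (.node (.leaf 25029356790)
 (.leaf 24706630903))
 (.leaf 38964330151))
 (.node (.node (.leaf 27715814971)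
 (.leaf 17240252963))
 (.leaf 20283211914))))
 (.node (.node (.node (.node (.leaf 7129098410)
 (.leaf 38717447357))
 (.leaf 15449237051))
 (.node (.node (.leaf 41907015737)
 (.leaf 19477849738))
 (.leaf 17208451192)))
 (.node (.node (.node (.leaf 23255892156)
 (.leaf 9277107964))
 (.leaf 36165698276))
 (.node (.node (.leaf 28754077415)
 (.leaf 12925674029))
 (.leaf 41236151353)))))
 (.node (.node (.node (.node (.node (.leaf 39326471169)
 (.leaf 11453224695))
 (.leaf 25834353833))
 (.node (.node (.leaf 3239932478)
 (.leaf 22027504183))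
 (.leaf 24041278193)))
 (.node (.node (.node (.leaf 14421746407)
 (.leaf 3905951232))
 (.leaf 28741831911))
 (.node (.node (.leaf 13050366694)
 (.leaf 35768095880))
 (.leaf 17860687089))))
 (.node (.node (.node (.node (.leaf 17113181948)
 (.leaf 2163775745))
 (.leaf 40677285378))
 (.node (.node (.leaf 17886386945)
 (.leaf 41234328316))
 (.leaf 41001715956)))
 (.node (.node (.node (.leaf 19345970932)
 (.leaf 35097020552))
 (.leaf 10907670136))
 (.node (.leaf 11047146058)
 (.leaf 26859546184))))))
 (.node (.node (.node (.node (.node (.node (.leaf 19864300033)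
 (.leaf 16912051242))
 (.leaf 29438323868))
 (.node (.node (.leaf 38937453111)
 (.leaf 16419160624))
 (.leaf 17497942255)))
 (.node (.node (.node (.leaf 40140431362)
 (.leaf 8657307690))
 (.leaf 27979226742))
 (.node (.node (.leaf 2460360749)
 (.leaf 34937808614))
 (.leaf 685252096))))
 (.node (.node (.node (.node (.leaf 31571840624)
 (.leaf 824773179))
 (.leaf 9176374382))
 (.node (.node (.leaf 10241328897)
 (.leaf 14008082686))
 (.leaf 1764270830)))
 (.node (.node (.node (.leaf 32894487804)
 (.leaf 9411588353))
 (.leaf 24975862439))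
 (.node (.node (.leaf 17783436348)
 (.leaf 10127458421))
 (.leaf 40951984375)))))
 (.node (.node (.node (.node (.node (.leaf 24846014537)
 (.leaf 4191734439))
 (.leaf 36660341481))
 (.node (.node (.leaf 6860943614)
 (.leaf 29454890685))
 (.leaf 28470566129)))
 (.node (.node (.node (.leaf 27543733915)
 (.leaf 17886702141))
 (.leaf 3002614855))
 (.node (.node (.leaf 22986662077)
 (.leaf 40193867965))
 (.leaf 7124692220))))
 (.node (.node (.node (.node (.leaf 24221736687)
 (.leaf 1943063152))
 (.leaf 24894876407))
 (.node (.node (.leaf 11707937450)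
 (.leaf 11287998573))
 (.leaf 38161706220)))
 (.node (.node (.node (.leaf 4493236776)
 (.leaf 17108062910))
 (.leaf 13731406922))
 (.node (.leaf 8791147707)
 (.leaf 16684240116)))))))))))))

/-- the packed image of the base under the `i`-th element -/
def Bt (i : ℕ) : ℕ := BtT.get i

/-- unpacking -/
def unpackB (m : ℕ) : List ℕ := [m % 512, m / 512 % 512, m / 512 ^ 2 % 512, m / 512 ^ 3 % 512]

set_option maxRecDepth 1000000 in
theorem closedB0 : ∀ i ∈ List.range' 0 378, ∀ r ∈ List.range 2,
    (unpackB (Bt i)).map (ap 315 (cA r)) = unpackB (Bt (Tt r i)) := by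
  decide +kernel

set_option maxRecDepth 1000000 in
theorem closedB1 : ∀ i ∈ List.range' 378 378, ∀ r ∈ List.range 2,
    (unpackB (Bt i)).map (ap 315 (cA r)) = unpackB (Bt (Tt r i)) := by
  decide +kernel

set_option maxRecDepth 1000000 in
theorem closedB2 : ∀ i ∈ List.range' 756 378, ∀ r ∈ List.range 2,
    (unpackB (Bt i)).map (ap 315 (cA r)) = unpackB (Bt (Tt r i)) := by
  decide +kernel

set_option maxRecDepth 1000000 in
theorem closedB3 : ∀ i ∈ List.range' 1134 378, ∀ r ∈ List.range 2,
    (unpackB (Bt i)).map (ap 315 (cA r)) = unpackB (Bt (Tt r i)) := by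
  decide +kernel

set_option maxRecDepth 1000000 in
theorem closedB4 : ∀ i ∈ List.range' 1512 378, ∀ r ∈ List.range 2,
    (unpackB (Bt i)).map (ap 315 (cA r)) = unpackB (Bt (Tt r i)) := by
  decide +kernel

set_option maxRecDepth 1000000 in
theorem closedB5 : ∀ i ∈ List.range' 1890 378, ∀ r ∈ List.range 2,
    (unpackB (Bt i)).map (ap 315 (cA r)) = unpackB (Bt (Tt r i)) := by
  decide +kernel

set_option maxRecDepth 1000000 in
theorem closedB6 : ∀ i ∈ List.range' 2268 378, ∀ r ∈ List.range 2,
    (unpackB (Bt i)).map (ap 315 (cA r)) = unpackB (Bt (Tt r i)) := by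
  decide +kernel

set_option maxRecDepth 1000000 in
theorem closedB7 : ∀ i ∈ List.range' 2646 378, ∀ r ∈ List.range 2,
    (unpackB (Bt i)).map (ap 315 (cA r)) = unpackB (Bt (Tt r i)) := by
  decide +kernel

set_option maxRecDepth 1000000 in
theorem closedB8 : ∀ i ∈ List.range' 3024 378, ∀ r ∈ List.range 2,
    (unpackB (Bt i)).map (ap 315 (cA r)) = unpackB (Bt (Tt r i)) := by
  decide +kernel

set_option maxRecDepth 1000000 in
theorem closedB9 : ∀ i ∈ List.range' 3402 378, ∀ r ∈ List.range 2,
    (unpackB (Bt i)).map (ap 315 (cA r)) = unpackB (Bt (Tt r i)) := by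
  decide +kernel

set_option maxRecDepth 1000000 in
theorem closedB10 : ∀ i ∈ List.range' 3780 378, ∀ r ∈ List.range 2,
    (unpackB (Bt i)).map (ap 315 (cA r)) = unpackB (Bt (Tt r i)) := by
  decide +kernel

set_option maxRecDepth 1000000 in
theorem closedB11 : ∀ i ∈ List.range' 4158 378, ∀ r ∈ List.range 2,
    (unpackB (Bt i)).map (ap 315 (cA r)) = unpackB (Bt (Tt r i)) := by
  decide +kernel

set_option maxRecDepth 1000000 in
theorem closedB12 : ∀ i ∈ List.range' 4536 378, ∀ r ∈ List.range 2,
    (unpackB (Bt i)).map (ap 315 (cA r)) = unpackB (Bt (Tt r i)) := by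
  decide +kernel

set_option maxRecDepth 1000000 in
theorem closedB13 : ∀ i ∈ List.range' 4914 378, ∀ r ∈ List.range 2,
    (unpackB (Bt i)).map (ap 315 (cA r)) = unpackB (Bt (Tt r i)) := by
  decide +kernel

set_option maxRecDepth 1000000 in
theorem closedB14 : ∀ i ∈ List.range' 5292 378, ∀ r ∈ List.range 2,
    (unpackB (Bt i)).map (ap 315 (cA r)) = unpackB (Bt (Tt r i)) := by
  decide +kernel

set_option maxRecDepth 1000000 in
theorem closedB15 : ∀ i ∈ List.range' 5670 378, ∀ r ∈ List.range 2,
    (unpackB (Bt i)).map (ap 315 (cA r)) = unpackB (Bt (Tt r i)) := by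
  decide +kernel

theorem Bt_zero : unpackB (Bt 0) = rbPts := by decide +kernel

set_option maxRecDepth 1000000 in
theorem Bt_triv : ∀ i ∈ List.range 6048, unpackB (Bt i) = rbPts → i = 0 := by decide +kernel

/-! ### the action on the cosets -/

/-- the orbit of length 63 of the subgroup on the 315 points -/
def OL : List ℕ := [0, 1, 2, 35, 37, 40, 42, 43, 45, 48, 50, 52, 54, 55, 57, 59, 60, 61, 62, 71, 72, 73, 74, 109, 110, 111, 112, 117, 118, 119, 120, 135, 136, 137, 138, 155, 156, 157, 158, 167, 168, 169, 170, 187, 188, 189, 190, 228, 230, 231, 233, 236, 238, 239, 241, 244, 246, 247, 249, 252, 254, 255, 257]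

set_option maxRecDepth 1000000 in
theorem OL_inv : ∀ r ∈ List.range 2, ∀ x ∈ OL, ap 315 (cA r) x ∈ OL := by decide +kernel

set_option maxRecDepth 1000000 in
theorem OL_iff : ∀ r ∈ List.range 2,
    (allLt 315 fun x => OL.contains (ap 315 (cA r) x) == OL.contains x) = true := by decide +kernel

theorem OL_lt : ∀ x ∈ OL, x < 315 := by decide +kernel

theorem OL_nodup : OL.Nodup := by decide +kernel

/-- a representative of the double coset of length 36 -/
def wg1 : List ℕ := [c3, c2]

/-- a representative of the double coset of length 63 -/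
def wg2 : List ℕ := [c1]

/-- elements of the subgroup giving the 36 cosets -/
def W1 : List (List ℕ) := [[],
  [cA1],
  [cA1, cA1],
  [cA0, cA1, cA1],
  [cA1, cA1, cA1],
  [cA1, cA0, cA1, cA1],
  [cA1, cA1, cA1, cA1],
  [cA0, cA1, cA0, cA1, cA1],
  [cA0, cA1, cA1, cA1, cA1],
  [cA1, cA1, cA0, cA1, cA1],
  [cA1, cA1, cA1, cA1, cA1],
  [cA0, cA1, cA1, cA0, cA1, cA1],
  [cA0, cA1, cA1, cA1, cA1, cA1],
  [cA1, cA0, cA1, cA0, cA1, cA1],
  [cA1, cA0, cA1, cA1, cA1, cA1],
  [cA1, cA1, cA1, cA0, cA1, cA1],
  [cA0, cA1, cA1, cA1, cA0, cA1, cA1],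
  [cA1, cA0, cA1, cA1, cA0, cA1, cA1],
  [cA1, cA0, cA1, cA1, cA1, cA1, cA1],
  [cA1, cA1, cA0, cA1, cA0, cA1, cA1],
  [cA1, cA1, cA0, cA1, cA1, cA1, cA1],
  [cA0, cA1, cA0, cA1, cA1, cA0, cA1, cA1],
  [cA0, cA1, cA0, cA1, cA1, cA1, cA1, cA1],
  [cA0, cA1, cA1, cA0, cA1, cA1, cA1, cA1],
  [cA1, cA0, cA1, cA1, cA1, cA0, cA1, cA1],
  [cA1, cA1, cA0, cA1, cA1, cA0, cA1, cA1],
  [cA1, cA1, cA0, cA1, cA1, cA1, cA1, cA1],
  [cA1, cA1, cA1, cA0, cA1, cA1, cA1, cA1],
  [cA0, cA1, cA0, cA1, cA1, cA1, cA0, cA1, cA1],
  [cA1, cA0, cA1, cA0, cA1, cA1, cA1, cA1, cA1],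
  [cA1, cA0, cA1, cA1, cA0, cA1, cA1, cA1, cA1],
  [cA0, cA1, cA0, cA1, cA0, cA1, cA1, cA1, cA1, cA1],
  [cA0, cA1, cA0, cA1, cA1, cA0, cA1, cA1, cA1, cA1],
  [cA1, cA0, cA1, cA0, cA1, cA1, cA1, cA0, cA1, cA1],
  [cA1, cA0, cA1, cA0, cA1, cA0, cA1, cA1, cA1, cA1, cA1],
  [cA1, cA1, cA0, cA1, cA0, cA1, cA0, cA1, cA1, cA1, cA1, cA1]]

/-- elements of the subgroup giving the 63 cosets -/
def W2 : List (List ℕ) := [[],
  [cA0],
  [cA1],
  [cA0, cA1],
  [cA1, cA0],
  [cA1, cA1],
  [cA0, cA1, cA1],
  [cA1, cA0, cA1],
  [cA1, cA1, cA1],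
  [cA0, cA1, cA0, cA1],
  [cA1, cA0, cA1, cA1],
  [cA1, cA1, cA0, cA1],
  [cA1, cA1, cA1, cA1],
  [cA0, cA1, cA0, cA1, cA1],
  [cA0, cA1, cA1, cA1, cA1],
  [cA1, cA0, cA1, cA0, cA1],
  [cA1, cA1, cA0, cA1, cA1],
  [cA1, cA1, cA1, cA0, cA1],
  [cA1, cA1, cA1, cA1, cA1],
  [cA0, cA1, cA1, cA0, cA1, cA1],
  [cA1, cA0, cA1, cA0, cA1, cA1],
  [cA1, cA0, cA1, cA1, cA1, cA1],
  [cA1, cA1, cA0, cA1, cA0, cA1],
  [cA1, cA1, cA1, cA0, cA1, cA1],
  [cA1, cA1, cA1, cA1, cA0, cA1],
  [cA0, cA1, cA0, cA1, cA0, cA1, cA1],
  [cA0, cA1, cA0, cA1, cA1, cA1, cA1],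
  [cA0, cA1, cA1, cA0, cA1, cA0, cA1],
  [cA1, cA0, cA1, cA1, cA0, cA1, cA1],
  [cA1, cA1, cA0, cA1, cA0, cA1, cA1],
  [cA1, cA1, cA0, cA1, cA1, cA1, cA1],
  [cA1, cA1, cA1, cA0, cA1, cA0, cA1],
  [cA1, cA1, cA1, cA1, cA0, cA1, cA1],
  [cA1, cA1, cA1, cA1, cA1, cA0, cA1],
  [cA0, cA1, cA0, cA1, cA1, cA0, cA1, cA1],
  [cA0, cA1, cA1, cA0, cA1, cA1, cA1, cA1],
  [cA0, cA1, cA1, cA1, cA1, cA0, cA1, cA1],
  [cA1, cA0, cA1, cA0, cA1, cA1, cA1, cA1],
  [cA1, cA0, cA1, cA1, cA0, cA1, cA0, cA1],
  [cA1, cA1, cA1, cA0, cA1, cA1, cA1, cA1],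
  [cA1, cA1, cA1, cA1, cA0, cA1, cA0, cA1],
  [cA1, cA1, cA1, cA1, cA1, cA0, cA1, cA1],
  [cA0, cA1, cA0, cA1, cA0, cA1, cA1, cA1, cA1],
  [cA0, cA1, cA0, cA1, cA1, cA0, cA1, cA0, cA1],
  [cA0, cA1, cA1, cA1, cA1, cA1, cA0, cA1, cA1],
  [cA1, cA0, cA1, cA0, cA1, cA1, cA0, cA1, cA1],
  [cA1, cA0, cA1, cA1, cA0, cA1, cA1, cA1, cA1],
  [cA1, cA1, cA0, cA1, cA0, cA1, cA1, cA1, cA1],
  [cA1, cA1, cA0, cA1, cA1, cA0, cA1, cA0, cA1],
  [cA1, cA1, cA1, cA1, cA0, cA1, cA1, cA1, cA1],
  [cA1, cA1, cA1, cA1, cA1, cA0, cA1, cA0, cA1],
  [cA0, cA1, cA0, cA1, cA0, cA1, cA1, cA0, cA1, cA1],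
  [cA0, cA1, cA0, cA1, cA1, cA0, cA1, cA1, cA1, cA1],
  [cA0, cA1, cA1, cA1, cA1, cA0, cA1, cA1, cA1, cA1],
  [cA0, cA1, cA1, cA1, cA1, cA1, cA0, cA1, cA0, cA1],
  [cA1, cA0, cA1, cA0, cA1, cA0, cA1, cA1, cA1, cA1],
  [cA1, cA0, cA1, cA0, cA1, cA1, cA0, cA1, cA0, cA1],
  [cA1, cA0, cA1, cA1, cA1, cA1, cA1, cA0, cA1, cA1],
  [cA1, cA1, cA0, cA1, cA0, cA1, cA1, cA0, cA1, cA1],
  [cA1, cA1, cA1, cA0, cA1, cA0, cA1, cA1, cA1, cA1],
  [cA1, cA1, cA1, cA0, cA1, cA1, cA0, cA1, cA0, cA1],
  [cA1, cA0, cA1, cA1, cA1, cA1, cA1, cA0, cA1, cA0, cA1],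
  [cA1, cA1, cA0, cA1, cA0, cA1, cA1, cA0, cA1, cA0, cA1]]

/-- the image of the orbit under a word, as a mask -/
def mk (L : List ℕ) : ℕ := maskOf (OL.map (evalL 315 L))

set_option maxRecDepth 1000000 in
theorem masks_nodup : (mk [] :: ((W1.map fun w => mk (w ++ wg1)) ++
    (W2.map fun w => mk (w ++ wg2)))).Nodup := by decide +kernel

theorem W_gens : ∀ w ∈ W1 ++ W2, ∀ c ∈ w, c = cA0 ∨ c = cA1 := by decide +kernel

theorem W_len : W1.length = 36 ∧ W2.length = 63 := by decide +kernel

end Cfsg.Agent.Lib.Helper14.J2U3
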