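import Cfsg.Agent.Lib.Helper14.J2U3A
import Cfsg.Agent.Lib.Helper19.G2Iso

set_option autoImplicit false
set_option linter.style.haveILetI false

/-!
A subgroup of the permutation group of the Hall–Janko group on 315 points, isomorphic to
`PSU₃(3)`: the graph of the isomorphism with helper19's model of `SU₃(3)`.
-/

namespace Cfsg.Agent.Lib.Helper14.J2U3

open Cfsg.Agent.Lib.Helper10.SW Cfsg.Agent.Lib.Helper14.J2 Cfsg.Agent.Lib.Helper19.B2Enc
  Cfsg.Agent.Lib.Helper19.G2Data Cfsg.Agent.Lib.Helper19.G2Enc Cfsg.Agent.Lib.Helper19.G2Check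
  Cfsg.Agent.Lib.Helper19.G2Graph Cfsg.Agent.Lib.Helper19.PSU33Spec MulAction

attribute [local irreducible] perm

/-- the images of the base points -/
def bI (g : Equiv.Perm (Fin 315)) : List ℕ := [(g 0).val, (g 3).val, (g 1).val, (g 5).val]

theorem bI_one : bI 1 = rbPts := rfl

theorem bI_mul {c : ℕ} (hc : Valid 315 c) (g : Equiv.Perm (Fin 315)) :
    bI (perm 315 c * g) = (bI g).map (ap 315 c) := by
  unfold bI
  simp only [Equiv.Perm.mul_apply, perm_apply_val hc, List.map_cons, List.map_nil]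

theorem eq_of_bI {g g' : Equiv.Perm (Fin 315)} (hg : g ∈ autGroup 315 gam)
    (hg' : g' ∈ autGroup 315 gam) (h : bI g = bI g') : g = g' := by
  have h1 : g'⁻¹ * g = 1 := by
    apply rigid5 _ (Subgroup.mul_mem _ (Subgroup.inv_mem _ hg') hg)
    unfold bI at h
    simp only [List.cons.injEq, and_true] at h
    obtain ⟨e0, e3, e1, e5⟩ := h
    intro x hx hxn
    rw [Equiv.Perm.mul_apply, Equiv.Perm.inv_eq_iff_eq]
    unfold rbPts at hx
    simp only [List.mem_cons, List.not_mem_nil, or_false] at hx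
    rcases hx with rfl | rfl | rfl | rfl
    · exact Fin.ext e0
    · exact Fin.ext e3
    · exact Fin.ext e1
    · exact Fin.ext e5
  exact (inv_mul_eq_one.mp h1).symm

/-! ### the generators -/

theorem cA1_valid : Valid 315 cA1 := valid_of_invOf ((invB_iff _ _ _).mp cA1_inv)

theorem cA1_autG : perm 315 cA1 ∈ autGroup 315 gam := isAut_of_autOk rows_ok cA1_valid cA1_aut

theorem cA1_mem : perm 315 cA1 ∈ PJ := by
  have hv : ∀ d ∈ topGens, Valid 315 d ∧ perm 315 d ∈ autGroup 315 gam :=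
    fun d hd => ⟨valid_top hd, PJ_le_aut (perm_mem_PJ hd)⟩
  have h := prodL_eq_of_bimg (L1 := [cA1]) (L2 := wA1) (by
    intro d hd
    simp only [List.mem_cons, List.not_mem_nil, or_false] at hd
    subst hd
    exact ⟨cA1_valid, cA1_autG⟩) (fun d hd => hv d (wA1_top d hd)) cA1_word
  rw [prodL_cons, prodL_nil, mul_one] at h
  rw [h]
  exact prodL_mem fun d hd => perm_mem_PJ (wA1_top d hd)

theorem cA_valid (r : Fin 2) : Valid 315 (cA r.val) := by
  fin_cases r
  · exact valid_top h0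
  · exact cA1_valid

theorem cA_mem (r : Fin 2) : perm 315 (cA r.val) ∈ PJ := by
  fin_cases r
  · exact perm_mem_PJ h0
  · exact cA1_mem

/-! ### the graph -/

theorem closedB (i r : ℕ) (hi : i < 6048) (hr : r < 2) :
    (unpackB (Bt i)).map (ap 315 (cA r)) = unpackB (Bt (Tt r i)) := by
  have hr' : r ∈ List.range 2 := List.mem_range.2 hr
  by_cases h0 : i < 378
  · exact closedB0 i (List.mem_range'_1.2 ⟨by omega, by omega⟩) r hr'
  by_cases h1 : i < 756
  · exact closedB1 i (List.mem_range'_1.2 ⟨by omega, by omega⟩) r hr'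
  by_cases h2 : i < 1134
  · exact closedB2 i (List.mem_range'_1.2 ⟨by omega, by omega⟩) r hr'
  by_cases h3 : i < 1512
  · exact closedB3 i (List.mem_range'_1.2 ⟨by omega, by omega⟩) r hr'
  by_cases h4 : i < 1890
  · exact closedB4 i (List.mem_range'_1.2 ⟨by omega, by omega⟩) r hr'
  by_cases h5 : i < 2268
  · exact closedB5 i (List.mem_range'_1.2 ⟨by omega, by omega⟩) r hr'
  by_cases h6 : i < 2646
  · exact closedB6 i (List.mem_range'_1.2 ⟨by omega, by omega⟩) r hr'
  by_cases h7 : i < 3024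
  · exact closedB7 i (List.mem_range'_1.2 ⟨by omega, by omega⟩) r hr'
  by_cases h8 : i < 3402
  · exact closedB8 i (List.mem_range'_1.2 ⟨by omega, by omega⟩) r hr'
  by_cases h9 : i < 3780
  · exact closedB9 i (List.mem_range'_1.2 ⟨by omega, by omega⟩) r hr'
  by_cases h10 : i < 4158
  · exact closedB10 i (List.mem_range'_1.2 ⟨by omega, by omega⟩) r hr'
  by_cases h11 : i < 4536
  · exact closedB11 i (List.mem_range'_1.2 ⟨by omega, by omega⟩) r hr'
  by_cases h12 : i < 4914
  · exact closedB12 i (List.mem_range'_1.2 ⟨by omega, by omega⟩) r hr'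
  by_cases h13 : i < 5292
  · exact closedB13 i (List.mem_range'_1.2 ⟨by omega, by omega⟩) r hr'
  by_cases h14 : i < 5670
  · exact closedB14 i (List.mem_range'_1.2 ⟨by omega, by omega⟩) r hr'
  · exact closedB15 i (List.mem_range'_1.2 ⟨by omega, by omega⟩) r hr'

/-- the generating pairs -/
def gensJ : Set (Equiv.Perm (Fin 315) × SLK) :=
  Set.range fun r : Fin 2 => (perm 315 (cA r.val), BG r)

/-- the graph of the isomorphism -/
def GamJ : Subgroup (Equiv.Perm (Fin 315) × SLK) := Subgroup.closure gensJ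

/-- the listed pairs -/
def SJ : Set (Equiv.Perm (Fin 315) × SLK) := {p | p.1 ∈ PJ ∧ ∃ i, i < 6048 ∧
  bI p.1 = unpackB (Bt i) ∧ (p.2 : M9) = dec9 (Ui i)}

theorem gen_mul_mem (r : Fin 2) {p : Equiv.Perm (Fin 315) × SLK} (hp : p ∈ SJ) :
    (perm 315 (cA r.val), BG r) * p ∈ SJ := by
  obtain ⟨hPJ, i, hi, h1, h2⟩ := hp
  obtain ⟨_, c2, c3⟩ := closed i r.val hi r.isLt
  refine ⟨PJ.mul_mem (cA_mem r) hPJ, Tt r.val i, c3, ?_, ?_⟩
  · show bI (perm 315 (cA r.val) * p.1) = _
    rw [bI_mul (cA_valid r), h1]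
    exact closedB i r.val hi r.isLt
  · show ((BG r * p.2 : SLK) : M9) = _
    rw [Matrix.SpecialLinearGroup.coe_mul, h2]
    show dec9 (BE r.val) * dec9 (Ui i) = _
    rw [← dec9_mul, c2]

/-- a subset of a finite group closed under left multiplication by an element is closed under
left multiplication by its inverse -/
theorem inv_mul_mem_of_closed {G : Type*} [Group G] [Finite G] (S : Set G) (g : G)
    (h : ∀ p ∈ S, g * p ∈ S) : ∀ p ∈ S, g⁻¹ * p ∈ S := by
  intro p hp
  let f : S → S := fun q => ⟨g * q.1, h q.1 q.2⟩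
  have hf : Function.Injective f := by
    intro a b hab
    have := congrArg Subtype.val hab
    exact Subtype.ext (mul_left_cancel this)
  obtain ⟨q, hq⟩ := (Finite.injective_iff_surjective.mp hf) ⟨p, hp⟩
  have hq' : g * q.1 = p := congrArg Subtype.val hq
  rw [← hq', inv_mul_cancel_left]
  exact q.2

instance : Finite SLK := inferInstance

theorem gen_inv_mul_mem (r : Fin 2) {p : Equiv.Perm (Fin 315) × SLK} (hp : p ∈ SJ) :
    ((perm 315 (cA r.val), BG r) : Equiv.Perm (Fin 315) × SLK)⁻¹ * p ∈ SJ :=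
  inv_mul_mem_of_closed SJ _ (fun _ hq => gen_mul_mem r hq) p hp

theorem one_mem_SJ : (1 : Equiv.Perm (Fin 315) × SLK) ∈ SJ := by
  refine ⟨PJ.one_mem, 0, by norm_num, ?_, ?_⟩
  · rw [Bt_zero]; rfl
  · rw [Ui_zero, dec9_one]; rfl

theorem mem_SJ_of_mem_GamJ {p : Equiv.Perm (Fin 315) × SLK} (hp : p ∈ GamJ) : p ∈ SJ := by
  refine Subgroup.closure_induction_left (p := fun x _ => x ∈ SJ) one_mem_SJ ?_ ?_ hp
  · rintro x ⟨r, rfl⟩ y _ hy
    exact gen_mul_mem r hy
  · rintro x ⟨r, rfl⟩ y _ hy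
    exact gen_inv_mul_mem r hy

theorem snd_eq_one {p : Equiv.Perm (Fin 315) × SLK} (hp : p ∈ GamJ) (h : p.1 = 1) : p.2 = 1 := by
  obtain ⟨_, i, hi, h1, h2⟩ := mem_SJ_of_mem_GamJ hp
  have h3 : i = 0 := Bt_triv i (List.mem_range.2 hi) (by rw [← h1, h]; rfl)
  apply Subtype.ext
  rw [h2, h3, Ui_zero, dec9_one]
  rfl

theorem fst_eq_one {p : Equiv.Perm (Fin 315) × SLK} (hp : p ∈ GamJ) (h : p.2 = 1) : p.1 = 1 := by
  obtain ⟨hPJ, i, hi, h1, h2⟩ := mem_SJ_of_mem_GamJ hp
  have h3 : i = 0 := (triv i (List.mem_range.2 hi)).2 (by rw [← h2, h]; rfl)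
  apply eq_of_bI (PJ_le_aut hPJ) (Subgroup.one_mem _)
  rw [h1, h3, Bt_zero]
  rfl

/-- first projection -/
def f1 : GamJ →* Equiv.Perm (Fin 315) :=
  (MonoidHom.fst (Equiv.Perm (Fin 315)) SLK).comp GamJ.subtype

/-- second projection -/
def f2 : GamJ →* SLK := (MonoidHom.snd (Equiv.Perm (Fin 315)) SLK).comp GamJ.subtype

theorem f1_inj : Function.Injective f1 := by
  rw [injective_iff_map_eq_one]
  intro x hx
  apply Subtype.ext
  exact Prod.ext hx (snd_eq_one x.2 hx)

theorem f2_inj : Function.Injective f2 := by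
  rw [injective_iff_map_eq_one]
  intro x hx
  apply Subtype.ext
  exact Prod.ext (fst_eq_one x.2 hx) hx

/-- the subgroup of order 6048 -/
def HJ : Subgroup (Equiv.Perm (Fin 315)) :=
  Subgroup.closure (Set.range fun r : Fin 2 => perm 315 (cA r.val))

theorem f1_range : f1.range = HJ := by
  have h : f1.range = GamJ.map (MonoidHom.fst (Equiv.Perm (Fin 315)) SLK) := by
    rw [f1, ← MonoidHom.map_range, Subgroup.range_subtype]
  rw [h, GamJ, MonoidHom.map_closure, HJ]
  congr 1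
  ext g
  simp only [gensJ, Set.mem_image, Set.mem_range]
  constructor
  · rintro ⟨_, ⟨r, rfl⟩, rfl⟩
    exact ⟨r, rfl⟩
  · rintro ⟨r, rfl⟩
    exact ⟨_, ⟨r, rfl⟩, rfl⟩

theorem f2_range : f2.range = T0 := by
  have h : f2.range = GamJ.map (MonoidHom.snd (Equiv.Perm (Fin 315)) SLK) := by
    rw [f2, ← MonoidHom.map_range, Subgroup.range_subtype]
  rw [h, GamJ, MonoidHom.map_closure, T0]
  congr 1
  ext g
  simp only [gensJ, Set.mem_image, Set.mem_range]
  constructor
  · rintro ⟨_, ⟨r, rfl⟩, rfl⟩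
    exact ⟨r, rfl⟩
  · rintro ⟨r, rfl⟩
    exact ⟨_, ⟨r, rfl⟩, rfl⟩

/-- the isomorphism with the model of the unitary group -/
noncomputable def isoHJT0 : HJ ≃* T0 :=
  ((MulEquiv.subgroupCongr f1_range).symm.trans (MonoidHom.ofInjective f1_inj).symm).trans
    ((MonoidHom.ofInjective f2_inj).trans (MulEquiv.subgroupCongr f2_range))

/-- the isomorphism with the projective special unitary group -/
noncomputable def isoHJ : HJ ≃* Cfsg.PSU 3 K9 3 :=
  isoHJT0.trans (MulEquiv.ofBijective (Cfsg.Agent.Lib.Helper19.G2Iso.psi card_K9)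
    (Cfsg.Agent.Lib.Helper19.G2Iso.psi_bijective card_K9))

theorem card_HJ : Nat.card HJ = 6048 := by
  rw [Nat.card_congr isoHJ.toEquiv]
  exact Cfsg.Agent.Lib.Helper19.G2Iso.card_PSU card_K9

theorem HJ_le : HJ ≤ PJ := by
  unfold HJ
  rw [Subgroup.closure_le]
  rintro _ ⟨r, rfl⟩
  exact cA_mem r

end Cfsg.Agent.Lib.Helper14.J2U3
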