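import Cfsg.Agent.Lib.Helper14.J2U3B
import Cfsg.Agent.Lib.Helper14.J2Link
import Cfsg.Agent.Lib.Helper14.CosetOrbits

set_option autoImplicit false
set_option linter.style.haveILetI false

/-!
The Hall–Janko group has a subgroup of index 100 isomorphic to `PSU₃(3)`, with orbits of lengths
36 and 63 on its cosets.
-/

namespace Cfsg.Agent.Lib.Helper14.J2U3

open Cfsg.Agent.Lib.Helper10.SW Cfsg.Agent.Lib.Helper14.J2 Cfsg.Spor
  Cfsg.Agent.Lib.Helper19.PSU33Spec MulAction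

attribute [local irreducible] perm

/-- the point with a given number -/
def ofN (x : ℕ) : Fin 315 := Fin.ofNat 315 x

theorem ofN_val {x : ℕ} (hx : x < 315) : (ofN x).val = x := Nat.mod_eq_of_lt hx

theorem ofN_self (p : Fin 315) : ofN p.val = p := Fin.ext (Nat.mod_eq_of_lt p.isLt)

/-- the orbit of length 63 -/
def OS : Set (Fin 315) := {p | p.val ∈ OL}

/-- the permutations preserving the orbit -/
def KO : Subgroup (Equiv.Perm (Fin 315)) where
  carrier := {b | ∀ p, b p ∈ OS ↔ p ∈ OS}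
  one_mem' := fun _ => Iff.rfl
  mul_mem' := by
    intro a b ha hb p
    rw [Equiv.Perm.mul_apply, ha, hb]
  inv_mem' := by
    intro a ha p
    have h := ha (a⁻¹ p)
    rw [show a (a⁻¹ p) = p from a.apply_symm_apply p] at h
    exact h.symm

theorem HJ_le_KO : HJ ≤ KO := by
  unfold HJ
  rw [Subgroup.closure_le]
  rintro _ ⟨r, rfl⟩ p
  have h := (allLt_iff _ _).mp (OL_iff r.val (List.mem_range.2 r.isLt)) p.val p.isLt
  rw [beq_iff_eq] at h
  show (perm 315 (cA r.val) p).val ∈ OL ↔ p.val ∈ OL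
  rw [perm_apply_val (cA_valid r), ← List.contains_iff_mem, ← List.contains_iff_mem, h]

/-- the image of the orbit under a permutation, as a mask -/
def PhiP (σ : Equiv.Perm (Fin 315)) : ℕ := maskOf (OL.map fun x => (σ (ofN x)).val)

theorem mem_PhiP (σ : Equiv.Perm (Fin 315)) (z : ℕ) :
    (PhiP σ).testBit z = true ↔ ∃ q ∈ OS, (σ q).val = z := by
  unfold PhiP
  rw [testBit_maskOf, List.mem_map]
  constructor
  · rintro ⟨x, hx, rfl⟩
    refine ⟨ofN x, ?_, rfl⟩
    show (ofN x).val ∈ OL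
    rw [ofN_val (OL_lt x hx)]
    exact hx
  · rintro ⟨q, hq, rfl⟩
    exact ⟨q.val, hq, by rw [ofN_self]⟩

theorem PhiP_mul (σ : Equiv.Perm (Fin 315)) {b : Equiv.Perm (Fin 315)} (hb : b ∈ KO) :
    PhiP (σ * b) = PhiP σ := by
  apply Nat.eq_of_testBit_eq
  intro z
  rw [Bool.eq_iff_iff, mem_PhiP, mem_PhiP]
  constructor
  · rintro ⟨q, hq, rfl⟩
    exact ⟨b q, (hb q).mpr hq, rfl⟩
  · rintro ⟨q, hq, rfl⟩
    refine ⟨b⁻¹ q, (KO.inv_mem hb q).mpr hq, ?_⟩
    rw [Equiv.Perm.mul_apply, show b (b⁻¹ q) = q from b.apply_symm_apply q]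

theorem PhiP_prodL {L : List ℕ} (hL : ∀ c ∈ L, Valid 315 c) : PhiP (prodL 315 L) = mk L := by
  unfold PhiP mk
  congr 1
  apply List.map_congr_left
  intro x hx
  rw [prodL_apply_val L hL, ofN_val (OL_lt x hx)]

/-! ### the subgroup of the Hall–Janko group -/

/-- the subgroup of index 100 -/
noncomputable def HJ2 : Subgroup J2 := (HJ.subgroupOf PJ).comap j2Equiv.toMonoidHom

theorem mem_HJ2 (g : J2) : g ∈ HJ2 ↔ ((j2Equiv g : ↥PJ) : Equiv.Perm (Fin 315)) ∈ HJ := Iff.rfl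

/-- the subgroup is isomorphic to the permutation group -/
noncomputable def isoHJ2 : ↥HJ2 ≃* ↥HJ where
  toFun g := ⟨(j2Equiv g.1).1, g.2⟩
  invFun y := ⟨j2Equiv.symm ⟨y.1, HJ_le y.2⟩, by
    rw [mem_HJ2, MulEquiv.apply_symm_apply]
    exact y.2⟩
  left_inv g := by
    apply Subtype.ext
    show j2Equiv.symm ⟨(j2Equiv g.1).1, _⟩ = g.1
    exact j2Equiv.symm_apply_apply g.1
  right_inv y := by
    apply Subtype.ext
    show ((j2Equiv (j2Equiv.symm ⟨y.1, HJ_le y.2⟩) : ↥PJ) : Equiv.Perm (Fin 315)) = y.1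
    rw [MulEquiv.apply_symm_apply]
  map_mul' a b := by
    apply Subtype.ext
    show ((j2Equiv (a.1 * b.1) : ↥PJ) : Equiv.Perm (Fin 315)) = (j2Equiv a.1).1 * (j2Equiv b.1).1
    rw [map_mul]
    rfl

theorem card_HJ2 : Nat.card ↥HJ2 = 6048 := by
  rw [Nat.card_congr isoHJ2.toEquiv]
  exact card_HJ

theorem index_HJ2 : HJ2.index = 100 := by
  have h := HJ2.card_mul_index
  rw [card_HJ2, card_J2] at h
  omega

/-- the coset invariant -/
noncomputable def Phi (g : J2) : ℕ := PhiP (j2Equiv g).1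

theorem Phi_mul (g : J2) (h : J2) (hh : h ∈ HJ2) : Phi (g * h) = Phi g := by
  unfold Phi
  rw [map_mul]
  exact PhiP_mul _ (HJ_le_KO ((mem_HJ2 h).mp hh))

open Classical in
/-- the element of the group defined by a word -/
noncomputable def ev (w : List ℕ) : J2 :=
  j2Equiv.symm (if h : prodL 315 w ∈ PJ then ⟨prodL 315 w, h⟩ else 1)

theorem ev_val {w : List ℕ} (h : prodL 315 w ∈ PJ) :
    ((j2Equiv (ev w) : ↥PJ) : Equiv.Perm (Fin 315)) = prodL 315 w := by
  unfold ev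
  rw [MulEquiv.apply_symm_apply, dif_pos h]

/-- the codes used in the words -/
def GoodC (c : ℕ) : Prop := Valid 315 c ∧ perm 315 c ∈ PJ

theorem goodC_top {c : ℕ} (hc : c ∈ topGens) : GoodC c := ⟨valid_top hc, perm_mem_PJ hc⟩

theorem goodC_A {c : ℕ} (hc : c = cA0 ∨ c = cA1) : GoodC c := by
  rcases hc with rfl | rfl
  · exact ⟨cA_valid 0, cA_mem 0⟩
  · exact ⟨cA_valid 1, cA_mem 1⟩

theorem Phi_ev_mul {w w' : List ℕ} (hw : ∀ c ∈ w, GoodC c) (hw' : ∀ c ∈ w', GoodC c) :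
    Phi (ev w * ev w') = mk (w ++ w') := by
  have h1 : prodL 315 w ∈ PJ := prodL_mem fun c hc => (hw c hc).2
  have h2 : prodL 315 w' ∈ PJ := prodL_mem fun c hc => (hw' c hc).2
  unfold Phi
  rw [map_mul]
  show PhiP ((j2Equiv (ev w)).1 * (j2Equiv (ev w')).1) = _
  rw [ev_val h1, ev_val h2, ← prodL_append]
  apply PhiP_prodL
  intro c hc
  rcases List.mem_append.mp hc with h | h
  · exact (hw c h).1
  · exact (hw' c h).1

theorem ev_mem_HJ2 {w : List ℕ} (hw : ∀ c ∈ w, c = cA0 ∨ c = cA1) : ev w ∈ HJ2 := by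
  have h1 : prodL 315 w ∈ HJ := by
    apply prodL_mem
    intro c hc
    rcases hw c hc with rfl | rfl
    · exact Subgroup.subset_closure ⟨0, rfl⟩
    · exact Subgroup.subset_closure ⟨1, rfl⟩
  rw [mem_HJ2, ev_val (HJ_le h1)]
  exact h1

theorem wg1_good : ∀ c ∈ wg1, GoodC c := by
  intro c hc
  apply goodC_top
  unfold wg1 at hc
  simp only [List.mem_cons, List.not_mem_nil, or_false] at hc
  rcases hc with rfl | rfl
  · exact h3
  · exact h2

theorem wg2_good : ∀ c ∈ wg2, GoodC c := by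
  intro c hc
  apply goodC_top
  unfold wg2 at hc
  simp only [List.mem_cons, List.not_mem_nil, or_false] at hc
  subst hc
  exact h1

theorem Phi_one : Phi 1 = mk [] := by
  unfold Phi
  rw [map_one]
  exact PhiP_prodL (L := []) (fun c hc => absurd hc List.not_mem_nil)

/-- the orbits of the subgroup on its cosets -/
theorem orbits_HJ2 :
    (orbit ↥HJ2 ((ev wg1 : J2) : J2 ⧸ HJ2)).ncard = 36 ∧
      (orbit ↥HJ2 ((ev wg2 : J2) : J2 ⧸ HJ2)).ncard = 63 := by
  have hW1 : ∀ w ∈ W1, ∀ c ∈ w, c = cA0 ∨ c = cA1 :=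
    fun w hw => W_gens w (List.mem_append_left _ hw)
  have hW2 : ∀ w ∈ W2, ∀ c ∈ w, c = cA0 ∨ c = cA1 :=
    fun w hw => W_gens w (List.mem_append_right _ hw)
  apply Cfsg.Agent.Lib.Helper14.CosetOrbits.orbits_36_63 HJ2 index_HJ2 card_HJ2 Phi Phi_mul
    (ev wg1) (ev wg2) (W1.map ev) (W2.map ev)
  · intro x hx
    obtain ⟨w, hw, rfl⟩ := List.mem_map.mp hx
    exact ev_mem_HJ2 (hW1 w hw)
  · intro x hx
    obtain ⟨w, hw, rfl⟩ := List.mem_map.mp hx
    exact ev_mem_HJ2 (hW2 w hw)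
  · rw [List.length_map, W_len.1]
  · rw [List.length_map, W_len.2]
  · have e1 : ((W1.map ev).map fun x => Phi (x * ev wg1)) = W1.map fun w => mk (w ++ wg1) := by
      rw [List.map_map]
      apply List.map_congr_left
      intro w hw
      exact Phi_ev_mul (fun c hc => goodC_A (hW1 w hw c hc)) wg1_good
    have e2 : ((W2.map ev).map fun x => Phi (x * ev wg2)) = W2.map fun w => mk (w ++ wg2) := by
      rw [List.map_map]
      apply List.map_congr_left
      intro w hw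
      exact Phi_ev_mul (fun c hc => goodC_A (hW2 w hw c hc)) wg2_good
    rw [e1, e2, Phi_one]
    exact masks_nodup

/-- the subgroup is isomorphic to the projective special unitary group -/
noncomputable def isoPSU : ↥HJ2 ≃* Cfsg.PSU 3 K9 3 := isoHJ2.trans isoHJ

/-- the Hall–Janko group has a subgroup of index 100 isomorphic to `PSU₃(3)` with orbits of
lengths 36 and 63 on the cosets -/
theorem main : ∃ H : Subgroup J2, H.index = 100 ∧
    (∃ (F : Type) (_ : Field F) (_ : Fintype F), Fintype.card F = 9 ∧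
      Nonempty (↥H ≃* Cfsg.PSU 3 F 3)) ∧
    ∃ c₁ c₂ : J2 ⧸ H, (orbit ↥H c₁).ncard = 36 ∧ (orbit ↥H c₂).ncard = 63 :=
  ⟨HJ2, index_HJ2, ⟨K9, inferInstance, fintypeK9, card_K9, ⟨isoPSU⟩⟩,
    _, _, orbits_HJ2⟩

end Cfsg.Agent.Lib.Helper14.J2U3
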