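import Mathlib
import Cfsg.Agent.Lib.Helper14.J2SylI
import Cfsg.Agent.Lib.Helper14.J2RecZb

/-!
helper14: uniqueness of `J₂` (S1720 / S1665 / S1651), part A: the subgroup
`A' = C_G(f) ∩ C_G(b) ≅ A₅`.
-/

set_option autoImplicit false
open scoped commutatorElement

namespace Cfsg.Agent.Lib.Helper14.J2Uni

open Cfsg.Agent.Lib.Helper14.EO2 Cfsg.Agent.Lib.Helper14.LES Cfsg.Agent.Lib.Helper20.ES
open Cfsg.Agent.Lib.Helper14.J2Ord Cfsg.Agent.Lib.Helper14.J2Rec Cfsg.Agent.Lib.Helper14.J2Syl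

variable {G : Type*} [Group G] [Finite G]

/-- `A' = C_G(f) ∩ C_G(b)` -/
def Ap (b f : G) : Subgroup G :=
  Subgroup.centralizer ({f} : Set G) ⊓ Subgroup.centralizer ({b} : Set G)

theorem mem_Ap {b f x : G} : x ∈ Ap b f ↔ x * f = f * x ∧ x * b = b * x := by
  unfold Ap
  rw [Subgroup.mem_inf, mem_cent_iff, mem_cent_iff]

variable {z t : G} {V B : Subgroup G} {b f : G}
  {π : ↥(Subgroup.centralizer ({f} : Set G)) →* alternatingGroup (Fin 5)} {P : Sylow 5 G}

/-- the restriction of `π` to `A'` -/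
def piAp (b : G) (π : ↥(Subgroup.centralizer ({f} : Set G)) →* alternatingGroup (Fin 5)) :
    ↥(Ap b f) →* alternatingGroup (Fin 5) :=
  π.comp (Subgroup.inclusion (inf_le_left : Ap b f ≤ Subgroup.centralizer ({f} : Set G)))

theorem pow_eq_one_of_sq {g : G} (h5 : g ^ 5 = 1) (h2 : g ^ 2 = 1) : g = 1 := by
  calc g = g ^ 5 * (g ^ 2)⁻¹ * (g ^ 2)⁻¹ := by group
    _ = 1 := by rw [h5, h2]; group

theorem piAp_injective (S : F5P z t V B b f π P) : Function.Injective (piAp b π) := by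
  rw [injective_iff_map_eq_one]
  intro x hx
  have hx' : π (Subgroup.inclusion (inf_le_left : Ap b f ≤ Subgroup.centralizer ({f} : Set G)) x)
      = 1 := hx
  obtain ⟨i, hi⟩ := (S.ker _).mp hx'
  have hxi : (x : G) = f ^ i := hi
  have hxb : (x : G) * b = b * (x : G) := (mem_Ap.mp x.2).2
  have h1 : b * f ^ i * b⁻¹ = (f ^ i)⁻¹ := S.conj_b_pow i
  have h2 : b * f ^ i * b⁻¹ = f ^ i := by
    rw [← hxi, ← hxb]; group
  have h3 : (f ^ i) ^ 2 = 1 := by
    rw [pow_two]
    have : (f ^ i)⁻¹ = f ^ i := h1.symm.trans h2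
    calc f ^ i * f ^ i = f ^ i * (f ^ i)⁻¹ := by rw [this]
      _ = 1 := mul_inv_cancel _
  have h4 : (f ^ i) ^ 5 = 1 := by
    rw [← pow_mul, mul_comm, pow_mul, S.base.f5', one_pow]
  have h5 := pow_eq_one_of_sq h4 h3
  apply Subtype.ext
  rw [hxi, h5]; rfl

theorem piAp_surjective (S : F5P z t V B b f π P) : Function.Surjective (piAp b π) := by
  intro σ
  obtain ⟨y, hy⟩ := S.surj σ
  have hyf : (y : G) * f = f * (y : G) := (mem_cent_iff f y.1).mp y.2
  obtain ⟨i, hi⟩ := S.b_action hyf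
  -- `y' = y f^(3 i)` commutes with `b`
  have hf5 := S.base.f5'
  have hbf : ∀ j : ℕ, b * f ^ j * b⁻¹ = (f ^ j)⁻¹ := S.conj_b_pow
  have hyfj : ∀ j : ℕ, (y : G) * f ^ j = f ^ j * (y : G) := by
    intro j
    induction j with
    | zero => simp
    | succ j ih =>
      calc (y : G) * f ^ (j + 1) = ((y : G) * f ^ j) * f := by rw [pow_succ]; group
        _ = f ^ j * ((y : G) * f) := by rw [ih]; group
        _ = f ^ j * (f * (y : G)) := by rw [hyf]
        _ = f ^ (j + 1) * (y : G) := by rw [pow_succ]; group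
  have hmem : (y : G) * f ^ (3 * i) ∈ Ap b f := by
    rw [mem_Ap]
    constructor
    · calc (y : G) * f ^ (3 * i) * f = (y : G) * f * f ^ (3 * i) := by
            rw [mul_assoc, mul_assoc, ← pow_succ, ← pow_succ']
        _ = f * ((y : G) * f ^ (3 * i)) := by rw [hyf]; group
    · have h1 : b * ((y : G) * f ^ (3 * i)) * b⁻¹ = (y : G) * f ^ (3 * i) := by
        calc b * ((y : G) * f ^ (3 * i)) * b⁻¹ = (b * (y : G) * b⁻¹) * (b * f ^ (3 * i) * b⁻¹) := by
              group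
          _ = (y : G) * f ^ i * (f ^ (3 * i))⁻¹ := by rw [hi, hbf]
          _ = (y : G) * (f ^ i * (f ^ (3 * i))⁻¹) := by group
          _ = (y : G) * f ^ (3 * i) := by
              congr 1
              have h6 : f ^ (3 * i) * f ^ (3 * i) = f ^ i := by
                rw [← pow_add]
                have : 3 * i + 3 * i = i + 5 * i := by ring
                rw [this, pow_add, mul_comm 5 i, pow_mul]
                have : (f ^ i) ^ 5 = 1 := by
                  rw [← pow_mul, mul_comm, pow_mul, hf5, one_pow]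
                rw [this, mul_one]
              rw [← h6]; group
      calc (y : G) * f ^ (3 * i) * b = (b * ((y : G) * f ^ (3 * i)) * b⁻¹) * b := by rw [h1]
        _ = b * ((y : G) * f ^ (3 * i)) := by group
  refine ⟨⟨(y : G) * f ^ (3 * i), hmem⟩, ?_⟩
  show π (Subgroup.inclusion inf_le_left ⟨(y : G) * f ^ (3 * i), hmem⟩) = σ
  have hfC : f ^ (3 * i) ∈ Subgroup.centralizer ({f} : Set G) :=
    Subgroup.pow_mem _ (F5.f_mem_cent f) _
  have e : (Subgroup.inclusion (inf_le_left : Ap b f ≤ Subgroup.centralizer ({f} : Set G))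
      ⟨(y : G) * f ^ (3 * i), hmem⟩) = y * ⟨f ^ (3 * i), hfC⟩ := by
    apply Subtype.ext; rfl
  rw [e, map_mul, hy]
  have : π ⟨f ^ (3 * i), hfC⟩ = 1 := (S.ker _).mpr ⟨3 * i, rfl⟩
  rw [this, mul_one]

/-- `A' ≅ A₅` -/
noncomputable def apEquiv (S : F5P z t V B b f π P) : ↥(Ap b f) ≃* alternatingGroup (Fin 5) :=
  MulEquiv.ofBijective (piAp b π) ⟨piAp_injective S, piAp_surjective S⟩

/-- `C_G(B) ∩ N_G(V) ≤ A'` -/
theorem CN_le_Ap (S : F5 z t V B b f) : TS.CN V B ≤ Ap b f := by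
  intro c hc
  rw [mem_Ap]
  exact ⟨S.ts.CN_comm c hc f S.fB, S.ts.CN_comm c hc b S.bB⟩

end Cfsg.Agent.Lib.Helper14.J2Uni
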