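import Mathlib

/-!
helper14: uniqueness of `J₂` (S1720 / S1665 / S1651), part B0: the standard permutations of
degree 5 and two normalization lemmas (decidable facts about `Perm (Fin 5)`).
-/

set_option autoImplicit false
set_option maxRecDepth 1000000

namespace Cfsg.Agent.Lib.Helper14.J2Uni

open Equiv

/-- `(1 2)(3 4)` -/
def σu : Perm (Fin 5) := ⟨![0, 2, 1, 4, 3], ![0, 2, 1, 4, 3], by decide, by decide⟩
/-- `(0 2 4)` -/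
def σw : Perm (Fin 5) := ⟨![2, 1, 4, 3, 0], ![4, 1, 0, 3, 2], by decide, by decide⟩
/-- `(0 1 2 3 4)` -/
def σf : Perm (Fin 5) := ⟨![1, 2, 3, 4, 0], ![4, 0, 1, 2, 3], by decide, by decide⟩
/-- `(0 1)(2 4)` -/
def σb : Perm (Fin 5) := ⟨![1, 0, 4, 3, 2], ![1, 0, 4, 3, 2], by decide, by decide⟩
/-- `(0 2)(1 4)` -/
def σa : Perm (Fin 5) := ⟨![2, 4, 0, 3, 1], ![2, 4, 0, 3, 1], by decide, by decide⟩
/-- `(1 3 2)` -/
def σρ : Perm (Fin 5) := ⟨![0, 3, 1, 2, 4], ![0, 2, 3, 1, 4], by decide, by decide⟩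
/-- `(0 2 1 4)` -/
def σα : Perm (Fin 5) := ⟨![2, 4, 1, 3, 0], ![4, 2, 0, 3, 1], by decide, by decide⟩

theorem sign_σu : Perm.sign σu = 1 := by decide
theorem sign_σw : Perm.sign σw = 1 := by decide
theorem sign_σf : Perm.sign σf = 1 := by decide
theorem sign_σb : Perm.sign σb = 1 := by decide
theorem sign_σa : Perm.sign σa = 1 := by decide
theorem sign_σρ : Perm.sign σρ = 1 := by decide

theorem σf_eq : σu * σw = σf := by decide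
theorem σb_eq : σw * σu * σw⁻¹ * σu * σw * σu * σw⁻¹ = σb := by decide
theorem σa_eq : σu * σw⁻¹ * σu * σw * σu = σa := by decide
theorem σρ_eq : σw * σu * σw * σu * σw⁻¹ = σρ := by decide

theorem norm_fb' : ∀ φ ψ : Perm (Fin 5), (Perm.sign φ = 1 ∧ φ ^ 5 = 1 ∧ φ ≠ 1 ∧ Perm.sign ψ = 1 ∧
    ψ * ψ = 1 ∧ ψ ≠ 1 ∧ ψ * φ * ψ = φ⁻¹) →
    ∃ g : Perm (Fin 5), g * φ * g⁻¹ = σf ∧ g * ψ * g⁻¹ = σb := by
  decide +kernel

/-- pairs (element of order 5, involution inverting it) of `A₅` are conjugate under `S₅` -/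
theorem norm_fb (φ ψ : Perm (Fin 5)) (h1 : Perm.sign φ = 1) (h2 : φ ^ 5 = 1) (h3 : φ ≠ 1)
    (h4 : Perm.sign ψ = 1) (h5 : ψ * ψ = 1) (h6 : ψ ≠ 1) (h7 : ψ * φ * ψ = φ⁻¹) :
    ∃ g : Perm (Fin 5), g * φ * g⁻¹ = σf ∧ g * ψ * g⁻¹ = σb :=
  norm_fb' φ ψ ⟨h1, h2, h3, h4, h5, h6, h7⟩

theorem norm_uρ' : ∀ s r : Perm (Fin 5), (Perm.sign s = 1 ∧ Perm.sign r = 1 ∧ s * s = 1 ∧ s ≠ 1 ∧
    r ^ 3 = 1 ∧ r ≠ 1 ∧ (s * r) ^ 3 = 1) →
    ∃ g : Perm (Fin 5), g * s * g⁻¹ = σu ∧ g * r * g⁻¹ = σρ := by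
  decide +kernel

/-- pairs (involution, element of order 3) with product of order 3 in `A₅` are conjugate under
`S₅` -/
theorem norm_uρ (s r : Perm (Fin 5)) (h1 : Perm.sign s = 1) (h2 : Perm.sign r = 1)
    (h3 : s * s = 1) (h4 : s ≠ 1) (h5 : r ^ 3 = 1) (h6 : r ≠ 1) (h7 : (s * r) ^ 3 = 1) :
    ∃ g : Perm (Fin 5), g * s * g⁻¹ = σu ∧ g * r * g⁻¹ = σρ :=
  norm_uρ' s r ⟨h1, h2, h3, h4, h5, h6, h7⟩

theorem a4_prod' : ∀ s r : Perm (Fin 4), (Perm.sign s = 1 ∧ Perm.sign r = 1 ∧ s * s = 1 ∧ s ≠ 1 ∧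
    r ^ 3 = 1 ∧ r ≠ 1) → (s * r) ^ 3 = 1 := by
  decide +kernel

/-- in `A₄`, the product of an involution and an element of order 3 has order 3 -/
theorem a4_prod (s r : Perm (Fin 4)) (h1 : Perm.sign s = 1) (h2 : Perm.sign r = 1)
    (h3 : s * s = 1) (h4 : s ≠ 1) (h5 : r ^ 3 = 1) (h6 : r ≠ 1) : (s * r) ^ 3 = 1 :=
  a4_prod' s r ⟨h1, h2, h3, h4, h5, h6⟩

/-- `A₄` has elements of order 3 and its involutions -/
theorem a4_ex3 : ∃ r : Perm (Fin 4), Perm.sign r = 1 ∧ r ^ 3 = 1 ∧ r ≠ 1 := by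
  decide

end Cfsg.Agent.Lib.Helper14.J2Uni
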