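import Mathlib
import Cfsg.Agent.Lib.Helper14.J2UniB0

/-!
helper14: uniqueness of `J₂` (S1720 / S1665 / S1651), part B: standard generators of a subgroup
isomorphic to `A₅`, and the transfer of word identities.
-/

set_option autoImplicit false

namespace Cfsg.Agent.Lib.Helper14.J2Uni

open Equiv

variable {G : Type*} [Group G]

/-- conjugating an isomorphism with `A₅` by a permutation -/
theorem exists_equiv_conj {H : Type*} [Group H] (e0 : H ≃* alternatingGroup (Fin 5))
    (g : Perm (Fin 5)) :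
    ∃ e : H ≃* alternatingGroup (Fin 5),
      ∀ x, ((e x : alternatingGroup (Fin 5)) : Perm (Fin 5)) = g * (e0 x) * g⁻¹ :=
  ⟨e0.trans (MulAut.conjNormal g), fun x => by
    rw [MulEquiv.trans_apply, MulAut.conjNormal_apply]⟩

/-- `x, y` are standard generators of `H ≅ A₅` (corresponding to `(1 2)(3 4)` and `(0 2 4)`) -/
structure Gen5 (H : Subgroup G) (x y : G) : Prop where
  xH : x ∈ H
  yH : y ∈ H
  iso : ∃ e : ↥H ≃* alternatingGroup (Fin 5),
    ((e ⟨x, xH⟩ : alternatingGroup (Fin 5)) : Perm (Fin 5)) = σu ∧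
    ((e ⟨y, yH⟩ : alternatingGroup (Fin 5)) : Perm (Fin 5)) = σw

namespace Gen5

variable {H : Subgroup G} {x y : G}

/-- evaluation of a word in two letters -/
def ev {K : Type*} [Group K] (a b : K) : FreeGroup (Fin 2) →* K := FreeGroup.lift ![a, b]

@[simp] theorem ev_of0 {K : Type*} [Group K] (a b : K) : ev a b (FreeGroup.of 0) = a := by
  unfold ev; rw [FreeGroup.lift_apply_of]; rfl

@[simp] theorem ev_of1 {K : Type*} [Group K] (a b : K) : ev a b (FreeGroup.of 1) = b := by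
  unfold ev; rw [FreeGroup.lift_apply_of]; rfl

theorem ev_map {K L : Type*} [Group K] [Group L] (φ : K →* L) (a b : K) (w : FreeGroup (Fin 2)) :
    φ (ev a b w) = ev (φ a) (φ b) w := by
  have : φ.comp (ev a b) = ev (φ a) (φ b) := by
    apply FreeGroup.ext_hom
    intro i
    fin_cases i
    · show φ (ev a b (FreeGroup.of 0)) = ev (φ a) (φ b) (FreeGroup.of 0)
      rw [ev_of0, ev_of0]
    · show φ (ev a b (FreeGroup.of 1)) = ev (φ a) (φ b) (FreeGroup.of 1)
      rw [ev_of1, ev_of1]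
  exact DFunLike.congr_fun this w

/-- word identities can be checked in `A₅` -/
theorem word_iff (h : Gen5 H x y) (w1 w2 : FreeGroup (Fin 2)) :
    ev x y w1 = ev x y w2 ↔ ev σu σw w1 = ev σu σw w2 := by
  obtain ⟨e, hx, hy⟩ := h.iso
  let θ : ↥H →* Perm (Fin 5) := (alternatingGroup (Fin 5)).subtype.comp e.toMonoidHom
  have hθ : Function.Injective θ := by
    intro a b hab
    apply e.injective
    exact Subtype.ext hab
  have h1 : ∀ w, ev x y w = H.subtype (ev ⟨x, h.xH⟩ ⟨y, h.yH⟩ w) := by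
    intro w
    rw [ev_map]; rfl
  have h2 : ∀ w, ev σu σw w = θ (ev ⟨x, h.xH⟩ ⟨y, h.yH⟩ w) := by
    intro w
    rw [ev_map]
    have e1 : θ ⟨x, h.xH⟩ = σu := hx
    have e2 : θ ⟨y, h.yH⟩ = σw := hy
    rw [e1, e2]
  rw [h1, h1, h2, h2]
  constructor
  · intro h3
    rw [Subtype.val_injective h3]
  · intro h3
    rw [hθ h3]

theorem ev_mem (h : Gen5 H x y) (w : FreeGroup (Fin 2)) : ev x y w ∈ H := by
  have h1 : ev x y w = H.subtype (ev (⟨x, h.xH⟩ : ↥H) ⟨y, h.yH⟩ w) := by
    rw [ev_map]; rfl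
  rw [h1]
  exact (ev (⟨x, h.xH⟩ : ↥H) ⟨y, h.yH⟩ w).2

end Gen5

end Cfsg.Agent.Lib.Helper14.J2Uni
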