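import Mathlib
import Cfsg.Agent.Lib.Helper14.J2UniA
import Cfsg.Agent.Lib.Helper14.J2UniB

/-!
helper14: uniqueness of `J₂` (S1720 / S1665 / S1651), part C: standard generators `x, y` of
`B ≅ A₅` adapted to `(f, b)`, and their twist.
-/

set_option autoImplicit false

namespace Cfsg.Agent.Lib.Helper14.J2Uni

open Equiv
open Cfsg.Agent.Lib.Helper14.EO2 Cfsg.Agent.Lib.Helper14.LES Cfsg.Agent.Lib.Helper20.ES
open Cfsg.Agent.Lib.Helper14.J2Ord Cfsg.Agent.Lib.Helper14.J2Rec Cfsg.Agent.Lib.Helper14.J2Syl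

variable {G : Type*} [Group G]

/-- the word for `b` -/
def bw (x y : G) : G := y * x * y⁻¹ * x * y * x * y⁻¹
/-- the word for `b'` -/
def aw (x y : G) : G := x * y⁻¹ * x * y * x

theorem σα_f : σα * σf * σα⁻¹ = σf ^ 2 := by decide
theorem σα_b : σα * σb * σα⁻¹ = σb := by decide
theorem σα_a : σα * σa * σα⁻¹ = σb * σa := by decide

/-- an isomorphism with `A₅` normalized at `(f, b)` -/
theorem exists_norm_iso {H : Type*} [Group H] (e0 : H ≃* alternatingGroup (Fin 5)) (f b : H)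
    (hf5 : f ^ 5 = 1) (hf1 : f ≠ 1) (hb2 : b * b = 1) (hb1 : b ≠ 1) (hinv : b * f * b = f⁻¹) :
    ∃ e : H ≃* alternatingGroup (Fin 5),
      ((e f : alternatingGroup (Fin 5)) : Perm (Fin 5)) = σf ∧
      ((e b : alternatingGroup (Fin 5)) : Perm (Fin 5)) = σb := by
  let θ : H →* Perm (Fin 5) := (alternatingGroup (Fin 5)).subtype.comp e0.toMonoidHom
  have hθ : Function.Injective θ := by
    intro a b hab
    apply e0.injective
    exact Subtype.ext hab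
  have hs : ∀ a, Perm.sign (θ a) = 1 := fun a => Perm.mem_alternatingGroup.mp (e0 a).2
  obtain ⟨g, hg1, hg2⟩ := norm_fb (θ f) (θ b) (hs f) (by rw [← map_pow, hf5, map_one])
    (fun h => hf1 (hθ (h.trans (map_one θ).symm))) (hs b) (by rw [← map_mul, hb2, map_one])
    (fun h => hb1 (hθ (h.trans (map_one θ).symm)))
    (by rw [← map_mul, ← map_mul, hinv, map_inv])
  obtain ⟨e, he⟩ := exists_equiv_conj e0 g
  exact ⟨e, (he f).trans hg1, (he b).trans hg2⟩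

/-- standard generators from a normalized isomorphism -/
theorem gen5_of_iso {H : Subgroup G} (e : ↥H ≃* alternatingGroup (Fin 5)) :
    ∃ x y : G, ∃ hx : x ∈ H, ∃ hy : y ∈ H,
      ((e ⟨x, hx⟩ : alternatingGroup (Fin 5)) : Perm (Fin 5)) = σu ∧
      ((e ⟨y, hy⟩ : alternatingGroup (Fin 5)) : Perm (Fin 5)) = σw := by
  refine ⟨(e.symm ⟨σu, Perm.mem_alternatingGroup.mpr sign_σu⟩ : ↥H),
    (e.symm ⟨σw, Perm.mem_alternatingGroup.mpr sign_σw⟩ : ↥H), Subtype.coe_prop _, Subtype.coe_prop _,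
    ?_, ?_⟩
  · rw [Subtype.coe_eta, MulEquiv.apply_symm_apply]
  · rw [Subtype.coe_eta, MulEquiv.apply_symm_apply]

variable [Finite G] {z t : G} {V B : Subgroup G} {b f : G}

/-- the generators `x, y` of `B`, and the twisted generators -/
theorem exists_xy (S : F5 z t V B b f) :
    ∃ x y x' y' : G, Gen5 B x y ∧ x * y = f ∧ bw x y = b ∧
      Gen5 B x' y' ∧ x' * y' = f ^ 2 ∧ bw x' y' = b ∧ aw x' y' = b * aw x y := by
  obtain ⟨e0⟩ := S.ts.ts.iso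
  have hinv : (⟨b, S.bB⟩ : ↥B) * ⟨f, S.fB⟩ * ⟨b, S.bB⟩ = (⟨f, S.fB⟩ : ↥B)⁻¹ := by
    apply Subtype.ext
    show b * f * b = f⁻¹
    have := S.inv
    rw [S.binv] at this
    exact this
  obtain ⟨e, hef, heb⟩ := exists_norm_iso e0 (⟨f, S.fB⟩ : ↥B) ⟨b, S.bB⟩
    (Subtype.ext S.f5') (fun h => S.f1 (congrArg Subtype.val h)) (Subtype.ext S.bb)
    (fun h => S.b1 (congrArg Subtype.val h)) hinv
  obtain ⟨e', he'⟩ := exists_equiv_conj e σα⁻¹
  obtain ⟨x, y, hx, hy, hex, hey⟩ := gen5_of_iso e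
  obtain ⟨x', y', hx', hy', hex', hey'⟩ := gen5_of_iso e'
  let θ : ↥B →* Perm (Fin 5) := (alternatingGroup (Fin 5)).subtype.comp e.toMonoidHom
  have hθ : Function.Injective θ := by
    intro a b hab
    apply e.injective
    exact Subtype.ext hab
  have tx : θ ⟨x, hx⟩ = σu := hex
  have ty : θ ⟨y, hy⟩ = σw := hey
  have tf : θ ⟨f, S.fB⟩ = σf := hef
  have tb : θ ⟨b, S.bB⟩ = σb := heb
  have tx' : θ ⟨x', hx'⟩ = σα * σu * σα⁻¹ := by
    have h1 := he' ⟨x', hx'⟩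
    rw [hex'] at h1
    show ((e ⟨x', hx'⟩ : alternatingGroup (Fin 5)) : Perm (Fin 5)) = _
    rw [h1]; group
  have ty' : θ ⟨y', hy'⟩ = σα * σw * σα⁻¹ := by
    have h1 := he' ⟨y', hy'⟩
    rw [hey'] at h1
    show ((e ⟨y', hy'⟩ : alternatingGroup (Fin 5)) : Perm (Fin 5)) = _
    rw [h1]; group
  refine ⟨x, y, x', y', ⟨hx, hy, e, hex, hey⟩, ?_, ?_, ⟨hx', hy', e', hex', hey'⟩, ?_, ?_, ?_⟩
  · have : (⟨x, hx⟩ : ↥B) * ⟨y, hy⟩ = ⟨f, S.fB⟩ := by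
      apply hθ
      rw [map_mul, tx, ty, tf]
      decide
    exact congrArg Subtype.val this
  · have : (⟨y, hy⟩ : ↥B) * ⟨x, hx⟩ * ⟨y, hy⟩⁻¹ * ⟨x, hx⟩ * ⟨y, hy⟩ * ⟨x, hx⟩ * ⟨y, hy⟩⁻¹ =
        ⟨b, S.bB⟩ := by
      apply hθ
      simp only [map_mul, map_inv, tx, ty, tb]
      decide
    exact congrArg Subtype.val this
  · have : (⟨x', hx'⟩ : ↥B) * ⟨y', hy'⟩ = ⟨f, S.fB⟩ ^ 2 := by
      apply hθ
      rw [map_mul, map_pow, tx', ty', tf]
      decide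
    exact congrArg Subtype.val this
  · have : (⟨y', hy'⟩ : ↥B) * ⟨x', hx'⟩ * ⟨y', hy'⟩⁻¹ * ⟨x', hx'⟩ * ⟨y', hy'⟩ * ⟨x', hx'⟩ *
        ⟨y', hy'⟩⁻¹ = ⟨b, S.bB⟩ := by
      apply hθ
      simp only [map_mul, map_inv, tx', ty', tb]
      decide
    exact congrArg Subtype.val this
  · have : (⟨x', hx'⟩ : ↥B) * ⟨y', hy'⟩⁻¹ * ⟨x', hx'⟩ * ⟨y', hy'⟩ * ⟨x', hx'⟩ =
        ⟨b, S.bB⟩ * (⟨x, hx⟩ * ⟨y, hy⟩⁻¹ * ⟨x, hx⟩ * ⟨y, hy⟩ * ⟨x, hx⟩) := by
      apply hθ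
      simp only [map_mul, map_inv, tx', ty', tb, tx, ty]
      decide
    exact congrArg Subtype.val this

end Cfsg.Agent.Lib.Helper14.J2Uni
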