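import Mathlib
import Cfsg.Agent.Lib.Helper14.J2UniC

/-!
helper14: uniqueness of `J₂` (S1720 / S1665 / S1651), part D: standard generators `u, w` of
`A' = C_G(f) ∩ C_G(b) ≅ A₅` adapted to `C = C_G(B) ∩ N_G(V) ≅ A₄`.
-/

set_option autoImplicit false

namespace Cfsg.Agent.Lib.Helper14.J2Uni

open Equiv
open Cfsg.Agent.Lib.Helper14.EO2 Cfsg.Agent.Lib.Helper14.LES Cfsg.Agent.Lib.Helper20.ES
open Cfsg.Agent.Lib.Helper14.J2Ord Cfsg.Agent.Lib.Helper14.J2Rec Cfsg.Agent.Lib.Helper14.J2Syl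

variable {G : Type*} [Group G] [Finite G] {z t : G} {V B : Subgroup G} {b f : G}
  {π : ↥(Subgroup.centralizer ({f} : Set G)) →* alternatingGroup (Fin 5)} {P : Sylow 5 G}

/-- the generators `u = t, w` of `A'` -/
theorem exists_w (S : F5P z t V B b f π P) :
    ∃ w : G, Gen5 (Ap b f) t w ∧ w * t * w * t * w⁻¹ ∈ TS.CN V B := by
  have hTS := S.base.ts
  obtain ⟨k⟩ := hTS.CN_iso
  obtain ⟨r, hr1, hr3, hrne⟩ := a4_ex3
  -- an element of order 3 of `C`
  let ρ : ↥(TS.CN V B) := k.symm ⟨r, Perm.mem_alternatingGroup.mpr hr1⟩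
  have hkρ : ((k ρ : alternatingGroup (Fin 4)) : Perm (Fin 4)) = r := by
    show ((k (k.symm _) : alternatingGroup (Fin 4)) : Perm (Fin 4)) = r
    rw [MulEquiv.apply_symm_apply]
  have htC : t ∈ TS.CN V B := hTS.V_le_CN hTS.ts.tV
  let θ4 : ↥(TS.CN V B) →* Perm (Fin 4) := (alternatingGroup (Fin 4)).subtype.comp k.toMonoidHom
  have hθ4 : Function.Injective θ4 := by
    intro a b hab
    apply k.injective
    exact Subtype.ext hab
  have hs4 : ∀ a, Perm.sign (θ4 a) = 1 := fun a => Perm.mem_alternatingGroup.mp (k a).2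
  have hρ3 : ρ ^ 3 = 1 := by
    apply hθ4
    rw [map_pow, map_one]
    show ((k ρ : alternatingGroup (Fin 4)) : Perm (Fin 4)) ^ 3 = 1
    rw [hkρ, hr3]
  have hρ1 : ρ ≠ 1 := by
    intro h
    apply hrne
    rw [← hkρ, h, map_one]; rfl
  have htt : (⟨t, htC⟩ : ↥(TS.CN V B)) * ⟨t, htC⟩ = 1 := Subtype.ext hTS.ts.tt
  have ht1 : (⟨t, htC⟩ : ↥(TS.CN V B)) ≠ 1 := fun h => hTS.ts.t1 (congrArg Subtype.val h)
  have hprod : ((⟨t, htC⟩ : ↥(TS.CN V B)) * ρ) ^ 3 = 1 := by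
    apply hθ4
    rw [map_pow, map_mul, map_one]
    apply a4_prod _ _ (hs4 _) (hs4 _)
    · rw [← map_mul, htt, map_one]
    · intro h; exact ht1 (hθ4 (h.trans (map_one θ4).symm))
    · rw [← map_pow, hρ3, map_one]
    · intro h; exact hρ1 (hθ4 (h.trans (map_one θ4).symm))
  -- inside `A'`
  have hle := CN_le_Ap S.base
  let ψ0 := apEquiv S
  let θ : ↥(Ap b f) →* Perm (Fin 5) := (alternatingGroup (Fin 5)).subtype.comp ψ0.toMonoidHom
  have hθ : Function.Injective θ := by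
    intro a b hab
    apply ψ0.injective
    exact Subtype.ext hab
  have hs : ∀ a, Perm.sign (θ a) = 1 := fun a => Perm.mem_alternatingGroup.mp (ψ0 a).2
  let t' : ↥(Ap b f) := ⟨t, hle htC⟩
  let ρ' : ↥(Ap b f) := ⟨ρ.1, hle ρ.2⟩
  have htt' : t' * t' = 1 := Subtype.ext hTS.ts.tt
  have ht1' : t' ≠ 1 := fun h => hTS.ts.t1 (congrArg Subtype.val h)
  have hρ3' : ρ' ^ 3 = 1 := by
    apply Subtype.ext
    show (ρ.1 : G) ^ 3 = 1
    have := congrArg Subtype.val hρ3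
    simpa using this
  have hρ1' : ρ' ≠ 1 := by
    intro h
    apply hρ1
    apply Subtype.ext
    have h2 : (ρ'.1 : G) = 1 := congrArg Subtype.val h
    exact h2
  have hprod' : (t' * ρ') ^ 3 = 1 := by
    apply Subtype.ext
    show (t * (ρ.1 : G)) ^ 3 = 1
    have := congrArg Subtype.val hprod
    simpa using this
  obtain ⟨g, hg1, hg2⟩ := norm_uρ (θ t') (θ ρ') (hs _) (hs _)
    (by rw [← map_mul, htt', map_one])
    (fun h => ht1' (hθ (h.trans (map_one θ).symm)))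
    (by rw [← map_pow, hρ3', map_one])
    (fun h => hρ1' (hθ (h.trans (map_one θ).symm)))
    (by rw [← map_mul, ← map_pow, hprod', map_one])
  obtain ⟨ψ, hψ⟩ := exists_equiv_conj ψ0 g
  have hψt : ((ψ t' : alternatingGroup (Fin 5)) : Perm (Fin 5)) = σu := (hψ t').trans hg1
  have hψρ : ((ψ ρ' : alternatingGroup (Fin 5)) : Perm (Fin 5)) = σρ := (hψ ρ').trans hg2
  let w' : ↥(Ap b f) := ψ.symm ⟨σw, Perm.mem_alternatingGroup.mpr sign_σw⟩
  have hψw : ((ψ w' : alternatingGroup (Fin 5)) : Perm (Fin 5)) = σw := by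
    show ((ψ (ψ.symm _) : alternatingGroup (Fin 5)) : Perm (Fin 5)) = σw
    rw [MulEquiv.apply_symm_apply]
  refine ⟨w'.1, ⟨hle htC, w'.2, ψ, hψt, ?_⟩, ?_⟩
  · rw [Subtype.coe_eta]; exact hψw
  · have : w' * t' * w' * t' * w'⁻¹ = ρ' := by
      apply ψ.injective
      apply Subtype.ext
      simp only [map_mul, map_inv, Subgroup.coe_mul, Subgroup.coe_inv, hψt, hψw, hψρ]
      exact σρ_eq
    have h2 : w'.1 * t * w'.1 * t * w'.1⁻¹ = ρ.1 := congrArg Subtype.val this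
    rw [h2]
    exact ρ.2

end Cfsg.Agent.Lib.Helper14.J2Uni
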