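import Mathlib
import Cfsg.Agent.Lib.Helper14.J2UniD

/-!
helper14: uniqueness of `J₂` (S1720 / S1665 / S1651), part E: the configuration `(x, y, t, w)` and
the product relation in `O₂(C_G(b))`.
-/

set_option autoImplicit false
open scoped commutatorElement

namespace Cfsg.Agent.Lib.Helper14.J2Uni

open Equiv
open Cfsg.Agent.Lib.Helper14.EO2 Cfsg.Agent.Lib.Helper14.LES Cfsg.Agent.Lib.Helper20.ES
open Cfsg.Agent.Lib.Helper14.J2Ord Cfsg.Agent.Lib.Helper14.J2Rec Cfsg.Agent.Lib.Helper14.J2Syl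

variable {G : Type*} [Group G] [Finite G]

/-- the configuration -/
structure Cfg (z t : G) (V B : Subgroup G) (b f : G)
    (π : ↥(Subgroup.centralizer ({f} : Set G)) →* alternatingGroup (Fin 5)) (P : Sylow 5 G)
    (t₁ : G) (Qb : Subgroup G) (x y w : G) : Prop where
  base : F5P z t V B b f π P
  gp : GP b t₁ Qb
  xy : Gen5 B x y
  hf : ∃ k : ℕ, x * y = f ^ k
  hb : bw x y = b
  tw : Gen5 (Ap b f) t w
  hρ : w * t * w * t * w⁻¹ ∈ TS.CN V B

/-- the letters of the words -/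
abbrev X : FreeGroup (Fin 2) := FreeGroup.of 0
abbrev Y : FreeGroup (Fin 2) := FreeGroup.of 1

namespace Cfg

variable {z t : G} {V B : Subgroup G} {b f : G}
  {π : ↥(Subgroup.centralizer ({f} : Set G)) →* alternatingGroup (Fin 5)} {P : Sylow 5 G}
  {t₁ : G} {Qb : Subgroup G} {x y w : G}

theorem a_sq (S : Cfg z t V B b f π P t₁ Qb x y w) : aw x y * aw x y = 1 := by
  have h := S.xy.word_iff (X * Y⁻¹ * X * Y * X * (X * Y⁻¹ * X * Y * X)) 1
  simp only [map_mul, map_inv, map_one, Gen5.ev_of0, Gen5.ev_of1] at h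
  exact h.mpr (by decide)

theorem a_ne_one (S : Cfg z t V B b f π P t₁ Qb x y w) : aw x y ≠ 1 := by
  have h := S.xy.word_iff (X * Y⁻¹ * X * Y * X) 1
  simp only [map_mul, map_inv, map_one, Gen5.ev_of0, Gen5.ev_of1] at h
  intro h1
  exact absurd (h.mp h1) (by decide)

theorem a_ne_b (S : Cfg z t V B b f π P t₁ Qb x y w) : aw x y ≠ b := by
  rw [← S.hb]
  have h := S.xy.word_iff (X * Y⁻¹ * X * Y * X) (Y * X * Y⁻¹ * X * Y * X * Y⁻¹)
  simp only [map_mul, map_inv, map_one, Gen5.ev_of0, Gen5.ev_of1] at h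
  intro h1
  exact absurd (h.mp h1) (by decide)

theorem a_comm_b (S : Cfg z t V B b f π P t₁ Qb x y w) : aw x y * b = b * aw x y := by
  rw [← S.hb]
  have h := S.xy.word_iff (X * Y⁻¹ * X * Y * X * (Y * X * Y⁻¹ * X * Y * X * Y⁻¹))
    (Y * X * Y⁻¹ * X * Y * X * Y⁻¹ * (X * Y⁻¹ * X * Y * X))
  simp only [map_mul, map_inv, map_one, Gen5.ev_of0, Gen5.ev_of1] at h
  exact h.mpr (by decide)

theorem a_mem_B (S : Cfg z t V B b f π P t₁ Qb x y w) : aw x y ∈ B := by
  have h := S.xy.ev_mem (X * Y⁻¹ * X * Y * X)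
  simp only [map_mul, map_inv, map_one, Gen5.ev_of0, Gen5.ev_of1] at h
  exact h

/-- `y⁻¹ b y = a` -/
theorem theta_b (S : Cfg z t V B b f π P t₁ Qb x y w) : y⁻¹ * b * y = aw x y := by
  rw [← S.hb]
  have h := S.xy.word_iff (Y⁻¹ * (Y * X * Y⁻¹ * X * Y * X * Y⁻¹) * Y) (X * Y⁻¹ * X * Y * X)
  simp only [map_mul, map_inv, map_one, Gen5.ev_of0, Gen5.ev_of1] at h
  exact h.mpr (by decide)

/-- `y⁻¹ a y = b a` -/
theorem theta_a (S : Cfg z t V B b f π P t₁ Qb x y w) : y⁻¹ * aw x y * y = b * aw x y := by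
  rw [← S.hb]
  have h := S.xy.word_iff (Y⁻¹ * (X * Y⁻¹ * X * Y * X) * Y)
    (Y * X * Y⁻¹ * X * Y * X * Y⁻¹ * (X * Y⁻¹ * X * Y * X))
  simp only [map_mul, map_inv, map_one, Gen5.ev_of0, Gen5.ev_of1] at h
  exact h.mpr (by decide)

theorem x_sq (S : Cfg z t V B b f π P t₁ Qb x y w) : x * x = 1 := by
  have h := S.xy.word_iff (X * X) 1
  simp only [map_mul, map_inv, map_one, Gen5.ev_of0, Gen5.ev_of1] at h
  exact h.mpr (by decide)

theorem x_ne_one (S : Cfg z t V B b f π P t₁ Qb x y w) : x ≠ 1 := by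
  have h := S.xy.word_iff X 1
  simp only [map_mul, map_inv, map_one, Gen5.ev_of0, Gen5.ev_of1] at h
  intro h1
  exact absurd (h.mp h1) (by decide)

theorem y_cube (S : Cfg z t V B b f π P t₁ Qb x y w) : y * y * y = 1 := by
  have h := S.xy.word_iff (Y * Y * Y) 1
  simp only [map_mul, map_inv, map_one, Gen5.ev_of0, Gen5.ev_of1] at h
  exact h.mpr (by decide)

theorem xy_pow (S : Cfg z t V B b f π P t₁ Qb x y w) : (x * y) ^ 5 = 1 := by
  have h := S.xy.word_iff ((X * Y) ^ 5) 1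
  simp only [map_mul, map_inv, map_one, map_pow, Gen5.ev_of0, Gen5.ev_of1] at h
  exact h.mpr (by decide)

theorem t_sq (S : Cfg z t V B b f π P t₁ Qb x y w) : t * t = 1 := S.base.base.ts.ts.tt

theorem w_cube (S : Cfg z t V B b f π P t₁ Qb x y w) : w * w * w = 1 := by
  have h := S.tw.word_iff (Y * Y * Y) 1
  simp only [map_mul, map_inv, map_one, Gen5.ev_of0, Gen5.ev_of1] at h
  exact h.mpr (by decide)

theorem tw_pow (S : Cfg z t V B b f π P t₁ Qb x y w) : (t * w) ^ 5 = 1 := by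
  have h := S.tw.word_iff ((X * Y) ^ 5) 1
  simp only [map_mul, map_inv, map_one, map_pow, Gen5.ev_of0, Gen5.ev_of1] at h
  exact h.mpr (by decide)

theorem tw_ne_one (S : Cfg z t V B b f π P t₁ Qb x y w) : t * w ≠ 1 := by
  have h := S.tw.word_iff (X * Y) 1
  simp only [map_mul, map_inv, map_one, Gen5.ev_of0, Gen5.ev_of1] at h
  intro h1
  exact absurd (h.mp h1) (by decide)

theorem orderOf_tw (S : Cfg z t V B b f π P t₁ Qb x y w) : orderOf (t * w) = 5 := by
  haveI : Fact (Nat.Prime 5) := ⟨by norm_num⟩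
  exact orderOf_eq_prime S.tw_pow S.tw_ne_one

theorem t_comm_b (S : Cfg z t V B b f π P t₁ Qb x y w) : t * b = b * t := (mem_Ap.mp S.tw.xH).2
theorem w_comm_b (S : Cfg z t V B b f π P t₁ Qb x y w) : w * b = b * w := (mem_Ap.mp S.tw.yH).2
theorem t_comm_f (S : Cfg z t V B b f π P t₁ Qb x y w) : t * f = f * t := (mem_Ap.mp S.tw.xH).1
theorem w_comm_f (S : Cfg z t V B b f π P t₁ Qb x y w) : w * f = f * w := (mem_Ap.mp S.tw.yH).1

theorem tw_comm_b (S : Cfg z t V B b f π P t₁ Qb x y w) : t * w * b = b * (t * w) := by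
  calc t * w * b = t * (w * b) := by group
    _ = t * (b * w) := by rw [S.w_comm_b]
    _ = (t * b) * w := by group
    _ = b * (t * w) := by rw [S.t_comm_b]; group

/-- `b` is an involution -/
theorem b_sq (S : Cfg z t V B b f π P t₁ Qb x y w) : b * b = 1 := S.base.base.bb

/-- `a ∈ O₂(C_G(b))` -/
theorem a_mem_Q (S : Cfg z t V B b f π P t₁ Qb x y w) : aw x y ∈ Qb := by
  have hT := S.base.base.ts.ts
  have h1 : IsConj z (aw x y) := hT.Bz _ S.a_mem_B S.a_sq S.a_ne_one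
  have h2 : IsConj z b := hT.Bz _ S.base.base.bB S.base.base.bb S.base.base.b1
  exact S.gp.mem_Q_of_conj_z (h2.symm.trans h1) S.a_comm_b

/-- `C_G(b)` normalizes `O₂(C_G(b))` -/
theorem conj_mem_Q (S : Cfg z t V B b f π P t₁ Qb x y w) {g : G} (hg : g * b = b * g) {q : G}
    (hq : q ∈ Qb) : g * q * g⁻¹ ∈ Qb := S.gp.zp.base.hyp.nor g hg q hq

end Cfg

end Cfsg.Agent.Lib.Helper14.J2Uni
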