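import Mathlib
import Cfsg.Agent.Lib.Helper14.J2UniE

/-!
helper14: uniqueness of `J₂` (S1720 / S1665 / S1651), part F: the product relation
`b₀ b₁ b₂ b₃ b₄ = 1` in `O₂(C_G(b))` (after a twist of the generators of `B`).
-/

set_option autoImplicit false
open scoped commutatorElement

namespace Cfsg.Agent.Lib.Helper14.J2Uni

open Equiv
open Cfsg.Agent.Lib.Helper14.EO2 Cfsg.Agent.Lib.Helper14.LES Cfsg.Agent.Lib.Helper20.ES
open Cfsg.Agent.Lib.Helper14.J2Ord Cfsg.Agent.Lib.Helper14.J2Rec Cfsg.Agent.Lib.Helper14.J2Syl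

variable {G : Type*} [Group G]

/-- the conjugates `bᵢ = lⁱ a l⁻ⁱ` -/
def bi (a l : G) (i : ℕ) : G := l ^ i * a * (l ^ i)⁻¹

/-- the product `b₀ b₁ b₂ b₃ b₄` -/
def prod5 (a l : G) : G := bi a l 0 * bi a l 1 * bi a l 2 * bi a l 3 * bi a l 4

theorem bi_zero (a l : G) : bi a l 0 = a := by unfold bi; group

theorem conj_bi (a l : G) (i : ℕ) : l * bi a l i * l⁻¹ = bi a l (i + 1) := by
  unfold bi; rw [pow_succ']; group

theorem bi_five (a l : G) (h5 : l ^ 5 = 1) : bi a l 5 = a := by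
  unfold bi; rw [h5]; group

theorem conj_prod5 (a l : G) (h5 : l ^ 5 = 1) (ha : a * a = 1) :
    l * prod5 a l * l⁻¹ = a * prod5 a l * a := by
  have h : l * prod5 a l * l⁻¹ = (l * bi a l 0 * l⁻¹) * (l * bi a l 1 * l⁻¹) * (l * bi a l 2 * l⁻¹) *
      (l * bi a l 3 * l⁻¹) * (l * bi a l 4 * l⁻¹) := by
    unfold prod5; group
  rw [h, conj_bi, conj_bi, conj_bi, conj_bi, conj_bi, bi_five a l h5]
  unfold prod5
  rw [bi_zero]
  calc bi a l 1 * bi a l 2 * bi a l 3 * bi a l 4 * a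
      = (a * a) * bi a l 1 * bi a l 2 * bi a l 3 * bi a l 4 * a := by rw [ha, one_mul]
    _ = a * (a * bi a l 1 * bi a l 2 * bi a l 3 * bi a l 4) * a := by group

theorem bi_mul (a c l : G) (hc : l * c = c * l) (i : ℕ) : bi (c * a) l i = c * bi a l i := by
  unfold bi
  have h : ∀ i : ℕ, l ^ i * c = c * l ^ i := by
    intro i
    induction i with
    | zero => simp
    | succ i ih =>
      calc l ^ (i + 1) * c = l ^ i * (l * c) := by rw [pow_succ]; group
        _ = (l ^ i * c) * l := by rw [hc]; group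
        _ = c * l ^ (i + 1) := by rw [ih, pow_succ]; group
  calc l ^ i * (c * a) * (l ^ i)⁻¹ = (l ^ i * c) * a * (l ^ i)⁻¹ := by group
    _ = c * (l ^ i * a * (l ^ i)⁻¹) := by rw [h]; group

variable [Finite G]

namespace Cfg

variable {z t : G} {V B : Subgroup G} {b f : G}
  {π : ↥(Subgroup.centralizer ({f} : Set G)) →* alternatingGroup (Fin 5)} {P : Sylow 5 G}
  {t₁ : G} {Qb : Subgroup G} {x y w : G}

theorem pow_comm_b (S : Cfg z t V B b f π P t₁ Qb x y w) (i : ℕ) :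
    (t * w) ^ i * b = b * (t * w) ^ i := by
  induction i with
  | zero => simp
  | succ i ih =>
    calc (t * w) ^ (i + 1) * b = (t * w) ^ i * ((t * w) * b) := by rw [pow_succ]; group
      _ = ((t * w) ^ i * b) * (t * w) := by rw [S.tw_comm_b]; group
      _ = b * (t * w) ^ (i + 1) := by rw [ih, pow_succ]; group

theorem bi_mem_Q (S : Cfg z t V B b f π P t₁ Qb x y w) (i : ℕ) : bi (aw x y) (t * w) i ∈ Qb :=
  S.conj_mem_Q (S.pow_comm_b i) S.a_mem_Q

theorem prod5_mem_Q (S : Cfg z t V B b f π P t₁ Qb x y w) : prod5 (aw x y) (t * w) ∈ Qb := by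
  unfold prod5
  exact Qb.mul_mem (Qb.mul_mem (Qb.mul_mem (Qb.mul_mem (S.bi_mem_Q 0) (S.bi_mem_Q 1))
    (S.bi_mem_Q 2)) (S.bi_mem_Q 3)) (S.bi_mem_Q 4)

/-- the product relation up to the central involution -/
theorem prod5_eq (S : Cfg z t V B b f π P t₁ Qb x y w) :
    prod5 (aw x y) (t * w) = 1 ∨ prod5 (aw x y) (t * w) = b := by
  have hZ := S.gp.zp.base
  have A := hZ.hyp.amb
  have hp := S.prod5_mem_Q
  have ha := S.a_mem_Q
  have hai : (aw x y)⁻¹ = aw x y := inv_eq_of_mul_eq_one_right S.a_sq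
  have h1 := conj_prod5 (aw x y) (t * w) S.tw_pow S.a_sq
  apply hZ.fixed5' (t * w) S.tw_comm_b S.orderOf_tw _ hp
  rw [h1]
  rcases A.comm (aw x y) ha _ hp with h | h
  · left
    have h2 := commutatorElement_eq_one_iff_mul_comm.mp h
    calc aw x y * prod5 (aw x y) (t * w) * aw x y
        = prod5 (aw x y) (t * w) * (aw x y * aw x y) := by rw [h2]; group
      _ = prod5 (aw x y) (t * w) := by rw [S.a_sq, mul_one]
  · right
    have h2 : aw x y * prod5 (aw x y) (t * w) * (aw x y)⁻¹ = b * prod5 (aw x y) (t * w) := by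
      rw [← h, commutatorElement_def]; group
    rw [hai] at h2
    rw [h2]
    exact (A.zc _ hp).symm

/-- the twist changes the sign of the product -/
theorem prod5_twist (S : Cfg z t V B b f π P t₁ Qb x y w)
    (h : prod5 (aw x y) (t * w) = b) : prod5 (b * aw x y) (t * w) = 1 := by
  have A := S.gp.zp.base.hyp.amb
  have hc : ∀ i, bi (aw x y) (t * w) i * b = b * bi (aw x y) (t * w) i := fun i => A.zc _ (S.bi_mem_Q i)
  have hbb := S.b_sq
  unfold prod5 at h ⊢
  rw [bi_mul _ _ _ S.tw_comm_b, bi_mul _ _ _ S.tw_comm_b, bi_mul _ _ _ S.tw_comm_b,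
    bi_mul _ _ _ S.tw_comm_b, bi_mul _ _ _ S.tw_comm_b]
  have hc0 := hc 0
  have hc1 := hc 1
  have hc2 := hc 2
  have hc3 := hc 3
  generalize bi (aw x y) (t * w) 0 = c0 at h hc0 ⊢
  generalize bi (aw x y) (t * w) 1 = c1 at h hc1 ⊢
  generalize bi (aw x y) (t * w) 2 = c2 at h hc2 ⊢
  generalize bi (aw x y) (t * w) 3 = c3 at h hc3 ⊢
  generalize bi (aw x y) (t * w) 4 = c4 at h ⊢
  have e1 : b * c0 * (b * c1) = c0 * c1 := by
    calc b * c0 * (b * c1) = b * (c0 * b) * c1 := by group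
      _ = (b * b) * c0 * c1 := by rw [hc0]; group
      _ = c0 * c1 := by rw [hbb, one_mul]
  have e2 : b * c2 * (b * c3) = c2 * c3 := by
    calc b * c2 * (b * c3) = b * (c2 * b) * c3 := by group
      _ = (b * b) * c2 * c3 := by rw [hc2]; group
      _ = c2 * c3 := by rw [hbb, one_mul]
  calc b * c0 * (b * c1) * (b * c2) * (b * c3) * (b * c4)
      = (b * c0 * (b * c1)) * (b * c2 * (b * c3)) * (b * c4) := by group
    _ = c0 * c1 * (c2 * c3) * (b * c4) := by rw [e1, e2]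
    _ = c0 * c1 * c2 * (c3 * b) * c4 := by group
    _ = c0 * c1 * (c2 * b) * c3 * c4 := by rw [hc3]; group
    _ = c0 * (c1 * b) * c2 * c3 * c4 := by rw [hc2]; group
    _ = (c0 * b) * c1 * c2 * c3 * c4 := by rw [hc1]; group
    _ = b * (c0 * c1 * c2 * c3 * c4) := by rw [hc0]; group
    _ = 1 := by rw [h, hbb]

end Cfg

end Cfsg.Agent.Lib.Helper14.J2Uni
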