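import Mathlib
import Cfsg.Agent.Lib.Helper14.J2UniF

/-!
helper14: uniqueness of `J₂` (S1720 / S1665 / S1651), part G: existence of a configuration with
the product relation.
-/

set_option autoImplicit false
open scoped commutatorElement

namespace Cfsg.Agent.Lib.Helper14.J2Uni

open Equiv
open Cfsg.Agent.Lib.Helper14.EO2 Cfsg.Agent.Lib.Helper14.LES Cfsg.Agent.Lib.Helper20.ES
open Cfsg.Agent.Lib.Helper14.J2Ord Cfsg.Agent.Lib.Helper14.J2Rec Cfsg.Agent.Lib.Helper14.J2Syl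

variable {G : Type*} [Group G] [Finite G]

variable {z t : G} {V B : Subgroup G} {b f : G}
  {π : ↥(Subgroup.centralizer ({f} : Set G)) →* alternatingGroup (Fin 5)} {P : Sylow 5 G}
  {t₁ : G} {Qb : Subgroup G}

/-- a configuration satisfying the product relation -/
theorem exists_cfg (S : F5P z t V B b f π P) (hG : GP b t₁ Qb) :
    ∃ x y w : G, Cfg z t V B b f π P t₁ Qb x y w ∧ prod5 (aw x y) (t * w) = 1 := by
  obtain ⟨x, y, x', y', hxy, hf, hb, hxy', hf', hb', ha'⟩ := exists_xy S.base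
  obtain ⟨w, htw, hρ⟩ := exists_w S
  have C1 : Cfg z t V B b f π P t₁ Qb x y w :=
    ⟨S, hG, hxy, ⟨1, by rw [pow_one]; exact hf⟩, hb, htw, hρ⟩
  have C2 : Cfg z t V B b f π P t₁ Qb x' y' w := ⟨S, hG, hxy', ⟨2, hf'⟩, hb', htw, hρ⟩
  rcases C1.prod5_eq with h | h
  · exact ⟨x, y, w, C1, h⟩
  · refine ⟨x', y', w, C2, ?_⟩
    rw [ha']
    exact C1.prod5_twist h

end Cfsg.Agent.Lib.Helper14.J2Uni
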