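import Mathlib
import Cfsg.Agent.Lib.Helper28.TC2Glue

/-!
helper14: uniqueness of `J₂`, part T: the word problem in a presented group with a certified regular
coset table (enumeration over the trivial subgroup).
-/

set_option autoImplicit false

namespace Cfsg.Agent.Lib.Helper14.J2Uni

open Cfsg.Agent.Lib.Helper28.TC2Upper Cfsg.Agent.Lib.Helper28.TC2Lower Cfsg.Agent.Lib.Helper28.TC2Glue

variable {α : Type} {rels S : Set (FreeGroup α)} {relWords subWords : List (List (α × Bool))}
  {lw : α × Bool → ℕ} {dec : ℕ → α × Bool} {D : Data} {T : Table}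

/-- the value of the permutation representation on a word in list form -/
theorem phi_mk_apply (hL : Link rels S relWords subWords lw dec D T) (hT : T.OK)
    (φ : PresentedGroup rels →* Equiv.Perm (Fin T.n))
    (hφ : ∀ x, φ (PresentedGroup.of x) = Table.sigma hT (lw (x, true)))
    (L : List (α × Bool)) (p : Fin T.n) :
    (φ (PresentedGroup.mk rels (FreeGroup.mk L)) p).val = T.walkT (pathOf lw L) p.val := by
  have hσ : ∀ x b, Table.sigma hT (lw (x, b)) =
      cond b (Table.sigma hT (lw (x, true))) (Table.sigma hT (lw (x, true)))⁻¹ := by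
    intro x b
    cases b with
    | true => rfl
    | false =>
      show Table.sigma hT (lw (x, false)) = (Table.sigma hT (lw (x, true)))⁻¹
      rw [hL.lwinv, ← hL.Tinv, Table.sigma_inv hT (by rw [hL.Tk]; exact hL.lwk _)]
  have hlt : ∀ l ∈ pathOf lw L, l < T.k := by
    intro l hl
    unfold pathOf at hl
    rw [List.mem_reverse, List.mem_map] at hl
    obtain ⟨xb, _, rfl⟩ := hl
    rw [hL.Tk]; exact hL.lwk _
  have hcomp : φ.comp (PresentedGroup.mk rels) =
      FreeGroup.lift (fun x => Table.sigma hT (lw (x, true))) := by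
    apply FreeGroup.ext_hom
    intro x
    rw [FreeGroup.lift_apply_of]
    exact hφ x
  have h1 : φ (PresentedGroup.mk rels (FreeGroup.mk L)) =
      FreeGroup.lift (fun x => Table.sigma hT (lw (x, true))) (FreeGroup.mk L) :=
    DFunLike.congr_fun hcomp (FreeGroup.mk L)
  rw [h1, lift_mk_eq_pathProd _ lw _ hσ L, Table.pathProd_sigma_apply hT _ hlt]

/-- the permutation representation is regular when the subgroup is trivial -/
theorem eq_of_phi_zero (hS : Subgroup.closure S = ⊥) {hn : 0 < T.n}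
    (φ : PresentedGroup rels →* Equiv.Perm (Fin T.n))
    (f : PresentedGroup rels ⧸ (Subgroup.closure S).map (PresentedGroup.mk rels) → Fin T.n)
    (hf : Function.Bijective f) (heq : ∀ g q, f (g • q) = φ g (f q))
    (h0 : f (QuotientGroup.mk 1) = ⟨0, hn⟩) (g1 g2 : PresentedGroup rels)
    (h : φ g1 ⟨0, hn⟩ = φ g2 ⟨0, hn⟩) : g1 = g2 := by
  have e1 : ∀ g : PresentedGroup rels, f (QuotientGroup.mk g) = φ g ⟨0, hn⟩ := by
    intro g
    have := heq g (QuotientGroup.mk 1)
    rw [h0] at this
    rw [← this]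
    congr 1
    show (QuotientGroup.mk g : _ ⧸ _) = QuotientGroup.mk (g * 1)
    rw [mul_one]
  have e2 : (QuotientGroup.mk g1 : PresentedGroup rels ⧸ (Subgroup.closure S).map
      (PresentedGroup.mk rels)) = QuotientGroup.mk g2 := by
    apply hf.1
    rw [e1, e1, h]
  rw [QuotientGroup.eq, hS, Subgroup.map_bot, Subgroup.mem_bot] at e2
  calc g1 = g1 * (g1⁻¹ * g2) := by rw [e2, mul_one]
    _ = g2 := by group

/-- equality of words is decided by the table -/
theorem mk_eq_iff (hL : Link rels S relWords subWords lw dec D T) (hS : Subgroup.closure S = ⊥)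
    (hT : T.OK) {hn : 0 < T.n} (φ : PresentedGroup rels →* Equiv.Perm (Fin T.n))
    (hφ : ∀ x, φ (PresentedGroup.of x) = Table.sigma hT (lw (x, true)))
    (f : PresentedGroup rels ⧸ (Subgroup.closure S).map (PresentedGroup.mk rels) → Fin T.n)
    (hf : Function.Bijective f) (heq : ∀ g q, f (g • q) = φ g (f q))
    (h0 : f (QuotientGroup.mk 1) = ⟨0, hn⟩) (L1 L2 : List (α × Bool)) :
    PresentedGroup.mk rels (FreeGroup.mk L1) = PresentedGroup.mk rels (FreeGroup.mk L2) ↔
      T.walkT (pathOf lw L1) 0 = T.walkT (pathOf lw L2) 0 := by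
  constructor
  · intro h
    have h1 := phi_mk_apply hL hT φ hφ L1 ⟨0, hn⟩
    have h2 := phi_mk_apply hL hT φ hφ L2 ⟨0, hn⟩
    rw [← h1, ← h2, h]
  · intro h
    apply eq_of_phi_zero hS φ f hf heq h0
    apply Fin.ext
    rw [phi_mk_apply hL hT φ hφ L1 ⟨0, hn⟩, phi_mk_apply hL hT φ hφ L2 ⟨0, hn⟩]
    exact h

/-- every element is represented by a word of a list of representatives -/
theorem exists_rep (hL : Link rels S relWords subWords lw dec D T) (hS : Subgroup.closure S = ⊥)
    (hT : T.OK) {hn : 0 < T.n} (φ : PresentedGroup rels →* Equiv.Perm (Fin T.n))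
    (hφ : ∀ x, φ (PresentedGroup.of x) = Table.sigma hT (lw (x, true)))
    (f : PresentedGroup rels ⧸ (Subgroup.closure S).map (PresentedGroup.mk rels) → Fin T.n)
    (hf : Function.Bijective f) (heq : ∀ g q, f (g • q) = φ g (f q))
    (h0 : f (QuotientGroup.mk 1) = ⟨0, hn⟩) (rep : ℕ → List (α × Bool))
    (hrep : ∀ i, i < T.n → T.walkT (pathOf lw (rep i)) 0 = i) (g : PresentedGroup rels) :
    ∃ i, i < T.n ∧ g = PresentedGroup.mk rels (FreeGroup.mk (rep i)) := by
  refine ⟨(φ g ⟨0, hn⟩).val, (φ g ⟨0, hn⟩).isLt, ?_⟩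
  apply eq_of_phi_zero hS φ f hf heq h0
  apply Fin.ext
  rw [phi_mk_apply hL hT φ hφ _ ⟨0, hn⟩]
  exact (hrep _ (φ g ⟨0, hn⟩).isLt).symm

end Cfsg.Agent.Lib.Helper14.J2Uni
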