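import Mathlib
import Cfsg.Agent.Lib.Helper14.J2UniG
import Cfsg.Agent.Lib.Helper14.J2UniT
import Cfsg.Agent.Lib.Helper14.J2UT.L2Main
import Cfsg.Agent.Lib.Helper28.TC2Tower

/-!
helper14: uniqueness of `J₂` (S1720 / S1665 / S1651), part H: the homomorphism from the presented
group `⟨a, u, w⟩` of order 1920 to `C_G(b)`.
-/

set_option autoImplicit false
open scoped commutatorElement

namespace Cfsg.Agent.Lib.Helper14.J2Uni

open Equiv
open Cfsg.Agent.Lib.Helper14.EO2 Cfsg.Agent.Lib.Helper14.LES Cfsg.Agent.Lib.Helper20.ES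
open Cfsg.Agent.Lib.Helper14.J2Ord Cfsg.Agent.Lib.Helper14.J2Rec Cfsg.Agent.Lib.Helper14.J2Syl
open Cfsg.Agent.Lib.Helper14.J2UT

/-- the generators of the local presentation -/
abbrev Gen2 : Type := L2Def.Gen
/-- the local presented group -/
abbrev P2 : Type := PresentedGroup L2Link.rels

variable {G : Type*} [Group G]

/-- the images of the generators -/
def gmap2 (a u w : G) : Gen2 → G
  | .a => a
  | .u => u
  | .w => w

/-- the value of a word in list form -/
def evL2 (a u w : G) (L : List (Gen2 × Bool)) : G :=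
  (L.map fun p => cond p.2 (gmap2 a u w p.1) (gmap2 a u w p.1)⁻¹).prod

theorem evL2_append (a u w : G) (L1 L2 : List (Gen2 × Bool)) :
    evL2 a u w (L1 ++ L2) = evL2 a u w L1 * evL2 a u w L2 := by
  unfold evL2
  rw [List.map_append, List.prod_append]

theorem lift_mk2 (a u w : G) (L : List (Gen2 × Bool)) :
    FreeGroup.lift (gmap2 a u w) (FreeGroup.mk L) = evL2 a u w L := by
  rw [FreeGroup.lift_mk]; rfl

/-- the relators hold -/
theorem rels2_hold (a u w : G) (hu : u * u = 1) (hw : w * w * w = 1) (huw : (u * w) ^ 5 = 1)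
    (ha : a * a = 1) (hua : u * a = a * u)
    (hqa : (w * u * w * u * w⁻¹) * a = a * (w * u * w * u * w⁻¹))
    (hp : prod5 a (u * w) = 1) : ∀ r ∈ L2Link.rels, FreeGroup.lift (gmap2 a u w) r = 1 := by
  rintro r ⟨L, hL, rfl⟩
  rw [lift_mk2]
  simp only [L2Link.relWords, L2Def.relWords, List.mem_cons, List.not_mem_nil, or_false] at hL
  rcases hL with rfl | rfl | rfl | rfl | rfl | rfl | rfl
  · simp only [evL2, gmap2, List.map_cons, List.map_nil, List.prod_cons, List.prod_nil, cond_true,
      cond_false, mul_one]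
    exact hu
  · simp only [evL2, gmap2, List.map_cons, List.map_nil, List.prod_cons, List.prod_nil, cond_true,
      cond_false, mul_one]
    rw [← hw]; group
  · simp only [evL2, gmap2, List.map_cons, List.map_nil, List.prod_cons, List.prod_nil, cond_true,
      cond_false, mul_one]
    rw [← huw]; simp only [pow_succ, pow_zero, one_mul]; group
  · simp only [evL2, gmap2, List.map_cons, List.map_nil, List.prod_cons, List.prod_nil, cond_true,
      cond_false, mul_one]
    exact ha
  · simp only [evL2, gmap2, List.map_cons, List.map_nil, List.prod_cons, List.prod_nil, cond_true,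
      cond_false, mul_one]
    calc u * (a * (u⁻¹ * a⁻¹)) = (u * a) * u⁻¹ * a⁻¹ := by group
      _ = 1 := by rw [hua]; group
  · simp only [evL2, gmap2, List.map_cons, List.map_nil, List.prod_cons, List.prod_nil, cond_true,
      cond_false, mul_one]
    calc w * (u * (w * (u * (w⁻¹ * (a * (w * (u⁻¹ * (w⁻¹ * (u⁻¹ * (w⁻¹ * a⁻¹))))))))))
        = ((w * u * w * u * w⁻¹) * a) * (w * u * w * u * w⁻¹)⁻¹ * a⁻¹ := by group
      _ = 1 := by rw [hqa]; group
  · simp only [evL2, gmap2, List.map_cons, List.map_nil, List.prod_cons, List.prod_nil, cond_true,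
      cond_false, mul_one]
    rw [← hp]
    unfold prod5 bi
    simp only [pow_succ, pow_zero, one_mul]
    group

/-- the homomorphism -/
noncomputable def hom2 (a u w : G) (h : ∀ r ∈ L2Link.rels, FreeGroup.lift (gmap2 a u w) r = 1) :
    P2 →* G := PresentedGroup.toGroup h

theorem hom2_mk (a u w : G) (h : ∀ r ∈ L2Link.rels, FreeGroup.lift (gmap2 a u w) r = 1)
    (L : List (Gen2 × Bool)) :
    hom2 a u w h (PresentedGroup.mk L2Link.rels (FreeGroup.mk L)) = evL2 a u w L := by
  rw [← lift_mk2]
  rfl

theorem card_P2 : Finite P2 ∧ Nat.card P2 = 1920 := by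
  have h : ((Subgroup.closure L2Link.S).map (PresentedGroup.mk L2Link.rels)).index = 1920 :=
    L2Main.main.1
  have e : (Subgroup.closure L2Link.S).map (PresentedGroup.mk L2Link.rels) = ⊥ := by
    show (Subgroup.closure {1}).map _ = ⊥
    rw [Subgroup.closure_singleton_one, Subgroup.map_bot]
  rw [e] at h
  exact Cfsg.Agent.Lib.Helper28.TC2Tower.card_of_index_bot (by norm_num) h

end Cfsg.Agent.Lib.Helper14.J2Uni
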