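import Mathlib
import Cfsg.Agent.Lib.Helper14.J2UniB
import Cfsg.Agent.Lib.Helper14.J2OrdB

/-!
helper14: uniqueness of `J₂` (S1720 / S1665 / S1651), part I: standard generators generate.
-/

set_option autoImplicit false

namespace Cfsg.Agent.Lib.Helper14.J2Uni

open Equiv Cfsg.Agent.Lib.Helper14.J2Ord

/-- `(1 2)(3 4)` as an element of `A₅` -/
def sU : alternatingGroup (Fin 5) := ⟨σu, Perm.mem_alternatingGroup.mpr sign_σu⟩
/-- `(0 2 4)` as an element of `A₅` -/
def sW : alternatingGroup (Fin 5) := ⟨σw, Perm.mem_alternatingGroup.mpr sign_σw⟩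

theorem orderOf_sU : orderOf sU = 2 := by
  haveI : Fact (Nat.Prime 2) := ⟨by norm_num⟩
  apply orderOf_eq_prime
  · apply Subtype.ext
    show σu ^ 2 = 1
    decide
  · intro h
    have : σu = 1 := congrArg Subtype.val h
    revert this
    decide

theorem orderOf_sW : orderOf sW = 3 := by
  haveI : Fact (Nat.Prime 3) := ⟨by norm_num⟩
  apply orderOf_eq_prime
  · apply Subtype.ext
    show σw ^ 3 = 1
    decide
  · intro h
    have : σw = 1 := congrArg Subtype.val h
    revert this
    decide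

theorem orderOf_sUW : orderOf (sU * sW) = 5 := by
  haveI : Fact (Nat.Prime 5) := ⟨by norm_num⟩
  apply orderOf_eq_prime
  · apply Subtype.ext
    show (σu * σw) ^ 5 = 1
    decide
  · intro h
    have : σu * σw = 1 := congrArg Subtype.val h
    revert this
    decide

/-- the standard generators generate `A₅` -/
theorem closure_std : Subgroup.closure ({sU, sW} : Set (alternatingGroup (Fin 5))) = ⊤ := by
  set K := Subgroup.closure ({sU, sW} : Set (alternatingGroup (Fin 5))) with hK
  have hU : sU ∈ K := Subgroup.subset_closure (by simp)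
  have hW : sW ∈ K := Subgroup.subset_closure (by simp)
  have h60 : Nat.card (alternatingGroup (Fin 5)) = 60 := card_of_iso_A5 (MulEquiv.refl _)
  have hdvd : Nat.card ↥K ∣ 60 := by
    rw [← h60]; exact Subgroup.card_subgroup_dvd_card K
  have h2 : 2 ∣ Nat.card ↥K := by
    have := orderOf_dvd_natCard (⟨sU, hU⟩ : ↥K)
    rwa [Subgroup.orderOf_mk, orderOf_sU] at this
  have h3 : 3 ∣ Nat.card ↥K := by
    have := orderOf_dvd_natCard (⟨sW, hW⟩ : ↥K)
    rwa [Subgroup.orderOf_mk, orderOf_sW] at this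
  have h5 : 5 ∣ Nat.card ↥K := by
    have := orderOf_dvd_natCard (⟨sU * sW, K.mul_mem hU hW⟩ : ↥K)
    rwa [Subgroup.orderOf_mk, orderOf_sUW] at this
  have h30 : 30 ∣ Nat.card ↥K := by
    have h6 : 6 ∣ Nat.card ↥K := Nat.Coprime.mul_dvd_of_dvd_of_dvd (by norm_num) h2 h3
    exact Nat.Coprime.mul_dvd_of_dvd_of_dvd (by norm_num) h6 h5
  have hpos : 0 < Nat.card ↥K := Nat.card_pos
  have hcases : Nat.card ↥K = 30 ∨ Nat.card ↥K = 60 := by
    have hle : Nat.card ↥K ≤ 60 := Nat.le_of_dvd (by norm_num) hdvd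
    obtain ⟨k, hk⟩ := h30
    generalize Nat.card ↥K = c at hk hle hpos hdvd
    have hk12 : k = 1 ∨ k = 2 := by omega
    rcases hk12 with rfl | rfl
    · left; omega
    · right; omega
  rcases hcases with h | h
  · exfalso
    have hidx : K.index = 2 := by
      have := K.card_mul_index
      rw [h, h60] at this
      omega
    haveI : K.Normal := Subgroup.normal_of_index_eq_two hidx
    haveI := alternatingGroup.isSimpleGroup_five
    rcases Subgroup.Normal.eq_bot_or_eq_top (H := K) inferInstance with hb | ht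
    · rw [hb, Subgroup.card_bot] at h; omega
    · rw [ht, Subgroup.card_top, h60] at h; omega
  · exact Subgroup.eq_top_of_card_eq K (by rw [h, h60])

variable {G : Type*} [Group G]

/-- standard generators generate -/
theorem Gen5.le_closure {H : Subgroup G} {x y : G} (h : Gen5 H x y) :
    H ≤ Subgroup.closure ({x, y} : Set G) := by
  obtain ⟨e, hx, hy⟩ := h.iso
  have ex : e ⟨x, h.xH⟩ = sU := Subtype.ext hx
  have ey : e ⟨y, h.yH⟩ = sW := Subtype.ext hy
  have h1 : Subgroup.closure ({⟨x, h.xH⟩, ⟨y, h.yH⟩} : Set ↥H) = ⊤ := by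
    have h2 : (Subgroup.closure ({⟨x, h.xH⟩, ⟨y, h.yH⟩} : Set ↥H)).map e.toMonoidHom = ⊤ := by
      rw [MonoidHom.map_closure, Set.image_pair]
      show Subgroup.closure {e ⟨x, h.xH⟩, e ⟨y, h.yH⟩} = ⊤
      rw [ex, ey]
      exact closure_std
    rw [eq_top_iff]
    intro g _
    have : e g ∈ (Subgroup.closure ({⟨x, h.xH⟩, ⟨y, h.yH⟩} : Set ↥H)).map e.toMonoidHom := by
      rw [h2]; trivial
    obtain ⟨g', hg', hgg⟩ := this
    have : g' = g := e.injective hgg
    rw [← this]; exact hg'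
  intro g hg
  have h3 : (⟨g, hg⟩ : ↥H) ∈ Subgroup.closure ({⟨x, h.xH⟩, ⟨y, h.yH⟩} : Set ↥H) := by
    rw [h1]; trivial
  have h4 : H.subtype ⟨g, hg⟩ ∈
      (Subgroup.closure ({⟨x, h.xH⟩, ⟨y, h.yH⟩} : Set ↥H)).map H.subtype :=
    Subgroup.mem_map_of_mem _ h3
  rw [MonoidHom.map_closure, Set.image_pair] at h4
  exact h4

end Cfsg.Agent.Lib.Helper14.J2Uni
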