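import Mathlib
import Cfsg.Agent.Lib.Helper14.J2RecC
import Cfsg.Agent.Lib.Helper14.J2OrdD

/-!
helper14: uniqueness of `J₂` (S1720 / S1665 / S1651), part J: a subgroup of `Q = O₂(C_G(z))`
normalized by an element of order 5 and containing a non-central element is `Q`.
-/

set_option autoImplicit false
open scoped commutatorElement

namespace Cfsg.Agent.Lib.Helper14.J2Uni

open Cfsg.Agent.Lib.Helper14.EO2 Cfsg.Agent.Lib.Helper14.LES Cfsg.Agent.Lib.Helper20.ES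
open Cfsg.Agent.Lib.Helper14.J2Ord Cfsg.Agent.Lib.Helper14.J2Rec

variable {G : Type*} [Group G] [Finite G] {z : G} {Q : Subgroup G}

/-- conjugation action of `N_G(R) ∩ C_G(z)` on `Q ∖ R` -/
def conjActionDiff (S : ZBase z Q) (R : Subgroup G) :
    MulAction ↥(Subgroup.normalizer (R : Set G) ⊓ Subgroup.centralizer ({z} : Set G))
      {x : G // x ∈ Q ∧ x ∉ R} where
  smul h x := ⟨h.1 * x.1 * h.1⁻¹,
    S.hyp.nor h.1 ((mem_cent_iff z h.1).mp (Subgroup.mem_inf.mp h.2).2) x.1 x.2.1,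
    fun hm => x.2.2 ((Subgroup.mem_normalizer_iff.mp (Subgroup.mem_inf.mp h.2).1 x.1).mpr hm)⟩
  one_smul x := by
    apply Subtype.ext
    show (1 : G) * x.1 * (1 : G)⁻¹ = x.1
    group
  mul_smul a b x := by
    apply Subtype.ext
    show (a.1 * b.1) * x.1 * (a.1 * b.1)⁻¹ = a.1 * (b.1 * x.1 * b.1⁻¹) * a.1⁻¹
    group

theorem sub_eq_of_normalized (S : ZBase z Q) (R : Subgroup G) (hRQ : R ≤ Q) (hzR : z ∈ R)
    {a : G} (haR : a ∈ R) (ha1 : a ≠ 1) (haz : a ≠ z) (l : G) (hl5 : orderOf l = 5)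
    (hlz : l * z = z * l) (hn : ∀ x, x ∈ R ↔ l * x * l⁻¹ ∈ R) : R = Q := by
  classical
  haveI : Fact (Nat.Prime 5) := ⟨by norm_num⟩
  letI := conjActionDiff S R
  have hlN : l ∈ Subgroup.normalizer (R : Set G) ⊓ Subgroup.centralizer ({z} : Set G) :=
    Subgroup.mem_inf.mpr ⟨Subgroup.mem_normalizer_iff.mpr hn, (mem_cent_iff z l).mpr hlz⟩
  have hl5' : orderOf (⟨l, hlN⟩ : ↥(Subgroup.normalizer (R : Set G) ⊓
      Subgroup.centralizer ({z} : Set G))) = 5 := by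
    rw [← Subgroup.orderOf_coe]; exact hl5
  have h1 := card_modEq_fixed' (X := {x : G // x ∈ Q ∧ x ∉ R})
    (⟨l, hlN⟩ : ↥(Subgroup.normalizer (R : Set G) ⊓ Subgroup.centralizer ({z} : Set G))) 5 hl5'
  have hempty : IsEmpty {x : {x : G // x ∈ Q ∧ x ∉ R} //
      (⟨l, hlN⟩ : ↥(Subgroup.normalizer (R : Set G) ⊓ Subgroup.centralizer ({z} : Set G))) • x
        = x} := by
    constructor
    rintro ⟨⟨x, hxQ, hxR⟩, hfix⟩
    have hfix' : l * x * l⁻¹ = x := congrArg Subtype.val hfix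
    rcases S.fixed5 l hlz hl5 x hxQ hfix' with h | h
    · exact hxR (h ▸ R.one_mem)
    · exact hxR (h ▸ hzR)
  have h0 : Nat.card {x : {x : G // x ∈ Q ∧ x ∉ R} //
      (⟨l, hlN⟩ : ↥(Subgroup.normalizer (R : Set G) ⊓ Subgroup.centralizer ({z} : Set G))) • x
        = x} = 0 := Nat.card_of_isEmpty
  rw [h0] at h1
  have h5 : 5 ∣ Nat.card {x : G // x ∈ Q ∧ x ∉ R} := (Nat.modEq_zero_iff_dvd.mp h1)
  -- the count
  have hsplit : Nat.card ↥Q = Nat.card ↥R + Nat.card {x : G // x ∈ Q ∧ x ∉ R} := by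
    have e1 : ↥Q ≃ {x : ↥Q // x.1 ∈ R} ⊕ {x : ↥Q // ¬ x.1 ∈ R} :=
      (Equiv.sumCompl (fun x : ↥Q => x.1 ∈ R)).symm
    have e2 : {x : ↥Q // x.1 ∈ R} ≃ ↥R :=
      { toFun := fun x => ⟨x.1.1, x.2⟩
        invFun := fun x => ⟨⟨x.1, hRQ x.2⟩, x.2⟩
        left_inv := fun x => rfl
        right_inv := fun x => rfl }
    have e3 : {x : ↥Q // ¬ x.1 ∈ R} ≃ {x : G // x ∈ Q ∧ x ∉ R} :=
      { toFun := fun x => ⟨x.1.1, x.1.2, x.2⟩
        invFun := fun x => ⟨⟨x.1, x.2.1⟩, x.2.2⟩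
        left_inv := fun x => rfl
        right_inv := fun x => rfl }
    rw [Nat.card_congr e1, Nat.card_sum, Nat.card_congr e2, Nat.card_congr e3]
  have hdvd : Nat.card ↥R ∣ Nat.card ↥Q := Subgroup.card_dvd_of_le hRQ
  rw [S.cardQ] at hsplit hdvd
  have hne2 : Nat.card ↥R ≠ 2 := by
    intro h2
    obtain ⟨y, -, hy⟩ := (Nat.card_eq_two_iff' (1 : ↥R)).mp h2
    have e1 : (⟨a, haR⟩ : ↥R) = y := hy _ (fun h => ha1 (congrArg Subtype.val h))
    have e2 : (⟨z, hzR⟩ : ↥R) = y := hy _ (fun h => S.hyp.z1 (congrArg Subtype.val h))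
    exact haz (congrArg Subtype.val (e1.trans e2.symm))
  have hcard : Nat.card ↥R = 32 := by
    obtain ⟨k, hk⟩ := h5
    have h32 : (32 : ℕ) = 2 ^ 5 := by norm_num
    rw [h32] at hdvd
    obtain ⟨j, hj, hjr⟩ := (Nat.dvd_prime_pow Nat.prime_two).mp hdvd
    generalize Nat.card ↥R = r at hsplit hne2 hjr
    rw [hk] at hsplit
    interval_cases j <;> omega
  apply Subgroup.eq_of_le_of_card_ge hRQ
  rw [hcard, S.cardQ]

end Cfsg.Agent.Lib.Helper14.J2Uni
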