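import Mathlib
import Cfsg.Agent.Lib.Helper14.J2UniH
import Cfsg.Agent.Lib.Helper14.J2UniI
import Cfsg.Agent.Lib.Helper14.J2UniJ

/-!
helper14: uniqueness of `J₂` (S1720 / S1665 / S1651), part K: the presented group of order 1920
maps isomorphically onto `C_G(b)`.
-/

set_option autoImplicit false
open scoped commutatorElement

namespace Cfsg.Agent.Lib.Helper14.J2Uni

open Equiv
open Cfsg.Agent.Lib.Helper14.EO2 Cfsg.Agent.Lib.Helper14.LES Cfsg.Agent.Lib.Helper20.ES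
open Cfsg.Agent.Lib.Helper14.J2Ord Cfsg.Agent.Lib.Helper14.J2Rec Cfsg.Agent.Lib.Helper14.J2Syl
open Cfsg.Agent.Lib.Helper14.J2UT

variable {G : Type*} [Group G] [Finite G]

namespace Cfg

variable {z t : G} {V B : Subgroup G} {b f : G}
  {π : ↥(Subgroup.centralizer ({f} : Set G)) →* alternatingGroup (Fin 5)} {P : Sylow 5 G}
  {t₁ : G} {Qb : Subgroup G} {x y w : G}

theorem t_comm_a (S : Cfg z t V B b f π P t₁ Qb x y w) : t * aw x y = aw x y * t :=
  S.base.base.ts.ts.comm t S.base.base.ts.ts.tV _ S.a_mem_B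

theorem q_comm_a (S : Cfg z t V B b f π P t₁ Qb x y w) :
    (w * t * w * t * w⁻¹) * aw x y = aw x y * (w * t * w * t * w⁻¹) :=
  S.base.base.ts.CN_comm _ S.hρ _ S.a_mem_B

theorem rels_hold (S : Cfg z t V B b f π P t₁ Qb x y w) (hp : prod5 (aw x y) (t * w) = 1) :
    ∀ r ∈ L2Link.rels, FreeGroup.lift (gmap2 (aw x y) t w) r = 1 :=
  rels2_hold _ _ _ S.t_sq S.w_cube S.tw_pow S.a_sq S.t_comm_a S.q_comm_a hp

/-- the homomorphism from the presented group of order 1920 -/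
noncomputable def phi2 (S : Cfg z t V B b f π P t₁ Qb x y w)
    (hp : prod5 (aw x y) (t * w) = 1) : P2 →* G := hom2 _ _ _ (S.rels_hold hp)

theorem phi2_mk (S : Cfg z t V B b f π P t₁ Qb x y w) (hp : prod5 (aw x y) (t * w) = 1)
    (L : List (Gen2 × Bool)) :
    S.phi2 hp (PresentedGroup.mk L2Link.rels (FreeGroup.mk L)) = evL2 (aw x y) t w L :=
  hom2_mk _ _ _ _ L

theorem phi2_of (S : Cfg z t V B b f π P t₁ Qb x y w) (hp : prod5 (aw x y) (t * w) = 1)
    (g : Gen2) : S.phi2 hp (PresentedGroup.of g) = gmap2 (aw x y) t w g :=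
  PresentedGroup.toGroup.of (S.rels_hold hp)

theorem a_mem_range (S : Cfg z t V B b f π P t₁ Qb x y w) (hp : prod5 (aw x y) (t * w) = 1) :
    aw x y ∈ (S.phi2 hp).range := ⟨PresentedGroup.of .a, S.phi2_of hp .a⟩
theorem t_mem_range (S : Cfg z t V B b f π P t₁ Qb x y w) (hp : prod5 (aw x y) (t * w) = 1) :
    t ∈ (S.phi2 hp).range := ⟨PresentedGroup.of .u, S.phi2_of hp .u⟩
theorem w_mem_range (S : Cfg z t V B b f π P t₁ Qb x y w) (hp : prod5 (aw x y) (t * w) = 1) :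
    w ∈ (S.phi2 hp).range := ⟨PresentedGroup.of .w, S.phi2_of hp .w⟩

theorem a_ne_ab (S : Cfg z t V B b f π P t₁ Qb x y w) : b ≠ 1 := S.base.base.b1

/-- `(b₀ b₁)² = b` -/
theorem sq_b01 (S : Cfg z t V B b f π P t₁ Qb x y w) :
    (aw x y * bi (aw x y) (t * w) 1) * (aw x y * bi (aw x y) (t * w) 1) = b := by
  have hZ := S.gp.zp.base
  set a := aw x y with ha
  set l := t * w with hl
  set c := bi a l 1 with hc
  have hcl : c = l * a * l⁻¹ := by rw [hc]; unfold bi; rw [pow_one]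
  have haQ : a ∈ Qb := S.a_mem_Q
  have hcQ : c ∈ Qb := S.bi_mem_Q 1
  have haa : a * a = 1 := S.a_sq
  have hcc : c * c = 1 := by
    rw [hcl]
    calc l * a * l⁻¹ * (l * a * l⁻¹) = l * (a * a) * l⁻¹ := by group
      _ = 1 := by rw [haa]; group
  have ha1 : a ≠ 1 := S.a_ne_one
  have hab : a ≠ b := S.a_ne_b
  have hc1 : c ≠ 1 := by
    intro h
    apply ha1
    rw [hcl] at h
    calc a = l⁻¹ * (l * a * l⁻¹) * l := by group
      _ = 1 := by rw [h]; group
  have hlb : l * b = b * l := S.tw_comm_b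
  have hcb : c ≠ b := by
    intro h
    apply hab
    rw [hcl] at h
    calc a = l⁻¹ * (l * a * l⁻¹) * l := by group
      _ = l⁻¹ * (b * l) := by rw [h]; group
      _ = l⁻¹ * (l * b) := by rw [hlb]
      _ = b := by group
  have hfix : ¬ (l * a * l⁻¹ = a ∨ l * a * l⁻¹ = a * b) := by
    intro h
    rcases hZ.fixed5' l hlb S.orderOf_tw a haQ h with h1 | h1
    · exact ha1 h1
    · exact hab h1
  have hca : c ≠ a := fun h => hfix (Or.inl (hcl ▸ h))
  have hcab : c ≠ a * b := fun h => hfix (Or.inr (hcl ▸ h))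
  have hnc : ¬ c * a = a * c := hZ.noncomm haQ haa ha1 hab hcQ hcc hc1 hcb hca hcab
  have hanti : a * c = b * (c * a) := hZ.anti haQ hcQ (fun h => hnc h.symm)
  calc a * c * (a * c) = b * (c * a) * (a * c) := by rw [hanti]
    _ = b * (c * (a * a) * c) := by group
    _ = b * (c * c) := by rw [haa, mul_one]
    _ = b := by rw [hcc, mul_one]

theorem b_mem_range (S : Cfg z t V B b f π P t₁ Qb x y w) (hp : prod5 (aw x y) (t * w) = 1) :
    b ∈ (S.phi2 hp).range := by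
  have ha := S.a_mem_range hp
  have hl : t * w ∈ (S.phi2 hp).range := Subgroup.mul_mem _ (S.t_mem_range hp) (S.w_mem_range hp)
  have hc : bi (aw x y) (t * w) 1 ∈ (S.phi2 hp).range := by
    unfold bi
    exact Subgroup.mul_mem _ (Subgroup.mul_mem _ (Subgroup.pow_mem _ hl _) ha)
      (Subgroup.inv_mem _ (Subgroup.pow_mem _ hl _))
  have hmem : (aw x y * bi (aw x y) (t * w) 1) * (aw x y * bi (aw x y) (t * w) 1) ∈
      (S.phi2 hp).range :=
    Subgroup.mul_mem _ (Subgroup.mul_mem _ ha hc) (Subgroup.mul_mem _ ha hc)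
  exact (congrArg (fun g => g ∈ (S.phi2 hp).range) S.sq_b01).mp hmem

theorem range_le (S : Cfg z t V B b f π P t₁ Qb x y w) (hp : prod5 (aw x y) (t * w) = 1) :
    (S.phi2 hp).range ≤ Subgroup.centralizer ({b} : Set G) := by
  rw [MonoidHom.range_eq_map, ← PresentedGroup.closure_range_of, MonoidHom.map_closure,
    Subgroup.closure_le]
  rintro _ ⟨_, ⟨g, rfl⟩, rfl⟩
  show S.phi2 hp (PresentedGroup.of g) ∈ Subgroup.centralizer ({b} : Set G)
  rw [S.phi2_of hp, mem_cent_iff]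
  cases g
  · exact S.a_comm_b
  · exact S.t_comm_b
  · exact S.w_comm_b

theorem Ap_le_range (S : Cfg z t V B b f π P t₁ Qb x y w) (hp : prod5 (aw x y) (t * w) = 1) :
    Ap b f ≤ (S.phi2 hp).range := by
  refine le_trans S.tw.le_closure ?_
  rw [Subgroup.closure_le]
  intro g hg
  rcases hg with rfl | rfl
  · exact S.t_mem_range hp
  · exact S.w_mem_range hp

theorem Q_le_range (S : Cfg z t V B b f π P t₁ Qb x y w) (hp : prod5 (aw x y) (t * w) = 1) :
    Qb ≤ (S.phi2 hp).range := by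
  have hZ := S.gp.zp.base
  have hl : t * w ∈ (S.phi2 hp).range := Subgroup.mul_mem _ (S.t_mem_range hp) (S.w_mem_range hp)
  have hlb : t * w * b = b * (t * w) := S.tw_comm_b
  have hlb' : (t * w)⁻¹ * b = b * (t * w)⁻¹ := by
    calc (t * w)⁻¹ * b = (t * w)⁻¹ * (b * (t * w)) * (t * w)⁻¹ := by group
      _ = (t * w)⁻¹ * (t * w * b) * (t * w)⁻¹ := by rw [hlb]
      _ = b * (t * w)⁻¹ := by group
  have hR : (S.phi2 hp).range ⊓ Qb = Qb := by
    apply sub_eq_of_normalized hZ _ inf_le_right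
      (Subgroup.mem_inf.mpr ⟨S.b_mem_range hp, hZ.hyp.zE⟩)
      (Subgroup.mem_inf.mpr ⟨S.a_mem_range hp, S.a_mem_Q⟩) S.a_ne_one S.a_ne_b (t * w)
      S.orderOf_tw hlb
    intro g
    constructor
    · intro hg
      obtain ⟨h1, h2⟩ := Subgroup.mem_inf.mp hg
      exact Subgroup.mem_inf.mpr ⟨Subgroup.mul_mem _ (Subgroup.mul_mem _ hl h1)
        (Subgroup.inv_mem _ hl), S.conj_mem_Q hlb h2⟩
    · intro hg
      obtain ⟨h1, h2⟩ := Subgroup.mem_inf.mp hg
      have e : g = (t * w)⁻¹ * (t * w * g * (t * w)⁻¹) * (t * w)⁻¹⁻¹ := by group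
      rw [e]
      exact Subgroup.mem_inf.mpr ⟨Subgroup.mul_mem _ (Subgroup.mul_mem _ (Subgroup.inv_mem _ hl) h1)
        (Subgroup.inv_mem _ (Subgroup.inv_mem _ hl)), S.conj_mem_Q hlb' h2⟩
  exact le_of_eq_of_le hR.symm inf_le_left

/-- `O₂(C_G(b)) ∩ A' = 1` -/
theorem Q_inf_Ap (S : Cfg z t V B b f π P t₁ Qb x y w) {g : G} (hgQ : g ∈ Qb)
    (hgA : g ∈ Ap b f) : g = 1 := by
  have hZ := S.gp.zp.base
  have hQ2 : IsPGroup 2 ↥Qb := IsPGroup.of_card (n := 5) (by rw [hZ.cardQ]; norm_num)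
  have h2 : IsPGroup 2 ↥(Qb ⊓ Ap b f) := hQ2.to_le inf_le_left
  apply eq_one_of_normal_two_sub (apEquiv S.base) (Qb ⊓ Ap b f) inf_le_right ?_ h2
    (Subgroup.mem_inf.mpr ⟨hgQ, hgA⟩)
  intro c hc n hn
  obtain ⟨h1, h2⟩ := Subgroup.mem_inf.mp hn
  exact Subgroup.mem_inf.mpr ⟨S.conj_mem_Q (mem_Ap.mp hc).2 h1,
    Subgroup.mul_mem _ (Subgroup.mul_mem _ hc h2) (Subgroup.inv_mem _ hc)⟩

theorem card_range (S : Cfg z t V B b f π P t₁ Qb x y w) (hp : prod5 (aw x y) (t * w) = 1) :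
    Nat.card ↥(S.phi2 hp).range = 1920 := by
  haveI := card_P2.1
  have hle : Nat.card ↥(S.phi2 hp).range ≤ 1920 := by
    rw [← card_P2.2]
    exact Nat.card_le_card_of_surjective _ (S.phi2 hp).rangeRestrict_surjective
  have hge : 1920 ≤ Nat.card ↥(S.phi2 hp).range := by
    have hQ := S.Q_le_range hp
    have hA := S.Ap_le_range hp
    let F : ↥Qb × ↥(Ap b f) → ↥(S.phi2 hp).range := fun p =>
      ⟨p.1.1 * p.2.1, Subgroup.mul_mem _ (hQ p.1.2) (hA p.2.2)⟩
    have hF : Function.Injective F := by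
      rintro ⟨q, g⟩ ⟨q', g'⟩ h
      have h1 : q.1 * g.1 = q'.1 * g'.1 := congrArg Subtype.val h
      have h2 : q'.1⁻¹ * q.1 = g'.1 * g.1⁻¹ := by
        calc q'.1⁻¹ * q.1 = q'.1⁻¹ * (q.1 * g.1) * g.1⁻¹ := by group
          _ = g'.1 * g.1⁻¹ := by rw [h1]; group
      have h3 : q'.1⁻¹ * q.1 = 1 := by
        apply S.Q_inf_Ap (Qb.mul_mem (Qb.inv_mem q'.2) q.2)
        rw [h2]
        exact Subgroup.mul_mem _ g'.2 (Subgroup.inv_mem _ g.2)
      have h4 : q.1 = q'.1 := by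
        calc q.1 = q'.1 * (q'.1⁻¹ * q.1) := by group
          _ = q'.1 := by rw [h3, mul_one]
      have h5 : g.1 = g'.1 := by
        rw [h4] at h1
        exact mul_left_cancel h1
      exact Prod.ext (Subtype.ext h4) (Subtype.ext h5)
    have := Nat.card_le_card_of_injective F hF
    rw [Nat.card_prod, S.gp.zp.base.cardQ, card_of_iso_A5 (apEquiv S.base)] at this
    exact this
  omega

theorem phi2_injective (S : Cfg z t V B b f π P t₁ Qb x y w)
    (hp : prod5 (aw x y) (t * w) = 1) : Function.Injective (S.phi2 hp) := by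
  haveI := card_P2.1
  have hsurj := (S.phi2 hp).rangeRestrict_surjective
  have hbij := hsurj.bijective_of_nat_card_le (by rw [S.card_range hp, card_P2.2])
  intro p q h
  apply hbij.1
  exact Subtype.ext h

theorem range_eq (S : Cfg z t V B b f π P t₁ Qb x y w) (hp : prod5 (aw x y) (t * w) = 1) :
    (S.phi2 hp).range = Subgroup.centralizer ({b} : Set G) := by
  apply Subgroup.eq_of_le_of_card_ge (S.range_le hp)
  rw [S.card_range hp, S.gp.zp.cardH]

end Cfg

end Cfsg.Agent.Lib.Helper14.J2Uni
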