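import Mathlib
import Cfsg.Agent.Lib.Helper14.J2UniK
import Cfsg.Agent.Lib.Helper14.J2UT.L2Chk

/-!
helper14: uniqueness of `J₂` (S1720 / S1665 / S1651), part L: transfer between the coset table of
the presented group of order 1920 and `C_G(b)`; values of the named words.
-/

set_option autoImplicit false
open scoped commutatorElement

namespace Cfsg.Agent.Lib.Helper14.J2Uni

open Equiv
open Cfsg.Agent.Lib.Helper14.EO2 Cfsg.Agent.Lib.Helper14.LES Cfsg.Agent.Lib.Helper20.ES
open Cfsg.Agent.Lib.Helper14.J2Ord Cfsg.Agent.Lib.Helper14.J2Rec Cfsg.Agent.Lib.Helper14.J2Syl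
open Cfsg.Agent.Lib.Helper14.J2UT Cfsg.Agent.Lib.Helper14.J2UT.L2Chk

variable {G : Type*} [Group G]

theorem closure_S2 : Subgroup.closure L2Link.S = ⊥ := by
  show Subgroup.closure {1} = ⊥
  exact Subgroup.closure_singleton_one

section values

variable (a u w : G)

theorem ev_wA : evL2 a u w wA = a := by
  simp only [evL2, gmap2, wA, List.map_cons, List.map_nil, List.prod_cons, List.prod_nil,
    cond_true, cond_false, mul_one]

theorem ev_wU : evL2 a u w wU = u := by
  simp only [evL2, gmap2, wU, List.map_cons, List.map_nil, List.prod_cons, List.prod_nil,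
    cond_true, cond_false, mul_one]

theorem ev_wUi : evL2 a u w wUi = u⁻¹ := by
  simp only [evL2, gmap2, wUi, List.map_cons, List.map_nil, List.prod_cons, List.prod_nil,
    cond_true, cond_false, mul_one]

theorem ev_wg1 : evL2 a u w wg1 = bi a (u * w) 1 * bi a (u * w) 2 := by
  simp only [evL2, gmap2, wg1, List.map_cons, List.map_nil, List.prod_cons, List.prod_nil,
    cond_true, cond_false, mul_one]
  unfold bi
  simp only [pow_succ, pow_zero, one_mul]
  group

theorem ev_wbeta : evL2 a u w wbeta = (a * bi a (u * w) 1) * (a * bi a (u * w) 1) := by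
  simp only [evL2, gmap2, wbeta, List.map_cons, List.map_nil, List.prod_cons, List.prod_nil,
    cond_true, cond_false, mul_one]
  unfold bi
  simp only [pow_succ, pow_zero, one_mul]
  group

theorem ev_wq : evL2 a u w wq = w * u * w * u * w⁻¹ := by
  simp only [evL2, gmap2, wq, List.map_cons, List.map_nil, List.prod_cons, List.prod_nil,
    cond_true, cond_false, mul_one, mul_inv_rev, inv_inv, mul_assoc]

theorem ev_wqi : evL2 a u w wqi = (w * u * w * u * w⁻¹)⁻¹ := by
  simp only [evL2, gmap2, wqi, List.map_cons, List.map_nil, List.prod_cons, List.prod_nil,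
    cond_true, cond_false, mul_one, mul_inv_rev, inv_inv, mul_assoc]

theorem ev_wu2 : evL2 a u w wu2 = (w * u * w * u * w⁻¹) * u * (w * u * w * u * w⁻¹)⁻¹ := by
  simp only [evL2, gmap2, wu2, List.map_cons, List.map_nil, List.prod_cons, List.prod_nil,
    cond_true, cond_false, mul_one, mul_inv_rev, inv_inv, mul_assoc]

theorem ev_wu2i : evL2 a u w wu2i =
    ((w * u * w * u * w⁻¹) * u * (w * u * w * u * w⁻¹)⁻¹)⁻¹ := by
  simp only [evL2, gmap2, wu2i, List.map_cons, List.map_nil, List.prod_cons, List.prod_nil,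
    cond_true, cond_false, mul_one, mul_inv_rev, inv_inv, mul_assoc]

theorem ev_wu3 : evL2 a u w wu3 = (w * u * w * u * w⁻¹) * (w * u * w * u * w⁻¹) * u *
    ((w * u * w * u * w⁻¹) * (w * u * w * u * w⁻¹))⁻¹ := by
  simp only [evL2, gmap2, wu3, List.map_cons, List.map_nil, List.prod_cons, List.prod_nil,
    cond_true, cond_false, mul_one, mul_inv_rev, inv_inv, mul_assoc]

theorem ev_wu3i : evL2 a u w wu3i = ((w * u * w * u * w⁻¹) * (w * u * w * u * w⁻¹) * u *
    ((w * u * w * u * w⁻¹) * (w * u * w * u * w⁻¹))⁻¹)⁻¹ := by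
  simp only [evL2, gmap2, wu3i, List.map_cons, List.map_nil, List.prod_cons, List.prod_nil,
    cond_true, cond_false, mul_one, mul_inv_rev, inv_inv, mul_assoc]

theorem ev_wm0 : evL2 a u w wm0 = w⁻¹ * u * w * a * u * w⁻¹ * u * w * a * u * w⁻¹ := by
  simp only [evL2, gmap2, wm0, List.map_cons, List.map_nil, List.prod_cons, List.prod_nil,
    cond_true, cond_false, mul_one, mul_inv_rev, inv_inv, mul_assoc]

end values

variable [Finite G]

namespace Cfg

variable {z t : G} {V B : Subgroup G} {b f : G}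
  {π : ↥(Subgroup.centralizer ({f} : Set G)) →* alternatingGroup (Fin 5)} {P : Sylow 5 G}
  {t₁ : G} {Qb : Subgroup G} {x y w : G}

/-- an identity of the coset table holds in `G` -/
theorem ev_eq_of_pt (S : Cfg z t V B b f π P t₁ Qb x y w) (hp : prod5 (aw x y) (t * w) = 1)
    {L1 L2 : List (Gen2 × Bool)} (h : pt L1 = pt L2) :
    evL2 (aw x y) t w L1 = evL2 (aw x y) t w L2 := by
  obtain ⟨-, φ, hφ, f', hf, heq, h0⟩ := L2Main.main
  have h1 := (mk_eq_iff L2Link.link closure_S2 L2Main.hT φ hφ f' hf heq h0 L1 L2).mpr h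
  rw [← S.phi2_mk hp, ← S.phi2_mk hp, h1]

/-- an identity in `G` holds in the coset table -/
theorem pt_eq_of_ev (S : Cfg z t V B b f π P t₁ Qb x y w) (hp : prod5 (aw x y) (t * w) = 1)
    {L1 L2 : List (Gen2 × Bool)} (h : evL2 (aw x y) t w L1 = evL2 (aw x y) t w L2) :
    pt L1 = pt L2 := by
  obtain ⟨-, φ, hφ, f', hf, heq, h0⟩ := L2Main.main
  have h1 : PresentedGroup.mk L2Link.rels (FreeGroup.mk L1) =
      PresentedGroup.mk L2Link.rels (FreeGroup.mk L2) := by
    apply S.phi2_injective hp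
    rw [S.phi2_mk hp, S.phi2_mk hp, h]
  exact (mk_eq_iff L2Link.link closure_S2 L2Main.hT φ hφ f' hf heq h0 L1 L2).mp h1

/-- every element of `C_G(b)` is the value of a representative word -/
theorem exists_rep_of_comm (S : Cfg z t V B b f π P t₁ Qb x y w)
    (hp : prod5 (aw x y) (t * w) = 1) {h : G} (hb : h * b = b * h) :
    ∃ i, i < 1920 ∧ h = evL2 (aw x y) t w (rep i) := by
  have hmem : h ∈ (S.phi2 hp).range := by
    rw [S.range_eq hp, mem_cent_iff]; exact hb
  obtain ⟨p, hp'⟩ := hmem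
  obtain ⟨-, φ, hφ, f', hf, heq, h0⟩ := L2Main.main
  obtain ⟨i, hi, hpi⟩ := exists_rep L2Link.link closure_S2 L2Main.hT φ hφ f' hf heq h0 rep
    (fun i hi => hrep i hi) p
  refine ⟨i, hi, ?_⟩
  rw [← hp', hpi, S.phi2_mk hp]

end Cfg

end Cfsg.Agent.Lib.Helper14.J2Uni
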