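import Mathlib
import Cfsg.Agent.Lib.Helper14.J2UniL

/-!
helper14: uniqueness of `J₂` (S1720 / S1665 / S1651), part M: the relation coming from `N_G(E)`,
`y⁻¹ b₁ b₂ y = w⁻¹ t w a t w⁻¹ t w a t w⁻¹`.
-/

set_option autoImplicit false
open scoped commutatorElement

namespace Cfsg.Agent.Lib.Helper14.J2Uni

open Equiv
open Cfsg.Agent.Lib.Helper14.EO2 Cfsg.Agent.Lib.Helper14.LES Cfsg.Agent.Lib.Helper20.ES
open Cfsg.Agent.Lib.Helper14.J2Ord Cfsg.Agent.Lib.Helper14.J2Rec Cfsg.Agent.Lib.Helper14.J2Syl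
open Cfsg.Agent.Lib.Helper14.J2UT Cfsg.Agent.Lib.Helper14.J2UT.L2Chk

variable {G : Type*} [Group G]

theorem conj_comm {c y g : G} (hc : c * y = y * c) :
    c * (y⁻¹ * g * y) * c⁻¹ = y⁻¹ * (c * g * c⁻¹) * y := by
  have h1 : c * y⁻¹ = y⁻¹ * c := by
    calc c * y⁻¹ = y⁻¹ * (y * c) * y⁻¹ := by group
      _ = y⁻¹ * (c * y) * y⁻¹ := by rw [hc]
      _ = y⁻¹ * c := by group
  have h2 : y * c⁻¹ = c⁻¹ * y := by
    calc y * c⁻¹ = c⁻¹ * (c * y) * c⁻¹ := by group
      _ = c⁻¹ * (y * c) * c⁻¹ := by rw [hc]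
      _ = c⁻¹ * y := by group
  calc c * (y⁻¹ * g * y) * c⁻¹ = (c * y⁻¹) * g * (y * c⁻¹) := by group
    _ = y⁻¹ * (c * g * c⁻¹) * y := by rw [h1, h2]; group

theorem comm_conj {c d y : G} (hc : c * y = y * c) (hd : d * y = y * d) :
    (c * d * c⁻¹) * y = y * (c * d * c⁻¹) := by
  have h2 : y * c⁻¹ = c⁻¹ * y := by
    calc y * c⁻¹ = c⁻¹ * (c * y) * c⁻¹ := by group
      _ = c⁻¹ * (y * c) * c⁻¹ := by rw [hc]
      _ = c⁻¹ * y := by group
  calc (c * d * c⁻¹) * y = c * d * (c⁻¹ * y) := by group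
    _ = c * (d * y) * c⁻¹ := by rw [← h2]; group
    _ = (c * y) * d * c⁻¹ := by rw [hd]; group
    _ = y * (c * d * c⁻¹) := by rw [hc]; group

theorem comm_mul {c d y : G} (hc : c * y = y * c) (hd : d * y = y * d) :
    (c * d) * y = y * (c * d) := by
  calc (c * d) * y = c * (d * y) := by group
    _ = (c * y) * d := by rw [hd]; group
    _ = y * (c * d) := by rw [hc]; group

variable [Finite G]

namespace Cfg

variable {z t : G} {V B : Subgroup G} {b f : G}
  {π : ↥(Subgroup.centralizer ({f} : Set G)) →* alternatingGroup (Fin 5)} {P : Sylow 5 G}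
  {t₁ : G} {Qb : Subgroup G} {x y w : G}

/-- the relation coming from `N_G(E)` -/
theorem vrel (S : Cfg z t V B b f π P t₁ Qb x y w) (hp : prod5 (aw x y) (t * w) = 1) :
    y⁻¹ * (bi (aw x y) (t * w) 1 * bi (aw x y) (t * w) 2) * y =
      w⁻¹ * t * w * aw x y * t * w⁻¹ * t * w * aw x y * t * w⁻¹ := by
  have hT := S.base.base.ts
  have hyB : y ∈ B := S.xy.yH
  set a := aw x y with ha
  set g1 := bi a (t * w) 1 * bi a (t * w) 2 with hg1
  set q := w * t * w * t * w⁻¹ with hq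
  set u2 := q * t * q⁻¹ with hu2
  set u3 := q * q * t * (q * q)⁻¹ with hu3
  -- values of the words
  have E1 : evL2 a t w wg1 = g1 := ev_wg1 a t w
  have Eb : evL2 a t w wbeta = b := (ev_wbeta a t w).trans S.sq_b01
  have EA : evL2 a t w wA = a := ev_wA a t w
  have EU : evL2 a t w wU = t := ev_wU a t w
  have EUi : evL2 a t w wUi = t⁻¹ := ev_wUi a t w
  have Eq : evL2 a t w wq = q := ev_wq a t w
  have Eqi : evL2 a t w wqi = q⁻¹ := ev_wqi a t w
  have Eu2 : evL2 a t w wu2 = u2 := ev_wu2 a t w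
  have Eu2i : evL2 a t w wu2i = u2⁻¹ := ev_wu2i a t w
  have Eu3 : evL2 a t w wu3 = u3 := ev_wu3 a t w
  have Eu3i : evL2 a t w wu3i = u3⁻¹ := ev_wu3i a t w
  -- identities in `C_G(b)`
  have F1 : g1 * g1 = b := by
    have := S.ev_eq_of_pt hp T1
    rwa [evL2_append, E1, Eb] at this
  have F21 : t * g1 * t⁻¹ = g1 * b := by
    have := S.ev_eq_of_pt hp T21
    rwa [evL2_append, evL2_append, evL2_append, EU, E1, EUi, Eb] at this
  have F22 : u2 * g1 * u2⁻¹ = g1 * b * a := by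
    have := S.ev_eq_of_pt hp T22
    rwa [evL2_append, evL2_append, evL2_append, evL2_append, Eu2, E1, Eu2i, Eb, EA] at this
  have F23 : u3 * g1 * u3⁻¹ = g1 * a := by
    have := S.ev_eq_of_pt hp T23
    rwa [evL2_append, evL2_append, evL2_append, Eu3, E1, Eu3i, EA] at this
  have F3 : g1 * q * g1 * q⁻¹ * q * q * g1 * q⁻¹ * q⁻¹ = b := by
    have := S.ev_eq_of_pt hp T3
    rwa [evL2_append, evL2_append, evL2_append, evL2_append, evL2_append, evL2_append,
      evL2_append, evL2_append, E1, Eq, Eqi, Eb] at this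
  have F4a : g1 * a = a * g1 := by
    have := S.ev_eq_of_pt hp T4a
    rwa [evL2_append, evL2_append, E1, EA] at this
  have F4b : g1 * b = b * g1 := by
    have := S.ev_eq_of_pt hp T4b
    rwa [evL2_append, evL2_append, E1, Eb] at this
  -- the action of `y`
  have hyb : y⁻¹ * b * y = a := S.theta_b
  have hya : y⁻¹ * a * y = b * a := S.theta_a
  have hab : a * b = b * a := S.a_comm_b
  have haa : a * a = 1 := S.a_sq
  have hbb : b * b = 1 := S.b_sq
  have hty : t * y = y * t := hT.ts.comm t hT.ts.tV y hyB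
  have hqy : q * y = y * q := hT.CN_comm q S.hρ y hyB
  have hu2y : u2 * y = y * u2 := comm_conj hqy hty
  have hu3y : u3 * y = y * u3 := comm_conj (comm_mul hqy hqy) hty
  have hyab : y * a * y⁻¹ = b := by
    calc y * a * y⁻¹ = y * (y⁻¹ * b * y) * y⁻¹ := by rw [hyb]
      _ = b := by group
  have hyba : y⁻¹ * (b * a) * y = b := by
    calc y⁻¹ * (b * a) * y = (y⁻¹ * b * y) * (y⁻¹ * a * y) := by group
      _ = a * (b * a) := by rw [hyb, hya]
      _ = (a * b) * a := by group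
      _ = b * (a * a) := by rw [hab]; group
      _ = b := by rw [haa, mul_one]
  have hybb : y * b * y⁻¹ = b * a := by
    calc y * b * y⁻¹ = y * (y⁻¹ * (b * a) * y) * y⁻¹ := by rw [hyba]
      _ = b * a := by group
  set h := y⁻¹ * g1 * y with hh
  -- the conditions
  have C2 : h * h = a := by
    calc h * h = y⁻¹ * (g1 * g1) * y := by rw [hh]; group
      _ = a := by rw [F1, hyb]
  have C31 : t * h * t⁻¹ = h * a := by
    rw [hh, conj_comm hty, F21]
    calc y⁻¹ * (g1 * b) * y = (y⁻¹ * g1 * y) * (y⁻¹ * b * y) := by group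
      _ = y⁻¹ * g1 * y * a := by rw [hyb]
  have C32 : u2 * h * u2⁻¹ = h * b := by
    rw [hh, conj_comm hu2y, F22]
    calc y⁻¹ * (g1 * b * a) * y = (y⁻¹ * g1 * y) * (y⁻¹ * (b * a) * y) := by group
      _ = y⁻¹ * g1 * y * b := by rw [hyba]
  have C33 : u3 * h * u3⁻¹ = h * b * a := by
    rw [hh, conj_comm hu3y, F23]
    calc y⁻¹ * (g1 * a) * y = (y⁻¹ * g1 * y) * (y⁻¹ * a * y) := by group
      _ = y⁻¹ * g1 * y * b * a := by rw [hya]; group
  have hqh : ∀ k : G, q * (y⁻¹ * k * y) * q⁻¹ = y⁻¹ * (q * k * q⁻¹) * y := fun k => conj_comm hqy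
  have C4 : h * q * h * q⁻¹ * q * q * h * q⁻¹ * q⁻¹ = a := by
    have e1 : q * h * q⁻¹ = y⁻¹ * (q * g1 * q⁻¹) * y := hqh g1
    have e2 : q * (q * h * q⁻¹) * q⁻¹ = y⁻¹ * (q * (q * g1 * q⁻¹) * q⁻¹) * y := by
      rw [e1]; exact hqh _
    calc h * q * h * q⁻¹ * q * q * h * q⁻¹ * q⁻¹
        = h * (q * h * q⁻¹) * (q * (q * h * q⁻¹) * q⁻¹) := by group
      _ = y⁻¹ * g1 * y * (y⁻¹ * (q * g1 * q⁻¹) * y) *
          (y⁻¹ * (q * (q * g1 * q⁻¹) * q⁻¹) * y) := by rw [e2, e1]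
      _ = y⁻¹ * (g1 * q * g1 * q⁻¹ * q * q * g1 * q⁻¹ * q⁻¹) * y := by group
      _ = a := by rw [F3, hyb]
  have C5a : h * a = a * h := by
    calc h * a = y⁻¹ * (g1 * (y * a * y⁻¹)) * y := by rw [hh]; group
      _ = y⁻¹ * (b * g1) * y := by rw [hyab, F4b]
      _ = (y⁻¹ * b * y) * (y⁻¹ * g1 * y) := by group
      _ = a * h := by rw [hyb]
  have hF4ba : g1 * (b * a) = (b * a) * g1 := by
    calc g1 * (b * a) = (g1 * b) * a := by group
      _ = b * (g1 * a) := by rw [F4b]; group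
      _ = (b * a) * g1 := by rw [F4a]; group
  have C5b : h * b = b * h := by
    calc h * b = y⁻¹ * (g1 * (y * b * y⁻¹)) * y := by rw [hh]; group
      _ = y⁻¹ * ((b * a) * g1) * y := by rw [hybb, hF4ba]
      _ = (y⁻¹ * (b * a) * y) * (y⁻¹ * g1 * y) := by group
      _ = b * h := by rw [hyba]
  -- the element of the table
  obtain ⟨i, hi, hhi⟩ := S.exists_rep_of_comm hp C5b
  have c2 : pt (rep i ++ rep i) = pt wA := by
    apply S.pt_eq_of_ev hp
    rw [evL2_append, ← hhi, EA]; exact C2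
  have c31 : pt (wU ++ rep i ++ wUi) = pt (rep i ++ wA) := by
    apply S.pt_eq_of_ev hp
    rw [evL2_append, evL2_append, evL2_append, ← hhi, EA, EU, EUi]; exact C31
  have c32 : pt (wu2 ++ rep i ++ wu2i) = pt (rep i ++ wbeta) := by
    apply S.pt_eq_of_ev hp
    rw [evL2_append, evL2_append, evL2_append, ← hhi, Eb, Eu2, Eu2i]; exact C32
  have c33 : pt (wu3 ++ rep i ++ wu3i) = pt (rep i ++ wbeta ++ wA) := by
    apply S.pt_eq_of_ev hp
    rw [evL2_append, evL2_append, evL2_append, evL2_append, ← hhi, Eb, EA, Eu3, Eu3i]; exact C33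
  have c4 : pt (rep i ++ wq ++ rep i ++ wqi ++ wq ++ wq ++ rep i ++ wqi ++ wqi) = pt wA := by
    apply S.pt_eq_of_ev hp
    rw [evL2_append, evL2_append, evL2_append, evL2_append, evL2_append, evL2_append,
      evL2_append, evL2_append, ← hhi, EA, Eq, Eqi]; exact C4
  have c5a : pt (rep i ++ wA) = pt (wA ++ rep i) := by
    apply S.pt_eq_of_ev hp
    rw [evL2_append, evL2_append, ← hhi, EA]; exact C5a
  have c5b : pt (rep i ++ wbeta) = pt (wbeta ++ rep i) := by
    apply S.pt_eq_of_ev hp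
    rw [evL2_append, evL2_append, ← hhi, Eb]; exact C5b
  have hchk := huniq i hi
  unfold chk at hchk
  rw [c2, c31, c32, c33, c4, c5a, c5b] at hchk
  simp only [Nat.beq_refl, Bool.and_self, Bool.not_true, Bool.false_or] at hchk
  have hi0 : i = 1787 := Nat.eq_of_beq_eq_true hchk
  have e1 : pt wm0 = pt (rep i) := by
    rw [hm0, hi0, hrep 1787 (by norm_num)]
  have e2 := S.ev_eq_of_pt hp e1
  rw [← hhi, ev_wm0] at e2
  exact e2.symm

end Cfg

end Cfsg.Agent.Lib.Helper14.J2Uni
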