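import Mathlib
import Cfsg.Agent.Lib.Helper14.J2UniP
import Cfsg.Agent.Lib.Helper14.J2Xb
import Cfsg.Agent.Lib.Helper14.J2UT.GLMain
import Cfsg.Agent.Lib.Helper14.J2UT.GSMain
import Cfsg.Agent.Lib.Helper28.TC2Tower
import Cfsg.Agent.Lib.Helper28.TC2Subst
import Cfsg.Agent.Lib.Helper28.TC2Simple

/-!
helper14: uniqueness of `J₂`, part N: the globally presented group `PG` (generators `x, y, u, r, w`) is
isomorphic to the permutation group `PJ ≅ J₂`.
-/

set_option autoImplicit false
set_option maxRecDepth 100000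

namespace Cfsg.Agent.Lib.Helper14.J2Uni

open Cfsg.Agent.Lib.Helper10.SW Cfsg.Agent.Lib.Helper14.J2 Cfsg.Agent.Lib.Helper14.J2UT
open Cfsg.Agent.Lib.Helper28.TC2Tower Cfsg.Agent.Lib.Helper28.TC2Glue Cfsg.Agent.Lib.Helper28.TC2Subst
open Cfsg.Agent.Lib.Helper28.TC2Simple

attribute [local irreducible] perm

/-- the generators of the global presentation -/
abbrev GenG : Type := GLDef.Gen
/-- the globally presented group -/
abbrev PG : Type := PresentedGroup GLLink.rels

theorem cardGS : Finite (PresentedGroup GSLink.rels) ∧ Nat.card (PresentedGroup GSLink.rels) = 720 := by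
  have h : ((Subgroup.closure GSLink.S).map (PresentedGroup.mk GSLink.rels)).index = 720 := GSMain.main.1
  have e : (Subgroup.closure GSLink.S).map (PresentedGroup.mk GSLink.rels) = ⊥ := by
    show (Subgroup.closure {1}).map _ = ⊥
    rw [Subgroup.closure_singleton_one, Subgroup.map_bot]
  rw [e] at h
  exact card_of_index_bot (by norm_num) h

theorem upGS : ∀ L ∈ GSLink.relWords, upWord GSDef.up L ∈ GLLink.relWords := by decide +kernel

theorem card_PG_le : Finite PG ∧ Nat.card PG ≤ 604800 := by
  haveI := cardGS.1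
  have hrel := hrel_of_words GLLink.rels GSLink.rels GSDef.up GLLink.relWords GSLink.relWords
    GLLink.link.hrels GSLink.link.hrels upGS
  have hS : ∀ s ∈ GLLink.S, ∃ b, s = FreeGroup.of (GSDef.up b) := by
    intro s hs
    simp only [GLLink.S, Set.mem_insert_iff, Set.mem_singleton_iff] at hs
    rcases hs with rfl | rfl | rfl | rfl
    exacts [⟨.x, rfl⟩, ⟨.y, rfl⟩, ⟨.u, rfl⟩, ⟨.r, rfl⟩]
  obtain ⟨hfin, hle⟩ := card_le_of_subpres GLLink.rels GSLink.rels GSDef.up hrel GLLink.S hS
  have hidx : ((Subgroup.closure GLLink.S).map (PresentedGroup.mk GLLink.rels)).index = 840 := GLMain.main.1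
  haveI := hfin
  refine ⟨finite_of_index _ (by rw [hidx]; norm_num), ?_⟩
  exact card_le_of_index _ hidx (le_trans hle (le_of_eq cardGS.2))

theorem valid_code (t : GenG × Bool) : Valid 315 (PD.code t) := valid_of_invOf (PD.inv_ok t)

/-- the permutations of the generators -/
noncomputable def pgen (x : GenG) : Equiv.Perm (Fin 315) := perm 315 (PD.code (x, true))

theorem perm_code_false (x : GenG) : perm 315 (PD.code (x, false)) = (pgen x)⁻¹ :=
  perm_inv_of_invOf (PD.inv_ok (x, true)) (valid_code (x, false))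

theorem lift_mk_code (L : List (GenG × Bool)) :
    FreeGroup.lift pgen (FreeGroup.mk L) = prodL 315 (L.map PD.code) := by
  induction L with
  | nil => rfl
  | cons t L ih =>
    have e : FreeGroup.mk (t :: L) = FreeGroup.mk [t] * FreeGroup.mk L := by
      rw [FreeGroup.mul_mk]; rfl
    rw [e, map_mul, ih, List.map_cons, prodL_cons]
    congr 1
    obtain ⟨x, b⟩ := t
    cases b with
    | true => exact FreeGroup.lift_apply_of
    | false =>
      have e1 : FreeGroup.mk [(x, false)] = (FreeGroup.of x)⁻¹ := by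
        show _ = (FreeGroup.mk [(x, true)])⁻¹
        rw [FreeGroup.inv_mk]; rfl
      rw [e1, map_inv, FreeGroup.lift_apply_of]
      exact (perm_code_false x).symm

theorem valid_map_code (L : List (GenG × Bool)) : ∀ c ∈ L.map PD.code, Valid 315 c := by
  intro c hc
  rw [List.mem_map] at hc
  obtain ⟨x, _, rfl⟩ := hc
  exact valid_code x

theorem lift_rel (L : List (GenG × Bool)) (hL : L ∈ GLLink.relWords) :
    FreeGroup.lift pgen (FreeGroup.mk L) = 1 := by
  rw [lift_mk_code]
  ext i
  rw [prodL_apply_val _ (valid_map_code _), PD.rels_ok L hL i.val i.isLt]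
  rfl

theorem perm_eq_prodL {c : ℕ} (hc : Valid 315 c) (L : List (GenG × Bool))
    (h : ∀ p < 315, evalL 315 (L.map PD.code) p = ap 315 c p) :
    perm 315 c = prodL 315 (L.map PD.code) := by
  ext i
  rw [perm_apply_val hc, prodL_apply_val _ (valid_map_code _), h i.val i.isLt]

/-- the globally presented group is isomorphic to the permutation group `PJ` -/
theorem exists_iso_PG : Nonempty (PG ≃* ↥PJ) ∧ Nat.card PG = 604800 := by
  obtain ⟨hfin, hle⟩ := card_PG_le
  haveI : Finite PG := hfin
  obtain ⟨ψ, hψ⟩ := exists_hom_of_words GLLink.rels pgen GLLink.relWords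
    (fun r hr => (GLLink.link.hrels r).mp hr) lift_rel
  have hprod : ∀ L : List (GenG × Bool), prodL 315 (L.map PD.code) ∈ ψ.range := by
    intro L
    rw [← lift_mk_code]
    refine ⟨PresentedGroup.mk GLLink.rels (FreeGroup.mk L), ?_⟩
    induction L with
    | nil => exact map_one ψ
    | cons t L ih =>
      have e : FreeGroup.mk (t :: L) = FreeGroup.mk [t] * FreeGroup.mk L := by
        rw [FreeGroup.mul_mk]; rfl
      rw [e, map_mul, map_mul, map_mul, ih]
      congr 1
      obtain ⟨x, b⟩ := t
      cases b with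
      | true =>
        show ψ (PresentedGroup.of x) = _
        rw [hψ x]; exact FreeGroup.lift_apply_of.symm
      | false =>
        have e1 : FreeGroup.mk [(x, false)] = (FreeGroup.of x)⁻¹ := by
          show _ = (FreeGroup.mk [(x, true)])⁻¹
          rw [FreeGroup.inv_mk]; rfl
        rw [e1, map_inv, map_inv, map_inv, FreeGroup.lift_apply_of]
        congr 1
        exact hψ x
  have hPJ : PJ ≤ ψ.range := by
    rw [PJ_eq, grp_le_iff]
    intro c hc
    have hc' : c ∈ topGens := hc
    have hv := valid_top hc'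
    simp only [List.mem_cons, List.not_mem_nil, or_false] at hc
    rcases hc with rfl | rfl | rfl | rfl
    · rw [perm_eq_prodL hv PD.gw0 PD.words_ok.1]; exact hprod _
    · rw [perm_eq_prodL hv PD.gw1 PD.words_ok.2.1]; exact hprod _
    · rw [perm_eq_prodL hv PD.gw2 PD.words_ok.2.2.1]; exact hprod _
    · rw [perm_eq_prodL hv PD.gw3 PD.words_ok.2.2.2]; exact hprod _
  have hlow : 604800 ≤ Nat.card ψ.range := by
    rw [← card_PJ]
    exact Subgroup.card_le_of_le hPJ
  obtain ⟨hinj, hcard⟩ := injective_of_card_le ψ hle hlow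
  refine ⟨?_, hcard⟩
  have hrange : ψ.range = PJ := by
    symm
    apply Subgroup.eq_of_le_of_card_ge hPJ
    rw [card_PJ, ← hcard]
    exact Nat.card_le_card_of_surjective ψ.rangeRestrict ψ.rangeRestrict_surjective
  exact ⟨(MonoidHom.ofInjective hinj).trans (MulEquiv.subgroupCongr hrange)⟩

theorem finite_PG : Finite PG := card_PG_le.1

theorem card_PG : Nat.card PG = 604800 := exists_iso_PG.2

theorem isSimpleGroup_PG : IsSimpleGroup PG := by
  obtain ⟨e⟩ := exists_iso_PG.1
  haveI := isSimpleGroup_PJ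
  exact e.isSimpleGroup

theorem isoJ2_PG : Cfsg.Spor.IsoJ2 PG := by
  obtain ⟨e⟩ := exists_iso_PG.1
  exact ⟨e.trans j2Equiv.symm⟩

end Cfsg.Agent.Lib.Helper14.J2Uni
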