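import Mathlib
import Cfsg.Agent.Lib.Helper14.J2UniM
import Cfsg.Agent.Lib.Helper14.J2UniN

/-!
helper14: uniqueness of `J₂` (S1720 / S1665 / S1651), part O: the homomorphism from the globally
presented group `PG ≅ J₂` to a group of `J₂`-type.
-/

set_option autoImplicit false
set_option maxHeartbeats 1600000
open scoped commutatorElement

namespace Cfsg.Agent.Lib.Helper14.J2Uni

open Equiv
open Cfsg.Agent.Lib.Helper14.EO2 Cfsg.Agent.Lib.Helper14.LES Cfsg.Agent.Lib.Helper20.ES
open Cfsg.Agent.Lib.Helper14.J2Ord Cfsg.Agent.Lib.Helper14.J2Rec Cfsg.Agent.Lib.Helper14.J2Syl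
open Cfsg.Agent.Lib.Helper14.J2UT

variable {G : Type*} [Group G]

/-- the images of the generators -/
def gmapG (x y t w : G) : GenG → G
  | .x => x
  | .y => y
  | .u => t
  | .r => w * t * w * t * w⁻¹
  | .w => w

/-- the value of a word in list form -/
def evLG (x y t w : G) (L : List (GenG × Bool)) : G :=
  (L.map fun p => cond p.2 (gmapG x y t w p.1) (gmapG x y t w p.1)⁻¹).prod

theorem liftG_mk (x y t w : G) (L : List (GenG × Bool)) :
    FreeGroup.lift (gmapG x y t w) (FreeGroup.mk L) = evLG x y t w L := by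
  rw [FreeGroup.lift_mk]; rfl

/-- the relators hold -/
theorem relsG_hold (x y t w : G) (h1 : x * x = 1) (h2 : y * y * y = 1) (h3 : (x * y) ^ 5 = 1)
    (h4 : t * t = 1)
    (h5 : (w * t * w * t * w⁻¹) * (w * t * w * t * w⁻¹) * (w * t * w * t * w⁻¹) = 1)
    (h6 : (t * (w * t * w * t * w⁻¹)) ^ 3 = 1)
    (h7 : t * x = x * t) (h8 : t * y = y * t)
    (h9 : (w * t * w * t * w⁻¹) * x = x * (w * t * w * t * w⁻¹))
    (h10 : (w * t * w * t * w⁻¹) * y = y * (w * t * w * t * w⁻¹))
    (h11 : w * w * w = 1) (h12 : (t * w) ^ 5 = 1)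
    (h14 : w * (x * y) = (x * y) * w) (h15 : w * bw x y = bw x y * w)
    (h16 : prod5 (aw x y) (t * w) = 1)
    (h17 : y⁻¹ * (bi (aw x y) (t * w) 1 * bi (aw x y) (t * w) 2) * y =
      w⁻¹ * t * w * aw x y * t * w⁻¹ * t * w * aw x y * t * w⁻¹) :
    ∀ r ∈ GLLink.rels, FreeGroup.lift (gmapG x y t w) r = 1 := by
  rintro r ⟨L, hL, rfl⟩
  rw [liftG_mk]
  simp only [GLLink.relWords, GLDef.relWords, List.mem_cons, List.not_mem_nil, or_false] at hL
  rcases hL with rfl | rfl | rfl | rfl | rfl | rfl | rfl | rfl | rfl | rfl | rfl | rfl | rfl | rfl |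
    rfl | rfl | rfl
  · simp only [evLG, gmapG, List.map_cons, List.map_nil, List.prod_cons, List.prod_nil, cond_true,
      cond_false, mul_one]
    exact h1
  · simp only [evLG, gmapG, List.map_cons, List.map_nil, List.prod_cons, List.prod_nil, cond_true,
      cond_false, mul_one]
    rw [← h2]; group
  · simp only [evLG, gmapG, List.map_cons, List.map_nil, List.prod_cons, List.prod_nil, cond_true,
      cond_false, mul_one]
    rw [← h3]; simp only [pow_succ, pow_zero, one_mul]; group
  · simp only [evLG, gmapG, List.map_cons, List.map_nil, List.prod_cons, List.prod_nil, cond_true,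
      cond_false, mul_one]
    exact h4
  · simp only [evLG, gmapG, List.map_cons, List.map_nil, List.prod_cons, List.prod_nil, cond_true,
      cond_false, mul_one]
    rw [← h5]; simp only [mul_assoc]
  · simp only [evLG, gmapG, List.map_cons, List.map_nil, List.prod_cons, List.prod_nil, cond_true,
      cond_false, mul_one]
    rw [← h6]; simp only [pow_succ, pow_zero, one_mul, mul_assoc]
  · simp only [evLG, gmapG, List.map_cons, List.map_nil, List.prod_cons, List.prod_nil, cond_true,
      cond_false, mul_one]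
    calc t * (x * (t⁻¹ * x⁻¹)) = (t * x) * t⁻¹ * x⁻¹ := by group
      _ = 1 := by rw [h7]; group
  · simp only [evLG, gmapG, List.map_cons, List.map_nil, List.prod_cons, List.prod_nil, cond_true,
      cond_false, mul_one]
    calc t * (y * (t⁻¹ * y⁻¹)) = (t * y) * t⁻¹ * y⁻¹ := by group
      _ = 1 := by rw [h8]; group
  · simp only [evLG, gmapG, List.map_cons, List.map_nil, List.prod_cons, List.prod_nil, cond_true,
      cond_false, mul_one]
    calc w * t * w * t * w⁻¹ * (x * ((w * t * w * t * w⁻¹)⁻¹ * x⁻¹))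
        = ((w * t * w * t * w⁻¹) * x) * (w * t * w * t * w⁻¹)⁻¹ * x⁻¹ := by group
      _ = 1 := by rw [h9]; group
  · simp only [evLG, gmapG, List.map_cons, List.map_nil, List.prod_cons, List.prod_nil, cond_true,
      cond_false, mul_one]
    calc w * t * w * t * w⁻¹ * (y * ((w * t * w * t * w⁻¹)⁻¹ * y⁻¹))
        = ((w * t * w * t * w⁻¹) * y) * (w * t * w * t * w⁻¹)⁻¹ * y⁻¹ := by group
      _ = 1 := by rw [h10]; group
  · simp only [evLG, gmapG, List.map_cons, List.map_nil, List.prod_cons, List.prod_nil, cond_true,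
      cond_false, mul_one]
    rw [← h11]; group
  · simp only [evLG, gmapG, List.map_cons, List.map_nil, List.prod_cons, List.prod_nil, cond_true,
      cond_false, mul_one]
    rw [← h12]; simp only [pow_succ, pow_zero, one_mul]; group
  · simp only [evLG, gmapG, List.map_cons, List.map_nil, List.prod_cons, List.prod_nil, cond_true,
      cond_false, mul_one]
    group
  · simp only [evLG, gmapG, List.map_cons, List.map_nil, List.prod_cons, List.prod_nil, cond_true,
      cond_false, mul_one]
    calc w * (x * (y * (w⁻¹ * (y⁻¹ * x⁻¹)))) = (w * (x * y)) * w⁻¹ * (x * y)⁻¹ := by group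
      _ = 1 := by rw [h14]; group
  · simp only [evLG, gmapG, List.map_cons, List.map_nil, List.prod_cons, List.prod_nil, cond_true,
      cond_false, mul_one]
    calc w * (y * (x * (y⁻¹ * (x * (y * (x * (y⁻¹ * (w⁻¹ * (y * (x⁻¹ * (y⁻¹ * (x⁻¹ * (y *
          (x⁻¹ * y⁻¹)))))))))))))) = (w * bw x y) * w⁻¹ * (bw x y)⁻¹ := by unfold bw; group
      _ = 1 := by rw [h15]; group
  · simp only [evLG, gmapG, List.map_cons, List.map_nil, List.prod_cons, List.prod_nil, cond_true,
      cond_false, mul_one]
    rw [← h16]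
    unfold prod5 bi aw
    simp only [pow_succ, pow_zero, one_mul]
    group
  · simp only [evLG, gmapG, List.map_cons, List.map_nil, List.prod_cons, List.prod_nil, cond_true,
      cond_false, mul_one]
    have h := h17
    unfold bi aw at h
    simp only [pow_succ, pow_zero, one_mul] at h
    rw [← mul_inv_eq_one] at h
    rw [← h]
    group

end Cfsg.Agent.Lib.Helper14.J2Uni
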