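import Mathlib
import Cfsg.Agent.Lib.Helper14.J2UniO

/-!
helper14: uniqueness of `J₂` (S1720 / S1665 / S1651), part Q: a group of `J₂`-type is isomorphic to `J₂`.
-/

set_option autoImplicit false
open scoped commutatorElement

namespace Cfsg.Agent.Lib.Helper14.J2Uni

open Equiv
open Cfsg.Agent.Lib.Helper14.EO2 Cfsg.Agent.Lib.Helper14.LES Cfsg.Agent.Lib.Helper20.ES
open Cfsg.Agent.Lib.Helper14.J2Ord Cfsg.Agent.Lib.Helper14.J2Rec Cfsg.Agent.Lib.Helper14.J2Syl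
open Cfsg.Agent.Lib.Helper14.J2UT

variable {G : Type*} [Group G] [Finite G]

namespace Cfg

variable {z t : G} {V B : Subgroup G} {b f : G}
  {π : ↥(Subgroup.centralizer ({f} : Set G)) →* alternatingGroup (Fin 5)} {P : Sylow 5 G}
  {t₁ : G} {Qb : Subgroup G} {x y w : G}

theorem rho_cube (S : Cfg z t V B b f π P t₁ Qb x y w) :
    (w * t * w * t * w⁻¹) * (w * t * w * t * w⁻¹) * (w * t * w * t * w⁻¹) = 1 := by
  have h := S.tw.word_iff ((Y * X * Y * X * Y⁻¹) * (Y * X * Y * X * Y⁻¹) * (Y * X * Y * X * Y⁻¹)) 1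
  simp only [map_mul, map_inv, map_one, Gen5.ev_of0, Gen5.ev_of1] at h
  exact h.mpr (by decide)

theorem trho_cube (S : Cfg z t V B b f π P t₁ Qb x y w) :
    (t * (w * t * w * t * w⁻¹)) ^ 3 = 1 := by
  have h := S.tw.word_iff ((X * (Y * X * Y * X * Y⁻¹)) ^ 3) 1
  simp only [map_mul, map_inv, map_one, map_pow, Gen5.ev_of0, Gen5.ev_of1] at h
  exact h.mpr (by decide)

theorem w_comm_xy (S : Cfg z t V B b f π P t₁ Qb x y w) : w * (x * y) = (x * y) * w := by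
  obtain ⟨k, hk⟩ := S.hf
  rw [hk]
  have h : Commute w f := S.w_comm_f
  exact (h.pow_right k).eq

theorem w_comm_bw (S : Cfg z t V B b f π P t₁ Qb x y w) : w * bw x y = bw x y * w := by
  rw [S.hb]; exact S.w_comm_b

/-- the relators of the global presentation hold -/
theorem relsG (S : Cfg z t V B b f π P t₁ Qb x y w) (hp : prod5 (aw x y) (t * w) = 1) :
    ∀ r ∈ GLLink.rels, FreeGroup.lift (gmapG x y t w) r = 1 := by
  have hT := S.base.base.ts
  exact relsG_hold x y t w S.x_sq S.y_cube S.xy_pow S.t_sq S.rho_cube S.trho_cube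
    (hT.ts.comm t hT.ts.tV x S.xy.xH) (hT.ts.comm t hT.ts.tV y S.xy.yH)
    (hT.CN_comm _ S.hρ x S.xy.xH) (hT.CN_comm _ S.hρ y S.xy.yH)
    S.w_cube S.tw_pow S.w_comm_xy S.w_comm_bw hp (S.vrel hp)

/-- a group with a configuration is isomorphic to `J₂` -/
theorem isoJ2 (S : Cfg z t V B b f π P t₁ Qb x y w) (hp : prod5 (aw x y) (t * w) = 1) :
    Cfsg.Spor.IsoJ2 G := by
  have hrel := S.relsG hp
  let φ : PG →* G := PresentedGroup.toGroup hrel
  have hφx : φ (PresentedGroup.of GLDef.Gen.x) = x := PresentedGroup.toGroup.of hrel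
  haveI := isSimpleGroup_PG
  haveI := finite_PG
  have hker : φ.ker = ⊥ := by
    rcases Subgroup.Normal.eq_bot_or_eq_top (inferInstance : φ.ker.Normal) with h | h
    · exact h
    · exfalso
      apply S.x_ne_one
      rw [← hφx]
      have : PresentedGroup.of GLDef.Gen.x ∈ φ.ker := by rw [h]; trivial
      exact this
  have hinj : Function.Injective φ := (MonoidHom.ker_eq_bot_iff φ).mp hker
  have hcard : Nat.card G = 604800 := S.base.base.card
  have hbij : Function.Bijective φ :=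
    (Nat.bijective_iff_injective_and_card φ).mpr ⟨hinj, card_PG.trans hcard.symm⟩
  obtain ⟨e2⟩ := isoJ2_PG
  exact ⟨(MulEquiv.ofBijective φ hbij).symm.trans e2⟩

end Cfg

/-- the uniqueness theorem from the structure along the 5-element -/
theorem isoJ2_of_F5P {z t : G} {V B : Subgroup G} {b f : G}
    {π : ↥(Subgroup.centralizer ({f} : Set G)) →* alternatingGroup (Fin 5)} {P : Sylow 5 G}
    {t₁ : G} {Qb : Subgroup G} (S : F5P z t V B b f π P) (hG : GP b t₁ Qb) :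
    Cfsg.Spor.IsoJ2 G := by
  obtain ⟨x, y, w, C, hp⟩ := exists_cfg S hG
  exact C.isoJ2 hp

/-- the uniqueness theorem from the hypotheses of the statement -/
theorem main (z : G) (hz : orderOf z = 2)
    (Q : Subgroup ↥(Subgroup.centralizer ({z} : Set G))) [Q.Normal]
    (hF : Cfsg.generalizedFittingSubgroup ↥(Subgroup.centralizer ({z} : Set G)) = Q)
    (hQ : Cfsg.IsExtraspecial 2 ↥Q) (hcard : Nat.card ↥Q = 2 ^ 5)
    (e : ↥(Subgroup.centralizer ({z} : Set G)) ⧸ Q ≃*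
      ↥(Cfsg.Omega (ZMod 2) (Cfsg.quadFormMinus 1 (ZMod 2) 1 1)))
    (hnwc : ∃ g : G, (∃ hq : g * z * g⁻¹ ∈ Subgroup.centralizer ({z} : Set G),
      (⟨g * z * g⁻¹, hq⟩ : ↥(Subgroup.centralizer ({z} : Set G))) ∈ Q) ∧ g * z * g⁻¹ ≠ z)
    (hcl : ∃ x y : G, orderOf x = 2 ∧ orderOf y = 2 ∧ ¬ IsConj x y) :
    Cfsg.Spor.IsoJ2 G := by
  have S := za5_of_statement z hz Q hF hQ hcard e
  have hc5 := c5_of_statement z hz Q hF hQ hcard e
  have hnwc' : ∃ g : G, g * z * g⁻¹ ∈ Q.map (Subgroup.centralizer ({z} : Set G)).subtype ∧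
      g * z * g⁻¹ ≠ z := by
    obtain ⟨g, ⟨hq, hqQ⟩, hne⟩ := hnwc
    exact ⟨g, ⟨⟨_, hq⟩, hqQ, rfl⟩, hne⟩
  obtain ⟨t, hgp, hall⟩ := S.exists_GP hnwc' hcl
  obtain ⟨V, B, hT, hV4, hVz, hBn, hVc, -, -, hCt⟩ := hgp.structure_thm hall
  have hTS : TS z t V B := ⟨hT, hV4, hVz, hBn, hVc, hCt⟩
  obtain ⟨b, f, hF5⟩ := exists_F5 hTS hc5 (hgp.order hall)
  obtain ⟨π, P, l, hL⟩ := exists_L5 hF5
  obtain ⟨g, hg⟩ := isConj_iff.mp (hF5.ts.ts.Bz b hF5.bB hF5.bb hF5.b1)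
  have hG := hgp.conj g
  rw [hg] at hG
  exact isoJ2_of_F5P hL.base hG

end Cfsg.Agent.Lib.Helper14.J2Uni
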