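import Mathlib
import Cfsg.Agent.S0215
import Cfsg.Agent.Lib.Helper14.J2UniQ

/-!
helper14: uniqueness of `J₂` (S1665 / S1651), part R: the hypotheses of Janko's form of the theorem
(`C_G(z) = Q.A₅` with `C(Q) ≤ Q`, `G` simple with non-conjugate involutions): the involution `z` is not
weakly closed in `Q` (Glauberman's `Z*`-theorem and the structure of the centralizer), hence `G ≅ J₂`.
-/

set_option autoImplicit false
open scoped commutatorElement

namespace Cfsg.Agent.Lib.Helper14.J2Uni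

open Equiv
open Cfsg.Agent.Lib.Helper14.EO2 Cfsg.Agent.Lib.Helper14.LES Cfsg.Agent.Lib.Helper20.ES
open Cfsg.Agent.Lib.Helper14.J2Ord Cfsg.Agent.Lib.Helper14.J2Rec Cfsg.Agent.Lib.Helper14.J2Syl

variable {G : Type*} [Group G] [Finite G]

section Pack

variable (z : G) (hz : orderOf z = 2)
  (Q : Subgroup ↥(Subgroup.centralizer ({z} : Set G))) [Q.Normal]
  (hQ : Cfsg.IsExtraspecial 2 ↥Q) (hcard : Nat.card ↥Q = 32)
  (hcc : Subgroup.centralizer (Q : Set ↥(Subgroup.centralizer ({z} : Set G))) ≤ Q)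
  (e : ↥(Subgroup.centralizer ({z} : Set G)) ⧸ Q ≃* alternatingGroup (Fin 5))

include hz hQ hcard hcc e in
/-- the package `ZA5` and the property `C5` from Janko's hypotheses -/
theorem za5_c5_of_cc : ZA5 z (Q.map (Subgroup.centralizer ({z} : Set G)).subtype) ∧ C5 z := by
  have hinj : Function.Injective (Subgroup.centralizer ({z} : Set G)).subtype :=
    Subgroup.subtype_injective _
  have hmem : ∀ x : ↥(Subgroup.centralizer ({z} : Set G)),
      (x : G) ∈ Q.map (Subgroup.centralizer ({z} : Set G)).subtype ↔ x ∈ Q := by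
    intro x
    constructor
    · rintro ⟨y, hy, hyx⟩
      have : y = x := Subtype.ext hyx
      rwa [← this]
    · intro hx
      exact ⟨x, hx, rfl⟩
  have hzC : z ∈ Subgroup.centralizer ({z} : Set G) := (mem_cent_iff z z).mpr rfl
  have hzQ : (⟨z, hzC⟩ : ↥(Subgroup.centralizer ({z} : Set G))) ∈ Q := by
    apply hcc
    rw [Subgroup.mem_centralizer_iff]
    intro y _
    apply Subtype.ext
    show (y : G) * z = z * (y : G)
    exact (mem_cent_iff z y.1).mp y.2
  -- the hypothesis package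
  have hyp : Hyp z (Q.map (Subgroup.centralizer ({z} : Set G)).subtype) := by
    refine ⟨ne_one_of_order_two hz, sq_of_order_two hz, ?_, ?_, ?_, ?_⟩
    · exact Cfsg.Agent.Lib.Helper16.AGL.isExtraspecial_of_mulEquiv
        (Q.equivMapOfInjective _ hinj) hQ
    · rintro e' ⟨y, -, rfl⟩
      exact (mem_cent_iff z y.1).mp y.2
    · rintro h hh e' ⟨y, hy, rfl⟩
      have hhH : h ∈ Subgroup.centralizer ({z} : Set G) := (mem_cent_iff z h).mpr hh
      have hn : Q.Normal := inferInstance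
      exact ⟨⟨h, hhH⟩ * y * ⟨h, hhH⟩⁻¹, hn.conj_mem y hy ⟨h, hhH⟩, rfl⟩
    · intro x hx
      have hxz : x * z = z * x := hx z ⟨⟨z, hzC⟩, hzQ, rfl⟩
      have hxC : x ∈ Subgroup.centralizer ({z} : Set G) := (mem_cent_iff z x).mpr hxz
      refine ⟨⟨x, hxC⟩, hcc ?_, rfl⟩
      rw [Subgroup.mem_centralizer_iff]
      intro y hy
      apply Subtype.ext
      show (y : G) * x = x * (y : G)
      exact (hx y.1 ⟨y, hy, rfl⟩).symm
  have hcardQ : Nat.card ↥(Q.map (Subgroup.centralizer ({z} : Set G)).subtype) = 32 := by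
    rw [Subgroup.card_map_of_injective hinj, hcard]
  -- the homomorphism
  let φ : ↥(Subgroup.centralizer ({z} : Set G)) →* alternatingGroup (Fin 5) :=
    e.toMonoidHom.comp (QuotientGroup.mk' Q)
  have hφ : ∀ x, φ x = e (QuotientGroup.mk' Q x) := fun x => rfl
  have hsurj : Function.Surjective φ := by
    intro y
    obtain ⟨x, hx⟩ := QuotientGroup.mk'_surjective Q (e.symm y)
    refine ⟨x, ?_⟩
    rw [hφ, hx, MulEquiv.apply_symm_apply]
  have hker : ∀ x, φ x = 1 ↔ (x : G) ∈ Q.map (Subgroup.centralizer ({z} : Set G)).subtype := by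
    intro x
    rw [hmem, hφ, MulEquiv.map_eq_one_iff, QuotientGroup.mk'_apply,
      QuotientGroup.eq_one_iff]
  -- an element of order 5
  have hcardH : Nat.card ↥(Subgroup.centralizer ({z} : Set G)) = 1920 := by
    have h := card_preimage φ hsurj (fun _ => True)
    rw [Nat.card_congr (Equiv.subtypeUnivEquiv (fun _ => trivial)),
      Nat.card_congr (Equiv.subtypeUnivEquiv (fun _ => trivial)),
      card_of_iso_A5 (MulEquiv.refl _)] at h
    have hk : Nat.card ↥φ.ker = 32 := by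
      rw [← hcard]
      apply Nat.card_congr
      exact
        { toFun := fun k => ⟨k.1, (hmem k.1).mp ((hker k.1).mp (MonoidHom.mem_ker.mp k.2))⟩
          invFun := fun q => ⟨q.1, MonoidHom.mem_ker.mpr ((hker q.1).mpr ((hmem q.1).mpr q.2))⟩
          left_inv := fun _ => rfl
          right_inv := fun _ => rfl }
    rw [hk] at h
    exact h
  have hex5 : ∃ f : G, f * z = z * f ∧ orderOf f = 5 := by
    haveI : Fact (Nat.Prime 5) := ⟨by norm_num⟩
    obtain ⟨f, hf⟩ := exists_prime_orderOf_dvd_card' (G := ↥(Subgroup.centralizer ({z} : Set G))) 5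
      (by rw [hcardH]; norm_num)
    exact ⟨f.1, (mem_cent_iff z f.1).mp f.2, by rw [Subgroup.orderOf_coe]; exact hf⟩
  have hZ := za5_of_hom (MulEquiv.refl _) ⟨hyp, hcardQ, hex5⟩ φ hsurj hker
  exact ⟨hZ, c5_of_hom (MulEquiv.refl _) hZ.base φ hker⟩

end Pack

/-- the uniqueness theorem from the packages -/
theorem isoJ2_of_za5 {z : G} {Q : Subgroup G} (S : ZA5 z Q) (hc5 : C5 z)
    (hnwc : ∃ g : G, g * z * g⁻¹ ∈ Q ∧ g * z * g⁻¹ ≠ z)
    (hcl : ∃ x y : G, orderOf x = 2 ∧ orderOf y = 2 ∧ ¬ IsConj x y) :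
    Cfsg.Spor.IsoJ2 G := by
  obtain ⟨t, hgp, hall⟩ := S.exists_GP hnwc hcl
  obtain ⟨V, B, hT, hV4, hVz, hBn, hVc, -, -, hCt⟩ := hgp.structure_thm hall
  have hTS : TS z t V B := ⟨hT, hV4, hVz, hBn, hVc, hCt⟩
  obtain ⟨b, f, hF5⟩ := exists_F5 hTS hc5 (hgp.order hall)
  obtain ⟨π, P, l, hL⟩ := exists_L5 hF5
  obtain ⟨g, hg⟩ := isConj_iff.mp (hF5.ts.ts.Bz b hF5.bB hF5.bb hF5.b1)
  have hG := hgp.conj g
  rw [hg] at hG
  exact isoJ2_of_F5P hL.base hG

/-- in a simple group the involution `z` is not weakly closed in `Q` -/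
theorem exists_nwc [IsSimpleGroup G] {z : G} {Q : Subgroup G} (S : ZA5 z Q)
    (hz : orderOf z = 2) : ∃ g : G, g * z * g⁻¹ ∈ Q ∧ g * z * g⁻¹ ≠ z := by
  have H := S.base.hyp
  haveI : Fact (Nat.Prime 2) := ⟨Nat.prime_two⟩
  have hQ2 : IsPGroup 2 ↥Q := IsPGroup.of_card (n := 5) (by rw [S.base.cardQ]; norm_num)
  obtain ⟨P, hQP⟩ := hQ2.exists_le_sylow
  have hzP : z ∈ (P : Subgroup G) := hQP H.zE
  -- `z` is central in `P`
  have hzc : ∀ p ∈ (P : Subgroup G), z * p = p * z := by
    haveI : Nontrivial ↥(P : Subgroup G) :=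
      ⟨⟨⟨z, hzP⟩, 1, fun h => H.z1 (congrArg Subtype.val h)⟩⟩
    haveI := P.isPGroup'.center_nontrivial
    obtain ⟨c, hc⟩ := exists_ne (1 : ↥(Subgroup.center ↥(P : Subgroup G)))
    have hc' : ∀ p ∈ (P : Subgroup G), ((c : ↥(P : Subgroup G)) : G) * p = p * c := by
      intro p hp
      have h := (Subgroup.mem_center_iff.mp c.2) ⟨p, hp⟩
      exact (congrArg Subtype.val h).symm
    rcases H.center_of_overgroup P hQP _ hc' with h | h
    · exfalso
      apply hc
      apply Subtype.ext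
      apply Subtype.ext
      exact h
    · rw [← h]; exact hc'
  by_contra hcon
  push_neg at hcon
  have hzz : z * z = 1 := H.zz
  have hzi : z⁻¹ = z := H.zinv
  -- `z` is isolated in `P`
  have hiso : ∀ g : G, g * z * g⁻¹ ∈ (P : Subgroup G) → g * z * g⁻¹ = z := by
    intro g hg
    by_contra hne
    have huz : g * z * g⁻¹ * z = z * (g * z * g⁻¹) := (hzc _ hg).symm
    have huu : g * z * g⁻¹ * (g * z * g⁻¹) = 1 := by
      calc g * z * g⁻¹ * (g * z * g⁻¹) = g * (z * z) * g⁻¹ := by group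
        _ = 1 := by rw [hzz]; group
    have huQ : g * z * g⁻¹ ∉ Q := fun h => hne (hcon g h)
    have Z1 : ZP z Q := S.toZP ⟨_, huz, huu, huQ⟩
    have Z2 := Z1.conj g
    have hzQu : z ∉ Q.map (MulAut.conj g).toMonoidHom := by
      rintro ⟨q, hq, hqz⟩
      have hqz' : g * q * g⁻¹ = z := hqz
      have hq' : q = g⁻¹ * z * g⁻¹⁻¹ := by rw [← hqz']; group
      have h1 := hcon g⁻¹ (hq' ▸ hq)
      apply hne
      calc g * z * g⁻¹ = g * (g⁻¹ * z * g⁻¹⁻¹) * g⁻¹ := by rw [h1]
        _ = z := by group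
    obtain ⟨s, hs, hus, -⟩ := Z1.cent4 _ huz huu huQ
    obtain ⟨hsQ, hss, hs1, hsz⟩ := hs
    have key : ∀ s' ∈ Q, s' * s' = 1 → s' ≠ z → s' * (g * z * g⁻¹) = g * z * g⁻¹ * s' →
        s' ∈ Q.map (MulAut.conj g).toMonoidHom := by
      intro s' hs'Q hs's' hs'z hs'u
      by_contra hs'Qu
      obtain ⟨k, -, hk⟩ := Z2.conjH z s' huz.symm hzz hzQu hs'u hs's' hs'Qu
      exact hs'z ((hcon k (hk ▸ hs'Q)) ▸ hk.symm)
    have hszc : s * z = z * s := H.le s hsQ
    have h1 := key s hsQ hss hsz hus.symm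
    have h2 := key (s * z) (Q.mul_mem hsQ H.zE)
      (by
        calc s * z * (s * z) = s * (z * s) * z := by group
          _ = s * (s * z) * z := by rw [hszc]
          _ = (s * s) * (z * z) := by group
          _ = 1 := by rw [hss, hzz, mul_one])
      (by
        intro h
        apply hs1
        calc s = s * z * z⁻¹ := by group
          _ = z * z⁻¹ := by rw [h]
          _ = 1 := by group)
      (by
        calc s * z * (g * z * g⁻¹) = s * (z * (g * z * g⁻¹)) := by group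
          _ = s * (g * z * g⁻¹ * z) := by rw [huz]
          _ = (s * (g * z * g⁻¹)) * z := by group
          _ = (g * z * g⁻¹ * s) * z := by rw [← hus]
          _ = g * z * g⁻¹ * (s * z) := by group)
    apply hzQu
    have : z = s⁻¹ * (s * z) := by group
    rw [this]
    exact Subgroup.mul_mem _ (Subgroup.inv_mem _ h1) h2
  obtain ⟨N, hN, hodd, hcomm⟩ := Cfsg.Agent.S0215.result P z hz hzP hiso
  rcases hN.eq_bot_or_eq_top with h | h
  · -- `z` is central, so that `G = C_G(z)` has a normal subgroup of order 32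
    have hzcen : ∀ g : G, g * z = z * g := by
      intro g
      have h1 := hcomm g
      rw [h, Subgroup.mem_bot] at h1
      calc g * z = (z * g * z⁻¹ * g⁻¹)⁻¹ * (z * g * z⁻¹ * g⁻¹) * g * z := by group
        _ = (z * g * z⁻¹ * g⁻¹)⁻¹ * z * g * (z⁻¹ * z) := by group
        _ = z * g := by rw [h1]; group
    have hQn : Q.Normal := ⟨fun q hq g => H.nor g (hzcen g) q hq⟩
    rcases hQn.eq_bot_or_eq_top with h2 | h2
    · have := S.base.cardQ
      rw [h2, Subgroup.card_bot] at this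
      omega
    · have h3 := S.base.cardQ
      rw [h2, Subgroup.card_top] at h3
      have h4 := S.cardH
      have h5 : Nat.card ↥(Subgroup.centralizer ({z} : Set G)) ≤ Nat.card G :=
        Subgroup.card_le_card_group _
      omega
  · have h1 : Odd (Nat.card G) := by
      rw [h, Subgroup.card_top] at hodd
      exact hodd
    have h2 : 2 ∣ Nat.card G := by rw [← hz]; exact orderOf_dvd_natCard z
    exact (Nat.not_even_iff_odd.mpr h1) (even_iff_two_dvd.mpr h2)

/-- the uniqueness theorem from Janko's hypotheses -/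
theorem main_simple [IsSimpleGroup G] (z : G) (hz : orderOf z = 2)
    (Q : Subgroup ↥(Subgroup.centralizer ({z} : Set G))) [Q.Normal]
    (hQ : Cfsg.IsExtraspecial 2 ↥Q) (hcard : Nat.card ↥Q = 32)
    (hcc : Subgroup.centralizer (Q : Set ↥(Subgroup.centralizer ({z} : Set G))) ≤ Q)
    (e : ↥(Subgroup.centralizer ({z} : Set G)) ⧸ Q ≃* alternatingGroup (Fin 5))
    (hcl : ∃ x y : G, orderOf x = 2 ∧ orderOf y = 2 ∧ ¬ IsConj x y) :
    Cfsg.Spor.IsoJ2 G := by
  obtain ⟨S, hc5⟩ := za5_c5_of_cc z hz Q hQ hcard hcc e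
  exact isoJ2_of_za5 S hc5 (exists_nwc S hz) hcl

end Cfsg.Agent.Lib.Helper14.J2Uni
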