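import Cfsg.Agent.Lib.Helper14.J2U

set_option autoImplicit false

/-!
The Hall–Janko group on 315 points: the kernel checks of the certificates.
-/

namespace Cfsg.Agent.Lib.Helper14.J2

open Cfsg.Agent.Lib.Helper10.SW

set_option maxRecDepth 1000000 in
theorem rows_ok : rowsOk 315 gam = true := by decide +kernel

set_option maxRecDepth 1000000 in
theorem aut_ok : ((allGens lvs).all fun c => autOk 315 gam c) = true := by decide +kernel

set_option maxRecDepth 1000000 in
theorem round1 : roundOk 315 gam (c0fun rbPts) col1 = true := by decide +kernel

set_option maxRecDepth 1000000 in
theorem round2 : roundOk 315 gam (cimg col1) col2 = true := by decide +kernel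

set_option maxRecDepth 1000000 in
theorem round3 : roundOk 315 gam (cimg col2) col3 = true := by decide +kernel

set_option maxRecDepth 1000000 in
theorem round4 : roundOk 315 gam (cimg col3) col4 = true := by decide +kernel

set_option maxRecDepth 1000000 in
theorem round5 : roundOk 315 gam (cimg col4) col5 = true := by decide +kernel

set_option maxRecDepth 1000000 in
theorem distinct_ok : distinctOk 315 colMod col5 = true := by decide +kernel

end Cfsg.Agent.Lib.Helper14.J2
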