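import Cfsg.Agent.Lib.Helper14.J2U

set_option autoImplicit false

/-!
The Hall–Janko group on 315 points: the kernel check of the stabiliser chain.
-/

namespace Cfsg.Agent.Lib.Helper14.J2

open Cfsg.Agent.Lib.Helper10.SW

set_option maxRecDepth 1000000 in
theorem ok3 : levelOk 315 rbPts lv3 [] = true := by decide +kernel

set_option maxRecDepth 1000000 in
theorem ok2 : levelOk 315 rbPts lv2 [lv3] = true := by decide +kernel

set_option maxRecDepth 1000000 in
theorem ok1 : levelOk 315 rbPts lv1 [lv2, lv3] = true := by decide +kernel

set_option maxRecDepth 1000000 in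
set_option maxHeartbeats 4000000 in
theorem ok0 : levelOk 315 rbPts lv0 [lv1, lv2, lv3] = true := by decide +kernel

end Cfsg.Agent.Lib.Helper14.J2
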