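import Cfsg.Agent.Lib.Helper14.J2Y
import Cfsg.Agent.Lib.Helper10.SWGlue

set_option autoImplicit false

/-!
The Hall–Janko group on 315 points: kernel checks of the maximality certificates.
-/

namespace Cfsg.Agent.Lib.Helper14.J2

open Cfsg.Agent.Lib.Helper10.SW

set_option maxRecDepth 1000000 in
theorem forestA : treeOk 315 lv1.moves fA = true := by decide +kernel

set_option maxRecDepth 1000000 in
theorem coverA : coverChk 315 fA 0 (fun _ => true) (rootsA.map Prod.fst) = true := by
  decide +kernel

set_option maxRecDepth 1000000 in
theorem rootA1 : rootChk 315 lv1.moves lv0.moves 0 (fun _ => true) eA1 wA1 = true := by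
  decide +kernel

set_option maxRecDepth 1000000 in
theorem rootA2 : rootChk 315 lv1.moves lv0.moves 0 (fun _ => true) eA2 wA2 = true := by
  decide +kernel

set_option maxRecDepth 1000000 in
theorem rootA3 : rootChk 315 lv1.moves lv0.moves 0 (fun _ => true) eA3 wA3 = true := by
  decide +kernel

set_option maxRecDepth 1000000 in
theorem rootA4 : rootChk 315 lv1.moves lv0.moves 0 (fun _ => true) eA4 wA4 = true := by
  decide +kernel

set_option maxRecDepth 1000000 in
theorem rootA5 : rootChk 315 lv1.moves lv0.moves 0 (fun _ => true) eA5 wA5 = true := by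
  decide +kernel

end Cfsg.Agent.Lib.Helper14.J2
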