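import Cfsg.Agent.Lib.Helper14.J2U

set_option autoImplicit false

/-!
The Hall–Janko group on 315 points: kernel checks of relations between the generators.
-/

namespace Cfsg.Agent.Lib.Helper14.J2

open Cfsg.Agent.Lib.Helper10.SW

set_option maxRecDepth 1000000 in
theorem rel01 : (rbPts.all fun x => evalL 315 [c0, c1, c0, c1, c0, c1] x == x) = true := by
  decide +kernel

set_option maxRecDepth 1000000 in
theorem rel02 : (rbPts.all fun x => evalL 315 [c0, c2, c0, c2, c0, c2] x == x) = true := by
  decide +kernel

set_option maxRecDepth 1000000 in
theorem rel03 : (rbPts.all fun x => evalL 315 [c0, c3, c0, c3, c0, c3] x == x) = true := by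
  decide +kernel

set_option maxRecDepth 1000000 in
theorem rel123 :
    (rbPts.all fun x => evalL 315 (List.replicate 15 [c1, c2, c3]).flatten x == x) = true := by
  decide +kernel

/-- two packed maps commute -/
def commB (n P Q : ℕ) : Bool := allLt n fun x => ap n P (ap n Q x) == ap n Q (ap n P x)

set_option maxRecDepth 1000000 in
theorem comm0 : (lv1.sgens.all fun s => commB 315 c0 s) = true := by decide +kernel

/-- the first generator is not the identity -/
theorem c0_moves : ap 315 c0 3 ≠ 3 := by decide +kernel

end Cfsg.Agent.Lib.Helper14.J2
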