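import Cfsg.Agent.Lib.Helper14.J2V
import Cfsg.Agent.Lib.Helper14.J2W
import Cfsg.Agent.Lib.Helper14.J2Z
import Cfsg.Agent.Lib.Helper14.J2Za
import Cfsg.Agent.Lib.Helper14.IwaCenter
import Cfsg.Agent.Lib.Helper10.SWExtra

set_option autoImplicit false
set_option linter.style.haveILetI false

/-!
The Hall–Janko group as a permutation group on 315 points: order, transitivity, primitivity,
perfectness, simplicity.  (The structure follows helper10's treatment of J3.)
-/

namespace Cfsg.Agent.Lib.Helper14.J2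

open Cfsg.Agent.Lib.Helper10.SW Cfsg.Agent.Lib.Helper10.SWSimple MulAction

attribute [local irreducible] perm

/-! ### validity and the group -/

theorem pre0 : levelPre 315 lv0 [lv1, lv2, lv3] = true := levelPre_of_levelOk ok0
theorem pre1 : levelPre 315 lv1 [lv2, lv3] = true := levelPre_of_levelOk ok1
theorem pre2 : levelPre 315 lv2 [lv3] = true := levelPre_of_levelOk ok2
theorem pre3 : levelPre 315 lv3 [] = true := levelPre_of_levelOk ok3

theorem valid3 : ∀ c ∈ allGens [lv3], Valid 315 c :=
  valid_cons_of_pre pre3 (fun _ hc => absurd hc List.not_mem_nil)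
theorem valid2 : ∀ c ∈ allGens [lv2, lv3], Valid 315 c := valid_cons_of_pre pre2 valid3
theorem valid1 : ∀ c ∈ allGens [lv1, lv2, lv3], Valid 315 c := valid_cons_of_pre pre1 valid2
theorem valid0 : ∀ c ∈ allGens [lv0, lv1, lv2, lv3], Valid 315 c := valid_cons_of_pre pre0 valid1

/-- the group -/
noncomputable def PJ : Subgroup (Equiv.Perm (Fin 315)) := grp 315 (allGens [lv0, lv1, lv2, lv3])

/-- the point stabiliser -/
noncomputable def KJ : Subgroup (Equiv.Perm (Fin 315)) := grp 315 (allGens [lv1, lv2, lv3])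

theorem PJ_eq : PJ = grp 315 [c0, c1, c2, c3] := levelPre_grp pre0 valid0

theorem KJ_eq : KJ = grp 315 [c0, c4, c5, c6, c7, c8] := levelPre_grp pre1 valid1

/-! ### rigidity -/

theorem rigid5 : Rigid 315 rbPts (autGroup 315 gam) := by
  intro g hg hfix
  have e0 := c0_inv rbPts hfix
  have e1 := round_inv rows_ok hg e0 round1
  have e2 := round_inv rows_ok hg e1 round2
  have e3 := round_inv rows_ok hg e2 round3
  have e4 := round_inv rows_ok hg e3 round4
  have e5 := round_inv rows_ok hg e4 round5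
  exact eq_one_of_discrete distinct_ok e5

theorem htop0 : ∀ c ∈ allGens [lv0, lv1, lv2, lv3], perm 315 c ∈ autGroup 315 gam :=
  fun c hc => isAut_of_autOk rows_ok (valid0 c hc) (List.all_eq_true.mp aut_ok c hc)

theorem htop1 : ∀ c ∈ allGens [lv1, lv2, lv3], perm 315 c ∈ autGroup 315 gam :=
  fun c hc => htop0 c (allGens_sub_cons lv0 _ c hc)

theorem PJ_le_aut : PJ ≤ autGroup 315 gam := grp_le_iff.mpr htop0

/-! ### the chain -/

theorem chain3 : chainOk 315 rbPts [lv3] = true := chainOk_cons (chainOk_nil _ _) ok3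
theorem chain2 : chainOk 315 rbPts [lv2, lv3] = true := chainOk_cons chain3 ok2
theorem chain1 : chainOk 315 rbPts [lv1, lv2, lv3] = true := chainOk_cons chain2 ok1
theorem chain0 : chainOk 315 rbPts [lv0, lv1, lv2, lv3] = true := chainOk_cons chain1 ok0

theorem inv0 : ChainInv 315 rbPts (autGroup 315 gam) [lv0, lv1, lv2, lv3] :=
  chain_sound 315 rbPts _ rigid5 _ htop0 chain0

theorem inv1 : ChainInv 315 rbPts (autGroup 315 gam) [lv1, lv2, lv3] :=
  chain_sound 315 rbPts _ rigid5 _ htop1 chain1

theorem card_PJ : Nat.card ↥PJ = 604800 := inv0.card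

theorem card_KJ : Nat.card ↥KJ = 1920 := inv1.card

/-! ### the base point and its stabiliser -/

theorem hb0 : lv0.b < 315 := (inv0.fixb lv0 _ rfl).1

/-- the base point -/
def v0 : Fin 315 := ⟨lv0.b, hb0⟩

theorem v0_val : v0.val = 0 := rfl

theorem stabP : PJ ⊓ stabilizer (Equiv.Perm (Fin 315)) v0 = KJ := stab_eq inv0 hb0

theorem KJ_le_PJ : KJ ≤ PJ := by rw [← stabP]; exact inf_le_left

theorem card_stab : Nat.card ↥(stabilizer ↥PJ v0) = 1920 := by
  rw [card_stabilizer_subtype, stabP]
  exact card_KJ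

/-! ### transitivity -/

theorem exists_map (p : Fin 315) : ∃ g ∈ PJ, g • v0 = p :=
  exists_map_of_path inv0 hb0 p (levelPre_full pre0 rfl p.val p.isLt)

theorem pretransitive_PJ : IsPretransitive ↥PJ (Fin 315) :=
  isPretransitive_subtype PJ v0 exists_map

/-! ### maximality of the point stabiliser -/

theorem moves0 : MovesIn 315 lv0.moves PJ := by
  rw [PJ_eq]
  exact levelPre_moves pre0

theorem moves1 : MovesIn 315 lv1.moves KJ := by
  rw [KJ_eq]
  exact levelPre_moves pre1

theorem rootsA_ok : ∀ e ∈ rootsA, RootOk 315 PJ lv1.moves v0 e := by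
  have hdom : ∀ g ∈ PJ, (fun _ : ℕ => true) (g v0).val = true := fun _ _ => rfl
  intro e he
  unfold rootsA at he
  rcases List.mem_cons.mp he with rfl | he
  · exact rootChk_sound moves0 v0 hdom rootA1
  rcases List.mem_cons.mp he with rfl | he
  · exact rootChk_sound moves0 v0 hdom rootA2
  rcases List.mem_cons.mp he with rfl | he
  · exact rootChk_sound moves0 v0 hdom rootA3
  rcases List.mem_cons.mp he with rfl | he
  · exact rootChk_sound moves0 v0 hdom rootA4
  rcases List.mem_cons.mp he with rfl | he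
  · exact rootChk_sound moves0 v0 hdom rootA5
  exact absurd he List.not_mem_nil

theorem maxA : ∀ L : Subgroup (Equiv.Perm (Fin 315)),
    PJ ⊓ stabilizer (Equiv.Perm (Fin 315)) v0 ≤ L → L ≤ PJ →
      L = PJ ⊓ stabilizer (Equiv.Perm (Fin 315)) v0 ∨ L = PJ := by
  apply rel_max PJ v0 lv1.moves _ fA forestA rootsA rootsA_ok
  · exact coverChk_sound v0 (dom := fun _ => true) (fun _ _ => rfl) coverA
  · rw [stabP]
    exact moves1

theorem hmax : IsCoatom (stabilizer ↥PJ v0) := by
  apply isCoatom_stabilizer_subtype PJ v0 maxA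
  obtain ⟨g, hg, hgy⟩ := exists_map (⟨3, by norm_num⟩ : Fin 315)
  refine ⟨g, hg, ?_⟩
  rw [hgy]
  intro h
  have := congrArg Fin.val h
  rw [v0_val] at this
  norm_num at this

theorem preprimitive_PJ : IsPreprimitive ↥PJ (Fin 315) := by
  haveI := pretransitive_PJ
  exact (isCoatom_stabilizer_iff_preprimitive (G := ↥PJ) v0).mp hmax

end Cfsg.Agent.Lib.Helper14.J2
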