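import Cfsg.Agent.Lib.Helper14.J2X

set_option autoImplicit false
set_option linter.style.haveILetI false

/-!
The Hall–Janko group as a permutation group on 315 points: perfectness and simplicity.
-/

namespace Cfsg.Agent.Lib.Helper14.J2

open Cfsg.Agent.Lib.Helper10.SW Cfsg.Agent.Lib.Helper10.SWSimple MulAction

attribute [local irreducible] perm

/-- the top generators -/
def topGens : List ℕ := [c0, c1, c2, c3]

theorem PJ_eq' : PJ = grp 315 topGens := PJ_eq

set_option maxRecDepth 100000 in
theorem top_sub : ∀ c ∈ topGens, c ∈ allGens [lv0, lv1, lv2, lv3] := by decide +kernel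

theorem valid_top {c : ℕ} (hc : c ∈ topGens) : Valid 315 c := valid0 c (top_sub c hc)

theorem perm_mem_PJ {c : ℕ} (hc : c ∈ topGens) : perm 315 c ∈ PJ := by
  rw [PJ_eq']
  exact perm_mem_grp hc

/-- a top generator as an element of the group -/
noncomputable def gen (c : ℕ) (hc : c ∈ topGens) : ↥PJ := ⟨perm 315 c, perm_mem_PJ hc⟩

theorem h0 : c0 ∈ topGens := by unfold topGens; exact List.mem_cons_self
theorem h1 : c1 ∈ topGens := by
  unfold topGens; exact List.mem_cons_of_mem _ List.mem_cons_self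
theorem h2 : c2 ∈ topGens := by
  unfold topGens; exact List.mem_cons_of_mem _ (List.mem_cons_of_mem _ List.mem_cons_self)
theorem h3 : c3 ∈ topGens := by
  unfold topGens
  exact List.mem_cons_of_mem _ (List.mem_cons_of_mem _ (List.mem_cons_of_mem _ List.mem_cons_self))

theorem mem_topGens {c : ℕ} (hc : c ∈ topGens) : c = c0 ∨ c = c1 ∨ c = c2 ∨ c = c3 := by
  unfold topGens at hc
  simpa using hc

/-- a subgroup containing the four generators is everything -/
theorem eq_top_of_gens (H : Subgroup ↥PJ) (h : ∀ c (hc : c ∈ topGens), gen c hc ∈ H) : H = ⊤ := by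
  rw [eq_top_iff]
  intro g _
  have hle' : grp 315 topGens ≤ H.map PJ.subtype := by
    apply grp_le_iff.mpr
    intro c hc
    exact ⟨gen c hc, h c hc, rfl⟩
  have hle : PJ ≤ H.map PJ.subtype := le_of_eq_of_le PJ_eq' hle'
  obtain ⟨x, hx, hxg⟩ := hle g.2
  have : x = g := Subtype.ext hxg
  rw [← this]
  exact hx

/-- a product of generators which fixes the base is trivial -/
theorem prodL_one {L : List ℕ} (hL : ∀ c ∈ L, c ∈ topGens)
    (h : (rbPts.all fun x => evalL 315 L x == x) = true) : prodL 315 L = 1 :=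
  prodL_eq_one_of_rigid rigid5
    (fun c hc => ⟨valid_top (hL c hc), htop0 c (top_sub c (hL c hc))⟩) h

set_option maxRecDepth 100000 in
theorem moves0_mem : ∀ c ∈ topGens, (c, c) ∈ lv0.moves := by decide +kernel

theorem sq_top {c : ℕ} (hc : c ∈ topGens) : perm 315 c * perm 315 c = 1 := by
  have hm : (c, c) ∈ lv0.moves := moves0_mem c hc
  obtain ⟨-, -, h3, -⟩ := moves0 (c, c) hm
  simp only at h3
  calc perm 315 c * perm 315 c = perm 315 c * (perm 315 c)⁻¹ := by rw [← h3]
    _ = 1 := mul_inv_cancel _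

theorem gen_sq {c : ℕ} (hc : c ∈ topGens) : gen c hc * gen c hc = 1 :=
  Subtype.ext (sq_top hc)

theorem rel_cube {c : ℕ} (hc : c ∈ topGens)
    (h : (rbPts.all fun x => evalL 315 [c0, c, c0, c, c0, c] x == x) = true) :
    (gen c0 h0 * gen c hc) ^ 3 = 1 := by
  have hL : ∀ d ∈ [c0, c, c0, c, c0, c], d ∈ topGens := by
    intro d hd
    simp only [List.mem_cons, List.not_mem_nil, or_false] at hd
    rcases hd with rfl | rfl | rfl | rfl | rfl | rfl
    all_goals first | exact h0 | exact hc
  have := prodL_one hL h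
  simp only [prodL_cons, prodL_nil, mul_one] at this
  apply Subtype.ext
  rw [Subgroup.coe_pow, Subgroup.coe_mul, Subgroup.coe_one, pow_succ, pow_succ, pow_one]
  show perm 315 c0 * perm 315 c * (perm 315 c0 * perm 315 c) * (perm 315 c0 * perm 315 c) = 1
  rw [← this]
  simp only [mul_assoc]

theorem rel15 : (gen c1 h1 * gen c2 h2 * gen c3 h3) ^ 15 = 1 := by
  have hL : ∀ d ∈ (List.replicate 15 [c1, c2, c3]).flatten, d ∈ topGens := by
    intro d hd
    rw [List.mem_flatten] at hd
    obtain ⟨l, hl, hd⟩ := hd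
    rw [List.eq_of_mem_replicate hl] at hd
    simp only [List.mem_cons, List.not_mem_nil, or_false] at hd
    rcases hd with rfl | rfl | rfl
    · exact h1
    · exact h2
    · exact h3
  have := prodL_one hL rel123
  rw [prodL_flatten_replicate] at this
  simp only [prodL_cons, prodL_nil, mul_one] at this
  apply Subtype.ext
  rw [Subgroup.coe_pow, Subgroup.coe_one, ← this]
  congr 1

/-- the group is perfect -/
theorem hperf : commutator ↥PJ = ⊤ := by
  let q : ↥PJ →* Abelianization ↥PJ := Abelianization.of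
  have hsq : ∀ c (hc : c ∈ topGens), q (gen c hc) * q (gen c hc) = 1 := by
    intro c hc
    rw [← map_mul, gen_sq, map_one]
  have hcube : ∀ x : Abelianization ↥PJ, x * x = 1 → x ^ 3 = x := by
    intro x hx
    rw [pow_succ, pow_two, hx, one_mul]
  have heq : ∀ c (hc : c ∈ topGens), (gen c0 h0 * gen c hc) ^ 3 = 1 →
      q (gen c hc) = q (gen c0 h0) := by
    intro c hc hr
    have e1 : (q (gen c0 h0) * q (gen c hc)) ^ 3 = 1 := by
      rw [← map_mul, ← map_pow, hr, map_one]
    rw [mul_pow, hcube _ (hsq c0 h0), hcube _ (hsq c hc)] at e1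
    have e2 : q (gen c hc) = (q (gen c0 h0))⁻¹ := eq_inv_of_mul_eq_one_right e1
    rw [e2, inv_eq_iff_mul_eq_one]
    exact hsq c0 h0
  have e1 := heq c1 h1 (rel_cube h1 rel01)
  have e2 := heq c2 h2 (rel_cube h2 rel02)
  have e3 := heq c3 h3 (rel_cube h3 rel03)
  have e0 : q (gen c0 h0) = 1 := by
    have h15 : (q (gen c1 h1) * q (gen c2 h2) * q (gen c3 h3)) ^ 15 = 1 := by
      rw [← map_mul, ← map_mul, ← map_pow, rel15, map_one]
    rw [e1, e2, e3] at h15
    have hx := hsq c0 h0
    have h3 : q (gen c0 h0) * q (gen c0 h0) * q (gen c0 h0) = q (gen c0 h0) := by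
      rw [hx, one_mul]
    rw [h3] at h15
    have h14 : q (gen c0 h0) ^ 15 = q (gen c0 h0) := by
      calc q (gen c0 h0) ^ 15 = (q (gen c0 h0) * q (gen c0 h0)) ^ 7 * q (gen c0 h0) := by
            rw [← pow_two, ← pow_mul, ← pow_succ]
        _ = q (gen c0 h0) := by rw [hx, one_pow, one_mul]
    rw [h14] at h15
    exact h15
  apply eq_top_of_gens
  intro c hc
  rw [← Abelianization.ker_of, MonoidHom.mem_ker]
  show q (gen c hc) = 1
  rcases mem_topGens hc with rfl | rfl | rfl | rfl
  · exact e0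
  · rw [e1, e0]
  · rw [e2, e0]
  · rw [e3, e0]

end Cfsg.Agent.Lib.Helper14.J2
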