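/-
helper14: S4637 leaf (D2): a block with a defect group of order 2 has 2-regular rank one
(`k(B) = 2` by the done row S4607, then helper27's `BlkGlueC1.blockRank_eq_one_of_card_two`).
-/
import Cfsg.Agent.S4607
import Cfsg.Agent.Lib.Helper27.BlkGlueC1

set_option autoImplicit false

namespace Cfsg.Agent.Lib.Helper14.KleinD2

open Cfsg

universe u

/-- A `p`-block with a defect group of order `2` has `p`-regular rank `1`. -/
theorem blockRank_eq_one_of_defectGroup_card_two {G : Type u} [Group G] [Finite G] (p : ℕ)
    [Fact p.Prime] (M : Ideal AlgInt) (hM : IsPModular p M) (B : Set (IrrCharacter G))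
    (hB : IsPBlock M B) (D : Subgroup G) (hD : IsDefectGroup p M B D) (h2 : Nat.card D = 2) :
    blockRank p B = 1 := by
  classical
  let _ : Fintype G := Fintype.ofFinite G
  exact Cfsg.Agent.Lib.Helper27.BlkGlueC1.blockRank_eq_one_of_card_two p M hM B hB
    ((Cfsg.Agent.S4607.result p M hM B hB D hD).mpr h2)

variable {M : Ideal AlgInt}

/-- (D2) a block with a defect group of order `2` has `2`-regular rank one. -/
theorem blockRank_eq_one_of_card_two {H : Type u} [Group H] [Fintype H] (hM : IsPModular 2 M)
    (b : Set (IrrCharacter H)) (hb : IsPBlock M b) (D : Subgroup H)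
    (hD : IsDefectGroup 2 M b D) (hcard : Nat.card D = 2) : blockRank 2 b = 1 := by
  have hp2 : Fact (2 : ℕ).Prime := ⟨Nat.prime_two⟩
  exact blockRank_eq_one_of_defectGroup_card_two 2 M hM b hb D hD hcard

end Cfsg.Agent.Lib.Helper14.KleinD2
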