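/-
helper14: S4637 leaf (E13): the inertial index of a 2-block with a Klein four defect group is 1 or 3;
the stabilizer `T` of the root block centralizes `P` in the first case and is transitive on
`P \ 1` in the second.  Route = lead's S4633 (helper6 `StabIndex.not_dvd_of_isDefectGroup` for
`2 ∤ |T : C_G(P)|`, `T / C_G(P)` embeds in `Aut(P)`), then an odd-order subgroup of `Aut(V4)` by hand.
-/
import Mathlib
import Cfsg.Agent.Lib.Helper6.StabIndex
import Cfsg.Agent.Lib.Helper24.ConjBlock
import Cfsg.Agent.Lib.Helper6.ExtFirstMain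

set_option autoImplicit false

namespace Cfsg.Agent.Lib.Helper14.KleinE13

universe u

section aut
variable {P : Type u} [Group P] [IsKleinFour P]

theorem klein_sq (x : P) : x * x = 1 := by
  have h := Monoid.pow_exponent_eq_one x
  rw [IsKleinFour.exponent_two, pow_two] at h
  exact h

theorem klein_four_elts [DecidableEq P] [Fintype P] (a b c : P) (ha : a ≠ 1) (hb : b ≠ 1) (hc : c ≠ 1)
    (hab : a ≠ b) (hac : a ≠ c) (hbc : b ≠ c) (x : P) : x = 1 ∨ x = a ∨ x = b ∨ x = c := by
  have hcard : Fintype.card P = 4 := by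
    rw [← Nat.card_eq_fintype_card]; exact IsKleinFour.card_four
  have hs : ({1, a, b, c} : Finset P).card = 4 := by
    rw [Finset.card_insert_of_notMem, Finset.card_insert_of_notMem, Finset.card_insert_of_notMem,
      Finset.card_singleton]
    · simp [hbc]
    · simp [hab, hac]
    · simp [ha.symm, hb.symm, hc.symm]
  have huniv : ({1, a, b, c} : Finset P) = Finset.univ := by
    apply Finset.eq_univ_of_card
    rw [hs, hcard]
  have hx : x ∈ ({1, a, b, c} : Finset P) := by rw [huniv]; exact Finset.mem_univ x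
  simpa using hx

/-- An automorphism of a Klein four group with `σ ^ 3 = 1` fixing a nontrivial element is trivial. -/
theorem aut_eq_one_of_fix (σ : MulAut P) (h3 : σ ^ 3 = 1) (u : P) (hu : u ≠ 1) (hfix : σ u = u) :
    σ = 1 := by
  classical
  have : Finite P := Nat.finite_of_card_ne_zero (by rw [IsKleinFour.card_four]; norm_num)
  let _ : Fintype P := Fintype.ofFinite P
  have h3' : ∀ x : P, σ (σ (σ x)) = x := by
    intro x
    have := congrArg (fun τ : MulAut P => τ x) h3
    simpa [pow_succ, MulAut.mul_apply] using this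
  ext w
  rw [MulAut.one_apply]
  by_cases hw1 : w = 1
  · rw [hw1, map_one]
  by_cases hwu : w = u
  · rw [hwu, hfix]
  have huw1 : u * w ≠ 1 := by
    intro h
    apply hwu
    have : u * w = u * u := by rw [h, klein_sq]
    exact (mul_left_cancel this)
  have huwu : u ≠ u * w := by
    intro h
    apply hw1
    have : u * 1 = u * w := by rw [mul_one]; exact h
    exact (mul_left_cancel this).symm
  have huww : w ≠ u * w := by
    intro h
    apply hu
    have : 1 * w = u * w := by rw [one_mul]; exact h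
    exact (mul_right_cancel this).symm
  rcases klein_four_elts u w (u * w) hu hw1 huw1 (Ne.symm hwu) huwu huww (σ w) with h | h | h | h
  · exact absurd ((map_eq_one_iff σ σ.injective).mp h) hw1
  · exact absurd (σ.injective (h.trans hfix.symm)) hwu
  · exact h
  · -- σ w = u w, so σ (σ w) = w and σ w = σ (σ (σ w)) = w
    have h2 : σ (σ w) = w := by
      rw [h, map_mul, hfix, h, ← mul_assoc, klein_sq, one_mul]
    have := h3' w
    rw [h2] at this
    exact this

/-- A subgroup of odd order of the automorphism group of a Klein four group has order `1` or `3`. -/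
theorem card_odd_aut (R : Subgroup (MulAut P)) (hodd : ¬ 2 ∣ Nat.card R) :
    Nat.card R = 1 ∨ Nat.card R = 3 := by
  classical
  have : Finite P := Nat.finite_of_card_ne_zero (by rw [IsKleinFour.card_four]; norm_num)
  let _ : Fintype P := Fintype.ofFinite P
  have hinj : Function.Injective ((MulAut.toPerm P).comp R.subtype) := by
    intro a b hab
    apply Subtype.ext
    apply MulEquiv.ext
    intro x
    have := congrArg (fun τ : Equiv.Perm P => τ x) hab
    exact this
  have hdvd : Nat.card R ∣ Nat.card (Equiv.Perm P) := Subgroup.card_dvd_of_injective _ hinj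
  have hperm : Nat.card (Equiv.Perm P) = 24 := by
    rw [Nat.card_eq_fintype_card, Fintype.card_perm, ← Nat.card_eq_fintype_card,
      IsKleinFour.card_four]
    rfl
  rw [hperm] at hdvd
  have hle : Nat.card R ≤ 24 := Nat.le_of_dvd (by norm_num) hdvd
  have key : ∀ n ≤ 24, n ∣ 24 → ¬ 2 ∣ n → n = 1 ∨ n = 3 := by decide
  exact key _ hle hdvd hodd

/-- A subgroup of order `3` of the automorphism group of a Klein four group is transitive on the
nontrivial elements. -/
theorem transitive_of_card_three (R : Subgroup (MulAut P)) (h3 : Nat.card R = 3) (u v : P)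
    (hu : u ≠ 1) (hv : v ≠ 1) : ∃ σ ∈ R, σ u = v := by
  classical
  have : Finite P := Nat.finite_of_card_ne_zero (by rw [IsKleinFour.card_four]; norm_num)
  let _ : Fintype P := Fintype.ofFinite P
  have : Finite R := Nat.finite_of_card_ne_zero (by rw [h3]; norm_num)
  have : Fact (Nat.Prime 3) := ⟨Nat.prime_three⟩
  obtain ⟨τ, hτ⟩ := exists_prime_orderOf_dvd_card' (G := R) 3 (by rw [h3])
  set σ : MulAut P := (τ : MulAut P) with hσ
  have hσR : σ ∈ R := τ.2
  have hσo : orderOf σ = 3 := by rw [hσ, Subgroup.orderOf_coe]; exact hτ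
  have hσ3 : σ ^ 3 = 1 := by rw [← hσo]; exact pow_orderOf_eq_one σ
  have hσ1 : σ ≠ 1 := by
    intro h
    rw [h, orderOf_one] at hσo
    norm_num at hσo
  have hσ2 : σ ^ 2 ≠ 1 := by
    intro h
    apply hσ1
    have : σ = σ ^ 3 * (σ ^ 2)⁻¹ := by group
    rw [this, hσ3, h]; simp
  have h23 : (σ ^ 2) ^ 3 = 1 := by rw [← pow_mul, mul_comm, pow_mul, hσ3, one_pow]
  have hnofix : ∀ x : P, x ≠ 1 → σ x ≠ x := fun x hx h => hσ1 (aut_eq_one_of_fix σ hσ3 x hx h)
  have hnofix2 : ∀ x : P, x ≠ 1 → σ (σ x) ≠ x := by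
    intro x hx h
    apply hσ2
    apply aut_eq_one_of_fix (σ ^ 2) h23 x hx
    rw [pow_two, MulAut.mul_apply]
    exact h
  have hne1 : ∀ x : P, x ≠ 1 → σ x ≠ 1 := fun x hx h => hx ((map_eq_one_iff σ σ.injective).mp h)
  have h1 : σ u ≠ 1 := hne1 u hu
  have h2 : σ (σ u) ≠ 1 := hne1 _ h1
  rcases klein_four_elts u (σ u) (σ (σ u)) hu h1 h2 (Ne.symm (hnofix u hu))
    (Ne.symm (hnofix2 u hu)) (Ne.symm (hnofix _ h1)) v with h | h | h | h
  · exact absurd h hv
  · exact ⟨1, R.one_mem, by rw [MulAut.one_apply, h]⟩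
  · exact ⟨σ, hσR, h.symm⟩
  · exact ⟨σ * σ, R.mul_mem hσR hσR, by rw [MulAut.mul_apply, h]⟩

end aut

section main

open Cfsg

variable {G : Type u} [Group G] [Fintype G] {M : Ideal AlgInt}

/-- (E13) the inertial index of a block with a Klein four defect group is 1 or 3; the stabilizer
acts trivially on `P` in the first case and transitively on `P \ 1` in the second. -/
theorem inertial_klein (hM : IsPModular 2 M) (B : Set (IrrCharacter G)) (hB : IsPBlock M B)
    (P : Subgroup G) (hPD : IsDefectGroup 2 M B P) (hV : IsKleinFour P)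
    (c : Set (IrrCharacter (Subgroup.centralizer (P : Set G))))
    (hc : IsInducedBlock M (Subgroup.centralizer (P : Set G)) c B) (T : Subgroup G)
    (hT : ∀ g : G, g ∈ T ↔ (g ∈ Subgroup.normalizer (P : Set G) ∧
      StabilizesBlock (Subgroup.centralizer (P : Set G)) c g)) :
    ((Subgroup.centralizer (P : Set G)).relIndex T = 1 ∧
        ∀ t ∈ T, ∀ u ∈ P, t * u * t⁻¹ = u) ∨
      ((Subgroup.centralizer (P : Set G)).relIndex T = 3 ∧
        ∀ u ∈ P, ∀ v ∈ P, u ≠ 1 → v ≠ 1 → ∃ t ∈ T, t * u * t⁻¹ = v) := by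
  classical
  have hp2 : Fact (2 : ℕ).Prime := ⟨Nat.prime_two⟩
  have hPp : IsPGroup 2 P := Cfsg.Agent.Lib.Helper6.ExtFirstMain.isPGroup_of_isDefectGroup hPD
  -- `P ≤ C_G(P)`
  have hPC : P ≤ Subgroup.centralizer (P : Set G) := by
    intro a ha
    rw [Subgroup.mem_centralizer_iff]
    intro b hb
    have h := (IsKleinFour.isMulCommutative (G := P)).is_comm.comm ⟨b, hb⟩ ⟨a, ha⟩
    exact congrArg Subtype.val h
  have hCN : Subgroup.centralizer (P : Set G) ≤ Subgroup.normalizer (P : Set G) :=
    Subgroup.centralizer_le_normalizer _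
  have hNN : Subgroup.normalizer (P : Set G) ≤
      Subgroup.normalizer ((Subgroup.centralizer (P : Set G) : Subgroup G) : Set G) := by
    have h := Cfsg.Agent.Lib.Helper6.ExtFirstMain.normalizer_le_normalizer_sup_centralizer P
    rwa [sup_eq_right.mpr hPC] at h
  have hcP : Cfsg.IsDefectGroup 2 M c (P.subgroupOf (Subgroup.centralizer (P : Set G))) :=
    Cfsg.Agent.Lib.Helper6.ExtFirstMain.isDefectGroup_of_induced hM B P hPD _ hPC hCN c hc
  -- the stabilizer in the other form
  have hT' : ∀ g : G, g ∈ T ↔ (g ∈ Subgroup.normalizer (P : Set G) ∧ ∀ θ ∈ c,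
      ∀ θ' : Cfsg.IrrCharacter (Subgroup.centralizer (P : Set G)),
        (∀ h h' : Subgroup.centralizer (P : Set G), (h' : G) = g * h * g⁻¹ →
          (θ' : Subgroup.centralizer (P : Set G) → ℂ) h' =
            (θ : Subgroup.centralizer (P : Set G) → ℂ) h) → θ' ∈ c) := by
    intro g
    rw [hT]
    constructor
    · rintro ⟨hgN, hgC, hstab⟩
      refine ⟨hgN, ?_⟩
      intro θ hθ θ' hθ'
      obtain ⟨χ', hχ', hconj⟩ := hstab θ hθ
      have e1 := Cfsg.Agent.Lib.Helper24.eq_conjIrr_of_isConjCharOf _ g hgC θ χ' hconj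
      have e2 := Cfsg.Agent.Lib.Helper24.eq_conjIrr_of_isConjCharOf _ g hgC θ θ' hθ'
      rw [e2, ← e1]
      exact hχ'
    · rintro ⟨hgN, hall⟩
      refine ⟨hgN, hNN hgN, ?_⟩
      intro χ hχ
      refine ⟨Cfsg.Agent.Lib.Helper24.conjIrr _ g (hNN hgN) χ, ?_,
        Cfsg.Agent.Lib.Helper24.isConjCharOf_conjIrr _ g (hNN hgN) χ⟩
      exact hall χ hχ _ (Cfsg.Agent.Lib.Helper24.isConjCharOf_conjIrr _ g (hNN hgN) χ)
  have hnd : ¬ 2 ∣ (Subgroup.centralizer (P : Set G)).relIndex T :=
    Cfsg.Agent.Lib.Helper6.StabIndex.not_dvd_of_isDefectGroup hM hPp hPC le_rfl hCN hNN hc.1 hcP B hc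
      hT' hPD
  -- group theory
  have hTN : T ≤ Subgroup.normalizer (P : Set G) := fun g hg => ((hT g).mp hg).1
  let φ : T →* MulAut P := (Subgroup.normalizerMonoidHom P).comp (Subgroup.inclusion hTN)
  have hker : φ.ker = (Subgroup.centralizer (P : Set G)).subgroupOf T := by
    ext g
    rw [MonoidHom.mem_ker, Subgroup.mem_subgroupOf]
    have : φ g = 1 ↔ Subgroup.inclusion hTN g ∈ (Subgroup.normalizerMonoidHom P).ker := by
      rw [MonoidHom.mem_ker]; rfl
    rw [this, Subgroup.normalizerMonoidHom_ker, Subgroup.mem_subgroupOf]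
    rfl
  have hn : ((Subgroup.centralizer (P : Set G)).subgroupOf T).Normal := by
    rw [← hker]; infer_instance
  have e1 : T ⧸ (Subgroup.centralizer (P : Set G)).subgroupOf T ≃* φ.range :=
    (QuotientGroup.quotientMulEquivOfEq hker.symm).trans (QuotientGroup.quotientKerEquivRange φ)
  have hcardR : Nat.card φ.range = (Subgroup.centralizer (P : Set G)).relIndex T := by
    rw [← Nat.card_congr e1.toEquiv]
    rfl
  have hφval : ∀ (t : T) (x : P), (((φ t) x : P) : G) = (t : G) * (x : G) * (t : G)⁻¹ :=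
    fun t x => rfl
  rcases card_odd_aut φ.range (by rw [hcardR]; exact hnd) with h1 | h3
  · left
    refine ⟨by rw [← hcardR]; exact h1, ?_⟩
    intro t ht u hu
    have htriv : φ.range = ⊥ := Subgroup.card_eq_one.mp h1
    have hφt : φ ⟨t, ht⟩ = 1 := by
      have : φ ⟨t, ht⟩ ∈ φ.range := ⟨_, rfl⟩
      rw [htriv, Subgroup.mem_bot] at this
      exact this
    have := hφval ⟨t, ht⟩ ⟨u, hu⟩
    rw [hφt, MulAut.one_apply] at this
    exact this.symm
  · right
    refine ⟨by rw [← hcardR]; exact h3, ?_⟩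
    intro u hu v hv hu1 hv1
    obtain ⟨σ, ⟨t, rfl⟩, hσ⟩ := transitive_of_card_three φ.range h3 ⟨u, hu⟩ ⟨v, hv⟩
      (fun h => hu1 (congrArg Subtype.val h)) (fun h => hv1 (congrArg Subtype.val h))
    refine ⟨(t : G), t.2, ?_⟩
    have := hφval t ⟨u, hu⟩
    rw [hσ] at this
    exact this.symm

end main

end Cfsg.Agent.Lib.Helper14.KleinE13
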