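import Mathlib
import Cfsg.Prelude.Def_Sporadic_a
import Cfsg.Prelude.Def_Spor_Mathieu
import Cfsg.Agent.Lib.Helper14.L223F

set_option autoImplicit false

/-! Maximality of `23:11` in `M23`, and the transfer to nested subgroups. -/

namespace Cfsg.Agent.Lib.Helper14.L223

open Cfsg Cfsg.Agent.Lib.Helper3.Golay MulAction

set_option maxRecDepth 100000 in
theorem mU_fixed : ∀ v : (ZMod 23)ˣ, v ≠ 1 → ∀ x : GolayPt, mU v x = x →
    x = none ∨ x = some 0 := by decide +kernel

theorem normalizer_none (n : Equiv.Perm GolayPt)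
    (hn : n ∈ Subgroup.normalizer (QQ : Set (Equiv.Perm GolayPt))) :
    n none = none ∨ n none = some 0 := by
  have hz : n * m2 * n⁻¹ ∈ QQ := (Subgroup.mem_normalizer_iff.mp hn m2).mp (Subgroup.mem_zpowers m2)
  have hz' : n * m2 * n⁻¹ ∈ Submonoid.powers m2 := mem_powers_iff_mem_zpowers.mpr hz
  obtain ⟨k, hk⟩ := Submonoid.mem_powers_iff _ _ |>.mp hz'
  rw [m2_pow] at hk
  have hne : u2 ^ k ≠ 1 := by
    intro h1
    rw [h1, mU_eq, aff_one] at hk
    have : m2 = 1 := by
      have h2 : m2 = n⁻¹ * (n * m2 * n⁻¹) * n := by group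
      rw [h2, ← hk]; group
    exact m2_ne_one this
  apply mU_fixed (u2 ^ k) hne
  rw [hk]
  simp only [Equiv.Perm.mul_apply]
  rw [show n⁻¹ (n none) = none from by simp]
  rfl

/-- `N_{M24}(Q)` -/
def N24 : Subgroup (Equiv.Perm GolayPt) := NN M24

theorem projInv_mem_N24 : projInv ∈ N24 := ⟨LL_le projInv_mem_LL, projInv_normalizes⟩

theorem orbit_N24 : orbit ↥N24 (none : GolayPt) = {none, some 0} := by
  ext x
  rw [mem_orbit_iff]
  constructor
  · rintro ⟨n, rfl⟩
    have := normalizer_none (n : Equiv.Perm GolayPt) n.2.2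
    rcases this with h | h
    · left; exact h
    · right; exact h
  · rintro (rfl | hx)
    · exact ⟨1, rfl⟩
    · rw [Set.mem_singleton_iff] at hx
      subst hx
      exact ⟨⟨projInv, projInv_mem_N24⟩, rfl⟩

theorem card_stab_N24 : Nat.card ↥(stabilizer ↥N24 (none : GolayPt)) ∣ 55 := by
  have hidx : (stabilizer ↥N24 (none : GolayPt)).index = 2 := by
    rw [MulAction.index_stabilizer, orbit_N24, Set.ncard_pair (by simp)]
  have hmul := Subgroup.card_mul_index (stabilizer ↥N24 (none : GolayPt))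
  rw [hidx] at hmul
  have hN : Nat.card ↥N24 ∣ 110 := card_NN_dvd M24 le_rfl
  rw [← hmul] at hN
  have : (110 : ℕ) = 55 * 2 := by norm_num
  rw [this] at hN
  exact Nat.dvd_of_mul_dvd_mul_right (by norm_num) hN

theorem card_NN_dvd' (H : Subgroup (Equiv.Perm GolayPt)) (hH : H ≤ Spor.M23) :
    Nat.card ↥(NN H) ∣ 55 := by
  have hH24 : H ≤ M24 := fun x hx => (hH hx).1
  let φ : ↥(NN H) →* ↥(stabilizer ↥N24 (none : GolayPt)) :=
    { toFun := fun n => ⟨⟨(n : Equiv.Perm GolayPt), hH24 n.2.1, n.2.2⟩, by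
        rw [mem_stabilizer_iff]
        exact (Cfsg.Agent.Lib.Helper3.OutM23.mem_M23.mp (hH n.2.1)).2⟩
      map_one' := rfl
      map_mul' := fun a b => rfl }
  have hinj : Function.Injective φ := by
    intro a b hab
    apply Subtype.ext
    have := congrArg (fun e : ↥(stabilizer ↥N24 (none : GolayPt)) =>
      ((e : ↥N24) : Equiv.Perm GolayPt)) hab
    exact this
  exact (Subgroup.card_dvd_of_injective φ hinj).trans card_stab_N24

/-- overgroups of `23:11` in `M23` -/
theorem main2 (H : Subgroup (Equiv.Perm GolayPt)) (hBH : AffSq ≤ H) (hH : H ≤ Spor.M23) :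
    H = AffSq ∨ H = Spor.M23 := by
  have hH24 : H ≤ M24 := fun x hx => (hH hx).1
  have h23 := mod23 AffSq H le_rfl hBH hH24 (by rw [card_AffSq]; decide)
  have h11 := mod11 H hBH hH24
  have hN := card_NN_dvd' H hH
  have h11' := eleven_dvd_NN H hBH
  have e1 : Nat.card ↥AffSq * AffSq.relIndex H = Nat.card ↥H := card_mul_relIndex hBH
  have e2 : Nat.card ↥(NN H) * (NN H).relIndex H = Nat.card ↥H :=
    card_mul_relIndex (inf_le_left : NN H ≤ H)
  have e3 : Nat.card ↥H ∣ 10200960 := by
    rw [← Cfsg.Agent.Lib.Helper3.OutM23.card_M23]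
    exact Subgroup.card_dvd_of_le hH
  rw [card_AffSq] at e1
  have hk : AffSq.relIndex H ∣ 40320 := by
    rw [← e1] at e3
    have : (10200960 : ℕ) = 253 * 40320 := by norm_num
    rw [this] at e3
    exact Nat.dvd_of_mul_dvd_mul_left (by norm_num) e3
  rcases arith2 _ _ _ hk h23 hN h11' h11 (e1.trans e2.symm) with h | h
  · left
    exact le_antisymm (Subgroup.relIndex_eq_one.mp h) hBH
  · right
    apply Subgroup.eq_of_le_of_card_ge hH
    rw [Cfsg.Agent.Lib.Helper3.OutM23.card_M23, ← e1, h]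

/-- transfer of maximality to `subgroupOf` -/
theorem isCoatom_subgroupOf {G : Type*} [Group G] (L M : Subgroup G) (hLM : L ≤ M) (hne : L ≠ M)
    (h : ∀ H : Subgroup G, L ≤ H → H ≤ M → H = L ∨ H = M) : IsCoatom (L.subgroupOf M) := by
  refine ⟨?_, fun K' hK' => ?_⟩
  · intro htop
    rw [Subgroup.subgroupOf_eq_top] at htop
    exact hne (le_antisymm hLM htop)
  · have hHM : K'.map M.subtype ≤ M := Subgroup.map_subtype_le K'
    have hK'eq : (K'.map M.subtype).subgroupOf M = K' :=
      Subgroup.comap_map_eq_self_of_injective M.subtype_injective K'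
    have hLH : L ≤ K'.map M.subtype := by
      intro x hx
      exact ⟨⟨x, hLM hx⟩, hK'.le (Subgroup.mem_subgroupOf.mpr hx), rfl⟩
    rcases h _ hLH hHM with h1 | h1
    · exfalso
      rw [← hK'eq, h1] at hK'
      exact lt_irrefl _ hK'
    · rw [← hK'eq, h1]
      exact Subgroup.subgroupOf_self M

theorem M23_subgroupOf :
    Spor.M23.subgroupOf M24 = stabilizer ↥M24 (none : GolayPt) := by
  ext y
  rw [Subgroup.mem_subgroupOf, mem_stabilizer_iff]
  rw [Cfsg.Agent.Lib.Helper3.OutM23.mem_M23]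
  constructor
  · intro h
    exact h.2
  · intro h
    exact ⟨y.2, h⟩

theorem AffSq_le_M23 : AffSq ≤ Spor.M23 := by
  rintro g ⟨u, b, hu, rfl⟩
  rw [Cfsg.Agent.Lib.Helper3.OutM23.mem_M23]
  exact ⟨AffSq_le_M24 ⟨u, b, hu, rfl⟩, rfl⟩

theorem coatom1 : IsCoatom (LL.subgroupOf M24) := by
  apply isCoatom_subgroupOf LL M24 LL_le
  · intro h
    have := card_LL
    rw [h, card_M24] at this
    norm_num at this
  · exact main1

theorem coatom2 : IsCoatom ((AffSq.subgroupOf M24).subgroupOf (stabilizer ↥M24 (none : GolayPt))) := by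
  rw [← M23_subgroupOf]
  have hle : AffSq.subgroupOf M24 ≤ Spor.M23.subgroupOf M24 := by
    intro y hy
    rw [Subgroup.mem_subgroupOf] at hy ⊢
    exact AffSq_le_M23 hy
  have hmap : ∀ K : Subgroup (Equiv.Perm GolayPt), K ≤ M24 → (K.subgroupOf M24).map M24.subtype = K := by
    intro K hK
    rw [Subgroup.map_subgroupOf_eq_of_le hK]
  apply isCoatom_subgroupOf _ _ hle
  · intro h
    have h1 : (AffSq.subgroupOf M24).map M24.subtype = (Spor.M23.subgroupOf M24).map M24.subtype := by
      rw [h]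
    rw [hmap _ AffSq_le_M24, hmap _ (fun x hx => (Cfsg.Agent.Lib.Helper3.OutM23.mem_M23.mp hx).1)] at h1
    have := card_AffSq
    rw [h1, Cfsg.Agent.Lib.Helper3.OutM23.card_M23] at this
    norm_num at this
  · intro H' h1 h2
    have hHM : H'.map M24.subtype ≤ M24 := Subgroup.map_subtype_le H'
    have hH'eq : (H'.map M24.subtype).subgroupOf M24 = H' :=
      Subgroup.comap_map_eq_self_of_injective M24.subtype_injective H'
    have hBH : AffSq ≤ H'.map M24.subtype := by
      intro x hx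
      exact ⟨⟨x, AffSq_le_M24 hx⟩, h1 (Subgroup.mem_subgroupOf.mpr hx), rfl⟩
    have hH23 : H'.map M24.subtype ≤ Spor.M23 := by
      rintro x ⟨y, hy, rfl⟩
      have := h2 hy
      rw [Subgroup.mem_subgroupOf] at this
      exact this
    rcases main2 _ hBH hH23 with h3 | h3
    · left; rw [← hH'eq, h3]
    · right; rw [← hH'eq, h3]

end Cfsg.Agent.Lib.Helper14.L223
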