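import Mathlib
import Cfsg.Prelude.Def_MonsterType
import Cfsg.Agent.Lib.Helper20.ESLargeConj
import Cfsg.Agent.Lib.Helper20.ESLargeR
import Cfsg.Agent.Lib.Helper20.ESAmbient
import Cfsg.Agent.Lib.Helper9.FStar

/-!
helper14: `Q = F*(C_G(z))` extraspecial, `a = z^g ∈ Q \ Z(Q)`, `t ∈ Q ∩ Q^g` an involution not
conjugate to `z`: the image of `C_Q(t)` in `C_G(t)/⟨t⟩` is a large extraspecial subgroup (S5429).
Part A: ambient facts.
-/

set_option autoImplicit false
open scoped commutatorElement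

namespace Cfsg.Agent.Lib.Helper14.LES

open Cfsg.Agent.Lib.Helper20.ES

variable {G : Type*} [Group G] [Finite G]

theorem mem_cent_iff (z x : G) : x ∈ Subgroup.centralizer ({z} : Set G) ↔ x * z = z * x := by
  rw [Subgroup.mem_centralizer_iff]
  constructor
  · intro h; exact (h z rfl).symm
  · intro h y hy
    rw [Set.mem_singleton_iff] at hy
    subst hy
    exact h.symm

section ambient

variable {z : G} {Q : Subgroup G} (hQC : Q ≤ Subgroup.centralizer ({z} : Set G))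
  (hF : (Cfsg.generalizedFittingSubgroup ↥(Subgroup.centralizer ({z} : Set G))).map
    (Subgroup.centralizer ({z} : Set G)).subtype = Q)

include hF in
theorem mem_Q_iff (x : G) : x ∈ Q ↔ ∃ hx : x ∈ Subgroup.centralizer ({z} : Set G),
    (⟨x, hx⟩ : ↥(Subgroup.centralizer ({z} : Set G))) ∈
      Cfsg.generalizedFittingSubgroup ↥(Subgroup.centralizer ({z} : Set G)) := by
  rw [← hF, Subgroup.mem_map]
  constructor
  · rintro ⟨y, hy, rfl⟩
    exact ⟨y.2, hy⟩
  · rintro ⟨hx, h⟩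
    exact ⟨⟨x, hx⟩, h, rfl⟩

include hF in
/-- `C_G(Q) ≤ Q`, given `z ∈ Q`... in fact for elements centralizing `z` -/
theorem mem_Q_of_centralizes (x : G) (hxz : x * z = z * x) (hx : ∀ q ∈ Q, x * q = q * x) :
    x ∈ Q := by
  have hxc : x ∈ Subgroup.centralizer ({z} : Set G) := (mem_cent_iff z x).mpr hxz
  rw [mem_Q_iff hF]
  refine ⟨hxc, ?_⟩
  apply Cfsg.Agent.Lib.Helper9.centralizer_generalizedFittingSubgroup_le
  rw [Subgroup.mem_centralizer_iff]
  intro y hy
  apply Subtype.ext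
  have hyQ : (y : G) ∈ Q := (mem_Q_iff hF _).mpr ⟨y.2, hy⟩
  exact (hx _ hyQ).symm

include hF in
theorem z_mem_Q : z ∈ Q := by
  apply mem_Q_of_centralizes hF z rfl
  intro q hq
  have := (mem_Q_iff hF q).mp hq
  obtain ⟨hqc, -⟩ := this
  exact ((mem_cent_iff z q).mp hqc).symm

include hF in
theorem conj_mem_Q (c : G) (hc : c * z = z * c) (q : G) (hq : q ∈ Q) : c * q * c⁻¹ ∈ Q := by
  have hcc : c ∈ Subgroup.centralizer ({z} : Set G) := (mem_cent_iff z c).mpr hc
  obtain ⟨hqc, hq'⟩ := (mem_Q_iff hF q).mp hq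
  rw [mem_Q_iff hF]
  refine ⟨Subgroup.mul_mem _ (Subgroup.mul_mem _ hcc hqc) (Subgroup.inv_mem _ hcc), ?_⟩
  have := (Cfsg.Agent.Lib.Helper9.generalizedFittingSubgroup_normal
    (G := ↥(Subgroup.centralizer ({z} : Set G)))).conj_mem _ hq' ⟨c, hcc⟩
  exact this

include hF in
theorem amb_of (hz : orderOf z = 2) (hQ : Cfsg.IsExtraspecial 2 ↥Q) :
    Amb Q z ∧ ∃ z₀ : ↥Q, (z₀ : G) = z ∧ ESData 2 ↥Q z₀ := by
  obtain ⟨z', hes, hamb⟩ := exists_amb Q hQ
  have hzQ := z_mem_Q hF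
  have hz1 : z ≠ 1 := by
    intro h
    rw [h, orderOf_one] at hz
    omega
  have hzz' : z = (z' : G) := by
    rcases hamb.cen z hzQ (fun q hq => by
      obtain ⟨hqc, -⟩ := (mem_Q_iff hF q).mp hq
      exact (mem_cent_iff z q).mp hqc) with h | h
    · exact absurd h hz1
    · exact h
  refine ⟨?_, z', hzz'.symm, hes⟩
  rw [hzz']
  exact hamb

end ambient

end Cfsg.Agent.Lib.Helper14.LES
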