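import Cfsg.Agent.Lib.Helper14.LargeESB
import Cfsg.Agent.Lib.Helper20.PGroupBasics

/-!
helper14: S5429, part C: the quotient `C_G(t)/⟨t⟩`.
-/

set_option autoImplicit false
open scoped commutatorElement

namespace Cfsg.Agent.Lib.Helper14.LES

open Cfsg.Agent.Lib.Helper20.ES

variable {G : Type*} [Group G]

theorem mem_zpowers_of_sq {t : G} (htt : t * t = 1) (w : G) :
    w ∈ Subgroup.zpowers t ↔ w = 1 ∨ w = t := by
  constructor
  · intro hw
    obtain ⟨k, rfl⟩ := Subgroup.mem_zpowers_iff.mp hw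
    rcases Int.even_or_odd' k with ⟨m, rfl | rfl⟩
    · left
      rw [zpow_mul, zpow_ofNat, pow_two, htt, one_zpow]
    · right
      rw [zpow_add, zpow_mul, zpow_ofNat, pow_two, htt, one_zpow, one_mul, zpow_one]
  · rintro (rfl | rfl)
    · exact Subgroup.one_mem _
    · exact Subgroup.mem_zpowers _

section quot

variable {t : G}
  [hn : ((Subgroup.zpowers t).subgroupOf (Subgroup.centralizer ({t} : Set G))).Normal]

/-- the projection `C_G(t) → C_G(t)/⟨t⟩` on elements of `G` -/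
def pi (x : G) (hx : x ∈ Subgroup.centralizer ({t} : Set G)) :
    ↥(Subgroup.centralizer ({t} : Set G)) ⧸
      (Subgroup.zpowers t).subgroupOf (Subgroup.centralizer ({t} : Set G)) :=
  QuotientGroup.mk ⟨x, hx⟩

theorem pi_eq_iff (htt : t * t = 1) (x y : G) (hx : x ∈ Subgroup.centralizer ({t} : Set G))
    (hy : y ∈ Subgroup.centralizer ({t} : Set G)) :
    pi x hx = pi y hy ↔ y = x ∨ y = x * t := by
  unfold pi
  rw [QuotientGroup.eq, Subgroup.mem_subgroupOf, mem_zpowers_of_sq htt]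
  show x⁻¹ * y = 1 ∨ x⁻¹ * y = t ↔ _
  constructor
  · rintro (h | h)
    · left; exact (inv_mul_eq_one.mp h).symm
    · right; exact (inv_mul_eq_iff_eq_mul.mp h)
  · rintro (h | h)
    · left; rw [h]; group
    · right; rw [h]; group

theorem pi_mul (x y : G) (hx : x ∈ Subgroup.centralizer ({t} : Set G))
    (hy : y ∈ Subgroup.centralizer ({t} : Set G)) :
    pi x hx * pi y hy = pi (x * y) (Subgroup.mul_mem _ hx hy) := rfl

theorem pi_inv (x : G) (hx : x ∈ Subgroup.centralizer ({t} : Set G)) :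
    (pi x hx)⁻¹ = pi x⁻¹ (Subgroup.inv_mem _ hx) := rfl

theorem pi_one : pi (t := t) 1 (Subgroup.one_mem _) = 1 := rfl

theorem pi_congr {x y : G} (hxy : x = y) (hx : x ∈ Subgroup.centralizer ({t} : Set G)) :
    pi x hx = pi y (hxy ▸ hx) := by subst hxy; rfl

theorem exists_pi (w : ↥(Subgroup.centralizer ({t} : Set G)) ⧸
      (Subgroup.zpowers t).subgroupOf (Subgroup.centralizer ({t} : Set G))) :
    ∃ (x : G) (hx : x ∈ Subgroup.centralizer ({t} : Set G)), pi x hx = w := by
  induction w using QuotientGroup.induction_on with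
  | H x => exact ⟨x.1, x.2, rfl⟩

theorem mem_bar_iff (P : Subgroup G) (w : ↥(Subgroup.centralizer ({t} : Set G)) ⧸
      (Subgroup.zpowers t).subgroupOf (Subgroup.centralizer ({t} : Set G))) :
    w ∈ (P.subgroupOf (Subgroup.centralizer ({t} : Set G))).map
      (QuotientGroup.mk' ((Subgroup.zpowers t).subgroupOf (Subgroup.centralizer ({t} : Set G))))
    ↔ ∃ (x : G) (hx : x ∈ Subgroup.centralizer ({t} : Set G)), x ∈ P ∧ pi x hx = w := by
  rw [Subgroup.mem_map]
  constructor
  · rintro ⟨x, hx, rfl⟩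
    exact ⟨x.1, x.2, Subgroup.mem_subgroupOf.mp hx, rfl⟩
  · rintro ⟨x, hx, hxP, rfl⟩
    exact ⟨⟨x, hx⟩, Subgroup.mem_subgroupOf.mpr hxP, rfl⟩

end quot

end Cfsg.Agent.Lib.Helper14.LES
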