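import Cfsg.Agent.Lib.Helper14.LargeESC

/-!
helper14: S5429, part D: the configuration `Cfg Q z g` from the `F*` hypotheses.
-/

set_option autoImplicit false
open scoped commutatorElement

namespace Cfsg.Agent.Lib.Helper14.LES

open Cfsg.Agent.Lib.Helper20.ES

variable {G : Type*} [Group G] [Finite G]

theorem cfg_of_fstar (z : G) (hz : orderOf z = 2) (Q : Subgroup G)
    (hF : (Cfsg.generalizedFittingSubgroup ↥(Subgroup.centralizer ({z} : Set G))).map
      (Subgroup.centralizer ({z} : Set G)).subtype = Q)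
    (hQ : Cfsg.IsExtraspecial 2 ↥Q) (g : G) (hgQ : g * z * g⁻¹ ∈ Q)
    (hgZ : g * z * g⁻¹ ∉ ((Subgroup.center ↥Q).map Q.subtype)) : Cfg Q z g := by
  obtain ⟨hamb, hes⟩ := amb_of hF hz hQ
  have hcQ : ∀ x : G, (∀ q ∈ Q, x * q = q * x) → x ∈ Subgroup.zpowers z := by
    intro x hx
    have hxQ : x ∈ Q := mem_Q_of_centralizes hF x (hx z hamb.zQ) hx
    rw [hamb.mem_zpowers]
    exact hamb.cen x hxQ (fun q hq => (hx q hq).symm)
  have hnQ : ∀ x : G, x * z = z * x → x ∈ Subgroup.normalizer (Q : Set G) := by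
    intro x hx
    apply Subgroup.mem_normalizer_fintype
    intro q hq
    exact conj_mem_Q hF x hx q hq
  have huz : g * z * g⁻¹ ≠ z := by
    intro h
    apply hgZ
    rw [hamb.center_eq, h]
    exact Subgroup.mem_zpowers z
  have hL2 : Subgroup.centralizer (Q : Set G) = ((Subgroup.center ↥Q).map Q.subtype) := by
    rw [hamb.center_eq]
    apply le_antisymm
    · intro x hx
      apply hcQ
      intro q hq
      exact (Subgroup.mem_centralizer_iff.mp hx q hq).symm
    · intro x hx
      rw [hamb.mem_zpowers] at hx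
      rw [Subgroup.mem_centralizer_iff]
      intro q hq
      rcases hx with rfl | rfl
      · simp
      · exact hamb.zc q hq
  have hL3 : Subgroup.centralizer (((Subgroup.center ↥Q).map Q.subtype) : Set G) ≤
      Subgroup.normalizer (Q : Set G) := by
    rw [hamb.center_eq]
    intro x hx
    apply hnQ
    exact (Subgroup.mem_centralizer_iff.mp hx z (Subgroup.mem_zpowers z)).symm
  have hg : g ∉ Subgroup.normalizer (((Subgroup.center ↥Q).map Q.subtype) : Set G) := by
    rw [hamb.center_eq]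
    intro h
    apply hgZ
    rw [hamb.center_eq]
    exact (Subgroup.mem_normalizer_iff.mp h z).mp (Subgroup.mem_zpowers z)
  have hZg : (((Subgroup.center ↥Q).map Q.subtype)).map (MulAut.conj g).toMonoidHom ≤ Q := by
    rw [hamb.center_eq]
    rintro _ ⟨w, hw, rfl⟩
    rw [SetLike.mem_coe, hamb.mem_zpowers] at hw
    show g * w * g⁻¹ ∈ Q
    rcases hw with rfl | rfl
    · simp
    · exact hgQ
  have h1 := (large_conj Q hQ hL2 hL3 g hg hZg).1
  have hzQ' : z ∈ Q.map (MulAut.conj g).toMonoidHom := by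
    apply h1
    rw [hamb.center_eq]
    exact Subgroup.mem_zpowers z
  exact ⟨hamb, hcQ, hnQ, hgQ, huz, hzQ', hes⟩

theorem ctx_of_fstar (z : G) (hz : orderOf z = 2) (Q : Subgroup G)
    (hF : (Cfsg.generalizedFittingSubgroup ↥(Subgroup.centralizer ({z} : Set G))).map
      (Subgroup.centralizer ({z} : Set G)).subtype = Q)
    (hQ : Cfsg.IsExtraspecial 2 ↥Q) (g : G) (hgQ : g * z * g⁻¹ ∈ Q)
    (hgZ : g * z * g⁻¹ ∉ ((Subgroup.center ↥Q).map Q.subtype))
    (t : G) (ht : orderOf t = 2) (htQ : t ∈ Q ⊓ (Q).map (MulAut.conj g).toMonoidHom)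
    (htz : ¬ IsConj z t) : Ctx Q z g t := by
  refine ⟨cfg_of_fstar z hz Q hF hQ g hgQ hgZ, htQ.1, htQ.2, ?_, ?_, htz⟩
  · have := pow_orderOf_eq_one t
    rwa [ht, pow_two] at this
  · intro h
    rw [h, orderOf_one] at ht
    omega

end Cfsg.Agent.Lib.Helper14.LES
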