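import Cfsg.Agent.Lib.Helper14.LargeESD

/-!
helper14: S5429, part E: the image of `C_Q(t)` in `C_G(t)/⟨t⟩` is large extraspecial.
-/

set_option autoImplicit false
open scoped commutatorElement

namespace Cfsg.Agent.Lib.Helper14.LES

open Cfsg.Agent.Lib.Helper20.ES

variable {G : Type*} [Group G] [Finite G]

section main

variable {Q : Subgroup G} {z g t : G}
  [hn : ((Subgroup.zpowers t).subgroupOf (Subgroup.centralizer ({t} : Set G))).Normal]

/-- the quotient `C_G(t)/⟨t⟩` -/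
abbrev Gbar (t : G)
    [((Subgroup.zpowers t).subgroupOf (Subgroup.centralizer ({t} : Set G))).Normal] : Type _ :=
  ↥(Subgroup.centralizer ({t} : Set G)) ⧸
      (Subgroup.zpowers t).subgroupOf (Subgroup.centralizer ({t} : Set G))

/-- the image of `C_Q(t)` -/
abbrev Pb (Q : Subgroup G) (t : G)
    [((Subgroup.zpowers t).subgroupOf (Subgroup.centralizer ({t} : Set G))).Normal] :
    Subgroup (↥(Subgroup.centralizer ({t} : Set G)) ⧸
      (Subgroup.zpowers t).subgroupOf (Subgroup.centralizer ({t} : Set G))) :=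
  ((Q ⊓ Subgroup.centralizer ({t} : Set G)).subgroupOf (Subgroup.centralizer ({t} : Set G))).map
    (QuotientGroup.mk' ((Subgroup.zpowers t).subgroupOf (Subgroup.centralizer ({t} : Set G))))

theorem mem_Pb_iff (w : ↥(Subgroup.centralizer ({t} : Set G)) ⧸
      (Subgroup.zpowers t).subgroupOf (Subgroup.centralizer ({t} : Set G))) :
    w ∈ Pb Q t ↔ ∃ (x : G) (hx : x ∈ Subgroup.centralizer ({t} : Set G)), x ∈ Q ∧ pi x hx = w := by
  unfold Pb
  rw [mem_bar_iff]
  constructor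
  · rintro ⟨x, hx, hxP, rfl⟩
    exact ⟨x, hx, hxP.1, rfl⟩
  · rintro ⟨x, hx, hxQ, rfl⟩
    exact ⟨x, hx, ⟨hxQ, hx⟩, rfl⟩

namespace Ctx

theorem z_mem_Ct (h : Ctx Q z g t) : z ∈ Subgroup.centralizer ({t} : Set G) :=
  (mem_cent_iff t z).mpr h.zt_comm

theorem a_mem_Ct (h : Ctx Q z g t) : g * z * g⁻¹ ∈ Subgroup.centralizer ({t} : Set G) :=
  (mem_cent_iff t _).mpr h.ta_comm.symm

/-- `π x = 1` iff `x ∈ {1, t}` -/
theorem pi_eq_one_iff (h : Ctx Q z g t) (x : G) (hx : x ∈ Subgroup.centralizer ({t} : Set G)) :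
    pi x hx = 1 ↔ x = 1 ∨ x = t := by
  rw [← pi_one, eq_comm, pi_eq_iff h.tt, one_mul]

theorem pi_z_ne_one (h : Ctx Q z g t) : pi z h.z_mem_Ct ≠ 1 := by
  intro h1
  rcases (h.pi_eq_one_iff z _).mp h1 with h2 | h2
  · exact h.cfg.amb.z1 h2
  · exact h.t_ne_z h2.symm

/-- if `π` of a commutator-like relation holds then the elements commute, for `c, x ∈ Q` -/
theorem comm_of_pi (h : Ctx Q z g t) (c x : G) (hc : c ∈ Q) (hx : x ∈ Q)
    (hct : c * t = t * c) (hxt : x * t = t * x)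
    (hcx : x * c = c * x ∨ x * c = c * x * t) : c * x = x * c := by
  rcases hcx with h1 | h1
  · exact h1.symm
  · exfalso
    -- the commutator `⁅c, x⁆` would be `t`
    have h2 : ⁅c⁻¹, x⁻¹⁆ = t := by
      rw [commutatorElement_def]
      calc c⁻¹ * x⁻¹ * c⁻¹⁻¹ * x⁻¹⁻¹ = c⁻¹ * x⁻¹ * (c * x) := by group
        _ = c⁻¹ * x⁻¹ * (x * c * t⁻¹) := by rw [h1]; group
        _ = t⁻¹ := by group
        _ = t := inv_eq_of_mul_eq_one_right h.tt
    rcases h.cfg.amb.comm c⁻¹ (Subgroup.inv_mem _ hc) x⁻¹ (Subgroup.inv_mem _ hx) with h3 | h3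
    · exact h.t1 (h2 ▸ h3)
    · exact h.t_ne_z (h2 ▸ h3)

/-- an element of `C_G(t)` centralizing `z` modulo `t` centralizes `z` -/
theorem comm_z_of_pi (h : Ctx Q z g t) (c : G) (hct : c * t = t * c)
    (hcz : c * z = z * c ∨ c * z = z * c * t) : c * z = z * c := by
  rcases hcz with h1 | h1
  · exact h1
  · exfalso
    apply h.zt_not_conj
    refine isConj_iff.mpr ⟨c, ?_⟩
    calc c * z * c⁻¹ = z * c * t * c⁻¹ := by rw [h1]
      _ = z * (c * t) * c⁻¹ := by group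
      _ = z * (t * c) * c⁻¹ := by rw [hct]
      _ = z * t := by group

/-- the `ESData` of the image of `C_Q(t)` -/
theorem esData_bar (h : Ctx Q z g t) :
    ∃ zb : ↥(Pb Q t), (zb : ↥(Subgroup.centralizer ({t} : Set G)) ⧸
      (Subgroup.zpowers t).subgroupOf (Subgroup.centralizer ({t} : Set G))) = pi z h.z_mem_Ct ∧
      ESData 2 ↥(Pb Q t) zb := by
  have hzb : pi z h.z_mem_Ct ∈ Pb Q t :=
    (mem_Pb_iff _).mpr ⟨z, h.z_mem_Ct, h.cfg.amb.zQ, rfl⟩
  have hrep : ∀ b : ↥(Pb Q t), ∃ (x : G) (hx : x ∈ Subgroup.centralizer ({t} : Set G)),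
      x ∈ Q ∧ pi x hx = (b : Gbar t) := fun b => (mem_Pb_iff _).mp b.2
  have hzb2 : pi z h.z_mem_Ct * pi z h.z_mem_Ct = 1 := by
    rw [pi_mul, pi_congr h.cfg.amb.zz]
    rfl
  have hmemz : ∀ b : ↥(Pb Q t), (b : Gbar t) = (1 : ↥(Subgroup.centralizer ({t} : Set G)) ⧸
      (Subgroup.zpowers t).subgroupOf (Subgroup.centralizer ({t} : Set G))) ∨
      (b : Gbar t) = pi z h.z_mem_Ct → b ∈ Subgroup.zpowers (⟨pi z h.z_mem_Ct, hzb⟩ : ↥(Pb Q t)) := by
    intro b hb
    rcases hb with hb | hb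
    · have : b = 1 := Subtype.ext hb
      rw [this]
      exact Subgroup.one_mem _
    · have : b = ⟨pi z h.z_mem_Ct, hzb⟩ := Subtype.ext hb
      rw [this]
      exact Subgroup.mem_zpowers _
  refine ⟨⟨pi z h.z_mem_Ct, hzb⟩, rfl, ?_, ?_, ?_, ?_, ?_, ?_⟩
  · intro h1
    exact h.pi_z_ne_one (congrArg Subtype.val h1)
  · apply Subtype.ext
    show (pi z h.z_mem_Ct) ^ 2 = 1
    rw [pow_two]
    exact hzb2
  · rw [Subgroup.mem_center_iff]
    intro b
    obtain ⟨x, hx, hxQ, hb⟩ := hrep b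
    apply Subtype.ext
    show (b : Gbar t) * pi z h.z_mem_Ct = pi z h.z_mem_Ct * (b : Gbar t)
    rw [← hb, pi_mul, pi_mul]
    exact pi_congr (h.cfg.amb.zc x hxQ) _
  · intro w hw
    obtain ⟨x, hx, hxQ, hb⟩ := hrep w
    have hxt : x * t = t * x := (mem_cent_iff t x).mp hx
    have hall : ∀ c ∈ Q, c * t = t * c → c * x = x * c := by
      intro c hc hct
      have hcC : c ∈ Subgroup.centralizer ({t} : Set G) := (mem_cent_iff t c).mpr hct
      have hcb : pi c hcC ∈ Pb Q t := (mem_Pb_iff _).mpr ⟨c, hcC, hc, rfl⟩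
      have h1 := Subgroup.mem_center_iff.mp hw ⟨pi c hcC, hcb⟩
      have h2 : pi c hcC * (w : Gbar t) = (w : Gbar t) * pi c hcC := congrArg Subtype.val h1
      rw [← hb, pi_mul, pi_mul, pi_eq_iff h.tt] at h2
      exact h.comm_of_pi c x hc hxQ hct hxt h2
    apply hmemz
    rcases h.cfg.amb.dcen t h.tQ h.t1 h.t_ne_z x hxQ hall with h1 | h1 | h1 | h1
    · left
      rw [← hb]
      exact (h.pi_eq_one_iff x hx).mpr (Or.inl h1)
    · right
      rw [← hb]
      exact pi_congr h1 _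
    · left
      rw [← hb]
      exact (h.pi_eq_one_iff x hx).mpr (Or.inr (mul_inv_eq_one.mp h1))
    · right
      rw [← hb, eq_comm, pi_eq_iff h.tt]
      right
      exact mul_inv_eq_iff_eq_mul.mp h1
  · intro b₁ b₂
    obtain ⟨x, hx, hxQ, hb₁⟩ := hrep b₁
    obtain ⟨y, hy, hyQ, hb₂⟩ := hrep b₂
    apply hmemz
    have hc : ((⁅b₁, b₂⁆ : ↥(Pb Q t)) : Gbar t) = pi ⁅x, y⁆ (by
        rw [commutatorElement_def]
        exact Subgroup.mul_mem _ (Subgroup.mul_mem _ (Subgroup.mul_mem _ hx hy)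
          (Subgroup.inv_mem _ hx)) (Subgroup.inv_mem _ hy)) := by
      rw [commutatorElement_def]
      show (b₁ : Gbar t) * (b₂ : Gbar t) * (b₁ : Gbar t)⁻¹ * (b₂ : Gbar t)⁻¹ = _
      rw [← hb₁, ← hb₂]
      rfl
    rcases h.cfg.amb.comm x hxQ y hyQ with h1 | h1
    · left
      rw [hc, pi_congr h1]
      rfl
    · right
      rw [hc]
      exact pi_congr h1 _
  · intro b
    obtain ⟨x, hx, hxQ, hb⟩ := hrep b
    apply hmemz
    have hc : ((b ^ 2 : ↥(Pb Q t)) : Gbar t) = pi (x * x) (Subgroup.mul_mem _ hx hx) := by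
      rw [pow_two]
      show (b : Gbar t) * (b : Gbar t) = _
      rw [← hb]
      rfl
    rcases h.cfg.amb.sq x hxQ with h1 | h1
    · left
      rw [hc, pi_congr h1]
      rfl
    · right
      rw [hc]
      exact pi_congr h1 _

end Ctx

end main

end Cfsg.Agent.Lib.Helper14.LES
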