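import Cfsg.Agent.Lib.Helper14.LargeESE

/-!
helper14: S5429, part F: the final statement.
-/

set_option autoImplicit false
open scoped commutatorElement

namespace Cfsg.Agent.Lib.Helper14.LES

open Cfsg.Agent.Lib.Helper20.ES

variable {G : Type*} [Group G] [Finite G]

section main

variable {Q : Subgroup G} {z g t : G}
  [hn : ((Subgroup.zpowers t).subgroupOf (Subgroup.centralizer ({t} : Set G))).Normal]

namespace Ctx

theorem large_bar (h : Ctx Q z g t)
    (hCP : ∀ c ∈ Subgroup.centralizer ({z} : Set G),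
      (∀ x ∈ Q ⊓ Subgroup.centralizer ({t} : Set G),
        ∃ y ∈ Subgroup.closure ({t, z} : Set G), c * x * c⁻¹ = x * y) → c ∈ Q) :
    Cfsg.IsLargeExtraspecial (Pb Q t) ∧
    ∃ x ∈ (Q ⊓ Subgroup.centralizer ({t} : Set G)) ⊔
        ((Q).map (MulAut.conj g).toMonoidHom ⊓ Subgroup.centralizer ({t} : Set G)),
      x * (g * z * g⁻¹) * x⁻¹ = z := by
  haveI : Fact (Nat.Prime 2) := ⟨Nat.prime_two⟩
  obtain ⟨y, hyQ, y', hy'Q, hyt, hy't, hxa, hya⟩ := h.exists_x
  have hyC : y ∈ Subgroup.centralizer ({t} : Set G) := (mem_cent_iff t y).mpr hyt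
  have hy'C : y' ∈ Subgroup.centralizer ({t} : Set G) := (mem_cent_iff t y').mpr hy't
  have hxC : y' * y ∈ Subgroup.centralizer ({t} : Set G) := Subgroup.mul_mem _ hy'C hyC
  refine ⟨?_, y' * y, Subgroup.mul_mem _ (Subgroup.mem_sup_right ⟨hy'Q, hy'C⟩)
    (Subgroup.mem_sup_left ⟨hyQ, hyC⟩), hxa⟩
  obtain ⟨zb, hzb, hes⟩ := h.esData_bar
  have hrep : ∀ b ∈ Pb Q t, ∃ (x : G) (hx : x ∈ Subgroup.centralizer ({t} : Set G)),
      x ∈ Q ∧ pi x hx = b := fun b hb => (mem_Pb_iff _).mp hb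
  have hzbmem : pi z h.z_mem_Ct ∈ Pb Q t := hzb ▸ zb.2
  have haC := h.a_mem_Ct
  have habmem : pi (g * z * g⁻¹) haC ∈ Pb Q t :=
    (mem_Pb_iff _).mpr ⟨_, haC, h.cfg.uQ, rfl⟩
  have hybmem : pi y hyC ∈ Pb Q t := (mem_Pb_iff _).mpr ⟨_, hyC, hyQ, rfl⟩
  -- the centre of the image
  have hcen : ∀ w : Gbar t, w ∈ (Subgroup.center ↥(Pb Q t)).map (Pb Q t).subtype ↔
      w = 1 ∨ w = pi z h.z_mem_Ct := by
    intro w
    rw [hes.center_eq]
    constructor
    · rintro ⟨b, hb, rfl⟩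
      rcases hes.mem_zpowers_two hb with h1 | h1
      · left; rw [h1]; rfl
      · right; rw [h1]; exact hzb
    · rintro (rfl | rfl)
      · exact Subgroup.one_mem _
      · exact ⟨zb, Subgroup.mem_zpowers _, hzb⟩
  -- nonabelian
  have hna : ∃ b₁ b₂ : ↥(Pb Q t), ⁅b₁, b₂⁆ ≠ 1 := by
    refine ⟨⟨pi y hyC, hybmem⟩, ⟨pi (g * z * g⁻¹) haC, habmem⟩, ?_⟩
    intro h1
    have h2 : ⁅pi y hyC, pi (g * z * g⁻¹) haC⁆ = (1 : Gbar t) := congrArg Subtype.val h1
    have h3 : ⁅pi y hyC, pi (g * z * g⁻¹) haC⁆ = pi z h.z_mem_Ct := by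
      rw [commutatorElement_def]
      show pi (y * (g * z * g⁻¹) * y⁻¹ * (g * z * g⁻¹)⁻¹) _ = _
      apply pi_congr
      rw [hya]
      group
    rw [h3] at h2
    exact h.pi_z_ne_one h2
  have hL1 : Cfsg.IsExtraspecial 2 ↥(Pb Q t) := hes.isExtraspecial hna
  -- elements of `C_G(t)` whose image commutes with the image of `z`
  have hcz : ∀ (c : G) (hc : c ∈ Subgroup.centralizer ({t} : Set G)),
      pi z h.z_mem_Ct * pi c hc = pi c hc * pi z h.z_mem_Ct → c * z = z * c := by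
    intro c hc h1
    rw [pi_mul, pi_mul, pi_eq_iff h.tt] at h1
    exact h.comm_z_of_pi c ((mem_cent_iff t c).mp hc) h1
  have hL2 : Subgroup.centralizer ((Pb Q t : Subgroup (Gbar t)) : Set (Gbar t)) =
      (Subgroup.center ↥(Pb Q t)).map (Pb Q t).subtype := by
    rw [Cfsg.Agent.Lib.Helper20.center_map_subtype_eq]
    symm
    apply inf_eq_right.mpr
    intro w hw
    obtain ⟨c, hc, rfl⟩ := exists_pi w
    have hct : c * t = t * c := (mem_cent_iff t c).mp hc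
    have hw' := Subgroup.mem_centralizer_iff.mp hw
    have hczc : c * z = z * c := hcz c hc (hw' _ hzbmem)
    have hcQ : c ∈ Q := by
      apply hCP c ((mem_cent_iff z c).mpr hczc)
      intro x hx
      have hxC : x ∈ Subgroup.centralizer ({t} : Set G) := hx.2
      have hxb : pi x hxC ∈ Pb Q t := (mem_Pb_iff _).mpr ⟨x, hxC, hx.1, rfl⟩
      have h1 := hw' _ hxb
      rw [pi_mul, pi_mul, pi_eq_iff h.tt] at h1
      rcases h1 with h1 | h1
      · refine ⟨1, Subgroup.one_mem _, ?_⟩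
        rw [h1]; group
      · refine ⟨t, Subgroup.subset_closure (by simp), ?_⟩
        rw [h1]
        calc x * c * t * c⁻¹ = x * (c * t) * c⁻¹ := by group
          _ = x * (t * c) * c⁻¹ := by rw [hct]
          _ = x * t := by group
    exact (mem_Pb_iff _).mpr ⟨c, hc, hcQ, rfl⟩
  have hL3 : Subgroup.centralizer
      (((Subgroup.center ↥(Pb Q t)).map (Pb Q t).subtype : Subgroup (Gbar t)) : Set (Gbar t)) ≤
      Subgroup.normalizer ((Pb Q t : Subgroup (Gbar t)) : Set (Gbar t)) := by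
    intro w hw
    obtain ⟨c, hc, rfl⟩ := exists_pi w
    have hct : c * t = t * c := (mem_cent_iff t c).mp hc
    have hw' := Subgroup.mem_centralizer_iff.mp hw
    have hczc : c * z = z * c :=
      hcz c hc (hw' _ ((hcen _).mpr (Or.inr rfl)))
    have hcN := h.cfg.nQ c hczc
    apply Subgroup.mem_normalizer_fintype
    intro n hn'
    obtain ⟨x, hx, hxQ, rfl⟩ := hrep n hn'
    rw [SetLike.mem_coe, mem_Pb_iff]
    refine ⟨c * x * c⁻¹, Subgroup.mul_mem _ (Subgroup.mul_mem _ hc hx) (Subgroup.inv_mem _ hc),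
      (Subgroup.mem_normalizer_iff.mp hcN x).mp hxQ, rfl⟩
  -- the conjugating element
  have hxinvC : (y' * y)⁻¹ ∈ Subgroup.centralizer ({t} : Set G) := Subgroup.inv_mem _ hxC
  have hconj : pi (y' * y)⁻¹ hxinvC * pi z h.z_mem_Ct * (pi (y' * y)⁻¹ hxinvC)⁻¹ =
      pi (g * z * g⁻¹) haC := by
    show pi ((y' * y)⁻¹ * z * ((y' * y)⁻¹)⁻¹) _ = _
    apply pi_congr
    calc (y' * y)⁻¹ * z * ((y' * y)⁻¹)⁻¹
        = (y' * y)⁻¹ * (y' * y * (g * z * g⁻¹) * (y' * y)⁻¹) * ((y' * y)⁻¹)⁻¹ := by rw [hxa]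
      _ = g * z * g⁻¹ := by group
  have hab_ne : pi (g * z * g⁻¹) haC ≠ 1 ∧ pi (g * z * g⁻¹) haC ≠ pi z h.z_mem_Ct := by
    constructor
    · intro h1
      rcases (h.pi_eq_one_iff _ _).mp h1 with h2 | h2
      · exact h.cfg.u1 h2
      · exact h.a_ne_t h2
    · intro h1
      rcases (pi_eq_iff h.tt _ _ _ _).mp h1.symm with h2 | h2
      · exact h.cfg.uz h2
      · exact h.a_ne_zt h2
  have hg : pi (y' * y)⁻¹ hxinvC ∉ Subgroup.normalizer
      (((Subgroup.center ↥(Pb Q t)).map (Pb Q t).subtype : Subgroup (Gbar t)) : Set (Gbar t)) := by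
    intro h1
    have h2 := (Subgroup.mem_normalizer_iff.mp h1 (pi z h.z_mem_Ct)).mp
      ((hcen _).mpr (Or.inr rfl))
    rw [hconj, hcen] at h2
    rcases h2 with h2 | h2
    · exact hab_ne.1 h2
    · exact hab_ne.2 h2
  have hZg : ((Subgroup.center ↥(Pb Q t)).map (Pb Q t).subtype).map
      (MulAut.conj (pi (y' * y)⁻¹ hxinvC)).toMonoidHom ≤ Pb Q t := by
    rintro _ ⟨w, hw, rfl⟩
    rw [SetLike.mem_coe, hcen] at hw
    show pi (y' * y)⁻¹ hxinvC * w * (pi (y' * y)⁻¹ hxinvC)⁻¹ ∈ Pb Q t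
    rcases hw with rfl | rfl
    · rw [mul_one, mul_inv_cancel]
      exact Subgroup.one_mem _
    · rw [hconj]
      exact habmem
  exact (large_conj (Pb Q t) hL1 hL2 hL3 _ hg hZg).2.2

end Ctx

end main

/-- **S5429** -/
theorem s5429 (z : G) (hz : orderOf z = 2) (Q : Subgroup G)
    (hF : (Cfsg.generalizedFittingSubgroup ↥(Subgroup.centralizer ({z} : Set G))).map
      (Subgroup.centralizer ({z} : Set G)).subtype = Q)
    (hQ : Cfsg.IsExtraspecial 2 ↥Q) (g : G) (hgQ : g * z * g⁻¹ ∈ Q)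
    (hgZ : g * z * g⁻¹ ∉ ((Subgroup.center ↥Q).map Q.subtype))
    (t : G) (ht : orderOf t = 2) (htQ : t ∈ Q ⊓ (Q).map (MulAut.conj g).toMonoidHom)
    (htz : ¬ IsConj z t) (P : Subgroup G) (hP : P = Q ⊓ Subgroup.centralizer ({t} : Set G))
    (hCP : ∀ c ∈ Subgroup.centralizer ({z} : Set G),
      (∀ x ∈ P, ∃ y ∈ Subgroup.closure ({t, z} : Set G), c * x * c⁻¹ = x * y) ↔ c ∈ Q)
    [hn : ((Subgroup.zpowers t).subgroupOf (Subgroup.centralizer ({t} : Set G))).Normal] :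
    Cfsg.IsLargeExtraspecial ((P.subgroupOf (Subgroup.centralizer ({t} : Set G))).map
      (QuotientGroup.mk' ((Subgroup.zpowers t).subgroupOf
        (Subgroup.centralizer ({t} : Set G))))) ∧
    ∃ x ∈ P ⊔ ((Q).map (MulAut.conj g).toMonoidHom ⊓ Subgroup.centralizer ({t} : Set G)),
      x * (g * z * g⁻¹) * x⁻¹ = z := by
  subst hP
  have hctx := ctx_of_fstar z hz Q hF hQ g hgQ hgZ t ht htQ htz
  exact hctx.large_bar (fun c hc hx => (hCP c hc).mp hx)

end Cfsg.Agent.Lib.Helper14.LES
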