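import Cfsg.Agent.Lib.Helper14.LargeESG

/-!
helper14: S5427: simplicity criterion for groups with a large extraspecial 2-subgroup.
-/

set_option autoImplicit false
open scoped commutatorElement

namespace Cfsg.Agent.Lib.Helper14.LES

open Cfsg.Agent.Lib.Helper20.ES

variable {G : Type*} [Group G] [Finite G]

namespace Base

variable {Q : Subgroup G} {z : G}

/-- a normal subgroup meeting `Q` nontrivially contains `z` -/
theorem z_mem_of_inf_ne (h : Base Q z) (N : Subgroup G) [hN : N.Normal] (x : G) (hxN : x ∈ N)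
    (hxQ : x ∈ Q) (hx1 : x ≠ 1) : z ∈ N := by
  by_cases hxz : x = z
  · exact hxz ▸ hxN
  · obtain ⟨q, hq, hqx⟩ := amb_exists_conj_mul h.amb x hxQ hx1 hxz
    have h1 : z = (q * x * q⁻¹) * x⁻¹ := by rw [hqx]; group
    rw [h1]
    exact Subgroup.mul_mem _ (hN.conj_mem x hxN q) (Subgroup.inv_mem _ hxN)

/-- a normal subgroup not containing `z` is trivial -/
theorem eq_bot_of_not_mem (h : Base Q z) (hL : Cfsg.IsLargeExtraspecial Q) (N : Subgroup G)
    [hN : N.Normal] (hzN : z ∉ N) : N = ⊥ := by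
  have hNQ : ∀ x ∈ N, x ∈ Q → x = 1 := by
    intro x hxN hxQ
    by_contra hx1
    exact hzN (h.z_mem_of_inf_ne N x hxN hxQ hx1)
  have hzNn : z ∈ Subgroup.normalizer (N : Set G) := by
    rw [Subgroup.normalizer_eq_top]
    exact Subgroup.mem_top z
  have hfpf : ∀ d ∈ N, d * z = z * d → d = 1 := by
    intro d hd hdz
    have hdN := h.nQ d hdz
    have hall : ∀ q ∈ Q, d * q = q * d := by
      intro q hq
      have h1 : d * q * d⁻¹ * q⁻¹ ∈ Q :=
        Subgroup.mul_mem _ ((Subgroup.mem_normalizer_iff.mp hdN q).mp hq) (Subgroup.inv_mem _ hq)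
      have h2 : d * q * d⁻¹ * q⁻¹ ∈ N := by
        have h4 : d * q * d⁻¹ * q⁻¹ = d * (q * d⁻¹ * q⁻¹) := by group
        rw [h4]
        exact Subgroup.mul_mem _ hd (hN.conj_mem _ (Subgroup.inv_mem _ hd) q)
      have h5 := hNQ _ h2 h1
      calc d * q = (d * q * d⁻¹ * q⁻¹) * (q * d) := by group
        _ = q * d := by rw [h5, one_mul]
    rcases h.cQ d hall with h1 | h1
    · exact h1
    · exact absurd (h1 ▸ hd) hzN
  obtain ⟨-, -, hodd⟩ := inverts_of_fpf N z h.amb.zz hzNn hfpf
  apply hL.2.2.2 N hodd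
  rw [Subgroup.normalizer_eq_top]
  exact le_top

/-- a normal subgroup containing `C_G(z)` is everything -/
theorem eq_top_of_cent_le (h : Base Q z) (N : Subgroup G) [hN : N.Normal]
    (hC : Subgroup.centralizer ({z} : Set G) ≤ N) : N = ⊤ := by
  haveI : Fact (Nat.Prime 2) := ⟨Nat.prime_two⟩
  obtain ⟨S, hQS⟩ := h.amb.pgroup.exists_le_sylow
  have hzS : z ∈ (S : Subgroup G) := hQS h.amb.zQ
  haveI : Nontrivial ↥(S : Subgroup G) := ⟨⟨⟨z, hzS⟩, 1, fun h' => h.amb.z1 (congrArg Subtype.val h')⟩⟩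
  have hcn : Nontrivial (Subgroup.center ↥(S : Subgroup G)) := S.2.center_nontrivial
  obtain ⟨⟨c, hc⟩, hc1⟩ := exists_ne (1 : Subgroup.center ↥(S : Subgroup G))
  have hc1' : (c : G) ≠ 1 := by
    intro h'
    apply hc1
    apply Subtype.ext
    apply Subtype.ext
    exact h'
  have hcS : ∀ s ∈ (S : Subgroup G), s * (c : G) = (c : G) * s := by
    intro s hs
    have := Subgroup.mem_center_iff.mp hc ⟨s, hs⟩
    exact congrArg Subtype.val this
  have hcz : (c : G) = z := by
    rcases h.cQ (c : G) (fun q hq => (hcS q (hQS hq)).symm) with h1 | h1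
    · exact absurd h1 hc1'
    · exact h1
  have hzS' : ∀ s ∈ (S : Subgroup G), s * z = z * s := by
    intro s hs
    rw [← hcz]
    exact hcS s hs
  have hSN : (S : Subgroup G) ≤ N := by
    intro s hs
    exact hC ((mem_cent_iff z s).mpr (hzS' s hs))
  have hfr := Sylow.normalizer_sup_eq_top' S hSN
  have hNS : Subgroup.normalizer ((S : Subgroup G) : Set G) ≤ N := by
    intro x hx
    apply hC
    rw [mem_cent_iff]
    -- `x z x⁻¹` is central in `S`, commutes with `Q`, hence equals `z`
    have hxz : x * z * x⁻¹ ∈ (S : Subgroup G) := (Subgroup.mem_normalizer_iff.mp hx z).mp hzS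
    have hall : ∀ q ∈ Q, (x * z * x⁻¹) * q = q * (x * z * x⁻¹) := by
      intro q hq
      have hqS : q ∈ (S : Subgroup G) := hQS hq
      have h1 : x⁻¹ * q * x ∈ (S : Subgroup G) := by
        have := (Subgroup.mem_normalizer_iff.mp (Subgroup.inv_mem _ hx) q).mp hqS
        simpa using this
      have h2 := hzS' _ h1
      calc (x * z * x⁻¹) * q = x * (z * (x⁻¹ * q * x)) * x⁻¹ := by group
        _ = x * ((x⁻¹ * q * x) * z) * x⁻¹ := by rw [h2]
        _ = q * (x * z * x⁻¹) := by group
    rcases h.cQ _ hall with h1 | h1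
    · exact absurd (conj_eq_one_iff.mp h1) h.amb.z1
    · calc x * z = (x * z * x⁻¹) * x := by group
        _ = z * x := by rw [h1]
  rw [eq_top_iff, ← hfr]
  exact sup_le hNS le_rfl

/-- simplicity -/
theorem simple_of_large (h : Base Q z) (hL : Cfsg.IsLargeExtraspecial Q)
    (hgen : ∀ N : Subgroup G, N.Normal → z ∈ N → Subgroup.centralizer ({z} : Set G) ≤ N) :
    IsSimpleGroup G := by
  haveI : Nontrivial G := ⟨⟨z, 1, h.amb.z1⟩⟩
  refine ⟨fun N hN => ?_⟩
  by_cases hzN : z ∈ N
  · right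
    exact h.eq_top_of_cent_le N (hgen N hN hzN)
  · left
    exact h.eq_bot_of_not_mem hL N hzN

end Base

/-- **S5427** -/
theorem s5427 (z : G) (hz : orderOf z = 2) (Q : Subgroup G)
    (hF : (Cfsg.generalizedFittingSubgroup ↥(Subgroup.centralizer ({z} : Set G))).map
      (Subgroup.centralizer ({z} : Set G)).subtype = Q)
    (hQ : Cfsg.IsExtraspecial 2 ↥Q)
    (K U : Subgroup G) (hU : U = Subgroup.closure {x : G | ∃ k ∈ K, x = k * z * k⁻¹})
    (hUab : IsMulCommutative ↥U)
    (hgen : Subgroup.closure {x : G | ∃ c ∈ Subgroup.centralizer ({z} : Set G), ∃ u ∈ U,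
      x = c * u * c⁻¹} = Subgroup.centralizer ({z} : Set G))
    (h3 : (∃ k ∈ K, k * z * k⁻¹ ∈ Q ∧ k * z * k⁻¹ ≠ z) ∨ ∃ u ∈ U ⊓ Q, u ∉ Subgroup.zpowers z ∧
      (∃ hz' : z ∈ Subgroup.centralizer ({u} : Set G),
        (⟨z, hz'⟩ : ↥(Subgroup.centralizer ({u} : Set G))) ∈
          Cfsg.pCore 2 ↥(Subgroup.centralizer ({u} : Set G)))) :
    IsSimpleGroup G ∧ Cfsg.IsLargeExtraspecial Q := by
  have hb := base_of_fstar z hz Q hF hQ
  have hL : Cfsg.IsLargeExtraspecial Q := by
    rcases h3 with ⟨k, -, hkQ, hkz⟩ | ⟨u, hu, hunz, hW⟩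
    · exact hb.large_of_conj k hkQ hkz
    · apply hb.large_of_odd
      intro X hX hQX
      have huu : u * u = 1 := by
        have huU : u ∈ U := hu.1
        subst hU
        have key : ∀ x (hx : x ∈ Subgroup.closure {x : G | ∃ k ∈ K, x = k * z * k⁻¹}),
            x * x = 1 := by
          intro x hx
          induction hx using Subgroup.closure_induction with
          | mem x hx =>
            obtain ⟨k, -, rfl⟩ := hx
            calc k * z * k⁻¹ * (k * z * k⁻¹) = k * (z * z) * k⁻¹ := by group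
              _ = 1 := by rw [hb.amb.zz]; group
          | one => simp
          | mul x y hx hy ihx ihy =>
            have hc : x * y = y * x := by
              have := hUab.is_comm.comm ⟨x, hx⟩ ⟨y, hy⟩
              exact congrArg Subtype.val this
            calc x * y * (x * y) = x * (y * x) * y := by group
              _ = x * (x * y) * y := by rw [hc]
              _ = (x * x) * (y * y) := by group
              _ = 1 := by rw [ihx, ihy, one_mul]
          | inv x hx ih =>
            calc x⁻¹ * x⁻¹ = (x * x)⁻¹ := by group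
              _ = 1 := by rw [ih, inv_one]
        exact key u huU
      have hu1 : u ≠ 1 := fun h' => hunz (h' ▸ Subgroup.one_mem _)
      have huz : u ≠ z := fun h' => hunz (h' ▸ Subgroup.mem_zpowers z)
      exact hb.odd_of_core u hu.2 hu1 huz huu hW X hX hQX
  refine ⟨hb.simple_of_large hL ?_, hL⟩
  intro N hN hzN
  rw [← hgen, Subgroup.closure_le]
  rintro x ⟨c, -, u, hu, rfl⟩
  apply hN.conj_mem
  have hUN : U ≤ N := by
    rw [hU, Subgroup.closure_le]
    rintro y ⟨k, -, rfl⟩
    exact hN.conj_mem z hzN k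
  exact hUN hu

end Cfsg.Agent.Lib.Helper14.LES
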