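import Cfsg.Agent.Lib.Helper14.LargeESH
import Cfsg.Agent.Lib.Helper20.ESLarge

/-!
helper14: S5428, part 1: `C_Q(B)` for odd-order `B ≤ C_G(z)`, and the conjugating element.
-/

set_option autoImplicit false
open scoped commutatorElement

namespace Cfsg.Agent.Lib.Helper14.LES

open Cfsg.Agent.Lib.Helper20.ES

variable {G : Type*} [Group G] [Finite G]

namespace Base

variable {Q : Subgroup G} {z : G}

/-- `C_Q(B)` is extraspecial with centre `⟨z⟩` as soon as it is larger than `⟨z⟩` -/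
theorem cent_amb (h : Base Q z) (hL : Cfsg.IsLargeExtraspecial Q) (B : Subgroup G)
    (hB : B ≤ Subgroup.centralizer ({z} : Set G)) (hBodd : Odd (Nat.card ↥B))
    (x : G) (hxQ : x ∈ Q) (hxB : x ∈ Subgroup.centralizer (B : Set G)) (hx1 : x ≠ 1)
    (hxz : x ≠ z) : Amb (Q ⊓ Subgroup.centralizer (B : Set G)) z := by
  by_cases hB1 : B = ⊥
  · subst hB1
    have : Subgroup.centralizer (((⊥ : Subgroup G) : Subgroup G) : Set G) = ⊤ := by
      rw [Subgroup.centralizer_eq_top_iff_subset, Subgroup.coe_bot]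
      intro y hy
      rw [Set.mem_singleton_iff] at hy
      rw [hy]
      exact Subgroup.one_mem _
    rw [this, inf_top_eq]
    exact h.amb
  · have hBN : B ≤ Subgroup.normalizer (Q : Set G) := by
      intro b hb
      exact h.nQ b ((mem_cent_iff z b).mp (hB hb))
    obtain ⟨-, -, -, h4⟩ := large_extraspecial_decomp Q hL B hBN hBodd hB1
    rcases h4 with h4 | h4
    · exfalso
      have hx : x ∈ Q ⊓ Subgroup.centralizer (B : Set G) := ⟨hxQ, hxB⟩
      rw [h4, h.amb.center_eq, h.amb.mem_zpowers] at hx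
      rcases hx with hx | hx
      · exact hx1 hx
      · exact hxz hx
    · obtain ⟨z', -, hamb⟩ := exists_amb _ h4
      have hzR : z ∈ Q ⊓ Subgroup.centralizer (B : Set G) := by
        refine Subgroup.mem_inf.mpr ⟨h.amb.zQ, ?_⟩
        rw [Subgroup.mem_centralizer_iff]
        intro b hb
        exact (mem_cent_iff z b).mp (hB hb)
      have hzz' : z = (z' : G) := by
        rcases hamb.cen z hzR (fun q hq => h.amb.zc q hq.1) with h1 | h1
        · exact absurd h1 h.amb.z1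
        · exact h1
      rw [hzz']
      exact hamb

end Base

/-- data for S5428 -/
structure Ctx2 (Q : Subgroup G) (z g : G) (A : Subgroup G) : Prop where
  base : Base Q z
  cfg : Cfg Q z g
  large : Cfsg.IsLargeExtraspecial Q
  hA : A ≤ Subgroup.centralizer ({z} : Set G)
  hAodd : Odd (Nat.card ↥A)
  aA : g * z * g⁻¹ ∈ Subgroup.centralizer (A : Set G)

namespace Ctx2

variable {Q : Subgroup G} {z g : G} {A : Subgroup G}

theorem z_cent_A (h : Ctx2 Q z g A) : z ∈ Subgroup.centralizer (A : Set G) := by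
  rw [Subgroup.mem_centralizer_iff]
  intro b hb
  exact (mem_cent_iff z b).mp (h.hA hb)

theorem ambR (h : Ctx2 Q z g A) : Amb (Q ⊓ Subgroup.centralizer (A : Set G)) z :=
  h.base.cent_amb h.large A h.hA h.hAodd _ h.cfg.uQ h.aA h.cfg.u1 h.cfg.uz

/-- `y ∈ R` with `y a y⁻¹ = z a` -/
theorem exists_y (h : Ctx2 Q z g A) : ∃ y ∈ Q ⊓ Subgroup.centralizer (A : Set G),
    y * (g * z * g⁻¹) * y⁻¹ = z * (g * z * g⁻¹) :=
  amb_exists_conj_mul h.ambR _ ⟨h.cfg.uQ, h.aA⟩ h.cfg.u1 h.cfg.uz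

/-- `y' ∈ C_{Q^g}(A)` with `y' z y'⁻¹ = a z` -/
theorem exists_y' (h : Ctx2 Q z g A) :
    ∃ y ∈ (Q).map (MulAut.conj g).toMonoidHom ⊓ Subgroup.centralizer (A : Set G),
      y * z * y⁻¹ = (g * z * g⁻¹) * z := by
  -- transport to `Q` by `g⁻¹`
  set B : Subgroup G := A.map (MulAut.conj g⁻¹).toMonoidHom with hBdef
  have hmemB : ∀ b, b ∈ B ↔ ∃ a ∈ A, g⁻¹ * a * g = b := by
    intro b
    rw [hBdef, Subgroup.mem_map]
    constructor
    · rintro ⟨a, ha, rfl⟩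
      exact ⟨a, ha, by simp [MulAut.conj_apply]⟩
    · rintro ⟨a, ha, rfl⟩
      exact ⟨a, ha, by simp [MulAut.conj_apply]⟩
  have hBz : B ≤ Subgroup.centralizer ({z} : Set G) := by
    intro b hb
    obtain ⟨a, ha, rfl⟩ := (hmemB b).mp hb
    rw [mem_cent_iff]
    have h1 := Subgroup.mem_centralizer_iff.mp h.aA a ha
    -- a * (g z g⁻¹) = (g z g⁻¹) * a
    calc g⁻¹ * a * g * z = g⁻¹ * (a * (g * z * g⁻¹)) * g := by group
      _ = g⁻¹ * ((g * z * g⁻¹) * a) * g := by rw [h1]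
      _ = z * (g⁻¹ * a * g) := by group
  have hBodd : Odd (Nat.card ↥B) := by
    rw [hBdef, Subgroup.card_map_of_injective (MulAut.conj g⁻¹).injective]
    exact h.hAodd
  obtain ⟨z₀, hz₀, hz₀e⟩ := (Cfg.mem_Q' z).mp h.cfg.zQ'
  have hz₀B : z₀ ∈ Subgroup.centralizer (B : Set G) := by
    rw [Subgroup.mem_centralizer_iff]
    intro b hb
    obtain ⟨a, ha, rfl⟩ := (hmemB b).mp hb
    have h1 := Subgroup.mem_centralizer_iff.mp h.z_cent_A a ha
    have h2 : z₀ = g⁻¹ * z * g := by rw [← hz₀e]; group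
    rw [h2]
    calc g⁻¹ * a * g * (g⁻¹ * z * g) = g⁻¹ * (a * z) * g := by group
      _ = g⁻¹ * (z * a) * g := by rw [h1]
      _ = g⁻¹ * z * g * (g⁻¹ * a * g) := by group
  have hz₀1 : z₀ ≠ 1 := by
    intro h'
    apply h.base.amb.z1
    rw [← hz₀e, h']
    group
  have hz₀z : z₀ ≠ z := by
    intro h'
    apply h.cfg.uz
    have := hz₀e
    rw [h'] at this
    exact this
  have hambB := h.base.cent_amb h.large B hBz hBodd z₀ hz₀ hz₀B hz₀1 hz₀z
  obtain ⟨q, hq, hqz⟩ := amb_exists_conj_mul hambB z₀ ⟨hz₀, hz₀B⟩ hz₀1 hz₀z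
  refine ⟨g * q * g⁻¹, Subgroup.mem_inf.mpr ⟨(Cfg.mem_Q' _).mpr ⟨q, hq.1, rfl⟩, ?_⟩, ?_⟩
  · rw [Subgroup.mem_centralizer_iff]
    intro a ha
    have h1 := Subgroup.mem_centralizer_iff.mp hq.2 (g⁻¹ * a * g) ((hmemB _).mpr ⟨a, ha, rfl⟩)
    calc a * (g * q * g⁻¹) = g * ((g⁻¹ * a * g) * q) * g⁻¹ := by group
      _ = g * (q * (g⁻¹ * a * g)) * g⁻¹ := by rw [h1]
      _ = g * q * g⁻¹ * a := by group
  · calc g * q * g⁻¹ * z * (g * q * g⁻¹)⁻¹ = g * q * g⁻¹ * (g * z₀ * g⁻¹) * (g * q * g⁻¹)⁻¹ := by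
          rw [hz₀e]
      _ = g * (q * z₀ * q⁻¹) * g⁻¹ := by group
      _ = g * (z * z₀) * g⁻¹ := by rw [hqz]
      _ = g * z * g⁻¹ * (g * z₀ * g⁻¹) := by group
      _ = g * z * g⁻¹ * z := by rw [hz₀e]

/-- the conjugating element -/
theorem exists_x (h : Ctx2 Q z g A) :
    ∃ y ∈ Q ⊓ Subgroup.centralizer (A : Set G),
      ∃ y' ∈ (Q).map (MulAut.conj g).toMonoidHom ⊓ Subgroup.centralizer (A : Set G),
      (y' * y) * (g * z * g⁻¹) * (y' * y)⁻¹ = z ∧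
      y * (g * z * g⁻¹) * y⁻¹ = z * (g * z * g⁻¹) := by
  obtain ⟨y, hy, hya⟩ := h.exists_y
  obtain ⟨y', hy', hy'z⟩ := h.exists_y'
  refine ⟨y, hy, y', hy', ?_, hya⟩
  have hy'a : y' * (g * z * g⁻¹) * y'⁻¹ = g * z * g⁻¹ := by
    rw [h.cfg.Q'u y' hy'.1]
    group
  calc (y' * y) * (g * z * g⁻¹) * (y' * y)⁻¹
      = y' * (y * (g * z * g⁻¹) * y⁻¹) * y'⁻¹ := by group
    _ = y' * (z * (g * z * g⁻¹)) * y'⁻¹ := by rw [hya]
    _ = (y' * z * y'⁻¹) * (y' * (g * z * g⁻¹) * y'⁻¹) := by group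
    _ = (g * z * g⁻¹ * z) * (g * z * g⁻¹) := by rw [hy'z, hy'a]
    _ = z * ((g * z * g⁻¹) * (g * z * g⁻¹)) := by
        rw [← h.cfg.zu]
        group
    _ = z := by rw [h.cfg.uu, mul_one]

end Ctx2

end Cfsg.Agent.Lib.Helper14.LES
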