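import Cfsg.Agent.Lib.Helper14.LargeESI

/-!
helper14: S5428, part 2: `C_G(A R) ≤ A ⟨z⟩`.
-/

set_option autoImplicit false
open scoped commutatorElement

namespace Cfsg.Agent.Lib.Helper14.LES

open Cfsg.Agent.Lib.Helper20.ES

variable {G : Type*} [Group G] [Finite G]

/-- a group of order `2 * odd` with a central involution `z`: every element is `k` or `z k`
with `k` in the odd core -/
theorem exists_oddCore_decomp {C : Type*} [Group C] [Finite C] (zC : C) (hz1 : zC ≠ 1)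
    (hzz : zC * zC = 1) (hzc : ∀ c : C, c * zC = zC * c) (h4 : ¬ 4 ∣ Nat.card C) (c : C) :
    ∃ k ∈ Cfsg.oddCore C, c = k ∨ c = zC * k := by
  have hmem : ∀ w : C, w ∈ Subgroup.zpowers zC ↔ w = 1 ∨ w = zC := mem_zpowers_of_sq hzz
  have hNn : (Subgroup.zpowers zC).Normal := by
    refine ⟨fun n hn c => ?_⟩
    rw [hmem] at hn ⊢
    rcases hn with rfl | rfl
    · left; group
    · right
      rw [hzc c]
      group
  have hord : orderOf zC = 2 := by
    apply orderOf_eq_prime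
    · rw [pow_two]; exact hzz
    · exact hz1
  have hcardN : Nat.card ↥(Subgroup.zpowers zC) = 2 := by
    rw [Nat.card_zpowers, hord]
  have hidx : Nat.card ↥(Subgroup.zpowers zC) * (Subgroup.zpowers zC).index = Nat.card C :=
    Subgroup.card_mul_index _
  have hodd : Odd (Subgroup.zpowers zC).index := by
    by_contra hcon
    rw [Nat.not_odd_iff_even] at hcon
    obtain ⟨m, hm⟩ := hcon
    apply h4
    rw [← hidx, hcardN, hm]
    exact ⟨m, by ring⟩
  have hcop : Nat.Coprime (Nat.card ↥(Subgroup.zpowers zC)) (Subgroup.zpowers zC).index := by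
    rw [hcardN]
    exact Nat.coprime_two_left.mpr hodd
  obtain ⟨K, hK⟩ := Subgroup.exists_right_complement'_of_coprime hcop
  have hKcard : Nat.card ↥K = (Subgroup.zpowers zC).index := by
    have h1 := hK.card_mul_card
    rw [← hidx] at h1
    exact Nat.eq_of_mul_eq_mul_left (by rw [hcardN]; norm_num) h1
  have hdec : ∀ c : C, ∃ k ∈ K, c = k ∨ c = zC * k := by
    intro c
    obtain ⟨⟨⟨n, hn⟩, ⟨k, hk⟩⟩, hnk⟩ := (hK.existsUnique c).exists
    simp only at hnk
    refine ⟨k, hk, ?_⟩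
    rw [SetLike.mem_coe, hmem] at hn
    rcases hn with rfl | rfl
    · left; rw [← hnk, one_mul]
    · right; exact hnk.symm
  have hKn : K.Normal := by
    refine ⟨fun k hk c => ?_⟩
    obtain ⟨k', hk', h1 | h1⟩ := hdec c
    · rw [h1]
      exact Subgroup.mul_mem _ (Subgroup.mul_mem _ hk' hk) (Subgroup.inv_mem _ hk')
    · have : c * k * c⁻¹ = k' * k * k'⁻¹ := by
        rw [h1]
        calc zC * k' * k * (zC * k')⁻¹ = zC * (k' * k * k'⁻¹) * zC⁻¹ := by group
          _ = (k' * k * k'⁻¹) * zC * zC⁻¹ := by rw [hzc (k' * k * k'⁻¹)]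
          _ = k' * k * k'⁻¹ := by group
      rw [this]
      exact Subgroup.mul_mem _ (Subgroup.mul_mem _ hk' hk) (Subgroup.inv_mem _ hk')
  have hKle : K ≤ Cfsg.oddCore C := by
    apply le_sSup
    refine ⟨hKn, ?_⟩
    rw [hKcard]
    exact (Nat.coprime_two_right).mpr hodd
  obtain ⟨k, hk, h1⟩ := hdec c
  exact ⟨k, hKle hk, h1⟩

namespace Ctx2

variable {Q : Subgroup G} {z g : G} {A : Subgroup G}

theorem sup_le_cent (h : Ctx2 Q z g A) :
    A ⊔ (Q ⊓ Subgroup.centralizer (A : Set G)) ≤ Subgroup.centralizer ({z} : Set G) := by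
  apply sup_le h.hA
  intro x hx
  exact (mem_cent_iff z x).mpr (h.base.amb.zc x hx.1)

theorem z_mem_C (h : Ctx2 Q z g A) : z ∈ Subgroup.centralizer
    ((A ⊔ (Q ⊓ Subgroup.centralizer (A : Set G)) : Subgroup G) : Set G) := by
  rw [Subgroup.mem_centralizer_iff]
  intro x hx
  exact (mem_cent_iff z x).mp (h.sup_le_cent hx)

theorem z_mem_R (h : Ctx2 Q z g A) : z ∈ Q ⊓ Subgroup.centralizer (A : Set G) :=
  Subgroup.mem_inf.mpr ⟨h.base.amb.zQ, h.z_cent_A⟩

/-- `C_G(A R) ≤ A ⟨z⟩` -/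
theorem cent_decomp (h : Ctx2 Q z g A)
    (hO : (Cfsg.oddCore ↥(Subgroup.centralizer
      ((A ⊔ (Q ⊓ Subgroup.centralizer (A : Set G)) : Subgroup G) : Set G))).map
      (Subgroup.centralizer
        ((A ⊔ (Q ⊓ Subgroup.centralizer (A : Set G)) : Subgroup G) : Set G)).subtype ≤ A)
    (h4 : ¬ 4 ∣ Nat.card ↥(Subgroup.centralizer
      ((A ⊔ (Q ⊓ Subgroup.centralizer (A : Set G)) : Subgroup G) : Set G)))
    (c : G) (hc : c ∈ Subgroup.centralizer
      ((A ⊔ (Q ⊓ Subgroup.centralizer (A : Set G)) : Subgroup G) : Set G)) :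
    ∃ α ∈ A, c = α ∨ c = z * α := by
  have hzC := h.z_mem_C
  have hzc : ∀ c' : ↥(Subgroup.centralizer
      ((A ⊔ (Q ⊓ Subgroup.centralizer (A : Set G)) : Subgroup G) : Set G)),
      c' * ⟨z, hzC⟩ = ⟨z, hzC⟩ * c' := by
    intro c'
    apply Subtype.ext
    have := Subgroup.mem_centralizer_iff.mp c'.2 z (Subgroup.mem_sup_right h.z_mem_R)
    exact this.symm
  obtain ⟨k, hk, h1⟩ := exists_oddCore_decomp (⟨z, hzC⟩ : ↥(Subgroup.centralizer
      ((A ⊔ (Q ⊓ Subgroup.centralizer (A : Set G)) : Subgroup G) : Set G)))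
    (fun h' => h.base.amb.z1 (congrArg Subtype.val h'))
    (Subtype.ext h.base.amb.zz) hzc h4 ⟨c, hc⟩
  have hkA : (k : G) ∈ A := hO ⟨k, hk, rfl⟩
  refine ⟨(k : G), hkA, ?_⟩
  rcases h1 with h1 | h1
  · left; exact congrArg Subtype.val h1
  · right; exact congrArg Subtype.val h1

end Ctx2

end Cfsg.Agent.Lib.Helper14.LES
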