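import Cfsg.Agent.Lib.Helper14.LargeESJ

/-!
helper14: S5428, part 3: the quotient `M/A`, `M = C_G(A) A`.
-/

set_option autoImplicit false
open scoped commutatorElement

namespace Cfsg.Agent.Lib.Helper14.LES

open Cfsg.Agent.Lib.Helper20.ES

variable {G : Type*} [Group G]

/-- elements of `C_G(A) ⊔ A` are products -/
theorem mem_cent_sup (A : Subgroup G) (m : G)
    (hm : m ∈ Subgroup.centralizer (A : Set G) ⊔ A) :
    ∃ c ∈ Subgroup.centralizer (A : Set G), ∃ α ∈ A, m = c * α := by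
  let S : Subgroup G :=
    { carrier := {x | ∃ c ∈ Subgroup.centralizer (A : Set G), ∃ α ∈ A, x = c * α}
      one_mem' := ⟨1, Subgroup.one_mem _, 1, Subgroup.one_mem _, by simp⟩
      mul_mem' := by
        rintro x y ⟨c, hc, α, hα, rfl⟩ ⟨c', hc', α', hα', rfl⟩
        refine ⟨c * c', Subgroup.mul_mem _ hc hc', α * α', Subgroup.mul_mem _ hα hα', ?_⟩
        have h1 := Subgroup.mem_centralizer_iff.mp hc' α hα
        calc c * α * (c' * α') = c * (α * c') * α' := by group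
          _ = c * (c' * α) * α' := by rw [h1]
          _ = c * c' * (α * α') := by group
      inv_mem' := by
        rintro x ⟨c, hc, α, hα, rfl⟩
        refine ⟨c⁻¹, Subgroup.inv_mem _ hc, α⁻¹, Subgroup.inv_mem _ hα, ?_⟩
        have h1 := Subgroup.mem_centralizer_iff.mp (Subgroup.inv_mem _ hc) α⁻¹
          (Subgroup.inv_mem _ hα)
        rw [mul_inv_rev, h1] }
  have h1 : Subgroup.centralizer (A : Set G) ⊔ A ≤ S := by
    apply sup_le
    · intro c hc
      exact ⟨c, hc, 1, Subgroup.one_mem _, by simp⟩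
    · intro α hα
      exact ⟨1, Subgroup.one_mem _, α, hα, by simp⟩
  exact h1 hm

section quot

variable {A M : Subgroup G} [hn : (A.subgroupOf M).Normal]

/-- the projection `M → M/A` on elements of `G` -/
def qmk (x : G) (hx : x ∈ M) : ↥M ⧸ A.subgroupOf M := QuotientGroup.mk ⟨x, hx⟩

theorem qmk_eq_iff (x y : G) (hx : x ∈ M) (hy : y ∈ M) :
    qmk (A := A) x hx = qmk y hy ↔ x⁻¹ * y ∈ A := by
  unfold qmk
  rw [QuotientGroup.eq, Subgroup.mem_subgroupOf]
  rfl

theorem qmk_mul (x y : G) (hx : x ∈ M) (hy : y ∈ M) :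
    qmk (A := A) x hx * qmk y hy = qmk (x * y) (Subgroup.mul_mem _ hx hy) := rfl

theorem qmk_inv (x : G) (hx : x ∈ M) :
    (qmk (A := A) x hx)⁻¹ = qmk x⁻¹ (Subgroup.inv_mem _ hx) := rfl

theorem qmk_one : qmk (A := A) (M := M) 1 (Subgroup.one_mem _) = 1 := rfl

theorem qmk_congr {x y : G} (hxy : x = y) (hx : x ∈ M) :
    qmk (A := A) x hx = qmk y (hxy ▸ hx) := by subst hxy; rfl

theorem exists_qmk (w : ↥M ⧸ A.subgroupOf M) :
    ∃ (x : G) (hx : x ∈ M), qmk x hx = w := by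
  induction w using QuotientGroup.induction_on with
  | H x => exact ⟨x.1, x.2, rfl⟩

theorem mem_qbar_iff (P : Subgroup G) (w : ↥M ⧸ A.subgroupOf M) :
    w ∈ (P.subgroupOf M).map (QuotientGroup.mk' (A.subgroupOf M))
    ↔ ∃ (x : G) (hx : x ∈ M), x ∈ P ∧ qmk x hx = w := by
  rw [Subgroup.mem_map]
  constructor
  · rintro ⟨x, hx, rfl⟩
    exact ⟨x.1, x.2, Subgroup.mem_subgroupOf.mp hx, rfl⟩
  · rintro ⟨x, hx, hxP, rfl⟩
    exact ⟨⟨x, hx⟩, Subgroup.mem_subgroupOf.mpr hxP, rfl⟩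

end quot

/-- an element of an odd-order subgroup with 2-power order is trivial -/
theorem eq_one_of_pow_two_of_mem_odd [Finite G] (A : Subgroup G) (hA : Odd (Nat.card ↥A)) (b : G)
    (hb : b ∈ A) (k : ℕ) (hk : b ^ (2 ^ k) = 1) : b = 1 := by
  have h1 : orderOf b ∣ 2 ^ k := orderOf_dvd_of_pow_eq_one hk
  have h2 : orderOf b ∣ Nat.card ↥A := by
    have := orderOf_dvd_natCard (⟨b, hb⟩ : ↥A)
    rwa [← Subgroup.orderOf_coe] at this
  have hc : Nat.Coprime (2 ^ k) (Nat.card ↥A) :=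
    Nat.Coprime.pow_left k (Nat.coprime_two_left.mpr hA)
  exact orderOf_eq_one_iff.mp
    (Nat.Coprime.eq_one_of_dvd (Nat.Coprime.coprime_dvd_left h1 hc) h2)

namespace Ctx2

variable [Finite G] {Q : Subgroup G} {z g : G} {A : Subgroup G}

/-- `c ∈ C_G(A)` centralizing `r ∈ R` modulo `A` centralizes `r` -/
theorem comm_of_mod (h : Ctx2 Q z g A) (c r : G) (hc : c ∈ Subgroup.centralizer (A : Set G))
    (hr : r ∈ Q ⊓ Subgroup.centralizer (A : Set G)) (hb : (r * c)⁻¹ * (c * r) ∈ A) :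
    c * r = r * c := by
  set b := (r * c)⁻¹ * (c * r) with hbdef
  have hbC : b ∈ Subgroup.centralizer (A : Set G) :=
    Subgroup.mul_mem _ (Subgroup.inv_mem _ (Subgroup.mul_mem _ hr.2 hc)) (Subgroup.mul_mem _ hc hr.2)
  -- `b` commutes with `r⁻¹`
  have hbr : Commute b r⁻¹ := by
    have := Subgroup.mem_centralizer_iff.mp (Subgroup.inv_mem _ hr.2) b hb
    exact this
  obtain ⟨k, hk⟩ := h.base.amb.pgroup ⟨r, hr.1⟩
  have hk' : r ^ (2 ^ k) = 1 := by
    have := congrArg Subtype.val hk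
    simpa using this
  have h1 : c⁻¹ * r⁻¹ * c⁻¹⁻¹ = b * r⁻¹ := by
    rw [hbdef]; group
  have h2 : (c⁻¹ * r⁻¹ * c⁻¹⁻¹) ^ (2 ^ k) = 1 := by
    rw [conj_pow, inv_pow, hk']
    group
  rw [h1, hbr.mul_pow, inv_pow, hk', inv_one, mul_one] at h2
  have hb1 : b = 1 := eq_one_of_pow_two_of_mem_odd A h.hAodd b hb k h2
  have : c * r = (r * c) * b := by rw [hbdef]; group
  rw [this, hb1, mul_one]

end Ctx2

end Cfsg.Agent.Lib.Helper14.LES
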