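import Cfsg.Agent.Lib.Helper14.LargeESK

/-!
helper14: S5428, part 4: the image of `R = C_Q(A)` in `M/A` is large extraspecial.
-/

set_option autoImplicit false
open scoped commutatorElement

namespace Cfsg.Agent.Lib.Helper14.LES

open Cfsg.Agent.Lib.Helper20.ES

variable {G : Type*} [Group G] [Finite G]

section main

variable {Q : Subgroup G} {z g : G} {A : Subgroup G}
  [hn : (A.subgroupOf (Subgroup.centralizer (A : Set G) ⊔ A)).Normal]

/-- the quotient `M/A` -/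
abbrev Mbar (A : Subgroup G) [(A.subgroupOf (Subgroup.centralizer (A : Set G) ⊔ A)).Normal] :
    Type _ :=
  ↥(Subgroup.centralizer (A : Set G) ⊔ A) ⧸ A.subgroupOf (Subgroup.centralizer (A : Set G) ⊔ A)

/-- the image of `R` -/
abbrev Rb (Q A : Subgroup G) [(A.subgroupOf (Subgroup.centralizer (A : Set G) ⊔ A)).Normal] :
    Subgroup (Mbar A) :=
  ((Q ⊓ Subgroup.centralizer (A : Set G)).subgroupOf (Subgroup.centralizer (A : Set G) ⊔ A)).map
    (QuotientGroup.mk' (A.subgroupOf (Subgroup.centralizer (A : Set G) ⊔ A)))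

namespace Ctx2

theorem R_le_M : Q ⊓ Subgroup.centralizer (A : Set G) ≤ Subgroup.centralizer (A : Set G) ⊔ A :=
  le_trans inf_le_right le_sup_left

/-- injectivity of the projection on `R` -/
theorem qmk_inj (h : Ctx2 Q z g A) (x y : G) (hx : x ∈ Q ⊓ Subgroup.centralizer (A : Set G))
    (hy : y ∈ Q ⊓ Subgroup.centralizer (A : Set G))
    (hxy : qmk (A := A) x (R_le_M hx) = qmk y (R_le_M hy)) : x = y := by
  rw [qmk_eq_iff] at hxy
  have h1 : x⁻¹ * y ∈ Q := Subgroup.mul_mem _ (Subgroup.inv_mem _ hx.1) hy.1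
  have h2 := h.base.eq_one_of_mem_odd A h.hAodd _ h1 hxy
  exact (inv_mul_eq_one.mp h2)

theorem qmk_z_ne_one (h : Ctx2 Q z g A) : qmk (A := A) z (R_le_M h.z_mem_R) ≠ 1 := by
  intro h1
  rw [← qmk_one] at h1
  exact h.base.amb.z1 (h.qmk_inj z 1 h.z_mem_R (Subgroup.one_mem _) h1)

theorem a_mem_R (h : Ctx2 Q z g A) : g * z * g⁻¹ ∈ Q ⊓ Subgroup.centralizer (A : Set G) :=
  Subgroup.mem_inf.mpr ⟨h.cfg.uQ, h.aA⟩

/-- the `ESData` of the image of `R` -/
theorem esData_bar (h : Ctx2 Q z g A) :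
    ∃ zb : ↥(Rb Q A), (zb : Mbar A) = qmk z (R_le_M h.z_mem_R) ∧ ESData 2 ↥(Rb Q A) zb := by
  have hambR := h.ambR
  have hzb : qmk z (R_le_M h.z_mem_R) ∈ Rb Q A :=
    (mem_qbar_iff _ _).mpr ⟨z, R_le_M h.z_mem_R, h.z_mem_R, rfl⟩
  have hrep : ∀ b : ↥(Rb Q A), ∃ (x : G) (hx : x ∈ Q ⊓ Subgroup.centralizer (A : Set G)),
      qmk x (R_le_M hx) = (b : Mbar A) := by
    intro b
    obtain ⟨x, hxM, hxR, hb⟩ := (mem_qbar_iff _ _).mp b.2
    exact ⟨x, hxR, hb⟩
  have hmemz : ∀ b : ↥(Rb Q A), (b : Mbar A) = 1 ∨ (b : Mbar A) = qmk z (R_le_M h.z_mem_R) →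
      b ∈ Subgroup.zpowers (⟨qmk z (R_le_M h.z_mem_R), hzb⟩ : ↥(Rb Q A)) := by
    intro b hb
    rcases hb with hb | hb
    · have : b = 1 := Subtype.ext hb
      rw [this]
      exact Subgroup.one_mem _
    · have : b = ⟨qmk z (R_le_M h.z_mem_R), hzb⟩ := Subtype.ext hb
      rw [this]
      exact Subgroup.mem_zpowers _
  refine ⟨⟨qmk z (R_le_M h.z_mem_R), hzb⟩, rfl, ?_, ?_, ?_, ?_, ?_, ?_⟩
  · intro h1
    exact h.qmk_z_ne_one (congrArg Subtype.val h1)
  · apply Subtype.ext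
    show (qmk z (R_le_M h.z_mem_R)) ^ 2 = 1
    rw [pow_two, qmk_mul, qmk_congr h.base.amb.zz]
    rfl
  · rw [Subgroup.mem_center_iff]
    intro b
    obtain ⟨x, hx, hb⟩ := hrep b
    apply Subtype.ext
    show (b : Mbar A) * qmk z (R_le_M h.z_mem_R) = qmk z (R_le_M h.z_mem_R) * (b : Mbar A)
    rw [← hb, qmk_mul, qmk_mul]
    exact qmk_congr (h.base.amb.zc x hx.1) _
  · intro w hw
    obtain ⟨x, hx, hb⟩ := hrep w
    have hall : ∀ r ∈ Q ⊓ Subgroup.centralizer (A : Set G), r * x = x * r := by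
      intro r hr
      have hrb : qmk r (R_le_M hr) ∈ Rb Q A :=
        (mem_qbar_iff _ _).mpr ⟨r, R_le_M hr, hr, rfl⟩
      have h1 := Subgroup.mem_center_iff.mp hw ⟨qmk r (R_le_M hr), hrb⟩
      have h2 : qmk r (R_le_M hr) * (w : Mbar A) = (w : Mbar A) * qmk r (R_le_M hr) :=
        congrArg Subtype.val h1
      rw [← hb, qmk_mul, qmk_mul] at h2
      exact h.qmk_inj _ _ (Subgroup.mul_mem _ hr hx) (Subgroup.mul_mem _ hx hr) h2
    apply hmemz
    rcases hambR.cen x hx hall with h1 | h1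
    · left
      rw [← hb, qmk_congr h1]
      rfl
    · right
      rw [← hb]
      exact qmk_congr h1 _
  · intro b₁ b₂
    obtain ⟨x, hx, hb₁⟩ := hrep b₁
    obtain ⟨y, hy, hb₂⟩ := hrep b₂
    apply hmemz
    have hc : ((⁅b₁, b₂⁆ : ↥(Rb Q A)) : Mbar A) = qmk ⁅x, y⁆ (by
        rw [commutatorElement_def]
        exact R_le_M (Subgroup.mul_mem _ (Subgroup.mul_mem _ (Subgroup.mul_mem _ hx hy)
          (Subgroup.inv_mem _ hx)) (Subgroup.inv_mem _ hy))) := by
      rw [commutatorElement_def]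
      show (b₁ : Mbar A) * (b₂ : Mbar A) * (b₁ : Mbar A)⁻¹ * (b₂ : Mbar A)⁻¹ = _
      rw [← hb₁, ← hb₂]
      rfl
    rcases hambR.comm x hx y hy with h1 | h1
    · left
      rw [hc, qmk_congr h1]
      rfl
    · right
      rw [hc]
      exact qmk_congr h1 _
  · intro b
    obtain ⟨x, hx, hb⟩ := hrep b
    apply hmemz
    have hc : ((b ^ 2 : ↥(Rb Q A)) : Mbar A) =
        qmk (x * x) (R_le_M (Subgroup.mul_mem _ hx hx)) := by
      rw [pow_two]
      show (b : Mbar A) * (b : Mbar A) = _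
      rw [← hb]
      rfl
    rcases hambR.sq x hx with h1 | h1
    · left
      rw [hc, qmk_congr h1]
      rfl
    · right
      rw [hc]
      exact qmk_congr h1 _

/-- every element of `M/A` is the image of an element of `C_G(A)` -/
theorem exists_qmk_cent (w : Mbar A) :
    ∃ (c : G) (hc : c ∈ Subgroup.centralizer (A : Set G)),
      qmk (A := A) c (Subgroup.mem_sup_left hc) = w := by
  obtain ⟨m, hm, rfl⟩ := exists_qmk w
  obtain ⟨c, hc, α, hα, rfl⟩ := mem_cent_sup A m hm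
  refine ⟨c, hc, ?_⟩
  rw [qmk_eq_iff]
  have : c⁻¹ * (c * α) = α := by group
  rw [this]
  exact hα

theorem large_bar (h : Ctx2 Q z g A)
    (hO : (Cfsg.oddCore ↥(Subgroup.centralizer
      ((A ⊔ (Q ⊓ Subgroup.centralizer (A : Set G)) : Subgroup G) : Set G))).map
      (Subgroup.centralizer
        ((A ⊔ (Q ⊓ Subgroup.centralizer (A : Set G)) : Subgroup G) : Set G)).subtype ≤ A)
    (h4 : ¬ 4 ∣ Nat.card ↥(Subgroup.centralizer
      ((A ⊔ (Q ⊓ Subgroup.centralizer (A : Set G)) : Subgroup G) : Set G))) :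
    Cfsg.IsLargeExtraspecial (Rb Q A) ∧
    ∃ x ∈ (Q ⊓ Subgroup.centralizer (A : Set G)) ⊔
        ((Q).map (MulAut.conj g).toMonoidHom ⊓ Subgroup.centralizer (A : Set G)),
      x * (g * z * g⁻¹) * x⁻¹ = z := by
  haveI : Fact (Nat.Prime 2) := ⟨Nat.prime_two⟩
  obtain ⟨y, hy, y', hy', hxa, hya⟩ := h.exists_x
  refine ⟨?_, y' * y, Subgroup.mul_mem _ (Subgroup.mem_sup_right hy')
    (Subgroup.mem_sup_left hy), hxa⟩
  have hyC : y ∈ Subgroup.centralizer (A : Set G) := hy.2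
  have hy'C : y' ∈ Subgroup.centralizer (A : Set G) := hy'.2
  have hxC : y' * y ∈ Subgroup.centralizer (A : Set G) := Subgroup.mul_mem _ hy'C hyC
  obtain ⟨zb, hzb, hes⟩ := h.esData_bar
  have hzR := h.z_mem_R
  have haR := h.a_mem_R
  have hzbmem : qmk z (R_le_M hzR) ∈ Rb Q A := hzb ▸ zb.2
  have habmem : qmk (g * z * g⁻¹) (R_le_M haR) ∈ Rb Q A :=
    (mem_qbar_iff _ _).mpr ⟨_, R_le_M haR, haR, rfl⟩
  have hybmem : qmk y (R_le_M hy) ∈ Rb Q A := (mem_qbar_iff _ _).mpr ⟨_, R_le_M hy, hy, rfl⟩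
  have hcen : ∀ w : Mbar A, w ∈ (Subgroup.center ↥(Rb Q A)).map (Rb Q A).subtype ↔
      w = 1 ∨ w = qmk z (R_le_M hzR) := by
    intro w
    rw [hes.center_eq]
    constructor
    · rintro ⟨b, hb, rfl⟩
      rcases hes.mem_zpowers_two hb with h1 | h1
      · left; rw [h1]; rfl
      · right; rw [h1]; exact hzb
    · rintro (rfl | rfl)
      · exact Subgroup.one_mem _
      · exact ⟨zb, Subgroup.mem_zpowers _, hzb⟩
  have hna : ∃ b₁ b₂ : ↥(Rb Q A), ⁅b₁, b₂⁆ ≠ 1 := by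
    refine ⟨⟨qmk y (R_le_M hy), hybmem⟩, ⟨qmk (g * z * g⁻¹) (R_le_M haR), habmem⟩, ?_⟩
    intro h1
    have h2 : ⁅qmk (A := A) y (R_le_M hy), qmk (A := A) (g * z * g⁻¹) (R_le_M haR)⁆ = (1 : Mbar A) :=
      congrArg Subtype.val h1
    have h3 : ⁅qmk (A := A) y (R_le_M hy), qmk (A := A) (g * z * g⁻¹) (R_le_M haR)⁆ =
        qmk z (R_le_M hzR) := by
      rw [commutatorElement_def]
      show qmk (y * (g * z * g⁻¹) * y⁻¹ * (g * z * g⁻¹)⁻¹) _ = _
      apply qmk_congr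
      rw [hya]
      group
    rw [h3] at h2
    exact h.qmk_z_ne_one h2
  have hL1 : Cfsg.IsExtraspecial 2 ↥(Rb Q A) := hes.isExtraspecial hna
  -- commuting with the image of `z`
  have hcz : ∀ (c : G) (hc : c ∈ Subgroup.centralizer (A : Set G)),
      qmk (A := A) z (R_le_M hzR) * qmk c (Subgroup.mem_sup_left hc) =
        qmk c (Subgroup.mem_sup_left hc) * qmk z (R_le_M hzR) → c * z = z * c := by
    intro c hc h1
    rw [qmk_mul, qmk_mul, qmk_eq_iff] at h1
    exact h.comm_of_mod c z hc hzR h1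
  have hL2 : Subgroup.centralizer ((Rb Q A : Subgroup (Mbar A)) : Set (Mbar A)) =
      (Subgroup.center ↥(Rb Q A)).map (Rb Q A).subtype := by
    rw [Cfsg.Agent.Lib.Helper20.center_map_subtype_eq]
    symm
    apply inf_eq_right.mpr
    intro w hw
    obtain ⟨c, hc, rfl⟩ := exists_qmk_cent w
    have hw' := Subgroup.mem_centralizer_iff.mp hw
    have hcR : ∀ r ∈ Q ⊓ Subgroup.centralizer (A : Set G), c * r = r * c := by
      intro r hr
      have hrb : qmk r (R_le_M hr) ∈ Rb Q A :=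
        (mem_qbar_iff _ _).mpr ⟨r, R_le_M hr, hr, rfl⟩
      have h1 := hw' _ hrb
      rw [qmk_mul, qmk_mul, qmk_eq_iff] at h1
      exact h.comm_of_mod c r hc hr h1
    have hcC : c ∈ Subgroup.centralizer
        ((A ⊔ (Q ⊓ Subgroup.centralizer (A : Set G)) : Subgroup G) : Set G) := by
      have hle : A ⊔ (Q ⊓ Subgroup.centralizer (A : Set G)) ≤
          Subgroup.centralizer ({c} : Set G) := by
        apply sup_le
        · intro α hα
          rw [mem_cent_iff]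
          exact Subgroup.mem_centralizer_iff.mp hc α hα
        · intro r hr
          rw [mem_cent_iff]
          exact (hcR r hr).symm
      rw [Subgroup.mem_centralizer_iff]
      intro x hx
      exact (mem_cent_iff c x).mp (hle hx)
    obtain ⟨α, hα, h1 | h1⟩ := h.cent_decomp hO h4 c hcC
    · have : qmk (A := A) c (Subgroup.mem_sup_left hc) = (1 : Mbar A) := by
        rw [← qmk_one, qmk_eq_iff, mul_one, h1]
        exact Subgroup.inv_mem _ hα
      rw [this]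
      exact Subgroup.one_mem _
    · have : qmk (A := A) c (Subgroup.mem_sup_left hc) = qmk z (R_le_M hzR) := by
        rw [eq_comm, qmk_eq_iff, h1]
        have : z⁻¹ * (z * α) = α := by group
        rw [this]
        exact hα
      rw [this]
      exact hzbmem
  have hL3 : Subgroup.centralizer
      (((Subgroup.center ↥(Rb Q A)).map (Rb Q A).subtype : Subgroup (Mbar A)) : Set (Mbar A)) ≤
      Subgroup.normalizer ((Rb Q A : Subgroup (Mbar A)) : Set (Mbar A)) := by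
    intro w hw
    obtain ⟨c, hc, rfl⟩ := exists_qmk_cent w
    have hw' := Subgroup.mem_centralizer_iff.mp hw
    have hczc : c * z = z * c := hcz c hc (hw' _ ((hcen _).mpr (Or.inr rfl)))
    have hcN := h.base.nQ c hczc
    apply Subgroup.mem_normalizer_fintype
    intro n hn'
    obtain ⟨x, hxM, hxR, rfl⟩ := (mem_qbar_iff _ _).mp hn'
    rw [SetLike.mem_coe, mem_qbar_iff]
    have hcx : c * x * c⁻¹ ∈ Q ⊓ Subgroup.centralizer (A : Set G) :=
      Subgroup.mem_inf.mpr ⟨(Subgroup.mem_normalizer_iff.mp hcN x).mp hxR.1,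
        Subgroup.mul_mem _ (Subgroup.mul_mem _ hc hxR.2) (Subgroup.inv_mem _ hc)⟩
    exact ⟨c * x * c⁻¹, R_le_M hcx, hcx, rfl⟩
  -- the conjugating element
  have hxinvM : (y' * y)⁻¹ ∈ Subgroup.centralizer (A : Set G) ⊔ A :=
    Subgroup.mem_sup_left (Subgroup.inv_mem _ hxC)
  have hconj : qmk (A := A) (y' * y)⁻¹ hxinvM * qmk z (R_le_M hzR) *
      (qmk (A := A) (y' * y)⁻¹ hxinvM)⁻¹ = qmk (g * z * g⁻¹) (R_le_M haR) := by
    show qmk ((y' * y)⁻¹ * z * ((y' * y)⁻¹)⁻¹) _ = _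
    apply qmk_congr
    calc (y' * y)⁻¹ * z * ((y' * y)⁻¹)⁻¹
        = (y' * y)⁻¹ * (y' * y * (g * z * g⁻¹) * (y' * y)⁻¹) * ((y' * y)⁻¹)⁻¹ := by rw [hxa]
      _ = g * z * g⁻¹ := by group
  have hab_ne : qmk (A := A) (g * z * g⁻¹) (R_le_M haR) ≠ 1 ∧
      qmk (A := A) (g * z * g⁻¹) (R_le_M haR) ≠ qmk z (R_le_M hzR) := by
    constructor
    · intro h1
      rw [← qmk_one] at h1
      exact h.cfg.u1 (h.qmk_inj _ 1 haR (Subgroup.one_mem _) h1)
    · intro h1
      exact h.cfg.uz (h.qmk_inj _ _ haR hzR h1)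
  have hg : qmk (A := A) (y' * y)⁻¹ hxinvM ∉ Subgroup.normalizer
      (((Subgroup.center ↥(Rb Q A)).map (Rb Q A).subtype : Subgroup (Mbar A)) : Set (Mbar A)) := by
    intro h1
    have h2 := (Subgroup.mem_normalizer_iff.mp h1 (qmk z (R_le_M hzR))).mp
      ((hcen _).mpr (Or.inr rfl))
    rw [hconj, hcen] at h2
    rcases h2 with h2 | h2
    · exact hab_ne.1 h2
    · exact hab_ne.2 h2
  have hZg : ((Subgroup.center ↥(Rb Q A)).map (Rb Q A).subtype).map
      (MulAut.conj (qmk (A := A) (y' * y)⁻¹ hxinvM)).toMonoidHom ≤ Rb Q A := by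
    rintro _ ⟨w, hw, rfl⟩
    rw [SetLike.mem_coe, hcen] at hw
    show qmk (A := A) (y' * y)⁻¹ hxinvM * w * (qmk (A := A) (y' * y)⁻¹ hxinvM)⁻¹ ∈ Rb Q A
    rcases hw with rfl | rfl
    · rw [mul_one, mul_inv_cancel]
      exact Subgroup.one_mem _
    · rw [hconj]
      exact habmem
  exact (large_conj (Rb Q A) hL1 hL2 hL3 _ hg hZg).2.2

end Ctx2

end main

end Cfsg.Agent.Lib.Helper14.LES
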