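import Cfsg.Agent.Lib.Helper14.LargeESL

/-!
helper14: S5428, final statement.
-/

set_option autoImplicit false
open scoped commutatorElement

namespace Cfsg.Agent.Lib.Helper14.LES

open Cfsg.Agent.Lib.Helper20.ES

variable {G : Type*} [Group G] [Finite G]

/-- **S5428** -/
theorem s5428 (z : G) (hz : orderOf z = 2) (Q : Subgroup G)
    (hF : (Cfsg.generalizedFittingSubgroup ↥(Subgroup.centralizer ({z} : Set G))).map
      (Subgroup.centralizer ({z} : Set G)).subtype = Q)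
    (hQ : Cfsg.IsExtraspecial 2 ↥Q) (A : Subgroup G)
    (hA : A ≤ Subgroup.centralizer ({z} : Set G)) (hAodd : Odd (Nat.card ↥A)) (R : Subgroup G)
    (hR : R = Q ⊓ Subgroup.centralizer (A : Set G))
    (hO : (Cfsg.oddCore ↥(Subgroup.centralizer ((A ⊔ R : Subgroup G) : Set G))).map
      (Subgroup.centralizer ((A ⊔ R : Subgroup G) : Set G)).subtype ≤ A)
    (h4 : ¬ 4 ∣ Nat.card ↥(Subgroup.centralizer ((A ⊔ R : Subgroup G) : Set G)))
    (g : G) (hgR : g * z * g⁻¹ ∈ R) (hgZ : g * z * g⁻¹ ∉ ((Subgroup.center ↥Q).map Q.subtype))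
    (M : Subgroup G) (hM : M = Subgroup.centralizer (A : Set G) ⊔ A)
    [hn : (A.subgroupOf M).Normal] :
    (M ⊓ Subgroup.centralizer ((R ⊔ A : Subgroup G) : Set G)) ⊔ A =
      A ⊔ ((Subgroup.center ↥Q).map Q.subtype) ∧
    Cfsg.IsLargeExtraspecial ((R.subgroupOf M).map (QuotientGroup.mk' (A.subgroupOf M))) ∧
    ∃ x ∈ R ⊔ ((Q).map (MulAut.conj g).toMonoidHom ⊓ Subgroup.centralizer (A : Set G)),
      x * (g * z * g⁻¹) * x⁻¹ = z := by
  subst hR
  subst hM
  have hgQ : g * z * g⁻¹ ∈ Q := hgR.1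
  have hb := base_of_fstar z hz Q hF hQ
  have hcfg := cfg_of_fstar z hz Q hF hQ g hgQ hgZ
  have hctx : Ctx2 Q z g A :=
    ⟨hb, hcfg, hb.large_of_conj g hgQ hcfg.uz, hA, hAodd, hgR.2⟩
  obtain ⟨h1, h2⟩ := hctx.large_bar hO h4
  refine ⟨?_, h1, h2⟩
  rw [hb.amb.center_eq, sup_comm (Q ⊓ Subgroup.centralizer (A : Set G)) A]
  apply le_antisymm
  · apply sup_le _ le_sup_left
    intro c hc
    obtain ⟨α, hα, h3 | h3⟩ := hctx.cent_decomp hO h4 c hc.2
    · rw [h3]
      exact Subgroup.mem_sup_left hα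
    · rw [h3]
      have : z * α = α * z := ((mem_cent_iff z α).mp (hA hα)).symm
      rw [this]
      exact Subgroup.mul_mem _ (Subgroup.mem_sup_left hα)
        (Subgroup.mem_sup_right (Subgroup.mem_zpowers z))
  · apply sup_le le_sup_right
    rw [Subgroup.zpowers_le]
    apply Subgroup.mem_sup_left
    exact Subgroup.mem_inf.mpr ⟨Subgroup.mem_sup_left hctx.z_cent_A, hctx.z_mem_C⟩

end Cfsg.Agent.Lib.Helper14.LES
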