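import Mathlib
import Cfsg.Agent.Lib.Helper14.CrossMaxF

set_option autoImplicit false

/-! Characterisation of the Leech lattice (Conway): quadratic form basics and the
parallelogram lemma for short vectors congruent modulo 2. -/

namespace Cfsg.Agent.Lib.Helper14.LeechChar

open Matrix

variable (B : Matrix (Fin 24) (Fin 24) ℤ)

/-- the bilinear form -/
def bil (x y : Fin 24 → ℤ) : ℤ := x ⬝ᵥ (B *ᵥ y)

/-- the quadratic form -/
def qf (x : Fin 24 → ℤ) : ℤ := x ⬝ᵥ (B *ᵥ x)

theorem qf_eq_bil (x : Fin 24 → ℤ) : qf B x = bil B x x := rfl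

/-- the hypotheses on the Gram matrix -/
structure Hyp : Prop where
  symm : B.IsSymm
  pos : ∀ x : Fin 24 → ℤ, x ≠ 0 → 0 < qf B x
  even : ∀ x : Fin 24 → ℤ, (2 : ℤ) ∣ qf B x
  ne2 : ∀ x : Fin 24 → ℤ, qf B x ≠ 2

variable {B}

theorem bil_add_left (x y z : Fin 24 → ℤ) : bil B (x + y) z = bil B x z + bil B y z := by
  unfold bil; rw [add_dotProduct]

theorem bil_add_right (x y z : Fin 24 → ℤ) : bil B x (y + z) = bil B x y + bil B x z := by
  unfold bil; rw [mulVec_add, dotProduct_add]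

theorem bil_neg_left (x z : Fin 24 → ℤ) : bil B (-x) z = -bil B x z := by
  unfold bil; rw [neg_dotProduct]

theorem bil_neg_right (x z : Fin 24 → ℤ) : bil B x (-z) = -bil B x z := by
  unfold bil; rw [mulVec_neg, dotProduct_neg]

theorem bil_sub_left (x y z : Fin 24 → ℤ) : bil B (x - y) z = bil B x z - bil B y z := by
  rw [sub_eq_add_neg, bil_add_left, bil_neg_left, sub_eq_add_neg]

theorem bil_sub_right (x y z : Fin 24 → ℤ) : bil B x (y - z) = bil B x y - bil B x z := by
  rw [sub_eq_add_neg, bil_add_right, bil_neg_right, sub_eq_add_neg]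

theorem bil_smul_left (a : ℤ) (x z : Fin 24 → ℤ) : bil B (a • x) z = a * bil B x z := by
  unfold bil; rw [smul_dotProduct, smul_eq_mul]

theorem bil_smul_right (a : ℤ) (x z : Fin 24 → ℤ) : bil B x (a • z) = a * bil B x z := by
  unfold bil; rw [mulVec_smul, dotProduct_smul, smul_eq_mul]

theorem bil_zero_left (z : Fin 24 → ℤ) : bil B 0 z = 0 := by
  unfold bil; rw [zero_dotProduct]

theorem bil_zero_right (z : Fin 24 → ℤ) : bil B z 0 = 0 := by
  unfold bil; rw [mulVec_zero, dotProduct_zero]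

theorem bil_comm (h : Hyp B) (x y : Fin 24 → ℤ) : bil B x y = bil B y x := by
  unfold bil
  calc x ⬝ᵥ (B *ᵥ y) = (x ᵥ* B) ⬝ᵥ y := dotProduct_mulVec x B y
    _ = (x ᵥ* Bᵀ) ⬝ᵥ y := by rw [h.symm.eq]
    _ = (B *ᵥ x) ⬝ᵥ y := by rw [vecMul_transpose]
    _ = y ⬝ᵥ (B *ᵥ x) := dotProduct_comm _ _

theorem qf_zero : qf B 0 = 0 := bil_zero_left 0

theorem qf_neg (x : Fin 24 → ℤ) : qf B (-x) = qf B x := by
  rw [qf_eq_bil, bil_neg_left, bil_neg_right, neg_neg, qf_eq_bil]

theorem qf_add (h : Hyp B) (x y : Fin 24 → ℤ) :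
    qf B (x + y) = qf B x + qf B y + 2 * bil B x y := by
  rw [qf_eq_bil, bil_add_left, bil_add_right, bil_add_right, bil_comm h y x, qf_eq_bil, qf_eq_bil]
  ring

theorem qf_sub (h : Hyp B) (x y : Fin 24 → ℤ) :
    qf B (x - y) = qf B x + qf B y - 2 * bil B x y := by
  rw [sub_eq_add_neg, qf_add h, qf_neg, bil_neg_right]
  ring

theorem qf_smul (a : ℤ) (x : Fin 24 → ℤ) : qf B (a • x) = a ^ 2 * qf B x := by
  rw [qf_eq_bil, bil_smul_left, bil_smul_right, qf_eq_bil]
  ring

theorem four_le_qf (h : Hyp B) (x : Fin 24 → ℤ) (hx : x ≠ 0) : 4 ≤ qf B x := by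
  have h1 := h.pos x hx
  have h2 := h.even x
  have h3 := h.ne2 x
  omega

theorem eq_zero_of_qf (h : Hyp B) (x : Fin 24 → ℤ) (hx : qf B x = 0) : x = 0 := by
  by_contra hne
  have := h.pos x hne
  omega

/-- the parallelogram lemma: short vectors congruent modulo 2 -/
theorem short_congr (h : Hyp B) (x y u : Fin 24 → ℤ) (hx : qf B x ≤ 8) (hy : qf B y ≤ 8)
    (hu : x - y = (2 : ℤ) • u) :
    x = y ∨ x = -y ∨ (qf B x = 8 ∧ qf B y = 8 ∧ bil B x y = 0) := by
  by_cases hu0 : u = 0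
  · left
    rw [hu0, smul_zero] at hu
    exact sub_eq_zero.mp hu
  have hv : x + y = (2 : ℤ) • (u + y) := by
    rw [smul_add, ← hu, two_smul]
    abel
  by_cases hv0 : u + y = 0
  · right; left
    rw [hv0, smul_zero] at hv
    exact eq_neg_of_add_eq_zero_left hv
  right; right
  have h1 := four_le_qf h u hu0
  have h2 := four_le_qf h (u + y) hv0
  have h3 : qf B (x - y) = 4 * qf B u := by rw [hu, qf_smul]; ring
  have h4 : qf B (x + y) = 4 * qf B (u + y) := by rw [hv, qf_smul]; ring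
  rw [qf_sub h] at h3
  rw [qf_add h] at h4
  refine ⟨by omega, by omega, by omega⟩

/-- reduction modulo 2 -/
def red (x : Fin 24 → ℤ) : Fin 24 → ZMod 2 := fun i => ((x i : ℤ) : ZMod 2)

theorem red_eq_iff (x y : Fin 24 → ℤ) : red x = red y ↔ ∃ u : Fin 24 → ℤ, x - y = (2 : ℤ) • u := by
  constructor
  · intro h
    have hi : ∀ i, (2 : ℤ) ∣ x i - y i := by
      intro i
      have := congrFun h i
      unfold red at this
      rw [← sub_eq_zero, ← Int.cast_sub] at this
      exact (ZMod.intCast_zmod_eq_zero_iff_dvd _ 2).mp this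
    choose u hu using hi
    refine ⟨u, ?_⟩
    funext i
    simp only [Pi.sub_apply, Pi.smul_apply, smul_eq_mul]
    exact hu i
  · rintro ⟨u, hu⟩
    funext i
    have := congrFun hu i
    simp only [Pi.sub_apply, Pi.smul_apply, smul_eq_mul] at this
    unfold red
    rw [← sub_eq_zero, ← Int.cast_sub, this]
    simp
    left
    rfl

theorem red_neg (x : Fin 24 → ℤ) : red (-x) = red x := by
  rw [red_eq_iff]
  refine ⟨-x, ?_⟩
  rw [two_smul]; abel

/-- the vectors of a given norm -/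
def shell (B : Matrix (Fin 24) (Fin 24) ℤ) (m : ℤ) : Set (Fin 24 → ℤ) := {x | qf B x = m}

theorem mem_shell (m : ℤ) (x : Fin 24 → ℤ) : x ∈ shell B m ↔ qf B x = m := Iff.rfl

/-- fibres of reduction on a shell of norm `4` or `6` -/
theorem fibre_small (h : Hyp B) (m : ℤ) (hm : 0 < m) (hm8 : m < 8) (x : Fin 24 → ℤ)
    (hx : x ∈ shell B m) : {a | a ∈ shell B m ∧ red a = red x} = {x, -x} := by
  ext a
  simp only [Set.mem_ofPred_eq, Set.mem_insert_iff, Set.mem_singleton_iff]
  rw [mem_shell] at hx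
  constructor
  · rintro ⟨ha, hr⟩
    rw [mem_shell] at ha
    obtain ⟨u, hu⟩ := (red_eq_iff a x).mp hr
    rcases short_congr h a x u (by omega) (by omega) hu with h1 | h1 | ⟨h1, -, -⟩
    · left; exact h1
    · right; exact h1
    · omega
  · rintro (rfl | rfl)
    · exact ⟨hx, rfl⟩
    · exact ⟨by rw [mem_shell, qf_neg]; exact hx, red_neg x⟩

theorem ne_neg_of_shell (m : ℤ) (hm : 0 < m) (x : Fin 24 → ℤ)
    (hx : x ∈ shell B m) : x ≠ -x := by
  intro hh
  have h0 : x = 0 := by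
    funext i
    have := congrFun hh i
    simp only [Pi.neg_apply, Pi.zero_apply] at this ⊢
    omega
  rw [mem_shell, h0, qf_zero] at hx
  omega

end Cfsg.Agent.Lib.Helper14.LeechChar
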