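import Mathlib
import Cfsg.Agent.Lib.Helper14.LeechCharA

set_option autoImplicit false

/-! Characterisation of the Leech lattice: the class count modulo 2 and the existence of a
frame of 24 pairwise orthogonal vectors of norm 8, congruent modulo 2. -/

namespace Cfsg.Agent.Lib.Helper14.LeechChar

open Matrix Cfsg.Agent.Lib.Helper14.CrossMax

variable {B : Matrix (Fin 24) (Fin 24) ℤ}

/-- counting by fibres of bounded size -/
theorem ncard_le_mul_of_fibers {α β : Type*} (S : Set α) (T : Set β) (f : α → β) (n : ℕ)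
    (hS : S.Finite) (hT : T.Finite) (hf : ∀ a ∈ S, f a ∈ T)
    (hfib : ∀ b ∈ T, {a ∈ S | f a = b}.ncard ≤ n) : S.ncard ≤ n * T.ncard := by
  classical
  rw [Set.ncard_eq_toFinset_card S hS, Set.ncard_eq_toFinset_card T hT,
    Finset.card_eq_sum_card_fiberwise (f := f) (s := hS.toFinset) (t := hT.toFinset)
      (fun a ha => (Set.Finite.mem_toFinset hT).mpr (hf a ((Set.Finite.mem_toFinset hS).mp ha)))]
  calc ∑ b ∈ hT.toFinset, (Finset.filter (fun a => f a = b) hS.toFinset).card
      ≤ ∑ _b ∈ hT.toFinset, n := by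
        apply Finset.sum_le_sum
        intro b hb
        refine le_trans (le_of_eq ?_) (hfib b ((Set.Finite.mem_toFinset hT).mp hb))
        rw [← Set.ncard_coe_finset]
        congr 1
        ext a
        simp [Set.Finite.mem_toFinset]
    _ = n * hT.toFinset.card := by rw [Finset.sum_const, smul_eq_mul, mul_comm]

theorem card_zmod2_fun : Nat.card (Fin 24 → ZMod 2) = 2 ^ 24 := by
  rw [Nat.card_eq_fintype_card, Fintype.card_fun, ZMod.card, Fintype.card_fin]

theorem shell_finite (m : ℤ) (n : ℕ) (hn : n ≠ 0) (h : (shell B m).ncard = n) :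
    (shell B m).Finite := Set.finite_of_ncard_ne_zero (by rw [h]; exact hn)

/-- the image of a small shell has half its size -/
theorem ncard_image_small (h : Hyp B) (m : ℤ) (hm : 0 < m) (hm8 : m < 8)
    (hfin : (shell B m).Finite) : (shell B m).ncard = 2 * (red '' shell B m).ncard := by
  apply ncard_eq_mul_of_fibers (shell B m) (red '' shell B m) red 2 hfin (hfin.image red)
    (fun a ha => ⟨a, ha, rfl⟩)
  rintro b ⟨x, hx, rfl⟩
  have := fibre_small h m hm hm8 x hx
  have h2 : {a ∈ shell B m | red a = red x} = {a | a ∈ shell B m ∧ red a = red x} := rfl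
  rw [h2, this, Set.ncard_pair (ne_neg_of_shell m hm x hx)]

/-- distinct shells have disjoint images -/
theorem image_disjoint (h : Hyp B) (m m' : ℤ) (hm : m ≤ 8) (hm' : m' ≤ 8) (hne : m ≠ m') :
    Disjoint (red '' shell B m) (red '' shell B m') := by
  rw [Set.disjoint_left]
  rintro b ⟨x, hx, rfl⟩ ⟨y, hy, hxy⟩
  rw [mem_shell] at hx hy
  obtain ⟨u, hu⟩ := (red_eq_iff y x).mp hxy
  rcases short_congr h y x u (by omega) (by omega) hu with h1 | h1 | ⟨h1, h2, -⟩
  · rw [h1] at hy; omega
  · rw [h1, qf_neg] at hy; omega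
  · omega

theorem zero_notMem_image (h : Hyp B) (m : ℤ) (hm : 0 < m) (hm8 : m ≤ 8) :
    (0 : Fin 24 → ZMod 2) ∉ red '' shell B m := by
  rintro ⟨x, hx, hx0⟩
  rw [mem_shell] at hx
  have h0 : red x = red 0 := by rw [hx0]; funext i; simp [red]
  obtain ⟨u, hu⟩ := (red_eq_iff x 0).mp h0
  rcases short_congr h x 0 u (by omega) (by rw [qf_zero]; norm_num) hu with h1 | h1 | ⟨-, h2, -⟩
  · rw [h1, qf_zero] at hx; omega
  · rw [h1, neg_zero, qf_zero] at hx; omega
  · rw [qf_zero] at h2; omega

/-- the image of the shell of norm 8 is small -/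
theorem ncard_image_eight_le (h : Hyp B) (h4 : (shell B 4).ncard = 196560)
    (h6 : (shell B 6).ncard = 16773120) (h8 : (shell B 8).ncard = 398034000) :
    (red '' shell B 8).ncard ≤ 8292375 := by
  have f4 := shell_finite 4 _ (by norm_num) h4
  have f6 := shell_finite 6 _ (by norm_num) h6
  have f8 := shell_finite 8 _ (by norm_num) h8
  have c4 := ncard_image_small h 4 (by norm_num) (by norm_num) f4
  have c6 := ncard_image_small h 6 (by norm_num) (by norm_num) f6
  rw [h4] at c4
  rw [h6] at c6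
  have d46 := image_disjoint h 4 6 (by norm_num) (by norm_num) (by norm_num)
  have d48 := image_disjoint h 4 8 (by norm_num) (by norm_num) (by norm_num)
  have d68 := image_disjoint h 6 8 (by norm_num) (by norm_num) (by norm_num)
  have z4 := zero_notMem_image h 4 (by norm_num) (by norm_num)
  have z6 := zero_notMem_image h 6 (by norm_num) (by norm_num)
  have z8 := zero_notMem_image h 8 (by norm_num) (by norm_num)
  have u1 : ((red '' shell B 4) ∪ (red '' shell B 6)).ncard =
      (red '' shell B 4).ncard + (red '' shell B 6).ncard :=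
    Set.ncard_union_eq d46 (f4.image red) (f6.image red)
  have d2 : Disjoint ((red '' shell B 4) ∪ (red '' shell B 6)) (red '' shell B 8) :=
    Set.disjoint_union_left.mpr ⟨d48, d68⟩
  have u2 := Set.ncard_union_eq d2 ((f4.image red).union (f6.image red)) (f8.image red)
  have d3 : Disjoint (((red '' shell B 4) ∪ (red '' shell B 6)) ∪ (red '' shell B 8))
      ({0} : Set (Fin 24 → ZMod 2)) := by
    rw [Set.disjoint_singleton_right]
    rintro ((hh | hh) | hh)
    · exact z4 hh
    · exact z6 hh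
    · exact z8 hh
  have u3 := Set.ncard_union_eq d3 (((f4.image red).union (f6.image red)).union (f8.image red))
    (Set.finite_singleton _)
  have hle : ((((red '' shell B 4) ∪ (red '' shell B 6)) ∪ (red '' shell B 8)) ∪
      ({0} : Set (Fin 24 → ZMod 2))).ncard ≤ 2 ^ 24 := by
    rw [← card_zmod2_fun, ← Set.ncard_univ]
    exact Set.ncard_le_ncard (Set.subset_univ _) Set.finite_univ
  rw [u3, u2, u1, Set.ncard_singleton] at hle
  omega

/-- some class contains at least 48 vectors of norm 8 -/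
theorem exists_big_fibre (h : Hyp B) (h4 : (shell B 4).ncard = 196560)
    (h6 : (shell B 6).ncard = 16773120) (h8 : (shell B 8).ncard = 398034000) :
    ∃ b : Fin 24 → ZMod 2, 48 ≤ {a ∈ shell B 8 | red a = b}.ncard := by
  by_contra hcon
  push Not at hcon
  have f8 := shell_finite 8 _ (by norm_num) h8
  have := ncard_le_mul_of_fibers (shell B 8) (red '' shell B 8) red 47 f8 (f8.image red)
    (fun a ha => ⟨a, ha, rfl⟩) (fun b _ => by have := hcon b; omega)
  have h2 := ncard_image_eight_le h h4 h6 h8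
  rw [h8] at this
  omega

/-- positivity with respect to the lexicographic order -/
def lpos (a : Fin 24 → ℤ) : Prop := (0 : Lex (Fin 24 → ℤ)) < toLex a

theorem lpos_or (a : Fin 24 → ℤ) (h : a ≠ 0) : lpos a ∨ lpos (-a) := by
  have h1 : toLex a ≠ 0 := fun hh => h (toLex.injective hh)
  rcases lt_or_gt_of_ne h1 with h2 | h2
  · right
    have : toLex (-a) = -toLex a := rfl
    unfold lpos
    rw [this]
    exact neg_pos.mpr h2
  · left; exact h2

theorem not_lpos_neg (a : Fin 24 → ℤ) (h1 : lpos a) : ¬ lpos (-a) := by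
  intro h2
  have : toLex (-a) = -toLex a := rfl
  unfold lpos at h2
  rw [this] at h2
  exact lt_asymm h1 (neg_pos.mp h2)

/-- a frame: 24 pairwise orthogonal vectors of norm 8 in one class modulo 2 -/
theorem exists_frame (h : Hyp B) (h4 : (shell B 4).ncard = 196560)
    (h6 : (shell B 6).ncard = 16773120) (h8 : (shell B 8).ncard = 398034000) :
    ∃ x : Fin 24 → (Fin 24 → ℤ), (∀ i, qf B (x i) = 8) ∧
      (∀ i j, i ≠ j → bil B (x i) (x j) = 0) ∧ (∀ i j, red (x i) = red (x j)) := by
  classical
  obtain ⟨b, hb⟩ := exists_big_fibre h h4 h6 h8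
  have f8 := shell_finite 8 _ (by norm_num) h8
  set F : Set (Fin 24 → ℤ) := {a ∈ shell B 8 | red a = b} with hF
  have hFfin : F.Finite := f8.subset (fun a ha => ha.1)
  set P : Set (Fin 24 → ℤ) := {a ∈ F | lpos a} with hP
  have hPfin : P.Finite := hFfin.subset (fun a ha => ha.1)
  have hne0 : ∀ a ∈ F, a ≠ 0 := by
    rintro a ⟨ha, -⟩ rfl
    rw [mem_shell, qf_zero] at ha
    norm_num at ha
  have hneg : ∀ a ∈ F, -a ∈ F := by
    rintro a ⟨ha, hr⟩
    exact ⟨by rw [mem_shell, qf_neg]; exact ha, by rw [red_neg]; exact hr⟩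
  have hsub : F ⊆ P ∪ (Neg.neg '' P) := by
    intro a ha
    rcases lpos_or a (hne0 a ha) with h1 | h1
    · left; exact ⟨ha, h1⟩
    · right; exact ⟨-a, ⟨hneg a ha, h1⟩, neg_neg a⟩
  have hcard : F.ncard ≤ P.ncard + P.ncard := by
    calc F.ncard ≤ (P ∪ (Neg.neg '' P)).ncard :=
          Set.ncard_le_ncard hsub (hPfin.union (hPfin.image _))
      _ ≤ P.ncard + (Neg.neg '' P).ncard := Set.ncard_union_le _ _
      _ ≤ P.ncard + P.ncard := by
          have := Set.ncard_image_le (f := (Neg.neg : (Fin 24 → ℤ) → (Fin 24 → ℤ))) hPfin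
          omega
  have hP24 : 24 ≤ P.ncard := by omega
  rw [Set.ncard_eq_toFinset_card P hPfin] at hP24
  obtain ⟨s, hs, hscard⟩ := Finset.exists_subset_card_eq hP24
  have hsP : ∀ a ∈ s, a ∈ P := fun a ha => (Set.Finite.mem_toFinset hPfin).mp (hs ha)
  let e : Fin 24 ≃ ↥s := (Finset.equivFinOfCardEq hscard).symm
  refine ⟨fun i => (e i : Fin 24 → ℤ), ?_, ?_, ?_⟩
  · intro i
    exact (hsP _ (e i).2).1.1
  · intro i j hij
    have hi := hsP _ (e i).2
    have hj := hsP _ (e j).2
    have hne : (e i : Fin 24 → ℤ) ≠ (e j : Fin 24 → ℤ) := by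
      intro hh
      exact hij (e.injective (Subtype.ext hh))
    have hr : red (e i : Fin 24 → ℤ) = red (e j : Fin 24 → ℤ) := by rw [hi.1.2, hj.1.2]
    obtain ⟨u, hu⟩ := (red_eq_iff _ _).mp hr
    have q1 : qf B (e i : Fin 24 → ℤ) = 8 := hi.1.1
    have q2 : qf B (e j : Fin 24 → ℤ) = 8 := hj.1.1
    rcases short_congr h _ _ u (by omega) (by omega) hu with h1 | h1 | ⟨-, -, h1⟩
    · exact absurd h1 hne
    · exfalso
      have := hi.2
      rw [h1] at this
      exact not_lpos_neg _ hj.2 this
    · exact h1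
  · intro i j
    rw [(hsP _ (e i).2).1.2, (hsP _ (e j).2).1.2]

end Cfsg.Agent.Lib.Helper14.LeechChar
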