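import Mathlib
import Cfsg.Agent.Lib.Helper14.LeechCharB

set_option autoImplicit false

/-! Characterisation of the Leech lattice: coordinates with respect to a frame. -/

namespace Cfsg.Agent.Lib.Helper14.LeechChar

open Matrix

variable {B : Matrix (Fin 24) (Fin 24) ℤ}

/-- a frame of the quadratic lattice -/
structure Frame (B : Matrix (Fin 24) (Fin 24) ℤ) (x : Fin 24 → (Fin 24 → ℤ)) : Prop where
  norm : ∀ i, qf B (x i) = 8
  orth : ∀ i j, i ≠ j → bil B (x i) (x j) = 0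
  cong : ∀ i j, red (x i) = red (x j)

/-- the matrix of the frame -/
def frameMat (x : Fin 24 → (Fin 24 → ℤ)) : Matrix (Fin 24) (Fin 24) ℤ := Matrix.of x

theorem frameMat_mul (x : Fin 24 → (Fin 24 → ℤ)) (hx : Frame B x) :
    frameMat x * B * (frameMat x)ᵀ = (8 : ℤ) • (1 : Matrix (Fin 24) (Fin 24) ℤ) := by
  ext i j
  have h1 : (frameMat x * B * (frameMat x)ᵀ) i j = bil B (x i) (x j) := by
    unfold bil
    simp only [Matrix.mul_apply, frameMat, Matrix.of_apply, Matrix.transpose_apply, dotProduct,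
      mulVec, Finset.sum_mul, Finset.mul_sum]
    rw [Finset.sum_comm]
    apply Finset.sum_congr rfl
    intro k _
    apply Finset.sum_congr rfl
    intro l _
    ring
  rw [h1]
  by_cases hij : i = j
  · subst hij
    rw [← qf_eq_bil, hx.norm]
    simp
  · rw [hx.orth i j hij]
    simp [hij]

theorem map_eight (φ : ℤ →+* ℚ) :
    ((8 : ℤ) • (1 : Matrix (Fin 24) (Fin 24) ℤ)).map φ =
      (8 : ℚ) • (1 : Matrix (Fin 24) (Fin 24) ℚ) := by
  ext i j
  simp only [Matrix.map_apply, Matrix.smul_apply, Matrix.one_apply, smul_eq_mul]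
  split_ifs <;> simp

theorem mul_frameMat (x : Fin 24 → (Fin 24 → ℤ)) (hx : Frame B x) :
    B * (frameMat x)ᵀ * frameMat x = (8 : ℤ) • (1 : Matrix (Fin 24) (Fin 24) ℤ) := by
  have h0 := frameMat_mul x hx
  set X := frameMat x with hX
  let φ : ℤ →+* ℚ := Int.castRingHom ℚ
  have h0' : X.map φ * B.map φ * (X.map φ)ᵀ = (8 : ℚ) • (1 : Matrix (Fin 24) (Fin 24) ℚ) := by
    rw [← Matrix.transpose_map, ← Matrix.map_mul, ← Matrix.map_mul, h0, map_eight]
  have h1 : X.map φ * (((1 / 8 : ℚ)) • (B.map φ * (X.map φ)ᵀ)) = 1 := by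
    rw [Matrix.mul_smul, ← Matrix.mul_assoc, h0', smul_smul]
    norm_num
  have h2 := mul_eq_one_comm.mp h1
  have h4 : B.map φ * (X.map φ)ᵀ * X.map φ = (8 : ℚ) • (1 : Matrix (Fin 24) (Fin 24) ℚ) := by
    rw [Matrix.smul_mul] at h2
    have := congrArg (fun M : Matrix (Fin 24) (Fin 24) ℚ => (8 : ℚ) • M) h2
    simp only [smul_smul] at this
    rw [show (8 : ℚ) * (1 / 8) = 1 from by norm_num, one_smul] at this
    exact this
  have h3 : (B * Xᵀ * X).map φ = ((8 : ℤ) • (1 : Matrix (Fin 24) (Fin 24) ℤ)).map φ := by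
    rw [Matrix.map_mul, Matrix.map_mul, Matrix.transpose_map, h4, map_eight]
  exact Matrix.map_injective (Int.cast_injective) h3

/-- the coordinate map -/
def coord (B : Matrix (Fin 24) (Fin 24) ℤ) (x : Fin 24 → (Fin 24 → ℤ)) (v : Fin 24 → ℤ) :
    Fin 24 → ℤ := (frameMat x * B) *ᵥ v

theorem coord_apply (x : Fin 24 → (Fin 24 → ℤ)) (v : Fin 24 → ℤ) (i : Fin 24) :
    coord B x v i = bil B (x i) v := by
  unfold coord bil
  rw [← Matrix.mulVec_mulVec]
  rfl

theorem coord_add (x : Fin 24 → (Fin 24 → ℤ)) (v w : Fin 24 → ℤ) :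
    coord B x (v + w) = coord B x v + coord B x w := by
  unfold coord; rw [mulVec_add]

theorem coord_zero (x : Fin 24 → (Fin 24 → ℤ)) : coord B x 0 = 0 := by
  unfold coord; rw [mulVec_zero]

theorem coord_smul (x : Fin 24 → (Fin 24 → ℤ)) (a : ℤ) (v : Fin 24 → ℤ) :
    coord B x (a • v) = a • coord B x v := by
  unfold coord; rw [mulVec_smul]

/-- the dot product of coordinate vectors -/
theorem coord_dot (h : Hyp B) (x : Fin 24 → (Fin 24 → ℤ)) (hx : Frame B x) (v w : Fin 24 → ℤ) :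
    coord B x v ⬝ᵥ coord B x w = 8 * bil B v w := by
  unfold coord bil
  set A := frameMat x * B with hA
  have h1 : (A *ᵥ v) ⬝ᵥ (A *ᵥ w) = v ⬝ᵥ ((Aᵀ * A) *ᵥ w) := by
    rw [dotProduct_mulVec, ← vecMul_transpose A v, vecMul_vecMul, ← dotProduct_mulVec]
  have h2 : Aᵀ * A = (8 : ℤ) • B := by
    rw [hA, Matrix.transpose_mul, h.symm.eq, ← Matrix.mul_assoc, mul_frameMat x hx,
      Matrix.smul_mul, Matrix.one_mul]
  rw [h1, h2, Matrix.smul_mulVec, dotProduct_smul, smul_eq_mul]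

theorem coord_sq (h : Hyp B) (x : Fin 24 → (Fin 24 → ℤ)) (hx : Frame B x) (v : Fin 24 → ℤ) :
    ∑ i, coord B x v i ^ 2 = 8 * qf B v := by
  have := coord_dot h x hx v v
  rw [← qf_eq_bil] at this
  rw [← this, dotProduct]
  apply Finset.sum_congr rfl
  intro i _
  ring

theorem coord_injective (h : Hyp B) (x : Fin 24 → (Fin 24 → ℤ)) (hx : Frame B x) :
    Function.Injective (coord B x) := by
  intro v w hvw
  have h0 : coord B x (v - w) = 0 := by
    have : v - w = v + (-1 : ℤ) • w := by rw [neg_one_smul, sub_eq_add_neg]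
    rw [this, coord_add, coord_smul, hvw, neg_one_smul, add_neg_cancel]
  have h1 := coord_sq h x hx (v - w)
  rw [h0] at h1
  simp only [Pi.zero_apply, ne_eq, OfNat.ofNat_ne_zero, not_false_eq_true, zero_pow,
    Finset.sum_const_zero] at h1
  have h2 : qf B (v - w) = 0 := by omega
  exact sub_eq_zero.mp (eq_zero_of_qf h _ h2)

/-- the coordinate lattice -/
def coordLattice (B : Matrix (Fin 24) (Fin 24) ℤ) (x : Fin 24 → (Fin 24 → ℤ)) :
    AddSubgroup (Fin 24 → ℤ) where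
  carrier := Set.range (coord B x)
  add_mem' := by
    rintro _ _ ⟨v, rfl⟩ ⟨w, rfl⟩
    exact ⟨v + w, coord_add x v w⟩
  zero_mem' := ⟨0, coord_zero x⟩
  neg_mem' := by
    rintro _ ⟨v, rfl⟩
    refine ⟨(-1 : ℤ) • v, ?_⟩
    rw [coord_smul, neg_one_smul]

theorem mem_coordLattice (x : Fin 24 → (Fin 24 → ℤ)) (y : Fin 24 → ℤ) :
    y ∈ coordLattice B x ↔ ∃ v, coord B x v = y := Iff.rfl

theorem coord_frame (x : Fin 24 → (Fin 24 → ℤ)) (hx : Frame B x) (j : Fin 24) :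
    coord B x (x j) = Pi.single j (8 : ℤ) := by
  funext i
  rw [coord_apply]
  by_cases hij : i = j
  · subst hij
    rw [← qf_eq_bil, hx.norm, Pi.single_eq_same]
  · rw [hx.orth i j hij, Pi.single_eq_of_ne hij]

theorem M1 (h : Hyp B) (x : Fin 24 → (Fin 24 → ℤ)) (hx : Frame B x) :
    ∀ y ∈ coordLattice B x, ∀ i j, (2 : ℤ) ∣ y i - y j := by
  rintro _ ⟨v, rfl⟩ i j
  rw [coord_apply, coord_apply, ← bil_sub_left]
  obtain ⟨u, hu⟩ := (red_eq_iff _ _).mp (hx.cong i j)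
  rw [hu, bil_smul_left]
  exact dvd_mul_right _ _

theorem M2a (x : Fin 24 → (Fin 24 → ℤ)) (hx : Frame B x) :
    ∀ i, Pi.single i (8 : ℤ) ∈ coordLattice B x :=
  fun i => ⟨x i, coord_frame x hx i⟩

theorem M2b (x : Fin 24 → (Fin 24 → ℤ)) (hx : Frame B x) :
    ∀ i j, i ≠ j → Pi.single i (4 : ℤ) - Pi.single j (4 : ℤ) ∈ coordLattice B x := by
  intro i j _
  obtain ⟨u, hu⟩ := (red_eq_iff _ _).mp (hx.cong i j)
  refine ⟨u, ?_⟩
  have h1 : (2 : ℤ) • coord B x u = Pi.single i (8 : ℤ) - Pi.single j (8 : ℤ) := by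
    rw [← coord_smul, ← hu]
    have : x i - x j = x i + (-1 : ℤ) • x j := by rw [neg_one_smul, sub_eq_add_neg]
    rw [this, coord_add, coord_smul, coord_frame x hx, coord_frame x hx, neg_one_smul,
      sub_eq_add_neg]
  funext k
  have h2 := congrFun h1 k
  simp only [Pi.smul_apply, smul_eq_mul, Pi.sub_apply] at h2 ⊢
  by_cases hki : k = i <;> by_cases hkj : k = j <;>
    simp [Pi.single_apply, hki, hkj] at h2 ⊢ <;> omega

theorem M3 (h : Hyp B) (x : Fin 24 → (Fin 24 → ℤ)) (hx : Frame B x) :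
    ∀ y ∈ coordLattice B x, (16 : ℤ) ∣ ∑ i, y i ^ 2 := by
  rintro _ ⟨v, rfl⟩
  rw [coord_sq h x hx]
  obtain ⟨k, hk⟩ := h.even v
  exact ⟨k, by rw [hk]; ring⟩

theorem M4 (h : Hyp B) (x : Fin 24 → (Fin 24 → ℤ)) (hx : Frame B x) :
    ∀ y ∈ coordLattice B x, y ≠ 0 → 32 ≤ ∑ i, y i ^ 2 := by
  rintro _ ⟨v, rfl⟩ hne
  rw [coord_sq h x hx]
  have hv : v ≠ 0 := by
    rintro rfl
    exact hne (coord_zero x)
  have := four_le_qf h v hv
  omega

theorem M5 (h : Hyp B) (x : Fin 24 → (Fin 24 → ℤ)) (hx : Frame B x) :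
    ∀ y ∈ coordLattice B x, ∀ y' ∈ coordLattice B x, (8 : ℤ) ∣ ∑ i, y i * y' i := by
  rintro _ ⟨v, rfl⟩ _ ⟨w, rfl⟩
  have := coord_dot h x hx v w
  rw [dotProduct] at this
  rw [this]
  exact dvd_mul_right _ _

theorem M6 (h : Hyp B) (x : Fin 24 → (Fin 24 → ℤ)) (hx : Frame B x)
    (h4 : (shell B 4).ncard = 196560) :
    {y | y ∈ coordLattice B x ∧ ∑ i, y i ^ 2 = 32}.ncard = 196560 := by
  have : {y | y ∈ coordLattice B x ∧ ∑ i, y i ^ 2 = 32} = coord B x '' shell B 4 := by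
    ext y
    constructor
    · rintro ⟨⟨v, rfl⟩, hy⟩
      rw [coord_sq h x hx] at hy
      exact ⟨v, by rw [mem_shell]; omega, rfl⟩
    · rintro ⟨v, hv, rfl⟩
      rw [mem_shell] at hv
      exact ⟨⟨v, rfl⟩, by rw [coord_sq h x hx, hv]; norm_num⟩
  rw [this, Set.ncard_image_of_injective _ (coord_injective h x hx), h4]

end Cfsg.Agent.Lib.Helper14.LeechChar
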