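import Mathlib
import Cfsg.Agent.Lib.Helper28.Golay24

set_option autoImplicit false

/-! Characterisation of the Leech lattice: sublattices of `ℤ^24` in standard position and
their binary code. -/

namespace Cfsg.Agent.Lib.Helper14.LeechChar

open Cfsg.Agent.Lib.Helper28.Golay24

/-- the sum of squares -/
def nsq (y : Fin 24 → ℤ) : ℤ := ∑ i, y i ^ 2

/-- a sublattice of `ℤ^24` in standard position -/
structure Lat (M : AddSubgroup (Fin 24 → ℤ)) : Prop where
  par : ∀ y ∈ M, ∀ i j, (2 : ℤ) ∣ y i - y j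
  e8 : ∀ i, Pi.single i (8 : ℤ) ∈ M
  e4 : ∀ i j, i ≠ j → Pi.single i (4 : ℤ) - Pi.single j (4 : ℤ) ∈ M
  sq16 : ∀ y ∈ M, (16 : ℤ) ∣ nsq y
  min : ∀ y ∈ M, y ≠ 0 → 32 ≤ nsq y
  dot : ∀ y ∈ M, ∀ y' ∈ M, (8 : ℤ) ∣ ∑ i, y i * y' i

variable {M : AddSubgroup (Fin 24 → ℤ)}

theorem four_mul_mem (hM : Lat M) (z : Fin 24 → ℤ) (hz : (2 : ℤ) ∣ ∑ i, z i) :
    (fun i => 4 * z i) ∈ M := by
  obtain ⟨k, hk⟩ := hz
  have hg : ∀ i : Fin 24, Pi.single i (4 : ℤ) - Pi.single (0 : Fin 24) (4 : ℤ) ∈ M := by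
    intro i
    by_cases hi : i = 0
    · rw [hi, sub_self]; exact M.zero_mem
    · exact hM.e4 i 0 hi
  have key : (fun i => 4 * z i) =
      (∑ i, z i • (Pi.single i (4 : ℤ) - Pi.single (0 : Fin 24) (4 : ℤ))) +
        k • Pi.single (0 : Fin 24) (8 : ℤ) := by
    funext j
    simp only [Pi.add_apply, Finset.sum_apply, Pi.smul_apply, Pi.sub_apply, smul_eq_mul,
      Pi.single_apply, mul_sub, Finset.sum_sub_distrib]
    rw [← Finset.sum_mul, hk]
    simp only [mul_ite, mul_zero, Finset.sum_ite_eq, Finset.mem_univ, if_true]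
    split_ifs <;> ring
  rw [key]
  exact M.add_mem (M.sum_mem (fun i _ => M.zsmul_mem (hg i) _)) (M.zsmul_mem (hM.e8 0) _)

theorem nsq_single (i : Fin 24) (a : ℤ) : nsq (Pi.single i a) = a ^ 2 := by
  unfold nsq
  rw [Finset.sum_eq_single i]
  · rw [Pi.single_eq_same]
  · intro j _ hj
    rw [Pi.single_eq_of_ne hj]; ring
  · intro h; exact absurd (Finset.mem_univ i) h

theorem even_sum_of_four_mul_mem (hM : Lat M) (z : Fin 24 → ℤ) (hz : (fun i => 4 * z i) ∈ M) :
    (2 : ℤ) ∣ ∑ i, z i := by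
  by_contra hodd
  have h1 : (2 : ℤ) ∣ ∑ i, (z i - (Pi.single (0 : Fin 24) (1 : ℤ) : Fin 24 → ℤ) i) := by
    rw [Finset.sum_sub_distrib]
    have : ∑ i, (Pi.single (0 : Fin 24) (1 : ℤ) : Fin 24 → ℤ) i = 1 := by
      rw [Finset.sum_eq_single (0 : Fin 24)]
      · rw [Pi.single_eq_same]
      · intro j _ hj; rw [Pi.single_eq_of_ne hj]
      · intro h; exact absurd (Finset.mem_univ _) h
    rw [this]
    omega
  have h2 := four_mul_mem hM _ h1
  have h3 : Pi.single (0 : Fin 24) (4 : ℤ) ∈ M := by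
    have := M.sub_mem hz h2
    convert this using 1
    funext j
    simp only [Pi.sub_apply, Pi.single_apply]
    split_ifs <;> ring
  have h4 := hM.min _ h3 (by
    intro h0
    have := congrFun h0 0
    simp at this)
  rw [nsq_single] at h4
  norm_num at h4

/-- evenness of a vector -/
def IsEven (y : Fin 24 → ℤ) : Prop := ∀ i, (2 : ℤ) ∣ y i

/-- half of a vector, reduced modulo 2 -/
def halfRed (y : Fin 24 → ℤ) : W24 := fun i => ((y i / 2 : ℤ) : ZMod 2)

theorem halfRed_add (y y' : Fin 24 → ℤ) (hy : IsEven y) (hy' : IsEven y') :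
    halfRed (y + y') = halfRed y + halfRed y' := by
  funext i
  obtain ⟨a, ha⟩ := hy i
  obtain ⟨b, hb⟩ := hy' i
  simp only [halfRed, Pi.add_apply]
  rw [← Int.cast_add]
  congr 1
  omega

/-- the binary code of the even vectors -/
def code (M : AddSubgroup (Fin 24 → ℤ)) : Submodule (ZMod 2) W24 where
  carrier := {w | ∃ y ∈ M, IsEven y ∧ halfRed y = w}
  add_mem' := by
    rintro _ _ ⟨y, hy, hye, rfl⟩ ⟨y', hy', hye', rfl⟩
    refine ⟨y + y', M.add_mem hy hy', ?_, halfRed_add y y' hye hye'⟩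
    intro i
    exact dvd_add (hye i) (hye' i)
  zero_mem' := ⟨0, M.zero_mem, fun i => dvd_zero _, by funext i; simp [halfRed]⟩
  smul_mem' := by
    rintro c _ ⟨y, hy, hye, rfl⟩
    rcases zmod2_cases c with rfl | rfl
    · rw [zero_smul]
      exact ⟨0, M.zero_mem, fun i => dvd_zero _, by funext i; simp [halfRed]⟩
    · rw [one_smul]
      exact ⟨y, hy, hye, rfl⟩

theorem mem_code (w : W24) : w ∈ code M ↔ ∃ y ∈ M, IsEven y ∧ halfRed y = w := Iff.rfl

theorem halfRed_ne_zero_iff (y : Fin 24 → ℤ) (i : Fin 24) :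
    halfRed y i ≠ 0 ↔ (y i / 2) % 2 = 1 := by
  unfold halfRed
  rw [Ne, ZMod.intCast_zmod_eq_zero_iff_dvd]
  omega

/-- a nonzero codeword is represented by a vector with entries `0, ±2` -/
theorem exists_rep (hM : Lat M) (w : W24) (hw : w ∈ code M) (hw0 : w ≠ 0) :
    ∃ y ∈ M, ∀ i, (w i = 0 → y i = 0) ∧ (w i ≠ 0 → (y i = 2 ∨ y i = -2)) := by
  obtain ⟨y0, hy0, hye, rfl⟩ := hw
  have hex : ∃ i0, halfRed y0 i0 ≠ 0 := by
    by_contra hcon
    push Not at hcon
    exact hw0 (funext hcon)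
  obtain ⟨i0, hi0⟩ := hex
  set z : Fin 24 → ℤ := fun i => (y0 i / 2) / 2 with hz
  by_cases hpar : (2 : ℤ) ∣ ∑ i, z i
  · refine ⟨y0 - (fun i => 4 * z i), M.sub_mem hy0 (four_mul_mem hM z hpar), ?_⟩
    intro i
    obtain ⟨a, ha⟩ := hye i
    constructor
    · intro h0
      have : ¬ (halfRed y0 i ≠ 0) := fun h => h h0
      rw [halfRed_ne_zero_iff] at this
      simp only [Pi.sub_apply, hz]
      omega
    · intro h1
      rw [halfRed_ne_zero_iff] at h1
      simp only [Pi.sub_apply, hz]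
      left
      omega
  · set z' : Fin 24 → ℤ := fun i => z i + (Pi.single i0 (1 : ℤ) : Fin 24 → ℤ) i with hz'
    have hpar' : (2 : ℤ) ∣ ∑ i, z' i := by
      rw [hz', Finset.sum_add_distrib]
      have : ∑ i, (Pi.single i0 (1 : ℤ) : Fin 24 → ℤ) i = 1 := by
        rw [Finset.sum_eq_single i0]
        · rw [Pi.single_eq_same]
        · intro j _ hj; rw [Pi.single_eq_of_ne hj]
        · intro h; exact absurd (Finset.mem_univ _) h
      rw [this]
      omega
    refine ⟨y0 - (fun i => 4 * z' i), M.sub_mem hy0 (four_mul_mem hM z' hpar'), ?_⟩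
    intro i
    obtain ⟨a, ha⟩ := hye i
    by_cases hii : i = i0
    · subst hii
      constructor
      · intro h0
        exact absurd h0 hi0
      · intro _
        rw [halfRed_ne_zero_iff] at hi0
        simp only [Pi.sub_apply, hz', hz, Pi.single_eq_same]
        right
        omega
    · constructor
      · intro h0
        have : ¬ (halfRed y0 i ≠ 0) := fun h => h h0
        rw [halfRed_ne_zero_iff] at this
        simp only [Pi.sub_apply, hz', hz, Pi.single_eq_of_ne hii]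
        omega
      · intro h1
        rw [halfRed_ne_zero_iff] at h1
        simp only [Pi.sub_apply, hz', hz, Pi.single_eq_of_ne hii]
        left
        omega

/-- the norm of such a representative -/
theorem nsq_rep (w : W24) (y : Fin 24 → ℤ)
    (hy : ∀ i, (w i = 0 → y i = 0) ∧ (w i ≠ 0 → (y i = 2 ∨ y i = -2))) :
    nsq y = 4 * (hammingNorm w : ℤ) := by
  unfold nsq
  have h1 : ∀ i, y i ^ 2 = if w i ≠ 0 then (4 : ℤ) else 0 := by
    intro i
    by_cases hwi : w i = 0
    · rw [if_neg (not_not.mpr hwi), (hy i).1 hwi]; ring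
    · rw [if_pos hwi]
      rcases (hy i).2 hwi with h | h <;> rw [h] <;> ring
  rw [Finset.sum_congr rfl (fun i _ => h1 i), Finset.sum_ite, Finset.sum_const_zero, add_zero,
    Finset.sum_const, hammingNorm_eq_card_supp]
  unfold supp
  simp only [nsmul_eq_mul]
  ring

theorem code_weight (hM : Lat M) (w : W24) (hw : w ∈ code M) (hw0 : w ≠ 0) :
    4 ∣ hammingNorm w ∧ 8 ≤ hammingNorm w := by
  obtain ⟨y, hyM, hy⟩ := exists_rep hM w hw hw0
  have hn := nsq_rep w y hy
  have h16 := hM.sq16 y hyM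
  have hy0 : y ≠ 0 := by
    intro h0
    apply hw0
    funext i
    by_contra hwi
    have := (hy i).2 hwi
    rw [h0] at this
    simp at this
  have h32 := hM.min y hyM hy0
  rw [hn] at h16 h32
  constructor
  · have : (4 : ℤ) ∣ (hammingNorm w : ℤ) := by omega
    exact_mod_cast this
  · omega

theorem code_four_dvd (hM : Lat M) (w : W24) (hw : w ∈ code M) : 4 ∣ hammingNorm w := by
  by_cases hw0 : w = 0
  · rw [hw0, hammingNorm_zero]; exact dvd_zero _
  · exact (code_weight hM w hw hw0).1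

theorem code_min (hM : Lat M) : ∀ w ∈ code M, w ≠ 0 → 8 ≤ hammingNorm w :=
  fun w hw hw0 => (code_weight hM w hw hw0).2

theorem dot_eq_card (v w : W24) : ∑ i, v i * w i = (((supp v ∩ supp w).card : ℕ) : ZMod 2) := by
  rw [Finset.card_eq_sum_ones, Nat.cast_sum, ← Finset.sum_filter_add_sum_filter_not Finset.univ
    (fun i => i ∈ supp v ∩ supp w)]
  have hz : ∑ i ∈ Finset.univ.filter (fun i => i ∉ supp v ∩ supp w), v i * w i = 0 := by
    apply Finset.sum_eq_zero
    intro i hi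
    rw [Finset.mem_filter, Finset.mem_inter, mem_supp, mem_supp] at hi
    by_cases hvi : v i = 0
    · rw [hvi, zero_mul]
    · have : w i = 0 := by
        by_contra hwi; exact hi.2 ⟨hvi, hwi⟩
      rw [this, mul_zero]
  rw [hz, add_zero]
  have hfil : Finset.univ.filter (fun i => i ∈ supp v ∩ supp w) = supp v ∩ supp w := by
    ext i; simp
  rw [hfil]
  apply Finset.sum_congr rfl
  intro i hi
  rw [Finset.mem_inter, mem_supp', mem_supp'] at hi
  rw [hi.1, hi.2]; simp

theorem code_orth (hM : Lat M) : ∀ v ∈ code M, ∀ w ∈ code M, ∑ i, v i * w i = 0 := by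
  intro v hv w hw
  rw [dot_eq_card, ZMod.natCast_eq_zero_iff_even]
  have h1 := norm_add v w
  obtain ⟨a, ha⟩ := code_four_dvd hM v hv
  obtain ⟨b, hb⟩ := code_four_dvd hM w hw
  obtain ⟨c, hc⟩ := code_four_dvd hM (v + w) ((code M).add_mem hv hw)
  rw [Nat.even_iff]
  omega

end Cfsg.Agent.Lib.Helper14.LeechChar
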