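import Mathlib
import Cfsg.Agent.Lib.Helper14.LeechCharD

set_option autoImplicit false

/-! Characterisation of the Leech lattice: the dimension bound for the code, the shapes of the
vectors of norm 32. -/

namespace Cfsg.Agent.Lib.Helper14.LeechChar

open Cfsg.Agent.Lib.Helper28.Golay24

variable {M : AddSubgroup (Fin 24 → ℤ)}

theorem finrank_code_le (hM : Lat M) : Module.finrank (ZMod 2) (code M) ≤ 12 := by
  set Bf : LinearMap.BilinForm (ZMod 2) W24 :=
    Matrix.toBilin' (1 : Matrix (Fin 24) (Fin 24) (ZMod 2)) with hB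
  have hBapp : ∀ x y, Bf x y = x ⬝ᵥ y := by
    intro x y
    rw [hB, Matrix.toBilin'_apply', Matrix.one_mulVec]
  have hBnd : Bf.Nondegenerate := by
    rw [hB]
    exact Matrix.Nondegenerate.toBilin' (Matrix.nondegenerate_of_det_ne_zero (by simp))
  have hle : code M ≤ Bf.orthogonal (code M) := by
    intro v hv
    rw [LinearMap.BilinForm.mem_orthogonal_iff]
    intro w hw
    rw [hBapp]
    exact code_orth hM w hw v hv
  have h5 := Submodule.finrank_mono hle
  rw [LinearMap.BilinForm.finrank_orthogonal hBnd, Module.finrank_fin_fun] at h5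
  omega

theorem card_code_eq (M : AddSubgroup (Fin 24 → ℤ)) :
    Nat.card (code M) = 2 ^ Module.finrank (ZMod 2) (code M) := by
  rw [Module.natCard_eq_pow_finrank (K := ZMod 2), Nat.card_zmod]

theorem finrank_code_eq (hM : Lat M) (hc : 2048 < Nat.card (code M)) :
    Module.finrank (ZMod 2) (code M) = 12 := by
  have h1 := finrank_code_le hM
  rw [card_code_eq] at hc
  by_contra hne
  have h2 : Module.finrank (ZMod 2) (code M) ≤ 11 := by omega
  have := Nat.pow_le_pow_right (show 0 < 2 by norm_num) h2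
  omega

/-- a sum of nonnegative integers equal to one -/
theorem sum_eq_one_cases {ι : Type*} [DecidableEq ι] (S : Finset ι) (s : ι → ℤ)
    (h0 : ∀ i ∈ S, 0 ≤ s i) (h1 : ∑ i ∈ S, s i = 1) :
    ∃ p ∈ S, s p = 1 ∧ ∀ i ∈ S, i ≠ p → s i = 0 := by
  have hex : ∃ p ∈ S, s p ≠ 0 := by
    by_contra hcon
    push Not at hcon
    rw [Finset.sum_eq_zero hcon] at h1
    exact absurd h1 (by norm_num)
  obtain ⟨p, hp, hsp⟩ := hex
  have hsplit := Finset.add_sum_erase S s hp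
  have hrest : 0 ≤ ∑ i ∈ S.erase p, s i :=
    Finset.sum_nonneg (fun i hi => h0 i (Finset.mem_of_mem_erase hi))
  have hp0 := h0 p hp
  have hp1 : s p = 1 := by omega
  have hr0 : ∑ i ∈ S.erase p, s i = 0 := by omega
  refine ⟨p, hp, hp1, ?_⟩
  intro i hi hip
  exact (Finset.sum_eq_zero_iff_of_nonneg
    (fun i hi => h0 i (Finset.mem_of_mem_erase hi))).mp hr0 i (Finset.mem_erase.mpr ⟨hip, hi⟩)

theorem odd_sq (a : ℤ) (ha : ¬ (2 : ℤ) ∣ a) : ∃ t : ℤ, 0 ≤ t ∧ a ^ 2 = 1 + 8 * t := by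
  obtain ⟨k, hk⟩ : ∃ k, a = 2 * k + 1 := ⟨a / 2, by omega⟩
  obtain ⟨m, hm⟩ := Int.even_mul_succ_self k
  have h1 : a ^ 2 = 1 + 8 * m := by
    rw [hk]
    linear_combination 4 * hm
  refine ⟨m, ?_, h1⟩
  have := sq_nonneg a
  omega

/-- the shape of an odd vector of norm 32 -/
theorem odd_shape (y : Fin 24 → ℤ) (hodd : ∀ i, ¬ (2 : ℤ) ∣ y i) (h32 : nsq y = 32) :
    ∃ p, (y p = 3 ∨ y p = -3) ∧ ∀ i, i ≠ p → (y i = 1 ∨ y i = -1) := by
  choose t ht0 ht using fun i => odd_sq (y i) (hodd i)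
  have hsum : ∑ i, t i = 1 := by
    unfold nsq at h32
    rw [Finset.sum_congr rfl (fun i _ => ht i), Finset.sum_add_distrib, Finset.sum_const,
      ← Finset.mul_sum, Finset.card_univ, Fintype.card_fin] at h32
    simp only [nsmul_eq_mul, Nat.cast_ofNat, mul_one] at h32
    omega
  obtain ⟨p, -, hp1, hp0⟩ := sum_eq_one_cases Finset.univ t (fun i _ => ht0 i) hsum
  refine ⟨p, ?_, ?_⟩
  · have h9 : y p ^ 2 = 3 ^ 2 := by rw [ht p, hp1]; norm_num
    exact sq_eq_sq_iff_eq_or_eq_neg.mp h9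
  · intro i hi
    have h1 : y i ^ 2 = 1 ^ 2 := by rw [ht i, hp0 i (Finset.mem_univ _) hi]; norm_num
    exact sq_eq_sq_iff_eq_or_eq_neg.mp h1

/-- integer vectors with sum of squares two -/
theorem sum_sq_eq_two (z : Fin 24 → ℤ) (h : ∑ i, z i ^ 2 = 2) :
    ∃ i j, i ≠ j ∧ (z i = 1 ∨ z i = -1) ∧ (z j = 1 ∨ z j = -1) ∧
      ∀ k, k ≠ i → k ≠ j → z k = 0 := by
  have hex : ∃ i, z i ≠ 0 := by
    by_contra hcon
    push Not at hcon
    rw [Finset.sum_eq_zero (fun i _ => by rw [hcon i]; ring)] at h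
    exact absurd h (by norm_num)
  obtain ⟨i, hi⟩ := hex
  have hsplit := Finset.add_sum_erase Finset.univ (fun k => z k ^ 2) (Finset.mem_univ i)
  have hrest : 0 ≤ ∑ k ∈ Finset.univ.erase i, z k ^ 2 :=
    Finset.sum_nonneg (fun k _ => sq_nonneg _)
  have hle : z i ^ 2 ≤ 2 := by omega
  have hzi : z i = 1 ∨ z i = -1 := by
    have h1 : z i ≤ 1 := by nlinarith
    have h2 : -1 ≤ z i := by nlinarith
    omega
  have hzi2 : z i ^ 2 = 1 := by rcases hzi with h1 | h1 <;> rw [h1] <;> norm_num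
  have hr1 : ∑ k ∈ Finset.univ.erase i, z k ^ 2 = 1 := by omega
  obtain ⟨j, hj, hj1, hj0⟩ := sum_eq_one_cases (Finset.univ.erase i) (fun k => z k ^ 2)
    (fun k _ => sq_nonneg _) hr1
  refine ⟨i, j, (Finset.ne_of_mem_erase hj).symm, hzi, ?_, ?_⟩
  · have h1 : z j ^ 2 = 1 ^ 2 := by rw [hj1]; norm_num
    exact sq_eq_sq_iff_eq_or_eq_neg.mp h1
  · intro k hki hkj
    have := hj0 k (Finset.mem_erase.mpr ⟨hki, Finset.mem_univ _⟩) hkj
    exact pow_eq_zero_iff (by norm_num) |>.mp this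

end Cfsg.Agent.Lib.Helper14.LeechChar
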