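import Mathlib
import Cfsg.Agent.Lib.Helper14.LeechCharB
import Cfsg.Agent.Lib.Helper14.LeechCharE

set_option autoImplicit false

/-! Characterisation of the Leech lattice: counting the vectors of norm 32 of a lattice in
standard position. -/

namespace Cfsg.Agent.Lib.Helper14.LeechChar

open Cfsg.Agent.Lib.Helper28.Golay24

variable {M : AddSubgroup (Fin 24 → ℤ)}

/-- vectors of shape `(±4, ±4, 0^22)` -/
def gA (q : Fin 24 × Fin 24 × Bool × Bool) : Fin 24 → ℤ :=
  Pi.single q.1 (if q.2.2.1 then (4 : ℤ) else -4) +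
    Pi.single q.2.1 (if q.2.2.2 then (4 : ℤ) else -4)

theorem SA_subset : {y : Fin 24 → ℤ | nsq y = 32 ∧ ∀ i, (4 : ℤ) ∣ y i} ⊆ Set.range gA := by
  rintro y ⟨h32, h4⟩
  choose z hz using h4
  have hz2 : ∑ i, z i ^ 2 = 2 := by
    unfold nsq at h32
    rw [Finset.sum_congr rfl (fun i _ => by rw [hz i, mul_pow]), ← Finset.mul_sum] at h32
    omega
  obtain ⟨i, j, hij, hi, hj, hk⟩ := sum_sq_eq_two z hz2
  refine ⟨(i, j, decide (z i = 1), decide (z j = 1)), ?_⟩
  funext k
  simp only [gA, Pi.add_apply, Pi.single_apply]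
  rw [hz k]
  by_cases hki : k = i
  · subst hki
    rw [if_pos rfl, if_neg hij]
    rcases hi with h | h <;> simp [h]
  · by_cases hkj : k = j
    · subst hkj
      rw [if_neg hki, if_pos rfl]
      rcases hj with h | h <;> simp [h]
    · rw [if_neg hki, if_neg hkj, hk k hki hkj]
      simp

theorem finite_SA : {y : Fin 24 → ℤ | nsq y = 32 ∧ ∀ i, (4 : ℤ) ∣ y i}.Finite :=
  (Set.finite_range gA).subset SA_subset

theorem ncard_SA_le : {y : Fin 24 → ℤ | nsq y = 32 ∧ ∀ i, (4 : ℤ) ∣ y i}.ncard ≤ 2304 := by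
  have h1 := Set.ncard_le_ncard SA_subset (Set.finite_range gA)
  have h2 : (Set.range gA).ncard ≤ 2304 := by
    rw [← Set.image_univ]
    refine le_trans (Set.ncard_image_le Set.finite_univ) ?_
    rw [Set.ncard_univ, Nat.card_eq_fintype_card]
    simp [Fintype.card_prod]
  exact le_trans h1 h2

/-- shape of an even vector of norm 32 that is not divisible by 4 -/
theorem even_shape (hM : Lat M) (y : Fin 24 → ℤ) (hy : y ∈ M) (he : IsEven y)
    (h32 : nsq y = 32) (hne : halfRed y ≠ 0) :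
    hammingNorm (halfRed y) = 8 ∧
      ∀ i, (halfRed y i = 0 → y i = 0) ∧ (halfRed y i ≠ 0 → (y i = 2 ∨ y i = -2)) := by
  set w := halfRed y with hw
  have hwC : w ∈ code M := ⟨y, hy, he, rfl⟩
  have h8 := code_min hM w hwC hne
  have ht0 : ∀ i, 0 ≤ y i ^ 2 - (if i ∈ supp w then (4 : ℤ) else 0) := by
    intro i
    by_cases hi : i ∈ supp w
    · rw [if_pos hi]
      rw [mem_supp, hw, halfRed_ne_zero_iff] at hi
      obtain ⟨a, ha⟩ := he i
      have ha0 : a ≠ 0 := by
        intro h0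
        rw [h0] at ha
        rw [ha] at hi
        norm_num at hi
      have ha2 : 1 ≤ a ^ 2 := by
        have := sq_nonneg a
        have h00 : a ^ 2 ≠ 0 := pow_ne_zero 2 ha0
        omega
      rw [ha]
      nlinarith
    · rw [if_neg hi]
      simpa using sq_nonneg (y i)
  have hsum : ∑ i, (y i ^ 2 - (if i ∈ supp w then (4 : ℤ) else 0)) =
      32 - 4 * (hammingNorm w : ℤ) := by
    unfold nsq at h32
    rw [Finset.sum_sub_distrib, h32, Finset.sum_ite_mem, Finset.univ_inter, Finset.sum_const,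
      hammingNorm_eq_card_supp]
    simp only [nsmul_eq_mul]
    ring
  have hnn := Finset.sum_nonneg (fun i (_ : i ∈ Finset.univ) => ht0 i)
  have hsum0 : ∑ i, (y i ^ 2 - (if i ∈ supp w then (4 : ℤ) else 0)) = 0 := by omega
  have hw8 : hammingNorm w = 8 := by omega
  have hall := (Finset.sum_eq_zero_iff_of_nonneg (fun i _ => ht0 i)).mp hsum0
  refine ⟨hw8, fun i => ⟨?_, ?_⟩⟩
  · intro h0
    have hi : i ∉ supp w := by rw [mem_supp]; exact not_not.mpr h0
    have := hall i (Finset.mem_univ _)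
    rw [if_neg hi, sub_zero] at this
    exact (pow_eq_zero_iff (by norm_num)).mp this
  · intro h1
    have hi : i ∈ supp w := (mem_supp w i).mpr h1
    have := hall i (Finset.mem_univ _)
    rw [if_pos hi] at this
    have h4 : y i ^ 2 = 2 ^ 2 := by linarith
    exact sq_eq_sq_iff_eq_or_eq_neg.mp h4

/-- the fibres of `halfRed` on the even vectors of norm 32 -/
theorem fibre_B_le (hM : Lat M) (w : W24) (hw8 : hammingNorm w = 8) :
    {y | y ∈ {y | y ∈ M ∧ nsq y = 32 ∧ IsEven y ∧ halfRed y ≠ 0} ∧ halfRed y = w}.ncard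
      ≤ 128 := by
  classical
  obtain ⟨q, hq⟩ : (supp w).Nonempty := by
    rw [← Finset.card_pos, ← hammingNorm_eq_card_supp, hw8]; norm_num
  set P := ((supp w).erase q).powerset with hP
  have hPcard : P.card = 128 := by
    rw [hP, Finset.card_powerset, Finset.card_erase_of_mem hq, ← hammingNorm_eq_card_supp, hw8]
    norm_num
  set φ : (Fin 24 → ℤ) → Finset (Fin 24) :=
    fun y => ((supp w).erase q).filter (fun i => y i = 2) with hφ
  have hmaps : ∀ y ∈ {y | y ∈ {y | y ∈ M ∧ nsq y = 32 ∧ IsEven y ∧ halfRed y ≠ 0} ∧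
      halfRed y = w}, φ y ∈ (P : Set (Finset (Fin 24))) := by
    intro y _
    exact Finset.mem_coe.mpr (Finset.mem_powerset.mpr (Finset.filter_subset _ _))
  have hinj : Set.InjOn φ {y | y ∈ {y | y ∈ M ∧ nsq y = 32 ∧ IsEven y ∧ halfRed y ≠ 0} ∧
      halfRed y = w} := by
    rintro y ⟨⟨hy, h32, he, hne⟩, hyw⟩ y' ⟨⟨hy', h32', he', hne'⟩, hyw'⟩ hφyy
    have hs := (even_shape hM y hy he h32 hne).2
    have hs' := (even_shape hM y' hy' he' h32' hne').2
    rw [hyw] at hs
    rw [hyw'] at hs'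
    have hoff : ∀ i, i ≠ q → y i = y' i := by
      intro i hiq
      by_cases hwi : w i = 0
      · rw [(hs i).1 hwi, (hs' i).1 hwi]
      · have hi : i ∈ (supp w).erase q :=
          Finset.mem_erase.mpr ⟨hiq, (mem_supp w i).mpr hwi⟩
        have h1 : i ∈ φ y ↔ i ∈ φ y' := by rw [hφyy]
        simp only [hφ, Finset.mem_filter, hi, true_and] at h1
        rcases (hs i).2 hwi with h | h <;> rcases (hs' i).2 hwi with h' | h'
        · rw [h, h']
        · exfalso
          have := h1.mp h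
          omega
        · exfalso
          have := h1.mpr h'
          omega
        · rw [h, h']
    have hqq : y q = y' q := by
      by_contra hneq
      have hd : y - y' = Pi.single q (y q - y' q) := by
        funext i
        by_cases hiq : i = q
        · subst hiq; simp
        · rw [Pi.single_eq_of_ne hiq, Pi.sub_apply, hoff i hiq, sub_self]
      have hd0 : y - y' ≠ 0 := by
        intro h0
        have := congrFun h0 q
        simp only [Pi.sub_apply, Pi.zero_apply] at this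
        omega
      have hmin := hM.min _ (M.sub_mem hy hy') hd0
      rw [hd, nsq_single] at hmin
      have hwq : w q ≠ 0 := (mem_supp w q).mp hq
      rcases (hs q).2 hwq with h | h <;> rcases (hs' q).2 hwq with h' | h' <;>
        rw [h, h'] at hmin <;> norm_num at hmin
    funext i
    by_cases hiq : i = q
    · rw [hiq]; exact hqq
    · exact hoff i hiq
  have := Set.ncard_le_ncard_of_injOn φ hmaps hinj (Finset.finite_toSet P)
  rw [Set.ncard_coe_finset, hPcard] at this
  exact this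

theorem ncard_octads_le (hM : Lat M) :
    {w : W24 | w ∈ code M ∧ hammingNorm w = 8}.ncard ≤ 759 := by
  classical
  set T : Finset W24 := Finset.univ.filter (fun w => w ∈ code M ∧ hammingNorm w = 8) with hT
  have hTs : {w : W24 | w ∈ code M ∧ hammingNorm w = 8} = ↑T := by
    ext w; simp [hT]
  rw [hTs, Set.ncard_coe_finset]
  have hdisj : ∀ w ∈ T, ∀ w' ∈ T, w ≠ w' →
      Disjoint ((supp w).powersetCard 5) ((supp w').powersetCard 5) := by
    intro w hw w' hw' hne
    rw [Finset.disjoint_left]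
    intro s hs hs'
    rw [Finset.mem_powersetCard] at hs hs'
    rw [hT, Finset.mem_filter] at hw hw'
    exact hne (octad_unique (code M) (code_min hM) s hs.2 w w' hw.2.1 hw'.2.1 hw.2.2 hw'.2.2
      hs.1 hs'.1)
  have hcard := Finset.card_biUnion hdisj
  have hsub : T.biUnion (fun w => (supp w).powersetCard 5) ⊆
      (Finset.univ : Finset (Fin 24)).powersetCard 5 := by
    intro s hs
    rw [Finset.mem_biUnion] at hs
    obtain ⟨w, _, hs⟩ := hs
    rw [Finset.mem_powersetCard] at hs ⊢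
    exact ⟨Finset.subset_univ _, hs.2⟩
  have hle := Finset.card_le_card hsub
  rw [hcard, Finset.card_powersetCard, Finset.card_univ, Fintype.card_fin] at hle
  have h56 : ∀ w ∈ T, ((supp w).powersetCard 5).card = 56 := by
    intro w hw
    rw [hT, Finset.mem_filter] at hw
    rw [Finset.card_powersetCard, ← hammingNorm_eq_card_supp, hw.2.2]
    rfl
  rw [Finset.sum_congr rfl h56, Finset.sum_const, smul_eq_mul] at hle
  have h24 : Nat.choose 24 5 = 42504 := by decide
  omega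

theorem ncard_SB_le (hM : Lat M) (hfin : {y | y ∈ M ∧ nsq y = 32}.Finite) :
    {y | y ∈ M ∧ nsq y = 32 ∧ IsEven y ∧ halfRed y ≠ 0}.ncard ≤ 97152 := by
  have h1 := ncard_le_mul_of_fibers {y | y ∈ M ∧ nsq y = 32 ∧ IsEven y ∧ halfRed y ≠ 0}
    {w : W24 | w ∈ code M ∧ hammingNorm w = 8} halfRed 128
    (hfin.subset (fun y hy => ⟨hy.1, hy.2.1⟩)) (Set.toFinite _)
    (fun y hy => ⟨⟨y, hy.1, hy.2.2.1, rfl⟩, (even_shape hM y hy.1 hy.2.2.1 hy.2.1 hy.2.2.2).1⟩)
    (fun w hw => fibre_B_le hM w hw.2)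
  have h2 := ncard_octads_le hM
  calc _ ≤ 128 * _ := h1
    _ ≤ 128 * 759 := Nat.mul_le_mul_left _ h2

/-- the odd vector determined by a position and a codeword -/
def gO (y0 : Fin 24 → ℤ) (q : Fin 24 × W24) : Fin 24 → ℤ := fun i =>
  if i = q.1 then (if (y0 i + 2 * ((q.2 i).val : ℤ)) % 4 = 3 then 3 else -3)
  else (if (y0 i + 2 * ((q.2 i).val : ℤ)) % 4 = 1 then 1 else -1)

theorem SO_subset (hM : Lat M) (y0 : Fin 24 → ℤ) (hy0 : y0 ∈ M) (hodd0 : ¬ (2 : ℤ) ∣ y0 0) :
    {y | y ∈ M ∧ nsq y = 32 ∧ ¬ (2 : ℤ) ∣ y 0} ⊆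
      gO y0 '' (Set.univ ×ˢ (code M : Set W24)) := by
  rintro y ⟨hy, h32, hodd⟩
  have hoddall : ∀ i, ¬ (2 : ℤ) ∣ y i := by
    intro i
    have := hM.par y hy i 0
    omega
  have hodd0all : ∀ i, ¬ (2 : ℤ) ∣ y0 i := by
    intro i
    have := hM.par y0 hy0 i 0
    omega
  obtain ⟨p, hp, hrest⟩ := odd_shape y hoddall h32
  have hev : IsEven (y - y0) := by
    intro i
    simp only [Pi.sub_apply]
    have := hoddall i
    have := hodd0all i
    omega
  refine ⟨(p, halfRed (y - y0)), ⟨Set.mem_univ _, ⟨y - y0, M.sub_mem hy hy0, hev, rfl⟩⟩, ?_⟩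
  funext i
  simp only [gO]
  have hval : ((halfRed (y - y0) i).val : ℤ) = ((y i - y0 i) / 2) % 2 := by
    simp only [halfRed, Pi.sub_apply]
    rw [ZMod.val_intCast]
    norm_num
  rw [hval]
  obtain ⟨a, ha⟩ := hev i
  simp only [Pi.sub_apply] at ha
  by_cases hip : i = p
  · subst hip
    rw [if_pos rfl]
    rcases hp with h | h
    · rw [h] at ha ⊢; split_ifs <;> omega
    · rw [h] at ha ⊢; split_ifs <;> omega
  · rw [if_neg hip]
    rcases hrest i hip with h | h
    · rw [h] at ha ⊢; split_ifs <;> omega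
    · rw [h] at ha ⊢; split_ifs <;> omega

theorem ncard_SO_le (hM : Lat M) :
    {y | y ∈ M ∧ nsq y = 32 ∧ ¬ (2 : ℤ) ∣ y 0}.ncard ≤ 24 * Nat.card (code M) := by
  by_cases hne : {y | y ∈ M ∧ nsq y = 32 ∧ ¬ (2 : ℤ) ∣ y 0}.Nonempty
  · obtain ⟨y0, hy0, -, hodd0⟩ := hne
    have hfin : ((Set.univ : Set (Fin 24)) ×ˢ (code M : Set W24)).Finite := Set.toFinite _
    have h1 := Set.ncard_le_ncard (SO_subset hM y0 hy0 hodd0) (hfin.image _)
    have h2 := Set.ncard_image_le (f := gO y0) hfin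
    have h3 : ((Set.univ : Set (Fin 24)) ×ˢ (code M : Set W24)).ncard =
        24 * Nat.card (code M) := by
      rw [Set.ncard_prod, Set.ncard_univ, Nat.card_eq_fintype_card, Fintype.card_fin]
      rfl
    omega
  · rw [Set.not_nonempty_iff_eq_empty] at hne
    rw [hne, Set.ncard_empty]
    exact Nat.zero_le _

/-- the count of the vectors of norm 32 forces the code to have dimension 12 and the lattice
to contain odd vectors -/
theorem count_main (hM : Lat M) (hcount : {y | y ∈ M ∧ nsq y = 32}.ncard = 196560) :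
    Module.finrank (ZMod 2) (code M) = 12 ∧ ∃ y0 ∈ M, ¬ (2 : ℤ) ∣ y0 0 := by
  have hfin : {y | y ∈ M ∧ nsq y = 32}.Finite :=
    Set.finite_of_ncard_ne_zero (by rw [hcount]; norm_num)
  have hfB : {y | y ∈ M ∧ nsq y = 32 ∧ IsEven y ∧ halfRed y ≠ 0}.Finite :=
    hfin.subset (fun y hy => ⟨hy.1, hy.2.1⟩)
  have hfO : {y | y ∈ M ∧ nsq y = 32 ∧ ¬ (2 : ℤ) ∣ y 0}.Finite :=
    hfin.subset (fun y hy => ⟨hy.1, hy.2.1⟩)
  have hsub : {y | y ∈ M ∧ nsq y = 32} ⊆
      ({y : Fin 24 → ℤ | nsq y = 32 ∧ ∀ i, (4 : ℤ) ∣ y i} ∪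
        {y | y ∈ M ∧ nsq y = 32 ∧ IsEven y ∧ halfRed y ≠ 0}) ∪
        {y | y ∈ M ∧ nsq y = 32 ∧ ¬ (2 : ℤ) ∣ y 0} := by
    rintro y ⟨hy, h32⟩
    by_cases hodd : (2 : ℤ) ∣ y 0
    · have he : IsEven y := fun i => by
        have := hM.par y hy i 0
        omega
      by_cases h0 : halfRed y = 0
      · left; left
        refine ⟨h32, fun i => ?_⟩
        have h1 : ¬ (halfRed y i ≠ 0) := by
          rw [h0]; simp
        rw [halfRed_ne_zero_iff] at h1
        have := he i
        omega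
      · left; right
        exact ⟨hy, h32, he, h0⟩
    · right
      exact ⟨hy, h32, hodd⟩
  have hle := Set.ncard_le_ncard hsub ((finite_SA.union hfB).union hfO)
  have hu1 := Set.ncard_union_le
    ({y : Fin 24 → ℤ | nsq y = 32 ∧ ∀ i, (4 : ℤ) ∣ y i} ∪
        {y | y ∈ M ∧ nsq y = 32 ∧ IsEven y ∧ halfRed y ≠ 0})
    {y | y ∈ M ∧ nsq y = 32 ∧ ¬ (2 : ℤ) ∣ y 0}
  have hu2 := Set.ncard_union_le {y : Fin 24 → ℤ | nsq y = 32 ∧ ∀ i, (4 : ℤ) ∣ y i}
    {y | y ∈ M ∧ nsq y = 32 ∧ IsEven y ∧ halfRed y ≠ 0}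
  have hA := ncard_SA_le
  have hB := ncard_SB_le hM hfin
  have hO := ncard_SO_le hM
  rw [hcount] at hle
  constructor
  · apply finrank_code_eq hM
    omega
  · by_contra hcon
    push Not at hcon
    have hempty : {y | y ∈ M ∧ nsq y = 32 ∧ ¬ (2 : ℤ) ∣ y 0} = ∅ := by
      rw [Set.eq_empty_iff_forall_notMem]
      rintro y ⟨hy, -, hodd⟩
      exact hodd (hcon y hy)
    have hO0 : {y | y ∈ M ∧ nsq y = 32 ∧ ¬ (2 : ℤ) ∣ y 0}.ncard = 0 := by
      rw [hempty, Set.ncard_empty]
    omega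

end Cfsg.Agent.Lib.Helper14.LeechChar
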