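import Mathlib
import Cfsg.Agent.Lib.Helper10.GolayUnique
import Cfsg.Agent.Lib.Helper14.Leech
import Cfsg.Agent.Lib.Helper14.LeechCharF

set_option autoImplicit false

/-! Characterisation of the Leech lattice: a lattice in standard position with 196560 vectors of
norm 32 is the Leech lattice up to a signed permutation of the coordinates. -/

namespace Cfsg.Agent.Lib.Helper14.LeechChar

open Cfsg Cfsg.Agent.Lib.Helper28.Golay24 Cfsg.Agent.Lib.Helper14.Leech

variable {M : AddSubgroup (Fin 24 → ℤ)}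

/-- the sign vector of an odd vector -/
def sgn (y0 : Fin 24 → ℤ) (i : Fin 24) : ℤ := if y0 i % 4 = 1 then 1 else -1

theorem sgn_cases (y0 : Fin 24 → ℤ) (i : Fin 24) : sgn y0 i = 1 ∨ sgn y0 i = -1 := by
  unfold sgn
  split_ifs
  · left; rfl
  · right; rfl

theorem sgn_mul_self (y0 : Fin 24 → ℤ) (i : Fin 24) : sgn y0 i * sgn y0 i = 1 := by
  rcases sgn_cases y0 i with h | h <;> rw [h] <;> norm_num

theorem sgn_mul_mod (y0 : Fin 24 → ℤ) (i : Fin 24) (hodd : ¬ (2 : ℤ) ∣ y0 i) :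
    (sgn y0 i * y0 i) % 4 = 1 := by
  unfold sgn
  split_ifs with h
  · rw [one_mul]; exact h
  · omega

theorem even_sum (hM : Lat M) (y0 : Fin 24 → ℤ) (hy0 : y0 ∈ M) (hodd0 : ∀ i, ¬ (2 : ℤ) ∣ y0 i)
    (y : Fin 24 → ℤ) (hy : y ∈ M) (he : IsEven y) : (8 : ℤ) ∣ ∑ i, sgn y0 i * y i := by
  have hdot := hM.dot y hy y0 hy0
  have hdiff : ∀ i, (8 : ℤ) ∣ y i * y0 i - sgn y0 i * y i := by
    intro i
    obtain ⟨a, ha⟩ := he i
    unfold sgn
    split_ifs with h1
    · obtain ⟨t, ht⟩ : ∃ t, y0 i = 1 + 4 * t := ⟨y0 i / 4, by omega⟩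
      exact ⟨a * t, by rw [ha, ht]; ring⟩
    · have := hodd0 i
      obtain ⟨t, ht⟩ : ∃ t, y0 i = -1 + 4 * t := ⟨(y0 i + 1) / 4, by omega⟩
      exact ⟨a * t, by rw [ha, ht]; ring⟩
  have h2 := Finset.dvd_sum (fun i (_ : i ∈ Finset.univ) => hdiff i)
  rw [Finset.sum_sub_distrib] at h2
  omega

theorem even_mem (hM : Lat M) (y0 : Fin 24 → ℤ) (hy0 : y0 ∈ M) (hodd0 : ∀ i, ¬ (2 : ℤ) ∣ y0 i)
    (y : Fin 24 → ℤ) (he : IsEven y) (hc : halfRed y ∈ code M)
    (h8 : (8 : ℤ) ∣ ∑ i, sgn y0 i * y i) : y ∈ M := by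
  obtain ⟨y', hy', he', hh⟩ := hc
  have h8' := even_sum hM y0 hy0 hodd0 y' hy' he'
  have hz : ∀ i, ∃ z, y i - y' i = 4 * z := by
    intro i
    have h1 := congrFun hh i
    simp only [halfRed] at h1
    rw [ZMod.intCast_eq_intCast_iff_dvd_sub] at h1
    obtain ⟨a, ha⟩ := he i
    obtain ⟨b, hb⟩ := he' i
    push_cast at h1
    exact ⟨(y i - y' i) / 4, by omega⟩
  choose z hz using hz
  have hsumz : (2 : ℤ) ∣ ∑ i, z i := by
    have h1 : ∑ i, sgn y0 i * y i - ∑ i, sgn y0 i * y' i = 4 * ∑ i, sgn y0 i * z i := by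
      rw [← Finset.sum_sub_distrib, Finset.mul_sum]
      apply Finset.sum_congr rfl
      intro i _
      rw [← mul_sub, hz i]; ring
    have h2 : (2 : ℤ) ∣ ∑ i, sgn y0 i * z i := by omega
    have h3 : (2 : ℤ) ∣ ∑ i, (sgn y0 i * z i - z i) := by
      apply Finset.dvd_sum
      intro i _
      rcases sgn_cases y0 i with h | h <;> rw [h]
      · exact ⟨0, by ring⟩
      · exact ⟨-z i, by ring⟩
    rw [Finset.sum_sub_distrib] at h3
    omega
  have h4 := four_mul_mem hM z hsumz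
  have : y = y' + fun i => 4 * z i := by
    funext i
    simp only [Pi.add_apply]
    have := hz i
    omega
  rw [this]
  exact M.add_mem hy' h4

theorem intCast_eq_of_mod (z : ZMod 2) (a : ℤ) (h : a % 2 = (z.val : ℤ) % 2) :
    (a : ZMod 2) = z := by
  have h1 : (a : ZMod 2) = (((z.val : ℕ) : ℤ) : ZMod 2) := by
    rw [ZMod.intCast_eq_intCast_iff_dvd_sub]
    push_cast
    omega
  rw [h1]
  simp

/-- the even vectors of the Leech lattice -/
theorem leech_even_iff (x : GolayPt → ℤ) (he : ∀ p, (2 : ℤ) ∣ x p) :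
    x ∈ leechLattice ↔
      (fun p => ((x p / 2 : ℤ) : ZMod 2)) ∈ golayCode ∧ (8 : ℤ) ∣ ∑ p, x p := by
  rw [mem_leechLattice_iff, mem_leechSet_iff]
  constructor
  · rintro ⟨m, w, hw, h1, h2⟩
    have hm : (2 : ℤ) ∣ m := by
      have := h1 none
      have := he none
      omega
    obtain ⟨k, hk⟩ := hm
    constructor
    · have hw' : ∀ p, (((x p / 2 - k : ℤ)) : ZMod 2) = w p := fun p =>
        intCast_eq_of_mod _ _ (by
          have := h1 p
          have := he p
          omega)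
      have hf : (fun p => ((x p / 2 : ℤ) : ZMod 2)) =
          w + (k : ZMod 2) • (1 : GolayPt → ZMod 2) := by
        funext p
        rw [Pi.add_apply, Pi.smul_apply, Pi.one_apply, smul_eq_mul, mul_one, ← hw' p,
          Int.cast_sub, sub_add_cancel]
      rw [hf]
      exact golayCode.add_mem hw (golayCode.smul_mem _ one_mem_golay)
    · omega
  · rintro ⟨hw, h8⟩
    refine ⟨0, _, hw, ?_, ?_⟩
    · intro p
      show x p % 4 = (0 + 2 * ((((x p / 2 : ℤ) : ZMod 2)).val : ℤ)) % 4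
      rw [ZMod.val_intCast]
      have := he p
      push_cast
      omega
    · omega

/-- an odd vector of the Leech lattice -/
theorem leech_odd_mem (x : GolayPt → ℤ) (h1 : ∀ p, x p % 4 = 1)
    (h16 : (16 : ℤ) ∣ ∑ p, x p ^ 2) : x ∈ leechLattice := by
  rw [mem_leechLattice_iff, mem_leechSet_iff]
  refine ⟨1, 0, golayCode.zero_mem, ?_, ?_⟩
  · intro p
    rw [h1 p]
    simp
  · have hex : ∀ p, ∃ t, x p = 1 + 4 * t := fun p => ⟨x p / 4, by have := h1 p; omega⟩
    choose t ht using hex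
    have hs1 : ∑ p, x p = 24 + 4 * ∑ p, t p := by
      rw [Finset.sum_congr rfl (fun p _ => ht p), Finset.sum_add_distrib, Finset.sum_const,
        ← Finset.mul_sum, Finset.card_univ, card_golayPt]
      simp
    have hs2 : ∑ p, x p ^ 2 = 24 + 8 * ∑ p, t p + 16 * ∑ p, t p ^ 2 := by
      have : ∀ p, x p ^ 2 = 1 + 8 * t p + 16 * t p ^ 2 := fun p => by rw [ht p]; ring
      rw [Finset.sum_congr rfl (fun p _ => this p), Finset.sum_add_distrib,
        Finset.sum_add_distrib, Finset.sum_const, ← Finset.mul_sum, ← Finset.mul_sum,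
        Finset.card_univ, card_golayPt]
      simp
    rw [hs2] at h16
    rw [hs1]
    omega

theorem leech_parity (x : GolayPt → ℤ) (hx : x ∈ leechLattice) (p q : GolayPt) :
    (2 : ℤ) ∣ x p - x q := by
  rw [mem_leechLattice_iff, mem_leechSet_iff] at hx
  obtain ⟨m, w, -, h1, -⟩ := hx
  have := h1 p
  have := h1 q
  omega

/-- transport of a vector by a signed permutation -/
def tr (e : Fin 24 ≃ GolayPt) (ε : Fin 24 → ℤ) (y : Fin 24 → ℤ) : GolayPt → ℤ :=
  fun p => ε (e.symm p) * y (e.symm p)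

theorem tr_add (e : Fin 24 ≃ GolayPt) (ε : Fin 24 → ℤ) (y y' : Fin 24 → ℤ) :
    tr e ε (y + y') = tr e ε y + tr e ε y' := by
  funext p
  simp only [tr, Pi.add_apply]
  ring

theorem tr_sub (e : Fin 24 ≃ GolayPt) (ε : Fin 24 → ℤ) (y y' : Fin 24 → ℤ) :
    tr e ε (y - y') = tr e ε y - tr e ε y' := by
  funext p
  simp only [tr, Pi.sub_apply]
  ring

theorem sum_tr (e : Fin 24 ≃ GolayPt) (ε : Fin 24 → ℤ) (y : Fin 24 → ℤ) :
    ∑ p, tr e ε y p = ∑ i, ε i * y i :=
  Equiv.sum_comp e.symm (fun i => ε i * y i)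

theorem sum_sq_tr (e : Fin 24 ≃ GolayPt) (ε : Fin 24 → ℤ) (hε : ∀ i, ε i = 1 ∨ ε i = -1)
    (y : Fin 24 → ℤ) : ∑ p, tr e ε y p ^ 2 = ∑ i, y i ^ 2 := by
  rw [← Equiv.sum_comp e.symm (fun i => y i ^ 2)]
  apply Finset.sum_congr rfl
  intro p _
  simp only [tr]
  rcases hε (e.symm p) with h | h <;> rw [h] <;> ring

/-- the main theorem on lattices in standard position -/
theorem lattice_char (hM : Lat M) (hcount : {y | y ∈ M ∧ nsq y = 32}.ncard = 196560) :
    ∃ (e : Fin 24 ≃ GolayPt) (ε : Fin 24 → ℤ), (∀ i, ε i = 1 ∨ ε i = -1) ∧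
      ∀ y : Fin 24 → ℤ, y ∈ M ↔ tr e ε y ∈ leechLattice := by
  obtain ⟨hdim, y0, hy0, hodd00⟩ := count_main hM hcount
  have hodd0 : ∀ i, ¬ (2 : ℤ) ∣ y0 i := by
    intro i
    have := hM.par y0 hy0 i 0
    omega
  obtain ⟨e, he⟩ := Cfsg.Agent.Lib.Helper10.GolayUnique.golay_unique (code M) hdim
    (code_orth hM) (code_four_dvd hM) (fun w hw h4 => by
      have hw0 : w ≠ 0 := by
        rintro rfl
        rw [hammingNorm_zero] at h4
        omega
      have := code_min hM w hw hw0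
      omega)
  refine ⟨e, sgn y0, sgn_cases y0, ?_⟩
  have hE : ∀ y, IsEven y → (y ∈ M ↔ tr e (sgn y0) y ∈ leechLattice) := by
    intro y hev
    have hev' : ∀ p, (2 : ℤ) ∣ tr e (sgn y0) y p := fun p =>
      Dvd.dvd.mul_left (hev _) _
    rw [leech_even_iff _ hev', sum_tr]
    have hcode : (fun p => ((tr e (sgn y0) y p / 2 : ℤ) : ZMod 2)) ∈ golayCode ↔
        halfRed y ∈ code M := by
      rw [he]
      have : (fun i => (fun p => ((tr e (sgn y0) y p / 2 : ℤ) : ZMod 2)) (e i)) = halfRed y := by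
        funext i
        simp only [tr, Equiv.symm_apply_apply, halfRed]
        rcases sgn_cases y0 i with h | h <;> rw [h]
        · rw [one_mul]
        · obtain ⟨a, ha⟩ := hev i
          rw [ZMod.intCast_eq_intCast_iff_dvd_sub]
          push_cast
          omega
      rw [this]
    rw [hcode]
    constructor
    · intro hy
      exact ⟨⟨y, hy, hev, rfl⟩, even_sum hM y0 hy0 hodd0 y hy hev⟩
    · rintro ⟨hc, h8⟩
      exact even_mem hM y0 hy0 hodd0 y hev hc h8
  have hy0L : tr e (sgn y0) y0 ∈ leechLattice :=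
    leech_odd_mem _ (fun p => sgn_mul_mod y0 _ (hodd0 _)) (by
      rw [sum_sq_tr e _ (sgn_cases y0)]
      exact hM.sq16 y0 hy0)
  have key : ∀ y : Fin 24 → ℤ, (∀ i, (2 : ℤ) ∣ y i - y 0) →
      (y ∈ M ↔ tr e (sgn y0) y ∈ leechLattice) := by
    intro y hpar
    by_cases h0 : (2 : ℤ) ∣ y 0
    · exact hE y (fun i => by have := hpar i; omega)
    · have hev : IsEven (y - y0) := by
        intro i
        simp only [Pi.sub_apply]
        have := hpar i
        have := hodd0 i
        omega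
      have h1 := hE (y - y0) hev
      rw [tr_sub] at h1
      constructor
      · intro hy
        have := (h1.mp (M.sub_mem hy hy0))
        have h2 := leechLattice.add_mem this hy0L
        rwa [sub_add_cancel] at h2
      · intro hT
        have := h1.mpr (leechLattice.sub_mem hT hy0L)
        have h2 := M.add_mem this hy0
        rwa [sub_add_cancel] at h2
  intro y
  constructor
  · intro hy
    exact (key y (fun i => hM.par y hy i 0)).mp hy
  · intro hT
    refine (key y (fun i => ?_)).mpr hT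
    have h1 := leech_parity _ hT (e i) (e 0)
    simp only [tr, Equiv.symm_apply_apply] at h1
    rcases sgn_cases y0 i with h | h <;> rcases sgn_cases y0 0 with h' | h' <;>
      rw [h, h'] at h1 <;> omega

end Cfsg.Agent.Lib.Helper14.LeechChar
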