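import Mathlib
import Cfsg.Agent.Lib.Helper14.LeechCharC
import Cfsg.Agent.Lib.Helper14.LeechCharG

set_option autoImplicit false

/-! Characterisation of the Leech lattice: the final statement. -/

namespace Cfsg.Agent.Lib.Helper14.LeechChar

open Matrix Cfsg Cfsg.Agent.Lib.Helper28.Golay24 Cfsg.Agent.Lib.Helper14.Leech

/-- an even lattice of rank 24 without roots and with the numbers of vectors of norms 4, 6, 8 of
the Leech lattice is the Leech lattice -/
theorem leech_char (B : Matrix (Fin 24) (Fin 24) ℤ) (h : Hyp B)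
    (h4 : (shell B 4).ncard = 196560) (h6 : (shell B 6).ncard = 16773120)
    (h8 : (shell B 8).ncard = 398034000) :
    ∃ f : (Fin 24 → ℤ) ≃+ leechLattice, ∀ v : Fin 24 → ℤ,
      sqNorm ((f v : leechLattice) : GolayPt → ℤ) = 8 * qf B v := by
  obtain ⟨x, hxn, hxo, hxc⟩ := exists_frame h h4 h6 h8
  have hx : Frame B x := ⟨hxn, hxo, hxc⟩
  have hM : Lat (coordLattice B x) :=
    ⟨M1 h x hx, M2a x hx, M2b x hx, M3 h x hx, M4 h x hx, M5 h x hx⟩
  obtain ⟨e, ε, hε, hiff⟩ := lattice_char hM (M6 h x hx h4)
  have hεε : ∀ i, ε i * ε i = 1 := by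
    intro i
    rcases hε i with h3 | h3 <;> rw [h3] <;> norm_num
  have hmem : ∀ v, tr e ε (coord B x v) ∈ leechLattice := fun v => (hiff _).mp ⟨v, rfl⟩
  let g : (Fin 24 → ℤ) →+ leechLattice :=
    { toFun := fun v => ⟨tr e ε (coord B x v), hmem v⟩
      map_zero' := by
        apply Subtype.ext
        show tr e ε (coord B x 0) = 0
        rw [coord_zero]
        funext p
        simp [tr]
      map_add' := fun v w => by
        apply Subtype.ext
        show tr e ε (coord B x (v + w)) = tr e ε (coord B x v) + tr e ε (coord B x w)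
        rw [coord_add, tr_add] }
  have hg : ∀ v, ((g v : leechLattice) : GolayPt → ℤ) = tr e ε (coord B x v) := fun v => rfl
  have hinj : Function.Injective g := by
    intro v w hvw
    have h1 : tr e ε (coord B x v) = tr e ε (coord B x w) := by
      rw [← hg, ← hg, hvw]
    apply coord_injective h x hx
    funext i
    have h2 := congrFun h1 (e i)
    simp only [tr, Equiv.symm_apply_apply] at h2
    rcases hε i with h3 | h3 <;> rw [h3] at h2 <;> omega
  have hsurj : Function.Surjective g := by
    rintro ⟨l, hl⟩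
    have hback : tr e ε (fun i => ε i * l (e i)) = l := by
      funext p
      simp only [tr, Equiv.apply_symm_apply]
      rw [← mul_assoc, hεε, one_mul]
    have hy : (fun i => ε i * l (e i)) ∈ coordLattice B x := by
      rw [hiff, hback]
      exact hl
    obtain ⟨v, hv⟩ := hy
    refine ⟨v, Subtype.ext ?_⟩
    rw [hg, hv, hback]
  refine ⟨AddEquiv.ofBijective g ⟨hinj, hsurj⟩, fun v => ?_⟩
  show sqNorm (tr e ε (coord B x v)) = 8 * qf B v
  unfold sqNorm
  rw [sum_sq_tr e ε hε, coord_sq h x hx]

end Cfsg.Agent.Lib.Helper14.LeechChar
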