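import Mathlib

set_option autoImplicit false

/-! Double counting for an invariant relation between two sets on which a group acts, when the
group is transitive on the first set and a point stabiliser is transitive on the related
elements of the second. -/

namespace Cfsg.Agent.Lib.Helper14.PairCount

open MulAction

variable {G A B : Type*} [Group G] [MulAction G A] [MulAction G B]

/-- the orbit of `b0` times the number of `a` related to `b0` equals the number of `a` times the
number of `b` related to `a0` -/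
theorem orbit_mul_card (R : A → B → Prop) (hR : ∀ (g : G) (a : A) (b : B), R a b → R (g • a) (g • b))
    (htr : ∀ a a' : A, ∃ g : G, g • a = a') (a0 : A) (b0 : B) (h0 : R a0 b0)
    (hst : ∀ b b', R a0 b → R a0 b' → ∃ g : G, g • a0 = a0 ∧ g • b = b') :
    (orbit G b0).ncard * {a | R a b0}.ncard = Nat.card A * {b | R a0 b}.ncard := by
  classical
  have horb : ∀ a b, R a b → b ∈ orbit G b0 := by
    intro a b h
    obtain ⟨g, hg⟩ := htr a a0
    have h1 : R a0 (g • b) := hg ▸ hR g a b h
    obtain ⟨k, -, hk2⟩ := hst (g • b) b0 h1 h0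
    refine ⟨g⁻¹ * k⁻¹, ?_⟩
    show (g⁻¹ * k⁻¹) • b0 = b
    rw [mul_smul, ← hk2, inv_smul_smul, inv_smul_smul]
  have hR' : ∀ (g : G) (a : A) (b : B), R (g • a) (g • b) → R a b := by
    intro g a b h
    have := hR g⁻¹ _ _ h
    rwa [inv_smul_smul, inv_smul_smul] at this
  choose ga hga using fun a => htr a a0
  have hb : ∀ b : orbit G b0, ∃ g : G, g • b0 = b.1 := fun b => b.2
  choose gb hgb using hb
  have e1 : Nat.card {q : A × B // R q.1 q.2} = Nat.card A * {b | R a0 b}.ncard := by
    rw [← Nat.card_coe_set_eq, ← Nat.card_prod]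
    refine Nat.card_congr
      ⟨fun q => (q.1.1, ⟨ga q.1.1 • q.1.2, ?_⟩), fun p => ⟨(p.1, (ga p.1)⁻¹ • p.2.1), ?_⟩, ?_, ?_⟩
    · have := hR (ga q.1.1) _ _ q.2
      rw [hga] at this
      exact this
    · have h : R a0 p.2.1 := p.2.2
      apply hR' (ga p.1)
      rw [smul_inv_smul, hga]
      exact h
    · intro q
      apply Subtype.ext
      apply Prod.ext
      · rfl
      · show (ga q.1.1)⁻¹ • (ga q.1.1 • q.1.2) = q.1.2
        rw [inv_smul_smul]
    · intro p
      apply Prod.ext
      · rfl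
      · apply Subtype.ext
        show ga p.1 • ((ga p.1)⁻¹ • p.2.1) = p.2.1
        rw [smul_inv_smul]
  have e2 : Nat.card {q : A × B // R q.1 q.2} = (orbit G b0).ncard * {a | R a b0}.ncard := by
    rw [← Nat.card_coe_set_eq, ← Nat.card_coe_set_eq, ← Nat.card_prod]
    refine Nat.card_congr
      ⟨fun q => (⟨q.1.2, horb _ _ q.2⟩, ⟨(gb ⟨q.1.2, horb _ _ q.2⟩)⁻¹ • q.1.1, ?_⟩),
        fun p => ⟨(gb p.1 • p.2.1, p.1.1), ?_⟩, ?_, ?_⟩
    · apply hR' (gb ⟨q.1.2, horb _ _ q.2⟩)
      rw [smul_inv_smul, hgb]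
      exact q.2
    · have h : R p.2.1 b0 := p.2.2
      have := hR (gb p.1) _ _ h
      rw [hgb] at this
      exact this
    · intro q
      apply Subtype.ext
      apply Prod.ext
      · show gb ⟨q.1.2, horb _ _ q.2⟩ • ((gb ⟨q.1.2, horb _ _ q.2⟩)⁻¹ • q.1.1) = q.1.1
        rw [smul_inv_smul]
      · rfl
    · intro p
      apply Prod.ext
      · rfl
      · apply Subtype.ext
        show (gb ⟨p.1.1, _⟩)⁻¹ • (gb p.1 • p.2.1) = p.2.1
        exact inv_smul_smul _ _
  rw [← e1, ← e2]

end Cfsg.Agent.Lib.Helper14.PairCount
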