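import Mathlib
import Cfsg.Prelude.Def_Sporadic_a
import Cfsg.Agent.S0405
import Cfsg.Agent.Lib.Helper14.LeechCo2
import Cfsg.Agent.Lib.Helper14.PairCount
import Cfsg.Agent.Lib.Helper3.Golay.M24List

set_option autoImplicit false

/-! The orbits of the Higman–Sims group `Stab(U0, T0)` on the minimal vectors `z` with
`U0 · z = 16`: double counting against the 100 points. -/

namespace Cfsg.Agent.Lib.Helper14.LeechCo3R5

open Cfsg Cfsg.Agent.Lib.Helper14.Golay Cfsg.Agent.Lib.Helper14.Leech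
  Cfsg.Agent.Lib.Helper14.LeechCount Cfsg.Agent.Lib.Helper14.LeechOrbit
  Cfsg.Agent.Lib.Helper14.LeechMono Cfsg.Agent.Lib.Helper14.LeechMinCount
  Cfsg.Agent.Lib.Helper14.LeechPairs Cfsg.Agent.Lib.Helper14.LeechHS
  Cfsg.Agent.Lib.Helper14.LeechMcL Cfsg.Agent.Lib.Helper14.LeechCo2
open Cfsg.Agent.Lib.Helper3.Golay (wordOf codeMask pc24 bitSet idx)
open Cfsg.Agent.S1578 (u0 u0_mem u0_norm dot_u0)
open Cfsg.Agent.S1583 (ws ws_mem ws_norm dot_u0_ws dot_ws)
open Cfsg.Agent.S1584 (U0 WS V0 yO permEl)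
open Cfsg.Agent.S1634 (smul_add' coe_add')
open Cfsg.Agent.S0405 (G0_fix S100 x0 trans_S100 card_S100)

local notation "HG" => Cfsg.Agent.S0405.G0
open MulAction
open scoped Pointwise

/-! ### basics -/

set_option maxRecDepth 100000 in
theorem t0_eq : ∀ i : GolayPt, t0 i = u0 i + ws i := by decide +kernel

theorem T0_eq : T0 = U0 + WS := Subtype.ext (funext t0_eq)

theorem G0_fix_T0 (g : ↥HG) : g.1 • T0 = T0 := by
  rw [T0_eq, smul_add', (G0_fix g).1, (G0_fix g).2]

/-- the relation between a point `p` and a vector `z` of the class `(α, β)` -/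
def Rel (α β a : ℤ) (p z : ↥leechLattice) : Prop :=
  nrm z = 32 ∧ ip U0 z = 16 ∧ ip T0 z = 4 * α - 4 * β ∧ ip p z = a

theorem Rel_smul (α β a : ℤ) (g : ↥HG) (p z : ↥leechLattice) (h : Rel α β a p z) :
    Rel α β a (g.1 • p) (g.1 • z) := by
  obtain ⟨h1, h2, h3, h4⟩ := h
  exact ⟨by rw [nrm_smul, h1], by rw [ip_fix g.1 U0 z (G0_fix g).1, h2],
    by rw [ip_fix g.1 T0 z (G0_fix_T0 g), h3], by rw [ip_smul, h4]⟩

/-- the coordinates at `∞` and `0` of a vector related to the base point -/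
theorem Rel_coords (α β : ℤ) (z : ↥leechLattice) (h : Rel α β (4 * α + 4 * β) V0 z) :
    (z : GolayPt → ℤ) none = α ∧ (z : GolayPt → ℤ) (some 0) = β := by
  obtain ⟨-, -, h3, h4⟩ := h
  have e3 : dotInt t0 (z : GolayPt → ℤ) = 4 * α - 4 * β := h3
  have e4 : dotInt v0 (z : GolayPt → ℤ) = 4 * α + 4 * β := h4
  rw [dot_t0] at e3
  rw [dot_v0] at e4
  constructor <;> omega

/-! ### classification -/

theorem classify_even (z : GolayPt → ℤ) (hz : z ∈ leechLattice) (hn : sqNorm z = 32)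
    (hev : z (some 0) % 2 = 0) :
    (∃ w : GolayPt → ZMod 2, ∃ U : Finset GolayPt, w ∈ golayCode ∧ (support₂ w).card = 8 ∧
        U ⊆ support₂ w ∧ Even U.card ∧ z = Psi 2 ⟨support₂ w, U⟩) ∨
    (∃ T U : Finset GolayPt, T.card = 2 ∧ U ⊆ T ∧ z = Psi 4 ⟨T, U⟩) := by
  classical
  have hmem : z ∈ {x : GolayPt → ℤ | x ∈ leechLattice ∧ sqNorm x = 32} := ⟨hz, hn⟩
  rw [min_eq, Finset.mem_coe, Finset.mem_union, Finset.mem_union] at hmem
  rcases hmem with (hm | hm) | hm
  · exfalso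
    obtain ⟨q, -, rfl⟩ := Finset.mem_image.mp hm
    have := PhiO_odd q (some 0)
    omega
  · left
    obtain ⟨⟨w, U⟩, hq, rfl⟩ := Finset.mem_image.mp hm
    rw [mem_P2] at hq
    obtain ⟨⟨hw, h8⟩, hU, hev⟩ := hq
    exact ⟨w, U, hw, h8, hU, hev, rfl⟩
  · right
    obtain ⟨⟨T, U⟩, hq, rfl⟩ := Finset.mem_image.mp hm
    rw [mem_P4] at hq
    exact ⟨T, U, hq.1, hq.2, rfl⟩

/-- the vectors of the classes of octad shape -/
theorem classify_oct (z : GolayPt → ℤ) (hz : z ∈ leechLattice) (hn : sqNorm z = 32)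
    (hu : dotInt u0 z = 16) (α β : ℤ) (hα : α = 0 ∨ α = 2) (hβ : β = 0 ∨ β = 2)
    (h1 : z none = α) (h2 : z (some 0) = β) :
    ∃ O ∈ octads, ∃ U : Finset GolayPt, U ⊆ O ∧ (none ∈ O ↔ α = 2) ∧
      ((some 0 : GolayPt) ∈ O ↔ β = 2) ∧ none ∉ U ∧ (some 0 : GolayPt) ∉ U ∧
      (U.card : ℤ) = α ∧ z = Psi 2 ⟨O, U⟩ := by
  rcases classify_even z hz hn (by rw [h2]; rcases hβ with rfl | rfl <;> norm_num) with
    ⟨w, U, hw, h8, hU, -, rfl⟩ | ⟨T, U, hT, hU, rfl⟩
  · rw [dot_u0, sum_Psi 2 _ _ hU, h8] at hu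
    rw [Psi_apply] at h1 h2 hu
    refine ⟨support₂ w, ⟨⟨w, hw, rfl⟩, h8⟩, U, hU, ?_, ?_, ?_, ?_, ?_, rfl⟩
    · by_cases hO : none ∈ support₂ w
      · rw [if_pos hO] at h1
        refine ⟨fun _ => ?_, fun _ => hO⟩
        split_ifs at h1 <;> omega
      · rw [if_neg hO] at h1
        refine ⟨fun h => absurd h hO, fun h => ?_⟩
        omega
    · by_cases hO : (some 0 : GolayPt) ∈ support₂ w
      · rw [if_pos hO] at h2
        refine ⟨fun _ => ?_, fun _ => hO⟩
        split_ifs at h2 <;> omega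
      · rw [if_neg hO] at h2
        refine ⟨fun h => absurd h hO, fun h => ?_⟩
        omega
    · intro h
      have := hU h
      rw [if_pos this, if_pos h] at h1
      omega
    · intro h
      have := hU h
      rw [if_pos this, if_pos h] at h2
      omega
    · push_cast at hu
      split_ifs at hu h1 <;> omega
  · exfalso
    rw [dot_u0, sum_Psi 4 _ _ hU, hT] at hu
    rw [Psi_apply] at h1 hu
    push_cast at hu
    split_ifs at hu h1 <;> omega

/-- the vectors of the class of shape `(4, -4)` -/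
theorem classify_c16 (z : GolayPt → ℤ) (hz : z ∈ leechLattice) (hn : sqNorm z = 32)
    (hu : dotInt u0 z = 16) (h1 : z none = 4) (h2 : z (some 0) = 0) :
    ∃ j : GolayPt, j ≠ none ∧ j ≠ some 0 ∧ z = Psi 4 ⟨{none, j}, {j}⟩ := by
  rcases classify_even z hz hn (by rw [h2]; norm_num) with
    ⟨w, U, hw, h8, hU, -, rfl⟩ | ⟨T, U, hT, hU, rfl⟩
  · exfalso
    rw [Psi_apply] at h1
    split_ifs at h1 <;> omega
  · rw [dot_u0, sum_Psi 4 _ _ hU, hT] at hu
    rw [Psi_apply] at h1 h2 hu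
    have hT1 : none ∈ T := by
      by_contra h
      rw [if_neg h] at h1
      omega
    have hU1 : none ∉ U := by
      intro h
      rw [if_pos hT1, if_pos h] at h1
      omega
    have hT0 : (some 0 : GolayPt) ∉ T := by
      intro h
      rw [if_pos h] at h2
      split_ifs at h2 <;> omega
    rw [if_pos hT1, if_neg hU1] at hu
    have hUc : U.card = 1 := by
      push_cast at hu
      omega
    obtain ⟨j, rfl⟩ := Finset.card_eq_one.mp hUc
    have hjT : j ∈ T := hU (Finset.mem_singleton_self j)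
    have hj1 : j ≠ none := fun h => hU1 (h ▸ Finset.mem_singleton_self j)
    have hj0 : j ≠ some 0 := fun h => hT0 (h ▸ hjT)
    have hTeq : T = {none, j} := by
      symm
      apply Finset.eq_of_subset_of_card_le
      · intro x hx
        simp only [Finset.mem_insert, Finset.mem_singleton] at hx
        rcases hx with rfl | rfl <;> assumption
      · rw [hT, Finset.card_pair hj1.symm]
    exact ⟨j, hj1, hj0, by rw [hTeq]⟩

/-! ### elements of the group from permutations -/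

theorem Psi_perm_gen (c : ℤ) (π : Equiv.Perm GolayPt) (O U : Finset GolayPt) (i : GolayPt) :
    Psi c ⟨O, U⟩ (π.symm i) = Psi c ⟨π • O, π • U⟩ i := by
  rw [Psi_apply, Psi_apply]
  simp only [symm_mem_iff]

/-- a permutation of the code group fixing `∞` and `0` moves `z` to `z'` -/
theorem hst_of_perm (z z' : ↥leechLattice) (π : Equiv.Perm GolayPt) (hπ : π ∈ M24)
    (h1 : π none = none) (h2 : π (some 0) = some 0)
    (hz : ∀ i, (z : GolayPt → ℤ) (π.symm i) = (z' : GolayPt → ℤ) i) :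
    ∃ g : ↥HG, g • x0 = x0 ∧ g • z = z' := by
  refine ⟨⟨permEl π hπ, ?_, ?_⟩, ?_, ?_⟩
  · exact Cfsg.Agent.S1584.permEl_eq π hπ _ _ (Cfsg.Agent.S1584.u0_perm π h1)
  · exact Cfsg.Agent.S1584.permEl_eq π hπ _ _ (Cfsg.Agent.S1584.ws_perm π h2)
  · apply Subtype.ext
    exact Cfsg.Agent.S1584.permEl_eq π hπ _ _ (Cfsg.Agent.S1584.v0_perm π h1 h2)
  · exact Cfsg.Agent.S1584.permEl_eq π hπ _ _ hz

theorem Rel_coords' (α β a : ℤ) (ha : a = 4 * α + 4 * β) (z : ↥leechLattice)
    (h : Rel α β a V0 z) :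
    (z : GolayPt → ℤ) none = α ∧ (z : GolayPt → ℤ) (some 0) = β :=
  Rel_coords α β z (ha ▸ h)

/-! ### transitivity of the point stabiliser on the related vectors -/

theorem hst16 (z z' : ↥leechLattice) (h : Rel 4 0 16 V0 z) (h' : Rel 4 0 16 V0 z') :
    ∃ g : ↥HG, g • x0 = x0 ∧ g • z = z' := by
  obtain ⟨c1, c2⟩ := Rel_coords' 4 0 16 (by norm_num) z h
  obtain ⟨c1', c2'⟩ := Rel_coords' 4 0 16 (by norm_num) z' h'
  obtain ⟨j, hj1, hj0, e⟩ := classify_c16 z.1 z.2 h.1 h.2.1 c1 c2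
  obtain ⟨j', hj1', hj0', e'⟩ := classify_c16 z'.1 z'.2 h'.1 h'.2.1 c1' c2'
  obtain ⟨σ, hσ, hmap⟩ := Cfsg.Agent.Lib.Helper3.Golay.exists_map_list [none, some 0, j]
    [none, some 0, j']
    (by
      simp only [List.nodup_cons, List.mem_cons, List.not_mem_nil, or_false, not_or,
        List.nodup_nil, and_true, not_false_eq_true]
      exact ⟨⟨by decide, hj1.symm⟩, hj0.symm⟩)
    (by
      simp only [List.nodup_cons, List.mem_cons, List.not_mem_nil, or_false, not_or,
        List.nodup_nil, and_true, not_false_eq_true]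
      exact ⟨⟨by decide, hj1'.symm⟩, hj0'.symm⟩) rfl (by norm_num)
  simp only [List.map_cons, List.map_nil, List.cons.injEq, and_true] at hmap
  obtain ⟨m1, m2, m3⟩ := hmap
  refine hst_of_perm z z' σ hσ m1 m2 ?_
  intro i
  have hT : σ • ({none, j} : Finset GolayPt) = {none, j'} := by
    rw [Finset.smul_finset_insert, Finset.smul_finset_singleton, Equiv.Perm.smul_def,
      Equiv.Perm.smul_def, m1, m3]
  have hU : σ • ({j} : Finset GolayPt) = {j'} := by
    rw [Finset.smul_finset_singleton, Equiv.Perm.smul_def, m3]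
  rw [e, e', Psi_perm_gen, hT, hU]

theorem hstm8 (z z' : ↥leechLattice) (h : Rel 0 2 8 V0 z) (h' : Rel 0 2 8 V0 z') :
    ∃ g : ↥HG, g • x0 = x0 ∧ g • z = z' := by
  obtain ⟨c1, c2⟩ := Rel_coords' 0 2 8 (by norm_num) z h
  obtain ⟨c1', c2'⟩ := Rel_coords' 0 2 8 (by norm_num) z' h'
  obtain ⟨O, hO, U, hU, o1, o2, -, -, hc, e⟩ := classify_oct z.1 z.2 h.1 h.2.1 0 2
    (Or.inl rfl) (Or.inr rfl) c1 c2
  obtain ⟨O', hO', U', hU', o1', o2', -, -, hc', e'⟩ := classify_oct z'.1 z'.2 h'.1 h'.2.1 0 2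
    (Or.inl rfl) (Or.inr rfl) c1' c2'
  have hUe : U = ∅ := Finset.card_eq_zero.mp (by exact_mod_cast hc)
  have hUe' : U' = ∅ := Finset.card_eq_zero.mp (by exact_mod_cast hc')
  subst hUe hUe'
  have n1 : none ∉ O := fun hh => by have := o1.mp hh; norm_num at this
  have n1' : none ∉ O' := fun hh => by have := o1'.mp hh; norm_num at this
  have n2 : (some 0 : GolayPt) ∈ O := o2.mpr rfl
  have n2' : (some 0 : GolayPt) ∈ O' := o2'.mpr rfl
  have hex : ∀ Q : Finset GolayPt, Q ∈ octads → ∃ j ∈ Q, j ≠ (some 0 : GolayPt) := by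
    intro Q hQ
    have hcard : 1 < Q.card := by rw [hQ.2]; norm_num
    obtain ⟨a, ha, b, hb, hab⟩ := Finset.one_lt_card.mp hcard
    by_cases h0 : a = some 0
    · exact ⟨b, hb, fun hb0 => hab (h0.trans hb0.symm)⟩
    · exact ⟨a, ha, h0⟩
  obtain ⟨j, hj, hj0⟩ := hex O hO
  obtain ⟨j', hj', hj0'⟩ := hex O' hO'
  obtain ⟨σ, hσ, m1, m2, hOO, -⟩ :=
    Cfsg.Agent.Lib.Helper14.M22Trans.exists_map_out hO hO' n1 n2 n1' n2' hj hj0 hj' hj0'
  refine hst_of_perm z z' σ hσ m1 m2 ?_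
  intro i
  rw [e, e', Psi_perm_gen, hOO, Finset.smul_finset_empty]

theorem hst0 (z z' : ↥leechLattice) (h : Rel 0 0 0 V0 z) (h' : Rel 0 0 0 V0 z') :
    ∃ g : ↥HG, g • x0 = x0 ∧ g • z = z' := by
  obtain ⟨c1, c2⟩ := Rel_coords' 0 0 0 (by norm_num) z h
  obtain ⟨c1', c2'⟩ := Rel_coords' 0 0 0 (by norm_num) z' h'
  obtain ⟨O, hO, U, hU, o1, o2, -, -, hc, e⟩ := classify_oct z.1 z.2 h.1 h.2.1 0 0
    (Or.inl rfl) (Or.inl rfl) c1 c2
  obtain ⟨O', hO', U', hU', o1', o2', -, -, hc', e'⟩ := classify_oct z'.1 z'.2 h'.1 h'.2.1 0 0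
    (Or.inl rfl) (Or.inl rfl) c1' c2'
  have hUe : U = ∅ := Finset.card_eq_zero.mp (by exact_mod_cast hc)
  have hUe' : U' = ∅ := Finset.card_eq_zero.mp (by exact_mod_cast hc')
  subst hUe hUe'
  have n1 : none ∉ O := fun hh => by have := o1.mp hh; norm_num at this
  have n1' : none ∉ O' := fun hh => by have := o1'.mp hh; norm_num at this
  have n2 : (some 0 : GolayPt) ∉ O := fun hh => by have := o2.mp hh; norm_num at this
  have n2' : (some 0 : GolayPt) ∉ O' := fun hh => by have := o2'.mp hh; norm_num at this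
  obtain ⟨σ, hσ, m1, m2, hOO⟩ :=
    Cfsg.Agent.Lib.Helper14.M22Trans.exists_map_avoid hO hO' (by decide : (none : GolayPt) ≠ some 0)
      n1 n2 n1' n2'
  refine hst_of_perm z z' σ hσ m1 m2 ?_
  intro i
  rw [e, e', Psi_perm_gen, hOO, Finset.smul_finset_empty]

theorem hst8 (z z' : ↥leechLattice) (h : Rel 2 0 8 V0 z) (h' : Rel 2 0 8 V0 z') :
    ∃ g : ↥HG, g • x0 = x0 ∧ g • z = z' := by
  obtain ⟨c1, c2⟩ := Rel_coords' 2 0 8 (by norm_num) z h
  obtain ⟨c1', c2'⟩ := Rel_coords' 2 0 8 (by norm_num) z' h'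
  obtain ⟨O, hO, U, hU, o1, o2, u1, -, hc, e⟩ := classify_oct z.1 z.2 h.1 h.2.1 2 0
    (Or.inr rfl) (Or.inl rfl) c1 c2
  obtain ⟨O', hO', U', hU', o1', o2', u1', -, hc', e'⟩ := classify_oct z'.1 z'.2 h'.1 h'.2.1 2 0
    (Or.inr rfl) (Or.inl rfl) c1' c2'
  have hUc : U.card = 2 := by exact_mod_cast hc
  have hUc' : U'.card = 2 := by exact_mod_cast hc'
  obtain ⟨s, t, hst, rfl⟩ := Finset.card_eq_two.mp hUc
  obtain ⟨s', t', hst', rfl⟩ := Finset.card_eq_two.mp hUc'
  have n1 : none ∈ O := o1.mpr rfl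
  have n1' : none ∈ O' := o1'.mpr rfl
  have n2 : (some 0 : GolayPt) ∉ O := fun hh => by have := o2.mp hh; norm_num at this
  have n2' : (some 0 : GolayPt) ∉ O' := fun hh => by have := o2'.mp hh; norm_num at this
  have hs : s ∈ O := hU (by simp)
  have ht : t ∈ O := hU (by simp)
  have hs' : s' ∈ O' := hU' (by simp)
  have ht' : t' ∈ O' := hU' (by simp)
  have hs1 : s ≠ none := fun hh => u1 (by rw [← hh]; simp)
  have ht1 : t ≠ none := fun hh => u1 (by rw [← hh]; simp)
  have hs1' : s' ≠ none := fun hh => u1' (by rw [← hh]; simp)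
  have ht1' : t' ≠ none := fun hh => u1' (by rw [← hh]; simp)
  obtain ⟨b0, b1, b2, -, -, -, -, -⟩ := Cfsg.Agent.Lib.Helper14.M22Trans.base_facts
  have hnd : [Cfsg.Agent.Lib.Helper3.Golay.β 0, Cfsg.Agent.Lib.Helper3.Golay.β 1,
      Cfsg.Agent.Lib.Helper3.Golay.β 2].Nodup := by decide
  have hmem : ∀ x ∈ [Cfsg.Agent.Lib.Helper3.Golay.β 0, Cfsg.Agent.Lib.Helper3.Golay.β 1,
      Cfsg.Agent.Lib.Helper3.Golay.β 2], x ∈ bitSet Cfsg.Agent.Lib.Helper3.Golay.O0 := by
    intro x hx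
    simp only [List.mem_cons, List.not_mem_nil, or_false] at hx
    rcases hx with rfl | rfl | rfl
    · exact b0
    · exact b1
    · exact b2
  obtain ⟨τ, hτ, hτO, hmap, hτp⟩ := Cfsg.Agent.Lib.Helper3.Golay.exists_map_octad_list_out hO
    [Cfsg.Agent.Lib.Helper3.Golay.β 0, Cfsg.Agent.Lib.Helper3.Golay.β 1,
      Cfsg.Agent.Lib.Helper3.Golay.β 2] [none, s, t] hnd
    (by
      simp only [List.nodup_cons, List.mem_cons, List.not_mem_nil, or_false, not_or,
        List.nodup_nil, and_true, not_false_eq_true]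
      exact ⟨⟨hs1.symm, ht1.symm⟩, hst⟩) rfl (by norm_num) hmem
    (by
      intro x hx
      simp only [List.mem_cons, List.not_mem_nil, or_false] at hx
      rcases hx with rfl | rfl | rfl
      · exact n1
      · exact hs
      · exact ht) n2
  obtain ⟨τ', hτ', hτO', hmap', hτp'⟩ := Cfsg.Agent.Lib.Helper3.Golay.exists_map_octad_list_out hO'
    [Cfsg.Agent.Lib.Helper3.Golay.β 0, Cfsg.Agent.Lib.Helper3.Golay.β 1,
      Cfsg.Agent.Lib.Helper3.Golay.β 2] [none, s', t'] hnd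
    (by
      simp only [List.nodup_cons, List.mem_cons, List.not_mem_nil, or_false, not_or,
        List.nodup_nil, and_true, not_false_eq_true]
      exact ⟨⟨hs1'.symm, ht1'.symm⟩, hst'⟩) rfl (by norm_num) hmem
    (by
      intro x hx
      simp only [List.mem_cons, List.not_mem_nil, or_false] at hx
      rcases hx with rfl | rfl | rfl
      · exact n1'
      · exact hs'
      · exact ht') n2'
  simp only [List.map_cons, List.map_nil, List.cons.injEq, and_true] at hmap hmap'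
  have m1 : (τ' * τ⁻¹) none = none := by
    rw [Equiv.Perm.mul_apply, Equiv.Perm.inv_eq_iff_eq.mpr hmap.1.symm, hmap'.1]
  have m2 : (τ' * τ⁻¹) (some 0) = some 0 := by
    rw [Equiv.Perm.mul_apply, Equiv.Perm.inv_eq_iff_eq.mpr hτp.symm, hτp']
  have m3 : (τ' * τ⁻¹) s = s' := by
    rw [Equiv.Perm.mul_apply, Equiv.Perm.inv_eq_iff_eq.mpr hmap.2.1.symm, hmap'.2.1]
  have m4 : (τ' * τ⁻¹) t = t' := by
    rw [Equiv.Perm.mul_apply, Equiv.Perm.inv_eq_iff_eq.mpr hmap.2.2.symm, hmap'.2.2]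
  have hOO : (τ' * τ⁻¹) • O = O' := by
    rw [mul_smul, ← hτO, inv_smul_smul, hτO']
  have hUU : (τ' * τ⁻¹) • ({s, t} : Finset GolayPt) = {s', t'} := by
    rw [Finset.smul_finset_insert, Finset.smul_finset_singleton, Equiv.Perm.smul_def,
      Equiv.Perm.smul_def, m3, m4]
  refine hst_of_perm z z' (τ' * τ⁻¹) (M24.mul_mem hτ' (M24.inv_mem hτ)) m1 m2 ?_
  intro i
  rw [e, e', Psi_perm_gen, hOO, hUU]

/-! ### counting the vectors related to the base point -/

/-- the conditions on `z`, in coordinates -/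
def q (α β : ℤ) (z : GolayPt → ℤ) : Prop :=
  dotInt u0 z = 16 ∧ dotInt t0 z = 4 * α - 4 * β ∧ dotInt v0 z = 4 * α + 4 * β

instance (α β : ℤ) : DecidablePred (q α β) := fun z => by unfold q; infer_instance

theorem q_coords (α β : ℤ) (z : GolayPt → ℤ) (h : q α β z) : z none = α ∧ z (some 0) = β := by
  obtain ⟨-, h3, h4⟩ := h
  rw [dot_t0] at h3
  rw [dot_v0] at h4
  constructor <;> omega

theorem Rel_iff_q (α β : ℤ) (z : ↥leechLattice) :
    Rel α β (4 * α + 4 * β) V0 z ↔ sqNorm (z : GolayPt → ℤ) = 32 ∧ q α β (z : GolayPt → ℤ) :=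
  Iff.rfl

theorem ncard_Rel (α β : ℤ) :
    {z : ↥leechLattice | Rel α β (4 * α + 4 * β) V0 z}.ncard
      = (PO.filter (fun p => q α β (PhiO p))).card + (P2.filter (fun p => q α β (f2 p))).card
        + (P4.filter (fun p => q α β (Psi 4 p))).card :=
  ncard_sub_filter (q α β)

theorem countO_q (α β : ℤ) (hβ : β % 2 = 0) : (PO.filter (fun p => q α β (PhiO p))).card = 0 := by
  rw [Finset.card_eq_zero, Finset.filter_eq_empty_iff]
  intro p _ h
  have h2 := (q_coords α β _ h).2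
  have := PhiO_odd p (some 0)
  omega

theorem q_Psi2_iff (α β : ℤ) (hα : α = 0 ∨ α = 2) (hβ : β = 0 ∨ β = 2) (O U : Finset GolayPt)
    (h8 : O.card = 8) (hU : U ⊆ O) :
    q α β (Psi 2 ⟨O, U⟩) ↔ ((none ∈ O ↔ α = 2) ∧ ((some 0 : GolayPt) ∈ O ↔ β = 2) ∧ none ∉ U ∧
      (some 0 : GolayPt) ∉ U ∧ (U.card : ℤ) = α) := by
  unfold q
  rw [dot_u0, dot_t0, dot_v0, sum_Psi 2 _ _ hU, h8, Psi_apply, Psi_apply]
  have hnU : none ∈ U → none ∈ O := fun h => hU h
  have h0U : (some 0 : GolayPt) ∈ U → (some 0 : GolayPt) ∈ O := fun h => hU h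
  push_cast
  by_cases a1 : none ∈ O <;> by_cases a2 : none ∈ U <;>
    by_cases a3 : (some 0 : GolayPt) ∈ O <;> by_cases a4 : (some 0 : GolayPt) ∈ U <;>
    simp only [a1, a2, a3, a4, if_true, if_false, true_iff, false_iff, not_true,
      not_false_eq_true, true_and, and_true, false_and, and_false, iff_false, iff_true] <;>
    first
    | (exfalso; tauto)
    | (rcases hα with rfl | rfl <;> rcases hβ with rfl | rfl <;> omega)

/-- the number of sign sets on an octad giving a vector of the class -/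
def NQ (α β : ℤ) (k : ℕ) (T : Finset GolayPt) : ℕ :=
  if (none ∈ T ↔ α = 2) ∧ ((some 0 : GolayPt) ∈ T ↔ β = 2) then
    Nat.choose (8 - (if none ∈ T then 1 else 0) - (if (some 0 : GolayPt) ∈ T then 1 else 0)) k
  else 0

theorem card_erase2 (T : Finset GolayPt) (h8 : T.card = 8) :
    ((T.erase none).erase (some 0)).card
      = 8 - (if none ∈ T then 1 else 0) - (if (some 0 : GolayPt) ∈ T then 1 else 0) := by
  have hne : (some 0 : GolayPt) ≠ none := by decide
  by_cases h1 : none ∈ T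
  · by_cases h2 : (some 0 : GolayPt) ∈ T
    · rw [Finset.card_erase_of_mem (Finset.mem_erase.mpr ⟨hne, h2⟩), Finset.card_erase_of_mem h1,
        h8, if_pos h1, if_pos h2]
    · rw [Finset.erase_eq_of_notMem (fun h => h2 (Finset.mem_of_mem_erase h)),
        Finset.card_erase_of_mem h1, h8, if_pos h1, if_neg h2]
  · rw [Finset.erase_eq_of_notMem h1]
    by_cases h2 : (some 0 : GolayPt) ∈ T
    · rw [Finset.card_erase_of_mem h2, h8, if_neg h1, if_pos h2]
    · rw [Finset.erase_eq_of_notMem h2, h8, if_neg h1, if_neg h2]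

theorem fiberQ (α β : ℤ) (hα : α = 0 ∨ α = 2) (hβ : β = 0 ∨ β = 2) (k : ℕ) (hk : (k : ℤ) = α)
    (hkev : Even k) (w : GolayPt → ZMod 2) (h8 : (support₂ w).card = 8) :
    (((support₂ w).powerset.filter (fun U => Even U.card)).filter
      (fun U => q α β (f2 ⟨w, U⟩))).card = NQ α β k (support₂ w) := by
  classical
  unfold NQ
  by_cases hc : (none ∈ support₂ w ↔ α = 2) ∧ ((some 0 : GolayPt) ∈ support₂ w ↔ β = 2)
  · rw [if_pos hc, ← card_erase2 _ h8, ← Finset.card_powersetCard]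
    congr 1
    ext U
    simp only [Finset.mem_filter, Finset.mem_powerset, Finset.mem_powersetCard]
    constructor
    · rintro ⟨⟨hU, -⟩, hq⟩
      obtain ⟨-, -, u1, u2, hcard⟩ := (q_Psi2_iff α β hα hβ _ U h8 hU).mp hq
      refine ⟨fun x hx => ?_, by omega⟩
      rw [Finset.mem_erase, Finset.mem_erase]
      exact ⟨fun h => u2 (h ▸ hx), fun h => u1 (h ▸ hx), hU hx⟩
    · rintro ⟨hsub, hcard⟩
      have hU : U ⊆ support₂ w :=
        fun x hx => Finset.mem_of_mem_erase (Finset.mem_of_mem_erase (hsub hx))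
      refine ⟨⟨hU, by rw [hcard]; exact hkev⟩,
        (q_Psi2_iff α β hα hβ _ U h8 hU).mpr ⟨hc.1, hc.2, ?_, ?_, by rw [hcard]; exact hk⟩⟩
      · intro h
        have := hsub h
        simp at this
      · intro h
        have := hsub h
        simp at this
  · rw [if_neg hc, Finset.card_eq_zero, Finset.filter_eq_empty_iff]
    intro U hU hq
    rw [Finset.mem_filter, Finset.mem_powerset] at hU
    obtain ⟨o1, o2, -⟩ := (q_Psi2_iff α β hα hβ _ U h8 hU.1).mp hq
    exact hc ⟨o1, o2⟩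

theorem count2_q (α β : ℤ) (hα : α = 0 ∨ α = 2) (hβ : β = 0 ∨ β = 2) (k : ℕ) (hk : (k : ℤ) = α)
    (hkev : Even k) :
    (P2.filter (fun p => q α β (f2 p))).card
      = sumBelow 4096 (fun c => if pc24 (codeMask c) = 8 then
          (if ((codeMask c).testBit 23 = true ↔ α = 2) ∧ ((codeMask c).testBit 0 = true ↔ β = 2) then
            Nat.choose (8 - (if (codeMask c).testBit 23 = true then 1 else 0)
              - (if (codeMask c).testBit 0 = true then 1 else 0)) k
          else 0) else 0) := by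
  rw [count2_fiber (q α β) (NQ α β k) (fiberQ α β hα hβ k hk hkev)]
  congr 1
  funext c
  congr 1
  unfold NQ
  simp only [Cfsg.Agent.Lib.Helper3.Golay.mem_bitSet]
  rfl

set_option maxRecDepth 100000 in
theorem sum2_02 : sumBelow 4096 (fun c => if pc24 (codeMask c) = 8 then
    (if ((codeMask c).testBit 23 = true ↔ (0 : ℤ) = 2) ∧ ((codeMask c).testBit 0 = true ↔ (2 : ℤ) = 2) then
      Nat.choose (8 - (if (codeMask c).testBit 23 = true then 1 else 0)
        - (if (codeMask c).testBit 0 = true then 1 else 0)) 0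
    else 0) else 0) = 176 := by
  decide +kernel

set_option maxRecDepth 100000 in
theorem sum2_00 : sumBelow 4096 (fun c => if pc24 (codeMask c) = 8 then
    (if ((codeMask c).testBit 23 = true ↔ (0 : ℤ) = 2) ∧ ((codeMask c).testBit 0 = true ↔ (0 : ℤ) = 2) then
      Nat.choose (8 - (if (codeMask c).testBit 23 = true then 1 else 0)
        - (if (codeMask c).testBit 0 = true then 1 else 0)) 0
    else 0) else 0) = 330 := by
  decide +kernel

set_option maxRecDepth 100000 in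
theorem sum2_20 : sumBelow 4096 (fun c => if pc24 (codeMask c) = 8 then
    (if ((codeMask c).testBit 23 = true ↔ (2 : ℤ) = 2) ∧ ((codeMask c).testBit 0 = true ↔ (0 : ℤ) = 2) then
      Nat.choose (8 - (if (codeMask c).testBit 23 = true then 1 else 0)
        - (if (codeMask c).testBit 0 = true then 1 else 0)) 2
    else 0) else 0) = 3696 := by
  decide +kernel

theorem count2_02 : (P2.filter (fun p => q 0 2 (f2 p))).card = 176 := by
  rw [count2_q 0 2 (Or.inl rfl) (Or.inr rfl) 0 (by norm_num) (by decide)]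
  exact sum2_02

theorem count2_00 : (P2.filter (fun p => q 0 0 (f2 p))).card = 330 := by
  rw [count2_q 0 0 (Or.inl rfl) (Or.inl rfl) 0 (by norm_num) (by decide)]
  exact sum2_00

theorem count2_20 : (P2.filter (fun p => q 2 0 (f2 p))).card = 3696 := by
  rw [count2_q 2 0 (Or.inr rfl) (Or.inl rfl) 2 (by norm_num) (by decide)]
  exact sum2_20

theorem count2_40 : (P2.filter (fun p => q 4 0 (f2 p))).card = 0 := by
  rw [Finset.card_eq_zero, Finset.filter_eq_empty_iff]
  rintro ⟨w, U⟩ _ h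
  have h1 := (q_coords 4 0 _ h).1
  change Psi 2 ⟨support₂ w, U⟩ none = 4 at h1
  rw [Psi_apply] at h1
  split_ifs at h1 <;> omega

set_option maxRecDepth 100000 in
theorem count4_40 : (P4.filter (fun p => q 4 0 (Psi 4 p))).card = 22 := by
  decide +kernel

set_option maxRecDepth 100000 in
theorem count4_02 : (P4.filter (fun p => q 0 2 (Psi 4 p))).card = 0 := by
  decide +kernel

set_option maxRecDepth 100000 in
theorem count4_00 : (P4.filter (fun p => q 0 0 (Psi 4 p))).card = 0 := by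
  decide +kernel

set_option maxRecDepth 100000 in
theorem count4_20 : (P4.filter (fun p => q 2 0 (Psi 4 p))).card = 0 := by
  decide +kernel

theorem n16 : {z : ↥leechLattice | Rel 4 0 16 V0 z}.ncard = 22 := by
  have h := ncard_Rel 4 0
  rw [countO_q 4 0 (by norm_num), count2_40, count4_40] at h
  exact h

theorem nm8 : {z : ↥leechLattice | Rel 0 2 8 V0 z}.ncard = 176 := by
  have h := ncard_Rel 0 2
  rw [countO_q 0 2 (by norm_num), count2_02, count4_02] at h
  exact h

theorem n0 : {z : ↥leechLattice | Rel 0 0 0 V0 z}.ncard = 330 := by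
  have h := ncard_Rel 0 0
  rw [countO_q 0 0 (by norm_num), count2_00, count4_00] at h
  exact h

theorem n8 : {z : ↥leechLattice | Rel 2 0 8 V0 z}.ncard = 3696 := by
  have h := ncard_Rel 2 0
  rw [countO_q 2 0 (by norm_num), count2_20, count4_20] at h
  exact h

/-! ### counting the points related to a given vector -/

/-- the conditions on a point `f` related to `zc` -/
def r (zc : GolayPt → ℤ) (a : ℤ) (f : GolayPt → ℤ) : Prop :=
  dotInt u0 f = 24 ∧ dotInt ws f = -24 ∧ dotInt f zc = a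

instance (zc : GolayPt → ℤ) (a : ℤ) : DecidablePred (r zc a) := fun f => by
  unfold r; infer_instance

/-- the points of the odd family -/
theorem PO_std (w : GolayPt → ZMod 2) (j : GolayPt) (hw : w ∈ golayCode)
    (h1 : dotInt u0 (PhiO (w, j)) = 24) (h2 : dotInt ws (PhiO (w, j)) = -24) :
    w = 0 ∧ j ≠ none ∧ j ≠ some 0 := by
  have hwt := Cfsg.Agent.Lib.Helper3.Golay.weight_mem hw
  have hnorm : hammingNorm w = (support₂ w).card := rfl
  rw [hnorm] at hwt
  rw [dot_u0, Cfsg.Agent.S1578.sum_PhiO, PhiO_apply] at h1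
  rw [dot_ws, Cfsg.Agent.S1578.sum_PhiO, PhiO_apply] at h2
  have c1 := val_cases (w none)
  have c2 := val_cases (w (some 0))
  have c3 := val_cases (w j)
  have hcard : (support₂ w).card = 0 ∧ j ≠ none ∧ j ≠ some 0 := by
    by_cases hj1 : j = none
    · subst hj1
      rw [if_pos rfl] at h1
      rw [if_neg (by decide)] at h2
      omega
    · by_cases hj2 : j = some 0
      · subst hj2
        rw [if_neg (by decide)] at h1
        rw [if_pos rfl] at h2
        omega
      · rw [if_neg (fun h => hj1 h.symm)] at h1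
        rw [if_neg (fun h => hj2 h.symm)] at h2
        refine ⟨?_, hj1, hj2⟩
        omega
  obtain ⟨h0, hj1, hj2⟩ := hcard
  refine ⟨?_, hj1, hj2⟩
  funext i
  have : i ∉ support₂ w := by
    rw [Finset.card_eq_zero.mp h0]; exact Finset.notMem_empty i
  rw [notMem_support₂_iff] at this
  exact (ZMod.val_eq_zero _).mp this

theorem countO_r (zc : GolayPt → ℤ) (a : ℤ) :
    (PO.filter (fun p => r zc a (PhiO p))).card
      = (Finset.univ.filter (fun j : GolayPt => j ≠ none ∧ j ≠ some 0 ∧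
          dotInt (yO j) zc = a)).card := by
  symm
  refine Finset.card_bij (fun j _ => ((0 : GolayPt → ZMod 2), j)) ?_ ?_ ?_
  · intro j hj
    rw [Finset.mem_filter] at hj ⊢
    obtain ⟨-, hj1, hj0, hd⟩ := hj
    refine ⟨(mem_PO _).mpr (Submodule.zero_mem _), ?_⟩
    show r zc a (PhiO (0, j))
    rw [Cfsg.Agent.S1584.PhiO_zero]
    exact ⟨(Cfsg.Agent.S1584.yO_facts j hj1 hj0).1.2.1, (Cfsg.Agent.S1584.yO_facts j hj1 hj0).1.2.2,
      hd⟩
  · intro a b _ _ h
    exact (Prod.mk.inj h).2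
  · rintro ⟨w, j⟩ hp
    rw [Finset.mem_filter, mem_PO] at hp
    obtain ⟨hw, h1, h2, h3⟩ := hp
    obtain ⟨rfl, hj1, hj0⟩ := PO_std w j hw h1 h2
    refine ⟨j, ?_, rfl⟩
    rw [Finset.mem_filter]
    refine ⟨Finset.mem_univ _, hj1, hj0, ?_⟩
    rw [← Cfsg.Agent.S1584.PhiO_zero]
    exact h3

/-- the number of sign sets on an octad giving a related point -/
def N3 (zc : GolayPt → ℤ) (a : ℤ) (T : Finset GolayPt) : ℕ :=
  if none ∈ T ∧ (some 0 : GolayPt) ∈ T ∧ dotInt (Psi 2 ⟨T, ∅⟩) zc = a then 1 else 0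

theorem fiber_r (zc : GolayPt → ℤ) (a : ℤ) (w : GolayPt → ZMod 2) (h8 : (support₂ w).card = 8) :
    (((support₂ w).powerset.filter (fun U => Even U.card)).filter
      (fun U => r zc a (f2 ⟨w, U⟩))).card = N3 zc a (support₂ w) := by
  classical
  unfold N3
  by_cases hc : none ∈ support₂ w ∧ (some 0 : GolayPt) ∈ support₂ w ∧
      dotInt (Psi 2 ⟨support₂ w, ∅⟩) zc = a
  · rw [if_pos hc]
    rw [Finset.card_eq_one]
    refine ⟨∅, ?_⟩
    ext U
    simp only [Finset.mem_filter, Finset.mem_powerset, Finset.mem_singleton]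
    constructor
    · rintro ⟨⟨hU, -⟩, h1, h2, -⟩
      exact ((Cfsg.Agent.S1583.cond2_iff w h8 U hU).mp ⟨h1, h2⟩).1
    · rintro rfl
      have := (Cfsg.Agent.S1583.cond2_iff w h8 ∅ (Finset.empty_subset _)).mpr ⟨rfl, hc.1, hc.2.1⟩
      exact ⟨⟨Finset.empty_subset _, by simp⟩, this.1, this.2, hc.2.2⟩
  · rw [if_neg hc, Finset.card_eq_zero, Finset.filter_eq_empty_iff]
    rintro U hU ⟨h1, h2, h3⟩
    rw [Finset.mem_filter, Finset.mem_powerset] at hU
    obtain ⟨rfl, hn, h0⟩ := (Cfsg.Agent.S1583.cond2_iff w h8 U hU.1).mp ⟨h1, h2⟩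
    exact hc ⟨hn, h0, h3⟩

theorem count2_r (zc : GolayPt → ℤ) (a : ℤ) :
    (P2.filter (fun p => r zc a (f2 p))).card
      = sumBelow 4096 (fun c => if pc24 (codeMask c) = 8 then
          (if (codeMask c).testBit 23 = true ∧ (codeMask c).testBit 0 = true ∧
            dotInt (Psi 2 ⟨bitSet (codeMask c), ∅⟩) zc = a then 1 else 0) else 0) := by
  rw [count2_fiber (r zc a) (N3 zc a) (fiber_r zc a)]
  congr 1
  funext c
  congr 1
  unfold N3
  simp only [Cfsg.Agent.Lib.Helper3.Golay.mem_bitSet]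
  rfl

/-- the number of points related to a vector `zc` of a class -/
theorem ncard_N (zc : ↥leechLattice) (α β a : ℤ) (h1 : nrm zc = 32) (h2 : ip U0 zc = 16)
    (h3 : ip T0 zc = 4 * α - 4 * β) :
    {p : ↥S100 | Rel α β a p.1 zc}.ncard
      = (Finset.univ.filter (fun j : GolayPt => j ≠ none ∧ j ≠ some 0 ∧
          dotInt (yO j) (zc : GolayPt → ℤ) = a)).card
        + sumBelow 4096 (fun c => if pc24 (codeMask c) = 8 then
          (if (codeMask c).testBit 23 = true ∧ (codeMask c).testBit 0 = true ∧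
            dotInt (Psi 2 ⟨bitSet (codeMask c), ∅⟩) (zc : GolayPt → ℤ) = a then 1 else 0) else 0)
        + (P4.filter (fun p => r (zc : GolayPt → ℤ) a (Psi 4 p))).card := by
  rw [← countO_r, ← count2_r, ← ncard_sub_filter (r (zc : GolayPt → ℤ) a),
    ← Set.ncard_image_of_injective {p : ↥S100 | Rel α β a p.1 zc} Subtype.val_injective]
  congr 1
  ext x
  simp only [Set.mem_image, Set.mem_ofPred_eq]
  constructor
  · rintro ⟨p, hp, rfl⟩
    exact ⟨p.2.1, p.2.2.1, p.2.2.2, hp.2.2.2⟩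
  · rintro ⟨hn, hu, hw, hd⟩
    exact ⟨⟨x, hn, hu, hw⟩, ⟨h1, h2, h3, hd⟩, rfl⟩
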