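import Mathlib
import Cfsg.Prelude.Def_Sporadic_a
import Cfsg.Agent.Lib.Helper14.LeechCo3R5

set_option autoImplicit false

/-! The orbits of the Higman–Sims group `Stab(U0, T0)` on the minimal vectors `z` with
`U0 · z = 16`: representatives and orbit lengths. -/

namespace Cfsg.Agent.Lib.Helper14.LeechCo3R5

open Cfsg Cfsg.Agent.Lib.Helper14.Golay Cfsg.Agent.Lib.Helper14.Leech
  Cfsg.Agent.Lib.Helper14.LeechCount Cfsg.Agent.Lib.Helper14.LeechOrbit
  Cfsg.Agent.Lib.Helper14.LeechMono Cfsg.Agent.Lib.Helper14.LeechMinCount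
  Cfsg.Agent.Lib.Helper14.LeechPairs Cfsg.Agent.Lib.Helper14.LeechHS
  Cfsg.Agent.Lib.Helper14.LeechMcL Cfsg.Agent.Lib.Helper14.LeechCo2
open Cfsg.Agent.Lib.Helper3.Golay (wordOf codeMask pc24 bitSet idx isOct isOct_mem)
open Cfsg.Agent.S1578 (u0 u0_mem u0_norm dot_u0)
open Cfsg.Agent.S1583 (ws ws_mem ws_norm dot_u0_ws dot_ws)
open Cfsg.Agent.S1584 (U0 WS V0 yO permEl)
open Cfsg.Agent.S0405 (G0_fix S100 x0 trans_S100 card_S100)
open MulAction
open scoped Pointwise

local notation "HG" => Cfsg.Agent.S0405.G0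

/-! ### representatives -/

theorem oct_vec_mem {O : Finset GolayPt} (hO : O ∈ octads) (U : Finset GolayPt) (hU : U ⊆ O)
    (hev : Even U.card) :
    Psi 2 ⟨O, U⟩ ∈ leechLattice ∧ sqNorm (Psi 2 ⟨O, U⟩) = 32 := by
  obtain ⟨⟨w, hw, rfl⟩, h8⟩ := hO
  obtain ⟨h1, h2⟩ := Psi2_mem w hw h8 U hU hev
  exact ⟨(mem_leechLattice_iff _).mpr h1, h2⟩

theorem pair_vec_mem (T : Finset GolayPt) (h2 : T.card = 2) (U : Finset GolayPt) (hU : U ⊆ T) :
    Psi 4 ⟨T, U⟩ ∈ leechLattice ∧ sqNorm (Psi 4 ⟨T, U⟩) = 32 := by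
  obtain ⟨h1, h2⟩ := Psi4_mem T h2 U hU
  exact ⟨(mem_leechLattice_iff _).mpr h1, h2⟩

set_option maxRecDepth 100000 in
theorem oct1 : isOct 0x13e005 = true := by decide +kernel

set_option maxRecDepth 100000 in
theorem oct2 : isOct 0x49f002 = true := by decide +kernel

set_option maxRecDepth 100000 in
theorem oct3 : isOct 0xd4b004 = true := by decide +kernel

/-- the representative of the class of length 1100 -/
noncomputable def Z16 : ↥leechLattice :=
  ⟨Psi 4 ⟨{none, some 1}, {some 1}⟩, (pair_vec_mem _ (by decide) _ (by decide)).1⟩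

/-- the representative of the class of length 352 -/
noncomputable def Zm8 : ↥leechLattice :=
  ⟨Psi 2 ⟨bitSet 0x13e005, ∅⟩, (oct_vec_mem (isOct_mem oct1) _ (Finset.empty_subset _) (by decide)).1⟩

/-- the representative of the class of length 4125 -/
noncomputable def Z0 : ↥leechLattice :=
  ⟨Psi 2 ⟨bitSet 0x49f002, ∅⟩, (oct_vec_mem (isOct_mem oct2) _ (Finset.empty_subset _) (by decide)).1⟩

set_option maxRecDepth 100000 in
theorem sub3 : ({some 2, some 12} : Finset GolayPt) ⊆ bitSet 0xd4b004 := by decide +kernel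

/-- the representative of the class of length 5600 -/
noncomputable def Z8 : ↥leechLattice :=
  ⟨Psi 2 ⟨bitSet 0xd4b004, {some 2, some 12}⟩, (oct_vec_mem (isOct_mem oct3) _ sub3 (by decide)).1⟩

set_option maxRecDepth 100000 in
theorem Z16_rel : Rel 4 0 16 V0 Z16 := by
  unfold Rel nrm ip
  decide +kernel

set_option maxRecDepth 100000 in
theorem Zm8_rel : Rel 0 2 8 V0 Zm8 := by
  unfold Rel nrm ip
  decide +kernel

set_option maxRecDepth 100000 in
theorem Z0_rel : Rel 0 0 0 V0 Z0 := by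
  unfold Rel nrm ip
  decide +kernel

set_option maxRecDepth 100000 in
theorem Z8_rel : Rel 2 0 8 V0 Z8 := by
  unfold Rel nrm ip
  decide +kernel

/-! ### the numbers of related points -/

set_option maxRecDepth 100000 in
theorem NY16 : (Finset.univ.filter (fun j : GolayPt => j ≠ none ∧ j ≠ some 0 ∧
    dotInt (yO j) (Z16 : GolayPt → ℤ) = 16)).card = 1 := by
  decide +kernel

set_option maxRecDepth 100000 in
theorem NO16 : sumBelow 4096 (fun c => if pc24 (codeMask c) = 8 then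
    (if (codeMask c).testBit 23 = true ∧ (codeMask c).testBit 0 = true ∧
      dotInt (Psi 2 ⟨bitSet (codeMask c), ∅⟩) (Z16 : GolayPt → ℤ) = 16 then 1 else 0) else 0) = 0 := by
  decide +kernel

set_option maxRecDepth 100000 in
theorem NP16 : (P4.filter (fun p => r (Z16 : GolayPt → ℤ) 16 (Psi 4 p))).card = 1 := by
  decide +kernel

theorem N16 : {p : ↥S100 | Rel 4 0 16 p.1 Z16}.ncard = 2 := by
  rw [ncard_N Z16 4 0 16 Z16_rel.1 Z16_rel.2.1 Z16_rel.2.2.1, NY16, NO16, NP16]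

set_option maxRecDepth 100000 in
theorem NYm8 : (Finset.univ.filter (fun j : GolayPt => j ≠ none ∧ j ≠ some 0 ∧
    dotInt (yO j) (Zm8 : GolayPt → ℤ) = 8)).card = 7 := by
  decide +kernel

set_option maxRecDepth 100000 in
theorem NOm8 : sumBelow 4096 (fun c => if pc24 (codeMask c) = 8 then
    (if (codeMask c).testBit 23 = true ∧ (codeMask c).testBit 0 = true ∧
      dotInt (Psi 2 ⟨bitSet (codeMask c), ∅⟩) (Zm8 : GolayPt → ℤ) = 8 then 1 else 0) else 0) = 42 := by
  decide +kernel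

set_option maxRecDepth 100000 in
theorem NPm8 : (P4.filter (fun p => r (Zm8 : GolayPt → ℤ) 8 (Psi 4 p))).card = 1 := by
  decide +kernel

theorem Nm8 : {p : ↥S100 | Rel 0 2 8 p.1 Zm8}.ncard = 50 := by
  rw [ncard_N Zm8 0 2 8 Zm8_rel.1 Zm8_rel.2.1 Zm8_rel.2.2.1, NYm8, NOm8, NPm8]

set_option maxRecDepth 100000 in
theorem NY0 : (Finset.univ.filter (fun j : GolayPt => j ≠ none ∧ j ≠ some 0 ∧
    dotInt (yO j) (Z0 : GolayPt → ℤ) = 0)).card = 0 := by
  decide +kernel

set_option maxRecDepth 100000 in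
theorem NO0 : sumBelow 4096 (fun c => if pc24 (codeMask c) = 8 then
    (if (codeMask c).testBit 23 = true ∧ (codeMask c).testBit 0 = true ∧
      dotInt (Psi 2 ⟨bitSet (codeMask c), ∅⟩) (Z0 : GolayPt → ℤ) = 0 then 1 else 0) else 0) = 7 := by
  decide +kernel

set_option maxRecDepth 100000 in
theorem NP0 : (P4.filter (fun p => r (Z0 : GolayPt → ℤ) 0 (Psi 4 p))).card = 1 := by
  decide +kernel

theorem N0 : {p : ↥S100 | Rel 0 0 0 p.1 Z0}.ncard = 8 := by
  rw [ncard_N Z0 0 0 0 Z0_rel.1 Z0_rel.2.1 Z0_rel.2.2.1, NY0, NO0, NP0]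

set_option maxRecDepth 100000 in
theorem NY8 : (Finset.univ.filter (fun j : GolayPt => j ≠ none ∧ j ≠ some 0 ∧
    dotInt (yO j) (Z8 : GolayPt → ℤ) = 8)).card = 15 := by
  decide +kernel

set_option maxRecDepth 100000 in
theorem NO8 : sumBelow 4096 (fun c => if pc24 (codeMask c) = 8 then
    (if (codeMask c).testBit 23 = true ∧ (codeMask c).testBit 0 = true ∧
      dotInt (Psi 2 ⟨bitSet (codeMask c), ∅⟩) (Z8 : GolayPt → ℤ) = 8 then 1 else 0) else 0) = 50 := by
  decide +kernel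

set_option maxRecDepth 100000 in
theorem NP8 : (P4.filter (fun p => r (Z8 : GolayPt → ℤ) 8 (Psi 4 p))).card = 1 := by
  decide +kernel

theorem N8 : {p : ↥S100 | Rel 2 0 8 p.1 Z8}.ncard = 66 := by
  rw [ncard_N Z8 2 0 8 Z8_rel.1 Z8_rel.2.1 Z8_rel.2.2.1, NY8, NO8, NP8]

/-! ### the orbit lengths -/

theorem orbit_card (α β a : ℤ) (zc : ↥leechLattice) (h0 : Rel α β a V0 zc)
    (hst : ∀ z z' : ↥leechLattice, Rel α β a V0 z → Rel α β a V0 z' →
      ∃ g : ↥HG, g • x0 = x0 ∧ g • z = z') :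
    (orbit ↥HG zc).ncard * {p : ↥S100 | Rel α β a p.1 zc}.ncard
      = 100 * {z : ↥leechLattice | Rel α β a V0 z}.ncard := by
  have h := Cfsg.Agent.Lib.Helper14.PairCount.orbit_mul_card (G := ↥HG) (A := ↥S100)
    (B := ↥leechLattice) (fun p z => Rel α β a p.1 z)
    (fun g p z hpz => Rel_smul α β a g p.1 z hpz) trans_S100 x0 zc h0 hst
  rw [card_S100] at h
  exact h

theorem orbit16 : (orbit ↥HG Z16).ncard = 1100 := by
  have h := orbit_card 4 0 16 Z16 Z16_rel hst16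
  rw [N16, n16] at h
  omega

theorem orbitm8 : (orbit ↥HG Zm8).ncard = 352 := by
  have h := orbit_card 0 2 8 Zm8 Zm8_rel hstm8
  rw [Nm8, nm8] at h
  omega

theorem orbit0 : (orbit ↥HG Z0).ncard = 4125 := by
  have h := orbit_card 0 0 0 Z0 Z0_rel hst0
  rw [N0, n0] at h
  omega

theorem orbit8 : (orbit ↥HG Z8).ncard = 5600 := by
  have h := orbit_card 2 0 8 Z8 Z8_rel hst8
  rw [N8, n8] at h
  omega
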