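import Mathlib
import Cfsg.Agent.Lib.Helper14.Leech
import Cfsg.Agent.Lib.Helper3.Golay.Code

set_option autoImplicit false

/-!
# The Leech lattice has index `2^36` in `ℤ^24`
-/

namespace Cfsg.Agent.Lib.Helper14.LeechIndex

open Cfsg Cfsg.Agent.Lib.Helper14.Leech Cfsg.Agent.Lib.Helper14.Golay

theorem cast_eq_add (a b : ZMod 2) (z : ℤ) (h : z % 2 = ((a.val : ℤ) + (b.val : ℤ)) % 2) :
    (z : ZMod 2) = a + b := by
  have h1 : (z : ZMod 2) = (((a.val : ℤ) + (b.val : ℤ) : ℤ) : ZMod 2) := by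
    rw [ZMod.intCast_eq_intCast_iff]
    exact h
  rw [h1]
  push_cast
  rw [ZMod.natCast_zmod_val, ZMod.natCast_zmod_val]

/-- the word attached to a vector with all coordinates of the same parity -/
def W (x : GolayPt → ℤ) : GolayPt → ZMod 2 := fun i => (((x i - x none) / 2 : ℤ) : ZMod 2)

theorem val_W (x : GolayPt → ℤ) (i : GolayPt) : ((W x i).val : ℤ) = ((x i - x none) / 2) % 2 := by
  unfold W
  rw [ZMod.val_intCast]
  rfl

theorem mem_leech_iff (x : GolayPt → ℤ) :
    x ∈ leechLattice ↔ (∀ i, (2 : ℤ) ∣ x i - x none) ∧ W x ∈ golayCode ∧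
      (8 : ℤ) ∣ (∑ i, x i) - 4 * x none := by
  rw [mem_leechLattice_iff, mem_leechSet_iff]
  constructor
  · rintro ⟨m, w, hw, h1, h2⟩
    have hpar : ∀ i, (2 : ℤ) ∣ x i - x none := by
      intro i
      have a := h1 i
      have b := h1 none
      omega
    refine ⟨hpar, ?_, ?_⟩
    · have : W x = w + (w none) • (1 : GolayPt → ZMod 2) := by
        funext i
        simp only [Pi.add_apply, Pi.smul_apply, Pi.one_apply, smul_eq_mul, mul_one]
        unfold W
        apply cast_eq_add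
        have a := h1 i
        have b := h1 none
        have c1 := val_cases (w i)
        have c2 := val_cases (w none)
        omega
      rw [this]
      exact golayCode.add_mem hw (golayCode.smul_mem _ one_mem_golay)
    · have b := h1 none
      have c2 := val_cases (w none)
      omega
  · rintro ⟨h1, h2, h3⟩
    refine ⟨x none, W x, h2, ?_, ?_⟩
    · intro i
      rw [val_W]
      have := h1 i
      omega
    · omega

/-- parity map -/
def f1 : (GolayPt → ℤ) →+ (ZMod 23 → ZMod 2) where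
  toFun x := fun j => ((x (some j) - x none : ℤ) : ZMod 2)
  map_zero' := by funext j; simp
  map_add' x y := by
    funext j
    simp only [Pi.add_apply]
    push_cast
    ring

theorem mem_ker_f1 (x : GolayPt → ℤ) : x ∈ f1.ker ↔ ∀ i, (2 : ℤ) ∣ x i - x none := by
  rw [AddMonoidHom.mem_ker]
  constructor
  · intro h i
    rcases i with _ | j
    · simp
    · have := congrFun h j
      exact (ZMod.intCast_zmod_eq_zero_iff_dvd _ 2).mp this
  · intro h
    funext j
    exact (ZMod.intCast_zmod_eq_zero_iff_dvd _ 2).mpr (h (some j))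

theorem f1_surjective : Function.Surjective f1 := by
  intro y
  refine ⟨fun i => Option.elim i 0 (fun j => ((y j).val : ℤ)), ?_⟩
  funext j
  show (((((y j).val : ℤ)) - 0 : ℤ) : ZMod 2) = y j
  push_cast
  rw [ZMod.natCast_zmod_val, sub_zero]

theorem index_ker_f1 : f1.ker.index = 2 ^ 23 := by
  rw [AddSubgroup.index_ker, AddMonoidHom.range_eq_top.mpr f1_surjective]
  rw [AddSubgroup.card_top, Nat.card_eq_fintype_card, Fintype.card_fun, ZMod.card, ZMod.card]

theorem W_add (x y : GolayPt → ℤ) (hx : x ∈ f1.ker) (hy : y ∈ f1.ker) : W (x + y) = W x + W y := by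
  rw [mem_ker_f1] at hx hy
  funext i
  unfold W
  simp only [Pi.add_apply]
  have : (x i + y i - (x none + y none)) / 2 = (x i - x none) / 2 + (y i - y none) / 2 := by
    have := hx i
    have := hy i
    omega
  rw [this]
  push_cast
  rfl

theorem W_zero : W 0 = 0 := by
  funext i
  simp [W]

/-- second map -/
def f2 : f1.ker →+ (GolayPt → ZMod 2) ⧸ golayCode.toAddSubgroup where
  toFun x := QuotientAddGroup.mk (W x.1)
  map_zero' := by
    show QuotientAddGroup.mk (W 0) = _
    rw [W_zero]; rfl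
  map_add' x y := by
    show QuotientAddGroup.mk (W (x.1 + y.1)) = _
    rw [W_add _ _ x.2 y.2]; rfl

theorem mem_ker_f2 (x : f1.ker) : x ∈ f2.ker ↔ W x.1 ∈ golayCode := by
  rw [AddMonoidHom.mem_ker]
  show QuotientAddGroup.mk (W x.1) = 0 ↔ _
  rw [QuotientAddGroup.eq_zero_iff]
  rfl

theorem f2_surjective : Function.Surjective f2 := by
  intro q
  obtain ⟨y, rfl⟩ := QuotientAddGroup.mk_surjective q
  have hx : (fun i => 2 * ((y i).val : ℤ)) ∈ f1.ker := by
    rw [mem_ker_f1]
    intro i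
    exact ⟨((y i).val : ℤ) - ((y none).val : ℤ), by ring⟩
  refine ⟨⟨_, hx⟩, ?_⟩
  show QuotientAddGroup.mk (W (fun i => 2 * ((y i).val : ℤ))) = QuotientAddGroup.mk y
  rw [QuotientAddGroup.eq]
  have : W (fun i => 2 * ((y i).val : ℤ)) = y + (- y none) • (1 : GolayPt → ZMod 2) := by
    funext i
    unfold W
    have : (2 * ((y i).val : ℤ) - 2 * ((y none).val : ℤ)) / 2 =
        ((y i).val : ℤ) - ((y none).val : ℤ) := by omega
    rw [this]
    push_cast
    rw [ZMod.natCast_zmod_val, ZMod.natCast_zmod_val]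
    simp only [Pi.add_apply, Pi.smul_apply, Pi.one_apply, smul_eq_mul, mul_one]
    ring
  rw [this]
  have h1 : -(y + -y none • (1 : GolayPt → ZMod 2)) + y = (y none) • (1 : GolayPt → ZMod 2) := by
    rw [neg_smul]; abel
  rw [h1]
  exact golayCode.smul_mem _ one_mem_golay

theorem card_quot : Nat.card ((GolayPt → ZMod 2) ⧸ golayCode.toAddSubgroup) = 2 ^ 12 := by
  have h1 := AddSubgroup.card_eq_card_quotient_mul_card_addSubgroup golayCode.toAddSubgroup
  have h2 : Nat.card (GolayPt → ZMod 2) = 2 ^ 24 := by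
    rw [Nat.card_eq_fintype_card, Fintype.card_fun, ZMod.card, card_golayPt]
  have h3 : Nat.card golayCode.toAddSubgroup = 2 ^ 12 := by
    have := Module.natCard_eq_pow_finrank (K := ZMod 2) (V := golayCode)
    rw [Cfsg.Agent.Lib.Helper3.Golay.finrank_golayCode, Nat.card_eq_fintype_card (α := ZMod 2),
      ZMod.card] at this
    exact this
  rw [h2, h3] at h1
  have : (2 : ℕ) ^ 24 = 2 ^ 12 * 2 ^ 12 := by norm_num
  rw [this] at h1
  exact (Nat.eq_of_mul_eq_mul_right (by norm_num) h1).symm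

theorem index_ker_f2 : f2.ker.index = 2 ^ 12 := by
  rw [AddSubgroup.index_ker, AddMonoidHom.range_eq_top.mpr f2_surjective, AddSubgroup.card_top,
    card_quot]

/-- half sum -/
def S (x : GolayPt → ℤ) : ℤ := ∑ i, (x i - x none) / 2

theorem S_add (x y : GolayPt → ℤ) (hx : x ∈ f1.ker) (hy : y ∈ f1.ker) : S (x + y) = S x + S y := by
  rw [mem_ker_f1] at hx hy
  unfold S
  rw [← Finset.sum_add_distrib]
  apply Finset.sum_congr rfl
  intro i _
  simp only [Pi.add_apply]
  have := hx i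
  have := hy i
  omega

theorem S_even (x : GolayPt → ℤ) (hW : W x ∈ golayCode) : (2 : ℤ) ∣ S x := by
  obtain ⟨c, hc⟩ := four_dvd_card (W x) hW
  have h1 := sum_val_eq_card (W x)
  rw [hc] at h1
  have h2 : S x % 2 = (∑ i, ((W x i).val : ℤ)) % 2 := by
    unfold S
    rw [Finset.sum_int_mod]
    congr 1
    apply Finset.sum_congr rfl
    intro i _
    rw [val_W]
  rw [h1] at h2
  push_cast at h2
  omega

/-- third map -/
def f3 : f2.ker →+ ZMod 2 where
  toFun x := ((x.1.1 none + S x.1.1 / 2 : ℤ) : ZMod 2)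
  map_zero' := by
    show (((0 : GolayPt → ℤ) none + S (0 : GolayPt → ℤ) / 2 : ℤ) : ZMod 2) = 0
    simp [S]
  map_add' x y := by
    show (((x.1.1 + y.1.1) none + S (x.1.1 + y.1.1) / 2 : ℤ) : ZMod 2) =
      ((x.1.1 none + S x.1.1 / 2 : ℤ) : ZMod 2) + ((y.1.1 none + S y.1.1 / 2 : ℤ) : ZMod 2)
    rw [S_add _ _ x.1.2 y.1.2]
    have h1 := S_even x.1.1 ((mem_ker_f2 x.1).mp x.2)
    have h2 := S_even y.1.1 ((mem_ker_f2 y.1).mp y.2)
    have : (S x.1.1 + S y.1.1) / 2 = S x.1.1 / 2 + S y.1.1 / 2 := by omega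
    rw [this]
    simp only [Pi.add_apply]
    push_cast
    ring

theorem sum_eq (x : GolayPt → ℤ) (hx : x ∈ f1.ker) : ∑ i, x i = 24 * x none + 2 * S x := by
  rw [mem_ker_f1] at hx
  unfold S
  rw [Finset.mul_sum]
  have : ∀ i, x i = x none + 2 * ((x i - x none) / 2) := by
    intro i
    have := hx i
    omega
  conv_lhs => rw [Finset.sum_congr rfl (fun i _ => this i)]
  rw [Finset.sum_add_distrib, Finset.sum_const, Finset.card_univ, card_golayPt]
  simp

theorem mem_ker_f3 (x : f2.ker) : x ∈ f3.ker ↔ (8 : ℤ) ∣ (∑ i, x.1.1 i) - 4 * x.1.1 none := by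
  rw [AddMonoidHom.mem_ker]
  show ((x.1.1 none + S x.1.1 / 2 : ℤ) : ZMod 2) = 0 ↔ _
  rw [ZMod.intCast_zmod_eq_zero_iff_dvd, sum_eq _ x.1.2]
  have h1 := S_even x.1.1 ((mem_ker_f2 x.1).mp x.2)
  push_cast
  omega

theorem f3_surjective : Function.Surjective f3 := by
  have hx1 : (Pi.single (some 0) 4 : GolayPt → ℤ) ∈ f1.ker := by
    rw [mem_ker_f1]
    intro i
    by_cases hi : i = some 0
    · subst hi; simp
    · rw [Pi.single_eq_of_ne hi]; simp
  have hW : W (Pi.single (some 0) 4 : GolayPt → ℤ) = 0 := by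
    funext i
    unfold W
    by_cases hi : i = some 0
    · subst hi; simp; decide
    · rw [Pi.single_eq_of_ne hi]; simp
  have hx2 : (⟨_, hx1⟩ : f1.ker) ∈ f2.ker := by
    rw [mem_ker_f2, hW]
    exact golayCode.zero_mem
  have hS : S (Pi.single (some 0) 4 : GolayPt → ℤ) = 2 := by
    unfold S
    rw [Finset.sum_eq_single (some 0)]
    · simp
    · intro i _ hi
      rw [Pi.single_eq_of_ne hi]; simp
    · intro h; exact absurd (Finset.mem_univ _) h
  intro y
  have hy : y = 0 ∨ y = 1 := by revert y; decide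
  rcases hy with rfl | rfl
  · exact ⟨0, map_zero _⟩
  · refine ⟨⟨⟨_, hx1⟩, hx2⟩, ?_⟩
    show (((Pi.single (some 0) 4 : GolayPt → ℤ) none +
      S (Pi.single (some 0) 4 : GolayPt → ℤ) / 2 : ℤ) : ZMod 2) = 1
    rw [hS]
    simp

theorem index_ker_f3 : f3.ker.index = 2 := by
  rw [AddSubgroup.index_ker, AddMonoidHom.range_eq_top.mpr f3_surjective, AddSubgroup.card_top,
    Nat.card_eq_fintype_card, ZMod.card]

theorem leech_eq : leechLattice = (f3.ker.map f2.ker.subtype).map f1.ker.subtype := by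
  ext x
  rw [mem_leech_iff]
  constructor
  · rintro ⟨h1, h2, h3⟩
    have hx1 : x ∈ f1.ker := (mem_ker_f1 x).mpr h1
    have hx2 : (⟨x, hx1⟩ : f1.ker) ∈ f2.ker := (mem_ker_f2 _).mpr h2
    have hx3 : (⟨⟨x, hx1⟩, hx2⟩ : f2.ker) ∈ f3.ker := (mem_ker_f3 _).mpr h3
    exact ⟨⟨x, hx1⟩, ⟨⟨⟨x, hx1⟩, hx2⟩, hx3, rfl⟩, rfl⟩
  · rintro ⟨y, ⟨z, hz, rfl⟩, rfl⟩
    exact ⟨(mem_ker_f1 _).mp z.1.2, (mem_ker_f2 _).mp z.2, (mem_ker_f3 z).mp hz⟩

theorem index_leech : leechLattice.index = 2 ^ 36 := by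
  rw [leech_eq, AddSubgroup.index_map_subtype, AddSubgroup.index_map_subtype, index_ker_f1,
    index_ker_f2, index_ker_f3]
  norm_num

end Cfsg.Agent.Lib.Helper14.LeechIndex
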