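import Mathlib
import Cfsg.Agent.Lib.Helper14.LeechIndex

set_option autoImplicit false

/-!
# A totally singular sublattice of index `2^12` in the Leech lattice
-/

namespace Cfsg.Agent.Lib.Helper14.LeechSingular

open Cfsg Cfsg.Agent.Lib.Helper14.Leech Cfsg.Agent.Lib.Helper14.Golay
  Cfsg.Agent.Lib.Helper14.LeechIndex

theorem S_zero : S (0 : GolayPt → ℤ) = 0 := by
  simp [S]

/-- the parity of the half sum -/
def g1 : f1.ker →+ ZMod 2 where
  toFun x := ((S x.1 : ℤ) : ZMod 2)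
  map_zero' := by
    show ((S (0 : GolayPt → ℤ) : ℤ) : ZMod 2) = 0
    rw [S_zero]; rfl
  map_add' x y := by
    show ((S (x.1 + y.1) : ℤ) : ZMod 2) = ((S x.1 : ℤ) : ZMod 2) + ((S y.1 : ℤ) : ZMod 2)
    rw [S_add _ _ x.2 y.2]
    push_cast
    rfl

theorem g1_surjective : Function.Surjective g1 := by
  have hx1 : (Pi.single (some 0) 2 : GolayPt → ℤ) ∈ f1.ker := by
    rw [mem_ker_f1]
    intro i
    by_cases hi : i = some 0
    · subst hi; simp
    · rw [Pi.single_eq_of_ne hi]; simp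
  have hS : S (Pi.single (some 0) 2 : GolayPt → ℤ) = 1 := by
    unfold S
    rw [Finset.sum_eq_single (some 0)]
    · simp
    · intro i _ hi
      rw [Pi.single_eq_of_ne hi]; simp
    · intro h; exact absurd (Finset.mem_univ _) h
  intro y
  have hy : y = 0 ∨ y = 1 := by revert y; decide
  rcases hy with rfl | rfl
  · exact ⟨0, map_zero _⟩
  · refine ⟨⟨_, hx1⟩, ?_⟩
    show ((S (Pi.single (some 0) 2 : GolayPt → ℤ) : ℤ) : ZMod 2) = 1
    rw [hS]
    rfl

/-- vectors with coordinates of one parity and even half sum -/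
def E : AddSubgroup (GolayPt → ℤ) := g1.ker.map f1.ker.subtype

theorem index_E : E.index = 2 * 2 ^ 23 := by
  unfold E
  rw [AddSubgroup.index_map_subtype, index_ker_f1, AddSubgroup.index_ker,
    AddMonoidHom.range_eq_top.mpr g1_surjective, AddSubgroup.card_top, Nat.card_eq_fintype_card,
    ZMod.card]

theorem mem_E (y : GolayPt → ℤ) : y ∈ E ↔ (∀ i, (2 : ℤ) ∣ y i - y none) ∧ (2 : ℤ) ∣ S y := by
  unfold E
  constructor
  · rintro ⟨z, hz, rfl⟩
    refine ⟨(mem_ker_f1 _).mp z.2, ?_⟩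
    have hz' : g1 z = 0 := hz
    exact (ZMod.intCast_zmod_eq_zero_iff_dvd _ 2).mp hz'
  · rintro ⟨h1, h2⟩
    refine ⟨⟨y, (mem_ker_f1 y).mpr h1⟩, ?_, rfl⟩
    show g1 ⟨y, (mem_ker_f1 y).mpr h1⟩ = 0
    exact (ZMod.intCast_zmod_eq_zero_iff_dvd _ 2).mpr h2

/-- doubling -/
def dbl : (GolayPt → ℤ) →+ (GolayPt → ℤ) where
  toFun x := (2 : ℤ) • x
  map_zero' := smul_zero _
  map_add' x y := smul_add _ x y

theorem dbl_injective : Function.Injective dbl := by
  intro x y h
  funext i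
  have := congrFun h i
  simp only [dbl, AddMonoidHom.coe_mk, ZeroHom.coe_mk, Pi.smul_apply, smul_eq_mul] at this
  omega

/-- reduction modulo two -/
def red : (GolayPt → ℤ) →+ (GolayPt → ZMod 2) where
  toFun x := fun i => ((x i : ℤ) : ZMod 2)
  map_zero' := by funext i; simp
  map_add' x y := by funext i; simp

theorem red_surjective : Function.Surjective red := by
  intro y
  refine ⟨fun i => ((y i).val : ℤ), ?_⟩
  funext i
  show ((((y i).val : ℤ)) : ZMod 2) = y i
  push_cast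
  rw [ZMod.natCast_zmod_val]

theorem range_dbl : dbl.range = red.ker := by
  ext x
  rw [AddMonoidHom.mem_range, AddMonoidHom.mem_ker]
  constructor
  · rintro ⟨y, rfl⟩
    funext i
    show (((2 : ℤ) • y) i : ZMod 2) = 0
    rw [ZMod.intCast_zmod_eq_zero_iff_dvd]
    exact ⟨y i, by simp⟩
  · intro h
    have h2 : ∀ i, (2 : ℤ) ∣ x i := fun i =>
      (ZMod.intCast_zmod_eq_zero_iff_dvd _ 2).mp (congrFun h i)
    refine ⟨fun i => x i / 2, ?_⟩
    funext i
    show (2 : ℤ) • (x i / 2) = x i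
    have := h2 i
    rw [smul_eq_mul]
    omega

theorem index_range_dbl : dbl.range.index = 2 ^ 24 := by
  rw [range_dbl, AddSubgroup.index_ker, AddMonoidHom.range_eq_top.mpr red_surjective,
    AddSubgroup.card_top, Nat.card_eq_fintype_card, Fintype.card_fun, ZMod.card, card_golayPt]

/-- the singular sublattice -/
def A : AddSubgroup (GolayPt → ℤ) := E.map dbl

theorem index_A : A.index = 2 ^ 48 := by
  unfold A
  rw [AddSubgroup.index_map_of_injective E dbl_injective, index_E, index_range_dbl]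
  norm_num

theorem mem_A (v : GolayPt → ℤ) : v ∈ A ↔ ∃ y ∈ E, v = (2 : ℤ) • y := by
  unfold A
  constructor
  · rintro ⟨y, hy, rfl⟩
    exact ⟨y, hy, rfl⟩
  · rintro ⟨y, hy, rfl⟩
    exact ⟨y, hy, rfl⟩

theorem W_dbl (y : GolayPt → ℤ) (hy : ∀ i, (2 : ℤ) ∣ y i - y none) : W ((2 : ℤ) • y) = 0 := by
  funext i
  unfold W
  simp only [Pi.smul_apply, smul_eq_mul, Pi.zero_apply]
  rw [ZMod.intCast_zmod_eq_zero_iff_dvd]
  have := hy i
  have e : (2 * y i - 2 * y none) / 2 = y i - y none := by omega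
  rw [e]
  exact this

theorem A_le : A ≤ leechLattice := by
  intro v hv
  rw [mem_A] at hv
  obtain ⟨y, hy, rfl⟩ := hv
  rw [mem_E] at hy
  rw [mem_leech_iff]
  refine ⟨?_, ?_, ?_⟩
  · intro i
    simp only [Pi.smul_apply, smul_eq_mul]
    exact ⟨y i - y none, by ring⟩
  · rw [W_dbl y hy.1]
    exact golayCode.zero_mem
  · have h1 := sum_eq y ((mem_ker_f1 y).mpr hy.1)
    have h2 : ∑ i, ((2 : ℤ) • y) i = 2 * ∑ i, y i := by
      rw [Finset.mul_sum]
      rfl
    rw [h2, h1]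
    simp only [Pi.smul_apply, smul_eq_mul]
    obtain ⟨k, hk⟩ := hy.2
    rw [hk]
    exact ⟨6 * y none + k - y none, by ring⟩

theorem two_smul_mem (v : GolayPt → ℤ) (hv : v ∈ leechLattice) : (2 : ℤ) • v ∈ A := by
  rw [mem_A]
  refine ⟨v, ?_, rfl⟩
  rw [mem_leech_iff] at hv
  rw [mem_E]
  exact ⟨hv.1, S_even v hv.2.1⟩

theorem sq_mod_two (c : ℤ) : c ^ 2 % 2 = c % 2 := by
  rcases Int.emod_two_eq_zero_or_one c with h | h
  · rw [pow_two, Int.mul_emod, h]; rfl
  · rw [pow_two, Int.mul_emod, h]; rfl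

theorem eight_dvd_sqNorm (y : GolayPt → ℤ) (hy : y ∈ E) : (8 : ℤ) ∣ sqNorm y := by
  rw [mem_E] at hy
  obtain ⟨h1, h2⟩ := hy
  have hy' : ∀ i, y i = y none + 2 * ((y i - y none) / 2) := by
    intro i
    have := h1 i
    omega
  have hN : sqNorm y = 24 * y none ^ 2 + 4 * y none * S y + 4 * ∑ i, ((y i - y none) / 2) ^ 2 := by
    unfold sqNorm S
    rw [Finset.mul_sum, Finset.mul_sum]
    have : ∀ i, y i ^ 2 = y none ^ 2 + (4 * y none * ((y i - y none) / 2) +
        4 * ((y i - y none) / 2) ^ 2) := by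
      intro i
      have := hy' i
      generalize (y i - y none) / 2 = c at this
      rw [this]
      ring
    rw [Finset.sum_congr rfl (fun i _ => this i), Finset.sum_add_distrib, Finset.sum_add_distrib,
      Finset.sum_const, Finset.card_univ, card_golayPt]
    simp
    ring
  have hpar : (∑ i, ((y i - y none) / 2) ^ 2) % 2 = S y % 2 := by
    unfold S
    rw [Finset.sum_int_mod, Finset.sum_int_mod Finset.univ 2 (fun i => (y i - y none) / 2)]
    congr 1
    apply Finset.sum_congr rfl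
    intro i _
    exact sq_mod_two _
  rw [hN]
  obtain ⟨k, hk⟩ := h2
  rw [hk] at hpar ⊢
  have h3 : (2 : ℤ) ∣ ∑ i, ((y i - y none) / 2) ^ 2 := by omega
  obtain ⟨l, hl⟩ := h3
  rw [hl]
  exact ⟨3 * y none ^ 2 + y none * k + l, by ring⟩

theorem thirtytwo_dvd (v : GolayPt → ℤ) (hv : v ∈ A) : (32 : ℤ) ∣ sqNorm v := by
  rw [mem_A] at hv
  obtain ⟨y, hy, rfl⟩ := hv
  obtain ⟨k, hk⟩ := eight_dvd_sqNorm y hy
  have : sqNorm ((2 : ℤ) • y) = 4 * sqNorm y := by
    unfold sqNorm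
    rw [Finset.mul_sum]
    apply Finset.sum_congr rfl
    intro i _
    simp only [Pi.smul_apply, smul_eq_mul]
    ring
  rw [this, hk]
  exact ⟨k, by ring⟩

theorem relindex_A : (A.addSubgroupOf leechLattice).index = 2 ^ 12 := by
  have h1 := AddSubgroup.relIndex_mul_index A_le
  rw [index_A, index_leech] at h1
  have h2 : (2 : ℕ) ^ 48 = 2 ^ 12 * 2 ^ 36 := by norm_num
  rw [h2] at h1
  exact Nat.eq_of_mul_eq_mul_right (by norm_num) h1

theorem main : ∃ A : AddSubgroup (GolayPt → ℤ), A ≤ leechLattice ∧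
    (∀ v ∈ leechLattice, (2 : ℤ) • v ∈ A) ∧ (A.addSubgroupOf leechLattice).index = 2 ^ 12 ∧
    ∀ v ∈ A, (32 : ℤ) ∣ sqNorm v :=
  ⟨A, A_le, two_smul_mem, relindex_A, thirtytwo_dvd⟩

end Cfsg.Agent.Lib.Helper14.LeechSingular
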