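import Mathlib
import Cfsg.Prelude.Def_Sporadic_a
import Cfsg.Agent.Lib.Helper3.Golay.M24List
import Cfsg.Agent.Lib.Helper3.Golay.OctadStab
import Cfsg.Agent.Lib.Helper14.CrossMaxA

set_option autoImplicit false

/-! Subgroups of index `253` in a point stabiliser of `M24` (the group `M23`): they stabilise a pair
of points or an octad through the point.  The argument: such a subgroup `K` has odd index, so it
contains a conjugate of the elementary abelian group of order `16` fixing an octad pointwise, which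
is regular on the `16` points outside the octad; so some `K`-orbit has length at least `16`.  An
element of order `7` of `M24` fixes at most `3` points, so that this length is `16` or `21`. -/

namespace Cfsg.Agent.Lib.Helper14.M23Idx

open Cfsg
open Cfsg.Agent.Lib.Helper3.Golay
open scoped Pointwise

/-- a `p`-subgroup of `G` is conjugate in `G` into any subgroup of `G` of index prime to `p` -/
theorem exists_conj_le {Γ : Type*} [Group Γ] (p : ℕ) [hp : Fact p.Prime] (G K S : Subgroup Γ)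
    (hS : S ≤ G) (hpS : IsPGroup p ↥S) (hidx : ¬ p ∣ Nat.card (↥G ⧸ K.subgroupOf G)) :
    ∃ g ∈ G, ∀ s ∈ S, g⁻¹ * s * g ∈ K := by
  let φ : ↥S →* ↥G := Subgroup.inclusion hS
  let _ : MulAction ↥S (↥G ⧸ K.subgroupOf G) := MulAction.compHom _ φ
  obtain ⟨q, hq⟩ := hpS.nonempty_fixed_point_of_prime_not_dvd_card (↥G ⧸ K.subgroupOf G) hidx
  induction q using QuotientGroup.induction_on with
  | H g =>
    refine ⟨g.1, g.2, fun s hs => ?_⟩
    have h1 := hq ⟨s⁻¹, S.inv_mem hs⟩
    have h2 : ((φ ⟨s⁻¹, S.inv_mem hs⟩ * g : ↥G) : ↥G ⧸ K.subgroupOf G) =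
        (g : ↥G ⧸ K.subgroupOf G) := h1
    rw [QuotientGroup.eq, Subgroup.mem_subgroupOf] at h2
    have h3 : ((φ ⟨s⁻¹, S.inv_mem hs⟩ * g)⁻¹ * g : ↥G) = ((g : Γ)⁻¹ * s * g : Γ) := by
      simp [φ, mul_assoc]
    rw [h3] at h2
    exact h2

/-- the elementary abelian group of order `16` fixing the base octad pointwise -/
def E : Subgroup (Equiv.Perm GolayPt) := M24 ⊓ fixB 6

theorem card_E : Nat.card ↥E = 16 := by
  unfold E
  rw [card_M24_inf_fixB (by norm_num : 6 ≤ 7)]
  decide

theorem isPGroup_E : IsPGroup 2 ↥E := IsPGroup.of_card (n := 4) (by rw [card_E]; norm_num)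

theorem E_le : E ≤ M24 ⊓ MulAction.stabilizer (Equiv.Perm GolayPt) (none : GolayPt) := by
  intro g hg
  refine ⟨hg.1, ?_⟩
  exact mem_fixB.mp hg.2 0 (by norm_num)

theorem exists_E_map {y : GolayPt} (hy : y ∉ bitSet O0) : ∃ σ ∈ E, σ (pt 4) = y := by
  have h1 : (Dmask 6).testBit (idx y) = true := by
    apply Dmask6_aux
    rw [mem_bitSet] at hy
    simpa using hy
  obtain ⟨σ, hσ, hf, hmap, -⟩ := exists_trans (show 6 < 7 by norm_num) (idx_lt y) h1
  exact ⟨σ, ⟨K3_le hσ, hf⟩, by rw [← β6_eq, hmap, pt_idx]⟩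

theorem card_fix4 : Nat.card ↥(M24 ⊓ fixB 4) = 960 := by
  rw [card_M24_inf_fixB (by norm_num : 4 ≤ 7)]
  decide

/-- an element of `M24` whose seventh power is the identity and which fixes four points is the
identity -/
theorem eq_one_of_fix_four {u : Equiv.Perm GolayPt} (hu : u ∈ M24) (h7 : u ^ 7 = 1)
    (l : List GolayPt) (hl : l.Nodup) (hlen : l.length = 4) (hfix : ∀ p ∈ l, u p = p) : u = 1 := by
  obtain ⟨h, hh, hmap⟩ := exists_map_list l [β 0, β 1, β 2, β 3] hl (by decide)
    (by simp [hlen]) (by omega)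
  have hv : h * u * h⁻¹ ∈ M24 ⊓ fixB 4 := by
    refine Subgroup.mem_inf.mpr ⟨M24.mul_mem (M24.mul_mem hh hu) (M24.inv_mem hh), ?_⟩
    rw [mem_fixB]
    intro j hj
    have : β j ∈ l.map h := by
      rw [hmap]
      interval_cases j <;> simp
    obtain ⟨p, hp, hpj⟩ := List.mem_map.mp this
    rw [← hpj]
    simp [hfix p hp]
  have h960 : (h * u * h⁻¹) ^ 960 = 1 := by
    have := pow_card_eq_one' (G := ↥(M24 ⊓ fixB 4)) (x := ⟨_, hv⟩)
    rw [card_fix4] at this
    have h2 := congrArg (fun e : ↥(M24 ⊓ fixB 4) => (e : Equiv.Perm GolayPt)) this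
    simpa only [Subgroup.coe_pow, Subgroup.coe_one] using h2
  have h7' : (h * u * h⁻¹) ^ 7 = 1 := by rw [conj_pow, h7]; group
  have h1 : h * u * h⁻¹ = 1 := by
    have e : (960 : ℕ) = 7 * 137 + 1 := by norm_num
    rw [e, pow_add, pow_mul, h7', one_pow, one_mul, pow_one] at h960
    exact h960
  have := congrArg (fun e => h⁻¹ * e * h) h1
  simpa [mul_assoc] using this

end Cfsg.Agent.Lib.Helper14.M23Idx
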