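import Mathlib
import Cfsg.Prelude.Def_Sporadic_a
import Cfsg.Agent.Lib.Helper14.M23IdxA

set_option autoImplicit false

/-! Subgroups of order `40320` of a point stabiliser of `M24`: the main argument. -/

namespace Cfsg.Agent.Lib.Helper14.M23Idx

open Cfsg
open Cfsg.Agent.Lib.Helper3.Golay
open Cfsg.Agent.Lib.Helper14.CrossMax (ncard_modEq_fixed)
open scoped Pointwise

local notation "St" => MulAction.stabilizer (Equiv.Perm GolayPt)

/-- a subgroup of order `40320` of the stabiliser of `x` contains a conjugate of `E` by an element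
mapping the extra point to `x` -/
theorem exists_conj_E (x : GolayPt) (K : Subgroup (Equiv.Perm GolayPt))
    (hK : K ≤ M24 ⊓ St x) (hcard : Nat.card ↥K = 40320) :
    ∃ g ∈ M24, g none = x ∧ ∀ e ∈ E, g * e * g⁻¹ ∈ K := by
  obtain ⟨g0, hg0, hg0x⟩ := exists_map_one none x
  let S' : Subgroup (Equiv.Perm GolayPt) := E.map (MulAut.conj g0).toMonoidHom
  have hS'G : S' ≤ M24 ⊓ St x := by
    rintro _ ⟨e, he, rfl⟩
    have he' := E_le he
    have h1 : g0⁻¹ x = none := by rw [Equiv.Perm.inv_eq_iff_eq]; exact hg0x.symm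
    have h2 : e none = none := he'.2
    refine Subgroup.mem_inf.mpr ⟨?_, ?_⟩
    · simp only [MulEquiv.toMonoidHom_eq_coe, MonoidHom.coe_coe, MulAut.conj_apply]
      exact M24.mul_mem (M24.mul_mem hg0 he'.1) (M24.inv_mem hg0)
    · rw [MulAction.mem_stabilizer_iff]
      simp only [MulEquiv.toMonoidHom_eq_coe, MonoidHom.coe_coe, MulAut.conj_apply,
        Equiv.Perm.smul_def, Equiv.Perm.mul_apply]
      rw [h1, h2, hg0x]
  have hS'p : IsPGroup 2 ↥S' := isPGroup_E.map _
  have hidx : ¬ 2 ∣ Nat.card (↥(M24 ⊓ St x) ⧸ K.subgroupOf (M24 ⊓ St x)) := by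
    have h1 := Subgroup.card_eq_card_quotient_mul_card_subgroup (K.subgroupOf (M24 ⊓ St x))
    have h2 : Nat.card ↥(K.subgroupOf (M24 ⊓ St x)) = Nat.card ↥K :=
      Nat.card_congr (Subgroup.subgroupOfEquivOfLe hK).toEquiv
    rw [h2, hcard, card_stab_point] at h1
    omega
  obtain ⟨m, hm, hmS⟩ := exists_conj_le 2 (M24 ⊓ St x) K S' hS'G hS'p hidx
  refine ⟨m⁻¹ * g0, M24.mul_mem (M24.inv_mem hm.1) hg0, ?_, ?_⟩
  · rw [Equiv.Perm.mul_apply, hg0x, Equiv.Perm.inv_eq_iff_eq]
    exact (hm.2).symm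
  · intro e he
    have h1 := hmS (g0 * e * g0⁻¹) ⟨e, he, rfl⟩
    have e2 : m⁻¹ * g0 * e * (m⁻¹ * g0)⁻¹ = m⁻¹ * (g0 * e * g0⁻¹) * m := by group
    rw [e2]; exact h1

theorem arith (n : ℕ) (h1 : n ∣ 40320) (h2 : 16 ≤ n) (h3 : n ≤ 23) (h4 : n % 7 ≤ 2) :
    n = 16 ∨ n = 21 := by
  interval_cases n <;> omega

theorem none_mem_O0 : (none : GolayPt) ∈ bitSet O0 := by rw [mem_bitSet]; decide +kernel

theorem pt4_ne_none : pt 4 ≠ (none : GolayPt) := by decide

theorem card_compl_O0 : ((bitSet O0)ᶜ : Finset GolayPt).card = 16 := by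
  rw [Finset.card_compl, card_pts, O0_mem.2]

/-- a subgroup of order `40320` of the stabiliser of `x` stabilises a pair of points or an octad
through `x` -/
theorem key (x : GolayPt) (K : Subgroup (Equiv.Perm GolayPt))
    (hK : K ≤ M24 ⊓ St x) (hcard : Nat.card ↥K = 40320) :
    (∃ s : Finset GolayPt, s.card = 2 ∧ x ∉ s ∧ K ≤ St s) ∨
    (∃ o ∈ octads, x ∈ o ∧ K ≤ St o) := by
  classical
  obtain ⟨g, hg, hgx, hgE⟩ := exists_conj_E x K hK hcard
  have hKx : ∀ k ∈ K, k x = x := fun k hk => (hK hk).2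
  set y0 : GolayPt := g (pt 4) with hy0
  set O : Set GolayPt := {p | ∃ k ∈ K, k y0 = p} with hO
  have hKO : ∀ k ∈ K, ∀ p, k p ∈ O ↔ p ∈ O := by
    intro k hk p
    constructor
    · rintro ⟨k', hk', h⟩
      refine ⟨k⁻¹ * k', K.mul_mem (K.inv_mem hk) hk', ?_⟩
      rw [Equiv.Perm.mul_apply, h]; simp
    · rintro ⟨k', hk', h⟩
      exact ⟨k * k', K.mul_mem hk hk', by rw [Equiv.Perm.mul_apply, h]⟩
  have hTO : ∀ p, p ∉ bitSet O0 → g p ∈ O := by
    intro p hp
    obtain ⟨e, he, hep⟩ := exists_E_map hp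
    refine ⟨g * e * g⁻¹, hgE e he, ?_⟩
    simp [hy0, hep]
  have hxO : x ∉ O := by
    rintro ⟨k, hk, hkx⟩
    have h1 : k y0 = k x := by rw [hkx, hKx k hk]
    have h2 : y0 = x := k.injective h1
    rw [hy0, ← hgx] at h2
    exact pt4_ne_none (g.injective h2)
  have horb : O = MulAction.orbit ↥K y0 := by
    ext p
    constructor
    · rintro ⟨k, hk, rfl⟩
      exact ⟨⟨k, hk⟩, rfl⟩
    · rintro ⟨k, rfl⟩
      exact ⟨k.1, k.2, rfl⟩
  have hdvd : O.ncard ∣ 40320 := by
    have h1 := card_eq_orbit_mul K y0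
    rw [hcard, ← horb, Nat.card_coe_set_eq] at h1
    exact Dvd.intro _ h1.symm
  have hsub : (((bitSet O0)ᶜ.image g : Finset GolayPt) : Set GolayPt) ⊆ O := by
    intro p hp
    rw [Finset.mem_coe, Finset.mem_image] at hp
    obtain ⟨q, hq, rfl⟩ := hp
    exact hTO q (Finset.mem_compl.mp hq)
  have hcardA : ((bitSet O0)ᶜ.image g : Finset GolayPt).card = 16 := by
    rw [Finset.card_image_of_injective _ g.injective, card_compl_O0]
  have hge : 16 ≤ O.ncard := by
    have := Set.ncard_le_ncard hsub (Set.toFinite O)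
    rwa [Set.ncard_coe_finset, hcardA] at this
  have hle : O.ncard ≤ 23 := by
    have h1 : O ⊆ ((Finset.univ.erase x : Finset GolayPt) : Set GolayPt) := by
      intro p hp
      rw [Finset.mem_coe, Finset.mem_erase]
      exact ⟨fun h => hxO (h ▸ hp), Finset.mem_univ _⟩
    have := Set.ncard_le_ncard h1 (Set.toFinite _)
    rwa [Set.ncard_coe_finset, Finset.card_erase_of_mem (Finset.mem_univ _), Finset.card_univ,
      card_pts] at this
  haveI : Fact (Nat.Prime 7) := ⟨by norm_num⟩
  obtain ⟨u, hu⟩ := exists_prime_orderOf_dvd_card' 7 (by rw [hcard]; norm_num : 7 ∣ Nat.card ↥K)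
  have hu7 : (u : Equiv.Perm GolayPt) ^ 7 = 1 := by
    have := pow_orderOf_eq_one u
    rw [hu] at this
    have h2 := congrArg (fun e : ↥K => (e : Equiv.Perm GolayPt)) this
    simpa only [Subgroup.coe_pow, Subgroup.coe_one] using h2
  have hu1 : (u : Equiv.Perm GolayPt) ≠ 1 := by
    intro h
    have : u = 1 := Subtype.ext h
    rw [this, orderOf_one] at hu
    omega
  have huM : (u : Equiv.Perm GolayPt) ∈ M24 := (hK u.2).1
  have huO : (u : Equiv.Perm GolayPt) • O = O := by
    ext p
    rw [Set.mem_smul_set_iff_inv_smul_mem, Equiv.Perm.smul_def]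
    exact hKO _ (K.inv_mem u.2) p
  have hmod := ncard_modEq_fixed 7 (u : Equiv.Perm GolayPt) hu7 O huO (Set.toFinite O)
  have hfix : {a ∈ O | (u : Equiv.Perm GolayPt) • a = a}.ncard ≤ 2 := by
    by_contra hcon
    rw [not_le] at hcon
    have h1 : {a ∈ O | (u : Equiv.Perm GolayPt) • a = a} =
        ((Finset.univ.filter (fun a => a ∈ O ∧ (u : Equiv.Perm GolayPt) a = a) :
          Finset GolayPt) : Set GolayPt) := by
      ext a; simp
    rw [h1, Set.ncard_coe_finset] at hcon
    obtain ⟨t, ht, htc⟩ := Finset.exists_subset_card_eq (show 3 ≤ _ from hcon)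
    have htO : ∀ p ∈ t, p ∈ O ∧ (u : Equiv.Perm GolayPt) p = p := by
      intro p hp
      have := ht hp
      rw [Finset.mem_filter] at this
      exact this.2
    apply hu1
    apply eq_one_of_fix_four huM hu7 (x :: t.toList)
    · rw [List.nodup_cons]
      refine ⟨?_, t.nodup_toList⟩
      rw [Finset.mem_toList]
      intro hxt
      exact hxO (htO x hxt).1
    · rw [List.length_cons, Finset.length_toList, htc]
    · intro p hp
      rw [List.mem_cons] at hp
      rcases hp with rfl | hp
      · exact hKx _ u.2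
      · exact (htO p (Finset.mem_toList.mp hp)).2
  have hlt : O.ncard % 7 ≤ 2 := by
    have h1 : O.ncard % 7 = {a ∈ O | (u : Equiv.Perm GolayPt) • a = a}.ncard % 7 := hmod
    omega
  rcases arith _ hdvd hge hle hlt with h16 | h21
  · right
    have hAO : (((bitSet O0)ᶜ.image g : Finset GolayPt) : Set GolayPt) = O :=
      Set.eq_of_subset_of_ncard_le hsub (by rw [h16, Set.ncard_coe_finset, hcardA])
        (Set.toFinite O)
    have hcompl : ∀ p, p ∈ g • bitSet O0 ↔ p ∉ O := by
      intro p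
      rw [← hAO, Finset.mem_coe, Finset.mem_image, Finset.mem_smul_finset]
      constructor
      · rintro ⟨q, hq, rfl⟩ ⟨q', hq', h⟩
        have : q' = q := g.injective h
        rw [this] at hq'
        exact Finset.mem_compl.mp hq' hq
      · intro h
        refine ⟨g⁻¹ p, ?_, by simp⟩
        by_contra hq
        exact h ⟨g⁻¹ p, Finset.mem_compl.mpr hq, by simp⟩
    refine ⟨g • bitSet O0, smul_mem_octads hg O0_mem, ?_, ?_⟩
    · rw [← hgx]
      exact Finset.smul_mem_smul_finset none_mem_O0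
    · intro k hk
      rw [stab_iff]
      intro p
      rw [hcompl, hcompl, hKO k hk]
  · left
    have hfilt : (Finset.univ.filter (fun p : GolayPt => p ∉ O)).card = 3 := by
      have h1 := Finset.card_filter_add_card_filter_not (s := (Finset.univ : Finset GolayPt))
        (fun p => p ∈ O)
      have h2 : (Finset.univ.filter (fun p : GolayPt => p ∈ O)).card = O.ncard := by
        have h3 : ((Finset.univ.filter (fun p : GolayPt => p ∈ O) : Finset GolayPt) :
            Set GolayPt) = O := by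
          ext p
          rw [Finset.mem_coe, Finset.mem_filter]
          exact ⟨fun h => h.2, fun h => ⟨Finset.mem_univ _, h⟩⟩
        conv_rhs => rw [← h3]
        rw [Set.ncard_coe_finset]
      rw [h2, h21, Finset.card_univ, card_pts] at h1
      omega
    refine ⟨(Finset.univ.filter (fun p : GolayPt => p ∉ O)).erase x, ?_, Finset.notMem_erase _ _, ?_⟩
    · rw [Finset.card_erase_of_mem (by rw [Finset.mem_filter]; exact ⟨Finset.mem_univ _, hxO⟩),
        hfilt]
    · intro k hk
      rw [stab_iff]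
      intro p
      rw [Finset.mem_erase, Finset.mem_erase, Finset.mem_filter, Finset.mem_filter, hKO k hk]
      have : k p = x ↔ p = x := by
        constructor
        · intro h
          apply k.injective
          rw [h, hKx k hk]
        · rintro rfl
          exact hKx k hk
      simp only [ne_eq, this, Finset.mem_univ, true_and]

end Cfsg.Agent.Lib.Helper14.M23Idx
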