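import Mathlib
import Cfsg.Prelude.Def_Sporadic_a
import Cfsg.Agent.Lib.Helper14.M23IdxB

set_option autoImplicit false

/-! Subgroups of order `40320` of a point stabiliser of `M24`: the orders of the stabilisers of a
pair and of an octad, and the flat form of the classification. -/

namespace Cfsg.Agent.Lib.Helper14.M23Idx

open Cfsg
open Cfsg.Agent.Lib.Helper3.Golay
open scoped Pointwise

local notation "St" => MulAction.stabilizer (Equiv.Perm GolayPt)

/-- the stabiliser of a point and of a pair of further points has order `40320` -/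
theorem card_stab_pair (x : GolayPt) (s : Finset GolayPt) (hs : s.card = 2) (hx : x ∉ s) :
    Nat.card ↥(M24 ⊓ St x ⊓ St s) = 40320 := by
  classical
  have h := card_of_orbit_eq (M24 ⊓ St x) s ((Finset.univ.erase x).powersetCard 2)
    (by
      intro g hg
      rw [Finset.mem_powersetCard]
      refine ⟨?_, by rw [Finset.card_smul_finset, hs]⟩
      intro p hp
      rw [Finset.mem_erase]
      refine ⟨?_, Finset.mem_univ _⟩
      rintro rfl
      obtain ⟨q, hq, hqp⟩ := Finset.mem_smul_finset.mp hp
      have h1 : g p = p := hg.2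
      have h2 : g q = g p := by rw [h1]; exact hqp
      exact hx (g.injective h2 ▸ hq))
    (by
      intro δ hδ
      rw [Finset.mem_powersetCard] at hδ
      have hxδ : x ∉ δ := fun h => (Finset.mem_erase.mp (hδ.1 h)).1 rfl
      obtain ⟨g, hg, h1, h2⟩ := exists_map_rel {x} s δ
        (by rw [Finset.singleton_inter_of_notMem hx, Finset.singleton_inter_of_notMem hxδ])
        (by rw [Finset.sdiff_eq_self_of_disjoint
              (Finset.disjoint_singleton_left.mpr hx), Finset.sdiff_eq_self_of_disjoint
              (Finset.disjoint_singleton_left.mpr hxδ)])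
        (by rw [Finset.sdiff_singleton_eq_erase, Finset.sdiff_singleton_eq_erase,
              Finset.erase_eq_of_notMem hx, Finset.erase_eq_of_notMem hxδ, hs, hδ.2])
        (by rw [Finset.singleton_inter_of_notMem hx, Finset.sdiff_eq_self_of_disjoint
              (Finset.disjoint_singleton_left.mpr hx), Finset.sdiff_singleton_eq_erase,
              Finset.erase_eq_of_notMem hx, hs]; simp)
      refine ⟨g, Subgroup.mem_inf.mpr ⟨hg, ?_⟩, h2⟩
      rw [MulAction.mem_stabilizer_iff]
      rw [Finset.smul_finset_singleton] at h1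
      exact Finset.singleton_injective h1)
  rw [card_stab_point, Finset.card_powersetCard, Finset.card_erase_of_mem (Finset.mem_univ _),
    Finset.card_univ, card_pts] at h
  have h253 : Nat.choose (24 - 1) 2 = 253 := by decide
  rw [h253] at h
  omega

/-- the stabiliser of a point and of an octad through it has order `40320` -/
theorem card_stab_oct (x : GolayPt) (o : Finset GolayPt) (ho : o ∈ octads) (hx : x ∈ o) :
    Nat.card ↥(M24 ⊓ St x ⊓ St o) = 40320 := by
  have h := card_of_orbit_eq (M24 ⊓ St o) x o
    (by
      intro g hg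
      have h1 : g ∈ St o := hg.2
      rw [stab_iff] at h1
      exact (h1 x).mpr hx)
    (by
      intro δ hδ
      obtain ⟨g, hg, h1, h2⟩ := exists_map_octad_list ho ho [x] [δ] (by simp) (by simp) rfl
        (by simp) (by simpa using hx) (by simpa using hδ)
      refine ⟨g, Subgroup.mem_inf.mpr ⟨hg, h1⟩, ?_⟩
      simpa using h2)
  rw [card_stab_octad ho, ho.2] at h
  rw [inf_right_comm]
  omega

/-- subgroups of order `40320` of a point stabiliser of `M24`, flat form -/
theorem flat (x : GolayPt) (K : Subgroup (Equiv.Perm GolayPt))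
    (hK : K ≤ M24 ⊓ St x) (hcard : Nat.card ↥K = 40320) :
    (∃ s : Finset GolayPt, s.card = 2 ∧ x ∉ s ∧ K = M24 ⊓ St x ⊓ St s) ∨
    (∃ o ∈ octads, x ∈ o ∧ K = M24 ⊓ St x ⊓ St o) := by
  rcases key x K hK hcard with ⟨s, hs, hxs, hle⟩ | ⟨o, ho, hxo, hle⟩
  · left
    refine ⟨s, hs, hxs, ?_⟩
    apply Subgroup.eq_of_le_of_card_ge (le_inf hK hle)
    rw [card_stab_pair x s hs hxs, hcard]
  · right
    refine ⟨o, ho, hxo, ?_⟩
    apply Subgroup.eq_of_le_of_card_ge (le_inf hK hle)
    rw [card_stab_oct x o ho hxo, hcard]

end Cfsg.Agent.Lib.Helper14.M23Idx
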