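import Mathlib
import Cfsg.Prelude.Def_MonsterType
import Cfsg.Agent.Lib.Helper16.ES32
import Cfsg.Agent.Lib.Helper8.FStar

/-!
# Groups of Monster type: the quadratic form induced on the Leech lattice modulo 2 (helper14)

`Dat z Q` unpacks `Cfsg.IsOfMonsterType z Q`.  From it we get the central involution `zQ` of `Q`,
`ESData ↥Q zQ`, lifts of lattice vectors to `Q`, and the `ZMod 2`-valued forms `ff` (squaring) and
`bb` (commutator) on the lattice, with the polarisation identities and `Co0`-invariance.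
-/

set_option autoImplicit false
set_option linter.unusedSectionVars false

namespace Cfsg.Agent.Lib.Helper14.MonT

open Cfsg Cfsg.Agent.Lib.Helper16.ES32

variable {G : Type*} [Group G] [Finite G] {z : G}
  {Q : Subgroup (Subgroup.centralizer ({z} : Set G))} [Q.Normal]

/-- unpacked data of a group of Monster type at `(z, Q)`. -/
structure Dat (z : G) (Q : Subgroup (Subgroup.centralizer ({z} : Set G))) [Q.Normal] where
  e : (Subgroup.centralizer ({z} : Set G)) ⧸ Q ≃* Spor.Co1
  ψ : leechLattice → Q ⧸ Subgroup.center Q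
  hψ : IsLeechModTwoIso Q e ψ
  hz : orderOf z = 2
  hF : generalizedFittingSubgroup (Subgroup.centralizer ({z} : Set G)) = Q
  hes : IsExtraspecial 2 Q
  hcard : Nat.card Q = 2 ^ 25

theorem nonempty_dat (hM : IsOfMonsterType z Q) : Nonempty (Dat z Q) := by
  obtain ⟨⟨hz, hF, hes, hcard, -⟩, e, ψ, hψ⟩ := hM
  exact ⟨⟨e, ψ, hψ, hz, hF, hes, by simpa using hcard⟩⟩

theorem dat_of (hM : IsOfMonsterType z Q)
    (e : (Subgroup.centralizer ({z} : Set G)) ⧸ Q ≃* Spor.Co1)
    (ψ : leechLattice → Q ⧸ Subgroup.center Q) (hψ : IsLeechModTwoIso Q e ψ) :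
    ∃ D : Dat z Q, D.e = e ∧ D.ψ = ψ := by
  obtain ⟨⟨hz, hF, hes, hcard, -⟩, -⟩ := hM
  exact ⟨⟨e, ψ, hψ, hz, hF, hes, by simpa using hcard⟩, rfl, rfl⟩

/-- `z` as an element of its centralizer. -/
def zC (z : G) : Subgroup.centralizer ({z} : Set G) :=
  ⟨z, by
    rw [Subgroup.mem_centralizer_iff]
    intro y hy
    rw [Set.mem_singleton_iff] at hy
    rw [hy]⟩

theorem zC_comm (h : Subgroup.centralizer ({z} : Set G)) : h * zC z = zC z * h := by
  apply Subtype.ext
  have := Subgroup.mem_centralizer_iff.mp h.2 z rfl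
  simpa [zC] using this.symm

namespace Dat

variable (D : Dat z Q)

include D in
theorem z_ne_one : z ≠ 1 := by
  intro h
  have := D.hz
  rw [h, orderOf_one] at this
  omega

include D in
theorem z_sq : z * z = 1 := by
  have := pow_orderOf_eq_one z
  rw [D.hz, pow_two] at this
  exact this

include D in
theorem zC_mem : zC z ∈ Q := by
  have h1 : zC z ∈ Subgroup.centralizer
      (generalizedFittingSubgroup (Subgroup.centralizer ({z} : Set G)) : Set _) := by
    rw [Subgroup.mem_centralizer_iff]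
    intro y _
    exact (zC_comm y)
  have h2 := Cfsg.Agent.Lib.Helper8.centralizer_fstar_le h1
  rwa [D.hF] at h2

/-- `z` as an element of `Q`. -/
def zQ : Q := ⟨zC z, D.zC_mem⟩

theorem zQ_coe : ((D.zQ : Subgroup.centralizer ({z} : Set G)) : G) = z := rfl

theorem zQ_ne_one : D.zQ ≠ 1 := by
  intro h
  apply D.z_ne_one
  have := congrArg (fun q : Q => ((q : Subgroup.centralizer ({z} : Set G)) : G)) h
  simpa [zQ, zC] using this

theorem zQ_comm (x : Q) : x * D.zQ = D.zQ * x := by
  apply Subtype.ext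
  exact zC_comm (x : Subgroup.centralizer ({z} : Set G))

theorem esData : ESData Q D.zQ := by
  obtain ⟨z', hz'⟩ := exists_esData D.hes
  have : D.zQ = z' := by
    rcases hz'.center D.zQ (fun g => (D.zQ_comm g).symm) with h | h
    · exact absurd h D.zQ_ne_one
    · exact h
  rw [this]
  exact hz'

theorem mk_eq_mk_iff (x y : Q) :
    (QuotientGroup.mk x : Q ⧸ Subgroup.center Q) = QuotientGroup.mk y ↔ y = x ∨ y = x * D.zQ := by
  rw [QuotientGroup.eq]
  constructor
  · intro h
    rw [Subgroup.mem_center_iff] at h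
    rcases D.esData.center (x⁻¹ * y) (fun g => (h g).symm) with h1 | h1
    · left
      have : y = x * (x⁻¹ * y) := by group
      rw [this, h1, mul_one]
    · right
      have : y = x * (x⁻¹ * y) := by group
      rw [this, h1]
  · rintro (rfl | rfl)
    · simp
    · have : x⁻¹ * (x * D.zQ) = D.zQ := by group
      rw [this, Subgroup.mem_center_iff]
      intro g
      exact D.zQ_comm g

theorem mk_eq_one_iff (x : Q) :
    (QuotientGroup.mk x : Q ⧸ Subgroup.center Q) = 1 ↔ x = 1 ∨ x = D.zQ := by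
  have := D.mk_eq_mk_iff 1 x
  rw [one_mul] at this
  rw [← this, QuotientGroup.mk_one, eq_comm]

theorem psi_add (v w : leechLattice) : D.ψ (v + w) = D.ψ v * D.ψ w := D.hψ.1 v w

theorem psi_surj : Function.Surjective D.ψ := D.hψ.2.1

theorem psi_eq_one_iff (v : leechLattice) : D.ψ v = 1 ↔ ∃ w : leechLattice, v = w + w :=
  D.hψ.2.2.1 v

theorem psi_dbl (w : leechLattice) : D.ψ (w + w) = 1 := (D.psi_eq_one_iff _).mpr ⟨w, rfl⟩

theorem psi_zero : D.ψ 0 = 1 := by
  have := D.psi_dbl 0
  rwa [add_zero] at this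

theorem psi_neg (v : leechLattice) : D.ψ (-v) = D.ψ v := by
  have h1 : -v = v + ((-v) + (-v)) := by abel
  rw [h1, D.psi_add, D.psi_dbl, mul_one]

/-- a lift of `ψ v` to `Q`. -/
noncomputable def lift (v : leechLattice) : Q :=
  Classical.choose (QuotientGroup.mk_surjective (D.ψ v))

theorem mk_lift (v : leechLattice) :
    (QuotientGroup.mk (D.lift v) : Q ⧸ Subgroup.center Q) = D.ψ v :=
  Classical.choose_spec (QuotientGroup.mk_surjective (D.ψ v))

/-- the squaring form on the lattice. -/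
noncomputable def ff (v : leechLattice) : ZMod 2 := qq (D.lift v)

/-- the commutator form on the lattice. -/
noncomputable def bb (v w : leechLattice) : ZMod 2 := cc (D.lift v) (D.lift w)

theorem eq_lift_of_mk {v : leechLattice} {x : Q}
    (hx : D.ψ v = QuotientGroup.mk x) : x = D.lift v ∨ x = D.lift v * D.zQ := by
  apply (D.mk_eq_mk_iff (D.lift v) x).mp
  rw [D.mk_lift, hx]

theorem qq_of_mk {v : leechLattice} {x : Q} (hx : D.ψ v = QuotientGroup.mk x) :
    qq x = D.ff v := by
  rcases D.eq_lift_of_mk hx with rfl | rfl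
  · rfl
  · rw [qq_mul D.esData, qq_z D.esData, cc_z_right D.esData, add_zero, add_zero]; rfl

theorem cc_of_mk {v w : leechLattice} {x y : Q} (hx : D.ψ v = QuotientGroup.mk x)
    (hy : D.ψ w = QuotientGroup.mk y) : cc x y = D.bb v w := by
  have e1 : ∀ a b : Q, cc (a * D.zQ) b = cc a b := by
    intro a b
    rw [cc_mul_left D.esData, cc_z_left D.esData, add_zero]
  have e2 : ∀ a b : Q, cc a (b * D.zQ) = cc a b := by
    intro a b
    rw [cc_mul_right D.esData, cc_z_right D.esData, add_zero]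
  rcases D.eq_lift_of_mk hx with rfl | rfl <;> rcases D.eq_lift_of_mk hy with rfl | rfl
  · rfl
  · rw [e2]; rfl
  · rw [e1]; rfl
  · rw [e1, e2]; rfl

theorem mk_mul_lift (v w : leechLattice) :
    D.ψ (v + w) = QuotientGroup.mk (D.lift v * D.lift w) := by
  rw [QuotientGroup.mk_mul, D.mk_lift, D.mk_lift, D.psi_add]

theorem ff_add (v w : leechLattice) : D.ff (v + w) = D.ff v + D.ff w + D.bb v w := by
  rw [← D.qq_of_mk (D.mk_mul_lift v w), qq_mul D.esData]; rfl

theorem bb_add_left (v v' w : leechLattice) : D.bb (v + v') w = D.bb v w + D.bb v' w := by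
  rw [← D.cc_of_mk (D.mk_mul_lift v v') (D.mk_lift w).symm, cc_mul_left D.esData]; rfl

theorem bb_symm (v w : leechLattice) : D.bb v w = D.bb w v := cc_symm _ _

theorem bb_add_right (v w w' : leechLattice) : D.bb v (w + w') = D.bb v w + D.bb v w' := by
  rw [D.bb_symm, D.bb_add_left, D.bb_symm w, D.bb_symm w']

theorem ff_of_psi_eq_one {v : leechLattice} (h : D.ψ v = 1) : D.ff v = 0 := by
  have : D.ψ v = QuotientGroup.mk (1 : Q) := by rw [h, QuotientGroup.mk_one]
  rw [← D.qq_of_mk this, qq_one]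

theorem bb_of_psi_eq_one {v : leechLattice} (h : D.ψ v = 1) (w : leechLattice) :
    D.bb v w = 0 := by
  have : D.ψ v = QuotientGroup.mk (1 : Q) := by rw [h, QuotientGroup.mk_one]
  rw [← D.cc_of_mk this (D.mk_lift w).symm, cc_one_left]

theorem ff_dbl (w : leechLattice) : D.ff (w + w) = 0 := D.ff_of_psi_eq_one (D.psi_dbl w)

theorem bb_dbl_left (w v : leechLattice) : D.bb (w + w) v = 0 :=
  D.bb_of_psi_eq_one (D.psi_dbl w) v

theorem bb_dbl_right (v w : leechLattice) : D.bb v (w + w) = 0 := by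
  rw [D.bb_symm]; exact D.bb_dbl_left w v

theorem ff_zero : D.ff 0 = 0 := D.ff_of_psi_eq_one D.psi_zero

theorem bb_self (v : leechLattice) : D.bb v v = 0 := cc_self _

theorem ff_congr {v w : leechLattice} (h : D.ψ v = D.ψ w) : D.ff v = D.ff w := by
  rw [← D.qq_of_mk (D.mk_lift v).symm, ← D.qq_of_mk (h ▸ (D.mk_lift v).symm : D.ψ w = _)]

theorem bb_congr_left {v v' : leechLattice} (h : D.ψ v = D.ψ v') (w : leechLattice) :
    D.bb v w = D.bb v' w := by
  rw [← D.cc_of_mk (D.mk_lift v).symm (D.mk_lift w).symm,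
    ← D.cc_of_mk (h ▸ (D.mk_lift v).symm : D.ψ v' = _) (D.mk_lift w).symm]

theorem ff_neg (v : leechLattice) : D.ff (-v) = D.ff v := D.ff_congr (D.psi_neg v)

theorem bb_neg_left (v w : leechLattice) : D.bb (-v) w = D.bb v w :=
  D.bb_congr_left (D.psi_neg v) w

theorem bb_neg_right (v w : leechLattice) : D.bb v (-w) = D.bb v w := by
  rw [D.bb_symm, D.bb_neg_left, D.bb_symm]

/-- nondegeneracy of the commutator form. -/
theorem psi_eq_one_of_bb (v : leechLattice) (h : ∀ w, D.bb v w = 0) : D.ψ v = 1 := by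
  rw [← D.mk_lift, D.mk_eq_one_iff, ← center_iff D.esData]
  intro g
  obtain ⟨w, hw⟩ := D.psi_surj (QuotientGroup.mk g)
  rw [D.cc_of_mk (D.mk_lift v).symm hw]
  exact h w

/-! ### invariance under the lattice automorphism group -/

theorem exists_h (g : Co0) : ∃ h : Subgroup.centralizer ({z} : Set G),
    (QuotientGroup.mk g : Spor.Co1) = D.e (QuotientGroup.mk h) := by
  obtain ⟨c, hc⟩ := D.e.surjective (QuotientGroup.mk g)
  obtain ⟨h, rfl⟩ := QuotientGroup.mk_surjective c
  exact ⟨h, hc.symm⟩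

theorem psi_smul (h : Subgroup.centralizer ({z} : Set G)) (g : Co0)
    (hg : (QuotientGroup.mk g : Spor.Co1) = D.e (QuotientGroup.mk h)) (v : leechLattice) (q : Q)
    (hq : D.ψ v = QuotientGroup.mk q) :
    D.ψ (g • v) = QuotientGroup.mk (MulAut.conjNormal h q) := by
  have := D.hψ.2.2.2 h g hg v q hq
  rw [this]
  congr 1

theorem ff_smul (g : Co0) (v : leechLattice) : D.ff (g • v) = D.ff v := by
  obtain ⟨h, hg⟩ := D.exists_h g
  rw [← D.qq_of_mk (D.psi_smul h g hg v _ (D.mk_lift v).symm), qq_map]; rfl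

theorem bb_smul (g : Co0) (v w : leechLattice) : D.bb (g • v) (g • w) = D.bb v w := by
  obtain ⟨h, hg⟩ := D.exists_h g
  rw [← D.cc_of_mk (D.psi_smul h g hg v _ (D.mk_lift v).symm)
    (D.psi_smul h g hg w _ (D.mk_lift w).symm), cc_map]; rfl

end Dat

end Cfsg.Agent.Lib.Helper14.MonT
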