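import Cfsg.Agent.Lib.Helper14.MonA
import Cfsg.Agent.Lib.Helper14.LeechOrbit
import Cfsg.Agent.Lib.Helper14.LeechCross
import Cfsg.Agent.Lib.Helper14.LeechShort
import Cfsg.Agent.Lib.Helper14.LeechMin

/-!
# Groups of Monster type: identification of the squaring form (helper14)

The `Co0`-invariant quadratic form `ff` induced on the Leech lattice by squaring in `Q` is the
standard one: `ff v = (sqNorm v / 16) mod 2`, and `bb v w = (dotInt v w / 8) mod 2`.
-/

set_option autoImplicit false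
set_option linter.unusedSectionVars false

namespace Cfsg.Agent.Lib.Helper14.MonT

open Cfsg Cfsg.Agent.Lib.Helper16.ES32

/-- squared length of a lattice vector. -/
def nrm (v : leechLattice) : ℤ := sqNorm (v : GolayPt → ℤ)

/-- inner product of lattice vectors. -/
def ip (v w : leechLattice) : ℤ := dotInt (v : GolayPt → ℤ) (w : GolayPt → ℤ)

theorem nrm_add (v w : leechLattice) : nrm (v + w) = nrm v + nrm w + 2 * ip v w := by
  unfold nrm ip
  rw [AddSubgroup.coe_add, Cfsg.Agent.Lib.Helper14.Leech.sqNorm_add]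

theorem nrm_neg (v : leechLattice) : nrm (-v) = nrm v := by
  unfold nrm
  rw [AddSubgroup.coe_neg, Cfsg.Agent.Lib.Helper14.Leech.sqNorm_neg]

theorem sixteen_dvd_nrm (v : leechLattice) : (16 : ℤ) ∣ nrm v :=
  Cfsg.Agent.Lib.Helper14.Leech.sixteen_dvd_sqNorm_lattice v.1 v.2

theorem eight_dvd_ip (v w : leechLattice) : (8 : ℤ) ∣ ip v w := by
  have h1 := sixteen_dvd_nrm (v + w)
  have h2 := sixteen_dvd_nrm v
  have h3 := sixteen_dvd_nrm w
  rw [nrm_add] at h1
  omega

theorem ip_comm (v w : leechLattice) : ip v w = ip w v :=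
  Cfsg.Agent.Lib.Helper14.LeechCross.dotInt_comm _ _

theorem ip_add_left (v v' w : leechLattice) : ip (v + v') w = ip v w + ip v' w := by
  unfold ip
  rw [AddSubgroup.coe_add, Cfsg.Agent.Lib.Helper14.LeechCross.dotInt_add_left]

theorem ip_add_right (v w w' : leechLattice) : ip v (w + w') = ip v w + ip v w' := by
  rw [ip_comm, ip_add_left, ip_comm w, ip_comm w']

theorem ip_self (v : leechLattice) : ip v v = nrm v :=
  Cfsg.Agent.Lib.Helper14.LeechCross.dotInt_self _

theorem nrm_nonneg (v : leechLattice) : 0 ≤ nrm v :=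
  Cfsg.Agent.Lib.Helper14.Leech.sqNorm_nonneg _

theorem eq_zero_of_nrm (v : leechLattice) (h : nrm v = 0) : v = 0 :=
  Subtype.ext (Cfsg.Agent.Lib.Helper14.LeechCross.sqNorm_eq_zero _ h)

theorem nrm_zero : nrm 0 = 0 := by
  unfold nrm sqNorm
  simp

theorem thirtytwo_le_nrm (v : leechLattice) (h : v ≠ 0) : 32 ≤ nrm v := by
  apply Cfsg.Agent.Lib.Helper14.Leech.thirtytwo_le_sqNorm_lattice v.1 v.2
  intro h0
  exact h (Subtype.ext h0)

theorem nrm_cases (v : leechLattice) (h : nrm v ≤ 64) :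
    v = 0 ∨ nrm v = 32 ∨ nrm v = 48 ∨ nrm v = 64 := by
  by_cases h0 : v = 0
  · exact Or.inl h0
  · right
    have h1 := thirtytwo_le_nrm v h0
    have h2 := sixteen_dvd_nrm v
    omega

/-- every lattice vector is a short vector plus a double. -/
theorem exists_short_add_dbl (v : leechLattice) :
    ∃ y w : leechLattice, nrm y ≤ 64 ∧ v = y + (w + w) := by
  obtain ⟨y, hy, hn, w, hw, hvw⟩ := Cfsg.Agent.Lib.Helper14.LeechCross.exists_short v.1 v.2
  refine ⟨⟨y, hy⟩, ⟨w, hw⟩, hn, ?_⟩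
  apply Subtype.ext
  rw [AddSubgroup.coe_add, AddSubgroup.coe_add]
  show (v : GolayPt → ℤ) = y + (w + w)
  have : (v : GolayPt → ℤ) = y + ((v : GolayPt → ℤ) - y) := by abel
  rw [this, hvw, two_nsmul]

/-! ### explicit vectors -/

/-- `(1, -3, 1^22)` -/
def vB : GolayPt → ℤ := fun p => if p = some 0 then -3 else 1
/-- `(-4, 0, -4, 0^21)` -/
def vD : GolayPt → ℤ := fun p => if p = none ∨ p = some 1 then -4 else 0
/-- `(0, -4, 4, 0^21)` -/
def vB' : GolayPt → ℤ := fun p => if p = some 0 then -4 else if p = some 1 then 4 else 0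
/-- `(0, 0, -4, 4, 0^20)` -/
def vD' : GolayPt → ℤ := fun p => if p = some 1 then -4 else if p = some 2 then 4 else 0

theorem vB_mem : vB ∈ leechSet :=
  Spor.mem_leechSet_of_const_mod_four vB 1 1 (by decide) (by decide) (by decide)
theorem vD_mem : vD ∈ leechSet :=
  Spor.mem_leechSet_of_const_mod_four vD 0 0 (by decide) (by decide) (by decide)
theorem vB'_mem : vB' ∈ leechSet :=
  Spor.mem_leechSet_of_const_mod_four vB' 0 0 (by decide) (by decide) (by decide)
theorem vD'_mem : vD' ∈ leechSet :=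
  Spor.mem_leechSet_of_const_mod_four vD' 0 0 (by decide) (by decide) (by decide)

def lA : leechLattice := Spor.leechU
def lB : leechLattice := ⟨vB, AddSubgroup.subset_closure vB_mem⟩
def lD : leechLattice := ⟨vD, AddSubgroup.subset_closure vD_mem⟩
def lB' : leechLattice := ⟨vB', AddSubgroup.subset_closure vB'_mem⟩
def lD' : leechLattice := ⟨vD', AddSubgroup.subset_closure vD'_mem⟩

theorem nrm_lA : nrm lA = 32 := by
  show sqNorm Spor.vecU = 32
  decide
theorem nrm_lB : nrm lB = 32 := by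
  show sqNorm vB = 32
  decide
theorem nrm_lD : nrm lD = 32 := by
  show sqNorm vD = 32
  decide
theorem nrm_lB' : nrm lB' = 32 := by
  show sqNorm vB' = 32
  decide
theorem nrm_lD' : nrm lD' = 32 := by
  show sqNorm vD' = 32
  decide
theorem nrm_lA_lB : nrm (lA + lB) = 48 := by
  show sqNorm (Spor.vecU + vB) = 48
  decide
theorem nrm_lD_lB : nrm (lD + lB) = 48 := by
  show sqNorm (vD + vB) = 48
  decide
theorem nrm_lD_lA : nrm (lD + lA) = 32 := by
  show sqNorm (vD + Spor.vecU) = 32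
  decide
theorem nrm_lD_lA_lB : nrm (lD + (lA + lB)) = 32 := by
  show sqNorm (vD + (Spor.vecU + vB)) = 32
  decide
theorem nrm_lA_lB' : nrm (lA + lB') = 32 := by
  show sqNorm (Spor.vecU + vB') = 32
  decide
theorem nrm_lD'_lB' : nrm (lD' + lB') = 32 := by
  show sqNorm (vD' + vB') = 32
  decide
theorem nrm_lD'_lA : nrm (lD' + lA) = 64 := by
  show sqNorm (vD' + Spor.vecU) = 64
  decide
theorem nrm_lD'_lA_lB' : nrm (lD' + (lA + lB')) = 32 := by
  show sqNorm (vD' + (Spor.vecU + vB')) = 32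
  decide

variable {G : Type*} [Group G] [Finite G] {z : G}
  {Q : Subgroup (Subgroup.centralizer ({z} : Set G))} [Q.Normal]

namespace Dat

variable (D : Dat z Q)

theorem ff_eq_of_nrm32 (v w : leechLattice) (hv : nrm v = 32) (hw : nrm w = 32) :
    D.ff v = D.ff w := by
  obtain ⟨g, rfl⟩ := Cfsg.Agent.Lib.Helper14.LeechOrbit.co0_trans32 v w hv hw
  exact (D.ff_smul g v).symm

theorem ff_eq_of_nrm48 (v w : leechLattice) (hv : nrm v = 48) (hw : nrm w = 48) :
    D.ff v = D.ff w := by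
  obtain ⟨g, rfl⟩ := Cfsg.Agent.Lib.Helper14.LeechOrbit.co0_trans48 v w hv hw
  exact (D.ff_smul g v).symm

theorem ff_eq_of_nrm64 (v w : leechLattice) (hv : nrm v = 64) (hw : nrm w = 64) :
    D.ff v = D.ff w := by
  obtain ⟨g, rfl⟩ := Cfsg.Agent.Lib.Helper14.LeechOrbit.co0_trans64 v w hv hw
  exact (D.ff_smul g v).symm

theorem zmod_aux1 : ∀ t s B Ba Bb : ZMod 2, t = t + s + B → t = t + t + Ba → s = t + t + Bb →
    B = Ba + Bb → t = 0 := by decide

theorem zmod_aux2 : ∀ r B Ba Bb : ZMod 2, (0 : ZMod 2) = 0 + 0 + B → r = 0 + 0 + Ba →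
    (0 : ZMod 2) = 0 + 0 + Bb → B = Ba + Bb → r = 0 := by decide

/-- minimal vectors are singular. -/
theorem ff_nrm32 (v : leechLattice) (hv : nrm v = 32) : D.ff v = 0 := by
  rw [D.ff_eq_of_nrm32 v lA hv nrm_lA]
  have h1 := D.ff_add lD (lA + lB)
  have h2 := D.ff_add lD lA
  have h3 := D.ff_add lD lB
  have h4 := D.bb_add_right lD lA lB
  rw [D.ff_eq_of_nrm32 _ lA nrm_lD_lA_lB nrm_lA, D.ff_eq_of_nrm32 _ lA nrm_lD nrm_lA] at h1
  rw [D.ff_eq_of_nrm32 _ lA nrm_lD_lA nrm_lA, D.ff_eq_of_nrm32 _ lA nrm_lD nrm_lA] at h2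
  rw [D.ff_eq_of_nrm48 _ (lA + lB) nrm_lD_lB nrm_lA_lB, D.ff_eq_of_nrm32 _ lA nrm_lD nrm_lA,
    D.ff_eq_of_nrm32 _ lA nrm_lB nrm_lA] at h3
  exact zmod_aux1 _ _ _ _ _ h1 h2 h3 h4

/-- vectors of norm 64 are singular. -/
theorem ff_nrm64 (v : leechLattice) (hv : nrm v = 64) : D.ff v = 0 := by
  rw [D.ff_eq_of_nrm64 v (lD' + lA) hv nrm_lD'_lA]
  have h1 := D.ff_add lD' (lA + lB')
  have h2 := D.ff_add lD' lA
  have h3 := D.ff_add lD' lB'
  have h4 := D.bb_add_right lD' lA lB'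
  rw [D.ff_nrm32 _ nrm_lD'_lA_lB', D.ff_nrm32 _ nrm_lD', D.ff_nrm32 _ nrm_lA_lB'] at h1
  rw [D.ff_nrm32 _ nrm_lD', D.ff_nrm32 _ nrm_lA] at h2
  rw [D.ff_nrm32 _ nrm_lD'_lB', D.ff_nrm32 _ nrm_lD', D.ff_nrm32 _ nrm_lB'] at h3
  exact zmod_aux2 _ _ _ _ h1 h2 h3 h4

theorem ff_eq_short (v y w : leechLattice) (hv : v = y + (w + w)) : D.ff v = D.ff y := by
  rw [hv, D.ff_add, D.ff_dbl, D.bb_dbl_right, add_zero, add_zero]

theorem not_dbl_lA : ¬ ∃ w : leechLattice, lA = w + w := by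
  rintro ⟨w, hw⟩
  have h1 : nrm lA = 4 * nrm w := by
    rw [hw, nrm_add, ← ip_self]; ring
  have h2 := sixteen_dvd_nrm w
  rw [nrm_lA] at h1
  omega

/-- vectors of norm 48 are non-singular. -/
theorem ff_nrm48 (v : leechLattice) (hv : nrm v = 48) : D.ff v = 1 := by
  rcases zmod2_cases (D.ff v) with h0 | h1
  · exfalso
    -- then `ff` vanishes identically
    have hall : ∀ u : leechLattice, D.ff u = 0 := by
      intro u
      obtain ⟨y, w, hy, hu⟩ := exists_short_add_dbl u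
      rw [D.ff_eq_short u y w hu]
      rcases nrm_cases y hy with rfl | h | h | h
      · exact D.ff_zero
      · exact D.ff_nrm32 y h
      · rw [D.ff_eq_of_nrm48 y v h hv]; exact h0
      · exact D.ff_nrm64 y h
    have hb : ∀ u w : leechLattice, D.bb u w = 0 := by
      intro u w
      have := D.ff_add u w
      rw [hall, hall, hall, zero_add, zero_add] at this
      exact this.symm
    have := D.psi_eq_one_of_bb lA (fun w => hb lA w)
    exact not_dbl_lA ((D.psi_eq_one_iff lA).mp this)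
  · exact h1

theorem two_cast : ((2 : ℤ) : ZMod 2) = 0 := by decide

/-- the squaring form is the standard quadratic form on the lattice modulo 2. -/
theorem ff_eq (v : leechLattice) : D.ff v = ((nrm v / 16 : ℤ) : ZMod 2) := by
  obtain ⟨y, w, hy, hv⟩ := exists_short_add_dbl v
  rw [D.ff_eq_short v y w hv]
  obtain ⟨a, ha⟩ := sixteen_dvd_nrm w
  obtain ⟨c, hc⟩ := eight_dvd_ip y w
  have hn : nrm v = nrm y + 32 * (2 * a + c) := by
    rw [hv, nrm_add, nrm_add, ip_add_right, ip_self, ha, hc]; ring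
  obtain ⟨k, hk⟩ := sixteen_dvd_nrm y
  have hdiv : nrm v / 16 = k + 2 * (2 * a + c) := by
    rw [hn, hk]; omega
  rw [hdiv, Int.cast_add, Int.cast_mul, two_cast, zero_mul, add_zero]
  rcases nrm_cases y hy with rfl | h | h | h
  · rw [nrm_zero] at hk
    have : k = 0 := by omega
    rw [this, D.ff_zero]; rfl
  · have : k = 2 := by omega
    rw [this, D.ff_nrm32 y h]; decide
  · have : k = 3 := by omega
    rw [this, D.ff_nrm48 y h]; decide
  · have : k = 4 := by omega
    rw [this, D.ff_nrm64 y h]; decide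

theorem cast_eq_zero_iff (n : ℤ) : ((n : ℤ) : ZMod 2) = 0 ↔ (2 : ℤ) ∣ n := by
  rw [ZMod.intCast_zmod_eq_zero_iff_dvd]; rfl

theorem ff_eq_zero_iff (v : leechLattice) : D.ff v = 0 ↔ (32 : ℤ) ∣ nrm v := by
  rw [D.ff_eq, cast_eq_zero_iff]
  have := sixteen_dvd_nrm v
  omega

/-- the commutator form is the standard bilinear form on the lattice modulo 2. -/
theorem bb_eq (v w : leechLattice) : D.bb v w = ((ip v w / 8 : ℤ) : ZMod 2) := by
  have h := D.ff_add v w
  rw [D.ff_eq, D.ff_eq, D.ff_eq, nrm_add] at h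
  obtain ⟨a, ha⟩ := sixteen_dvd_nrm v
  obtain ⟨b, hb⟩ := sixteen_dvd_nrm w
  obtain ⟨c, hc⟩ := eight_dvd_ip v w
  have e1 : (nrm v + nrm w + 2 * ip v w) / 16 = a + b + c := by rw [ha, hb, hc]; omega
  have e2 : nrm v / 16 = a := by rw [ha]; omega
  have e3 : nrm w / 16 = b := by rw [hb]; omega
  have e4 : ip v w / 8 = c := by rw [hc]; omega
  rw [e1, e2, e3] at h
  rw [e4]
  push_cast at h
  have key : ∀ x y c B : ZMod 2, x + y + c = x + y + B → B = c := by decide
  exact key _ _ _ _ h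

theorem bb_eq_zero_iff (v w : leechLattice) : D.bb v w = 0 ↔ (16 : ℤ) ∣ ip v w := by
  rw [D.bb_eq, cast_eq_zero_iff]
  have := eight_dvd_ip v w
  omega

end Dat

end Cfsg.Agent.Lib.Helper14.MonT
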