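import Cfsg.Agent.Lib.Helper14.MonB
import Cfsg.Agent.Lib.Helper14.LeechIndex
import Cfsg.Agent.Lib.Helper14.LeechGen
import Cfsg.Agent.Lib.Helper11.ExtraspecialCent

/-!
# Groups of Monster type: `Q` has plus type (helper14)

The sublattice `LL` of vectors with all coordinates even and congruent modulo 4 is a maximal totally
singular subspace modulo 2; its preimage in `Q` is a self-centralizing elementary abelian subgroup,
hence of order `2 ^ 13`.
-/

set_option autoImplicit false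
set_option linter.unusedSectionVars false

namespace Cfsg.Agent.Lib.Helper14.MonT

open Cfsg Cfsg.Agent.Lib.Helper16.ES32

/-- lattice vectors with all coordinates even and congruent modulo 4. -/
def LL : AddSubgroup leechLattice where
  carrier := {v | (2 : ℤ) ∣ v.1 none ∧ ∀ i, (4 : ℤ) ∣ v.1 i - v.1 none}
  zero_mem' := by
    refine ⟨?_, fun i => ?_⟩
    · show (2 : ℤ) ∣ (0 : GolayPt → ℤ) none
      simp
    · show (4 : ℤ) ∣ (0 : GolayPt → ℤ) i - (0 : GolayPt → ℤ) none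
      simp
  add_mem' := by
    rintro a b ⟨ha1, ha2⟩ ⟨hb1, hb2⟩
    refine ⟨?_, fun i => ?_⟩
    · show (2 : ℤ) ∣ (a.1 + b.1) none
      rw [Pi.add_apply]; exact dvd_add ha1 hb1
    · show (4 : ℤ) ∣ (a.1 + b.1) i - (a.1 + b.1) none
      rw [Pi.add_apply, Pi.add_apply]
      have := dvd_add (ha2 i) (hb2 i)
      have e : a.1 i + b.1 i - (a.1 none + b.1 none) = a.1 i - a.1 none + (b.1 i - b.1 none) := by
        ring
      rw [e]; exact this
  neg_mem' := by
    rintro a ⟨ha1, ha2⟩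
    refine ⟨?_, fun i => ?_⟩
    · show (2 : ℤ) ∣ (-a.1) none
      rw [Pi.neg_apply]; exact (dvd_neg).mpr ha1
    · show (4 : ℤ) ∣ (-a.1) i - (-a.1) none
      rw [Pi.neg_apply, Pi.neg_apply]
      have e : -a.1 i - -a.1 none = -(a.1 i - a.1 none) := by ring
      rw [e]; exact (dvd_neg).mpr (ha2 i)

theorem mem_LL (v : leechLattice) :
    v ∈ LL ↔ (2 : ℤ) ∣ v.1 none ∧ ∀ i, (4 : ℤ) ∣ v.1 i - v.1 none := Iff.rfl

theorem thirtytwo_dvd_of_mem (v : leechLattice) (hv : v ∈ LL) : (32 : ℤ) ∣ nrm v := by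
  obtain ⟨⟨m, hm⟩, h4⟩ := hv
  set a := v.1 none with ha
  choose x hx using h4
  have hxi : ∀ i, v.1 i = a + 4 * x i := fun i => by have := hx i; omega
  have hlat := ((Cfsg.Agent.Lib.Helper14.LeechIndex.mem_leech_iff v.1).mp v.2).2.2
  have hcard : (Finset.univ : Finset GolayPt).card = 24 := by
    rw [Finset.card_univ]; exact Cfsg.Agent.Lib.Helper14.Leech.card_golayPt
  have hsum : ∑ i, v.1 i = 24 * a + 4 * ∑ i, x i := by
    rw [Finset.sum_congr rfl (fun i _ => hxi i), Finset.sum_add_distrib, Finset.sum_const,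
      hcard, ← Finset.mul_sum]
    simp
  have hsq : nrm v = 24 * a ^ 2 + 8 * a * ∑ i, x i + 16 * ∑ i, x i ^ 2 := by
    unfold nrm sqNorm
    have : ∀ i, v.1 i ^ 2 = a ^ 2 + 8 * a * x i + 16 * x i ^ 2 := by
      intro i; rw [hxi i]; ring
    rw [Finset.sum_congr rfl (fun i _ => this i), Finset.sum_add_distrib, Finset.sum_add_distrib,
      Finset.sum_const, hcard, ← Finset.mul_sum, ← Finset.mul_sum]
    simp
  have hpar : (2 : ℤ) ∣ ∑ i, x i ^ 2 - ∑ i, x i := by
    rw [← Finset.sum_sub_distrib]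
    apply Finset.dvd_sum
    intro i _
    have : x i ^ 2 - x i = x i * (x i - 1) := by ring
    rw [this]
    exact Int.even_mul_pred_self (x i) |>.two_dvd
  rw [hsum] at hlat
  obtain ⟨s, hs⟩ : (2 : ℤ) ∣ ∑ i, x i := by
    rw [← ha] at hlat
    omega
  obtain ⟨t, ht⟩ := hpar
  have hT : ∑ i, x i ^ 2 = 2 * s + 2 * t := by omega
  rw [hsq, hT, hs, hm]
  exact ⟨3 * m ^ 2 + m * s + s + t, by ring⟩

theorem sixteen_dvd_ip_of_mem (v w : leechLattice) (hv : v ∈ LL) (hw : w ∈ LL) :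
    (16 : ℤ) ∣ ip v w := by
  have h1 := thirtytwo_dvd_of_mem _ (LL.add_mem hv hw)
  have h2 := thirtytwo_dvd_of_mem _ hv
  have h3 := thirtytwo_dvd_of_mem _ hw
  rw [nrm_add] at h1
  omega

theorem dotInt_pair (x : GolayPt → ℤ) (i j : GolayPt) (a b : ℤ) :
    dotInt x (Pi.single i a + Pi.single j b) = x i * a + x j * b := by
  unfold dotInt
  simp only [Pi.add_apply, mul_add, Finset.sum_add_distrib, Pi.single_apply, mul_ite, mul_zero,
    Finset.sum_ite_eq', Finset.mem_univ, if_true]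

/-- `4 e_i + 4 e_∞` and `4 e_i - 4 e_∞` as lattice vectors (for `i ≠ ∞`). -/
def uP (i : GolayPt) (h : i ≠ none) : leechLattice :=
  ⟨Pi.single i 4 + Pi.single none 4, by
    rw [← Cfsg.Agent.Lib.Helper14.LeechCount.Lmin_eq]
    exact Cfsg.Agent.Lib.Helper14.LeechCount.pair_add_mem i none h⟩

def uM (i : GolayPt) (h : i ≠ none) : leechLattice :=
  ⟨Pi.single i 4 + Pi.single none (-4), by
    rw [← Cfsg.Agent.Lib.Helper14.LeechCount.Lmin_eq]
    have := Cfsg.Agent.Lib.Helper14.LeechCount.pair_sub_mem i none h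
    convert this using 1
    funext k
    simp only [Pi.add_apply, Pi.sub_apply, Pi.single_apply]
    split_ifs <;> ring⟩

theorem single_cases (i k : GolayPt) (a : ℤ) :
    (Pi.single i a : GolayPt → ℤ) k = 0 ∨ (Pi.single i a : GolayPt → ℤ) k = a := by
  rw [Pi.single_apply]
  split_ifs
  · right; rfl
  · left; rfl

theorem uP_mem (i : GolayPt) (h : i ≠ none) : uP i h ∈ LL := by
  have h0 : (Pi.single i 4 + Pi.single none 4 : GolayPt → ℤ) none = 4 := by
    rw [Pi.add_apply, Pi.single_apply, Pi.single_apply, if_neg (Ne.symm h), if_pos rfl]; ring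
  refine ⟨?_, fun k => ?_⟩
  · show (2 : ℤ) ∣ (Pi.single i 4 + Pi.single none 4 : GolayPt → ℤ) none
    rw [h0]; norm_num
  · show (4 : ℤ) ∣ (Pi.single i 4 + Pi.single none 4 : GolayPt → ℤ) k
      - (Pi.single i 4 + Pi.single none 4 : GolayPt → ℤ) none
    rw [h0, Pi.add_apply]
    rcases single_cases i k 4 with h1 | h1 <;> rcases single_cases none k 4 with h2 | h2 <;>
      rw [h1, h2] <;> norm_num

theorem uM_mem (i : GolayPt) (h : i ≠ none) : uM i h ∈ LL := by
  have h0 : (Pi.single i 4 + Pi.single none (-4) : GolayPt → ℤ) none = -4 := by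
    rw [Pi.add_apply, Pi.single_apply, Pi.single_apply, if_neg (Ne.symm h), if_pos rfl]; ring
  refine ⟨?_, fun k => ?_⟩
  · show (2 : ℤ) ∣ (Pi.single i 4 + Pi.single none (-4) : GolayPt → ℤ) none
    rw [h0]; norm_num
  · show (4 : ℤ) ∣ (Pi.single i 4 + Pi.single none (-4) : GolayPt → ℤ) k
      - (Pi.single i 4 + Pi.single none (-4) : GolayPt → ℤ) none
    rw [h0, Pi.add_apply]
    rcases single_cases i k 4 with h1 | h1 <;> rcases single_cases none k (-4) with h2 | h2 <;>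
      rw [h1, h2] <;> norm_num

theorem ip_uP (v : leechLattice) (i : GolayPt) (h : i ≠ none) :
    ip v (uP i h) = v.1 i * 4 + v.1 none * 4 := dotInt_pair _ _ _ _ _

theorem ip_uM (v : leechLattice) (i : GolayPt) (h : i ≠ none) :
    ip v (uM i h) = v.1 i * 4 + v.1 none * (-4) := dotInt_pair _ _ _ _ _

/-- `LL` is its own orthogonal complement modulo 2. -/
theorem mem_LL_of_orth (v : leechLattice) (h : ∀ u ∈ LL, (16 : ℤ) ∣ ip v u) : v ∈ LL := by
  have key : ∀ i : GolayPt, i ≠ none → (2 : ℤ) ∣ v.1 none ∧ (4 : ℤ) ∣ v.1 i - v.1 none := by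
    intro i hi
    have h1 := h _ (uP_mem i hi)
    have h2 := h _ (uM_mem i hi)
    rw [ip_uP] at h1
    rw [ip_uM] at h2
    constructor <;> omega
  refine ⟨(key (some 0) (by simp)).1, fun i => ?_⟩
  by_cases hi : i = none
  · rw [hi]; simp
  · exact (key i hi).2

variable {G : Type*} [Group G] [Finite G] {z : G}
  {Q : Subgroup (Subgroup.centralizer ({z} : Set G))} [Q.Normal]

namespace Dat

variable (D : Dat z Q)

theorem psi_mul_self (v : leechLattice) : D.ψ v * D.ψ v = 1 := by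
  rw [← D.psi_add]; exact D.psi_dbl v

theorem psi_inv (v : leechLattice) : (D.ψ v)⁻¹ = D.ψ v :=
  inv_eq_of_mul_eq_one_left (D.psi_mul_self v)

/-- the preimage in `Q` of the image of `LL`. -/
def EE : Subgroup Q where
  carrier := {x | ∃ v ∈ LL, D.ψ v = QuotientGroup.mk x}
  one_mem' := ⟨0, LL.zero_mem, by rw [D.psi_zero, QuotientGroup.mk_one]⟩
  mul_mem' := by
    rintro x y ⟨v, hv, hx⟩ ⟨w, hw, hy⟩
    exact ⟨v + w, LL.add_mem hv hw, by rw [D.psi_add, hx, hy, QuotientGroup.mk_mul]⟩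
  inv_mem' := by
    rintro x ⟨v, hv, hx⟩
    exact ⟨v, hv, by rw [QuotientGroup.mk_inv, ← hx, D.psi_inv]⟩

theorem mem_EE (x : Q) : x ∈ D.EE ↔ ∃ v ∈ LL, D.ψ v = QuotientGroup.mk x := Iff.rfl

theorem sq_of_mem_EE (x : Q) (hx : x ∈ D.EE) : x * x = 1 := by
  obtain ⟨v, hv, hxv⟩ := hx
  rw [← qq_eq_zero_iff, D.qq_of_mk hxv, D.ff_eq_zero_iff]
  exact thirtytwo_dvd_of_mem v hv

theorem comm_of_mem_EE (x y : Q) (hx : x ∈ D.EE) (hy : y ∈ D.EE) : x * y = y * x := by
  obtain ⟨v, hv, hxv⟩ := hx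
  obtain ⟨w, hw, hyw⟩ := hy
  rw [← cc_eq_zero_iff, D.cc_of_mk hxv hyw, D.bb_eq_zero_iff]
  exact sixteen_dvd_ip_of_mem v w hv hw

theorem center_le_EE : Subgroup.center Q ≤ D.EE := by
  intro x hx
  refine ⟨0, LL.zero_mem, ?_⟩
  rw [D.psi_zero, eq_comm, QuotientGroup.eq_one_iff]
  exact hx

theorem centralizer_EE : Subgroup.centralizer (D.EE : Set Q) = D.EE := by
  apply le_antisymm
  · intro x hx
    obtain ⟨v, hv⟩ := D.psi_surj (QuotientGroup.mk x)
    refine ⟨v, ?_, hv⟩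
    apply mem_LL_of_orth
    intro u hu
    rw [← D.bb_eq_zero_iff, ← D.cc_of_mk hv (D.mk_lift u).symm, cc_eq_zero_iff]
    have hmem : D.lift u ∈ D.EE := ⟨u, hu, (D.mk_lift u).symm⟩
    exact (Subgroup.mem_centralizer_iff.mp hx _ hmem).symm
  · intro x hx
    rw [Subgroup.mem_centralizer_iff]
    intro y hy
    exact D.comm_of_mem_EE y x hy hx

include D in
theorem card_center : Nat.card (Subgroup.center Q) = 2 := D.hes.2

include D in
theorem comm_mem_center (a b : Q) : a * b * a⁻¹ * b⁻¹ ∈ Subgroup.center Q := by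
  rw [← D.hes.1.2.2, ← commutatorElement_def]
  exact Subgroup.commutator_mem_commutator (Subgroup.mem_top a) (Subgroup.mem_top b)

theorem card_EE : Nat.card D.EE = 2 ^ 13 := by
  have h := Cfsg.Agent.Lib.Helper11.card_mul_card_centralizer D.card_center D.comm_mem_center D.EE
  rw [D.centralizer_EE, D.hcard] at h
  have h2 : Nat.card ((Subgroup.center Q).subgroupOf D.EE) = 2 := by
    rw [← D.card_center]
    exact Nat.card_congr (Subgroup.subgroupOfEquivOfLe D.center_le_EE).toEquiv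
  rw [h2] at h
  have h3 : Nat.card D.EE * Nat.card D.EE = 2 ^ 13 * 2 ^ 13 := by rw [h]; norm_num
  exact Nat.mul_self_inj.mp h3

theorem elemAb_EE : IsElementaryAbelian 2 D.EE := by
  refine ⟨⟨⟨fun a b => Subtype.ext (D.comm_of_mem_EE a b a.2 b.2)⟩⟩, fun a ha => ?_⟩
  rw [pow_two]; exact D.sq_of_mem_EE a ha

end Dat

/-- S5408: in a group of Monster type, `Q` is of plus type. -/
theorem plus_type (hM : IsOfMonsterType z Q) :
    ∃ E : Subgroup Q, IsElementaryAbelian 2 E ∧ Nat.card E = 2 ^ 13 := by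
  obtain ⟨D⟩ := nonempty_dat hM
  exact ⟨D.EE, D.elemAb_EE, D.card_EE⟩

end Cfsg.Agent.Lib.Helper14.MonT
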