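import Cfsg.Agent.Lib.Helper14.MonC
import Cfsg.Agent.Lib.Helper14.Co0Order
import Cfsg.Agent.Lib.Helper14.Co0Center
import Cfsg.Agent.Lib.Helper20.Extraspecial

/-!
# Groups of Monster type: the symmetry lemma (helper14)

If a conjugate `g z g⁻¹ ≠ z` of `z` lies in `Q`, then `g⁻¹ z g` lies in `Q` as well (i.e. `z ∈ Q^g`):
otherwise `C/Q ≅ Co₁` would contain a 2-subgroup of order at least `2 ^ 22`.
-/

set_option autoImplicit false
set_option linter.unusedSectionVars false

namespace Cfsg.Agent.Lib.Helper14.MonT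

open Cfsg Cfsg.Agent.Lib.Helper16.ES32
open scoped commutatorElement

variable {G : Type*} [Group G] [Finite G] {z : G}
  {Q : Subgroup (Subgroup.centralizer ({z} : Set G))} [Q.Normal]

/-- `x ∈ G` lies in (the image in `G` of) `Q`. -/
def InQ (Q : Subgroup (Subgroup.centralizer ({z} : Set G))) (x : G) : Prop :=
  ∃ h : x ∈ Subgroup.centralizer ({z} : Set G),
    (⟨x, h⟩ : Subgroup.centralizer ({z} : Set G)) ∈ Q

theorem mem_C_iff (x : G) : x ∈ Subgroup.centralizer ({z} : Set G) ↔ x * z = z * x := by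
  rw [Subgroup.mem_centralizer_iff]
  constructor
  · intro h; exact (h z rfl).symm
  · intro h y hy
    rw [Set.mem_singleton_iff] at hy
    rw [hy]; exact h.symm

theorem inQ_coe (q : Q) : InQ Q ((q : Subgroup.centralizer ({z} : Set G)) : G) :=
  ⟨(q : Subgroup.centralizer ({z} : Set G)).2, q.2⟩

/-- the element of `Q` given by `InQ`. -/
noncomputable def InQ.toQ {x : G} (hx : InQ Q x) : Q := ⟨⟨x, hx.choose⟩, hx.choose_spec⟩

theorem InQ.toQ_coe {x : G} (hx : InQ Q x) :
    ((hx.toQ : Subgroup.centralizer ({z} : Set G)) : G) = x := rfl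

theorem inQ_mul {x y : G} (hx : InQ Q x) (hy : InQ Q y) : InQ Q (x * y) := by
  obtain ⟨h1, h2⟩ := hx
  obtain ⟨h3, h4⟩ := hy
  exact ⟨mul_mem h1 h3, Q.mul_mem h2 h4⟩

theorem inQ_inv {x : G} (hx : InQ Q x) : InQ Q x⁻¹ := by
  obtain ⟨h1, h2⟩ := hx
  exact ⟨inv_mem h1, Q.inv_mem h2⟩

theorem inQ_conj {x c : G} (hx : InQ Q x) (hc : c ∈ Subgroup.centralizer ({z} : Set G)) :
    InQ Q (c * x * c⁻¹) := by
  obtain ⟨h1, h2⟩ := hx
  refine ⟨mul_mem (mul_mem hc h1) (inv_mem hc), ?_⟩
  have := (inferInstance : Q.Normal).conj_mem _ h2 ⟨c, hc⟩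
  exact this

theorem toQ_eq {x : G} (hx : InQ Q x) (q : Q)
    (h : ((q : Subgroup.centralizer ({z} : Set G)) : G) = x) : hx.toQ = q := by
  apply Subtype.ext; apply Subtype.ext
  exact h.symm

namespace Dat

variable (D : Dat z Q)

include D in
theorem comm_le_center : commutator Q ≤ Subgroup.center Q := by
  rw [D.hes.1.2.2]

theorem exists_noncomm (s : Q) (h1 : s ≠ 1) (hz : s ≠ D.zQ) : ∃ y : Q, s * y = y * s * D.zQ := by
  by_contra hcon
  push Not at hcon
  have : ∀ g : Q, s * g = g * s := by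
    intro g
    rcases D.esData.comm s g with h | h
    · exact h
    · exact absurd h (hcon g)
  rcases D.esData.center s this with h | h
  · exact h1 h
  · exact hz h

theorem card_centralizer (s : Q) (h1 : s ≠ 1) (hz : s ≠ D.zQ) :
    Nat.card (Subgroup.centralizer ({s} : Set Q)) = 2 ^ 24 := by
  obtain ⟨y, hy⟩ := D.exists_noncomm s h1 hz
  have hne : ⁅s, y⁆ ≠ 1 := by
    rw [Ne, commutatorElement_eq_one_iff_mul_comm, hy]
    intro h
    have : D.zQ = 1 := by
      have h2 : y * s * D.zQ = y * s * 1 := by rw [h, mul_one]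
      exact mul_left_cancel h2
    exact D.zQ_ne_one this
  have h2 := Cfsg.Agent.Lib.Helper20.relIndex_centralizer_eq_prime Nat.prime_two D.comm_le_center
    D.card_center s ⊤ y (Subgroup.mem_top y) hne
  rw [Subgroup.relIndex_top_right] at h2
  have h3 := Subgroup.card_mul_index (Subgroup.centralizer ({s} : Set Q))
  rw [h2, D.hcard] at h3
  omega

theorem card_centralizer_centralizer (s : Q) (h1 : s ≠ 1) (hz : s ≠ D.zQ) :
    Nat.card (Subgroup.centralizer
      ((Subgroup.centralizer ({s} : Set Q) : Subgroup Q) : Set Q)) = 4 := by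
  have h := Cfsg.Agent.Lib.Helper11.card_mul_card_centralizer D.card_center D.comm_mem_center
    (Subgroup.centralizer ({s} : Set Q))
  have hle : Subgroup.center Q ≤ Subgroup.centralizer ({s} : Set Q) :=
    Subgroup.center_le_centralizer _
  have h2 : Nat.card ((Subgroup.center Q).subgroupOf (Subgroup.centralizer ({s} : Set Q))) = 2 := by
    rw [← D.card_center]
    exact Nat.card_congr (Subgroup.subgroupOfEquivOfLe hle).toEquiv
  rw [h2, D.card_centralizer s h1 hz, D.hcard] at h
  omega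

end Dat

/-! ### conjugation of a centralizer in `Q` into `C / Q` -/

section theta

variable (k : G) (sQ : Q)
  (hk : k * ((sQ : Subgroup.centralizer ({z} : Set G)) : G) * k⁻¹ = z)

include hk in
theorem conj_mem_C (a : Subgroup.centralizer ({sQ} : Set Q)) :
    k * (((a : Q) : Subgroup.centralizer ({z} : Set G)) : G) * k⁻¹ ∈
      Subgroup.centralizer ({z} : Set G) := by
  rw [mem_C_iff]
  have ha : (a : Q) * sQ = sQ * (a : Q) :=
    (Subgroup.mem_centralizer_iff.mp a.2 sQ rfl).symm
  have ha' : (((a : Q) : Subgroup.centralizer ({z} : Set G)) : G) *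
      ((sQ : Subgroup.centralizer ({z} : Set G)) : G) =
      ((sQ : Subgroup.centralizer ({z} : Set G)) : G) *
      (((a : Q) : Subgroup.centralizer ({z} : Set G)) : G) := by
    have := congrArg (fun q : Q => ((q : Subgroup.centralizer ({z} : Set G)) : G)) ha
    simpa using this
  set a' := (((a : Q) : Subgroup.centralizer ({z} : Set G)) : G) with ha'def
  set s' := ((sQ : Subgroup.centralizer ({z} : Set G)) : G) with hs'def
  calc k * a' * k⁻¹ * z = k * a' * k⁻¹ * (k * s' * k⁻¹) := by rw [hk]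
    _ = k * (a' * s') * k⁻¹ := by group
    _ = k * (s' * a') * k⁻¹ := by rw [ha']
    _ = (k * s' * k⁻¹) * (k * a' * k⁻¹) := by group
    _ = z * (k * a' * k⁻¹) := by rw [hk]

/-- conjugation by `k` from `C_Q(s)` into `C_G(z)`, when `k s k⁻¹ = z`. -/
def conjC : Subgroup.centralizer ({sQ} : Set Q) →* Subgroup.centralizer ({z} : Set G) where
  toFun a := ⟨k * (((a : Q) : Subgroup.centralizer ({z} : Set G)) : G) * k⁻¹, conj_mem_C k sQ hk a⟩
  map_one' := by
    apply Subtype.ext
    simp
  map_mul' a b := by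
    apply Subtype.ext
    simp only [Subgroup.coe_mul]
    group

theorem conjC_coe (a : Subgroup.centralizer ({sQ} : Set Q)) :
    ((conjC k sQ hk a : Subgroup.centralizer ({z} : Set G)) : G) =
      k * (((a : Q) : Subgroup.centralizer ({z} : Set G)) : G) * k⁻¹ := rfl

/-- conjugation by `k` followed by reduction modulo `Q`. -/
def theta : Subgroup.centralizer ({sQ} : Set Q) →* Subgroup.centralizer ({z} : Set G) ⧸ Q :=
  (QuotientGroup.mk' Q).comp (conjC k sQ hk)

theorem mem_ker_theta (a : Subgroup.centralizer ({sQ} : Set Q)) :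
    a ∈ (theta k sQ hk).ker ↔
      InQ Q (k * (((a : Q) : Subgroup.centralizer ({z} : Set G)) : G) * k⁻¹) := by
  rw [MonoidHom.mem_ker]
  show (QuotientGroup.mk (conjC k sQ hk a) : Subgroup.centralizer ({z} : Set G) ⧸ Q) = 1 ↔ _
  rw [QuotientGroup.eq_one_iff]
  constructor
  · intro h
    exact ⟨(conjC k sQ hk a).2, h⟩
  · rintro ⟨h1, h2⟩
    exact h2

end theta

namespace Dat

variable (D : Dat z Q)

theorem coe_zQ_mul (x : Q) :
    (((x * D.zQ : Q) : Subgroup.centralizer ({z} : Set G)) : G) =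
      ((x : Subgroup.centralizer ({z} : Set G)) : G) * z := rfl

include D in
/-- if `k z k⁻¹ ∉ Q` then the kernel of `theta` is central in `C_Q(s)`. -/
theorem ker_theta_comm (k : G) (sQ : Q)
    (hk : k * ((sQ : Subgroup.centralizer ({z} : Set G)) : G) * k⁻¹ = z)
    (hnot : ¬ InQ Q (k * z * k⁻¹))
    (a : Subgroup.centralizer ({sQ} : Set Q)) (ha : a ∈ (theta k sQ hk).ker)
    (b : Subgroup.centralizer ({sQ} : Set Q)) : (a : Q) * (b : Q) = (b : Q) * (a : Q) := by
  rcases D.esData.comm (a : Q) (b : Q) with h | h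
  · exact h
  · exfalso
    apply hnot
    rw [mem_ker_theta] at ha
    set a' := (((a : Q) : Subgroup.centralizer ({z} : Set G)) : G) with ha'
    set b' := (((b : Q) : Subgroup.centralizer ({z} : Set G)) : G) with hb'
    have h' : a' * b' = b' * a' * z := by
      have := congrArg (fun q : Q => ((q : Subgroup.centralizer ({z} : Set G)) : G)) h
      simpa [D.zQ_coe] using this
    have hb : k * b' * k⁻¹ ∈ Subgroup.centralizer ({z} : Set G) := conj_mem_C k sQ hk b
    have e : k * z * k⁻¹ = (k * a' * k⁻¹)⁻¹ * ((k * b' * k⁻¹)⁻¹ * (k * a' * k⁻¹) * (k * b' * k⁻¹)⁻¹⁻¹) := by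
      have : z = a'⁻¹ * b'⁻¹ * (a' * b') := by rw [h']; group
      calc k * z * k⁻¹ = k * (a'⁻¹ * b'⁻¹ * (a' * b')) * k⁻¹ := by rw [← this]
        _ = _ := by group
    rw [e]
    exact inQ_mul (inQ_inv ha) (inQ_conj ha (inv_mem hb))

theorem card_co1 : Nat.card Spor.Co1 = 4157776806543360000 := by
  have h := Subgroup.card_eq_card_quotient_mul_card_subgroup (Subgroup.center Co0)
  rw [Cfsg.Agent.Lib.Helper14.Co0Order.card_Co0, Cfsg.Agent.Lib.Helper14.Co0Center.card_center] at h
  show Nat.card (Co0 ⧸ Subgroup.center Co0) = _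
  omega

include D in
/-- the symmetry lemma: if `g z g⁻¹ ∈ Q` is different from `z` then `g⁻¹ z g ∈ Q`. -/
theorem symm_lemma (g : G) (hs : InQ Q (g * z * g⁻¹)) (hne : g * z * g⁻¹ ≠ z) :
    InQ Q (g⁻¹ * z * g) := by
  by_contra hnot
  set sQ : Q := hs.toQ with hsQ
  have hk : g⁻¹ * ((sQ : Subgroup.centralizer ({z} : Set G)) : G) * g⁻¹⁻¹ = z := by
    rw [hsQ, InQ.toQ_coe]; group
  have hnot' : ¬ InQ Q (g⁻¹ * z * g⁻¹⁻¹) := by rwa [inv_inv]
  -- `sQ` is a non-central element of `Q`
  have hs1 : sQ ≠ 1 := by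
    intro h
    have := congrArg (fun q : Q => ((q : Subgroup.centralizer ({z} : Set G)) : G)) h
    simp only [hsQ, InQ.toQ_coe, OneMemClass.coe_one] at this
    apply D.z_ne_one
    have : z = g⁻¹ * (g * z * g⁻¹) * g := by group
    rw [this]; rw [‹g * z * g⁻¹ = 1›]; group
  have hsz : sQ ≠ D.zQ := by
    intro h
    have := congrArg (fun q : Q => ((q : Subgroup.centralizer ({z} : Set G)) : G)) h
    simp only [hsQ, InQ.toQ_coe, D.zQ_coe] at this
    exact hne this
  set A := Subgroup.centralizer ({sQ} : Set Q) with hA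
  set θ := theta g⁻¹ sQ hk with hθ
  have hcardA : Nat.card A = 2 ^ 24 := D.card_centralizer sQ hs1 hsz
  -- the kernel is small
  have hker : Nat.card θ.ker ≤ 4 := by
    rw [← D.card_centralizer_centralizer sQ hs1 hsz]
    let f : θ.ker → Subgroup.centralizer (A : Set Q) := fun a =>
      ⟨((a : A) : Q), by
        rw [Subgroup.mem_centralizer_iff]
        intro b hb
        exact (D.ker_theta_comm g⁻¹ sQ hk hnot' a.1 a.2 ⟨b, hb⟩).symm⟩
    apply Nat.card_le_card_of_injective f
    intro a b hab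
    apply Subtype.ext; apply Subtype.ext
    exact congrArg (fun x : Subgroup.centralizer (A : Set Q) => (x : Q)) hab
  -- first isomorphism theorem
  have h1 : Nat.card A = Nat.card θ.range * Nat.card θ.ker := by
    rw [Subgroup.card_eq_card_quotient_mul_card_subgroup θ.ker,
      Nat.card_congr (QuotientGroup.quotientKerEquivRange θ).toEquiv]
  -- the range embeds in `Co1`
  have h2 : Nat.card θ.range ∣ 4157776806543360000 := by
    rw [← card_co1, ← Nat.card_congr D.e.toEquiv]
    exact Subgroup.card_subgroup_dvd_card θ.range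
  have h3 : Nat.card θ.range ∣ 2 ^ 24 := by
    rw [← hcardA, h1]; exact Dvd.intro _ rfl
  obtain ⟨j, hj, hj2⟩ := (Nat.dvd_prime_pow Nat.prime_two).mp h3
  have hkpos : 0 < Nat.card θ.ker := Nat.card_pos
  have h4 : 2 ^ 22 ≤ Nat.card θ.range := by
    rw [hcardA] at h1
    nlinarith
  rw [hj2] at h2 h4
  have hj22 : 22 ≤ j := by
    by_contra hlt
    push Not at hlt
    have : 2 ^ j ≤ 2 ^ 21 := Nat.pow_le_pow_right (by norm_num) (by omega)
    omega
  have h5 : 2 ^ 22 ∣ 4157776806543360000 := (pow_dvd_pow 2 hj22).trans h2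
  norm_num at h5

end Dat

end Cfsg.Agent.Lib.Helper14.MonT
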