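import Cfsg.Agent.Lib.Helper14.MonD
import Cfsg.Agent.S0402

/-!
# Groups of Monster type: fusion of the involutions of `Q` (helper14)

Lifts of minimal vectors are not conjugate to `z`; hence the conjugates of `z` in `Q` other than `z`
are exactly the lifts of the vectors of norm 64.
-/

set_option autoImplicit false
set_option linter.unusedSectionVars false

namespace Cfsg.Agent.Lib.Helper14.MonT

open Cfsg Cfsg.Agent.Lib.Helper16.ES32
open scoped commutatorElement

variable {G : Type*} [Group G] [Finite G] {z : G}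
  {Q : Subgroup (Subgroup.centralizer ({z} : Set G))} [Q.Normal]

namespace Dat

variable (D : Dat z Q)

theorem psi_congr_smul (g0 : Co0) {v w : leechLattice} (h : D.ψ v = D.ψ w) :
    D.ψ (g0 • v) = D.ψ (g0 • w) := by
  obtain ⟨h0, hg⟩ := D.exists_h g0
  rw [D.psi_smul h0 g0 hg v (D.lift v) (D.mk_lift v).symm,
    D.psi_smul h0 g0 hg w (D.lift v) (by rw [D.mk_lift, h])]

/-- an element of `C` centralizing a lift of `v` maps to the class stabilizer of `v`. -/
theorem psi_smul_of_centralizes (sQ : Q) (v : leechLattice) (hv : D.ψ v = QuotientGroup.mk sQ)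
    (h : Subgroup.centralizer ({z} : Set G))
    (hh : h * (sQ : Subgroup.centralizer ({z} : Set G)) = (sQ : Subgroup.centralizer ({z} : Set G)) * h)
    (g0 : Co0) (hg : (QuotientGroup.mk g0 : Spor.Co1) = D.e (QuotientGroup.mk h)) :
    D.ψ (g0 • v) = D.ψ v := by
  rw [D.psi_smul h g0 hg v sQ hv, hv]
  congr 1
  apply Subtype.ext
  rw [MulAut.conjNormal_apply, hh, mul_inv_cancel_right]

theorem conjNormal_coe_Q (y q : Q) :
    MulAut.conjNormal (y : Subgroup.centralizer ({z} : Set G)) q = y * q * y⁻¹ := by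
  apply Subtype.ext
  rw [MulAut.conjNormal_apply]
  rfl

/-- every element of the class stabilizer of `v` is induced by an element of `C` centralizing a
given non-central lift of `v`. -/
theorem exists_centralizing (sQ : Q) (hs1 : sQ ≠ 1) (hsz : sQ ≠ D.zQ) (v : leechLattice)
    (hv : D.ψ v = QuotientGroup.mk sQ) (g0 : Co0) (hg : D.ψ (g0 • v) = D.ψ v) :
    ∃ h : Subgroup.centralizer ({z} : Set G),
      h * (sQ : Subgroup.centralizer ({z} : Set G)) = (sQ : Subgroup.centralizer ({z} : Set G)) * h ∧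
      D.e (QuotientGroup.mk h) = (QuotientGroup.mk g0 : Spor.Co1) := by
  obtain ⟨h0, hg0⟩ := D.exists_h g0
  have h1 := D.psi_smul h0 g0 hg0 v sQ hv
  rw [hg, hv] at h1
  rcases (D.mk_eq_mk_iff sQ _).mp h1 with h2 | h2
  · refine ⟨h0, ?_, hg0.symm⟩
    have := congrArg (fun q : Q => (q : Subgroup.centralizer ({z} : Set G))) h2
    simp only [MulAut.conjNormal_apply] at this
    calc h0 * (sQ : Subgroup.centralizer ({z} : Set G))
        = (h0 * (sQ : Subgroup.centralizer ({z} : Set G)) * h0⁻¹) * h0 := by group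
      _ = (sQ : Subgroup.centralizer ({z} : Set G)) * h0 := by rw [this]
  · obtain ⟨y, hy⟩ := D.exists_noncomm sQ hs1 hsz
    refine ⟨(y⁻¹ : Q) * h0, ?_, ?_⟩
    · have e1 : MulAut.conjNormal (((y⁻¹ : Q) : Subgroup.centralizer ({z} : Set G)) * h0) sQ = sQ := by
        rw [map_mul, MulAut.mul_apply, h2, conjNormal_coe_Q, inv_inv]
        have hzz : D.zQ * D.zQ = 1 := D.esData.z_sq
        calc y⁻¹ * (sQ * D.zQ) * y = y⁻¹ * (sQ * (D.zQ * y)) := by group
          _ = y⁻¹ * (sQ * (y * D.zQ)) := by rw [D.zQ_comm y]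
          _ = y⁻¹ * (sQ * y) * D.zQ := by group
          _ = y⁻¹ * (y * sQ * D.zQ) * D.zQ := by rw [hy]
          _ = sQ * (D.zQ * D.zQ) := by group
          _ = sQ := by rw [hzz, mul_one]
      have := congrArg (fun q : Q => (q : Subgroup.centralizer ({z} : Set G))) e1
      simp only [MulAut.conjNormal_apply] at this
      set hh := ((y⁻¹ : Q) : Subgroup.centralizer ({z} : Set G)) * h0 with hhdef
      calc hh * (sQ : Subgroup.centralizer ({z} : Set G))
          = (hh * (sQ : Subgroup.centralizer ({z} : Set G)) * hh⁻¹) * hh := by group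
        _ = (sQ : Subgroup.centralizer ({z} : Set G)) * hh := by rw [this]
    · rw [QuotientGroup.mk_mul]
      have : (QuotientGroup.mk ((y⁻¹ : Q) : Subgroup.centralizer ({z} : Set G)) :
          Subgroup.centralizer ({z} : Set G) ⧸ Q) = 1 := by
        rw [QuotientGroup.eq_one_iff]; exact (y⁻¹ : Q).2
      rw [this, one_mul]; exact hg0.symm

/-- two minimal vectors congruent modulo 2 are equal or opposite. -/
theorem eq_or_neg_of_psi_eq (v w : leechLattice) (hv : nrm v = 32) (hw : nrm w = 32)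
    (h : D.ψ w = D.ψ v) : w = v ∨ w = -v := by
  by_cases hwv : w = v
  · exact Or.inl hwv
  · right
    have h1 : D.ψ (w + -v) = 1 := by
      rw [D.psi_add, D.psi_neg, h, D.psi_mul_self]
    obtain ⟨u, hu⟩ := (D.psi_eq_one_iff _).mp h1
    have hne : (w : GolayPt → ℤ) ≠ v := fun h => hwv (Subtype.ext h)
    have hc : (w : GolayPt → ℤ) - v = u + u := by
      have := congrArg (fun x : leechLattice => (x : GolayPt → ℤ)) hu
      simp only [AddSubgroup.coe_add, AddSubgroup.coe_neg] at this
      rw [← this]; abel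
    have hw' : sqNorm (w : GolayPt → ℤ) ≤ 64 := by
      have : sqNorm (w : GolayPt → ℤ) = 32 := hw
      omega
    have hv' : sqNorm (v : GolayPt → ℤ) ≤ 64 := by
      have : sqNorm (v : GolayPt → ℤ) = 32 := hv
      omega
    rcases Cfsg.Agent.Lib.Helper14.Leech.short_congr _ _ _ v.2 u.2 hne hw' hv' hc with h2 | h2
    · exact Subtype.ext h2
    · exfalso
      have : sqNorm (w : GolayPt → ℤ) = 32 := hw
      omega

/-! ### the stabilizer of a minimal vector inside `C / Q` -/

theorem negC_smul (v : leechLattice) : Cfsg.Agent.Lib.Helper14.Co0Center.negC • v = -v := rfl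

/-- the stabilizer of `v` mapped into `C / Q`. -/
noncomputable def iota (v : leechLattice) :
    MulAction.stabilizer Co0 v →* Subgroup.centralizer ({z} : Set G) ⧸ Q :=
  (D.e.symm.toMonoidHom.comp (QuotientGroup.mk' (Subgroup.center Co0))).comp
    (MulAction.stabilizer Co0 v).subtype

theorem iota_apply (v : leechLattice) (g0 : MulAction.stabilizer Co0 v) :
    D.iota v g0 = D.e.symm (QuotientGroup.mk (g0 : Co0)) := rfl

theorem iota_injective (v : leechLattice) (hv : v ≠ 0) : Function.Injective (D.iota v) := by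
  rw [injective_iff_map_eq_one]
  intro g0 hg0
  rw [D.iota_apply] at hg0
  have h1 : (QuotientGroup.mk (g0 : Co0) : Spor.Co1) = 1 := by
    have := congrArg D.e hg0
    rwa [MulEquiv.apply_symm_apply, map_one] at this
  rw [QuotientGroup.eq_one_iff] at h1
  rcases Cfsg.Agent.Lib.Helper14.Co0Center.center_elems _ h1 with h2 | h2
  · exact Subtype.ext h2
  · exfalso
    have h3 : (g0 : Co0) • v = v := g0.2
    rw [h2, negC_smul] at h3
    apply hv
    have : v + v = 0 := by nth_rewrite 1 [← h3]; simp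
    apply Subtype.ext
    have h4 := congrArg (fun x : leechLattice => (x : GolayPt → ℤ)) this
    simp only [AddSubgroup.coe_add, AddSubgroup.coe_zero] at h4
    rw [AddSubgroup.coe_zero]
    funext i
    have := congrFun h4 i
    simp only [Pi.add_apply, Pi.zero_apply] at this ⊢
    omega

theorem iota_mem (v : leechLattice) (sQ : Q) (hs1 : sQ ≠ 1) (hsz : sQ ≠ D.zQ)
    (hv : D.ψ v = QuotientGroup.mk sQ) (g0 : MulAction.stabilizer Co0 v) :
    ∃ h : Subgroup.centralizer ({z} : Set G),
      h * (sQ : Subgroup.centralizer ({z} : Set G)) = (sQ : Subgroup.centralizer ({z} : Set G)) * h ∧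
      D.iota v g0 = QuotientGroup.mk h := by
  have h3 : (g0 : Co0) • v = v := g0.2
  obtain ⟨h, hh, he⟩ := D.exists_centralizing sQ hs1 hsz v hv (g0 : Co0) (by rw [h3])
  refine ⟨h, hh, ?_⟩
  rw [D.iota_apply, ← he, MulEquiv.symm_apply_apply]

theorem exists_iota (v : leechLattice) (hv32 : nrm v = 32) (sQ : Q)
    (hv : D.ψ v = QuotientGroup.mk sQ) (h : Subgroup.centralizer ({z} : Set G))
    (hh : h * (sQ : Subgroup.centralizer ({z} : Set G)) = (sQ : Subgroup.centralizer ({z} : Set G)) * h) :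
    ∃ g0 : MulAction.stabilizer Co0 v, D.iota v g0 = QuotientGroup.mk h := by
  obtain ⟨g1, hg1⟩ := QuotientGroup.mk_surjective (D.e (QuotientGroup.mk h))
  have h1 := D.psi_smul_of_centralizes sQ v hv h hh g1 hg1
  have hn : nrm (g1 • v) = 32 := by
    unfold nrm
    rw [← hv32]
    exact g1.2.2 v
  rcases D.eq_or_neg_of_psi_eq v (g1 • v) hv32 hn h1 with h2 | h2
  · refine ⟨⟨g1, h2⟩, ?_⟩
    rw [D.iota_apply]
    show D.e.symm (QuotientGroup.mk g1) = _
    rw [hg1, MulEquiv.symm_apply_apply]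
  · have h3 : (Cfsg.Agent.Lib.Helper14.Co0Center.negC * g1) • v = v := by
      rw [mul_smul, h2, negC_smul, neg_neg]
    refine ⟨⟨Cfsg.Agent.Lib.Helper14.Co0Center.negC * g1, h3⟩, ?_⟩
    rw [D.iota_apply]
    show D.e.symm (QuotientGroup.mk (Cfsg.Agent.Lib.Helper14.Co0Center.negC * g1)) = _
    rw [QuotientGroup.mk_mul]
    have : (QuotientGroup.mk Cfsg.Agent.Lib.Helper14.Co0Center.negC : Spor.Co1) = 1 := by
      rw [QuotientGroup.eq_one_iff]
      exact Cfsg.Agent.Lib.Helper14.Co0Center.negC_mem_center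
    rw [this, one_mul, hg1, MulEquiv.symm_apply_apply]

/-- a 2-subgroup of `C / Q` contained in and normalized by the image of the centralizer of a lift of
a minimal vector is trivial. -/
theorem eq_bot_of_normal_two (v : leechLattice) (hv32 : nrm v = 32) (sQ : Q) (hs1 : sQ ≠ 1)
    (hsz : sQ ≠ D.zQ) (hv : D.ψ v = QuotientGroup.mk sQ)
    (R : Subgroup (Subgroup.centralizer ({z} : Set G) ⧸ Q))
    (ha : ∀ r ∈ R, ∃ h : Subgroup.centralizer ({z} : Set G),
      h * (sQ : Subgroup.centralizer ({z} : Set G)) = (sQ : Subgroup.centralizer ({z} : Set G)) * h ∧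
      r = QuotientGroup.mk h)
    (hb : ∀ h : Subgroup.centralizer ({z} : Set G),
      h * (sQ : Subgroup.centralizer ({z} : Set G)) = (sQ : Subgroup.centralizer ({z} : Set G)) * h →
      ∀ r ∈ R, (QuotientGroup.mk h : Subgroup.centralizer ({z} : Set G) ⧸ Q) * r *
        (QuotientGroup.mk h)⁻¹ ∈ R)
    (n : ℕ) (hc : Nat.card R ∣ 2 ^ n) : R = ⊥ := by
  have hv0 : v ≠ 0 := by
    intro h
    rw [h, nrm_zero] at hv32
    omega
  obtain ⟨hsimple, hcard⟩ := Cfsg.Agent.S0402.result v hv32
  set R' : Subgroup (MulAction.stabilizer Co0 v) := R.comap (D.iota v) with hR'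
  have hnorm : R'.Normal := by
    constructor
    intro r hr g0
    rw [hR', Subgroup.mem_comap] at hr ⊢
    obtain ⟨h, hh, he⟩ := D.iota_mem v sQ hs1 hsz hv g0
    rw [map_mul, map_mul, map_inv, he]
    exact hb h hh _ hr
  rcases hnorm.eq_bot_or_eq_top with h1 | h1
  · rw [Subgroup.eq_bot_iff_forall]
    intro r hr
    obtain ⟨h, hh, rfl⟩ := ha r hr
    obtain ⟨g0, hg0⟩ := D.exists_iota v hv32 sQ hv h hh
    have : g0 ∈ R' := by
      rw [hR', Subgroup.mem_comap, hg0]; exact hr
    rw [h1, Subgroup.mem_bot] at this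
    rw [← hg0, this, map_one]
  · exfalso
    have hmem : ∀ g0 : MulAction.stabilizer Co0 v, D.iota v g0 ∈ R := by
      intro g0
      have : g0 ∈ R' := by rw [h1]; exact Subgroup.mem_top _
      exact this
    have hinj : Function.Injective ((D.iota v).codRestrict R hmem) := by
      intro a b hab
      apply D.iota_injective v hv0
      exact congrArg Subtype.val hab
    have hdvd := Subgroup.card_dvd_of_injective _ hinj
    rw [hcard] at hdvd
    have h3 : 3 ∣ 2 ^ n := (by norm_num : 3 ∣ 42305421312000).trans (hdvd.trans hc)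
    have := Nat.Prime.dvd_of_dvd_pow Nat.prime_three h3
    omega

theorem toQ_ne_one_of (x : G) (hx : InQ Q x) (h1 : x ≠ 1) : hx.toQ ≠ 1 := by
  intro h
  apply h1
  have := congrArg (fun q : Q => ((q : Subgroup.centralizer ({z} : Set G)) : G)) h
  simpa [InQ.toQ_coe] using this

theorem toQ_ne_zQ_of (x : G) (hx : InQ Q x) (h1 : x ≠ z) : hx.toQ ≠ D.zQ := by
  intro h
  apply h1
  have := congrArg (fun q : Q => ((q : Subgroup.centralizer ({z} : Set G)) : G)) h
  simpa [InQ.toQ_coe, D.zQ_coe] using this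

theorem not_dbl_of_nrm32 (v : leechLattice) (hv : nrm v = 32) : D.ψ v ≠ 1 := by
  intro h
  obtain ⟨w, hw⟩ := (D.psi_eq_one_iff v).mp h
  have h1 : nrm v = 4 * nrm w := by
    rw [hw, nrm_add, ← ip_self]; ring
  have h2 := sixteen_dvd_nrm w
  omega

theorem not_dbl_of_nrm64 (v : leechLattice) (hv : nrm v = 64) : D.ψ v ≠ 1 := by
  intro h
  obtain ⟨w, hw⟩ := (D.psi_eq_one_iff v).mp h
  have h1 : nrm v = 4 * nrm w := by
    rw [hw, nrm_add, ← ip_self]; ring
  have h2 := sixteen_dvd_nrm w
  have h3 : w ≠ 0 := by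
    intro h0
    rw [h0, nrm_zero] at h1
    omega
  have h4 := thirtytwo_le_nrm w h3
  omega

include D in
/-- a coset-level criterion: elements of `Q` (in `G`) either commute or commute up to `z`. -/
theorem inQ_comm {x y : G} (hx : InQ Q x) (hy : InQ Q y) : x * y = y * x ∨ x * y = y * x * z := by
  rcases D.esData.comm hx.toQ hy.toQ with h | h
  · left
    have := congrArg (fun q : Q => ((q : Subgroup.centralizer ({z} : Set G)) : G)) h
    simpa [InQ.toQ_coe] using this
  · right
    have := congrArg (fun q : Q => ((q : Subgroup.centralizer ({z} : Set G)) : G)) h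
    simpa [InQ.toQ_coe, D.zQ_coe] using this

include D in
/-- lifts of minimal vectors are not conjugate to `z`. -/
theorem not_conj_of_nrm32 (g : G) (ht : InQ Q (g * z * g⁻¹)) (v : leechLattice)
    (hv : nrm v = 32) (hψ : D.ψ v = QuotientGroup.mk ht.toQ) : False := by
  set tQ : Q := ht.toQ with htQ
  have hmk : (QuotientGroup.mk tQ : Q ⧸ Subgroup.center Q) ≠ 1 := by
    rw [← hψ]; exact D.not_dbl_of_nrm32 v hv
  have ht1 : tQ ≠ 1 := fun h => hmk ((D.mk_eq_one_iff tQ).mpr (Or.inl h))
  have htz : tQ ≠ D.zQ := fun h => hmk ((D.mk_eq_one_iff tQ).mpr (Or.inr h))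
  have hne : g * z * g⁻¹ ≠ z := by
    intro h
    apply htz
    apply toQ_eq
    rw [D.zQ_coe, h]
  have hz' : InQ Q (g⁻¹ * z * g) := D.symm_lemma g ht hne
  set z'Q : Q := hz'.toQ with hz'Q
  have hz'1 : z'Q ≠ 1 := by
    apply toQ_ne_one_of
    intro h
    apply D.z_ne_one
    have : z = g * (g⁻¹ * z * g) * g⁻¹ := by group
    rw [this, h]; group
  have hz'z : z'Q ≠ D.zQ := by
    apply D.toQ_ne_zQ_of
    intro h
    apply hne
    calc g * z * g⁻¹ = g * (g⁻¹ * z * g) * g⁻¹ := by rw [h]
      _ = z := by group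
  have hz'coe : ((z'Q : Subgroup.centralizer ({z} : Set G)) : G) = g⁻¹ * z * g := rfl
  have hk : g * ((z'Q : Subgroup.centralizer ({z} : Set G)) : G) * g⁻¹ = z := by
    rw [hz'coe]; group
  set A' := Subgroup.centralizer ({z'Q} : Set Q) with hA'
  set θ := theta g z'Q hk with hθ
  have hcardA : Nat.card A' = 2 ^ 24 := D.card_centralizer z'Q hz'1 hz'z
  -- (a) the range lies in the image of the centralizer of `t`
  have hA : ∀ r ∈ θ.range, ∃ h : Subgroup.centralizer ({z} : Set G),
      h * (tQ : Subgroup.centralizer ({z} : Set G)) = (tQ : Subgroup.centralizer ({z} : Set G)) * h ∧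
      r = QuotientGroup.mk h := by
    rintro r ⟨a, rfl⟩
    refine ⟨conjC g z'Q hk a, ?_, rfl⟩
    apply Subtype.ext
    rw [Subgroup.coe_mul, Subgroup.coe_mul, conjC_coe, htQ, InQ.toQ_coe]
    have ha : (((a : Q) : Subgroup.centralizer ({z} : Set G)) : G) * z
        = z * (((a : Q) : Subgroup.centralizer ({z} : Set G)) : G) :=
      (mem_C_iff _).mp ((a : Q) : Subgroup.centralizer ({z} : Set G)).2
    set a' := (((a : Q) : Subgroup.centralizer ({z} : Set G)) : G) with ha'
    calc g * a' * g⁻¹ * (g * z * g⁻¹) = g * (a' * z) * g⁻¹ := by group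
      _ = g * (z * a') * g⁻¹ := by rw [ha]
      _ = g * z * g⁻¹ * (g * a' * g⁻¹) := by group
  -- (b) the range is normalized by the image of the centralizer of `t`
  have hB : ∀ h : Subgroup.centralizer ({z} : Set G),
      h * (tQ : Subgroup.centralizer ({z} : Set G)) = (tQ : Subgroup.centralizer ({z} : Set G)) * h →
      ∀ r ∈ θ.range, (QuotientGroup.mk h : Subgroup.centralizer ({z} : Set G) ⧸ Q) * r *
        (QuotientGroup.mk h)⁻¹ ∈ θ.range := by
    rintro h hh r ⟨a, rfl⟩
    have hh' : (h : G) * (g * z * g⁻¹) = (g * z * g⁻¹) * (h : G) := by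
      have := congrArg (fun c : Subgroup.centralizer ({z} : Set G) => (c : G)) hh
      simpa [htQ, InQ.toQ_coe] using this
    have hhz : (h : G) * z = z * (h : G) := (mem_C_iff _).mp h.2
    -- `h' = g⁻¹ h g` lies in `C`
    have hh'C : g⁻¹ * (h : G) * g ∈ Subgroup.centralizer ({z} : Set G) := by
      rw [mem_C_iff]
      calc g⁻¹ * (h : G) * g * z = g⁻¹ * ((h : G) * (g * z * g⁻¹)) * g := by group
        _ = g⁻¹ * ((g * z * g⁻¹) * (h : G)) * g := by rw [hh']
        _ = z * (g⁻¹ * (h : G) * g) := by group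
    set h' : Subgroup.centralizer ({z} : Set G) := ⟨g⁻¹ * (h : G) * g, hh'C⟩ with hh'def
    -- `h'` commutes with `z'`
    have hh'z' : (h' : G) * (g⁻¹ * z * g) = (g⁻¹ * z * g) * (h' : G) := by
      show g⁻¹ * (h : G) * g * (g⁻¹ * z * g) = (g⁻¹ * z * g) * (g⁻¹ * (h : G) * g)
      calc g⁻¹ * (h : G) * g * (g⁻¹ * z * g) = g⁻¹ * ((h : G) * z) * g := by group
        _ = g⁻¹ * (z * (h : G)) * g := by rw [hhz]
        _ = (g⁻¹ * z * g) * (g⁻¹ * (h : G) * g) := by group
    set a2 : Q := MulAut.conjNormal h' (a : Q) with ha2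
    have ha2coe : ((a2 : Subgroup.centralizer ({z} : Set G)) : G)
        = (h' : G) * (((a : Q) : Subgroup.centralizer ({z} : Set G)) : G) * (h' : G)⁻¹ := by
      rw [ha2, MulAut.conjNormal_apply]; rfl
    have ha2mem : a2 ∈ A' := by
      rw [hA', Subgroup.mem_centralizer_iff]
      intro y hy
      rw [Set.mem_singleton_iff] at hy
      rw [hy]
      apply Subtype.ext; apply Subtype.ext
      rw [Subgroup.coe_mul, Subgroup.coe_mul, Subgroup.coe_mul, Subgroup.coe_mul, ha2coe, hz'coe]
      have haz : (a : Q) * z'Q = z'Q * (a : Q) :=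
        (Subgroup.mem_centralizer_iff.mp a.2 z'Q rfl).symm
      have haz' : (((a : Q) : Subgroup.centralizer ({z} : Set G)) : G) * (g⁻¹ * z * g)
          = (g⁻¹ * z * g) * (((a : Q) : Subgroup.centralizer ({z} : Set G)) : G) := by
        have := congrArg (fun q : Q => ((q : Subgroup.centralizer ({z} : Set G)) : G)) haz
        simpa [hz'coe] using this
      set a' := (((a : Q) : Subgroup.centralizer ({z} : Set G)) : G) with ha'
      set w := g⁻¹ * z * g with hw
      have hinv : (h' : G)⁻¹ * w = w * (h' : G)⁻¹ := by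
        calc (h' : G)⁻¹ * w = (h' : G)⁻¹ * (w * (h' : G)) * (h' : G)⁻¹ := by group
          _ = (h' : G)⁻¹ * ((h' : G) * w) * (h' : G)⁻¹ := by rw [hh'z']
          _ = w * (h' : G)⁻¹ := by group
      calc w * ((h' : G) * a' * (h' : G)⁻¹) = (w * (h' : G)) * a' * (h' : G)⁻¹ := by group
        _ = ((h' : G) * w) * a' * (h' : G)⁻¹ := by rw [hh'z']
        _ = (h' : G) * (w * a') * (h' : G)⁻¹ := by group
        _ = (h' : G) * (a' * w) * (h' : G)⁻¹ := by rw [haz']
        _ = (h' : G) * a' * ((h' : G)⁻¹ * w) := by rw [hinv]; group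
        _ = (h' : G) * a' * (h' : G)⁻¹ * w := by group
    refine ⟨⟨a2, ha2mem⟩, ?_⟩
    show (QuotientGroup.mk (conjC g z'Q hk ⟨a2, ha2mem⟩) :
      Subgroup.centralizer ({z} : Set G) ⧸ Q) = QuotientGroup.mk h *
        QuotientGroup.mk (conjC g z'Q hk a) * (QuotientGroup.mk h)⁻¹
    rw [← QuotientGroup.mk_inv, ← QuotientGroup.mk_mul, ← QuotientGroup.mk_mul]
    congr 1
    apply Subtype.ext
    rw [Subgroup.coe_mul, Subgroup.coe_mul, Subgroup.coe_inv, conjC_coe, conjC_coe]
    show g * ((a2 : Subgroup.centralizer ({z} : Set G)) : G) * g⁻¹ = _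
    rw [ha2coe]
    show g * ((g⁻¹ * (h : G) * g) * _ * (g⁻¹ * (h : G) * g)⁻¹) * g⁻¹ = _
    group
  -- (c) the range is a 2-group
  have hC : Nat.card θ.range ∣ 2 ^ 24 := by
    rw [← hcardA, Subgroup.card_eq_card_quotient_mul_card_subgroup θ.ker,
      Nat.card_congr (QuotientGroup.quotientKerEquivRange θ).toEquiv]
    exact Dvd.intro _ rfl
  have hbot : θ.range = ⊥ := D.eq_bot_of_normal_two v hv tQ ht1 htz hψ θ.range hA hB 24 hC
  have hall : ∀ a : A', InQ Q (g * (((a : Q) : Subgroup.centralizer ({z} : Set G)) : G) * g⁻¹) := by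
    intro a
    rw [← mem_ker_theta g z'Q hk, MonoidHom.mem_ker]
    have : θ a ∈ θ.range := ⟨a, rfl⟩
    rw [hbot, Subgroup.mem_bot] at this
    exact this
  -- `A'` is not abelian
  have hnonab : ∃ a b : A', (a : Q) * (b : Q) = (b : Q) * (a : Q) * D.zQ := by
    by_contra hcon
    push Not at hcon
    have hcomm : ∀ a b : A', (a : Q) * (b : Q) = (b : Q) * (a : Q) := by
      intro a b
      rcases D.esData.comm (a : Q) (b : Q) with h | h
      · exact h
      · exact absurd h (hcon a b)
    have hle : Nat.card A' ≤ 4 := by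
      rw [← D.card_centralizer_centralizer z'Q hz'1 hz'z]
      let f : A' → Subgroup.centralizer (A' : Set Q) := fun a =>
        ⟨(a : Q), by
          rw [Subgroup.mem_centralizer_iff]
          intro b hb
          exact hcomm ⟨b, hb⟩ a⟩
      apply Nat.card_le_card_of_injective f
      intro a b hab
      apply Subtype.ext
      exact congrArg (fun x : Subgroup.centralizer (A' : Set Q) => (x : Q)) hab
    rw [hcardA] at hle
    norm_num at hle
  obtain ⟨a, b, hab⟩ := hnonab
  set a' := (((a : Q) : Subgroup.centralizer ({z} : Set G)) : G) with ha'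
  set b' := (((b : Q) : Subgroup.centralizer ({z} : Set G)) : G) with hb'
  have hab' : a' * b' = b' * a' * z := by
    have := congrArg (fun q : Q => ((q : Subgroup.centralizer ({z} : Set G)) : G)) hab
    simpa [D.zQ_coe] using this
  have hxy : (g * a' * g⁻¹) * (g * b' * g⁻¹) = (g * b' * g⁻¹) * (g * a' * g⁻¹) * (g * z * g⁻¹) := by
    calc (g * a' * g⁻¹) * (g * b' * g⁻¹) = g * (a' * b') * g⁻¹ := by group
      _ = g * (b' * a' * z) * g⁻¹ := by rw [hab']
      _ = _ := by group
  rcases D.inQ_comm (hall a) (hall b) with h | h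
  · rw [h] at hxy
    have : g * z * g⁻¹ = 1 := by
      have h2 : (g * b' * g⁻¹) * (g * a' * g⁻¹) * 1 = (g * b' * g⁻¹) * (g * a' * g⁻¹) * (g * z * g⁻¹) := by
        rw [mul_one]; exact hxy
      exact (mul_left_cancel h2).symm
    apply D.z_ne_one
    have e : z = g⁻¹ * (g * z * g⁻¹) * g := by group
    rw [e, this]; group
  · rw [h] at hxy
    exact hne (mul_left_cancel hxy).symm

end Dat

end Cfsg.Agent.Lib.Helper14.MonT
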