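import Cfsg.Agent.Lib.Helper14.MonE

/-!
# Groups of Monster type: the conjugates of `z` in `Q` (helper14)

S5406, S5407, S5411: the conjugates of `z` in `Q` other than `z` are exactly the lifts of the lattice
vectors of norm 64 and form one orbit under `C`; the other non-central involutions of `Q` are the
lifts of the minimal vectors and also form one orbit.
-/

set_option autoImplicit false
set_option linter.unusedSectionVars false

namespace Cfsg.Agent.Lib.Helper14.MonT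

open Cfsg Cfsg.Agent.Lib.Helper16.ES32

variable {G : Type*} [Group G] [Finite G] {z : G}
  {Q : Subgroup (Subgroup.centralizer ({z} : Set G))} [Q.Normal]

theorem nwc_of (hM : IsOfMonsterType z Q) : ∃ g : G, InQ Q (g * z * g⁻¹) ∧ g * z * g⁻¹ ≠ z :=
  hM.1.2.2.2.2

namespace Dat

variable (D : Dat z Q)

/-- non-central involutions of `Q` are lifts of vectors of norm 32 or 64. -/
theorem classify (xQ : Q) (hx : xQ * xQ = 1) (hne1 : xQ ≠ 1) (hnez : xQ ≠ D.zQ) :
    ∃ y : leechLattice, (nrm y = 32 ∨ nrm y = 64) ∧ D.ψ y = QuotientGroup.mk xQ := by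
  obtain ⟨v0, hv0⟩ := D.psi_surj (QuotientGroup.mk xQ)
  obtain ⟨y, w, hy, hvy⟩ := exists_short_add_dbl v0
  have hψy : D.ψ y = QuotientGroup.mk xQ := by
    rw [← hv0, hvy, D.psi_add, D.psi_dbl, mul_one]
  rcases nrm_cases y hy with rfl | h | h | h
  · exfalso
    rw [D.psi_zero, eq_comm, D.mk_eq_one_iff] at hψy
    rcases hψy with h | h
    · exact hne1 h
    · exact hnez h
  · exact ⟨y, Or.inl h, hψy⟩
  · exfalso
    have h1 := D.qq_of_mk hψy
    rw [D.ff_nrm48 y h, (qq_eq_zero_iff xQ).mpr hx] at h1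
    exact zero_ne_one h1
  · exact ⟨y, Or.inr h, hψy⟩

/-- lifts of vectors in one `Co0`-orbit are conjugate under `C`. -/
theorem exists_conj_of_smul (v' v : leechLattice) (g0 : Co0) (hg0 : g0 • v' = v) (sQ xQ : Q)
    (hs : D.ψ v' = QuotientGroup.mk sQ) (hx : D.ψ v = QuotientGroup.mk xQ) (hv : D.ψ v ≠ 1) :
    ∃ c : Subgroup.centralizer ({z} : Set G),
      c * (sQ : Subgroup.centralizer ({z} : Set G)) * c⁻¹ = (xQ : Subgroup.centralizer ({z} : Set G)) := by
  obtain ⟨h0, hh0⟩ := D.exists_h g0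
  have h1 := D.psi_smul h0 g0 hh0 v' sQ hs
  rw [hg0, hx] at h1
  rcases (D.mk_eq_mk_iff xQ _).mp h1 with h2 | h2
  · refine ⟨h0, ?_⟩
    have := congrArg (fun q : Q => (q : Subgroup.centralizer ({z} : Set G))) h2
    simpa only [MulAut.conjNormal_apply] using this
  · have hx1 : xQ ≠ 1 := by
      intro h
      apply hv
      rw [hx, h, QuotientGroup.mk_one]
    have hxz : xQ ≠ D.zQ := by
      intro h
      apply hv
      rw [hx, D.mk_eq_one_iff]
      exact Or.inr h
    obtain ⟨y, hy⟩ := D.exists_noncomm xQ hx1 hxz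
    refine ⟨(y : Subgroup.centralizer ({z} : Set G)) * h0, ?_⟩
    have e1 : MulAut.conjNormal ((y : Subgroup.centralizer ({z} : Set G)) * h0) sQ = xQ := by
      rw [map_mul, MulAut.mul_apply, h2, conjNormal_coe_Q]
      have hzz : D.zQ * D.zQ = 1 := D.esData.z_sq
      calc y * (xQ * D.zQ) * y⁻¹ = (y * xQ * D.zQ) * y⁻¹ := by group
        _ = (xQ * y) * y⁻¹ := by rw [hy]
        _ = xQ := by group
    have := congrArg (fun q : Q => (q : Subgroup.centralizer ({z} : Set G))) e1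
    simpa only [MulAut.conjNormal_apply] using this

include D in
theorem sq_of_isConj (x : G) (hx : IsConj z x) : x * x = 1 := by
  obtain ⟨g, hg⟩ := isConj_iff.mp hx
  rw [← hg]
  calc g * z * g⁻¹ * (g * z * g⁻¹) = g * (z * z) * g⁻¹ := by group
    _ = 1 := by rw [D.z_sq]; group

/-- a conjugate of `z` in `Q` other than `z` is a lift of a vector of norm 64. -/
theorem nrm64_of_conj (x : Q)
    (hc : IsConj z ((x : Subgroup.centralizer ({z} : Set G)) : G))
    (hne : ((x : Subgroup.centralizer ({z} : Set G)) : G) ≠ z) :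
    ∃ v : leechLattice, nrm v = 64 ∧ D.ψ v = QuotientGroup.mk x := by
  obtain ⟨g, hg⟩ := isConj_iff.mp hc
  have ht : InQ Q (g * z * g⁻¹) := by rw [hg]; exact inQ_coe x
  have htx : ht.toQ = x := toQ_eq ht x hg.symm
  have hxx : x * x = 1 := by
    apply Subtype.ext; apply Subtype.ext
    exact D.sq_of_isConj _ hc
  have hx1 : x ≠ 1 := by
    intro h
    apply D.z_ne_one
    have h2 : g * z * g⁻¹ = 1 := by rw [hg, h]; rfl
    have e : z = g⁻¹ * (g * z * g⁻¹) * g := by group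
    rw [e, h2]; group
  have hxz : x ≠ D.zQ := by
    intro h
    apply hne
    rw [h, D.zQ_coe]
  obtain ⟨y, hy, hψy⟩ := D.classify x hxx hx1 hxz
  rcases hy with h | h
  · exfalso
    rw [← htx] at hψy
    exact D.not_conj_of_nrm32 g ht y h hψy
  · exact ⟨y, h, hψy⟩

/-- S5407: the conjugates of `z` in `Q` other than `z` are exactly the lifts of vectors of norm 64. -/
theorem conj_iff (hnwc : ∃ g : G, InQ Q (g * z * g⁻¹) ∧ g * z * g⁻¹ ≠ z) (x : Q) :
    (IsConj z ((x : Subgroup.centralizer ({z} : Set G)) : G) ∧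
      ((x : Subgroup.centralizer ({z} : Set G)) : G) ≠ z) ↔
    ∃ v : leechLattice, nrm v = 64 ∧ D.ψ v = QuotientGroup.mk x := by
  constructor
  · rintro ⟨hc, hne⟩
    exact D.nrm64_of_conj x hc hne
  · rintro ⟨v, hv, hψv⟩
    obtain ⟨g, hs, hsne⟩ := hnwc
    have hsc : IsConj z ((hs.toQ : Subgroup.centralizer ({z} : Set G)) : G) := by
      rw [InQ.toQ_coe]; exact isConj_iff.mpr ⟨g, rfl⟩
    obtain ⟨v', hv', hψv'⟩ := D.nrm64_of_conj hs.toQ hsc (by rw [InQ.toQ_coe]; exact hsne)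
    obtain ⟨g0, hg0⟩ := Cfsg.Agent.Lib.Helper14.LeechOrbit.co0_trans64 v' v hv' hv
    obtain ⟨c, hc⟩ := D.exists_conj_of_smul v' v g0 hg0 hs.toQ x hψv' hψv (D.not_dbl_of_nrm64 v hv)
    have hc' : (c : G) * (g * z * g⁻¹) * (c : G)⁻¹ = ((x : Subgroup.centralizer ({z} : Set G)) : G) := by
      have := congrArg (fun q : Subgroup.centralizer ({z} : Set G) => (q : G)) hc
      simpa [InQ.toQ_coe] using this
    constructor
    · apply isConj_iff.mpr
      refine ⟨(c : G) * g, ?_⟩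
      rw [← hc']; group
    · intro h
      apply D.not_dbl_of_nrm64 v hv
      rw [hψv, D.mk_eq_one_iff]
      right
      apply Subtype.ext; apply Subtype.ext
      rw [h, D.zQ_coe]

include D in
/-- S5406: `C` is transitive on the conjugates of `z` in `Q` other than `z`. -/
theorem trans_conj (s t : G) (hsQ : InQ Q s) (htQ : InQ Q t) (hs : IsConj z s) (ht : IsConj z t)
    (hs1 : s ≠ z) (ht1 : t ≠ z) :
    ∃ h ∈ Subgroup.centralizer ({z} : Set G), h * s * h⁻¹ = t := by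
  obtain ⟨v', hv', hψv'⟩ := D.nrm64_of_conj hsQ.toQ (by rw [InQ.toQ_coe]; exact hs)
    (by rw [InQ.toQ_coe]; exact hs1)
  obtain ⟨v, hv, hψv⟩ := D.nrm64_of_conj htQ.toQ (by rw [InQ.toQ_coe]; exact ht)
    (by rw [InQ.toQ_coe]; exact ht1)
  obtain ⟨g0, hg0⟩ := Cfsg.Agent.Lib.Helper14.LeechOrbit.co0_trans64 v' v hv' hv
  obtain ⟨c, hc⟩ := D.exists_conj_of_smul v' v g0 hg0 hsQ.toQ htQ.toQ hψv' hψv
    (D.not_dbl_of_nrm64 v hv)
  refine ⟨(c : G), c.2, ?_⟩
  have := congrArg (fun q : Subgroup.centralizer ({z} : Set G) => (q : G)) hc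
  simpa [InQ.toQ_coe] using this

/-- an involution of `Q` not conjugate to `z` is a lift of a minimal vector. -/
theorem nrm32_of_not_conj (hnwc : ∃ g : G, InQ Q (g * z * g⁻¹) ∧ g * z * g⁻¹ ≠ z)
    (s : G) (hsQ : InQ Q s) (hs2 : orderOf s = 2) (hs : ¬ IsConj z s) :
    ∃ v : leechLattice, nrm v = 32 ∧ D.ψ v = QuotientGroup.mk hsQ.toQ := by
  have hss : s * s = 1 := by
    have := pow_orderOf_eq_one s
    rwa [hs2, pow_two] at this
  have hxx : hsQ.toQ * hsQ.toQ = 1 := by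
    apply Subtype.ext; apply Subtype.ext
    exact hss
  have hx1 : hsQ.toQ ≠ 1 := by
    apply toQ_ne_one_of
    intro h
    rw [h, orderOf_one] at hs2
    omega
  have hxz : hsQ.toQ ≠ D.zQ := by
    apply D.toQ_ne_zQ_of
    intro h
    apply hs
    rw [h]
  obtain ⟨y, hy, hψy⟩ := D.classify hsQ.toQ hxx hx1 hxz
  rcases hy with h | h
  · exact ⟨y, h, hψy⟩
  · exfalso
    apply hs
    have := ((D.conj_iff hnwc hsQ.toQ).mpr ⟨y, h, hψy⟩).1
    rwa [InQ.toQ_coe] at this

include D in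
/-- S5411: `C` is transitive on the involutions of `Q` not conjugate to `z`. -/
theorem trans_not_conj (hnwc : ∃ g : G, InQ Q (g * z * g⁻¹) ∧ g * z * g⁻¹ ≠ z)
    (s t : G) (hsQ : InQ Q s) (htQ : InQ Q t) (hs2 : orderOf s = 2) (ht2 : orderOf t = 2)
    (hs : ¬ IsConj z s) (ht : ¬ IsConj z t) :
    ∃ h ∈ Subgroup.centralizer ({z} : Set G), h * s * h⁻¹ = t := by
  obtain ⟨v', hv', hψv'⟩ := D.nrm32_of_not_conj hnwc s hsQ hs2 hs
  obtain ⟨v, hv, hψv⟩ := D.nrm32_of_not_conj hnwc t htQ ht2 ht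
  obtain ⟨g0, hg0⟩ := Cfsg.Agent.Lib.Helper14.LeechOrbit.co0_trans32 v' v hv' hv
  obtain ⟨c, hc⟩ := D.exists_conj_of_smul v' v g0 hg0 hsQ.toQ htQ.toQ hψv' hψv
    (D.not_dbl_of_nrm32 v hv)
  refine ⟨(c : G), c.2, ?_⟩
  have := congrArg (fun q : Subgroup.centralizer ({z} : Set G) => (q : G)) hc
  simpa [InQ.toQ_coe] using this

end Dat

end Cfsg.Agent.Lib.Helper14.MonT
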