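import Cfsg.Agent.Lib.Helper14.CrossMaxE
import Cfsg.Agent.S0365
import Cfsg.Agent.Lib.Helper3.Golay.M24Order

/-!
# Normal 2-subgroups of the stabilizer of a cross in `Co0` (helper14)

The stabilizer `NN` of the standard cross is `2^12 : M24`; the permutation part is a surjective
homomorphism `pp : NN →* M24` with kernel the sign changes.  Hence a 2-subgroup of `Co0` contained in
and normalized by the stabilizer of (the congruence class of) a vector of norm 64 has order at most
`2 ^ 12`.
-/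

set_option autoImplicit false
set_option linter.unusedSectionVars false

namespace Cfsg.Agent.Lib.Helper14.MonT

open Cfsg
open Cfsg.Agent.Lib.Helper14.CrossMax Cfsg.Agent.Lib.Helper14.LeechMono
open Cfsg.Agent.Lib.Helper14.Co0Order
open Cfsg.Agent.Lib.Helper3.Golay (mem_support₂)
open scoped Pointwise

/-- the stabilizer of the standard cross, as a subgroup. -/
def NN : Subgroup Co0 := MulAction.stabilizer Co0 (X0 : Set leechLattice)

theorem mem_NN (g : Co0) : g ∈ NN ↔ g ∈ NSet := by
  rw [mem_NSet_iff]; exact MulAction.mem_stabilizer_iff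

/-- monomial elements. -/
noncomputable def monoEl (σ : M24) (w : golayCode) : Co0 := ⟨mono σ w, mono_mem_Co0 σ w⟩

theorem monoEl_smul (σ : M24) (w : golayCode) (v : leechLattice) :
    ((monoEl σ w • v : leechLattice) : GolayPt → ℤ) = signedPerm σ.1 (support₂ w.1) v.1 := rfl

theorem monoEl_mem (σ : M24) (w : golayCode) : monoEl σ w ∈ NN :=
  (mem_NN _).mpr (fun v hv => mono_std σ w v hv)

theorem exists_monoEl (g : Co0) (hg : g ∈ NN) : ∃ (σ : M24) (w : golayCode), g = monoEl σ w := by
  obtain ⟨⟨σ, w⟩, h⟩ := Phi_surjective ⟨g, (mem_NN g).mp hg⟩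
  exact ⟨σ, w, (congrArg Subtype.val h).symm⟩

theorem perm_unique (σ σ' : Equiv.Perm GolayPt) (c c' : Finset GolayPt)
    (h : ∀ v : leechLattice, signedPerm σ c v.1 = signedPerm σ' c' v.1) : σ = σ' := by
  apply Equiv.ext
  intro i
  have h1 := h (E i)
  have h2 : ((E i : leechLattice) : GolayPt → ℤ) = Pi.single i 8 := rfl
  rw [h2, signedPerm_single, signedPerm_single] at h1
  refine single_inj _ _ _ _ ?_ h1
  split_ifs <;> norm_num

theorem signedPerm_comp (σ σ' : Equiv.Perm GolayPt) (c c' : Finset GolayPt) (x : GolayPt → ℤ) :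
    signedPerm σ c (signedPerm σ' c' x) =
      signedPerm (σ * σ') (Finset.univ.filter (fun i => ¬(i ∈ c ↔ σ.symm i ∈ c'))) x := by
  funext i
  rw [signedPerm_apply, signedPerm_apply, signedPerm_apply]
  have e : (σ * σ').symm i = σ'.symm (σ.symm i) := rfl
  rw [e]
  by_cases h1 : i ∈ c <;> by_cases h2 : σ.symm i ∈ c' <;> simp [h1, h2]

/-- the permutation part of an element of `NN`. -/
noncomputable def sgm (g : NN) : M24 := Classical.choose (exists_monoEl g.1 g.2)

theorem sgm_spec (g : NN) : ∃ w : golayCode, (g : Co0) = monoEl (sgm g) w :=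
  Classical.choose_spec (exists_monoEl g.1 g.2)

theorem sgm_eq (g : NN) (σ : M24) (w : golayCode) (h : (g : Co0) = monoEl σ w) : sgm g = σ := by
  obtain ⟨w', hw'⟩ := sgm_spec g
  apply Subtype.ext
  apply perm_unique _ _ (support₂ w'.1) (support₂ w.1)
  intro v
  rw [← monoEl_smul, ← monoEl_smul, ← hw', ← h]

theorem sgm_mul (a b : NN) : sgm (a * b) = sgm a * sgm b := by
  obtain ⟨wa, ha⟩ := sgm_spec a
  obtain ⟨wb, hb⟩ := sgm_spec b
  obtain ⟨wc, hc⟩ := sgm_spec (a * b)
  apply Subtype.ext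
  apply perm_unique _ _ (support₂ wc.1)
    (Finset.univ.filter (fun i => ¬(i ∈ support₂ wa.1 ↔ (sgm a).1.symm i ∈ support₂ wb.1)))
  intro v
  rw [← monoEl_smul, ← hc]
  show (((a : Co0) * (b : Co0)) • v : leechLattice).1 = _
  rw [mul_smul, ha, monoEl_smul, hb, monoEl_smul]
  exact signedPerm_comp _ _ _ _ _

/-- the permutation part as a homomorphism. -/
noncomputable def pp : NN →* M24 := MonoidHom.mk' sgm sgm_mul

theorem pp_apply (g : NN) : pp g = sgm g := rfl

theorem pp_surjective : Function.Surjective pp := by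
  intro σ
  exact ⟨⟨monoEl σ 0, monoEl_mem σ 0⟩, sgm_eq _ σ 0 rfl⟩

theorem mem_EE_of_pp (g : NN) (h : pp g = 1) : (g : Co0) ∈ EE := by
  obtain ⟨w, hw⟩ := sgm_spec g
  rw [pp_apply] at h
  rw [h] at hw
  exact ⟨Multiplicative.ofAdd w, hw.symm⟩

theorem three_dvd_card_M24 : 3 ∣ Nat.card M24 := by
  rw [Cfsg.Agent.Lib.Helper3.Golay.card_M24]; norm_num

theorem finite_M24 : Finite M24 :=
  Nat.finite_of_card_ne_zero (by rw [Cfsg.Agent.Lib.Helper3.Golay.card_M24]; norm_num)

/-- a 2-subgroup of `Co0` contained in and normalized by `NN` consists of sign changes. -/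
theorem le_EE_of_normal_two (R : Subgroup Co0) (hR : R ≤ NN)
    (hn : ∀ g ∈ NN, ∀ r ∈ R, g * r * g⁻¹ ∈ R) (n : ℕ) (hc : Nat.card R ∣ 2 ^ n) : R ≤ EE := by
  haveI := finite_Co0
  haveI := finite_M24
  haveI : IsSimpleGroup M24 := Cfsg.Agent.S0365.result
  set R' : Subgroup NN := R.subgroupOf NN with hR'
  have hnorm : R'.Normal := by
    constructor
    intro r hr g
    rw [hR', Subgroup.mem_subgroupOf] at hr ⊢
    exact hn g.1 g.2 r.1 hr
  have hP : (R'.map pp).Normal := Subgroup.Normal.map hnorm pp pp_surjective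
  have hcard : Nat.card (R'.map pp) ∣ 2 ^ n := by
    have h1 : Nat.card (R'.map pp) ∣ Nat.card R' :=
      Subgroup.card_dvd_of_surjective (pp.subgroupMap R') (pp.subgroupMap_surjective R')
    have h2 : Nat.card R' = Nat.card R :=
      Nat.card_congr (Subgroup.subgroupOfEquivOfLe hR).toEquiv
    rw [h2] at h1
    exact h1.trans hc
  rcases hP.eq_bot_or_eq_top with h | h
  · intro r hr
    have h1 : pp ⟨r, hR hr⟩ ∈ R'.map pp := ⟨⟨r, hR hr⟩, by
      rw [SetLike.mem_coe, hR', Subgroup.mem_subgroupOf]; exact hr, rfl⟩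
    rw [h, Subgroup.mem_bot] at h1
    exact mem_EE_of_pp ⟨r, hR hr⟩ h1
  · exfalso
    rw [h] at hcard
    have h3 : 3 ∣ 2 ^ n := by
      have : Nat.card (⊤ : Subgroup M24) = Nat.card M24 := Subgroup.card_top
      rw [this] at hcard
      exact three_dvd_card_M24.trans hcard
    have := Nat.Prime.dvd_of_dvd_pow Nat.prime_three h3
    omega

end Cfsg.Agent.Lib.Helper14.MonT
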