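import Cfsg.Agent.Lib.Helper14.MonF
import Cfsg.Agent.Lib.Helper14.MonG

/-!
# Groups of Monster type: `Q ∩ Q^g` for a conjugate `g z g⁻¹ ∈ Q` (helper14)

For `s = g z g⁻¹ ∈ Q`, `s ≠ z`: the image of `C_{Q^g}(z)` in `C / Q ≅ Co₁` is a normal 2-subgroup of
the stabilizer `2^11 : M24` of the class of a vector of norm 64, hence has order at most `2^11`;
together with the bound `2^13` on abelian subgroups of `Q` this gives `|Q ∩ Q^g| = 2^13`.
-/

set_option autoImplicit false
set_option linter.unusedSectionVars false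

namespace Cfsg.Agent.Lib.Helper14.MonT

open Cfsg Cfsg.Agent.Lib.Helper16.ES32
open Cfsg.Agent.Lib.Helper14.CrossMax

/-- a 2-subgroup of `Co0` contained in and normalized by the stabilizer of the class of a vector of
norm 64 is conjugate into the group of sign changes. -/
theorem exists_conj_le_EE (v : leechLattice) (hv : nrm v = 64) (R0 : Subgroup Co0)
    (ha : ∀ r ∈ R0, Cong (r • v) v)
    (hb : ∀ g0 : Co0, Cong (g0 • v) v → ∀ r ∈ R0, g0 * r * g0⁻¹ ∈ R0)
    (n : ℕ) (hc : Nat.card R0 ∣ 2 ^ n) :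
    ∃ g1 : Co0, g1 • Cfsg.Agent.Lib.Helper14.Co0Order.v8 = v ∧
      R0.map (MulAut.conj g1⁻¹).toMonoidHom ≤ EE := by
  obtain ⟨g1, hg1⟩ := Cfsg.Agent.Lib.Helper14.LeechOrbit.co0_trans64
    Cfsg.Agent.Lib.Helper14.Co0Order.v8 v Cfsg.Agent.Lib.Helper14.Co0Order.sqNorm_v8 hv
  refine ⟨g1, hg1, ?_⟩
  have hinv : g1⁻¹ • v = Cfsg.Agent.Lib.Helper14.Co0Order.v8 := by
    rw [← hg1, inv_smul_smul]
  have hnrm : ∀ (g : Co0) (y : leechLattice), Cfsg.Agent.Lib.Helper14.LeechCo2.nrm (g • y) =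
      Cfsg.Agent.Lib.Helper14.LeechCo2.nrm y := fun g y => g.2.2 y
  apply le_EE_of_normal_two _ _ _ n
  · rw [Subgroup.card_map_of_injective (MulAut.conj g1⁻¹).injective]
    exact hc
  · rintro _ ⟨r, hr, rfl⟩
    rw [mem_NN, mem_NSet_iff', X0_eq]
    show (g1⁻¹ * r * g1⁻¹⁻¹) • Cfsg.Agent.Lib.Helper14.Co0Order.v8 ∈ crossL _
    rw [inv_inv, mul_smul, mul_smul, hg1]
    refine ⟨?_, ?_⟩
    · rw [hnrm, hnrm, ← hg1, hnrm]
    · have := Cong.smul' g1⁻¹ (ha r hr)
      rwa [hinv] at this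
  · rintro g hg _ ⟨r, hr, rfl⟩
    refine ⟨(g1 * g * g1⁻¹) * r * (g1 * g * g1⁻¹)⁻¹, ?_, ?_⟩
    · apply hb _ _ r hr
      rw [mem_NN, mem_NSet_iff', X0_eq] at hg
      rw [mul_smul, mul_smul, hinv]
      have := Cong.smul' g1 hg.2
      rwa [hg1] at this
    · show g1⁻¹ * ((g1 * g * g1⁻¹) * r * (g1 * g * g1⁻¹)⁻¹) * g1⁻¹⁻¹ = g * (g1⁻¹ * r * g1⁻¹⁻¹) * g⁻¹
      group

variable {G : Type*} [Group G] [Finite G] {z : G}
  {Q : Subgroup (Subgroup.centralizer ({z} : Set G))} [Q.Normal]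

namespace Dat

variable (D : Dat z Q)

theorem psi_eq_iff_cong (a b : leechLattice) : D.ψ a = D.ψ b ↔ Cong a b := by
  have h1 : D.ψ (a - b) = D.ψ a * D.ψ b := by
    rw [sub_eq_add_neg, D.psi_add, D.psi_neg]
  constructor
  · intro h
    have : D.ψ (a - b) = 1 := by rw [h1, h, D.psi_mul_self]
    exact (D.psi_eq_one_iff _).mp this
  · intro h
    have h2 : D.ψ (a - b) = 1 := (D.psi_eq_one_iff _).mpr h
    rw [h1] at h2
    calc D.ψ a = D.ψ a * (D.ψ b * D.ψ b) := by rw [D.psi_mul_self, mul_one]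
      _ = (D.ψ a * D.ψ b) * D.ψ b := by group
      _ = D.ψ b := by rw [h2, one_mul]

/-- the map `Co0 → C / Q` induced by the identification of `C / Q` with `Co₁`. -/
noncomputable def ff0 : Co0 →* Subgroup.centralizer ({z} : Set G) ⧸ Q :=
  D.e.symm.toMonoidHom.comp (QuotientGroup.mk' (Subgroup.center Co0))

theorem ff0_apply (g0 : Co0) : D.ff0 g0 = D.e.symm (QuotientGroup.mk g0) := rfl

theorem e_ff0 (g0 : Co0) : D.e (D.ff0 g0) = (QuotientGroup.mk g0 : Spor.Co1) := by
  rw [D.ff0_apply, MulEquiv.apply_symm_apply]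

theorem ff0_surjective : Function.Surjective D.ff0 := by
  intro c
  obtain ⟨g0, hg0⟩ := QuotientGroup.mk_surjective (D.e c)
  exact ⟨g0, by rw [D.ff0_apply, hg0, MulEquiv.symm_apply_apply]⟩

theorem ker_ff0 : D.ff0.ker = Subgroup.center Co0 := by
  ext g0
  rw [MonoidHom.mem_ker, D.ff0_apply]
  constructor
  · intro h
    have := congrArg D.e h
    rw [MulEquiv.apply_symm_apply, map_one] at this
    exact (QuotientGroup.eq_one_iff g0).mp this
  · intro h
    rw [(QuotientGroup.eq_one_iff g0).mpr h, map_one]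

include D in
theorem card_quot : Nat.card (Subgroup.centralizer ({z} : Set G) ⧸ Q) = 4157776806543360000 := by
  rw [Nat.card_congr D.e.toEquiv, card_co1]

/-- the order of the preimage in `Co0` of a subgroup of `C / Q`. -/
theorem card_comap_ff0 (R : Subgroup (Subgroup.centralizer ({z} : Set G) ⧸ Q)) :
    Nat.card (R.comap D.ff0) = 2 * Nat.card R := by
  haveI := finite_Co0
  have h1 : (R.comap D.ff0).index = R.index := Subgroup.index_comap_of_surjective R D.ff0_surjective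
  have h2 := Subgroup.card_mul_index (R.comap D.ff0)
  have h3 := Subgroup.card_mul_index R
  rw [h1, Cfsg.Agent.Lib.Helper14.Co0Order.card_Co0] at h2
  rw [D.card_quot] at h3
  have hpos : 0 < R.index := Nat.pos_of_ne_zero (Subgroup.index_ne_zero_of_finite)
  have : Nat.card (R.comap D.ff0) * R.index = (2 * Nat.card R) * R.index := by
    rw [h2, mul_assoc, h3]
    norm_num
  exact Nat.eq_of_mul_eq_mul_right hpos this

/-! ### the configuration attached to a conjugate `g z g⁻¹ ∈ Q` -/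

section cfg

variable (g : G) (hs : InQ Q (g * z * g⁻¹)) (hne : g * z * g⁻¹ ≠ z)

/-- `g⁻¹ z g` as an element of `Q`. -/
noncomputable def zq' : Q := (D.symm_lemma g hs hne).toQ

theorem zq'_coe : ((D.zq' g hs hne : Subgroup.centralizer ({z} : Set G)) : G) = g⁻¹ * z * g := rfl

theorem hk' : g * ((D.zq' g hs hne : Subgroup.centralizer ({z} : Set G)) : G) * g⁻¹ = z := by
  rw [D.zq'_coe]; group

theorem zq'_ne_one : D.zq' g hs hne ≠ 1 := by
  apply toQ_ne_one_of
  intro h
  apply D.z_ne_one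
  have : z = g * (g⁻¹ * z * g) * g⁻¹ := by group
  rw [this, h]; group

theorem zq'_ne_zQ : D.zq' g hs hne ≠ D.zQ := by
  apply D.toQ_ne_zQ_of
  intro h
  apply hne
  calc g * z * g⁻¹ = g * (g⁻¹ * z * g) * g⁻¹ := by rw [h]
    _ = z := by group

/-- conjugation by `g` from `C_Q(g⁻¹ z g)` into `C / Q`. -/
noncomputable def th : Subgroup.centralizer ({D.zq' g hs hne} : Set Q) →*
    Subgroup.centralizer ({z} : Set G) ⧸ Q :=
  theta g (D.zq' g hs hne) (D.hk' g hs hne)

theorem card_A' : Nat.card (Subgroup.centralizer ({D.zq' g hs hne} : Set Q)) = 2 ^ 24 :=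
  D.card_centralizer _ (D.zq'_ne_one g hs hne) (D.zq'_ne_zQ g hs hne)

theorem card_A'_eq : Nat.card (Subgroup.centralizer ({D.zq' g hs hne} : Set Q)) =
    Nat.card (D.th g hs hne).range * Nat.card (D.th g hs hne).ker := by
  rw [Subgroup.card_eq_card_quotient_mul_card_subgroup (D.th g hs hne).ker,
    Nat.card_congr (QuotientGroup.quotientKerEquivRange (D.th g hs hne)).toEquiv]

theorem mem_ker_th (a : Subgroup.centralizer ({D.zq' g hs hne} : Set Q)) :
    a ∈ (D.th g hs hne).ker ↔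
      InQ Q (g * (((a : Q) : Subgroup.centralizer ({z} : Set G)) : G) * g⁻¹) :=
  mem_ker_theta g _ (D.hk' g hs hne) a

/-- the range of `th` lies in the image of the centralizer of `s = g z g⁻¹`. -/
theorem th_range_le : ∀ r ∈ (D.th g hs hne).range, ∃ h : Subgroup.centralizer ({z} : Set G),
    h * (hs.toQ : Subgroup.centralizer ({z} : Set G)) =
      (hs.toQ : Subgroup.centralizer ({z} : Set G)) * h ∧ r = QuotientGroup.mk h := by
  rintro r ⟨a, rfl⟩
  refine ⟨conjC g _ (D.hk' g hs hne) a, ?_, rfl⟩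
  apply Subtype.ext
  rw [Subgroup.coe_mul, Subgroup.coe_mul, conjC_coe, InQ.toQ_coe]
  have ha : (((a : Q) : Subgroup.centralizer ({z} : Set G)) : G) * z
      = z * (((a : Q) : Subgroup.centralizer ({z} : Set G)) : G) :=
    (mem_C_iff _).mp ((a : Q) : Subgroup.centralizer ({z} : Set G)).2
  set a' := (((a : Q) : Subgroup.centralizer ({z} : Set G)) : G) with ha'
  calc g * a' * g⁻¹ * (g * z * g⁻¹) = g * (a' * z) * g⁻¹ := by group
    _ = g * (z * a') * g⁻¹ := by rw [ha]
    _ = g * z * g⁻¹ * (g * a' * g⁻¹) := by group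

/-- the range of `th` is normalized by the image of the centralizer of `s = g z g⁻¹`. -/
theorem th_range_normal : ∀ h : Subgroup.centralizer ({z} : Set G),
    h * (hs.toQ : Subgroup.centralizer ({z} : Set G)) =
      (hs.toQ : Subgroup.centralizer ({z} : Set G)) * h →
    ∀ r ∈ (D.th g hs hne).range, (QuotientGroup.mk h : Subgroup.centralizer ({z} : Set G) ⧸ Q) * r *
      (QuotientGroup.mk h)⁻¹ ∈ (D.th g hs hne).range := by
  rintro h hh r ⟨a, rfl⟩
  have hz'coe : ((D.zq' g hs hne : Subgroup.centralizer ({z} : Set G)) : G) = g⁻¹ * z * g := rfl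
  have hk := D.hk' g hs hne
  have hh' : (h : G) * (g * z * g⁻¹) = (g * z * g⁻¹) * (h : G) := by
    have := congrArg (fun c : Subgroup.centralizer ({z} : Set G) => (c : G)) hh
    simpa [InQ.toQ_coe] using this
  have hhz : (h : G) * z = z * (h : G) := (mem_C_iff _).mp h.2
  have hh'C : g⁻¹ * (h : G) * g ∈ Subgroup.centralizer ({z} : Set G) := by
    rw [mem_C_iff]
    calc g⁻¹ * (h : G) * g * z = g⁻¹ * ((h : G) * (g * z * g⁻¹)) * g := by group
      _ = g⁻¹ * ((g * z * g⁻¹) * (h : G)) * g := by rw [hh']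
      _ = z * (g⁻¹ * (h : G) * g) := by group
  set h' : Subgroup.centralizer ({z} : Set G) := ⟨g⁻¹ * (h : G) * g, hh'C⟩ with hh'def
  have hh'z' : (h' : G) * (g⁻¹ * z * g) = (g⁻¹ * z * g) * (h' : G) := by
    show g⁻¹ * (h : G) * g * (g⁻¹ * z * g) = (g⁻¹ * z * g) * (g⁻¹ * (h : G) * g)
    calc g⁻¹ * (h : G) * g * (g⁻¹ * z * g) = g⁻¹ * ((h : G) * z) * g := by group
      _ = g⁻¹ * (z * (h : G)) * g := by rw [hhz]
      _ = (g⁻¹ * z * g) * (g⁻¹ * (h : G) * g) := by group
  set a2 : Q := MulAut.conjNormal h' (a : Q) with ha2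
  have ha2coe : ((a2 : Subgroup.centralizer ({z} : Set G)) : G)
      = (h' : G) * (((a : Q) : Subgroup.centralizer ({z} : Set G)) : G) * (h' : G)⁻¹ := by
    rw [ha2, MulAut.conjNormal_apply]; rfl
  have ha2mem : a2 ∈ Subgroup.centralizer ({(D.zq' g hs hne)} : Set Q) := by
    rw [Subgroup.mem_centralizer_iff]
    intro y hy
    rw [Set.mem_singleton_iff] at hy
    rw [hy]
    apply Subtype.ext; apply Subtype.ext
    rw [Subgroup.coe_mul, Subgroup.coe_mul, Subgroup.coe_mul, Subgroup.coe_mul, ha2coe, hz'coe]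
    have haz : (a : Q) * (D.zq' g hs hne) = (D.zq' g hs hne) * (a : Q) :=
      (Subgroup.mem_centralizer_iff.mp a.2 (D.zq' g hs hne) rfl).symm
    have haz' : (((a : Q) : Subgroup.centralizer ({z} : Set G)) : G) * (g⁻¹ * z * g)
        = (g⁻¹ * z * g) * (((a : Q) : Subgroup.centralizer ({z} : Set G)) : G) := by
      have := congrArg (fun q : Q => ((q : Subgroup.centralizer ({z} : Set G)) : G)) haz
      simpa [hz'coe] using this
    set a' := (((a : Q) : Subgroup.centralizer ({z} : Set G)) : G) with ha'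
    set w := g⁻¹ * z * g with hw
    have hinv : (h' : G)⁻¹ * w = w * (h' : G)⁻¹ := by
      calc (h' : G)⁻¹ * w = (h' : G)⁻¹ * (w * (h' : G)) * (h' : G)⁻¹ := by group
        _ = (h' : G)⁻¹ * ((h' : G) * w) * (h' : G)⁻¹ := by rw [hh'z']
        _ = w * (h' : G)⁻¹ := by group
    calc w * ((h' : G) * a' * (h' : G)⁻¹) = (w * (h' : G)) * a' * (h' : G)⁻¹ := by group
      _ = ((h' : G) * w) * a' * (h' : G)⁻¹ := by rw [hh'z']
      _ = (h' : G) * (w * a') * (h' : G)⁻¹ := by group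
      _ = (h' : G) * (a' * w) * (h' : G)⁻¹ := by rw [haz']
      _ = (h' : G) * a' * ((h' : G)⁻¹ * w) := by rw [hinv]; group
      _ = (h' : G) * a' * (h' : G)⁻¹ * w := by group
  refine ⟨⟨a2, ha2mem⟩, ?_⟩
  show (QuotientGroup.mk (conjC g (D.zq' g hs hne) hk ⟨a2, ha2mem⟩) :
    Subgroup.centralizer ({z} : Set G) ⧸ Q) = QuotientGroup.mk h *
      QuotientGroup.mk (conjC g (D.zq' g hs hne) hk a) * (QuotientGroup.mk h)⁻¹
  rw [← QuotientGroup.mk_inv, ← QuotientGroup.mk_mul, ← QuotientGroup.mk_mul]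
  congr 1
  apply Subtype.ext
  rw [Subgroup.coe_mul, Subgroup.coe_mul, Subgroup.coe_inv, conjC_coe, conjC_coe]
  show g * ((a2 : Subgroup.centralizer ({z} : Set G)) : G) * g⁻¹ = _
  rw [ha2coe]
  show g * ((g⁻¹ * (h : G) * g) * _ * (g⁻¹ * (h : G) * g)⁻¹) * g⁻¹ = _
  group

/-- elements of the kernel of `th` commute. -/
theorem ker_th_comm (a b : Subgroup.centralizer ({D.zq' g hs hne} : Set Q))
    (ha : a ∈ (D.th g hs hne).ker) (hb : b ∈ (D.th g hs hne).ker) :
    (a : Q) * (b : Q) = (b : Q) * (a : Q) := by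
  rcases D.esData.comm (a : Q) (b : Q) with h | hab
  · exact h
  · exfalso
    rw [D.mem_ker_th] at ha hb
    set a' := (((a : Q) : Subgroup.centralizer ({z} : Set G)) : G) with ha'
    set b' := (((b : Q) : Subgroup.centralizer ({z} : Set G)) : G) with hb'
    have hab' : a' * b' = b' * a' * z := by
      have := congrArg (fun q : Q => ((q : Subgroup.centralizer ({z} : Set G)) : G)) hab
      simpa [D.zQ_coe] using this
    have hxy : (g * a' * g⁻¹) * (g * b' * g⁻¹) =
        (g * b' * g⁻¹) * (g * a' * g⁻¹) * (g * z * g⁻¹) := by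
      calc (g * a' * g⁻¹) * (g * b' * g⁻¹) = g * (a' * b') * g⁻¹ := by group
        _ = g * (b' * a' * z) * g⁻¹ := by rw [hab']
        _ = _ := by group
    rcases D.inQ_comm ha hb with h | h
    · rw [h] at hxy
      have : g * z * g⁻¹ = 1 := by
        have h2 : (g * b' * g⁻¹) * (g * a' * g⁻¹) * 1 =
            (g * b' * g⁻¹) * (g * a' * g⁻¹) * (g * z * g⁻¹) := by
          rw [mul_one]; exact hxy
        exact (mul_left_cancel h2).symm
      apply D.z_ne_one
      have e : z = g⁻¹ * (g * z * g⁻¹) * g := by group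
      rw [e, this]; group
    · rw [h] at hxy
      exact hne (mul_left_cancel hxy).symm

/-- the kernel of `th` has order at most `2 ^ 13`. -/
theorem card_ker_th_le : Nat.card (D.th g hs hne).ker ≤ 2 ^ 13 := by
  set K : Subgroup Q := (D.th g hs hne).ker.map (Subgroup.subtype _) with hK
  have hcardK : Nat.card K = Nat.card (D.th g hs hne).ker :=
    Subgroup.card_map_of_injective (Subgroup.subtype_injective _)
  have hKcomm : K ≤ Subgroup.centralizer (K : Set Q) := by
    rintro _ ⟨a, ha, rfl⟩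
    rw [Subgroup.mem_centralizer_iff]
    rintro _ ⟨b, hb, rfl⟩
    exact D.ker_th_comm g hs hne b a hb ha
  have h := Cfsg.Agent.Lib.Helper11.card_mul_card_centralizer D.card_center D.comm_mem_center K
  have h2 : Nat.card ((Subgroup.center Q).subgroupOf K) ≤ 2 := by
    rw [← D.card_center]
    apply Nat.card_le_card_of_injective
      (fun x : (Subgroup.center Q).subgroupOf K => (⟨((x : K) : Q), x.2⟩ : Subgroup.center Q))
    intro x y hxy
    apply Subtype.ext; apply Subtype.ext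
    exact congrArg (fun c : Subgroup.center Q => (c : Q)) hxy
  have h3 : Nat.card K ≤ Nat.card (Subgroup.centralizer (K : Set Q)) :=
    Subgroup.card_le_of_le hKcomm
  rw [D.hcard] at h
  rw [← hcardK]
  by_contra hcon
  push Not at hcon
  have : 2 ^ 13 * 2 ^ 13 < Nat.card K * Nat.card (Subgroup.centralizer (K : Set Q)) := by
    calc 2 ^ 13 * 2 ^ 13 < Nat.card K * Nat.card K := by nlinarith
      _ ≤ Nat.card K * Nat.card (Subgroup.centralizer (K : Set Q)) := Nat.mul_le_mul_left _ h3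
  rw [h] at this
  have : 2 ^ 25 * Nat.card ((Subgroup.center Q).subgroupOf K) ≤ 2 ^ 25 * 2 :=
    Nat.mul_le_mul_left _ h2
  omega

include D in
theorem toQ_s_ne_one : hs.toQ ≠ 1 := by
  apply toQ_ne_one_of
  intro h
  apply D.z_ne_one
  have e : z = g⁻¹ * (g * z * g⁻¹) * g := by group
  rw [e, h]; group

include hne in
theorem toQ_s_ne_zQ : hs.toQ ≠ D.zQ := D.toQ_ne_zQ_of _ hs hne

include hne in
/-- `s = g z g⁻¹` is a lift of a vector of norm 64. -/
theorem exists_v64 : ∃ v : leechLattice, nrm v = 64 ∧ D.ψ v = QuotientGroup.mk hs.toQ := by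
  apply D.nrm64_of_conj hs.toQ
  · rw [InQ.toQ_coe]; exact isConj_iff.mpr ⟨g, rfl⟩
  · rw [InQ.toQ_coe]; exact hne

theorem card_range_dvd : Nat.card (D.th g hs hne).range ∣ 2 ^ 24 := by
  rw [← D.card_A' g hs hne, D.card_A'_eq g hs hne]
  exact Dvd.intro _ rfl

/-- the preimage in `Co0` of the range of `th`. -/
noncomputable def R0 : Subgroup Co0 := (D.th g hs hne).range.comap D.ff0

theorem card_R0 : Nat.card (D.R0 g hs hne) = 2 * Nat.card (D.th g hs hne).range :=
  D.card_comap_ff0 _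

theorem R0_cong (v : leechLattice) (hψ : D.ψ v = QuotientGroup.mk hs.toQ) :
    ∀ r ∈ D.R0 g hs hne, Cong (r • v) v := by
  intro r hr
  obtain ⟨h, hh, he⟩ := D.th_range_le g hs hne (D.ff0 r) hr
  rw [← D.psi_eq_iff_cong]
  apply D.psi_smul_of_centralizes hs.toQ v hψ h hh r
  rw [← he, D.e_ff0]

theorem R0_normal (v : leechLattice) (hψ : D.ψ v = QuotientGroup.mk hs.toQ) :
    ∀ g0 : Co0, Cong (g0 • v) v → ∀ r ∈ D.R0 g hs hne, g0 * r * g0⁻¹ ∈ D.R0 g hs hne := by
  intro g0 hg0 r hr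
  rw [← D.psi_eq_iff_cong] at hg0
  obtain ⟨h, hh, he⟩ := D.exists_centralizing hs.toQ (D.toQ_s_ne_one g hs)
    (D.toQ_s_ne_zQ g hs hne) v hψ g0 hg0
  have h1 : D.ff0 g0 = QuotientGroup.mk h := by
    rw [D.ff0_apply, ← he, MulEquiv.symm_apply_apply]
  show D.ff0 (g0 * r * g0⁻¹) ∈ (D.th g hs hne).range
  rw [map_mul, map_mul, map_inv, h1]
  exact D.th_range_normal g hs hne h hh _ hr

theorem card_R0_dvd : Nat.card (D.R0 g hs hne) ∣ 2 ^ 25 := by
  rw [D.card_R0]
  have := D.card_range_dvd g hs hne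
  have h2 : (2 : ℕ) ^ 25 = 2 * 2 ^ 24 := by norm_num
  rw [h2]
  exact Nat.mul_dvd_mul_left 2 this

theorem card_range_th_le : Nat.card (D.th g hs hne).range ≤ 2 ^ 11 := by
  obtain ⟨v, hv, hψ⟩ := D.exists_v64 g hs hne
  obtain ⟨g1, -, hle⟩ := exists_conj_le_EE v hv (D.R0 g hs hne) (D.R0_cong g hs hne v hψ)
    (D.R0_normal g hs hne v hψ) 25 (D.card_R0_dvd g hs hne)
  haveI := finite_Co0
  have h1 := Subgroup.card_le_of_le hle
  rw [Subgroup.card_map_of_injective (MulAut.conj g1⁻¹).injective,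
    Cfsg.Agent.Lib.Helper14.CrossMax.card_EE, D.card_R0] at h1
  omega

/-- the image of `C_{Q^g}(z)` in `C / Q` has order `2 ^ 11` and `Q ∩ Q^g` has order `2 ^ 13`. -/
theorem card_th : Nat.card (D.th g hs hne).range = 2 ^ 11 ∧ Nat.card (D.th g hs hne).ker = 2 ^ 13 := by
  have h1 := D.card_A'_eq g hs hne
  rw [D.card_A' g hs hne] at h1
  have h2 := D.card_range_th_le g hs hne
  have h3 := D.card_ker_th_le g hs hne
  have h4 : 2 ^ 11 ≤ Nat.card (D.th g hs hne).range := by
    by_contra hcon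
    push Not at hcon
    have : Nat.card (D.th g hs hne).range * Nat.card (D.th g hs hne).ker < 2 ^ 11 * 2 ^ 13 := by
      have hpos : 0 < Nat.card (D.th g hs hne).ker := Nat.card_pos
      calc Nat.card (D.th g hs hne).range * Nat.card (D.th g hs hne).ker
          < 2 ^ 11 * Nat.card (D.th g hs hne).ker := Nat.mul_lt_mul_of_pos_right hcon hpos
        _ ≤ 2 ^ 11 * 2 ^ 13 := Nat.mul_le_mul_left _ h3
    omega
  have h5 : Nat.card (D.th g hs hne).range = 2 ^ 11 := le_antisymm h2 h4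
  refine ⟨h5, ?_⟩
  rw [h5] at h1
  omega

theorem mem_QG (x : G) : x ∈ Q.map (Subgroup.centralizer ({z} : Set G)).subtype ↔ InQ Q x := by
  constructor
  · rintro ⟨q, hq, rfl⟩
    exact ⟨q.2, hq⟩
  · rintro ⟨h1, h2⟩
    exact ⟨⟨x, h1⟩, h2, rfl⟩

include D hs hne in
/-- S5409: `Q ∩ Q^g` has order `2 ^ 13`. -/
theorem card_inter : Nat.card ↥((Q.map (Subgroup.centralizer ({z} : Set G)).subtype) ⊓
    (Q.map (Subgroup.centralizer ({z} : Set G)).subtype).map (MulAut.conj g).toMonoidHom) = 2 ^ 13 := by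
  rw [← (D.card_th g hs hne).2]
  symm
  let F : (D.th g hs hne).ker → ↥((Q.map (Subgroup.centralizer ({z} : Set G)).subtype) ⊓
      (Q.map (Subgroup.centralizer ({z} : Set G)).subtype).map (MulAut.conj g).toMonoidHom) :=
    fun a => ⟨g * ((((a : Subgroup.centralizer ({D.zq' g hs hne} : Set Q)) : Q) :
        Subgroup.centralizer ({z} : Set G)) : G) * g⁻¹, by
      refine ⟨(mem_QG _).mpr ((D.mem_ker_th g hs hne a.1).mp a.2), ?_⟩
      exact ⟨_, (mem_QG _).mpr (inQ_coe _), rfl⟩⟩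
  apply Nat.card_congr (Equiv.ofBijective F ⟨?_, ?_⟩)
  · intro a b hab
    have h1 : g * ((((a : Subgroup.centralizer ({D.zq' g hs hne} : Set Q)) : Q) :
        Subgroup.centralizer ({z} : Set G)) : G) * g⁻¹ = g * ((((b : Subgroup.centralizer
          ({D.zq' g hs hne} : Set Q)) : Q) : Subgroup.centralizer ({z} : Set G)) : G) * g⁻¹ :=
      congrArg Subtype.val hab
    have h2 : ((((a : Subgroup.centralizer ({D.zq' g hs hne} : Set Q)) : Q) :
        Subgroup.centralizer ({z} : Set G)) : G) = ((((b : Subgroup.centralizer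
          ({D.zq' g hs hne} : Set Q)) : Q) : Subgroup.centralizer ({z} : Set G)) : G) := by
      have e : ∀ y : G, g⁻¹ * (g * y * g⁻¹) * g = y := fun y => by group
      rw [← e ((((a : Subgroup.centralizer ({D.zq' g hs hne} : Set Q)) : Q) :
        Subgroup.centralizer ({z} : Set G)) : G), h1, e]
    apply Subtype.ext; apply Subtype.ext; apply Subtype.ext; apply Subtype.ext
    exact h2
  · rintro ⟨x, hx1', hx2⟩
    have hx1 : x ∈ Q.map (Subgroup.centralizer ({z} : Set G)).subtype := hx1'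
    obtain ⟨y, hy, hyx⟩ := hx2
    rw [SetLike.mem_coe, mem_QG] at hy
    have hyx' : g * y * g⁻¹ = x := hyx
    have hxC : x * z = z * x := by
      rw [mem_QG] at hx1
      exact (mem_C_iff x).mp hx1.choose
    have hyz' : hy.toQ ∈ Subgroup.centralizer ({D.zq' g hs hne} : Set Q) := by
      rw [Subgroup.mem_centralizer_iff]
      intro w hw
      rw [Set.mem_singleton_iff] at hw
      rw [hw]
      apply Subtype.ext; apply Subtype.ext
      rw [Subgroup.coe_mul, Subgroup.coe_mul, Subgroup.coe_mul, Subgroup.coe_mul, D.zq'_coe,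
        InQ.toQ_coe]
      have e1 : y = g⁻¹ * x * g := by rw [← hyx']; group
      rw [e1]
      calc g⁻¹ * z * g * (g⁻¹ * x * g) = g⁻¹ * (z * x) * g := by group
        _ = g⁻¹ * (x * z) * g := by rw [hxC]
        _ = g⁻¹ * x * g * (g⁻¹ * z * g) := by group
    have hker : (⟨hy.toQ, hyz'⟩ : Subgroup.centralizer ({D.zq' g hs hne} : Set Q)) ∈
        (D.th g hs hne).ker := by
      rw [D.mem_ker_th]
      show InQ Q (g * y * g⁻¹)
      rw [hyx']
      exact (mem_QG x).mp hx1
    refine ⟨⟨⟨hy.toQ, hyz'⟩, hker⟩, ?_⟩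
    apply Subtype.ext
    exact hyx'

end cfg

end Dat

end Cfsg.Agent.Lib.Helper14.MonT
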