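import Cfsg.Agent.Lib.Helper14.MonH

/-!
# Groups of Monster type: the stabilizer `2^11 : M24` of a conjugate of `z` in `Q` (helper14)

S5410: for `s = g z g⁻¹ ∈ Q`, `s ≠ z`, the image `X` of `C_C(s)` in `C / Q` is a split extension of the
elementary abelian group `E` of order `2^11` (the image of `Q^g ∩ C`) by `M24`.
-/

set_option autoImplicit false
set_option linter.unusedSectionVars false

namespace Cfsg.Agent.Lib.Helper14.MonT

open Cfsg Cfsg.Agent.Lib.Helper16.ES32
open Cfsg.Agent.Lib.Helper14.CrossMax Cfsg.Agent.Lib.Helper14.LeechMono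
open Cfsg.Agent.Lib.Helper14.Co0Order

theorem permHom_eq (σ : M24) : permHom σ = monoEl σ 0 := rfl

theorem monoEl_eq_mul (σ : M24) (w : golayCode) : monoEl σ w = sgnEl w * permHom σ := by
  apply co0_ext
  intro y
  apply Subtype.ext
  rw [mul_smul, permHom_eq, monoEl_smul]
  show _ = signedPerm (1 : M24).1 (support₂ w.1) (monoEl σ 0 • y : leechLattice).1
  rw [monoEl_smul, signedPerm_comp]
  funext i
  rw [signedPerm_apply, signedPerm_apply]
  have e : ((1 : M24).1 * σ.1).symm i = σ.1.symm i := by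
    rw [show ((1 : M24).1 : Equiv.Perm GolayPt) = 1 from rfl, one_mul]
  rw [e]
  have h0 : ∀ j : GolayPt, j ∉ support₂ ((0 : golayCode) : GolayPt → ZMod 2) := by
    intro j
    rw [Cfsg.Agent.Lib.Helper3.Golay.mem_support₂]
    simp
  have hmem : i ∈ Finset.univ.filter (fun i => ¬(i ∈ support₂ w.1 ↔
      ((1 : M24).1 : Equiv.Perm GolayPt).symm i ∈ support₂ ((0 : golayCode) : GolayPt → ZMod 2)))
      ↔ i ∈ support₂ w.1 := by
    rw [Finset.mem_filter]
    have h1 := h0 (((1 : M24).1 : Equiv.Perm GolayPt).symm i)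
    constructor
    · rintro ⟨-, h⟩
      by_contra hi
      exact h ⟨fun h' => absurd h' hi, fun h' => absurd h' h1⟩
    · intro hi
      exact ⟨Finset.mem_univ _, fun h => h1 (h.mp hi)⟩
  by_cases hi : i ∈ support₂ w.1
  · rw [if_pos hi, if_pos (hmem.mpr hi)]
  · rw [if_neg hi, if_neg (fun h => hi (hmem.mp h))]

theorem permHom_injective_aux (σ : M24) (w : golayCode) (h : permHom σ = sgnEl w) : σ = 1 := by
  have h1 : Phi (σ, (0 : golayCode)) = Phi ((1 : M24), w) := by
    apply Subtype.ext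
    exact h
  exact (Prod.ext_iff.mp (Phi_injective h1)).1

theorem negC_eq : Cfsg.Agent.Lib.Helper14.Co0Center.negC = sgnEl ⟨1, by
    exact Submodule.subset_span (Set.mem_union_right _ rfl)⟩ := by
  apply co0_ext
  intro y
  apply Subtype.ext
  funext i
  rw [sgnEl_apply, if_pos]
  · rfl
  · rw [Cfsg.Agent.Lib.Helper3.Golay.mem_support₂]
    simp

theorem permHom_mem_NN (σ : M24) : permHom σ ∈ NN := monoEl_mem σ 0

theorem sgnEl_mem_NN (w : golayCode) : sgnEl w ∈ NN := (mem_NN _).mpr (sgnEl_mem w)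

variable {G : Type*} [Group G] [Finite G] {z : G}
  {Q : Subgroup (Subgroup.centralizer ({z} : Set G))} [Q.Normal]

namespace Dat

variable (D : Dat z Q)

section cfg

variable (g : G) (hs : InQ Q (g * z * g⁻¹)) (hne : g * z * g⁻¹ ≠ z)

/-- `z` as an element of `C_Q(g⁻¹ z g)`. -/
def zA : Subgroup.centralizer ({D.zq' g hs hne} : Set Q) :=
  ⟨D.zQ, by
    rw [Subgroup.mem_centralizer_iff]
    intro y _
    exact D.zQ_comm y⟩

theorem th_zA : D.th g hs hne (D.zA g hs hne) = 1 := by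
  rw [← MonoidHom.mem_ker, D.mem_ker_th]
  exact hs

theorem th_comm (a b : Subgroup.centralizer ({D.zq' g hs hne} : Set Q)) :
    D.th g hs hne a * D.th g hs hne b = D.th g hs hne b * D.th g hs hne a := by
  rw [← map_mul, ← map_mul]
  rcases D.esData.comm (a : Q) (b : Q) with h | h
  · congr 1
    exact Subtype.ext h
  · have : a * b = b * a * D.zA g hs hne := Subtype.ext h
    rw [this, map_mul, D.th_zA, mul_one]

theorem th_sq (a : Subgroup.centralizer ({D.zq' g hs hne} : Set Q)) :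
    D.th g hs hne a * D.th g hs hne a = 1 := by
  rw [← map_mul]
  rcases D.esData.sq (a : Q) with h | h
  · have : a * a = 1 := Subtype.ext h
    rw [this, map_one]
  · have : a * a = D.zA g hs hne := Subtype.ext h
    rw [this, D.th_zA]

theorem elemAb_range : IsElementaryAbelian 2 (D.th g hs hne).range := by
  refine ⟨⟨⟨?_⟩⟩, ?_⟩
  · rintro ⟨_, a, rfl⟩ ⟨_, b, rfl⟩
    exact Subtype.ext (D.th_comm g hs hne a b)
  · rintro _ ⟨a, rfl⟩
    rw [pow_two]
    exact D.th_sq g hs hne a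

/-- the image of `Q^g ∩ C` in `C / Q` is the range of `th`. -/
theorem E_eq : (((Q.map (Subgroup.centralizer ({z} : Set G)).subtype).map (MulAut.conj g).toMonoidHom ⊓
    Subgroup.centralizer ({z} : Set G)).subgroupOf (Subgroup.centralizer ({z} : Set G))).map
      (QuotientGroup.mk' Q) = (D.th g hs hne).range := by
  ext x
  constructor
  · rintro ⟨c, hc, rfl⟩
    rw [SetLike.mem_coe, Subgroup.mem_subgroupOf] at hc
    obtain ⟨⟨y, hy, hyc⟩, -⟩ := hc
    rw [SetLike.mem_coe, mem_QG] at hy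
    have hyc' : g * y * g⁻¹ = (c : G) := hyc
    have hcz : (c : G) * z = z * (c : G) := (mem_C_iff _).mp c.2
    have hyz' : hy.toQ ∈ Subgroup.centralizer ({D.zq' g hs hne} : Set Q) := by
      rw [Subgroup.mem_centralizer_iff]
      intro w hw
      rw [Set.mem_singleton_iff] at hw
      rw [hw]
      apply Subtype.ext; apply Subtype.ext
      rw [Subgroup.coe_mul, Subgroup.coe_mul, Subgroup.coe_mul, Subgroup.coe_mul, D.zq'_coe,
        InQ.toQ_coe]
      have e1 : y = g⁻¹ * (c : G) * g := by rw [← hyc']; group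
      rw [e1]
      calc g⁻¹ * z * g * (g⁻¹ * (c : G) * g) = g⁻¹ * (z * (c : G)) * g := by group
        _ = g⁻¹ * ((c : G) * z) * g := by rw [hcz]
        _ = g⁻¹ * (c : G) * g * (g⁻¹ * z * g) := by group
    refine ⟨⟨hy.toQ, hyz'⟩, ?_⟩
    show (QuotientGroup.mk (conjC g _ (D.hk' g hs hne) ⟨hy.toQ, hyz'⟩) :
      Subgroup.centralizer ({z} : Set G) ⧸ Q) = QuotientGroup.mk c
    congr 1
    apply Subtype.ext
    rw [conjC_coe]
    exact hyc'
  · rintro ⟨a, rfl⟩
    refine ⟨conjC g _ (D.hk' g hs hne) a, ?_, rfl⟩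
    rw [SetLike.mem_coe, Subgroup.mem_subgroupOf]
    refine ⟨?_, (conjC g _ (D.hk' g hs hne) a).2⟩
    exact ⟨_, (mem_QG _).mpr (inQ_coe _), rfl⟩

/-- membership in the image of `C_C(s)` in `C / Q`. -/
theorem mem_X (x : Subgroup.centralizer ({z} : Set G) ⧸ Q) :
    x ∈ ((Subgroup.centralizer ({z} : Set G) ⊓ Subgroup.centralizer ({g * z * g⁻¹} : Set G)).subgroupOf
      (Subgroup.centralizer ({z} : Set G))).map (QuotientGroup.mk' Q) ↔
    ∃ h : Subgroup.centralizer ({z} : Set G),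
      h * (hs.toQ : Subgroup.centralizer ({z} : Set G)) =
        (hs.toQ : Subgroup.centralizer ({z} : Set G)) * h ∧ x = QuotientGroup.mk h := by
  constructor
  · rintro ⟨c, hc, rfl⟩
    rw [SetLike.mem_coe, Subgroup.mem_subgroupOf] at hc
    refine ⟨c, ?_, rfl⟩
    apply Subtype.ext
    rw [Subgroup.coe_mul, Subgroup.coe_mul, InQ.toQ_coe]
    exact (Subgroup.mem_centralizer_iff.mp hc.2 _ rfl).symm
  · rintro ⟨h, hh, rfl⟩
    refine ⟨h, ?_, rfl⟩
    rw [SetLike.mem_coe, Subgroup.mem_subgroupOf]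
    refine ⟨h.2, ?_⟩
    show (h : G) ∈ Subgroup.centralizer ({g * z * g⁻¹} : Set G)
    rw [Subgroup.mem_centralizer_iff]
    intro y hy
    rw [Set.mem_singleton_iff] at hy
    rw [hy]
    have := congrArg (fun c : Subgroup.centralizer ({z} : Set G) => (c : G)) hh
    simp only [Subgroup.coe_mul, InQ.toQ_coe] at this
    exact this.symm

include hne in
/-- the complement `M24` to the range of `th` in the image of `C_C(s)`. -/
theorem exists_compl : ∃ K : Subgroup (Subgroup.centralizer ({z} : Set G) ⧸ Q),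
    (∀ x ∈ K, ∃ h : Subgroup.centralizer ({z} : Set G),
      h * (hs.toQ : Subgroup.centralizer ({z} : Set G)) =
        (hs.toQ : Subgroup.centralizer ({z} : Set G)) * h ∧ x = QuotientGroup.mk h) ∧
    (D.th g hs hne).range ⊓ K = ⊥ ∧
    (∀ h : Subgroup.centralizer ({z} : Set G),
      h * (hs.toQ : Subgroup.centralizer ({z} : Set G)) =
        (hs.toQ : Subgroup.centralizer ({z} : Set G)) * h →
      (QuotientGroup.mk h : Subgroup.centralizer ({z} : Set G) ⧸ Q) ∈ (D.th g hs hne).range ⊔ K) ∧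
    Nonempty (K ≃* M24) := by
  haveI := finite_Co0
  obtain ⟨v, hv, hψ⟩ := D.exists_v64 g hs hne
  obtain ⟨g1, hg1, hle⟩ := exists_conj_le_EE v hv (D.R0 g hs hne) (D.R0_cong g hs hne v hψ)
    (D.R0_normal g hs hne v hψ) 25 (D.card_R0_dvd g hs hne)
  have hinv : g1⁻¹ • v = v8 := by rw [← hg1, inv_smul_smul]
  -- the conjugate of `R0` is all of `EE`
  have hEE : (D.R0 g hs hne).map (MulAut.conj g1⁻¹).toMonoidHom = Cfsg.Agent.Lib.Helper14.CrossMax.EE := by
    apply Subgroup.eq_of_le_of_card_ge hle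
    rw [Subgroup.card_map_of_injective (MulAut.conj g1⁻¹).injective,
      Cfsg.Agent.Lib.Helper14.CrossMax.card_EE, D.card_R0, (D.card_th g hs hne).1]
    norm_num
  -- elements of `g1 NN g1⁻¹` stabilize the class of `v`
  have hcong : ∀ n0 ∈ NN, Cong ((g1 * n0 * g1⁻¹) • v) v := by
    intro n0 hn0
    rw [mem_NN, mem_NSet_iff', X0_eq] at hn0
    rw [mul_smul, mul_smul, hinv]
    have := Cong.smul' g1 hn0.2
    rwa [hg1] at this
  have hmemX : ∀ n0 ∈ NN, ∃ h : Subgroup.centralizer ({z} : Set G),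
      h * (hs.toQ : Subgroup.centralizer ({z} : Set G)) =
        (hs.toQ : Subgroup.centralizer ({z} : Set G)) * h ∧
      D.ff0 (g1 * n0 * g1⁻¹) = QuotientGroup.mk h := by
    intro n0 hn0
    have h1 := hcong n0 hn0
    rw [← D.psi_eq_iff_cong] at h1
    obtain ⟨h, hh, he⟩ := D.exists_centralizing hs.toQ (D.toQ_s_ne_one g hs)
      (D.toQ_s_ne_zQ g hs hne) v hψ _ h1
    exact ⟨h, hh, by rw [D.ff0_apply, ← he, MulEquiv.symm_apply_apply]⟩
  -- sign changes map into the range of `th`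
  have hsgn : ∀ w : golayCode, D.ff0 (g1 * sgnEl w * g1⁻¹) ∈ (D.th g hs hne).range := by
    intro w
    have : sgnEl w ∈ (D.R0 g hs hne).map (MulAut.conj g1⁻¹).toMonoidHom := by
      rw [hEE]; exact ⟨Multiplicative.ofAdd w, rfl⟩
    obtain ⟨r, hr, hrw⟩ := this
    have hrw' : g1⁻¹ * r * g1⁻¹⁻¹ = sgnEl w := hrw
    have : g1 * sgnEl w * g1⁻¹ = r := by rw [← hrw']; group
    rw [this]
    exact hr
  set κ : M24 →* Subgroup.centralizer ({z} : Set G) ⧸ Q :=
    D.ff0.comp ((MulAut.conj g1).toMonoidHom.comp permHom) with hκ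
  have hκ_apply : ∀ σ : M24, κ σ = D.ff0 (g1 * permHom σ * g1⁻¹) := fun σ => rfl
  have hκ_inj : Function.Injective κ := by
    rw [injective_iff_map_eq_one]
    intro σ hσ
    rw [hκ_apply, ← MonoidHom.mem_ker, D.ker_ff0] at hσ
    have h1 : permHom σ ∈ Subgroup.center Co0 := by
      have := (Subgroup.center Co0).normal_of_characteristic.conj_mem _ hσ g1⁻¹
      have e : g1⁻¹ * (g1 * permHom σ * g1⁻¹) * g1⁻¹⁻¹ = permHom σ := by group
      rwa [e] at this
    rcases Cfsg.Agent.Lib.Helper14.Co0Center.center_elems _ h1 with h2 | h2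
    · have : permHom σ = sgnEl 0 := by
        rw [h2]
        have := (sgnHom.map_one)
        exact this.symm
      exact permHom_injective_aux σ 0 this
    · rw [negC_eq] at h2
      exact permHom_injective_aux σ _ h2
  refine ⟨κ.range, ?_, ?_, ?_, ⟨(MonoidHom.ofInjective hκ_inj).symm⟩⟩
  · rintro _ ⟨σ, rfl⟩
    rw [hκ_apply]
    exact hmemX _ (permHom_mem_NN σ)
  · rw [Subgroup.eq_bot_iff_forall]
    rintro x ⟨hx1, ⟨σ, hσ⟩⟩
    have hx1' : x ∈ (D.th g hs hne).range := hx1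
    rw [← hσ, hκ_apply] at hx1'
    have h1 : g1 * permHom σ * g1⁻¹ ∈ D.R0 g hs hne := hx1'
    have h2 : permHom σ ∈ Cfsg.Agent.Lib.Helper14.CrossMax.EE := by
      rw [← hEE]
      refine ⟨_, h1, ?_⟩
      show g1⁻¹ * (g1 * permHom σ * g1⁻¹) * g1⁻¹⁻¹ = permHom σ
      group
    obtain ⟨w, hw⟩ := h2
    have h3 : σ = 1 := permHom_injective_aux σ (Multiplicative.toAdd w) hw.symm
    rw [← hσ, h3, map_one]
  · intro h hh
    obtain ⟨g0, hg0⟩ := QuotientGroup.mk_surjective (D.e (QuotientGroup.mk h))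
    have h1 := D.psi_smul_of_centralizes hs.toQ v hψ h hh g0 hg0
    rw [D.psi_eq_iff_cong] at h1
    have hNN : g1⁻¹ * g0 * g1 ∈ NN := by
      rw [mem_NN, mem_NSet_iff', X0_eq, mul_smul, mul_smul, hg1]
      refine ⟨?_, ?_⟩
      · have hnrm : ∀ (q : Co0) (y : leechLattice),
            Cfsg.Agent.Lib.Helper14.LeechCo2.nrm (q • y) = Cfsg.Agent.Lib.Helper14.LeechCo2.nrm y :=
          fun q y => q.2.2 y
        rw [hnrm, hnrm, ← hg1, hnrm]
      · have := Cong.smul' g1⁻¹ h1
        rwa [hinv] at this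
    obtain ⟨σ, w, hσw⟩ := exists_monoEl _ hNN
    rw [monoEl_eq_mul] at hσw
    have e1 : g0 = (g1 * sgnEl w * g1⁻¹) * (g1 * permHom σ * g1⁻¹) := by
      have : g0 = g1 * (g1⁻¹ * g0 * g1) * g1⁻¹ := by group
      rw [this, hσw]; group
    have e2 : (QuotientGroup.mk h : Subgroup.centralizer ({z} : Set G) ⧸ Q) = D.ff0 g0 := by
      rw [D.ff0_apply, hg0, MulEquiv.symm_apply_apply]
    rw [e2, e1, map_mul]
    exact Subgroup.mul_mem_sup (hsgn w) ⟨σ, rfl⟩

end cfg

end Dat

end Cfsg.Agent.Lib.Helper14.MonT
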