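import Cfsg.Agent.Lib.Helper14.MonI

/-!
# Groups of Monster type: a non-2A involution in `Q ∩ Q^g` (helper14)

For `s = g z g⁻¹ ∈ Q`, `s ≠ z`, the commutator of a suitable element of `C_Q(s)` with a suitable
element of `C_{Q^g}(z)` is an involution of `Q ∩ Q^g` that is a lift of a vector of norm 32.
Consequently for every involution `t ∈ Q` not conjugate to `z`, some element of `C_G(t)` conjugates
`z` to an element of `C_Q(t)` other than `z`, `z t`.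
-/

set_option autoImplicit false
set_option linter.unusedSectionVars false

namespace Cfsg.Agent.Lib.Helper14.MonT

open Cfsg Cfsg.Agent.Lib.Helper16.ES32
open Cfsg.Agent.Lib.Helper14.CrossMax Cfsg.Agent.Lib.Helper14.LeechMono
open Cfsg.Agent.Lib.Helper14.Co0Order
open Cfsg.Agent.Lib.Helper14.LeechCount (Psi Psi_apply Psi2_mem)
open Cfsg.Agent.Lib.Helper3.Golay (bitSet isOct isOct_mem)
open Cfsg.Agent.S1634 (smul_add' coe_add')
open Cfsg.Agent.S0403 (smul_sub' coe_sub')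

/-! ### explicit vectors -/

set_option maxRecDepth 100000 in
theorem octA : isOct 0x13e005 = true := by decide +kernel

set_option maxRecDepth 100000 in
theorem octB : isOct 7221256 = true := by decide +kernel

theorem vOct_mem : Psi 2 ⟨bitSet 0x13e005, ∅⟩ ∈ leechLattice := by
  obtain ⟨⟨w, hw, hw'⟩, h8⟩ := isOct_mem octA
  rw [← hw'] at h8 ⊢
  have := (Psi2_mem w hw h8 ∅ (Finset.empty_subset _) (by decide)).1
  exact (Cfsg.Agent.Lib.Helper14.Leech.mem_leechLattice_iff _).mpr this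

/-- the vector with entries `2` on the octad `octA`. -/
noncomputable def vOct : leechLattice := ⟨Psi 2 ⟨bitSet 0x13e005, ∅⟩, vOct_mem⟩

theorem exists_wB : ∃ w : golayCode, support₂ (w : GolayPt → ZMod 2) = bitSet 7221256 := by
  obtain ⟨⟨w, hw, hw'⟩, -⟩ := isOct_mem octB
  exact ⟨⟨w, hw⟩, hw'⟩

set_option maxRecDepth 100000 in
theorem nrm_diff (w : golayCode) (hw : support₂ (w : GolayPt → ZMod 2) = bitSet 7221256) :
    nrm (sgnEl w • vOct - vOct) = 32 := by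
  have h1 : ((sgnEl w • vOct - vOct : leechLattice) : GolayPt → ℤ) =
      fun i => (if i ∈ bitSet 7221256 then -(Psi 2 ⟨bitSet 0x13e005, ∅⟩ i)
        else Psi 2 ⟨bitSet 0x13e005, ∅⟩ i) - Psi 2 ⟨bitSet 0x13e005, ∅⟩ i := by
    funext i
    rw [coe_sub', Pi.sub_apply, sgnEl_apply, hw]
    rfl
  unfold nrm
  rw [h1]
  decide +kernel

set_option maxRecDepth 100000 in
theorem ip_vOct_v8 : (16 : ℤ) ∣ ip vOct v8 := by
  unfold ip
  rw [v8_coe]
  show (16 : ℤ) ∣ dotInt (Psi 2 ⟨bitSet 0x13e005, ∅⟩) (Pi.single none 8)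
  decide +kernel

variable {G : Type*} [Group G] [Finite G] {z : G}
  {Q : Subgroup (Subgroup.centralizer ({z} : Set G))} [Q.Normal]

namespace Dat

variable (D : Dat z Q)

theorem psi_sub (a b : leechLattice) : D.ψ (a - b) = D.ψ a * D.ψ b := by
  rw [sub_eq_add_neg, D.psi_add, D.psi_neg]

section cfg

variable (g : G) (hs : InQ Q (g * z * g⁻¹)) (hne : g * z * g⁻¹ ≠ z)

include hne in
/-- a frame adapted to `s = g z g⁻¹`: `s` is a lift of `g1 • v8` and the conjugates by `g1` of the sign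
changes lie in the image of `C_{Q^g}(z)`. -/
theorem exists_frame : ∃ g1 : Co0, D.ψ (g1 • v8) = QuotientGroup.mk hs.toQ ∧
    ∀ w : golayCode, D.ff0 (g1 * sgnEl w * g1⁻¹) ∈ (D.th g hs hne).range := by
  haveI := finite_Co0
  obtain ⟨v, hv, hψ⟩ := D.exists_v64 g hs hne
  obtain ⟨g1, hg1, hle⟩ := exists_conj_le_EE v hv (D.R0 g hs hne) (D.R0_cong g hs hne v hψ)
    (D.R0_normal g hs hne v hψ) 25 (D.card_R0_dvd g hs hne)
  have hEE : (D.R0 g hs hne).map (MulAut.conj g1⁻¹).toMonoidHom =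
      Cfsg.Agent.Lib.Helper14.CrossMax.EE := by
    apply Subgroup.eq_of_le_of_card_ge hle
    rw [Subgroup.card_map_of_injective (MulAut.conj g1⁻¹).injective,
      Cfsg.Agent.Lib.Helper14.CrossMax.card_EE, D.card_R0, (D.card_th g hs hne).1]
    norm_num
  refine ⟨g1, by rw [hg1]; exact hψ, ?_⟩
  intro w
  have : sgnEl w ∈ (D.R0 g hs hne).map (MulAut.conj g1⁻¹).toMonoidHom := by
    rw [hEE]; exact ⟨Multiplicative.ofAdd w, rfl⟩
  obtain ⟨r, hr, hrw⟩ := this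
  have hrw' : g1⁻¹ * r * g1⁻¹⁻¹ = sgnEl w := hrw
  have : g1 * sgnEl w * g1⁻¹ = r := by rw [← hrw']; group
  rw [this]
  exact hr

include D hs hne in
/-- an involution of `Q ∩ Q^g` that is a lift of a vector of norm 32. -/
theorem exists_type2_inter : ∃ t1 : G, InQ Q t1 ∧ orderOf t1 = 2 ∧ ¬ IsConj z t1 ∧
    InQ Q (g⁻¹ * t1 * g) := by
  obtain ⟨g1, hψ8, hsgn⟩ := D.exists_frame g hs hne
  obtain ⟨w, hw⟩ := exists_wB
  obtain ⟨a, ha⟩ := hsgn w
  set b : Subgroup.centralizer ({z} : Set G) := conjC g _ (D.hk' g hs hne) a with hb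
  have hbcoe : (b : G) = g * (((a : Q) : Subgroup.centralizer ({z} : Set G)) : G) * g⁻¹ := rfl
  have hmk : (QuotientGroup.mk b : Subgroup.centralizer ({z} : Set G) ⧸ Q) =
      D.ff0 (g1 * sgnEl w * g1⁻¹) := ha
  have hbe : (QuotientGroup.mk (g1 * sgnEl w * g1⁻¹) : Spor.Co1) = D.e (QuotientGroup.mk b) := by
    rw [hmk, D.e_ff0]
  set q : Q := D.lift (g1 • vOct) with hq
  have hqψ : D.ψ (g1 • vOct) = QuotientGroup.mk q := (D.mk_lift _).symm
  have h1 := D.psi_smul b (g1 * sgnEl w * g1⁻¹) hbe (g1 • vOct) q hqψ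
  have e1 : (g1 * sgnEl w * g1⁻¹) • (g1 • vOct) = g1 • (sgnEl w • vOct) := by
    rw [mul_smul, mul_smul, inv_smul_smul]
  rw [e1] at h1
  set y : leechLattice := g1 • (sgnEl w • vOct - vOct) with hy
  have hny : nrm y = 32 := by
    have : nrm y = Cfsg.Agent.Lib.Helper14.LeechCo2.nrm (g1 • (sgnEl w • vOct - vOct)) := rfl
    rw [this, Cfsg.Agent.Lib.Helper14.LeechCo2.nrm_smul]
    exact nrm_diff w hw
  set t1Q : Q := MulAut.conjNormal b q * q⁻¹ with ht1Q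
  have hψy : D.ψ y = QuotientGroup.mk t1Q := by
    rw [hy, smul_sub', D.psi_sub, h1, ht1Q, QuotientGroup.mk_mul, QuotientGroup.mk_inv, ← hqψ,
      D.psi_inv]
  have hne1 : (QuotientGroup.mk t1Q : Q ⧸ Subgroup.center Q) ≠ 1 := by
    rw [← hψy]; exact D.not_dbl_of_nrm32 y hny
  have ht1 : t1Q ≠ 1 := fun h => hne1 ((D.mk_eq_one_iff t1Q).mpr (Or.inl h))
  have htt : t1Q * t1Q = 1 := by
    rw [← qq_eq_zero_iff, D.qq_of_mk hψy]
    exact D.ff_nrm32 y hny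
  refine ⟨((t1Q : Subgroup.centralizer ({z} : Set G)) : G), inQ_coe t1Q, ?_, ?_, ?_⟩
  · apply orderOf_eq_prime
    · rw [pow_two]
      have := congrArg (fun q : Q => ((q : Subgroup.centralizer ({z} : Set G)) : G)) htt
      simpa using this
    · intro h
      apply ht1
      apply Subtype.ext; apply Subtype.ext
      exact h
  · intro hc
    obtain ⟨g', hg'⟩ := isConj_iff.mp hc
    have ht : InQ Q (g' * z * g'⁻¹) := by rw [hg']; exact inQ_coe t1Q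
    have e2 : ht.toQ = t1Q := toQ_eq ht t1Q hg'.symm
    exact D.not_conj_of_nrm32 g' ht y hny (by rw [e2]; exact hψy)
  · -- membership of `g⁻¹ t1 g` in `Q`
    have hcomm : q * hs.toQ = hs.toQ * q := by
      rw [← cc_eq_zero_iff, D.cc_of_mk hqψ hψ8, D.bb_smul, D.bb_eq_zero_iff]
      exact ip_vOct_v8
    have hcommG : ((q : Subgroup.centralizer ({z} : Set G)) : G) * (g * z * g⁻¹) =
        (g * z * g⁻¹) * ((q : Subgroup.centralizer ({z} : Set G)) : G) := by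
      have := congrArg (fun q : Q => ((q : Subgroup.centralizer ({z} : Set G)) : G)) hcomm
      simpa [InQ.toQ_coe] using this
    set qG : G := ((q : Subgroup.centralizer ({z} : Set G)) : G) with hqG
    set aG : G := (((a : Q) : Subgroup.centralizer ({z} : Set G)) : G) with haG
    have hc : g⁻¹ * qG * g ∈ Subgroup.centralizer ({z} : Set G) := by
      rw [mem_C_iff]
      calc g⁻¹ * qG * g * z = g⁻¹ * (qG * (g * z * g⁻¹)) * g := by group
        _ = g⁻¹ * ((g * z * g⁻¹) * qG) * g := by rw [hcommG]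
        _ = z * (g⁻¹ * qG * g) := by group
    have hval : ((t1Q : Subgroup.centralizer ({z} : Set G)) : G) =
        (g * aG * g⁻¹) * qG * (g * aG * g⁻¹)⁻¹ * qG⁻¹ := by
      rw [ht1Q]
      rfl
    have e3 : g⁻¹ * ((t1Q : Subgroup.centralizer ({z} : Set G)) : G) * g =
        aG * ((g⁻¹ * qG * g) * aG⁻¹ * (g⁻¹ * qG * g)⁻¹) := by
      rw [hval]; group
    rw [e3]
    have haQ : InQ Q aG := inQ_coe (a : Q)
    exact inQ_mul haQ (inQ_conj (inQ_inv haQ) hc)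

end cfg

theorem orderOf_conj' (a x : G) : orderOf (a * x * a⁻¹) = orderOf x := by
  have : a * x * a⁻¹ = MulAut.conj a x := rfl
  rw [this, MulEquiv.orderOf_eq]

theorem isConj_conj_iff (a x : G) : IsConj z (a * x * a⁻¹) ↔ IsConj z x := by
  have h : IsConj x (a * x * a⁻¹) := isConj_iff.mpr ⟨a, rfl⟩
  constructor
  · intro h1; exact h1.trans h.symm
  · intro h1; exact h1.trans h

include D in
/-- for an involution `t ∈ Q` not conjugate to `z`, some element of `C_G(t)` conjugates `z` to an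
element of `C_Q(t)` other than `z`. -/
theorem exists_conj_in_cent (hnwc : ∃ g : G, InQ Q (g * z * g⁻¹) ∧ g * z * g⁻¹ ≠ z)
    (t : G) (htQ : InQ Q t) (ht2 : orderOf t = 2) (ht : ¬ IsConj z t) :
    ∃ y : G, y * t = t * y ∧ InQ Q (y * z * y⁻¹) ∧ y * z * y⁻¹ ≠ z ∧
      (y * z * y⁻¹) * t = t * (y * z * y⁻¹) := by
  obtain ⟨g, hs, hne⟩ := hnwc
  obtain ⟨t1, ht1Q, ht12, ht1c, hgt⟩ := D.exists_type2_inter g hs hne
  have hgt' : InQ Q (g⁻¹ * t1 * g⁻¹⁻¹) := by rw [inv_inv]; exact hgt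
  have h2 : orderOf (g⁻¹ * t1 * g⁻¹⁻¹) = 2 := by rw [orderOf_conj']; exact ht12
  have h3 : ¬ IsConj z (g⁻¹ * t1 * g⁻¹⁻¹) := by rw [isConj_conj_iff]; exact ht1c
  obtain ⟨c1, hc1, hc1t⟩ := D.trans_not_conj ⟨g, hs, hne⟩ t1 t ht1Q htQ ht12 ht2 ht1c ht
  obtain ⟨c2, hc2, hc2t⟩ := D.trans_not_conj ⟨g, hs, hne⟩ _ t hgt' htQ h2 ht2 h3 ht
  rw [inv_inv] at hc2t
  have hc1z : c1 * z = z * c1 := (mem_C_iff c1).mp hc1
  have hc2z : c2 * z = z * c2 := (mem_C_iff c2).mp hc2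
  have ht1z : t1 * z = z * t1 := (mem_C_iff t1).mp ht1Q.choose
  have hc1z' : c1⁻¹ * z * c1 = z := by
    calc c1⁻¹ * z * c1 = c1⁻¹ * (z * c1) := by group
      _ = c1⁻¹ * (c1 * z) := by rw [hc1z]
      _ = z := by group
  have hyz : (c2 * g⁻¹ * c1⁻¹) * z * (c2 * g⁻¹ * c1⁻¹)⁻¹ = c2 * (g⁻¹ * z * g) * c2⁻¹ := by
    calc (c2 * g⁻¹ * c1⁻¹) * z * (c2 * g⁻¹ * c1⁻¹)⁻¹ = c2 * (g⁻¹ * (c1⁻¹ * z * c1) * g) * c2⁻¹ := by
          group
      _ = c2 * (g⁻¹ * z * g) * c2⁻¹ := by rw [hc1z']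
  have ht1eq : t1 = c1⁻¹ * t * c1 := by rw [← hc1t]; group
  refine ⟨c2 * g⁻¹ * c1⁻¹, ?_, ?_, ?_, ?_⟩
  · have : (c2 * g⁻¹ * c1⁻¹) * t * (c2 * g⁻¹ * c1⁻¹)⁻¹ = t := by
      calc (c2 * g⁻¹ * c1⁻¹) * t * (c2 * g⁻¹ * c1⁻¹)⁻¹ = c2 * (g⁻¹ * (c1⁻¹ * t * c1) * g) * c2⁻¹ := by
            group
        _ = c2 * (g⁻¹ * t1 * g) * c2⁻¹ := by rw [← ht1eq]
        _ = t := hc2t
    calc (c2 * g⁻¹ * c1⁻¹) * t = ((c2 * g⁻¹ * c1⁻¹) * t * (c2 * g⁻¹ * c1⁻¹)⁻¹) * (c2 * g⁻¹ * c1⁻¹) := by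
          group
      _ = t * (c2 * g⁻¹ * c1⁻¹) := by rw [this]
  · rw [hyz]
    exact inQ_conj (D.symm_lemma g hs hne) hc2
  · rw [hyz]
    intro h
    apply hne
    have h4 : g⁻¹ * z * g = z := by
      calc g⁻¹ * z * g = c2⁻¹ * (c2 * (g⁻¹ * z * g) * c2⁻¹) * c2 := by group
        _ = c2⁻¹ * z * c2 := by rw [h]
        _ = c2⁻¹ * (z * c2) := by group
        _ = c2⁻¹ * (c2 * z) := by rw [hc2z]
        _ = z := by group
    calc g * z * g⁻¹ = g * (g⁻¹ * z * g) * g⁻¹ := by rw [h4]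
      _ = z := by group
  · rw [hyz, ← hc2t]
    calc c2 * (g⁻¹ * z * g) * c2⁻¹ * (c2 * (g⁻¹ * t1 * g) * c2⁻¹)
        = c2 * (g⁻¹ * (z * t1) * g) * c2⁻¹ := by group
      _ = c2 * (g⁻¹ * (t1 * z) * g) * c2⁻¹ := by rw [ht1z]
      _ = c2 * (g⁻¹ * t1 * g) * c2⁻¹ * (c2 * (g⁻¹ * z * g) * c2⁻¹) := by group

theorem smul_zero' (g0 : Co0) : g0 • (0 : leechLattice) = 0 := by
  have := smul_add' g0 0 0
  rw [add_zero] at this
  exact left_eq_add.mp this

/-- twisting the identification by a lattice automorphism. -/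
theorem exists_twist (g0 : Co0) : ∃ D' : Dat z Q, ∀ v, D'.ψ v = D.ψ (g0 • v) := by
  refine ⟨⟨D.e.trans (MulAut.conj (QuotientGroup.mk g0 : Spor.Co1)⁻¹), fun v => D.ψ (g0 • v),
    ⟨?_, ?_, ?_, ?_⟩, D.hz, D.hF, D.hes, D.hcard⟩, fun v => rfl⟩
  · intro v w
    show D.ψ (g0 • (v + w)) = D.ψ (g0 • v) * D.ψ (g0 • w)
    rw [smul_add', D.psi_add]
  · intro x
    obtain ⟨v, hv⟩ := D.psi_surj x
    exact ⟨g0⁻¹ • v, by show D.ψ (g0 • g0⁻¹ • v) = x; rw [smul_inv_smul, hv]⟩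
  · intro v
    show D.ψ (g0 • v) = 1 ↔ _
    rw [D.psi_eq_one_iff]
    constructor
    · rintro ⟨w, hw⟩
      refine ⟨g0⁻¹ • w, ?_⟩
      rw [← smul_add', ← hw, inv_smul_smul]
    · rintro ⟨w, hw⟩
      exact ⟨g0 • w, by rw [hw, smul_add']⟩
  · intro h g hg v q hq
    have hg' : (QuotientGroup.mk (g0 * g * g0⁻¹) : Spor.Co1) = D.e (QuotientGroup.mk h) := by
      have e1 : (D.e.trans (MulAut.conj (QuotientGroup.mk g0 : Spor.Co1)⁻¹)) (QuotientGroup.mk h) =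
          (QuotientGroup.mk g0 : Spor.Co1)⁻¹ * D.e (QuotientGroup.mk h) *
            ((QuotientGroup.mk g0 : Spor.Co1)⁻¹)⁻¹ := rfl
      rw [e1, inv_inv] at hg
      rw [QuotientGroup.mk_mul, QuotientGroup.mk_mul, hg, QuotientGroup.mk_inv]
      group
    have := D.hψ.2.2.2 h (g0 * g * g0⁻¹) hg' (g0 • v) q hq
    rw [mul_smul, mul_smul, inv_smul_smul] at this
    exact this

end Dat

end Cfsg.Agent.Lib.Helper14.MonT
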