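import Cfsg.Agent.Lib.Helper14.MonJ

/-!
# Groups of Monster type: the centralizer in `C` of a non-2A involution of `Q` (helper14)

`t ∈ Q` is a lift of a vector `u` of norm 32.  We study `HC = C_C(t)`: its image in `C / Q ≅ Co₁` is
the stabilizer of `u` (a copy of `Co₂`), normal subgroups of `HC` with 2-power image in `C/Q` lie in
`Q`, and elements of `HC` centralizing `C_Q(t)` modulo `⟨t⟩` lie in `Q`.
-/

set_option autoImplicit false
set_option linter.unusedSectionVars false

namespace Cfsg.Agent.Lib.Helper14.MonT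

open Cfsg Cfsg.Agent.Lib.Helper16.ES32

variable {G : Type*} [Group G] [Finite G] {z : G}
  {Q : Subgroup (Subgroup.centralizer ({z} : Set G))} [Q.Normal]

namespace Dat

variable (D : Dat z Q)

section baby

variable (tQ : Q) (u : leechLattice) (hu32 : nrm u = 32) (hu : D.ψ u = QuotientGroup.mk tQ)

include hu32 hu in
theorem tQ_ne_one : tQ ≠ 1 := by
  intro h
  apply D.not_dbl_of_nrm32 u hu32
  rw [hu, h, QuotientGroup.mk_one]

include hu32 hu in
theorem tQ_ne_zQ : tQ ≠ D.zQ := by
  intro h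
  apply D.not_dbl_of_nrm32 u hu32
  rw [hu, (D.mk_eq_one_iff tQ)]
  exact Or.inr h

include hu32 hu in
theorem tQ_sq : tQ * tQ = 1 := by
  rw [← qq_eq_zero_iff, D.qq_of_mk hu]
  exact D.ff_nrm32 u hu32

/-- the centralizer of `t` in `C`. -/
def HC : Subgroup (Subgroup.centralizer ({z} : Set G)) :=
  Subgroup.centralizer ({(tQ : Subgroup.centralizer ({z} : Set G))} : Set _)

theorem mem_HC_iff (h : Subgroup.centralizer ({z} : Set G)) :
    h ∈ HC tQ ↔ h * (tQ : Subgroup.centralizer ({z} : Set G)) =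
      (tQ : Subgroup.centralizer ({z} : Set G)) * h := by
  unfold HC
  rw [Subgroup.mem_centralizer_iff]
  constructor
  · intro h1; exact (h1 _ rfl).symm
  · intro h1 y hy
    rw [Set.mem_singleton_iff] at hy
    rw [hy, h1]

include hu32 hu in
/-- elements of `HC` are induced by lattice automorphisms fixing `u`. -/
theorem exists_fix (h : Subgroup.centralizer ({z} : Set G)) (hh : h ∈ HC tQ) :
    ∃ g0 : Co0, g0 • u = u ∧ (QuotientGroup.mk g0 : Spor.Co1) = D.e (QuotientGroup.mk h) := by
  obtain ⟨g1, hg1⟩ := QuotientGroup.mk_surjective (D.e (QuotientGroup.mk h))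
  have h1 := D.psi_smul_of_centralizes tQ u hu h ((mem_HC_iff tQ h).mp hh) g1 hg1
  have hn : nrm (g1 • u) = 32 := by
    have : nrm (g1 • u) = Cfsg.Agent.Lib.Helper14.LeechCo2.nrm (g1 • u) := rfl
    rw [this, Cfsg.Agent.Lib.Helper14.LeechCo2.nrm_smul]
    exact hu32
  rcases D.eq_or_neg_of_psi_eq u (g1 • u) hu32 hn h1 with h2 | h2
  · exact ⟨g1, h2, hg1⟩
  · refine ⟨Cfsg.Agent.Lib.Helper14.Co0Center.negC * g1, ?_, ?_⟩
    · rw [mul_smul, h2, negC_smul, neg_neg]
    · rw [QuotientGroup.mk_mul, ← hg1]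
      have : (QuotientGroup.mk Cfsg.Agent.Lib.Helper14.Co0Center.negC : Spor.Co1) = 1 :=
        (QuotientGroup.eq_one_iff _).mpr Cfsg.Agent.Lib.Helper14.Co0Center.negC_mem_center
      rw [this, one_mul]

include hu32 in
/-- the lattice automorphism fixing `u` inducing a given element of `C / Q` is unique. -/
theorem fix_unique (g0 g0' : Co0) (h0 : g0 • u = u) (h0' : g0' • u = u)
    (h : (QuotientGroup.mk g0 : Spor.Co1) = QuotientGroup.mk g0') : g0 = g0' := by
  rw [QuotientGroup.eq] at h
  rcases Cfsg.Agent.Lib.Helper14.Co0Center.center_elems _ h with h1 | h1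
  · calc g0 = g0 * (g0⁻¹ * g0') := by rw [h1, mul_one]
      _ = g0' := by group
  · exfalso
    have h2 : (g0⁻¹ * g0') • u = u := by rw [mul_smul, h0', ← h0, inv_smul_smul, h0]
    rw [h1, negC_smul] at h2
    have h3 : u + u = 0 := by
      nth_rewrite 1 [← h2]
      exact neg_add_cancel u
    have h4 : nrm (u + u) = 0 := by rw [h3, nrm_zero]
    rw [nrm_add, ip_self, hu32] at h4
    omega

include hu32 hu in
/-- every lattice automorphism fixing `u` is induced by an element of `HC`. -/
theorem exists_HC (g0 : Co0) (hg0 : g0 • u = u) :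
    ∃ h ∈ HC tQ, (QuotientGroup.mk g0 : Spor.Co1) = D.e (QuotientGroup.mk h) := by
  obtain ⟨h, hh, he⟩ := D.exists_centralizing tQ (D.tQ_ne_one tQ u hu32 hu)
    (D.tQ_ne_zQ tQ u hu32 hu) u hu g0 (by rw [hg0])
  exact ⟨h, (mem_HC_iff tQ h).mpr hh, he.symm⟩

include hu32 hu in
/-- normal subgroups of `HC` whose elements have 2-power order modulo `Q` lie in `Q`. -/
theorem le_Q_of_normal (N0 : Subgroup (Subgroup.centralizer ({z} : Set G))) (hle : N0 ≤ HC tQ)
    (hnorm : ∀ h ∈ HC tQ, ∀ n ∈ N0, h * n * h⁻¹ ∈ N0)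
    (hpow : ∀ n ∈ N0, ∃ k : ℕ, n ^ 2 ^ k ∈ Q) : N0 ≤ Q := by
  haveI : Fact (Nat.Prime 2) := ⟨Nat.prime_two⟩
  set R : Subgroup (Subgroup.centralizer ({z} : Set G) ⧸ Q) := N0.map (QuotientGroup.mk' Q) with hR
  have hp : IsPGroup 2 R := by
    rintro ⟨_, n, hn, rfl⟩
    obtain ⟨k, hk⟩ := hpow n hn
    refine ⟨k, ?_⟩
    apply Subtype.ext
    show (QuotientGroup.mk' Q n) ^ 2 ^ k = 1
    rw [← map_pow]
    exact (QuotientGroup.eq_one_iff _).mpr hk
  obtain ⟨m, hm⟩ := IsPGroup.iff_card.mp hp
  have hbot : R = ⊥ := by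
    apply D.eq_bot_of_normal_two u hu32 tQ (D.tQ_ne_one tQ u hu32 hu) (D.tQ_ne_zQ tQ u hu32 hu) hu R
      ?_ ?_ m (by rw [hm])
    · rintro _ ⟨n, hn, rfl⟩
      exact ⟨n, (mem_HC_iff tQ n).mp (hle hn), rfl⟩
    · rintro h hh _ ⟨n, hn, rfl⟩
      refine ⟨h * n * h⁻¹, hnorm h ((mem_HC_iff tQ h).mpr hh) n hn, ?_⟩
      rw [map_mul, map_mul, map_inv]
      rfl
  intro n hn
  have : QuotientGroup.mk' Q n ∈ R := ⟨n, hn, rfl⟩
  rw [hbot, Subgroup.mem_bot] at this
  exact (QuotientGroup.eq_one_iff n).mp this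

include hu32 hu in
/-- an element of `HC` centralizing `C_Q(t)` modulo `⟨t⟩` has 8th power in `Q`. -/
theorem pow_eight_mem (h0 : Subgroup.centralizer ({z} : Set G)) (hh : h0 ∈ HC tQ)
    (hc : ∀ a : Q, a * tQ = tQ * a →
      h0 * (a : Subgroup.centralizer ({z} : Set G)) * h0⁻¹ *
          (a : Subgroup.centralizer ({z} : Set G))⁻¹ = 1 ∨
      h0 * (a : Subgroup.centralizer ({z} : Set G)) * h0⁻¹ *
          (a : Subgroup.centralizer ({z} : Set G))⁻¹ = (tQ : Subgroup.centralizer ({z} : Set G))) :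
    h0 ^ 8 ∈ Q := by
  set tC : Subgroup.centralizer ({z} : Set G) := (tQ : Subgroup.centralizer ({z} : Set G)) with htC
  have htt : tC * tC = 1 := by
    have := congrArg (fun q : Q => (q : Subgroup.centralizer ({z} : Set G)))
      (D.tQ_sq tQ u hu32 hu)
    simpa using this
  have hcomm : h0 * tC = tC * h0 := (mem_HC_iff tQ h0).mp hh
  have hconj : h0 * tC * h0⁻¹ = tC := by rw [hcomm]; group
  -- step 1: `h0 ^ 2` centralizes `C_Q(t)`
  have step1 : ∀ a : Q, a * tQ = tQ * a →
      (h0 * h0) * (a : Subgroup.centralizer ({z} : Set G)) * (h0 * h0)⁻¹ =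
        (a : Subgroup.centralizer ({z} : Set G)) := by
    intro a ha
    set aC : Subgroup.centralizer ({z} : Set G) := (a : Subgroup.centralizer ({z} : Set G))
    rcases hc a ha with h1 | h1
    · have h2 : h0 * aC * h0⁻¹ = aC := by
        calc h0 * aC * h0⁻¹ = (h0 * aC * h0⁻¹ * aC⁻¹) * aC := by group
          _ = aC := by rw [h1, one_mul]
      calc (h0 * h0) * aC * (h0 * h0)⁻¹ = h0 * (h0 * aC * h0⁻¹) * h0⁻¹ := by group
        _ = aC := by rw [h2, h2]
    · have h2 : h0 * aC * h0⁻¹ = tC * aC := by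
        calc h0 * aC * h0⁻¹ = (h0 * aC * h0⁻¹ * aC⁻¹) * aC := by group
          _ = tC * aC := by rw [h1]
      calc (h0 * h0) * aC * (h0 * h0)⁻¹ = h0 * (h0 * aC * h0⁻¹) * h0⁻¹ := by group
        _ = h0 * (tC * aC) * h0⁻¹ := by rw [h2]
        _ = (h0 * tC * h0⁻¹) * (h0 * aC * h0⁻¹) := by group
        _ = tC * (tC * aC) := by rw [hconj, h2]
        _ = (tC * tC) * aC := by group
        _ = aC := by rw [htt, one_mul]
  set κ : Q ≃* Q := MulAut.conjNormal (h0 * h0) with hκ
  have hκfix : ∀ a : Q, a * tQ = tQ * a → κ a = a := by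
    intro a ha
    apply Subtype.ext
    rw [hκ, MulAut.conjNormal_apply]
    exact step1 a ha
  -- step 2: `κ ^ 4 = 1`
  have step2 : ∀ q : Q, κ (κ (κ (κ q))) = q := by
    intro q
    set c : Q := q⁻¹ * κ q with hcdef
    have hcc : c * tQ = tQ * c := by
      rw [← cc_eq_zero_iff, hcdef, cc_mul_left D.esData, cc_inv_left D.esData]
      have e1 : cc (κ q) tQ = cc (κ q) (κ tQ) := by rw [hκfix tQ rfl]
      rw [e1, cc_map]
      exact zmod2_add_self _
    have hκc : κ c = c := hκfix c hcc
    have e1 : κ q = q * c := by rw [hcdef]; group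
    have e2 : κ (κ q) = q * c * c := by rw [e1, map_mul, hκc, ← e1]
    have e3 : κ (κ (κ q)) = q * c * c * c := by
      rw [e2, map_mul, map_mul, hκc, e1]
    have e4 : κ (κ (κ (κ q))) = q * c * c * c * c := by
      rw [e3, map_mul, map_mul, map_mul, hκc, e1]
    rw [e4]
    have hc4 : c * c * (c * c) = 1 := by
      rcases D.esData.sq c with h | h
      · rw [h, one_mul]
      · rw [h]; exact D.esData.z_sq
    calc q * c * c * c * c = q * (c * c * (c * c)) := by group
      _ = q := by rw [hc4, mul_one]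
  -- step 3: `h0 ^ 8` centralizes `Q`
  have step3 : h0 ^ 8 ∈ Subgroup.centralizer
      (generalizedFittingSubgroup (Subgroup.centralizer ({z} : Set G)) : Set _) := by
    rw [D.hF, Subgroup.mem_centralizer_iff]
    intro y hy
    have h4 := congrArg (fun q : Q => (q : Subgroup.centralizer ({z} : Set G))) (step2 ⟨y, hy⟩)
    simp only [hκ, MulAut.conjNormal_apply] at h4
    have e8 : h0 ^ 8 = (h0 * h0) * (h0 * h0) * (h0 * h0) * (h0 * h0) := by
      simp only [pow_succ, pow_zero, one_mul, mul_assoc]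
    set k := h0 * h0 with hk
    have h5 : k * k * k * k * y * (k * k * k * k)⁻¹ = y := by
      calc k * k * k * k * y * (k * k * k * k)⁻¹
          = k * (k * (k * (k * y * k⁻¹) * k⁻¹) * k⁻¹) * k⁻¹ := by group
        _ = y := h4
    rw [e8]
    calc y * (k * k * k * k) = (k * k * k * k * y * (k * k * k * k)⁻¹) * (k * k * k * k) := by
          rw [h5]
      _ = k * k * k * k * y := by group
  have := Cfsg.Agent.Lib.Helper8.centralizer_fstar_le step3
  rwa [D.hF] at this

include hu32 hu in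
/-- the double centralizer of `t` in `Q` is `{1, z, t, t z}`. -/
theorem double_cent (a : Q) (ha : ∀ b : Q, b * tQ = tQ * b → a * b = b * a) :
    a = 1 ∨ a = D.zQ ∨ a = tQ ∨ a = tQ * D.zQ := by
  by_cases hcen : ∀ w : Q, cc a w = 0
  · rcases (center_iff D.esData a).mp hcen with h | h
    · exact Or.inl h
    · exact Or.inr (Or.inl h)
  · push Not at hcen
    obtain ⟨w, hw⟩ := hcen
    have hw1 : cc a w = 1 := by
      rcases zmod2_cases (cc a w) with h | h
      · exact absurd h hw
      · exact h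
    have hwt : cc w tQ = 1 := by
      rcases zmod2_cases (cc w tQ) with h | h
      · exfalso
        apply hw
        rw [cc_eq_zero_iff]
        exact ha w ((cc_eq_zero_iff _ _).mp h)
      · exact h
    have hcen2 : ∀ q : Q, cc (a * tQ) q = 0 := by
      intro q
      rw [cc_mul_left D.esData]
      rcases zmod2_cases (cc q tQ) with h | h
      · have h1 : cc a q = 0 := by
          rw [cc_eq_zero_iff]
          exact ha q ((cc_eq_zero_iff _ _).mp h)
        rw [h1, cc_symm, h, add_zero]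
      · have h2 : cc (q * w) tQ = 0 := by
          rw [cc_mul_left D.esData, h, hwt]; decide
        have h3 : cc a (q * w) = 0 := by
          rw [cc_eq_zero_iff]
          exact ha (q * w) ((cc_eq_zero_iff _ _).mp h2)
        rw [cc_mul_right D.esData, hw1] at h3
        have h4 : cc a q = 1 := by
          rcases zmod2_cases (cc a q) with h5 | h5
          · rw [h5] at h3; exact absurd h3 (by decide)
          · exact h5
        rw [h4, cc_symm, h]; decide
    have htt := D.tQ_sq tQ u hu32 hu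
    rcases (center_iff D.esData (a * tQ)).mp hcen2 with h | h
    · right; right; left
      calc a = a * (tQ * tQ) := by rw [htt, mul_one]
        _ = (a * tQ) * tQ := by group
        _ = tQ := by rw [h, one_mul]
    · right; right; right
      calc a = a * (tQ * tQ) := by rw [htt, mul_one]
        _ = (a * tQ) * tQ := by group
        _ = D.zQ * tQ := by rw [h]
        _ = tQ * D.zQ := (D.zQ_comm tQ).symm

end baby

end Dat

end Cfsg.Agent.Lib.Helper14.MonT
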