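import Cfsg.Agent.Lib.Helper14.MonK
import Cfsg.Agent.Lib.Helper25.CharP
import Cfsg.Agent.Lib.Helper20.ESCriterion

/-!
# Groups of Monster type: the quotient `C_G(t) / ⟨t⟩` for a non-2A involution `t ∈ Q` (helper14)

Inside `Ḡ = C_G(t) / ⟨t⟩` the image `z̄` of `z` has centralizer `X`, the image of `C_C(t)`; the image
`R̄` of `C_Q(t)` is extraspecial of order `2^23` and `F*(X) = R̄`.
-/

set_option autoImplicit false
set_option linter.unusedSectionVars false

namespace Cfsg.Agent.Lib.Helper14.MonT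

open Cfsg Cfsg.Agent.Lib.Helper16.ES32
open scoped commutatorElement

variable {G : Type*} [Group G] [Finite G] {z : G}
  {Q : Subgroup (Subgroup.centralizer ({z} : Set G))} [Q.Normal]

/-- the subgroup `⟨t⟩` of `C_G(t)`. -/
abbrev Tt (t : G) : Subgroup (Subgroup.centralizer ({t} : Set G)) :=
  (Subgroup.zpowers t).subgroupOf (Subgroup.centralizer ({t} : Set G))

theorem mem_zpowers_of_sq {t : G} (htt : t * t = 1) (x : G) :
    x ∈ Subgroup.zpowers t ↔ x = 1 ∨ x = t := by
  constructor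
  · intro h
    obtain ⟨k, rfl⟩ := Subgroup.mem_zpowers_iff.mp h
    have h2 : t ^ (2 : ℤ) = 1 := by
      rw [zpow_ofNat, pow_two]; exact htt
    rcases Int.emod_two_eq_zero_or_one k with h1 | h1
    · left
      have : k = 2 * (k / 2) := by omega
      rw [this, zpow_mul, h2, one_zpow]
    · right
      have : k = 2 * (k / 2) + 1 := by omega
      rw [this, zpow_add, zpow_mul, h2, one_zpow, one_mul, zpow_one]
  · rintro (rfl | rfl)
    · exact Subgroup.one_mem _
    · exact Subgroup.mem_zpowers _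

theorem mem_Ct_iff (t x : G) : x ∈ Subgroup.centralizer ({t} : Set G) ↔ x * t = t * x := by
  rw [Subgroup.mem_centralizer_iff]
  constructor
  · intro h; exact (h t rfl).symm
  · intro h y hy
    rw [Set.mem_singleton_iff] at hy
    rw [hy, h]

namespace Dat

variable (D : Dat z Q)

section baby

variable (t : G) (htQ : InQ Q t) (u : leechLattice) (hu32 : nrm u = 32)
  (hu : D.ψ u = QuotientGroup.mk htQ.toQ)
  [hn : (Tt t).Normal]

theorem t_coe : ((htQ.toQ : Subgroup.centralizer ({z} : Set G)) : G) = t := rfl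

include D hu32 hu in
theorem t_sq : t * t = 1 := by
  have := congrArg (fun q : Q => ((q : Subgroup.centralizer ({z} : Set G)) : G))
    (D.tQ_sq htQ.toQ u hu32 hu)
  simpa [InQ.toQ_coe] using this

include D hu32 hu in
theorem t_ne_one : t ≠ 1 := by
  intro h
  apply D.tQ_ne_one htQ.toQ u hu32 hu
  apply Subtype.ext; apply Subtype.ext
  exact h

include D hu32 hu in
theorem t_ne_z : t ≠ z := by
  intro h
  apply D.tQ_ne_zQ htQ.toQ u hu32 hu
  apply Subtype.ext; apply Subtype.ext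
  exact h

include htQ in
theorem t_comm_z : t * z = z * t := (mem_C_iff t).mp htQ.choose

/-- the inclusion of `HC = C_C(t)` into `C_G(t)`. -/
noncomputable def iotaH : HC htQ.toQ →* Subgroup.centralizer ({t} : Set G) where
  toFun h := ⟨((h : Subgroup.centralizer ({z} : Set G)) : G), by
    rw [mem_Ct_iff]
    have := congrArg (fun c : Subgroup.centralizer ({z} : Set G) => (c : G))
      ((mem_HC_iff htQ.toQ h.1).mp h.2)
    simpa [InQ.toQ_coe] using this⟩
  map_one' := rfl
  map_mul' _ _ := rfl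

theorem iotaH_coe (h : HC htQ.toQ) :
    ((iotaH t htQ h : Subgroup.centralizer ({t} : Set G)) : G) =
      ((h : Subgroup.centralizer ({z} : Set G)) : G) := rfl

/-- the map `C_C(t) → Ḡ = C_G(t) / ⟨t⟩`. -/
noncomputable def phi0 : HC htQ.toQ →* Subgroup.centralizer ({t} : Set G) ⧸ Tt t :=
  (QuotientGroup.mk' (Tt t)).comp (iotaH t htQ)

include D hu32 hu in
theorem phi0_eq_one_iff (h : HC htQ.toQ) :
    phi0 t htQ h = 1 ↔ ((h : Subgroup.centralizer ({z} : Set G)) : G) = 1 ∨
      ((h : Subgroup.centralizer ({z} : Set G)) : G) = t := by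
  show (QuotientGroup.mk (iotaH t htQ h) : Subgroup.centralizer ({t} : Set G) ⧸ Tt t) = 1 ↔ _
  rw [QuotientGroup.eq_one_iff, Subgroup.mem_subgroupOf, iotaH_coe,
    mem_zpowers_of_sq (D.t_sq t htQ u hu32 hu)]

/-- `z` as an element of `HC`. -/
noncomputable def zH : HC htQ.toQ := ⟨zC z, (mem_HC_iff _ _).mpr (zC_comm _).symm⟩

/-- the image of `z` in `Ḡ`. -/
noncomputable def zb : Subgroup.centralizer ({t} : Set G) ⧸ Tt t := phi0 t htQ (zH t htQ)

theorem zb_eq : zb t htQ = QuotientGroup.mk (iotaH t htQ (zH t htQ)) := rfl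

theorem phi0_mem (h : HC htQ.toQ) :
    phi0 t htQ h ∈ Subgroup.centralizer ({zb t htQ} : Set (Subgroup.centralizer ({t} : Set G) ⧸ Tt t)) := by
  rw [Subgroup.mem_centralizer_iff]
  intro y hy
  rw [Set.mem_singleton_iff] at hy
  rw [hy]
  unfold zb
  rw [← map_mul, ← map_mul]
  congr 1
  apply Subtype.ext
  exact (zC_comm (h : Subgroup.centralizer ({z} : Set G))).symm

/-- the map `C_C(t) → X = C_Ḡ(z̄)`. -/
noncomputable def phi : HC htQ.toQ →*
    Subgroup.centralizer ({zb t htQ} : Set (Subgroup.centralizer ({t} : Set G) ⧸ Tt t)) :=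
  (phi0 t htQ).codRestrict _ (phi0_mem t htQ)

theorem phi_coe (h : HC htQ.toQ) :
    ((phi t htQ h : Subgroup.centralizer ({zb t htQ} : Set (Subgroup.centralizer ({t} : Set G) ⧸ Tt t))) :
      Subgroup.centralizer ({t} : Set G) ⧸ Tt t) = phi0 t htQ h := rfl

include D hu32 hu in
theorem phi_eq_one_iff (h : HC htQ.toQ) :
    phi t htQ h = 1 ↔ ((h : Subgroup.centralizer ({z} : Set G)) : G) = 1 ∨
      ((h : Subgroup.centralizer ({z} : Set G)) : G) = t := by
  constructor
  · intro h1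
    apply (D.phi0_eq_one_iff t htQ u hu32 hu h).mp
    rw [← phi_coe, h1]; rfl
  · intro h1
    apply Subtype.ext
    exact (D.phi0_eq_one_iff t htQ u hu32 hu h).mpr h1

include D hu32 hu in
/-- `z t` is not conjugate to `z`. -/
theorem not_conj_zt : ¬ IsConj z (z * t) := by
  intro hc
  obtain ⟨g', hg'⟩ := isConj_iff.mp hc
  have hq : InQ Q (g' * z * g'⁻¹) := by
    rw [hg']; exact inQ_mul (inQ_coe D.zQ) htQ
  have e : hq.toQ = D.zQ * htQ.toQ := toQ_eq hq _ (by rw [hg']; rfl)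
  apply D.not_conj_of_nrm32 g' hq u hu32
  rw [e, hu, QuotientGroup.mk_mul, (D.mk_eq_one_iff D.zQ).mpr (Or.inr rfl), one_mul]

include D hu32 hu in
theorem phi0_surj (x : Subgroup.centralizer ({t} : Set G) ⧸ Tt t)
    (hx : x ∈ Subgroup.centralizer ({zb t htQ} : Set (Subgroup.centralizer ({t} : Set G) ⧸ Tt t))) :
    ∃ h : HC htQ.toQ, phi0 t htQ h = x := by
  obtain ⟨c, rfl⟩ := QuotientGroup.mk_surjective x
  rw [Subgroup.mem_centralizer_iff] at hx
  have h1 := hx _ rfl
  have h2 : (QuotientGroup.mk (iotaH t htQ (zH t htQ) * c) :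
      Subgroup.centralizer ({t} : Set G) ⧸ Tt t) = QuotientGroup.mk (c * iotaH t htQ (zH t htQ)) := h1
  rw [QuotientGroup.eq, Subgroup.mem_subgroupOf] at h2
  have h3 : (z * (c : G))⁻¹ * ((c : G) * z) ∈ Subgroup.zpowers t := h2
  rw [mem_zpowers_of_sq (D.t_sq t htQ u hu32 hu)] at h3
  have hzz := D.z_sq
  rcases h3 with h3 | h3
  · have hcz : (c : G) * z = z * (c : G) := by
      calc (c : G) * z = (z * (c : G)) * ((z * (c : G))⁻¹ * ((c : G) * z)) := by group
        _ = z * (c : G) := by rw [h3, mul_one]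
    have hct : (c : G) * t = t * (c : G) := (mem_Ct_iff t _).mp c.2
    refine ⟨⟨⟨(c : G), (mem_C_iff _).mpr hcz⟩, (mem_HC_iff _ _).mpr (Subtype.ext hct)⟩, ?_⟩
    show (QuotientGroup.mk _ : Subgroup.centralizer ({t} : Set G) ⧸ Tt t) = QuotientGroup.mk c
    congr 1
  · exfalso
    apply D.not_conj_zt t htQ u hu32 hu
    rw [isConj_iff]
    refine ⟨(c : G)⁻¹, ?_⟩
    have htt := D.t_sq t htQ u hu32 hu
    have hzinv : z⁻¹ = z := inv_eq_of_mul_eq_one_left hzz
    have htinv : t⁻¹ = t := inv_eq_of_mul_eq_one_left htt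
    have h4 : (c : G)⁻¹ * z⁻¹ * (c : G) * z = t := by
      calc (c : G)⁻¹ * z⁻¹ * (c : G) * z = (z * (c : G))⁻¹ * ((c : G) * z) := by group
        _ = t := h3
    calc (c : G)⁻¹ * z * (c : G)⁻¹⁻¹ = (((c : G)⁻¹ * z⁻¹ * (c : G) * z) * z⁻¹)⁻¹ := by group
      _ = (t * z⁻¹)⁻¹ := by rw [h4]
      _ = z * t⁻¹ := by group
      _ = z * t := by rw [htinv]

include D hu32 hu in
theorem phi_surjective : Function.Surjective (phi t htQ) := by
  rintro ⟨x, hx⟩
  obtain ⟨h, hh⟩ := D.phi0_surj t htQ u hu32 hu x hx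
  exact ⟨h, Subtype.ext hh⟩

/-- the inclusion of `A = C_Q(t)` into `HC`. -/
noncomputable def jA : Subgroup.centralizer ({htQ.toQ} : Set Q) →* HC htQ.toQ where
  toFun a := ⟨((a : Q) : Subgroup.centralizer ({z} : Set G)), by
    rw [mem_HC_iff]
    have h1 : (a : Q) * htQ.toQ = htQ.toQ * (a : Q) :=
      (Subgroup.mem_centralizer_iff.mp a.2 _ rfl).symm
    have := congrArg (fun q : Q => (q : Subgroup.centralizer ({z} : Set G))) h1
    simpa using this⟩
  map_one' := rfl
  map_mul' _ _ := rfl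

theorem jA_coe (a : Subgroup.centralizer ({htQ.toQ} : Set Q)) :
    ((jA t htQ a : HC htQ.toQ) : Subgroup.centralizer ({z} : Set G)) =
      ((a : Q) : Subgroup.centralizer ({z} : Set G)) := rfl

theorem mem_A_iff (a : Q) : a ∈ Subgroup.centralizer ({htQ.toQ} : Set Q) ↔
    a * htQ.toQ = htQ.toQ * a := by
  rw [Subgroup.mem_centralizer_iff]
  constructor
  · intro h; exact (h _ rfl).symm
  · intro h y hy
    rw [Set.mem_singleton_iff] at hy
    rw [hy, h]

/-- elements of `HC` lying in `Q` come from `A`. -/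
theorem exists_jA (h : HC htQ.toQ) (hq : (h : Subgroup.centralizer ({z} : Set G)) ∈ Q) :
    ∃ a : Subgroup.centralizer ({htQ.toQ} : Set Q), jA t htQ a = h := by
  refine ⟨⟨⟨(h : Subgroup.centralizer ({z} : Set G)), hq⟩, ?_⟩, Subtype.ext rfl⟩
  rw [mem_A_iff]
  apply Subtype.ext
  exact (mem_HC_iff _ _).mp h.2

/-- the map `A = C_Q(t) → X`. -/
noncomputable def phiQ : Subgroup.centralizer ({htQ.toQ} : Set Q) →*
    Subgroup.centralizer ({zb t htQ} : Set (Subgroup.centralizer ({t} : Set G) ⧸ Tt t)) :=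
  (phi t htQ).comp (jA t htQ)

theorem phiQ_apply (a : Subgroup.centralizer ({htQ.toQ} : Set Q)) :
    phiQ t htQ a = phi t htQ (jA t htQ a) := rfl

/-- the image `R̄` of `C_Q(t)` in `X`. -/
noncomputable def Rb : Subgroup
    (Subgroup.centralizer ({zb t htQ} : Set (Subgroup.centralizer ({t} : Set G) ⧸ Tt t))) :=
  (phiQ t htQ).range

/-- `t` as an element of `A`. -/
noncomputable def tA : Subgroup.centralizer ({htQ.toQ} : Set Q) :=
  ⟨htQ.toQ, (mem_A_iff t htQ _).mpr rfl⟩

/-- `z` as an element of `A`. -/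
noncomputable def zA' : Subgroup.centralizer ({htQ.toQ} : Set Q) :=
  ⟨D.zQ, (mem_A_iff t htQ _).mpr (D.zQ_comm _).symm⟩

include D hu32 hu in
theorem phiQ_eq_one_iff (a : Subgroup.centralizer ({htQ.toQ} : Set Q)) :
    phiQ t htQ a = 1 ↔ a = 1 ∨ a = tA t htQ := by
  rw [phiQ_apply, D.phi_eq_one_iff t htQ u hu32 hu]
  constructor
  · rintro (h | h)
    · left
      apply Subtype.ext; apply Subtype.ext; apply Subtype.ext
      exact h
    · right
      apply Subtype.ext; apply Subtype.ext; apply Subtype.ext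
      exact h
  · rintro (h | h)
    · left; rw [h]; rfl
    · right; rw [h]; rfl

include D hu32 hu in
theorem tA_ne_one : tA t htQ ≠ 1 := by
  intro h
  apply D.tQ_ne_one htQ.toQ u hu32 hu
  exact congrArg Subtype.val h

include D hu32 hu in
theorem card_ker_phiQ : Nat.card (phiQ t htQ).ker = 2 := by
  have h1 : ((phiQ t htQ).ker : Set _) = {1, tA t htQ} := by
    ext a
    rw [SetLike.mem_coe, MonoidHom.mem_ker, D.phiQ_eq_one_iff t htQ u hu32 hu]
    simp
  have h2 : Nat.card (phiQ t htQ).ker =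
      Set.ncard ((phiQ t htQ).ker : Set (Subgroup.centralizer ({htQ.toQ} : Set Q))) :=
    Nat.card_coe_set_eq _
  rw [h2, h1, Set.ncard_pair (D.tA_ne_one t htQ u hu32 hu).symm]

include D hu32 hu in
theorem card_Rb : Nat.card (Rb t htQ) = 2 ^ 23 := by
  have h1 := Subgroup.card_eq_card_quotient_mul_card_subgroup (phiQ t htQ).ker
  rw [Nat.card_congr (QuotientGroup.quotientKerEquivRange (phiQ t htQ)).toEquiv,
    D.card_ker_phiQ t htQ u hu32 hu,
    D.card_centralizer htQ.toQ (D.tQ_ne_one _ u hu32 hu) (D.tQ_ne_zQ _ u hu32 hu)] at h1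
  show Nat.card (phiQ t htQ).range = _
  omega

/-- the surjection `A → R̄`. -/
noncomputable def phiR : Subgroup.centralizer ({htQ.toQ} : Set Q) →* Rb t htQ :=
  (phiQ t htQ).rangeRestrict

theorem phiR_surjective : Function.Surjective (phiR t htQ) :=
  (phiQ t htQ).rangeRestrict_surjective

theorem phiR_coe (a : Subgroup.centralizer ({htQ.toQ} : Set Q)) :
    ((phiR t htQ a : Rb t htQ) :
      Subgroup.centralizer ({zb t htQ} : Set (Subgroup.centralizer ({t} : Set G) ⧸ Tt t))) =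
      phiQ t htQ a := rfl

include D hu32 hu in
theorem phiR_eq_one_iff (a : Subgroup.centralizer ({htQ.toQ} : Set Q)) :
    phiR t htQ a = 1 ↔ a = 1 ∨ a = tA t htQ := by
  rw [← D.phiQ_eq_one_iff t htQ u hu32 hu]
  constructor
  · intro h
    have := congrArg Subtype.val h
    exact this
  · intro h
    apply Subtype.ext
    exact h

include D hu32 hu in
theorem zA'_ne : D.zA' t htQ ≠ 1 ∧ D.zA' t htQ ≠ tA t htQ := by
  constructor
  · intro h
    apply D.zQ_ne_one
    exact congrArg Subtype.val h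
  · intro h
    apply D.tQ_ne_zQ htQ.toQ u hu32 hu
    exact (congrArg Subtype.val h).symm

include D hu32 hu in
/-- elements of `A` whose images in `R̄` commute do commute. -/
theorem comm_of_phiR (a b : Subgroup.centralizer ({htQ.toQ} : Set Q))
    (h : phiR t htQ a * phiR t htQ b = phiR t htQ b * phiR t htQ a) : a * b = b * a := by
  rcases D.esData.comm (a : Q) (b : Q) with h1 | h1
  · exact Subtype.ext h1
  · exfalso
    have h2 : a * b = b * a * D.zA' t htQ := Subtype.ext h1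
    rw [← map_mul, ← map_mul, h2, map_mul] at h
    have h3 : phiR t htQ (D.zA' t htQ) = 1 := by
      calc phiR t htQ (D.zA' t htQ) = (phiR t htQ (b * a))⁻¹ *
            (phiR t htQ (b * a) * phiR t htQ (D.zA' t htQ)) := by group
        _ = 1 := by rw [h]; group
    rcases (D.phiR_eq_one_iff t htQ u hu32 hu _).mp h3 with h4 | h4
    · exact (D.zA'_ne t htQ u hu32 hu).1 h4
    · exact (D.zA'_ne t htQ u hu32 hu).2 h4

/-- the image of `z` in `R̄`. -/
noncomputable def zR : Rb t htQ := phiR t htQ (D.zA' t htQ)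

include hu32 hu in
theorem esData_Rb : Cfsg.Agent.Lib.Helper20.ES.ESData 2 (Rb t htQ) (D.zR t htQ) where
  z_ne := by
    intro h
    rcases (D.phiR_eq_one_iff t htQ u hu32 hu _).mp h with h4 | h4
    · exact (D.zA'_ne t htQ u hu32 hu).1 h4
    · exact (D.zA'_ne t htQ u hu32 hu).2 h4
  z_pow := by
    unfold zR
    rw [← map_pow, pow_two]
    have : D.zA' t htQ * D.zA' t htQ = 1 := Subtype.ext D.esData.z_sq
    rw [this, map_one]
  z_central := by
    rw [Subgroup.mem_center_iff]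
    intro x
    obtain ⟨a, rfl⟩ := phiR_surjective t htQ x
    unfold zR
    rw [← map_mul, ← map_mul]
    congr 1
    exact Subtype.ext (D.zQ_comm (a : Q))
  center_le := by
    intro w hw
    rw [Subgroup.mem_center_iff] at hw
    obtain ⟨a, rfl⟩ := phiR_surjective t htQ w
    have hall : ∀ b : Q, b * htQ.toQ = htQ.toQ * b → (a : Q) * b = b * (a : Q) := by
      intro b hb
      have := D.comm_of_phiR t htQ u hu32 hu a ⟨b, (mem_A_iff t htQ b).mpr hb⟩
        (hw (phiR t htQ ⟨b, (mem_A_iff t htQ b).mpr hb⟩)).symm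
      exact congrArg Subtype.val this
    have htA1 : phiR t htQ (tA t htQ) = 1 :=
      (D.phiR_eq_one_iff t htQ u hu32 hu _).mpr (Or.inr rfl)
    rcases D.double_cent htQ.toQ u hu32 hu (a : Q) hall with h | h | h | h
    · have : a = 1 := Subtype.ext h
      rw [this, map_one]; exact Subgroup.one_mem _
    · have : a = D.zA' t htQ := Subtype.ext h
      rw [this]; exact Subgroup.mem_zpowers _
    · have : a = tA t htQ := Subtype.ext h
      rw [this, htA1]; exact Subgroup.one_mem _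
    · have : a = tA t htQ * D.zA' t htQ := Subtype.ext h
      rw [this, map_mul, htA1, one_mul]; exact Subgroup.mem_zpowers _
  comm_mem := by
    intro x y
    obtain ⟨a, rfl⟩ := phiR_surjective t htQ x
    obtain ⟨b, rfl⟩ := phiR_surjective t htQ y
    rw [← map_commutatorElement]
    rcases D.esData.comm (a : Q) (b : Q) with h1 | h1
    · have : ⁅a, b⁆ = 1 := by
        rw [commutatorElement_eq_one_iff_mul_comm]; exact Subtype.ext h1
      rw [this, map_one]; exact Subgroup.one_mem _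
    · have : ⁅a, b⁆ = D.zA' t htQ := by
        have h2 : a * b = b * a * D.zA' t htQ := Subtype.ext h1
        have h3 : D.zA' t htQ * a⁻¹ = a⁻¹ * D.zA' t htQ := by
          apply Subtype.ext
          exact (D.zQ_comm ((a : Q)⁻¹)).symm
        have h4 : D.zA' t htQ * b⁻¹ = b⁻¹ * D.zA' t htQ := by
          apply Subtype.ext
          exact (D.zQ_comm ((b : Q)⁻¹)).symm
        rw [commutatorElement_def, h2]
        calc b * a * D.zA' t htQ * a⁻¹ * b⁻¹ = b * a * (D.zA' t htQ * a⁻¹) * b⁻¹ := by group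
          _ = b * (D.zA' t htQ * b⁻¹) := by rw [h3]; group
          _ = D.zA' t htQ := by rw [h4]; group
      rw [this]; exact Subgroup.mem_zpowers _
  pow_mem := by
    intro x
    obtain ⟨a, rfl⟩ := phiR_surjective t htQ x
    rw [← map_pow, pow_two]
    rcases D.esData.sq (a : Q) with h1 | h1
    · have : a * a = 1 := Subtype.ext h1
      rw [this, map_one]; exact Subgroup.one_mem _
    · have : a * a = D.zA' t htQ := Subtype.ext h1
      rw [this]; exact Subgroup.mem_zpowers _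

include hu32 hu in
theorem isExtraspecial_Rb : Cfsg.IsExtraspecial 2 (Rb t htQ) := by
  haveI : Fact (Nat.Prime 2) := ⟨Nat.prime_two⟩
  apply (D.esData_Rb t htQ u hu32 hu).isExtraspecial
  by_contra hcon
  push Not at hcon
  have hab : (Subgroup.centralizer ({htQ.toQ} : Set Q)) ≤
      Subgroup.centralizer ((Subgroup.centralizer ({htQ.toQ} : Set Q) : Subgroup Q) : Set Q) := by
    intro a ha
    rw [Subgroup.mem_centralizer_iff]
    intro b hb
    have h1 := hcon (phiR t htQ ⟨a, ha⟩) (phiR t htQ ⟨b, hb⟩)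
    rw [commutatorElement_eq_one_iff_mul_comm] at h1
    have := D.comm_of_phiR t htQ u hu32 hu ⟨a, ha⟩ ⟨b, hb⟩ h1
    exact (congrArg Subtype.val this).symm
  have h2 := Subgroup.card_le_of_le hab
  rw [D.card_centralizer htQ.toQ (D.tQ_ne_one _ u hu32 hu) (D.tQ_ne_zQ _ u hu32 hu),
    D.card_centralizer_centralizer htQ.toQ (D.tQ_ne_one _ u hu32 hu) (D.tQ_ne_zQ _ u hu32 hu)] at h2
  omega

include D hu32 hu in
theorem normal_Rb : (Rb t htQ).Normal := by
  constructor
  rintro _ ⟨a, rfl⟩ x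
  obtain ⟨h, rfl⟩ := D.phi_surjective t htQ u hu32 hu x
  rw [phiQ_apply, ← map_inv, ← map_mul, ← map_mul]
  have hq : ((h * jA t htQ a * h⁻¹ : HC htQ.toQ) : Subgroup.centralizer ({z} : Set G)) ∈ Q := by
    have := (inferInstance : Q.Normal).conj_mem _ (a : Q).2 (h : Subgroup.centralizer ({z} : Set G))
    exact this
  obtain ⟨a', ha'⟩ := exists_jA t htQ _ hq
  rw [← ha']
  exact ⟨a', rfl⟩

include D hu32 hu in
/-- normal subgroups of `X` whose elements have 2-power order modulo `R̄` lie in `R̄`. -/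
theorem le_Rb_of_normal
    (N : Subgroup (Subgroup.centralizer ({zb t htQ} : Set (Subgroup.centralizer ({t} : Set G) ⧸ Tt t))))
    (hN : N.Normal) (hpow : ∀ n ∈ N, ∃ k : ℕ, n ^ 2 ^ k ∈ Rb t htQ) : N ≤ Rb t htQ := by
  set N0 : Subgroup (Subgroup.centralizer ({z} : Set G)) :=
    (N.comap (phi t htQ)).map (HC htQ.toQ).subtype with hN0
  have hle : N0 ≤ HC htQ.toQ := by
    rintro _ ⟨h, -, rfl⟩
    exact h.2
  have hnorm : ∀ h ∈ HC htQ.toQ, ∀ n ∈ N0, h * n * h⁻¹ ∈ N0 := by
    rintro h hh _ ⟨n, hn, rfl⟩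
    refine ⟨⟨h, hh⟩ * n * ⟨h, hh⟩⁻¹, ?_, rfl⟩
    rw [SetLike.mem_coe, Subgroup.mem_comap, map_mul, map_mul, map_inv]
    exact hN.conj_mem _ hn _
  have hp : ∀ n ∈ N0, ∃ k : ℕ, n ^ 2 ^ k ∈ Q := by
    rintro _ ⟨n, hn, rfl⟩
    obtain ⟨k, a, ha⟩ := hpow _ hn
    refine ⟨k, ?_⟩
    rw [← map_pow] at ha
    have h1 : phi t htQ ((jA t htQ a)⁻¹ * n ^ 2 ^ k) = 1 := by
      rw [map_mul, map_inv, ← ha, phiQ_apply]; group
    have hQ1 : (((jA t htQ a)⁻¹ * n ^ 2 ^ k : HC htQ.toQ) : Subgroup.centralizer ({z} : Set G)) ∈ Q := by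
      rcases (D.phi_eq_one_iff t htQ u hu32 hu _).mp h1 with h2 | h2
      · have : (((jA t htQ a)⁻¹ * n ^ 2 ^ k : HC htQ.toQ) : Subgroup.centralizer ({z} : Set G)) = 1 :=
          Subtype.ext h2
        rw [this]; exact Q.one_mem
      · have : (((jA t htQ a)⁻¹ * n ^ 2 ^ k : HC htQ.toQ) : Subgroup.centralizer ({z} : Set G)) =
            (htQ.toQ : Subgroup.centralizer ({z} : Set G)) := Subtype.ext h2
        rw [this]; exact htQ.toQ.2
    have e : (HC htQ.toQ).subtype n ^ 2 ^ k =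
        ((a : Q) : Subgroup.centralizer ({z} : Set G)) *
          (((jA t htQ a)⁻¹ * n ^ 2 ^ k : HC htQ.toQ) : Subgroup.centralizer ({z} : Set G)) := by
      rw [Subgroup.coe_mul, Subgroup.coe_inv, jA_coe, Subgroup.coe_pow]
      simp
    rw [e]
    exact Q.mul_mem (a : Q).2 hQ1
  have hfin := D.le_Q_of_normal htQ.toQ u hu32 hu N0 hle hnorm hp
  intro n hn
  obtain ⟨h, rfl⟩ := D.phi_surjective t htQ u hu32 hu n
  have hq : (h : Subgroup.centralizer ({z} : Set G)) ∈ Q := hfin ⟨h, hn, rfl⟩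
  obtain ⟨a, rfl⟩ := exists_jA t htQ h hq
  exact ⟨a, rfl⟩

include D hu32 hu in
theorem centralizer_Rb_le : Subgroup.centralizer (Rb t htQ : Set
    (Subgroup.centralizer ({zb t htQ} : Set (Subgroup.centralizer ({t} : Set G) ⧸ Tt t)))) ≤
      Rb t htQ := by
  haveI := D.normal_Rb t htQ u hu32 hu
  apply D.le_Rb_of_normal t htQ u hu32 hu _ inferInstance
  intro n hn
  refine ⟨3, ?_⟩
  obtain ⟨h0, rfl⟩ := D.phi_surjective t htQ u hu32 hu n
  have h8 : (h0 : Subgroup.centralizer ({z} : Set G)) ^ 8 ∈ Q := by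
    apply D.pow_eight_mem htQ.toQ u hu32 hu _ h0.2
    intro a ha
    set aA : Subgroup.centralizer ({htQ.toQ} : Set Q) := ⟨a, (mem_A_iff t htQ a).mpr ha⟩ with haA
    have hcomm := (Subgroup.mem_centralizer_iff.mp hn) (phiQ t htQ aA) ⟨aA, rfl⟩
    have h1 : phi t htQ (h0 * jA t htQ aA * h0⁻¹ * (jA t htQ aA)⁻¹) = 1 := by
      rw [map_mul, map_mul, map_mul, map_inv, map_inv, ← phiQ_apply, ← hcomm]; group
    rcases (D.phi_eq_one_iff t htQ u hu32 hu _).mp h1 with h2 | h2
    · left; apply Subtype.ext; exact h2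
    · right; apply Subtype.ext; exact h2
  rw [← map_pow]
  have h8' : ((h0 ^ 2 ^ 3 : HC htQ.toQ) : Subgroup.centralizer ({z} : Set G)) ∈ Q := by
    rw [Subgroup.coe_pow]; exact h8
  obtain ⟨a, ha⟩ := exists_jA t htQ _ h8'
  rw [← ha]
  exact ⟨a, rfl⟩

include hu32 hu in
theorem isPGroup_Rb : IsPGroup 2 (Rb t htQ) := (D.esData_Rb t htQ u hu32 hu).isPGroup

include D hu32 hu in
theorem pCore_eq : Cfsg.pCore 2
    (Subgroup.centralizer ({zb t htQ} : Set (Subgroup.centralizer ({t} : Set G) ⧸ Tt t))) =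
      Rb t htQ := by
  haveI : Fact (Nat.Prime 2) := ⟨Nat.prime_two⟩
  apply le_antisymm
  · apply D.le_Rb_of_normal t htQ u hu32 hu _ (Cfsg.Agent.Lib.Helper1.pCore_normal 2 _)
    intro n hn
    obtain ⟨k, hk⟩ := (Cfsg.Agent.Lib.Helper1.pCore_isPGroup 2
      (Subgroup.centralizer ({zb t htQ} : Set (Subgroup.centralizer ({t} : Set G) ⧸ Tt t)))) ⟨n, hn⟩
    refine ⟨k, ?_⟩
    have := congrArg Subtype.val hk
    simp only [Subgroup.coe_pow, Subgroup.coe_one] at this
    rw [this]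
    exact Subgroup.one_mem _
  · exact Cfsg.Agent.Lib.Helper1.le_pCore (D.normal_Rb t htQ u hu32 hu)
      (D.isPGroup_Rb t htQ u hu32 hu)

include D hu32 hu in
/-- `F*(X) = R̄`. -/
theorem fstar_eq : Cfsg.generalizedFittingSubgroup
    (Subgroup.centralizer ({zb t htQ} : Set (Subgroup.centralizer ({t} : Set G) ⧸ Tt t))) =
      Rb t htQ := by
  haveI : Fact (Nat.Prime 2) := ⟨Nat.prime_two⟩
  rw [Cfsg.Agent.Lib.Helper25.generalizedFittingSubgroup_eq_pCore_of_normal_pSubgroup (Rb t htQ)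
    (D.normal_Rb t htQ u hu32 hu) (D.isPGroup_Rb t htQ u hu32 hu)
    (D.centralizer_Rb_le t htQ u hu32 hu), D.pCore_eq t htQ u hu32 hu]

include D hu32 hu in
theorem orderOf_zb : orderOf (zb t htQ) = 2 := by
  apply orderOf_eq_prime
  · unfold zb
    rw [← map_pow, pow_two]
    have : zH t htQ * zH t htQ = 1 := by
      apply Subtype.ext; apply Subtype.ext
      exact D.z_sq
    rw [this, map_one]
  · intro h
    rcases (D.phi0_eq_one_iff t htQ u hu32 hu _).mp h with h1 | h1
    · exact D.z_ne_one h1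
    · exact D.t_ne_z t htQ u hu32 hu h1.symm

include D hu32 hu in
/-- `z̄` is not weakly closed in `R̄` with respect to `Ḡ`. -/
theorem nwc_bar (hnwc : ∃ g : G, InQ Q (g * z * g⁻¹) ∧ g * z * g⁻¹ ≠ z) (ht : ¬ IsConj z t) :
    ∃ gb : Subgroup.centralizer ({t} : Set G) ⧸ Tt t,
      (∃ hq : gb * zb t htQ * gb⁻¹ ∈
          Subgroup.centralizer ({zb t htQ} : Set (Subgroup.centralizer ({t} : Set G) ⧸ Tt t)),
        (⟨gb * zb t htQ * gb⁻¹, hq⟩ :
          Subgroup.centralizer ({zb t htQ} : Set (Subgroup.centralizer ({t} : Set G) ⧸ Tt t))) ∈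
            Rb t htQ) ∧ gb * zb t htQ * gb⁻¹ ≠ zb t htQ := by
  have ht2 : orderOf t = 2 := by
    apply orderOf_eq_prime
    · rw [pow_two]; exact D.t_sq t htQ u hu32 hu
    · exact D.t_ne_one t htQ u hu32 hu
  obtain ⟨y, hyt, hyQ, hyne, hycomm⟩ := D.exists_conj_in_cent hnwc t htQ ht2 ht
  have hyC : y ∈ Subgroup.centralizer ({t} : Set G) := (mem_Ct_iff t y).mpr hyt
  have hz'A : hyQ.toQ ∈ Subgroup.centralizer ({htQ.toQ} : Set Q) := by
    rw [mem_A_iff]
    apply Subtype.ext; apply Subtype.ext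
    exact hycomm
  set z'A : Subgroup.centralizer ({htQ.toQ} : Set Q) := ⟨hyQ.toQ, hz'A⟩ with hz'Adef
  have hkey : (QuotientGroup.mk ⟨y, hyC⟩ : Subgroup.centralizer ({t} : Set G) ⧸ Tt t) * zb t htQ *
      (QuotientGroup.mk ⟨y, hyC⟩)⁻¹ = ((phiQ t htQ z'A :
        Subgroup.centralizer ({zb t htQ} : Set (Subgroup.centralizer ({t} : Set G) ⧸ Tt t))) :
          Subgroup.centralizer ({t} : Set G) ⧸ Tt t) := by
    show (QuotientGroup.mk ⟨y, hyC⟩ : Subgroup.centralizer ({t} : Set G) ⧸ Tt t) *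
      QuotientGroup.mk (iotaH t htQ (zH t htQ)) * (QuotientGroup.mk ⟨y, hyC⟩)⁻¹ =
        QuotientGroup.mk (iotaH t htQ (jA t htQ z'A))
    rw [← QuotientGroup.mk_inv, ← QuotientGroup.mk_mul, ← QuotientGroup.mk_mul]
    congr 1
  refine ⟨QuotientGroup.mk ⟨y, hyC⟩, ⟨?_, ?_⟩, ?_⟩
  · rw [hkey]; exact (phiQ t htQ z'A).2
  · have : (⟨(QuotientGroup.mk ⟨y, hyC⟩ : Subgroup.centralizer ({t} : Set G) ⧸ Tt t) * zb t htQ *
        (QuotientGroup.mk ⟨y, hyC⟩)⁻¹, by rw [hkey]; exact (phiQ t htQ z'A).2⟩ :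
        Subgroup.centralizer ({zb t htQ} : Set (Subgroup.centralizer ({t} : Set G) ⧸ Tt t))) =
          phiQ t htQ z'A := Subtype.ext hkey
    rw [this]
    exact ⟨z'A, rfl⟩
  · rw [hkey]
    intro h
    have h1 : phiQ t htQ z'A = phiQ t htQ (D.zA' t htQ) := Subtype.ext h
    have h2 : phiQ t htQ (z'A * (D.zA' t htQ)⁻¹) = 1 := by
      rw [map_mul, map_inv, h1]; group
    rcases (D.phiQ_eq_one_iff t htQ u hu32 hu _).mp h2 with h3 | h3
    · apply hyne
      have h4 : z'A = D.zA' t htQ := by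
        calc z'A = (z'A * (D.zA' t htQ)⁻¹) * D.zA' t htQ := by group
          _ = D.zA' t htQ := by rw [h3, one_mul]
      have := congrArg (fun a : Subgroup.centralizer ({htQ.toQ} : Set Q) =>
        (((a : Q) : Subgroup.centralizer ({z} : Set G)) : G)) h4
      exact this
    · apply D.not_conj_zt t htQ u hu32 hu
      have h4 : z'A = tA t htQ * D.zA' t htQ := by
        calc z'A = (z'A * (D.zA' t htQ)⁻¹) * D.zA' t htQ := by group
          _ = tA t htQ * D.zA' t htQ := by rw [h3]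
      have h5 : y * z * y⁻¹ = t * z := congrArg (fun a : Subgroup.centralizer ({htQ.toQ} : Set Q) =>
        (((a : Q) : Subgroup.centralizer ({z} : Set G)) : G)) h4
      rw [← t_comm_z t htQ, ← h5]
      exact isConj_iff.mpr ⟨y, rfl⟩

end baby

end Dat

end Cfsg.Agent.Lib.Helper14.MonT
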