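import Cfsg.Agent.Lib.Helper14.MonL

/-!
# Groups of Monster type: `C_G(t) / ⟨t⟩` is of Baby Monster type (helper14)

The identification of `X / R̄` with `Co₂` and of `R̄ / Z(R̄)` with the module
`leechPerpU / (2Λ + ⟨u⟩)`, and the assembly of S5412.
-/

set_option autoImplicit false
set_option linter.unusedSectionVars false

namespace Cfsg.Agent.Lib.Helper14.MonT

open Cfsg Cfsg.Agent.Lib.Helper16.ES32
open Cfsg.Agent.Lib.Helper14.CrossMax (Cong)

/-- `Co₂` inside `Co0`. -/
def toCo0 : Spor.Co2 →* Co0 where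
  toFun g := ⟨g.1, g.2.1⟩
  map_one' := rfl
  map_mul' _ _ := rfl

theorem toCo0_smul (g : Spor.Co2) (v : leechLattice) : toCo0 g • v = g • v := rfl

theorem toCo0_fix (g : Spor.Co2) : toCo0 g • Spor.leechU = Spor.leechU := g.2.2

theorem exists_toCo0 (g0 : Co0) (h : g0 • Spor.leechU = Spor.leechU) :
    ∃ g : Spor.Co2, toCo0 g = g0 := ⟨⟨g0.1, ⟨g0.2, h⟩⟩, rfl⟩

theorem toCo0_injective : Function.Injective toCo0 := by
  intro g g' h
  apply Subtype.ext
  exact congrArg (fun x : Co0 => (x : Equiv.Perm leechLattice)) h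

/-- `Co₂ → Co₁`. -/
def jCo : Spor.Co2 →* Spor.Co1 := (QuotientGroup.mk' (Subgroup.center Co0)).comp toCo0

theorem jCo_apply (g : Spor.Co2) : jCo g = (QuotientGroup.mk (toCo0 g) : Spor.Co1) := rfl

theorem jCo_injective : Function.Injective jCo := by
  intro g g' h
  apply toCo0_injective
  exact Dat.fix_unique Spor.leechU nrm_lA (toCo0 g) (toCo0 g') (toCo0_fix g) (toCo0_fix g') h

variable {G : Type*} [Group G] [Finite G] {z : G}
  {Q : Subgroup (Subgroup.centralizer ({z} : Set G))} [Q.Normal]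

namespace Dat

variable (D : Dat z Q)

section baby

variable (t : G) (htQ : InQ Q t) (hu : D.ψ Spor.leechU = QuotientGroup.mk htQ.toQ)
  [hn : (Tt t).Normal]

/-- `HC → Co₁`. -/
noncomputable def lamH : HC htQ.toQ →* Spor.Co1 :=
  D.e.toMonoidHom.comp ((QuotientGroup.mk' Q).comp (HC htQ.toQ).subtype)

theorem lamH_apply (h : HC htQ.toQ) :
    D.lamH t htQ h = D.e (QuotientGroup.mk (h : Subgroup.centralizer ({z} : Set G))) := rfl

theorem lamH_eq_one_iff (h : HC htQ.toQ) :
    D.lamH t htQ h = 1 ↔ (h : Subgroup.centralizer ({z} : Set G)) ∈ Q := by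
  rw [lamH_apply, MulEquiv.map_eq_one_iff, QuotientGroup.eq_one_iff]

include hu in
theorem ker_phi_le : (phi t htQ).ker ≤ (D.lamH t htQ).ker := by
  intro h hh
  rw [MonoidHom.mem_ker, D.phi_eq_one_iff t htQ Spor.leechU nrm_lA hu] at hh
  rw [MonoidHom.mem_ker, lamH_eq_one_iff]
  rcases hh with h1 | h1
  · have : (h : Subgroup.centralizer ({z} : Set G)) = 1 := Subtype.ext h1
    rw [this]; exact Q.one_mem
  · have : (h : Subgroup.centralizer ({z} : Set G)) =
        (htQ.toQ : Subgroup.centralizer ({z} : Set G)) := Subtype.ext h1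
    rw [this]; exact htQ.toQ.2

/-- `X → Co₁`. -/
noncomputable def lam : Subgroup.centralizer ({zb t htQ} : Set (Subgroup.centralizer ({t} : Set G) ⧸ Tt t)) →*
    Spor.Co1 :=
  (QuotientGroup.lift (phi t htQ).ker (D.lamH t htQ) (D.ker_phi_le t htQ hu)).comp
    (QuotientGroup.quotientKerEquivOfSurjective (phi t htQ)
      (D.phi_surjective t htQ Spor.leechU nrm_lA hu)).symm.toMonoidHom

theorem lam_phi (h : HC htQ.toQ) :
    D.lam t htQ hu (phi t htQ h) = D.e (QuotientGroup.mk (h : Subgroup.centralizer ({z} : Set G))) := by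
  unfold lam
  have e1 : (QuotientGroup.quotientKerEquivOfSurjective (phi t htQ)
      (D.phi_surjective t htQ Spor.leechU nrm_lA hu)).symm (phi t htQ h) = QuotientGroup.mk h := by
    rw [MulEquiv.symm_apply_eq]
    rfl
  rw [MonoidHom.comp_apply]
  show (QuotientGroup.lift (phi t htQ).ker (D.lamH t htQ) (D.ker_phi_le t htQ hu))
    ((QuotientGroup.quotientKerEquivOfSurjective (phi t htQ)
      (D.phi_surjective t htQ Spor.leechU nrm_lA hu)).symm (phi t htQ h)) = _
  rw [e1, QuotientGroup.lift_mk]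
  rfl

include hu in
theorem lam_range : (D.lam t htQ hu).range = jCo.range := by
  ext c
  constructor
  · rintro ⟨x, rfl⟩
    obtain ⟨h, rfl⟩ := D.phi_surjective t htQ Spor.leechU nrm_lA hu x
    rw [D.lam_phi]
    obtain ⟨g0, hfix, hg0⟩ := D.exists_fix htQ.toQ Spor.leechU nrm_lA hu
      (h : Subgroup.centralizer ({z} : Set G)) h.2
    obtain ⟨g, rfl⟩ := exists_toCo0 g0 hfix
    exact ⟨g, hg0⟩
  · rintro ⟨g, rfl⟩
    obtain ⟨h, hh, he⟩ := D.exists_HC htQ.toQ Spor.leechU nrm_lA hu (toCo0 g) (toCo0_fix g)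
    refine ⟨phi t htQ ⟨h, hh⟩, ?_⟩
    rw [D.lam_phi, jCo_apply, he]

include hu in
theorem phi_mem_Rb_iff (h : HC htQ.toQ) :
    phi t htQ h ∈ Rb t htQ ↔ (h : Subgroup.centralizer ({z} : Set G)) ∈ Q := by
  constructor
  · rintro ⟨a, ha⟩
    have h1 : phi t htQ ((jA t htQ a)⁻¹ * h) = 1 := by
      rw [map_mul, map_inv, ← ha, phiQ_apply]; group
    have hQ1 : (((jA t htQ a)⁻¹ * h : HC htQ.toQ) : Subgroup.centralizer ({z} : Set G)) ∈ Q := by
      rcases (D.phi_eq_one_iff t htQ Spor.leechU nrm_lA hu _).mp h1 with h2 | h2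
      · have : (((jA t htQ a)⁻¹ * h : HC htQ.toQ) : Subgroup.centralizer ({z} : Set G)) = 1 :=
          Subtype.ext h2
        rw [this]; exact Q.one_mem
      · have : (((jA t htQ a)⁻¹ * h : HC htQ.toQ) : Subgroup.centralizer ({z} : Set G)) =
            (htQ.toQ : Subgroup.centralizer ({z} : Set G)) := Subtype.ext h2
        rw [this]; exact htQ.toQ.2
    have e : (h : Subgroup.centralizer ({z} : Set G)) =
        ((a : Q) : Subgroup.centralizer ({z} : Set G)) *
          (((jA t htQ a)⁻¹ * h : HC htQ.toQ) : Subgroup.centralizer ({z} : Set G)) := by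
      rw [Subgroup.coe_mul, Subgroup.coe_inv, jA_coe]
      group
    rw [e]
    exact Q.mul_mem (a : Q).2 hQ1
  · intro hq
    obtain ⟨a, rfl⟩ := exists_jA t htQ h hq
    exact ⟨a, rfl⟩

include hu in
theorem lam_ker : (D.lam t htQ hu).ker = Rb t htQ := by
  ext x
  obtain ⟨h, rfl⟩ := D.phi_surjective t htQ Spor.leechU nrm_lA hu x
  rw [MonoidHom.mem_ker, D.lam_phi, D.phi_mem_Rb_iff t htQ hu, MulEquiv.map_eq_one_iff,
    QuotientGroup.eq_one_iff]

/-! ### the module map -/

include hu in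
/-- lifts of vectors orthogonal to `u` lie in `A = C_Q(t)`. -/
theorem lift_mem_A (x : leechPerpU) :
    D.lift (x : leechLattice) ∈ Subgroup.centralizer ({htQ.toQ} : Set Q) := by
  rw [mem_A_iff, ← cc_eq_zero_iff, D.cc_of_mk (D.mk_lift _).symm hu, D.bb_eq_zero_iff]
  exact x.2

/-- the lift of `x ∈ leechPerpU` as an element of `A`. -/
noncomputable def liftA (x : leechPerpU) : Subgroup.centralizer ({htQ.toQ} : Set Q) :=
  ⟨D.lift (x : leechLattice), D.lift_mem_A t htQ hu x⟩

/-- `A → R̄ / Z(R̄)`. -/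
noncomputable def Psi : Subgroup.centralizer ({htQ.toQ} : Set Q) →*
    Rb t htQ ⧸ Subgroup.center (Rb t htQ) :=
  (QuotientGroup.mk' (Subgroup.center (Rb t htQ))).comp (phiR t htQ)

theorem Psi_apply (a : Subgroup.centralizer ({htQ.toQ} : Set Q)) :
    Psi t htQ a = QuotientGroup.mk (phiR t htQ a) := rfl

include D hu in
theorem Psi_eq_one_iff (a : Subgroup.centralizer ({htQ.toQ} : Set Q)) :
    Psi t htQ a = 1 ↔ a = 1 ∨ a = D.zA' t htQ ∨ a = tA t htQ ∨ a = tA t htQ * D.zA' t htQ := by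
  have hes := D.esData_Rb t htQ Spor.leechU nrm_lA hu
  have hzz : D.zR t htQ * D.zR t htQ = 1 := by
    have := hes.z_pow
    rwa [pow_two] at this
  rw [Psi_apply, QuotientGroup.eq_one_iff, hes.center_eq, mem_zpowers_of_sq hzz,
    D.phiR_eq_one_iff t htQ Spor.leechU nrm_lA hu]
  have h2 : phiR t htQ a = D.zR t htQ ↔ a = D.zA' t htQ ∨ a = tA t htQ * D.zA' t htQ := by
    have e1 : phiR t htQ a = D.zR t htQ ↔ phiR t htQ (a * (D.zA' t htQ)⁻¹) = 1 := by
      rw [map_mul, map_inv, mul_inv_eq_one]; rfl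
    rw [e1, D.phiR_eq_one_iff t htQ Spor.leechU nrm_lA hu, mul_inv_eq_one, mul_inv_eq_iff_eq_mul]
  rw [h2]
  tauto

include D hu in
theorem Psi_congr (a b : Subgroup.centralizer ({htQ.toQ} : Set Q))
    (h : (QuotientGroup.mk (a : Q) : Q ⧸ Subgroup.center Q) = QuotientGroup.mk (b : Q)) :
    Psi t htQ a = Psi t htQ b := by
  rcases (D.mk_eq_mk_iff (a : Q) (b : Q)).mp h with h1 | h1
  · have : b = a := Subtype.ext h1
    rw [this]
  · have : b = a * D.zA' t htQ := Subtype.ext h1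
    rw [this, map_mul, (D.Psi_eq_one_iff t htQ hu _).mpr (Or.inr (Or.inl rfl)), mul_one]

include D hu in
theorem Psi_eq_one_iff' (a : Subgroup.centralizer ({htQ.toQ} : Set Q)) :
    Psi t htQ a = 1 ↔ (QuotientGroup.mk (a : Q) : Q ⧸ Subgroup.center Q) = 1 ∨
      (QuotientGroup.mk (a : Q) : Q ⧸ Subgroup.center Q) = QuotientGroup.mk htQ.toQ := by
  rw [D.Psi_eq_one_iff t htQ hu, D.mk_eq_one_iff, eq_comm (a := (QuotientGroup.mk (a : Q) :
    Q ⧸ Subgroup.center Q)), D.mk_eq_mk_iff]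
  constructor
  · rintro (h | h | h | h)
    · left; left; rw [h]; rfl
    · left; right; rw [h]; rfl
    · right; left; rw [h]; rfl
    · right; right; rw [h]; rfl
  · rintro ((h | h) | (h | h))
    · left; exact Subtype.ext h
    · right; left; exact Subtype.ext h
    · right; right; left; exact Subtype.ext h
    · right; right; right; exact Subtype.ext h

/-- the module map `leechPerpU → R̄ / Z(R̄)`. -/
noncomputable def psiBar (x : leechPerpU) : Rb t htQ ⧸ Subgroup.center (Rb t htQ) :=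
  Psi t htQ (D.liftA t htQ hu x)

theorem liftA_coe (x : leechPerpU) : ((D.liftA t htQ hu x : Subgroup.centralizer ({htQ.toQ} : Set Q)) : Q) =
    D.lift (x : leechLattice) := rfl

theorem psiBar_add (x y : leechPerpU) :
    D.psiBar t htQ hu (x + y) = D.psiBar t htQ hu x * D.psiBar t htQ hu y := by
  unfold psiBar
  rw [← map_mul]
  apply D.Psi_congr t htQ hu
  rw [Subgroup.coe_mul, liftA_coe, liftA_coe, liftA_coe, D.mk_lift, AddSubgroup.coe_add]
  exact D.mk_mul_lift _ _

theorem psiBar_surjective : Function.Surjective (D.psiBar t htQ hu) := by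
  intro c
  obtain ⟨r, rfl⟩ := QuotientGroup.mk_surjective c
  obtain ⟨a, rfl⟩ := phiR_surjective t htQ r
  obtain ⟨v, hv⟩ := D.psi_surj (QuotientGroup.mk (a : Q))
  have hvm : v ∈ leechPerpU := by
    have h1 : cc (a : Q) htQ.toQ = 0 := by
      rw [cc_eq_zero_iff]; exact (mem_A_iff t htQ _).mp a.2
    rw [D.cc_of_mk hv hu, D.bb_eq_zero_iff] at h1
    exact h1
  refine ⟨⟨v, hvm⟩, ?_⟩
  unfold psiBar
  rw [← Psi_apply]
  apply D.Psi_congr t htQ hu
  rw [liftA_coe, D.mk_lift]
  exact hv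

theorem psiBar_eq_one_iff (x : leechPerpU) : D.psiBar t htQ hu x = 1 ↔
    (∃ w : leechLattice, (x : leechLattice) = w + w) ∨
      ∃ w : leechLattice, (x : leechLattice) = Spor.leechU + (w + w) := by
  unfold psiBar
  rw [D.Psi_eq_one_iff' t htQ hu, liftA_coe, D.mk_lift, ← hu, D.psi_eq_one_iff, D.psi_eq_iff_cong]
  constructor
  · rintro (h | ⟨w, hw⟩)
    · exact Or.inl h
    · right
      exact ⟨w, by rw [← hw]; abel⟩
  · rintro (h | ⟨w, hw⟩)
    · exact Or.inl h
    · right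
      exact ⟨w, by rw [hw]; abel⟩

/-- conjugation by an element of `HC` on `A = C_Q(t)`. -/
noncomputable def conjA (h0 : HC htQ.toQ) :
    Subgroup.centralizer ({htQ.toQ} : Set Q) →* Subgroup.centralizer ({htQ.toQ} : Set Q) where
  toFun a := ⟨MulAut.conjNormal (h0 : Subgroup.centralizer ({z} : Set G)) (a : Q), by
    rw [mem_A_iff]
    have h1 : (a : Q) * htQ.toQ = htQ.toQ * (a : Q) := (mem_A_iff t htQ _).mp a.2
    have h2 : MulAut.conjNormal (h0 : Subgroup.centralizer ({z} : Set G)) htQ.toQ = htQ.toQ := by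
      apply Subtype.ext
      rw [MulAut.conjNormal_apply, (mem_HC_iff _ _).mp h0.2]
      group
    calc MulAut.conjNormal (h0 : Subgroup.centralizer ({z} : Set G)) (a : Q) * htQ.toQ
        = MulAut.conjNormal (h0 : Subgroup.centralizer ({z} : Set G)) ((a : Q) * htQ.toQ) := by
          rw [map_mul, h2]
      _ = MulAut.conjNormal (h0 : Subgroup.centralizer ({z} : Set G)) (htQ.toQ * (a : Q)) := by rw [h1]
      _ = htQ.toQ * MulAut.conjNormal (h0 : Subgroup.centralizer ({z} : Set G)) (a : Q) := by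
          rw [map_mul, h2]⟩
  map_one' := Subtype.ext (map_one _)
  map_mul' a b := Subtype.ext (map_mul _ _ _)

theorem conjA_coe (h0 : HC htQ.toQ) (a : Subgroup.centralizer ({htQ.toQ} : Set Q)) :
    ((conjA t htQ h0 a : Subgroup.centralizer ({htQ.toQ} : Set Q)) : Q) =
      MulAut.conjNormal (h0 : Subgroup.centralizer ({z} : Set G)) (a : Q) := rfl

theorem jA_conjA (h0 : HC htQ.toQ) (a : Subgroup.centralizer ({htQ.toQ} : Set Q)) :
    jA t htQ (conjA t htQ h0 a) = h0 * jA t htQ a * h0⁻¹ := by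
  apply Subtype.ext
  rw [jA_coe, conjA_coe]
  apply Subtype.ext
  rw [MulAut.conjNormal_apply]
  rfl

theorem conjA_tA (h0 : HC htQ.toQ) : conjA t htQ h0 (tA t htQ) = tA t htQ := by
  apply Subtype.ext; apply Subtype.ext
  show (MulAut.conjNormal (h0 : Subgroup.centralizer ({z} : Set G)) htQ.toQ :
    Subgroup.centralizer ({z} : Set G)) = htQ.toQ
  rw [MulAut.conjNormal_apply, (mem_HC_iff _ _).mp h0.2]
  group

theorem conjA_zA' (h0 : HC htQ.toQ) : conjA t htQ h0 (D.zA' t htQ) = D.zA' t htQ := by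
  apply Subtype.ext; apply Subtype.ext
  show (MulAut.conjNormal (h0 : Subgroup.centralizer ({z} : Set G)) D.zQ :
    Subgroup.centralizer ({z} : Set G)) = D.zQ
  rw [MulAut.conjNormal_apply]
  have : (h0 : Subgroup.centralizer ({z} : Set G)) * (D.zQ : Subgroup.centralizer ({z} : Set G)) =
      (D.zQ : Subgroup.centralizer ({z} : Set G)) * h0 := zC_comm _
  rw [this]
  group

include D hu in
theorem Psi_conjA (h0 : HC htQ.toQ) (a b : Subgroup.centralizer ({htQ.toQ} : Set Q))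
    (h : Psi t htQ a = Psi t htQ b) : Psi t htQ (conjA t htQ h0 a) = Psi t htQ (conjA t htQ h0 b) := by
  have h1 : Psi t htQ (a * b⁻¹) = 1 := by rw [map_mul, map_inv, h, mul_inv_cancel]
  have h2 : conjA t htQ h0 (a * b⁻¹) = a * b⁻¹ := by
    rcases (D.Psi_eq_one_iff t htQ hu _).mp h1 with h3 | h3 | h3 | h3
    · rw [h3, map_one]
    · rw [h3, D.conjA_zA']
    · rw [h3, conjA_tA]
    · rw [h3, map_mul, D.conjA_zA', conjA_tA]
  have h3 : Psi t htQ (conjA t htQ h0 a) * (Psi t htQ (conjA t htQ h0 b))⁻¹ = 1 := by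
    rw [← map_inv, ← map_mul, ← map_inv, ← map_mul, h2, h1]
  exact mul_inv_eq_one.mp h3

variable [hRn : (Rb t htQ).Normal]

/-- the identification of `X / R̄` with `Co₂`. -/
noncomputable def eBar :
    (Subgroup.centralizer ({zb t htQ} : Set (Subgroup.centralizer ({t} : Set G) ⧸ Tt t))) ⧸ Rb t htQ ≃*
      Spor.Co2 :=
  (QuotientGroup.quotientMulEquivOfEq (D.lam_ker t htQ hu).symm).trans
    ((QuotientGroup.quotientKerEquivRange (D.lam t htQ hu)).trans
      ((MulEquiv.subgroupCongr (D.lam_range t htQ hu)).trans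
        (MonoidHom.ofInjective jCo_injective).symm))

theorem eBar_mk (x : Subgroup.centralizer ({zb t htQ} : Set (Subgroup.centralizer ({t} : Set G) ⧸ Tt t)))
    (g : Spor.Co2) (h : D.eBar t htQ hu (QuotientGroup.mk x) = g) : jCo g = D.lam t htQ hu x := by
  unfold eBar at h
  simp only [MulEquiv.trans_apply] at h
  rw [MulEquiv.symm_apply_eq] at h
  have := congrArg Subtype.val h
  exact this.symm

/-- equivariance of the module map. -/
theorem psiBar_equivariant
    (h : Subgroup.centralizer ({zb t htQ} : Set (Subgroup.centralizer ({t} : Set G) ⧸ Tt t)))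
    (g : Spor.Co2) (he : D.eBar t htQ hu (QuotientGroup.mk h) = g)
    (x y : leechPerpU) (hxy : g • (x : leechLattice) = (y : leechLattice))
    (q : Rb t htQ) (hq : D.psiBar t htQ hu x = QuotientGroup.mk q) :
    D.psiBar t htQ hu y = QuotientGroup.mk ⟨h * q * h⁻¹,
      hRn.conj_mem (q : Subgroup.centralizer ({zb t htQ} : Set (Subgroup.centralizer ({t} : Set G) ⧸ Tt t)))
        q.2 h⟩ := by
  obtain ⟨h0, rfl⟩ := D.phi_surjective t htQ Spor.leechU nrm_lA hu h
  obtain ⟨b, rfl⟩ := phiR_surjective t htQ q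
  have he' := D.eBar_mk t htQ hu _ g he
  rw [D.lam_phi, jCo_apply] at he'
  have h1 := D.psi_smul (h0 : Subgroup.centralizer ({z} : Set G)) (toCo0 g) he' (x : leechLattice)
    (D.lift (x : leechLattice)) (D.mk_lift _).symm
  rw [toCo0_smul, hxy] at h1
  have e1 : D.psiBar t htQ hu y = Psi t htQ (conjA t htQ h0 (D.liftA t htQ hu x)) := by
    unfold psiBar
    apply D.Psi_congr t htQ hu
    rw [liftA_coe, D.mk_lift, h1]
    rfl
  have e2 : (⟨phi t htQ h0 * ((phiR t htQ b : Rb t htQ) :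
      Subgroup.centralizer ({zb t htQ} : Set (Subgroup.centralizer ({t} : Set G) ⧸ Tt t))) *
        (phi t htQ h0)⁻¹, hRn.conj_mem _ (phiR t htQ b).2 (phi t htQ h0)⟩ : Rb t htQ) =
      phiR t htQ (conjA t htQ h0 b) := by
    apply Subtype.ext
    show phi t htQ h0 * phiQ t htQ b * (phi t htQ h0)⁻¹ = phiQ t htQ (conjA t htQ h0 b)
    rw [phiQ_apply, phiQ_apply, jA_conjA, map_mul, map_mul, map_inv]
  rw [e2, e1, ← Psi_apply]
  apply D.Psi_conjA t htQ hu
  exact hq

end baby

section final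

variable (t : G) (htQ : InQ Q t) (hu : D.ψ Spor.leechU = QuotientGroup.mk htQ.toQ)
  [hn : (Tt t).Normal]

include D hu in
/-- S5412 for a normalized identification. -/
theorem baby (hnwc : ∃ g : G, InQ Q (g * z * g⁻¹) ∧ g * z * g⁻¹ ≠ z) (ht : ¬ IsConj z t) :
    Cfsg.IsOfBabyMonsterType (Subgroup.centralizer ({t} : Set G) ⧸ Tt t) := by
  haveI hRn := D.normal_Rb t htQ Spor.leechU nrm_lA hu
  refine ⟨zb t htQ, Rb t htQ, hRn,
    ⟨D.orderOf_zb t htQ Spor.leechU nrm_lA hu, D.fstar_eq t htQ Spor.leechU nrm_lA hu,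
      D.isExtraspecial_Rb t htQ Spor.leechU nrm_lA hu, ?_,
      D.nwc_bar t htQ Spor.leechU nrm_lA hu hnwc ht⟩, ?_⟩
  · rw [D.card_Rb t htQ Spor.leechU nrm_lA hu]
  · exact ⟨D.eBar t htQ hu, D.psiBar t htQ hu, D.psiBar_add t htQ hu, D.psiBar_surjective t htQ hu,
      D.psiBar_eq_one_iff t htQ hu,
      fun h g he x y hxy q hq => D.psiBar_equivariant t htQ hu h g he x y hxy q hq⟩

end final

end Dat

/-- S5412: `C_G(t) / ⟨t⟩` is of Baby Monster type. -/
theorem baby_of_monster (hM : IsOfMonsterType z Q) (t : G) (htQ : InQ Q t) (ht2 : orderOf t = 2)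
    (ht : ¬ IsConj z t) [hn : (Tt t).Normal] :
    Cfsg.IsOfBabyMonsterType (Subgroup.centralizer ({t} : Set G) ⧸ Tt t) := by
  obtain ⟨D0⟩ := nonempty_dat hM
  have hnwc := nwc_of hM
  obtain ⟨v, hv32, hψv⟩ := D0.nrm32_of_not_conj hnwc t htQ ht2 ht
  obtain ⟨g0, hg0⟩ := Cfsg.Agent.Lib.Helper14.LeechOrbit.co0_trans32 Spor.leechU v nrm_lA hv32
  obtain ⟨D, hD⟩ := D0.exists_twist g0
  have hu : D.ψ Spor.leechU = QuotientGroup.mk htQ.toQ := by rw [hD, hg0, hψv]
  exact D.baby t htQ hu hnwc ht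

end Cfsg.Agent.Lib.Helper14.MonT
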