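import Mathlib
import Cfsg.Agent.Lib.Helper16.NM.Base

/-!
# S4146 leaf CM (helper14): centralizers of non-central `s`-elements lie in `M`
-/

set_option autoImplicit false

namespace Cfsg.Agent.Lib.Helper14.NM

open Cfsg.Agent.Lib.Helper22.ClsSet Cfsg.Agent.Lib.Helper16.NM

variable {G : Type*} [Group G] [Finite G] {n m : ℕ}

/-- if `k` commutes with a non-central `s`-element `v` then `s` divides `|C(k) : Z(G)|` -/
theorem prime_dvd_relIndex_center_centralizer {s : ℕ} [Fact s.Prime] {v k : G} (hvs : PEl s v)
    (hvz : v ∉ Subgroup.center G) (hc : Commute v k) :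
    s ∣ (Subgroup.center G).relIndex (Subgroup.centralizer ({k} : Set G)) := by
  have hp : s.Prime := Fact.out
  have hvC : v ∈ Subgroup.centralizer ({k} : Set G) := by
    rw [mem_cent_singleton]; exact hc.symm.eq
  by_contra hnd
  have h1 : (⟨v, hvC⟩ : Subgroup.centralizer ({k} : Set G)) ^
      ((Subgroup.center G).subgroupOf (Subgroup.centralizer ({k} : Set G))).index ∈
      (Subgroup.center G).subgroupOf (Subgroup.centralizer ({k} : Set G)) :=
    Subgroup.pow_index_mem _ _
  have h2 : v ^ (Subgroup.center G).relIndex (Subgroup.centralizer ({k} : Set G)) ∈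
      Subgroup.center G := by
    rw [Subgroup.mem_subgroupOf] at h1
    have h1' : v ^ ((Subgroup.center G).subgroupOf
        (Subgroup.centralizer ({k} : Set G))).index ∈ Subgroup.center G := by
      simpa using h1
    exact h1'
  obtain ⟨j, hj⟩ := hvs
  have hcop : ((Subgroup.center G).relIndex (Subgroup.centralizer ({k} : Set G))).Coprime
      (orderOf v) := by
    rw [hj]
    exact Nat.Coprime.pow_right _ ((Nat.Prime.coprime_iff_not_dvd hp).2 hnd).symm
  obtain ⟨e, he⟩ := exists_pow_eq_self_of_coprime hcop
  apply hvz
  rw [← he]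
  exact Subgroup.pow_mem _ h2 _

/-- CM: centralizers of non-central `s`-elements lie in `M` once all `s`-elements do and
`|G|_s = n_s |Z|_s` -/
theorem CM (h : CS G n m) (hlt : m < n) {s : ℕ} [Fact s.Prime]
    (hall : ∀ g : G, PEl s g → g ∈ M h hlt)
    (hcard : (Nat.card G).factorization s =
      n.factorization s + (Nat.card (Subgroup.center G)).factorization s)
    {v : G} (hvs : PEl s v) (hvz : v ∉ Subgroup.center G) :
    Subgroup.centralizer ({v} : Set G) ≤ M h hlt := by
  intro k hk
  have _ := hall
  have hp : s.Prime := Fact.out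
  have hck : Commute v k := by
    rw [mem_cent_singleton] at hk; exact hk
  have hr := prime_dvd_relIndex_center_centralizer hvs hvz hck
  have hZC : Subgroup.center G ≤ Subgroup.centralizer ({k} : Set G) :=
    Subgroup.center_le_centralizer _
  have hG : Nat.card G = Nat.card (Subgroup.center G) *
      ((Subgroup.center G).relIndex (Subgroup.centralizer ({k} : Set G)) * idx k) := by
    unfold idx
    rw [Subgroup.relIndex_mul_index hZC]
    exact (Subgroup.card_mul_index _).symm
  rw [mem_M]
  by_contra hcon
  have hn : n ∣ idx k := by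
    rcases h.cs k with h1 | h1 | h1 | h1
    · exact absurd (Or.inl h1) hcon
    · rw [h1]
    · exact absurd (Or.inr h1) hcon
    · rw [h1]; exact dvd_mul_right n m
  have hZ0 : Nat.card (Subgroup.center G) ≠ 0 := Nat.card_pos.ne'
  have hi0 : idx k ≠ 0 := idx_ne_zero k
  have hr0 : (Subgroup.center G).relIndex (Subgroup.centralizer ({k} : Set G)) ≠ 0 := by
    intro h0
    rw [h0, zero_mul, mul_zero] at hG
    exact Nat.card_pos.ne' hG
  have h1 : 0 < ((Subgroup.center G).relIndex
      (Subgroup.centralizer ({k} : Set G))).factorization s :=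
    hp.factorization_pos_of_dvd hr0 hr
  have h2 : n.factorization s ≤ (idx k).factorization s :=
    (Nat.factorization_le_iff_dvd (by have := h.one_lt_n; omega) hi0).2 hn s
  have h3 : (Nat.card G).factorization s = (Nat.card (Subgroup.center G)).factorization s +
      (((Subgroup.center G).relIndex (Subgroup.centralizer ({k} : Set G))).factorization s +
        (idx k).factorization s) := by
    rw [hG, Nat.factorization_mul hZ0 (mul_ne_zero hr0 hi0), Nat.factorization_mul hr0 hi0]
    rfl
  omega
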