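import Mathlib
import Cfsg.Agent.Lib.Helper16.NM.Base
import Cfsg.Agent.Lib.Helper17.ClassGraph1
import Cfsg.Agent.Lib.Helper22.Frobenius

/-!
# S4146 leaf M3 (helper14): for `p ∤ m` the `p`-elements of `M` are central in `M`
-/

set_option autoImplicit false

namespace Cfsg.Agent.Lib.Helper14.NM

open Cfsg.Agent.Lib.Helper22.ClsSet Cfsg.Agent.Lib.Helper16.NM

variable {G : Type*} [Group G] [Finite G] {n m : ℕ}

/-- the centralizer of an element of a subgroup, computed inside the subgroup -/
theorem centralizer_subtype_eq (K : Subgroup G) (w : K) :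
    Subgroup.centralizer ({w} : Set K) =
      (Subgroup.centralizer ({(w : G)} : Set G)).subgroupOf K := by
  ext x
  rw [Subgroup.mem_subgroupOf, mem_cent_singleton, mem_cent_singleton]
  constructor
  · intro hx
    have := congrArg (Subtype.val) hx
    simpa using this
  · intro hx
    apply Subtype.ext
    simpa using hx

/-- M3: for `p ∤ m` the `p`-elements of `M` are central in `M` -/
theorem M3 (h : CS G n m) (hlt : m < n) {p : ℕ} [Fact p.Prime] (hpm : ¬ p ∣ m) {y z : G}
    (hy : y ∈ M h hlt) (hyp : PEl p y) (hz : z ∈ M h hlt) : Commute y z := by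
  have hp : p.Prime := Fact.out
  -- Step A: `p` does not divide the index of the centralizer in `M` of an element of `M`
  have hA : ∀ w : M h hlt,
      ¬ p ∣ Cfsg.Agent.Lib.Helper17.ClassGraph.ind w := by
    intro w hdvd
    have h1 : Cfsg.Agent.Lib.Helper17.ClassGraph.ind w =
        (Subgroup.centralizer ({(w : G)} : Set G)).relIndex (M h hlt) := by
      unfold Cfsg.Agent.Lib.Helper17.ClassGraph.ind
      rw [centralizer_subtype_eq]
      rfl
    have h2 : (Subgroup.centralizer ({(w : G)} : Set G)).relIndex (M h hlt) ∣ idx (w : G) :=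
      Cfsg.Agent.Lib.Helper17.ClassGraph.relIndex_dvd_index_of_normal' _ _
    have h3 : p ∣ idx (w : G) := by
      rw [h1] at hdvd
      exact dvd_trans hdvd h2
    rcases (mem_M h hlt (w : G)).1 w.2 with h4 | h4
    · rw [h4] at h3
      exact hp.one_lt.ne' (Nat.dvd_one.1 h3)
    · rw [h4] at h3
      exact hpm h3
  -- Step B: a Sylow `p`-subgroup of `M` containing `y`
  obtain ⟨k, hk⟩ := hyp
  set y' : M h hlt := ⟨y, hy⟩ with hy'
  have hord : orderOf y' = p ^ k := by
    rw [← hk, ← Subgroup.orderOf_coe y']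
  have hPG : IsPGroup p (Subgroup.zpowers y') := by
    apply IsPGroup.of_card (n := k)
    rw [Nat.card_zpowers, hord]
  obtain ⟨P, hP⟩ := hPG.exists_le_sylow
  -- Step C: the centralizer of `P` in `M` is everything
  have hC : Subgroup.centralizer ((P : Subgroup (M h hlt)) : Set (M h hlt)) = ⊤ := by
    by_contra hne
    obtain ⟨x, _, hx⟩ := Cfsg.Agent.Lib.Helper22.exists_ne_one_forall_conj_not_mem _ hne
    obtain ⟨g, hg⟩ :=
      Cfsg.Agent.Lib.Helper17.ClassGraph.exists_conj_mem_centralizer_sylow P x (hA x)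
    have := hx g⁻¹
    rw [inv_inv] at this
    exact this hg
  -- Step D
  have hzc : (⟨z, hz⟩ : M h hlt) ∈
      Subgroup.centralizer ((P : Subgroup (M h hlt)) : Set (M h hlt)) := by
    rw [hC]; exact Subgroup.mem_top _
  rw [Subgroup.mem_centralizer_iff] at hzc
  have h5 := hzc y' (hP (Subgroup.mem_zpowers y'))
  have h6 := congrArg (Subtype.val) h5
  simp only [Subgroup.coe_mul] at h6
  exact h6
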