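import Mathlib
import Cfsg.Agent.Lib.Helper16.OOEndConDefs
import Cfsg.Agent.Lib.Helper6.OOEndCB

set_option autoImplicit false
set_option linter.unusedSimpArgs false
set_option linter.unusedSectionVars false

namespace Cfsg.Agent.Lib.Helper14.OOEndCC

open Matrix Cfsg.Agent.Lib.Helper16.OOEnd Cfsg.Agent.Lib.Helper26.OOMin Cfsg.Agent.Lib.Helper27.OPMin

variable {F : Type*} [Field F] {n : ℕ}

theorem radMatO_mulVec (R : Matrix (Fin n) (Fin n) F) (u : Ix n → F) :
    radMatO R *ᵥ u = mk (c0 u) (cx u + (R - Rᵀ) *ᵥ cy u) (cy u) := by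
  funext k
  rcases k with ⟨⟩ | k | k
  · simp [radMatO, embO, radMat, mulVec, dotProduct, Fintype.sum_sum_type, mk, c0, cx, cy,
      Matrix.one_apply]
  · simp [radMatO, embO, radMat, mulVec, dotProduct, Fintype.sum_sum_type, mk, c0, cx, cy,
      Matrix.one_apply]
  · simp [radMatO, embO, radMat, mulVec, dotProduct, Fintype.sum_sum_type, mk, c0, cx, cy,
      Matrix.one_apply]

theorem leviMatO_mulVec (g : Matrix (Fin n) (Fin n) F) (u : Ix n → F) :
    leviMatO g *ᵥ u = mk (c0 u) (g *ᵥ cx u) ((g⁻¹)ᵀ *ᵥ cy u) := by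
  funext k
  rcases k with ⟨⟩ | k | k
  · simp [leviMatO, embO, leviMat, mulVec, dotProduct, Fintype.sum_sum_type, mk, c0, cx, cy,
      Matrix.one_apply]
  · simp [leviMatO, embO, leviMat, mulVec, dotProduct, Fintype.sum_sum_type, mk, c0, cx, cy,
      Matrix.one_apply]
  · simp [leviMatO, embO, leviMat, mulVec, dotProduct, Fintype.sum_sum_type, mk, c0, cx, cy,
      Matrix.one_apply]

theorem shoMat_mulVec (c : Fin n → F) (u : Ix n → F) :
    shoMat c *ᵥ u = mk (c0 u - c ⬝ᵥ cy u) (cx u + (2 * c0 u - c ⬝ᵥ cy u) • c) (cy u) := by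
  funext k
  rcases k with ⟨⟩ | k | k
  · simp [shoMat, mulVec, dotProduct, Fintype.sum_sum_type, mk, c0, cx, cy,
      Matrix.one_apply]
    ring
  · simp [shoMat, mulVec, dotProduct, Fintype.sum_sum_type, mk, c0, cx, cy,
      Matrix.one_apply, vecMulVec_apply]
    simp_rw [mul_assoc, ← Finset.mul_sum]
    ring
  · simp [shoMat, mulVec, dotProduct, Fintype.sum_sum_type, mk, c0, cx, cy,
      Matrix.one_apply]

theorem sum_ite_and (a k : Fin n) (f : Fin n → F) :
    (∑ x, if a = k ∧ a = x then f x else 0) = if k = a then f a else 0 := by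
  by_cases h : a = k
  · subst h
    simp
  · have h' : ¬ k = a := fun e => h e.symm
    simp [h, h']

theorem nsMat_mulVec (a : Fin n) (u : Ix n → F) :
    nsMat a *ᵥ u = mk (-c0 u) (cx u - Pi.single a (cx u a + cy u a))
      (cy u - Pi.single a (cx u a + cy u a)) := by
  funext k
  rcases k with ⟨⟩ | k | k
  · simp [nsMat, mulVec, dotProduct, Fintype.sum_sum_type, mk, c0, cx, cy,
      Matrix.one_apply]
  · simp [nsMat, mulVec, dotProduct, Fintype.sum_sum_type, mk, c0, cx, cy,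
      Matrix.one_apply, Matrix.single_apply, Pi.single_apply, sub_mul, Finset.sum_sub_distrib]
    rw [sum_ite_and, sum_ite_and]
    split_ifs <;> ring
  · simp [nsMat, mulVec, dotProduct, Fintype.sum_sum_type, mk, c0, cx, cy,
      Matrix.one_apply, Matrix.single_apply, Pi.single_apply, sub_mul, Finset.sum_sub_distrib]
    rw [sum_ite_and, sum_ite_and]
    split_ifs <;> ring

/-! ### the four basic matrices preserve the form -/

theorem transpose_mulVec_dot (R : Matrix (Fin n) (Fin n) F) (y : Fin n → F) :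
    (Rᵀ *ᵥ y) ⬝ᵥ y = (R *ᵥ y) ⬝ᵥ y := by
  rw [dotProduct_comm (Rᵀ *ᵥ y) y, dotProduct_mulVec, vecMul_transpose]

theorem Qp_radMatO (R : Matrix (Fin n) (Fin n) F) (u : Ix n → F) :
    Qp (radMatO R *ᵥ u) = Qp u := by
  rw [radMatO_mulVec, Qp_eq, Qp_eq, c0_mk, cx_mk, cy_mk, add_dotProduct, sub_mulVec,
    sub_dotProduct, transpose_mulVec_dot]
  ring

theorem levi_dot (g : Matrix (Fin n) (Fin n) F) (hg : IsUnit g.det) (x y : Fin n → F) :
    (g *ᵥ x) ⬝ᵥ ((g⁻¹)ᵀ *ᵥ y) = x ⬝ᵥ y := by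
  rw [dotProduct_comm, dotProduct_mulVec, mulVec_transpose, vecMul_vecMul,
    Matrix.nonsing_inv_mul g hg, vecMul_one, dotProduct_comm]

theorem Qp_leviMatO (g : Matrix (Fin n) (Fin n) F) (hg : IsUnit g.det) (u : Ix n → F) :
    Qp (leviMatO g *ᵥ u) = Qp u := by
  rw [leviMatO_mulVec, Qp_eq, Qp_eq, c0_mk, cx_mk, cy_mk, levi_dot g hg]

theorem Qp_shoMat (c : Fin n → F) (u : Ix n → F) : Qp (shoMat c *ᵥ u) = Qp u := by
  rw [shoMat_mulVec, Qp_eq, Qp_eq, c0_mk, cx_mk, cy_mk, add_dotProduct, smul_dotProduct,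
    smul_eq_mul]
  ring

theorem Qp_nsMat (a : Fin n) (u : Ix n → F) : Qp (nsMat a *ᵥ u) = Qp u := by
  rw [nsMat_mulVec, Qp_eq, Qp_eq, c0_mk, cx_mk, cy_mk, sub_dotProduct, dotProduct_sub,
    dotProduct_sub, single_dotProduct, dotProduct_single, single_dotProduct]
  simp only [Pi.single_eq_same]
  ring

/-! ### coordinates of the special vectors, `Fin.cons` toolkit -/

section big

variable {m : ℕ}

theorem e0_eq : (e0 : Ix (m + 1) → F) = mk 0 (Pi.single 0 1) 0 := by
  funext k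
  rcases k with ⟨⟩ | k | k
  · simp [e0, mk]
  · by_cases h : k = 0
    · subst h
      simp [e0, mk]
    · simp [e0, mk, h]
  · simp [e0, mk]

theorem f0_eq : (f0 : Ix (m + 1) → F) = mk 0 0 (Pi.single 0 1) := by
  funext k
  rcases k with ⟨⟩ | k | k
  · simp [f0, mk]
  · simp [f0, mk]
  · by_cases h : k = 0
    · subst h
      simp [f0, mk]
    · simp [f0, mk, h]

theorem hat_eq (z : Ix m → F) :
    hat z = mk (c0 z) (Fin.cons 0 (cx z) : Fin (m + 1) → F) (Fin.cons 0 (cy z)) := rfl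

theorem smul_mk (l a : F) (x y : Fin n → F) : l • mk a x y = mk (l * a) (l • x) (l • y) := by
  funext k
  rcases k with ⟨⟩ | k | k <;> rfl

theorem mk_congr {a a' : F} {x x' y y' : Fin n → F} (ha : a = a') (hx : x = x') (hy : y = y') :
    mk a x y = mk a' x' y' := by rw [ha, hx, hy]

theorem cons_dot (a b : F) (x y : Fin m → F) :
    (Fin.cons a x : Fin (m + 1) → F) ⬝ᵥ (Fin.cons b y : Fin (m + 1) → F) = a * b + x ⬝ᵥ y := by
  simp [dotProduct, Fin.sum_univ_succ]

theorem embMat_mulVec_cons (a : F) (A : Matrix (Fin m) (Fin m) F) (x0 : F) (x : Fin m → F) :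
    embMat a A *ᵥ (Fin.cons x0 x : Fin (m + 1) → F) = Fin.cons (a * x0) (A *ᵥ x) := by
  funext k
  refine Fin.cases ?_ (fun k' => ?_) k
  · simp [mulVec, dotProduct, Fin.sum_univ_succ]
  · simp [mulVec, dotProduct, Fin.sum_univ_succ]

theorem embMat_transpose (a : F) (A : Matrix (Fin m) (Fin m) F) :
    (embMat a A)ᵀ = embMat a Aᵀ := by
  ext i j
  refine Fin.cases ?_ (fun i' => ?_) i <;> refine Fin.cases ?_ (fun j' => ?_) j <;> simp

theorem embMat_mul (a b : F) (A B : Matrix (Fin m) (Fin m) F) :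
    embMat a A * embMat b B = embMat (a * b) (A * B) := by
  ext i j
  refine Fin.cases ?_ (fun i' => ?_) i <;> refine Fin.cases ?_ (fun j' => ?_) j <;>
    simp [Matrix.mul_apply, Fin.sum_univ_succ]

theorem embMat_one : embMat (1 : F) (1 : Matrix (Fin m) (Fin m) F) = 1 := by
  ext i j
  refine Fin.cases ?_ (fun i' => ?_) i <;> refine Fin.cases ?_ (fun j' => ?_) j <;>
    simp [Matrix.one_apply, Fin.succ_ne_zero, (Fin.succ_ne_zero _).symm]

theorem embMat_sub (a b : F) (A B : Matrix (Fin m) (Fin m) F) :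
    embMat a A - embMat b B = embMat (a - b) (A - B) := by
  ext i j
  refine Fin.cases ?_ (fun i' => ?_) i <;> refine Fin.cases ?_ (fun j' => ?_) j <;> simp

theorem single_succ (a : Fin m) (t : F) :
    (Pi.single a.succ t : Fin (m + 1) → F) = Fin.cons 0 (Pi.single a t) := by
  funext k
  refine Fin.cases ?_ (fun k' => ?_) k
  · simp [Pi.single_apply, (Fin.succ_ne_zero a).symm]
  · simp [Pi.single_apply]

theorem single_zero_eq : (Pi.single 0 1 : Fin (m + 1) → F) = Fin.cons 1 0 := by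
  funext k
  refine Fin.cases ?_ (fun k' => ?_) k
  · simp
  · simp [Pi.single_apply, Fin.succ_ne_zero]

theorem cons_add (a b : F) (x y : Fin m → F) :
    (Fin.cons a x : Fin (m + 1) → F) + Fin.cons b y = Fin.cons (a + b) (x + y) := by
  funext k
  refine Fin.cases ?_ (fun k' => ?_) k <;> simp

theorem cons_sub (a b : F) (x y : Fin m → F) :
    (Fin.cons a x : Fin (m + 1) → F) - Fin.cons b y = Fin.cons (a - b) (x - y) := by
  funext k
  refine Fin.cases ?_ (fun k' => ?_) k <;> simp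

theorem smul_cons (l a : F) (x : Fin m → F) :
    l • (Fin.cons a x : Fin (m + 1) → F) = Fin.cons (l * a) (l • x) := by
  funext k
  refine Fin.cases ?_ (fun k' => ?_) k <;> simp


theorem cons_zero_zero : (Fin.cons (0 : F) (0 : Fin m → F) : Fin (m + 1) → F) = 0 := by
  funext k
  refine Fin.cases ?_ (fun k' => ?_) k <;> simp

theorem embSL_coe (g : SpecialLinearGroup (Fin m) F) :
    ((embSL g : SpecialLinearGroup (Fin (m + 1)) F) : Matrix (Fin (m + 1)) (Fin (m + 1)) F) =
      embMat 1 (g : Matrix (Fin m) (Fin m) F) := rfl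

theorem dg2_coe (i : Fin m) (b : Fˣ) :
    ((dg2 i b : SpecialLinearGroup (Fin (m + 1)) F) : Matrix (Fin (m + 1)) (Fin (m + 1)) F) =
      Matrix.diagonal (Fin.cons (b : F) (fun k => if k = i then ((b⁻¹ : Fˣ) : F) else 1)) := rfl

theorem embSL_inv (g : SpecialLinearGroup (Fin m) F) :
    (embMat 1 (g : Matrix (Fin m) (Fin m) F))⁻¹ =
      embMat 1 ((g⁻¹ : SpecialLinearGroup (Fin m) F) : Matrix (Fin m) (Fin m) F) := by
  apply Matrix.inv_eq_right_inv
  rw [embMat_mul, mul_one, Matrix.SpecialLinearGroup.coe_inv, mul_adjugate, g.det_coe, one_smul,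
    embMat_one]

theorem e0_hat_coords : (e0 : Ix (m + 1) → F) = mk 0 (Fin.cons 1 0) (Fin.cons 0 0) := by
  rw [e0_eq, single_zero_eq, cons_zero_zero]

theorem f0_hat_coords : (f0 : Ix (m + 1) → F) = mk 0 (Fin.cons 0 0) (Fin.cons 1 0) := by
  rw [f0_eq, single_zero_eq, cons_zero_zero]

theorem one_units_smul (v : Ix (m + 1) → F) : (((1 : Fˣ) : F)) • v = v := by
  rw [Units.val_one, one_smul]

theorem one_inv_units_smul (v : Ix (m + 1) → F) : ((((1 : Fˣ)⁻¹ : Fˣ) : F)) • v = v := by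
  rw [inv_one, Units.val_one, one_smul]

/-! ### `nsMat` is an involution -/

theorem nsMat_mul_self (a : Fin (m + 1)) : (nsMat a : Matrix _ _ F) * nsMat a = 1 := by
  apply Matrix.mulVec_injective
  funext u
  rw [← mulVec_mulVec, one_mulVec, nsMat_mulVec, nsMat_mulVec]
  simp only [c0_mk, cx_mk, cy_mk, Pi.sub_apply, Pi.single_eq_same]
  refine (mk_congr (neg_neg _) ?_ ?_).trans (mk_eta u)
  · funext k
    by_cases h : k = a
    · subst h
      simp
    · simp [Pi.single_apply, h]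
  · funext k
    by_cases h : k = a
    · subst h
      simp
    · simp [Pi.single_apply, h]

/-! ### the five conjugations -/

theorem lv_ubarMat (g : SpecialLinearGroup (Fin m) F) (z : Ix m → F) :
    leviMatO ((embSL g : SpecialLinearGroup (Fin (m + 1)) F) : Matrix (Fin (m + 1)) (Fin (m + 1)) F) *
        ubarMat z =
      ubarMat (actL g z) *
        leviMatO ((embSL g : SpecialLinearGroup (Fin (m + 1)) F) :
          Matrix (Fin (m + 1)) (Fin (m + 1)) F) := by
  have hdet : IsUnit ((embSL g : SpecialLinearGroup (Fin (m + 1)) F) :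
      Matrix (Fin (m + 1)) (Fin (m + 1)) F).det := by
    have h1 : ((embSL g : SpecialLinearGroup (Fin (m + 1)) F) :
        Matrix (Fin (m + 1)) (Fin (m + 1)) F).det = 1 := (embSL g).2
    rw [h1]
    exact isUnit_one
  refine Cfsg.Agent.Lib.Helper6.OOEndCB.conj_ubarMat _ (fun u => Qp_leviMatO _ hdet u) 1 ?_ ?_ z
    (actL g z) ?_
  · rw [one_units_smul, leviMatO_mulVec, embSL_coe, embSL_inv, embMat_transpose, e0_hat_coords,
      c0_mk, cx_mk, cy_mk, embMat_mulVec_cons, embMat_mulVec_cons]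
    simp
  · rw [one_inv_units_smul, leviMatO_mulVec, embSL_coe, embSL_inv, embMat_transpose, f0_hat_coords,
      c0_mk, cx_mk, cy_mk, embMat_mulVec_cons, embMat_mulVec_cons]
    simp
  · rw [one_units_smul, leviMatO_mulVec, embSL_coe, embSL_inv, embMat_transpose, hat_eq, hat_eq,
      c0_mk, cx_mk, cy_mk, embMat_mulVec_cons, embMat_mulVec_cons]
    simp [actL]

theorem rd_ubarMat (R : Matrix (Fin m) (Fin m) F) (z : Ix m → F) :
    radMatO (embMat 0 R) * ubarMat z = ubarMat (actR R z) * radMatO (embMat 0 R) := by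
  refine Cfsg.Agent.Lib.Helper6.OOEndCB.conj_ubarMat _ (fun u => Qp_radMatO _ u) 1 ?_ ?_ z
    (actR R z) ?_
  · rw [one_units_smul, radMatO_mulVec, embMat_transpose, embMat_sub, e0_hat_coords,
      c0_mk, cx_mk, cy_mk, embMat_mulVec_cons, cons_add]
    simp
  · rw [one_inv_units_smul, radMatO_mulVec, embMat_transpose, embMat_sub, f0_hat_coords,
      c0_mk, cx_mk, cy_mk, embMat_mulVec_cons, cons_add]
    simp
  · rw [one_units_smul, radMatO_mulVec, embMat_transpose, embMat_sub, hat_eq, hat_eq,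
      c0_mk, cx_mk, cy_mk, embMat_mulVec_cons, cons_add]
    simp [actR]

theorem sh_ubarMat (c : Fin m → F) (z : Ix m → F) :
    shoMat (Fin.cons 0 c : Fin (m + 1) → F) * ubarMat z =
      ubarMat (actS c z) * shoMat (Fin.cons 0 c : Fin (m + 1) → F) := by
  refine Cfsg.Agent.Lib.Helper6.OOEndCB.conj_ubarMat _ (fun u => Qp_shoMat _ u) 1 ?_ ?_ z
    (actS c z) ?_
  · rw [one_units_smul, shoMat_mulVec, e0_hat_coords, c0_mk, cx_mk, cy_mk, cons_dot]
    simp
  · rw [one_inv_units_smul, shoMat_mulVec, f0_hat_coords, c0_mk, cx_mk, cy_mk, cons_dot, smul_cons,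
      cons_add]
    simp
  · rw [one_units_smul, shoMat_mulVec, hat_eq, hat_eq, c0_mk, cx_mk, cy_mk, cons_dot, smul_cons,
      cons_add]
    simp [actS]


/-- the action of `nsMat a.succ` on `V'` -/
def nsAct (a : Fin m) (z : Ix m → F) : Ix m → F :=
  mk (-c0 z) (cx z - Pi.single a (cx z a + cy z a)) (cy z - Pi.single a (cx z a + cy z a))

theorem nsMat_succ_e0 (a : Fin m) : nsMat a.succ *ᵥ (e0 : Ix (m + 1) → F) = e0 := by
  rw [nsMat_mulVec, e0_hat_coords, c0_mk, cx_mk, cy_mk]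
  simp

theorem nsMat_succ_f0 (a : Fin m) : nsMat a.succ *ᵥ (f0 : Ix (m + 1) → F) = f0 := by
  rw [nsMat_mulVec, f0_hat_coords, c0_mk, cx_mk, cy_mk]
  simp

theorem nsMat_succ_hat (a : Fin m) (z : Ix m → F) :
    nsMat a.succ *ᵥ hat z = hat (nsAct a z) := by
  rw [nsMat_mulVec, hat_eq, hat_eq, c0_mk, cx_mk, cy_mk, single_succ, cons_sub, cons_sub]
  simp [nsAct]

theorem shoMat_succ_e0 (c : Fin m → F) :
    shoMat (Fin.cons 0 c : Fin (m + 1) → F) *ᵥ (e0 : Ix (m + 1) → F) = e0 := by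
  rw [shoMat_mulVec, e0_hat_coords, c0_mk, cx_mk, cy_mk, cons_dot]
  simp

theorem shoMat_succ_f0 (c : Fin m → F) :
    shoMat (Fin.cons 0 c : Fin (m + 1) → F) *ᵥ (f0 : Ix (m + 1) → F) = f0 := by
  rw [shoMat_mulVec, f0_hat_coords, c0_mk, cx_mk, cy_mk, cons_dot, smul_cons, cons_add]
  simp

theorem shoMat_succ_hat (c : Fin m → F) (z : Ix m → F) :
    shoMat (Fin.cons 0 c : Fin (m + 1) → F) *ᵥ hat z = hat (actS c z) := by
  rw [shoMat_mulVec, hat_eq, hat_eq, c0_mk, cx_mk, cy_mk, cons_dot, smul_cons, cons_add]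
  simp [actS]

theorem nsAct_actS_nsAct (a : Fin m) (t : F) (z : Ix m → F) :
    nsAct a (actS (Pi.single a t) (nsAct a z)) = actN a t z := by
  apply ext_coords
  · simp [nsAct, actS, actN]
    ring
  · funext k
    by_cases h : k = a
    · subst h
      simp [nsAct, actS, actN]
    · simp [nsAct, actS, actN, Pi.single_apply, h]
  · funext k
    by_cases h : k = a
    · subst h
      simp [nsAct, actS, actN]
      ring
    · simp [nsAct, actS, actN, Pi.single_apply, h]

theorem ng_ubarMat (a : Fin m) (t : F) (z : Ix m → F) :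
    nsMat a.succ * shoMat (Pi.single a.succ t : Fin (m + 1) → F) * nsMat a.succ * ubarMat z =
      ubarMat (actN a t z) *
        (nsMat a.succ * shoMat (Pi.single a.succ t : Fin (m + 1) → F) * nsMat a.succ) := by
  have hmv : ∀ u : Ix (m + 1) → F,
      (nsMat a.succ * shoMat (Pi.single a.succ t : Fin (m + 1) → F) * nsMat a.succ) *ᵥ u =
        nsMat a.succ *ᵥ (shoMat (Fin.cons 0 (Pi.single a t) : Fin (m + 1) → F) *ᵥ
          (nsMat a.succ *ᵥ u)) := by
    intro u
    rw [single_succ, mulVec_mulVec, mulVec_mulVec]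
  refine Cfsg.Agent.Lib.Helper6.OOEndCB.conj_ubarMat _ (fun u => ?_) 1 ?_ ?_ z (actN a t z) ?_
  · rw [hmv]
    exact (Qp_nsMat _ _).trans ((Qp_shoMat _ _).trans (Qp_nsMat _ _))
  · rw [one_units_smul, hmv, nsMat_succ_e0, shoMat_succ_e0, nsMat_succ_e0]
  · rw [one_inv_units_smul, hmv, nsMat_succ_f0, shoMat_succ_f0, nsMat_succ_f0]
  · rw [one_units_smul, hmv, nsMat_succ_hat, shoMat_succ_hat, nsMat_succ_hat, nsAct_actS_nsAct]

/-! ### the torus move -/

theorem diagonal_inv_of (d d' : Fin (m + 1) → F) (h : ∀ k, d k * d' k = 1) :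
    (Matrix.diagonal d)⁻¹ = Matrix.diagonal d' := by
  apply Matrix.inv_eq_right_inv
  rw [Matrix.diagonal_mul_diagonal]
  have : (fun i => d i * d' i) = fun _ => (1 : F) := funext h
  rw [this]
  exact Matrix.diagonal_one

theorem diagonal_mulVec_cons (a : F) (d : Fin m → F) (x0 : F) (x : Fin m → F) :
    Matrix.diagonal (Fin.cons a d : Fin (m + 1) → F) *ᵥ (Fin.cons x0 x : Fin (m + 1) → F) =
      Fin.cons (a * x0) (fun k => d k * x k) := by
  funext k
  rw [Matrix.mulVec_diagonal]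
  refine Fin.cases ?_ (fun k' => ?_) k <;> simp

theorem sc_ubarMat (i : Fin m) (s : Fˣ) (z : Ix m → F) :
    leviMatO ((dg2 i s⁻¹ : SpecialLinearGroup (Fin (m + 1)) F) :
        Matrix (Fin (m + 1)) (Fin (m + 1)) F) * ubarMat z =
      ubarMat (actC i (s : F) z) *
        leviMatO ((dg2 i s⁻¹ : SpecialLinearGroup (Fin (m + 1)) F) :
          Matrix (Fin (m + 1)) (Fin (m + 1)) F) := by
  have hdet : IsUnit ((dg2 i s⁻¹ : SpecialLinearGroup (Fin (m + 1)) F) :
      Matrix (Fin (m + 1)) (Fin (m + 1)) F).det := by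
    have h1 : ((dg2 i s⁻¹ : SpecialLinearGroup (Fin (m + 1)) F) :
        Matrix (Fin (m + 1)) (Fin (m + 1)) F).det = 1 := (dg2 i s⁻¹).2
    rw [h1]
    exact isUnit_one
  have hs : ((s⁻¹ : Fˣ) : F) * (s : F) = 1 := by
    rw [← Units.val_mul, inv_mul_cancel, Units.val_one]
  have hs' : (s : F) * ((s⁻¹ : Fˣ) : F) = 1 := by rw [mul_comm]; exact hs
  have hinv : (Matrix.diagonal (Fin.cons ((s⁻¹ : Fˣ) : F)
      (fun k => if k = i then (((s⁻¹)⁻¹ : Fˣ) : F) else 1) : Fin (m + 1) → F))⁻¹ =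
      Matrix.diagonal (Fin.cons (s : F) (fun k => if k = i then ((s⁻¹ : Fˣ) : F) else 1)) := by
    apply diagonal_inv_of
    intro k
    refine Fin.cases ?_ (fun k' => ?_) k
    · simp
    · by_cases h : k' = i
      · simp [h]
      · simp [h]
  refine Cfsg.Agent.Lib.Helper6.OOEndCB.conj_ubarMat _ (fun u => Qp_leviMatO _ hdet u) s⁻¹ ?_ ?_ z
    (actC i (s : F) z) ?_
  · rw [leviMatO_mulVec, dg2_coe, hinv, Matrix.diagonal_transpose, e0_hat_coords, c0_mk, cx_mk,
      cy_mk, diagonal_mulVec_cons, diagonal_mulVec_cons, smul_mk, smul_cons, smul_cons]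
    simp
    rfl
  · rw [leviMatO_mulVec, dg2_coe, hinv, Matrix.diagonal_transpose, f0_hat_coords, c0_mk, cx_mk,
      cy_mk, diagonal_mulVec_cons, diagonal_mulVec_cons, smul_mk, smul_cons, smul_cons]
    simp
    rfl
  · rw [leviMatO_mulVec, dg2_coe, hinv, Matrix.diagonal_transpose, hat_eq, hat_eq, c0_mk, cx_mk,
      cy_mk, diagonal_mulVec_cons, diagonal_mulVec_cons, smul_mk, smul_cons, smul_cons]
    simp only [c0_mk, cx_mk, cy_mk, actC, mul_zero, inv_inv]
    refine mk_congr ?_ ?_ ?_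
    · rw [← mul_assoc, hs, one_mul]
    · congr 1
      funext k
      by_cases h : k = i
      · simp only [h, if_true, Pi.smul_apply, smul_eq_mul]
        rw [← mul_assoc, pow_two, ← mul_assoc, hs, one_mul]
      · simp only [h, if_false, Pi.smul_apply, smul_eq_mul]
        rw [one_mul, ← mul_assoc, hs, one_mul]
    · congr 1
      funext k
      by_cases h : k = i
      · simp only [h, if_true, Pi.smul_apply, smul_eq_mul]
      · simp only [h, if_false, Pi.smul_apply, smul_eq_mul]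
        rw [one_mul, ← mul_assoc, hs, one_mul]

end big

end Cfsg.Agent.Lib.Helper14.OOEndCC
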