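/-
helper14: leaf EC of helper16's S2344 Part III plan: the moves preserve the polar form `J w ⬝ᵥ r`.
-/
import Mathlib
import Cfsg.Agent.Lib.Helper16.OOEndDefs

set_option autoImplicit false

namespace Cfsg.Agent.Lib.Helper14.OOEndEC

open Matrix Cfsg.Agent.Lib.Helper16.SLMin Cfsg.Agent.Lib.Helper16.OOEnd Module

variable {F : Type*} [Field F] {m : ℕ}

/-- the dot product in coordinates -/
theorem dot_coords (a b : Ix m → F) :
    a ⬝ᵥ b = c0 a * c0 b + cx a ⬝ᵥ cx b + cy a ⬝ᵥ cy b := by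
  unfold dotProduct c0 cx cy
  rw [Fintype.sum_sum_type, Fintype.sum_sum_type]
  simp [add_assoc]

theorem J_dot_coords (w r : Ix m → F) :
    J w ⬝ᵥ r = 2 * c0 w * c0 r + cy w ⬝ᵥ cx r + cx w ⬝ᵥ cy r := by
  rw [dot_coords]
  simp [Cfsg.Agent.Lib.Helper16.OOEnd.J]

theorem J_dot (w r : Ix m → F) : J w ⬝ᵥ r = Qp (w + r) - Qp w - Qp r := by
  rw [J_dot_coords, Qp_eq, Qp_eq, Qp_eq]
  have h0 : c0 (w + r) = c0 w + c0 r := rfl
  have hx : cx (w + r) = cx w + cx r := rfl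
  have hy : cy (w + r) = cy w + cy r := rfl
  rw [h0, hx, hy, add_dotProduct, dotProduct_add, dotProduct_add, dotProduct_comm (cy w) (cx r)]
  ring

theorem J_injective (h2 : (2 : F) ≠ 0) : Function.Injective (J : (Ix m → F) → Ix m → F) := by
  intro w w' h
  have h0 : c0 (J w) = c0 (J w') := by rw [h]
  have hx : cx (J w) = cx (J w') := by rw [h]
  have hy : cy (J w) = cy (J w') := by rw [h]
  simp only [Cfsg.Agent.Lib.Helper16.OOEnd.J, c0_mk, cx_mk, cy_mk] at h0 hx hy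
  exact ext_coords (mul_left_cancel₀ h2 h0) hy hx

theorem J_actL (g : SpecialLinearGroup (Fin m) F) (w r : Ix m → F) :
    J w ⬝ᵥ r = J (actL g w) ⬝ᵥ actL g r := by
  rw [J_dot_coords, J_dot_coords]
  simp only [actL, c0_mk, cx_mk, cy_mk]
  have key : ∀ a b : Fin m → F,
      (((g⁻¹ : SpecialLinearGroup (Fin m) F) : Matrix (Fin m) (Fin m) F)ᵀ *ᵥ a) ⬝ᵥ
        ((g : Matrix (Fin m) (Fin m) F) *ᵥ b) = a ⬝ᵥ b := by
    intro a b
    rw [mulVec_transpose, ← dotProduct_mulVec, mulVec_mulVec]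
    have h1 : ((g⁻¹ : SpecialLinearGroup (Fin m) F) : Matrix (Fin m) (Fin m) F) *
        (g : Matrix (Fin m) (Fin m) F) = 1 := by
      simp [adjugate_mul]
    rw [h1, one_mulVec]
  rw [key, dotProduct_comm ((g : Matrix (Fin m) (Fin m) F) *ᵥ cx w), key,
    dotProduct_comm (cy r) (cx w)]

theorem skew_dot (K : Matrix (Fin m) (Fin m) F) (hK : Kᵀ = -K) (a b : Fin m → F) :
    a ⬝ᵥ (K *ᵥ b) + (K *ᵥ a) ⬝ᵥ b = 0 := by
  have h1 : (K *ᵥ a) ⬝ᵥ b = a ⬝ᵥ (Kᵀ *ᵥ b) := by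
    rw [dotProduct_comm (K *ᵥ a) b, dotProduct_mulVec b K a, ← mulVec_transpose, dotProduct_comm]
  rw [h1, hK, neg_mulVec, dotProduct_neg, add_neg_cancel]

theorem J_actR (R : Matrix (Fin m) (Fin m) F) (w r : Ix m → F) :
    J w ⬝ᵥ r = J (actR R w) ⬝ᵥ actR R r := by
  rw [J_dot_coords, J_dot_coords]
  simp only [actR, c0_mk, cx_mk, cy_mk]
  rw [dotProduct_add, add_dotProduct]
  have key : cy w ⬝ᵥ ((R - Rᵀ) *ᵥ cy r) + ((R - Rᵀ) *ᵥ cy w) ⬝ᵥ cy r = 0 :=
    skew_dot (R - Rᵀ) (by rw [transpose_sub, transpose_transpose, neg_sub]) _ _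
  linear_combination -key

theorem J_actS (c : Fin m → F) (w r : Ix m → F) : J w ⬝ᵥ r = J (actS c w) ⬝ᵥ actS c r := by
  rw [J_dot_coords, J_dot_coords]
  simp only [actS, c0_mk, cx_mk, cy_mk]
  rw [dotProduct_add, add_dotProduct, dotProduct_smul, smul_dotProduct, smul_eq_mul, smul_eq_mul,
    dotProduct_comm (cy w) c]
  ring

theorem J_actN (a : Fin m) (t : F) (w r : Ix m → F) :
    J w ⬝ᵥ r = J (actN a t w) ⬝ᵥ actN a t r := by
  rw [J_dot_coords, J_dot_coords]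
  simp only [actN, c0_mk, cx_mk, cy_mk]
  rw [dotProduct_add, add_dotProduct, single_dotProduct, dotProduct_single]
  ring

theorem J_actC (i : Fin m) (s : Fˣ) (w r : Ix m → F) :
    J w ⬝ᵥ r = J (actC' i ((s⁻¹ : Fˣ) : F) w) ⬝ᵥ actC i (s : F) r := by
  rw [J_dot_coords, J_dot_coords]
  simp only [actC, actC', c0_mk, cx_mk, cy_mk]
  have hs : ((s⁻¹ : Fˣ) : F) * (s : F) = 1 := Units.inv_mul s
  have e1 : (fun j => if j = i then ((s⁻¹ : Fˣ) : F) ^ 2 * cy w j else ((s⁻¹ : Fˣ) : F) * cy w j) ⬝ᵥ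
      (fun j => if j = i then (s : F) ^ 2 * cx r j else (s : F) * cx r j) = cy w ⬝ᵥ cx r := by
    unfold dotProduct
    apply Finset.sum_congr rfl
    intro j _
    dsimp only
    split_ifs
    · linear_combination (cy w j * cx r j) * (((s⁻¹ : Fˣ) : F) * (s : F) + 1) * hs
    · linear_combination (cy w j * cx r j) * hs
  have e2 : (fun j => if j = i then cx w j else ((s⁻¹ : Fˣ) : F) * cx w j) ⬝ᵥ
      (fun j => if j = i then cy r j else (s : F) * cy r j) = cx w ⬝ᵥ cy r := by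
    unfold dotProduct
    apply Finset.sum_congr rfl
    intro j _
    dsimp only
    split_ifs
    · rfl
    · linear_combination (cx w j * cy r j) * hs
  rw [e1, e2]
  linear_combination (-2 * c0 w * c0 r) * hs

theorem Qp_actC' (i : Fin m) (s : F) (w : Ix m → F) : Qp (actC' i s w) = s ^ 2 * Qp w := by
  rw [Qp_eq, Qp_eq]
  simp only [actC', c0_mk, cx_mk, cy_mk]
  have e : (fun j => if j = i then cx w j else s * cx w j) ⬝ᵥ
      (fun j => if j = i then s ^ 2 * cy w j else s * cy w j) = s ^ 2 * (cx w ⬝ᵥ cy w) := by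
    unfold dotProduct
    rw [Finset.mul_sum]
    apply Finset.sum_congr rfl
    intro j _
    dsimp only
    split_ifs <;> ring
  rw [e]
  ring

end Cfsg.Agent.Lib.Helper14.OOEndEC
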