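/-
helper14: leaf EF of helper16's S2344 Part III plan (on top of helper5's `OOGauss`): a function on
`V'` that is constant on the non-zero singular vectors and on the non-singular vectors and whose
Fourier coefficients at all non-singular `w` vanish is constant.
-/
import Mathlib
import Cfsg.Agent.Lib.Helper16.OOEndDefs
import Cfsg.Agent.Lib.Helper5.OOGauss
import Cfsg.Agent.Lib.Helper14.OOEndEC

set_option autoImplicit false

namespace Cfsg.Agent.Lib.Helper14.OOEndEF

open Matrix Cfsg.Agent.Lib.Helper16.SLMin Cfsg.Agent.Lib.Helper16.OOEnd Module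

variable {F : Type*} [Field F] [Fintype F] {m : ℕ}

omit [Fintype F] in
theorem ringChar_ne_two (h2 : (2 : F) ≠ 0) : ringChar F ≠ 2 := by
  intro h
  apply h2
  have := ringChar.Nat.cast_ringChar (R := F)
  rw [h] at this
  exact_mod_cast this

/-- the inverse of the fixed primitive character is nontrivial -/
theorem eps_inv_ne_one : (eps F)⁻¹ ≠ 1 := by
  intro h
  have h1 : eps F ≠ 1 := by
    have hp := eps_prim F
    have := hp (one_ne_zero (α := F))
    rwa [AddChar.mulShift_one] at this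
  apply h1
  rw [← inv_inv (eps F), h, inv_one]

theorem J_dot_neg (w z : Ix m → F) :
    eps F (J w ⬝ᵥ (-z)) = (eps F)⁻¹ (Cfsg.Agent.Lib.Helper5.OOGauss.polar m w z) := by
  rw [AddChar.inv_apply, dotProduct_neg, Cfsg.Agent.Lib.Helper14.OOEndEC.J_dot]
  rfl

/-- LEAF EF. -/
theorem phi_const (hm : 1 ≤ m) (h2 : (2 : F) ≠ 0) (φ : (Ix m → F) → ℂ) (b c : ℂ)
    (hb : ∀ z, z ≠ 0 → Qp z = 0 → φ z = b) (hc : ∀ z, Qp z ≠ 0 → φ z = c)
    (hF : ∀ w : Ix m → F, Qp w ≠ 0 → ∑ z : Ix m → F, eps F (J w ⬝ᵥ (-z)) * φ z = 0) :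
    ∀ z, φ z = φ 0 := by
  classical
  have hch := ringChar_ne_two h2
  set ψ : AddChar F ℂ := (eps F)⁻¹ with hψdef
  have hψ : ψ ≠ 1 := eps_inv_ne_one
  set a : ℂ := φ 0 with ha
  -- the shape of `φ`
  have hφ : ∀ z : Ix m → F, φ z =
      c + (b - c) * (if Qp z = 0 then 1 else 0) + (a - b) * (if z = 0 then 1 else 0) := by
    intro z
    by_cases hz : z = 0
    · subst hz
      have hQ0 : Qp (0 : Ix m → F) = 0 := Cfsg.Agent.Lib.Helper5.OOGauss.quadFormOdd_zero m
      rw [if_pos hQ0, if_pos rfl]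
      ring
    · by_cases hQ : Qp z = 0
      · rw [if_pos hQ, if_neg hz, hb z hz hQ]
        ring
      · rw [if_neg hQ, if_neg hz, hc z hQ]
        ring
  -- the key identity at a non-singular `w`
  have key : ∀ w : Ix m → F, Qp w ≠ 0 →
      (b - c) * ∑ u ∈ Finset.univ.filter (fun u : Ix m → F => Cfsg.quadFormOdd m F u = 0),
        ψ (Cfsg.Agent.Lib.Helper5.OOGauss.polar m w u) + (a - b) = 0 := by
    intro w hw
    have hw0 : w ≠ 0 := by
      rintro rfl
      exact hw (Cfsg.Agent.Lib.Helper5.OOGauss.quadFormOdd_zero m)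
    have h := hF w hw
    simp_rw [J_dot_neg] at h
    have hlin := Cfsg.Agent.Lib.Helper5.OOGauss.lin_sum ψ hch hψ m w hw0
    have e : ∑ z : Ix m → F, ψ (Cfsg.Agent.Lib.Helper5.OOGauss.polar m w z) * φ z =
        c * ∑ z : Ix m → F, ψ (Cfsg.Agent.Lib.Helper5.OOGauss.polar m w z) +
        (b - c) * ∑ u ∈ Finset.univ.filter (fun u : Ix m → F => Cfsg.quadFormOdd m F u = 0),
          ψ (Cfsg.Agent.Lib.Helper5.OOGauss.polar m w u) + (a - b) := by
      rw [Finset.mul_sum, Finset.sum_filter, Finset.mul_sum, ← Finset.sum_add_distrib]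
      have h0 : (a - b) = ∑ z : Ix m → F,
          ψ (Cfsg.Agent.Lib.Helper5.OOGauss.polar m w z) * ((a - b) * (if z = 0 then 1 else 0)) := by
        rw [Finset.sum_eq_single (0 : Ix m → F)]
        · have : Cfsg.Agent.Lib.Helper5.OOGauss.polar m w 0 = 0 := by
            unfold Cfsg.Agent.Lib.Helper5.OOGauss.polar
            rw [add_zero, Cfsg.Agent.Lib.Helper5.OOGauss.quadFormOdd_zero]
            ring
          rw [this, AddChar.map_zero_eq_one, if_pos rfl]
          ring
        · intro z _ hz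
          rw [if_neg hz]
          ring
        · intro h
          exact absurd (Finset.mem_univ _) h
      conv_rhs => rw [h0]
      rw [← Finset.sum_add_distrib]
      apply Finset.sum_congr rfl
      intro z _
      rw [hφ z]
      split_ifs <;> ring
    rw [e, hlin, mul_zero, zero_add] at h
    exact h
  obtain ⟨w₁, w₂, hn₁, hn₂, hne⟩ :=
    Cfsg.Agent.Lib.Helper5.OOGauss.exists_distinct_cone_sums ψ hch hψ m hm
  have k1 := key w₁ hn₁
  have k2 := key w₂ hn₂
  have hbc : b - c = 0 := by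
    have : (b - c) * (∑ u ∈ Finset.univ.filter (fun u : Ix m → F => Cfsg.quadFormOdd m F u = 0),
        ψ (Cfsg.Agent.Lib.Helper5.OOGauss.polar m w₁ u) -
        ∑ u ∈ Finset.univ.filter (fun u : Ix m → F => Cfsg.quadFormOdd m F u = 0),
        ψ (Cfsg.Agent.Lib.Helper5.OOGauss.polar m w₂ u)) = 0 := by
      linear_combination k1 - k2
    rcases mul_eq_zero.mp this with h | h
    · exact h
    · exact absurd (sub_eq_zero.mp h) hne
  have hab : a - b = 0 := by
    rw [hbc, zero_mul, zero_add] at k1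
    exact k1
  intro z
  rw [hφ z, hbc, hab]
  ring_nf
  linear_combination -hab - hbc
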