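/-
helper14: leaves H2 + H1 of helper26's S2344 plan: the Heisenberg group `⟨sho (F e_i), sho (F e_j)⟩`
on a weight space `M_v` of the centre `Z = rad` with `v (i, j) ≠ 0`: equidistribution of the `q`
eigenspaces of `sho (F e_i)`.
-/
import Cfsg.Agent.Lib.Helper26.OOMinDefs
import Cfsg.Agent.Lib.Helper26.OOMinStageDefs
import Cfsg.Agent.Lib.Helper13.SLMinW

set_option autoImplicit false
set_option linter.unusedSectionVars false
set_option linter.unusedVariables false
set_option linter.unusedSimpArgs false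

namespace Cfsg.Agent.Lib.Helper14.OOMin

open Matrix Module Cfsg.Agent.Lib.Helper27.OPMin Cfsg.Agent.Lib.Helper16.SLMin
  Cfsg.Agent.Lib.Helper26.OOMin

section H

variable {F : Type*} [Field F] [Fintype F] [DecidableEq F] {n : ℕ} {H : Type*} [Group H]
  {M : Type*} [AddCommGroup M] [Module ℂ M] [FiniteDimensional ℂ M]
  (D : SiegelB F n H) (ρ : Representation ℂ H M)

/-- the root map of the short root group `sho (F e_i)` -/
def shoRoot (i : Fin n) : (Unit → F) → H := fun r => D.sho (Pi.single i (r ()))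

theorem vecMulVec_single_transpose (i j : Fin n) (s t : F) :
    (vecMulVec (Pi.single i s : Fin n → F) (Pi.single j t : Fin n → F))ᵀ =
      vecMulVec (Pi.single j t : Fin n → F) (Pi.single i s : Fin n → F) := by
  ext k l
  simp only [transpose_apply, vecMulVec_apply]
  ring

theorem shoRoot_add (i : Fin n) (r s : Unit → F) :
    shoRoot D i (r + s) = shoRoot D i r * shoRoot D i s := by
  unfold shoRoot
  rw [D.sho_mul, D.toSiegel.rad_of_symm, mul_one, Pi.add_apply, Pi.single_add]
  rw [vecMulVec_single_transpose]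
  ext k l
  simp only [vecMulVec_apply, Pi.single_apply]
  split_ifs <;> ring

/-- the action of `rad R` on the weight space `M_v` -/
theorem rad_apply_of_mem (v : Fin n × Fin n → F) (R : Matrix (Fin n) (Fin n) F) (m : M)
    (hm : m ∈ wt ρ D.toSiegel.radv v) :
    ρ (D.rad R) m = (eps F (v ⬝ᵥ ofM R)) • m := hm (ofM R)

/-- `sho` preserves the weight spaces of `rad` -/
theorem sho_mem_wt (v : Fin n × Fin n → F) (c : Fin n → F) (m : M)
    (hm : m ∈ wt ρ D.toSiegel.radv v) : ρ (D.sho c) m ∈ wt ρ D.toSiegel.radv v := by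
  intro r
  have h1 : D.toSiegel.radv r * D.sho c = D.sho c * D.toSiegel.radv r := D.rad_sho (toM r) c
  have h2 : ρ (D.toSiegel.radv r) (ρ (D.sho c) m) = ρ (D.sho c) (ρ (D.toSiegel.radv r) m) := by
    show (ρ (D.toSiegel.radv r) * ρ (D.sho c)) m = (ρ (D.sho c) * ρ (D.toSiegel.radv r)) m
    rw [← map_mul, ← map_mul, h1]
  rw [h2, hm r, map_smul]

theorem dot_ofM_single (v : Fin n × Fin n → F) (i j : Fin n) (a : F) :
    v ⬝ᵥ ofM (Matrix.single i j a) = v (i, j) * a := by
  unfold dotProduct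
  rw [Finset.sum_eq_single (i, j)]
  · simp [ofM]
  · rintro ⟨k, l⟩ _ hne
    have : ¬ (i = k ∧ j = l) := by
      rintro ⟨rfl, rfl⟩
      exact hne rfl
    simp [ofM, Matrix.single_apply, this]
  · intro h
    exact absurd (Finset.mem_univ _) h

/-- the Heisenberg commutation relation on group level -/
theorem sho_comm_rel (i j : Fin n) (s t : F) :
    D.sho (Pi.single i s) * D.sho (Pi.single j t) =
      D.sho (Pi.single j t) * D.sho (Pi.single i s) *
        D.rad (-(Matrix.single i j (s * t))) * D.rad (-(Matrix.single i j (s * t))) := by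
  have e : vecMulVec (Pi.single i s : Fin n → F) (Pi.single j t : Fin n → F) =
      Matrix.single i j (s * t) := by
    ext k l
    simp only [vecMulVec_apply, Pi.single_apply, Matrix.single_apply]
    split_ifs <;> simp_all
  have h1 := D.sho_mul (Pi.single i s) (Pi.single j t)
  have h2 := D.sho_mul (Pi.single j t) (Pi.single i s)
  rw [← vecMulVec_single_transpose, D.toSiegel.rad_transpose, e] at h1
  rw [e, add_comm] at h2
  rw [D.toSiegel.rad_neg, h1]
  have h3 : D.sho (Pi.single i s + Pi.single j t) =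
      D.sho (Pi.single j t) * D.sho (Pi.single i s) * (D.rad (Matrix.single i j (s * t)))⁻¹ := by
    rw [h2, mul_inv_cancel_right]
  rw [h3]

/-- shifting the `sho (F e_i)`-weight by `sho (t e_j)` -/
theorem shift_mem (v : Fin n × Fin n → F) (i j : Fin n) (x : Unit → F) (t : F) (m : M)
    (hm : m ∈ wt ρ D.toSiegel.radv v) (hx : m ∈ wt ρ (shoRoot D i) x) :
    ρ (D.sho (Pi.single j t)) m ∈
      wt ρ (shoRoot D i) (fun _ => x () - 2 * t * v (i, j)) := by
  intro r
  show ρ (D.sho (Pi.single i (r ()))) (ρ (D.sho (Pi.single j t)) m) = _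
  have h1 : ρ (D.sho (Pi.single i (r ()))) (ρ (D.sho (Pi.single j t)) m) =
      ρ (D.sho (Pi.single j t)) (ρ (D.sho (Pi.single i (r ())))
        (ρ (D.rad (-(Matrix.single i j (r () * t))))
          (ρ (D.rad (-(Matrix.single i j (r () * t)))) m))) := by
    show (ρ (D.sho (Pi.single i (r ()))) * ρ (D.sho (Pi.single j t))) m =
      (ρ (D.sho (Pi.single j t)) * ρ (D.sho (Pi.single i (r ()))) *
        ρ (D.rad (-(Matrix.single i j (r () * t)))) *
        ρ (D.rad (-(Matrix.single i j (r () * t))))) m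
    rw [← map_mul, ← map_mul, ← map_mul, ← map_mul, sho_comm_rel]
  have h2 : ρ (D.sho (Pi.single i (r ()))) m = (eps F (x ⬝ᵥ r)) • m := hx r
  rw [h1, rad_apply_of_mem D ρ v _ m hm, map_smul, rad_apply_of_mem D ρ v _ m hm, smul_smul,
    map_smul, h2, smul_smul, map_smul]
  congr 1
  have e1 : v ⬝ᵥ ofM (-(Matrix.single i j (r () * t))) = -(v (i, j) * (r () * t)) := by
    have : ofM (-(Matrix.single i j (r () * t))) = ofM (Matrix.single i j (-(r () * t))) := by
      funext p
      simp only [ofM, Matrix.neg_apply, Matrix.single_apply]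
      split_ifs <;> simp
    rw [this, dot_ofM_single]
    ring
  have e2 : x ⬝ᵥ r = x () * r () := by
    simp [dotProduct]
  have e3 : (fun _ : Unit => x () - 2 * t * v (i, j)) ⬝ᵥ r = (x () - 2 * t * v (i, j)) * r () := by
    simp [dotProduct]
  rw [e1, e2, e3, ← AddChar.map_add_eq_mul, ← AddChar.map_add_eq_mul]
  congr 1
  ring

/-- CORE: equidistribution on any invariant subspace of `M_v`. -/
theorem heis_core (hchar : (2 : F) ≠ 0) (v : Fin n × Fin n → F) (i j : Fin n)
    (hij : v (i, j) ≠ 0) (K : Submodule ℂ M) (hK : K ≤ wt ρ D.toSiegel.radv v)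
    (hKi : ∀ s : F, ∀ m ∈ K, ρ (D.sho (Pi.single i s)) m ∈ K)
    (hKj : ∀ t : F, ∀ m ∈ K, ρ (D.sho (Pi.single j t)) m ∈ K) :
    Fintype.card F * finrank ℂ ↥(K ⊓ shoFix D ρ i) = finrank ℂ ↥K := by
  have hle : ∀ (x : Unit → F) (t : F),
      finrank ℂ ↥(K ⊓ wt ρ (shoRoot D i) x) ≤
        finrank ℂ ↥(K ⊓ wt ρ (shoRoot D i) (fun _ => x () - 2 * t * v (i, j))) := by
    intro x t
    rw [← Cfsg.Agent.Lib.Helper13.SLMin.finrank_map_rho ρ (D.sho (Pi.single j t))
      (K ⊓ wt ρ (shoRoot D i) x)]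
    apply Submodule.finrank_mono
    rintro _ ⟨m, ⟨hmK, hmx⟩, rfl⟩
    exact ⟨hKj t m hmK, shift_mem D ρ v i j x t m (hK hmK) hmx⟩
  have h2v : 2 * v (i, j) ≠ 0 := mul_ne_zero hchar hij
  have heq : ∀ x : Unit → F,
      finrank ℂ ↥(K ⊓ wt ρ (shoRoot D i) x) = finrank ℂ ↥(K ⊓ wt ρ (shoRoot D i) 0) := by
    intro x
    apply le_antisymm
    · have h := hle x (x () / (2 * v (i, j)))
      have e : (fun _ : Unit => x () - 2 * (x () / (2 * v (i, j))) * v (i, j)) = 0 := by
        funext u
        show x () - 2 * (x () / (2 * v (i, j))) * v (i, j) = 0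
        field_simp
        ring
      rwa [e] at h
    · have h := hle 0 (-(x () / (2 * v (i, j))))
      have e : (fun _ : Unit => (0 : Unit → F) () - 2 * (-(x () / (2 * v (i, j)))) * v (i, j)) =
          x := by
        funext u
        show (0 : F) - 2 * (-(x () / (2 * v (i, j)))) * v (i, j) = x u
        field_simp
        ring
      rwa [e] at h
  have hW1 := Cfsg.Agent.Lib.Helper13.SLMin.finrank_eq_sum_inf_wt ρ (shoRoot D i)
    (shoRoot_add D i) K (fun r m hm => hKi (r ()) m hm)
  rw [hW1, Finset.sum_congr rfl (fun x _ => heq x), Finset.sum_const, Finset.card_univ,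
    smul_eq_mul]
  have hcard : Fintype.card (Unit → F) = Fintype.card F := by
    rw [Fintype.card_fun, Fintype.card_unit, pow_one]
  have hfix : K ⊓ wt ρ (shoRoot D i) 0 = K ⊓ shoFix D ρ i := by
    ext m
    constructor
    · rintro ⟨hmK, hm0⟩
      refine ⟨hmK, fun s => ?_⟩
      have := hm0 (fun _ => s)
      rw [zero_dotProduct, AddChar.map_zero_eq_one, one_smul] at this
      exact this
    · rintro ⟨hmK, hmf⟩
      refine ⟨hmK, fun r => ?_⟩
      rw [zero_dotProduct, AddChar.map_zero_eq_one, one_smul]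
      exact hmf (r ())
  rw [hcard, hfix]

/-- H2 (equidistribution): on `M_v`, `v (i, j) ≠ 0`, the `q` eigenspaces of the short root group
`sho (F e_i)` are permuted transitively by `sho (F e_j)`; the fixed space is one of them. -/
theorem card_mul_finrank_wt_inf_shoFix (hchar : (2 : F) ≠ 0) (v : Fin n × Fin n → F) (i j : Fin n)
    (hij : v (i, j) ≠ 0) :
    Fintype.card F * finrank ℂ ↥(wt ρ D.toSiegel.radv v ⊓ shoFix D ρ i) =
      finrank ℂ ↥(wt ρ D.toSiegel.radv v) :=
  heis_core D ρ hchar v i j hij (wt ρ D.toSiegel.radv v) le_rfl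
    (fun s m hm => sho_mem_wt D ρ v _ m hm) (fun t m hm => sho_mem_wt D ρ v _ m hm)

/-- H1: `q` divides the multiplicity of every non-zero weight. -/
theorem card_dvd_finrank_wt (hchar : (2 : F) ≠ 0) (v : Fin n × Fin n → F) (hv : v ≠ 0) :
    Fintype.card F ∣ finrank ℂ ↥(wt ρ D.toSiegel.radv v) := by
  have : ∃ p : Fin n × Fin n, v p ≠ 0 := by
    by_contra hcon
    apply hv
    funext p
    by_contra hp
    exact hcon ⟨p, hp⟩
  obtain ⟨⟨i, j⟩, hij⟩ := this
  exact ⟨_, (card_mul_finrank_wt_inf_shoFix D ρ hchar v i j hij).symm⟩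

end H

end Cfsg.Agent.Lib.Helper14.OOMin
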