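/-
helper14: leaf HS (Heisenberg-Schur) of helper26's S2344 plan: if `dim M_v ≤ q`, `v (i, j) ≠ 0`, an
operator of `M_v` commuting with `sho (F e_i)` and `sho (F e_j)` is a scalar.
-/
import Cfsg.Agent.Lib.Helper14.OOMinH

set_option autoImplicit false
set_option linter.unusedSectionVars false
set_option linter.unusedVariables false

namespace Cfsg.Agent.Lib.Helper14.OOMin

open Matrix Module Cfsg.Agent.Lib.Helper27.OPMin Cfsg.Agent.Lib.Helper16.SLMin
  Cfsg.Agent.Lib.Helper26.OOMin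

section H

variable {F : Type*} [Field F] [Fintype F] [DecidableEq F] {n : ℕ} {H : Type*} [Group H]
  {M : Type*} [AddCommGroup M] [Module ℂ M] [FiniteDimensional ℂ M]
  (D : SiegelB F n H) (ρ : Representation ℂ H M)

/-- HS (Heisenberg-Schur): if `dim M_v ≤ q`, `v (i, j) ≠ 0`, an operator of `M_v` commuting with
`sho (F e_i)` and `sho (F e_j)` is a scalar. -/
theorem exists_scalar_of_comm (hchar : (2 : F) ≠ 0) (v : Fin n × Fin n → F) (i j : Fin n)
    (hij : v (i, j) ≠ 0)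
    (hq : finrank ℂ ↥(wt ρ D.toSiegel.radv v) ≤ Fintype.card F) (T : M →ₗ[ℂ] M)
    (hT : ∀ m ∈ wt ρ D.toSiegel.radv v, T m ∈ wt ρ D.toSiegel.radv v)
    (hTi : ∀ s : F, ∀ m ∈ wt ρ D.toSiegel.radv v,
      T (ρ (D.sho (Pi.single i s)) m) = ρ (D.sho (Pi.single i s)) (T m))
    (hTj : ∀ s : F, ∀ m ∈ wt ρ D.toSiegel.radv v,
      T (ρ (D.sho (Pi.single j s)) m) = ρ (D.sho (Pi.single j s)) (T m)) :
    ∃ μ : ℂ, ∀ m ∈ wt ρ D.toSiegel.radv v, T m = μ • m := by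
  set N := wt ρ D.toSiegel.radv v with hN
  have hqpos : 0 < Fintype.card F := Fintype.card_pos
  have hH2 := card_mul_finrank_wt_inf_shoFix D ρ hchar v i j hij
  rw [← hN] at hH2
  by_cases h0 : finrank ℂ ↥N = 0
  · refine ⟨0, fun m hm => ?_⟩
    have hbot : N = ⊥ := Submodule.finrank_eq_zero.mp h0
    rw [hbot, Submodule.mem_bot] at hm
    rw [hm, map_zero, smul_zero]
  -- the fixed line
  have he1 : finrank ℂ ↥(N ⊓ shoFix D ρ i) = 1 := by
    have hpos : 0 < finrank ℂ ↥N := Nat.pos_of_ne_zero h0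
    have h1 : 0 < finrank ℂ ↥(N ⊓ shoFix D ρ i) := by
      rcases Nat.eq_zero_or_pos (finrank ℂ ↥(N ⊓ shoFix D ρ i)) with h | h
      · rw [h, mul_zero] at hH2
        omega
      · exact h
    have h2 : Fintype.card F * finrank ℂ ↥(N ⊓ shoFix D ρ i) ≤ Fintype.card F * 1 := by
      rw [hH2, mul_one]
      exact hq
    have h3 := Nat.le_of_mul_le_mul_left h2 hqpos
    omega
  -- a generator
  obtain ⟨⟨m0, hm0E⟩, hm0ne⟩ : ∃ w : ↥(N ⊓ shoFix D ρ i), w ≠ 0 := by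
    have : Nontrivial ↥(N ⊓ shoFix D ρ i) := Module.nontrivial_of_finrank_pos (R := ℂ) (by omega)
    exact exists_ne 0
  -- `T` preserves the fixed line
  have hTE : ∀ m ∈ N ⊓ shoFix D ρ i, T m ∈ N ⊓ shoFix D ρ i := by
    rintro m ⟨hmN, hmf⟩
    refine ⟨hT m hmN, fun s => ?_⟩
    rw [← hTi s m hmN, hmf s]
  obtain ⟨μ, hμ⟩ := (finrank_eq_one_iff_of_nonzero' (⟨m0, hm0E⟩ : ↥(N ⊓ shoFix D ρ i)) hm0ne).mp
    he1 ⟨T m0, hTE m0 hm0E⟩
  have hμ0 : T m0 = μ • m0 := by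
    have := congrArg Subtype.val hμ
    exact this.symm
  refine ⟨μ, ?_⟩
  -- the `μ`-eigenspace of `T` inside `N`
  set K : Submodule ℂ M := N ⊓ LinearMap.ker (T - μ • LinearMap.id) with hKdef
  have hmemK : ∀ m, m ∈ K ↔ m ∈ N ∧ T m = μ • m := by
    intro m
    rw [hKdef, Submodule.mem_inf, LinearMap.mem_ker, LinearMap.sub_apply, LinearMap.smul_apply,
      LinearMap.id_apply, sub_eq_zero]
  have hKN : K ≤ N := inf_le_left
  have hKi : ∀ s : F, ∀ m ∈ K, ρ (D.sho (Pi.single i s)) m ∈ K := by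
    intro s m hm
    rw [hmemK] at hm ⊢
    refine ⟨sho_mem_wt D ρ v _ m hm.1, ?_⟩
    rw [hTi s m hm.1, hm.2, map_smul]
  have hKj : ∀ t : F, ∀ m ∈ K, ρ (D.sho (Pi.single j t)) m ∈ K := by
    intro t m hm
    rw [hmemK] at hm ⊢
    refine ⟨sho_mem_wt D ρ v _ m hm.1, ?_⟩
    rw [hTj t m hm.1, hm.2, map_smul]
  have hcore := heis_core D ρ hchar v i j hij K hKN hKi hKj
  -- the fixed line lies in `K`
  have hEK : N ⊓ shoFix D ρ i ≤ K := by
    intro m hm
    obtain ⟨c, hc⟩ := (finrank_eq_one_iff_of_nonzero' (⟨m0, hm0E⟩ : ↥(N ⊓ shoFix D ρ i))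
      hm0ne).mp he1 ⟨m, hm⟩
    have hc' : c • m0 = m := congrArg Subtype.val hc
    rw [hmemK]
    refine ⟨hm.1, ?_⟩
    rw [← hc', map_smul, hμ0, smul_comm]
  have hKfix : K ⊓ shoFix D ρ i = N ⊓ shoFix D ρ i := by
    apply le_antisymm
    · exact inf_le_inf_right _ hKN
    · exact le_inf hEK inf_le_right
  rw [hKfix, he1, mul_one] at hcore
  have hKeq : K = N := Submodule.eq_of_le_of_finrank_le hKN (by rw [← hcore]; exact hq)
  intro m hm
  have : m ∈ K := by rw [hKeq]; exact hm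
  exact ((hmemK m).mp this).2

end H

end Cfsg.Agent.Lib.Helper14.OOMin
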