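import Mathlib
import Cfsg.Prelude.Def_Classical
import Cfsg.Agent.Lib.Helper14.OrthPlus

set_option autoImplicit false

/-!
# `O⁺_{2m}(2)`: elements fixing many vectors; the pointwise fixer of a totally singular
`(m-1)`-frame is a `2`-group

Part A: construction of group elements (reflections, Siegel transvections) fixing a given
family of at most `2m - 2` vectors (characteristic two).
-/

namespace Cfsg.Agent.Lib.Helper14.OPlusSylow

open Matrix Cfsg.Agent.Lib.Helper14

variable {F : Type*} [Field F] {m : ℕ}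

/-- the orthogonal group -/
abbrev OO (m : ℕ) (F : Type*) [Field F] := ↥(Cfsg.isometryGroup F (Cfsg.quadFormPlus m F))

/-- the matrix of an element -/
abbrev mat (g : OO m F) : Matrix (Fin m ⊕ Fin m) (Fin m ⊕ Fin m) F :=
  ((g : GL (Fin m ⊕ Fin m) F) : Matrix (Fin m ⊕ Fin m) (Fin m ⊕ Fin m) F)

lemma mat_Q (g : OO m F) (v : Fin m ⊕ Fin m → F) :
    Cfsg.quadFormPlus m F (mat g *ᵥ v) = Cfsg.quadFormPlus m F v := g.2 v v

lemma mat_B (g : OO m F) (u v : Fin m ⊕ Fin m → F) :
    plusPolar m F (mat g *ᵥ u) (mat g *ᵥ v) = plusPolar m F u v :=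
  polar_mulVec_of_preserves isQF_plus (mat g) (mat_Q g) u v

lemma mat_mul (g h : OO m F) : mat (g * h) = mat g * mat h := rfl

lemma mat_one : mat (1 : OO m F) = 1 := rfl

lemma mat_inv_mulVec (g : OO m F) (v : Fin m ⊕ Fin m → F) : mat g⁻¹ *ᵥ (mat g *ᵥ v) = v := by
  rw [Matrix.mulVec_mulVec, ← mat_mul, inv_mul_cancel, mat_one, Matrix.one_mulVec]

lemma mat_mulVec_inv (g : OO m F) (v : Fin m ⊕ Fin m → F) : mat g *ᵥ (mat g⁻¹ *ᵥ v) = v := by
  rw [Matrix.mulVec_mulVec, ← mat_mul, mul_inv_cancel, mat_one, Matrix.one_mulVec]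

lemma mat_inj (g h : OO m F) (hgh : mat g = mat h) : g = h := by
  apply Subtype.ext
  apply Units.ext
  exact hgh

lemma eq_one_of_mulVec (g : OO m F) (h : ∀ v, mat g *ᵥ v = v) : g = 1 := by
  apply mat_inj
  rw [mat_one]
  apply Matrix.toLin'.injective
  apply LinearMap.ext
  intro v
  rw [Matrix.toLin'_apply, h v, Matrix.toLin'_one, LinearMap.id_apply]

/-- group element from a linear involution preserving the form -/
noncomputable def ofInvol (φ : (Fin m ⊕ Fin m → F) →ₗ[F] (Fin m ⊕ Fin m → F))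
    (h2 : ∀ x, φ (φ x) = x)
    (hQ : ∀ v, Cfsg.quadFormPlus m F (φ v) = Cfsg.quadFormPlus m F v) : OO m F :=
  ⟨⟨LinearMap.toMatrix' φ, LinearMap.toMatrix' φ,
    by
      rw [← LinearMap.toMatrix'_comp]
      have : φ ∘ₗ φ = LinearMap.id := LinearMap.ext h2
      rw [this, LinearMap.toMatrix'_id],
    by
      rw [← LinearMap.toMatrix'_comp]
      have : φ ∘ₗ φ = LinearMap.id := LinearMap.ext h2
      rw [this, LinearMap.toMatrix'_id]⟩,
   fun u v => by
    change Cfsg.quadFormPlus m F ((LinearMap.toMatrix' φ).mulVec u) = _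
    rw [LinearMap.toMatrix'_mulVec]
    exact hQ u⟩

lemma mat_ofInvol (φ : (Fin m ⊕ Fin m → F) →ₗ[F] (Fin m ⊕ Fin m → F))
    (h2 : ∀ x, φ (φ x) = x)
    (hQ : ∀ v, Cfsg.quadFormPlus m F (φ v) = Cfsg.quadFormPlus m F v) (v : Fin m ⊕ Fin m → F) :
    mat (ofInvol φ h2 hQ) *ᵥ v = φ v := by
  show (LinearMap.toMatrix' φ).mulVec v = _
  rw [LinearMap.toMatrix'_mulVec]

/-- the polar form as a linear functional -/
noncomputable def polarL (u : Fin m ⊕ Fin m → F) : (Fin m ⊕ Fin m → F) →ₗ[F] F where
  toFun x := plusPolar m F x u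
  map_add' x y := isQF_plus.b_add x y u
  map_smul' c x := by
    rw [isQF_plus.b_smul, RingHom.id_apply, smul_eq_mul]

lemma polarL_apply (u x : Fin m ⊕ Fin m → F) : polarL u x = plusPolar m F x u := rfl

/-- reflection in a nonsingular vector (characteristic two) -/
theorem exists_refl (h2 : (2 : F) = 0) (u : Fin m ⊕ Fin m → F)
    (hu : Cfsg.quadFormPlus m F u ≠ 0) :
    ∃ g : OO m F, g ≠ 1 ∧
      ∀ x, plusPolar m F x u = 0 → mat g *ᵥ x = x := by
  classical
  set c := Cfsg.quadFormPlus m F u with hc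
  let φ : (Fin m ⊕ Fin m → F) →ₗ[F] (Fin m ⊕ Fin m → F) :=
    LinearMap.id + (c⁻¹ • (polarL u)).smulRight u
  have hφ : ∀ x, φ x = x + (c⁻¹ * plusPolar m F x u) • u := by
    intro x
    simp only [φ, LinearMap.add_apply, LinearMap.id_apply, LinearMap.smulRight_apply,
      LinearMap.smul_apply, polarL_apply, smul_eq_mul]
  have huu : plusPolar m F u u = 0 := by
    rw [isQF_plus.b_self, h2, zero_mul]
  have hφ2 : ∀ x, φ (φ x) = x := by
    intro x
    rw [hφ (φ x), hφ x, isQF_plus.b_add, isQF_plus.b_smul, huu, mul_zero, add_zero, add_assoc,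
      ← add_smul]
    have : c⁻¹ * plusPolar m F x u + c⁻¹ * plusPolar m F x u = 0 := by
      rw [← two_mul, h2, zero_mul]
    rw [this, zero_smul, add_zero]
  have hφQ : ∀ x, Cfsg.quadFormPlus m F (φ x) = Cfsg.quadFormPlus m F x := by
    intro x
    rw [hφ x, isQF_plus.polar, isQF_plus.q_smul, isQF_plus.b_smul_right, ← hc]
    have hc0 : c ≠ 0 := hu
    have e1 : c⁻¹ * plusPolar m F x u * (c⁻¹ * plusPolar m F x u) * c =
        c⁻¹ * plusPolar m F x u * plusPolar m F x u := by
      field_simp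
    rw [e1]
    have : c⁻¹ * plusPolar m F x u * plusPolar m F x u +
        c⁻¹ * plusPolar m F x u * plusPolar m F x u = 0 := by
      rw [← two_mul, h2, zero_mul]
    linear_combination this
  refine ⟨ofInvol φ hφ2 hφQ, ?_, ?_⟩
  · intro h1
    have hu0 : u ≠ 0 := by
      intro h0
      apply hu
      rw [hc, h0, isQF_plus.q_zero]
    obtain ⟨v, hv⟩ := isQF_plus.nondeg u hu0
    have h3 := mat_ofInvol φ hφ2 hφQ v
    rw [h1, mat_one, Matrix.one_mulVec, hφ v] at h3
    have h4 : (c⁻¹ * plusPolar m F v u) • u = 0 := by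
      have := h3
      rwa [left_eq_add] at this
    rw [smul_eq_zero] at h4
    rcases h4 with h4 | h4
    · rw [isQF_plus.b_symm] at hv
      have hc0 : c⁻¹ ≠ 0 := inv_ne_zero hu
      exact (mul_ne_zero hc0 hv) h4
    · exact hu0 h4
  · intro x hx
    rw [mat_ofInvol, hφ x, hx, mul_zero, zero_smul, add_zero]

/-- Siegel transvection for two orthogonal singular vectors (characteristic two) -/
theorem exists_siegel (h2 : (2 : F) = 0) (a b : Fin m ⊕ Fin m → F)
    (ha : Cfsg.quadFormPlus m F a = 0) (hb : Cfsg.quadFormPlus m F b = 0)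
    (hab : plusPolar m F a b = 0) (hli : LinearIndependent F ![a, b]) :
    ∃ g : OO m F, g ≠ 1 ∧
      ∀ x, plusPolar m F x a = 0 → plusPolar m F x b = 0 → mat g *ᵥ x = x := by
  classical
  let φ : (Fin m ⊕ Fin m → F) →ₗ[F] (Fin m ⊕ Fin m → F) :=
    LinearMap.id + (polarL a).smulRight b + (polarL b).smulRight a
  have hφ : ∀ x, φ x = x + plusPolar m F x a • b + plusPolar m F x b • a := by
    intro x
    simp only [φ, LinearMap.add_apply, LinearMap.id_apply, LinearMap.smulRight_apply,
      polarL_apply]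
  have haa : plusPolar m F a a = 0 := by rw [isQF_plus.b_self, h2, zero_mul]
  have hbb : plusPolar m F b b = 0 := by rw [isQF_plus.b_self, h2, zero_mul]
  have hba : plusPolar m F b a = 0 := by rw [isQF_plus.b_symm]; exact hab
  have hφa : ∀ x, plusPolar m F (φ x) a = plusPolar m F x a := by
    intro x
    rw [hφ x, isQF_plus.b_add, isQF_plus.b_add, isQF_plus.b_smul, isQF_plus.b_smul, hba, haa,
      mul_zero, mul_zero, add_zero, add_zero]
  have hφb : ∀ x, plusPolar m F (φ x) b = plusPolar m F x b := by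
    intro x
    rw [hφ x, isQF_plus.b_add, isQF_plus.b_add, isQF_plus.b_smul, isQF_plus.b_smul, hbb, hab,
      mul_zero, mul_zero, add_zero, add_zero]
  have hφ2 : ∀ x, φ (φ x) = x := by
    intro x
    rw [hφ (φ x), hφa, hφb, hφ x]
    have e1 : plusPolar m F x a • b + plusPolar m F x a • b = 0 := by
      rw [← two_smul F, h2, zero_smul]
    have e2 : plusPolar m F x b • a + plusPolar m F x b • a = 0 := by
      rw [← two_smul F, h2, zero_smul]
    calc x + plusPolar m F x a • b + plusPolar m F x b • a + plusPolar m F x a • b +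
          plusPolar m F x b • a
        = x + (plusPolar m F x a • b + plusPolar m F x a • b) +
          (plusPolar m F x b • a + plusPolar m F x b • a) := by abel
      _ = x := by rw [e1, e2, add_zero, add_zero]
  have hφQ : ∀ x, Cfsg.quadFormPlus m F (φ x) = Cfsg.quadFormPlus m F x := by
    intro x
    rw [hφ x, isQF_plus.polar, isQF_plus.polar, isQF_plus.q_smul, isQF_plus.q_smul, ha, hb,
      isQF_plus.b_smul_right, isQF_plus.b_add, isQF_plus.b_smul_right, isQF_plus.b_smul,
      isQF_plus.b_smul_right, hba]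
    have : plusPolar m F x a * plusPolar m F x b + plusPolar m F x a * plusPolar m F x b = 0 := by
      rw [← two_mul, h2, zero_mul]
    linear_combination this
  refine ⟨ofInvol φ hφ2 hφQ, ?_, ?_⟩
  · intro h1
    have ha0 : a ≠ 0 := by
      have := hli.ne_zero 0
      simpa using this
    obtain ⟨v, hv⟩ := isQF_plus.nondeg a ha0
    have h3 := mat_ofInvol φ hφ2 hφQ v
    rw [h1, mat_one, Matrix.one_mulVec, hφ v] at h3
    have h4 : plusPolar m F v a • b + plusPolar m F v b • a = 0 := by
      have : v = v + (plusPolar m F v a • b + plusPolar m F v b • a) := by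
        rw [← add_assoc]; exact h3
      rwa [left_eq_add] at this
    rw [LinearIndependent.pair_iff] at hli
    have h5 := hli (plusPolar m F v b) (plusPolar m F v a) (by rw [add_comm]; exact h4)
    rw [isQF_plus.b_symm] at hv
    exact hv h5.2
  · intro x hxa hxb
    rw [mat_ofInvol, hφ x, hxa, hxb, zero_smul, zero_smul, add_zero, add_zero]

end Cfsg.Agent.Lib.Helper14.OPlusSylow
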