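import Mathlib
import Cfsg.Prelude.Def_Classical
import Cfsg.Agent.Lib.Helper14.OPlusSylowA

set_option autoImplicit false

/-!
# `O⁺_{2m}(2)`: a non-identity isometry fixing any `2m - 2` given vectors (characteristic two)
-/

namespace Cfsg.Agent.Lib.Helper14.OPlusSylow

open Matrix Module Cfsg.Agent.Lib.Helper14

variable {F : Type*} [Field F] {m : ℕ}

/-- In characteristic two, any family of at most `2m - 2` vectors of the hyperbolic space of
dimension `2m` is fixed by a non-identity isometry. -/
theorem exists_fix (h2 : (2 : F) = 0) {ι : Type*} [Fintype ι] (hι : Fintype.card ι + 2 ≤ 2 * m)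
    (s : ι → (Fin m ⊕ Fin m → F)) :
    ∃ g : OO m F, g ≠ 1 ∧ ∀ i, mat g *ᵥ s i = s i := by
  classical
  let L : (Fin m ⊕ Fin m → F) →ₗ[F] (ι → F) := LinearMap.pi (fun i => polarL (s i))
  have hL : ∀ x, x ∈ LinearMap.ker L ↔ ∀ i, plusPolar m F x (s i) = 0 := by
    intro x
    rw [LinearMap.mem_ker]
    constructor
    · intro h i
      have := congrFun h i
      simpa [L, polarL_apply] using this
    · intro h
      funext i
      simpa [L, polarL_apply] using h i
  have hdim : 2 ≤ finrank F (LinearMap.ker L) := by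
    have h1 := LinearMap.finrank_range_add_finrank_ker L
    have h3 : finrank F (LinearMap.range L) ≤ Fintype.card ι := by
      have := Submodule.finrank_le (LinearMap.range L)
      rwa [Module.finrank_fintype_fun_eq_card] at this
    have h4 : finrank F (Fin m ⊕ Fin m → F) = 2 * m := by
      rw [Module.finrank_fintype_fun_eq_card, Fintype.card_sum, Fintype.card_fin]
      ring
    omega
  have hpos : 0 < finrank F (LinearMap.ker L) := by omega
  haveI : Nontrivial (LinearMap.ker L) := Module.finrank_pos_iff.mp hpos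
  obtain ⟨a, ha0⟩ := exists_ne (0 : LinearMap.ker L)
  have hone : 1 < finrank F (LinearMap.ker L) := by omega
  obtain ⟨b, hab⟩ := exists_linearIndependent_pair_of_one_lt_finrank hone ha0
  have hli : LinearIndependent F ![(a : Fin m ⊕ Fin m → F), (b : Fin m ⊕ Fin m → F)] := by
    have h5 := hab.map' (LinearMap.ker L).subtype (Submodule.ker_subtype _)
    have e : ![(a : Fin m ⊕ Fin m → F), (b : Fin m ⊕ Fin m → F)] =
        ⇑(LinearMap.ker L).subtype ∘ ![a, b] := by
      funext i
      fin_cases i <;> rfl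
    rw [e]
    exact h5
  have hak := (hL a).mp a.2
  have hbk := (hL b).mp b.2
  -- the case distinction
  by_cases hqa : Cfsg.quadFormPlus m F (a : Fin m ⊕ Fin m → F) = 0
  swap
  · obtain ⟨g, hg1, hg⟩ := exists_refl h2 _ hqa
    refine ⟨g, hg1, fun i => hg _ ?_⟩
    rw [isQF_plus.b_symm]; exact hak i
  by_cases hqb : Cfsg.quadFormPlus m F (b : Fin m ⊕ Fin m → F) = 0
  swap
  · obtain ⟨g, hg1, hg⟩ := exists_refl h2 _ hqb
    refine ⟨g, hg1, fun i => hg _ ?_⟩
    rw [isQF_plus.b_symm]; exact hbk i
  by_cases hqab : Cfsg.quadFormPlus m F ((a : Fin m ⊕ Fin m → F) + b) = 0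
  swap
  · obtain ⟨g, hg1, hg⟩ := exists_refl h2 _ hqab
    refine ⟨g, hg1, fun i => hg _ ?_⟩
    rw [isQF_plus.b_symm, isQF_plus.b_add, hak i, hbk i, add_zero]
  · have hBab : plusPolar m F (a : Fin m ⊕ Fin m → F) b = 0 := by
      have := isQF_plus.polar (a : Fin m ⊕ Fin m → F) (b : Fin m ⊕ Fin m → F)
      rw [hqab, hqa, hqb, zero_add, zero_add] at this
      exact this.symm
    obtain ⟨g, hg1, hg⟩ := exists_siegel h2 _ _ hqa hqb hBab hli
    refine ⟨g, hg1, fun i => hg _ ?_ ?_⟩
    · rw [isQF_plus.b_symm]; exact hak i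
    · rw [isQF_plus.b_symm]; exact hbk i

end Cfsg.Agent.Lib.Helper14.OPlusSylow
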