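import Mathlib
import Cfsg.Prelude.Def_Classical
import Cfsg.Agent.Lib.Helper14.OPlusSylowA

set_option autoImplicit false

/-!
# `O⁺_{2(n+1)}(2)`: the pointwise fixer of the standard totally singular `n`-frame has exponent 4
-/

namespace Cfsg.Agent.Lib.Helper14.OPlusSylow

open Matrix Module Cfsg.Agent.Lib.Helper14

variable {F : Type*} [Field F] {n : ℕ}

/-- the standard totally singular frame of length `n` in dimension `2(n+1)` -/
def S0 (n : ℕ) (F : Type*) [Field F] (i : Fin n) : Fin (n + 1) ⊕ Fin (n + 1) → F :=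
  Pi.single (Sum.inl (Fin.castSucc i)) 1

lemma polar_single_inl (x : Fin (n + 1) ⊕ Fin (n + 1) → F) (j : Fin (n + 1)) :
    plusPolar (n + 1) F x (Pi.single (Sum.inl j) 1) = x (Sum.inr j) := by
  classical
  unfold plusPolar
  rw [Finset.sum_eq_single j]
  · simp
  · intro k _ hk
    simp [Pi.single_apply, hk]
  · intro h; exact absurd (Finset.mem_univ _) h

lemma polar_single_inr (x : Fin (n + 1) ⊕ Fin (n + 1) → F) (j : Fin (n + 1)) :
    plusPolar (n + 1) F x (Pi.single (Sum.inr j) 1) = x (Sum.inl j) := by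
  classical
  unfold plusPolar
  rw [Finset.sum_eq_single j]
  · simp
  · intro k _ hk
    simp [Pi.single_apply, hk]
  · intro h; exact absurd (Finset.mem_univ _) h

/-- vectors orthogonal to the standard frame -/
def PP (n : ℕ) (F : Type*) [Field F] (x : Fin (n + 1) ⊕ Fin (n + 1) → F) : Prop :=
  ∀ i : Fin n, x (Sum.inr (Fin.castSucc i)) = 0

lemma Q_of_PP {x : Fin (n + 1) ⊕ Fin (n + 1) → F} (hx : PP n F x) :
    Cfsg.quadFormPlus (n + 1) F x = x (Sum.inl (Fin.last n)) * x (Sum.inr (Fin.last n)) := by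
  unfold Cfsg.quadFormPlus
  rw [Fin.sum_univ_castSucc]
  have : ∑ i : Fin n, x (Sum.inl (Fin.castSucc i)) * x (Sum.inr (Fin.castSucc i)) = 0 := by
    apply Finset.sum_eq_zero
    intro i _
    rw [hx i, mul_zero]
  rw [this, zero_add]

lemma B_of_PP {x y : Fin (n + 1) ⊕ Fin (n + 1) → F} (hx : PP n F x) (hy : PP n F y) :
    plusPolar (n + 1) F x y =
      x (Sum.inl (Fin.last n)) * y (Sum.inr (Fin.last n)) +
        y (Sum.inl (Fin.last n)) * x (Sum.inr (Fin.last n)) := by
  unfold plusPolar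
  rw [Fin.sum_univ_castSucc]
  have : ∑ i : Fin n, (x (Sum.inl (Fin.castSucc i)) * y (Sum.inr (Fin.castSucc i)) +
      y (Sum.inl (Fin.castSucc i)) * x (Sum.inr (Fin.castSucc i))) = 0 := by
    apply Finset.sum_eq_zero
    intro i _
    rw [hx i, hy i, mul_zero, mul_zero, add_zero]
  rw [this, zero_add]

section fixer

variable (g : OO (n + 1) F) (hg : ∀ i : Fin n, mat g *ᵥ S0 n F i = S0 n F i)

include hg

lemma fix_inr (x : Fin (n + 1) ⊕ Fin (n + 1) → F) (i : Fin n) :
    (mat g *ᵥ x) (Sum.inr (Fin.castSucc i)) = x (Sum.inr (Fin.castSucc i)) := by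
  have h1 := mat_B g x (S0 n F i)
  rw [hg i] at h1
  unfold S0 at h1
  rw [polar_single_inl, polar_single_inl] at h1
  exact h1

lemma PP_mul {x : Fin (n + 1) ⊕ Fin (n + 1) → F} (hx : PP n F x) : PP n F (mat g *ᵥ x) := by
  intro i
  rw [fix_inr g hg, hx i]

lemma PP_add (h2 : (2 : F) = 0) (x : Fin (n + 1) ⊕ Fin (n + 1) → F) :
    PP n F (mat g *ᵥ x + x) := by
  intro i
  rw [Pi.add_apply, fix_inr g hg, ← two_mul, h2, zero_mul]

/-- vectors in the span of the frame are fixed -/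
lemma fix_W {w : Fin (n + 1) ⊕ Fin (n + 1) → F} (hw : ∀ j, w (Sum.inr j) = 0)
    (hl : w (Sum.inl (Fin.last n)) = 0) : mat g *ᵥ w = w := by
  classical
  have e : w = ∑ i : Fin n, w (Sum.inl (Fin.castSucc i)) • S0 n F i := by
    funext c
    rw [Finset.sum_apply]
    rcases c with j | j
    · refine Fin.lastCases ?_ (fun i => ?_) j
      · rw [hl]
        symm
        apply Finset.sum_eq_zero
        intro i _
        unfold S0
        rw [Pi.smul_apply, Pi.single_apply, if_neg, smul_zero]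
        intro h
        have := Sum.inl_injective h
        exact (Fin.castSucc_lt_last i).ne this.symm
      · rw [Finset.sum_eq_single i]
        · unfold S0
          rw [Pi.smul_apply, Pi.single_eq_same, smul_eq_mul, mul_one]
        · intro k _ hk
          unfold S0
          rw [Pi.smul_apply, Pi.single_apply, if_neg, smul_zero]
          intro h
          have := Fin.castSucc_injective _ (Sum.inl_injective h)
          exact hk this.symm
        · intro h; exact absurd (Finset.mem_univ _) h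
    · rw [hw j]
      symm
      apply Finset.sum_eq_zero
      intro i _
      unfold S0
      rw [Pi.smul_apply, Pi.single_apply, if_neg, smul_zero]
      intro h
      cases h
  rw [e, Matrix.mulVec_sum]
  apply Finset.sum_congr rfl
  intro i _
  rw [Matrix.mulVec_smul, hg i]

end fixer

/-- the last hyperbolic pair -/
def eL (n : ℕ) (F : Type*) [Field F] : Fin (n + 1) ⊕ Fin (n + 1) → F :=
  Pi.single (Sum.inl (Fin.last n)) 1

/-- the last hyperbolic pair -/
def fL (n : ℕ) (F : Type*) [Field F] : Fin (n + 1) ⊕ Fin (n + 1) → F :=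
  Pi.single (Sum.inr (Fin.last n)) 1

lemma PP_eL : PP n F (eL n F) := by
  intro i
  unfold eL
  rw [Pi.single_apply, if_neg]
  intro h
  cases h

lemma PP_fL : PP n F (fL n F) := by
  intro i
  unfold fL
  rw [Pi.single_apply, if_neg]
  intro h
  have := Sum.inr_injective h
  exact (Fin.castSucc_lt_last i).ne this

lemma decomp {x : Fin (n + 1) ⊕ Fin (n + 1) → F} (hx : PP n F x) :
    ∃ w : Fin (n + 1) ⊕ Fin (n + 1) → F, (∀ j, w (Sum.inr j) = 0) ∧
      w (Sum.inl (Fin.last n)) = 0 ∧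
      x = w + x (Sum.inl (Fin.last n)) • eL n F + x (Sum.inr (Fin.last n)) • fL n F := by
  refine ⟨x - x (Sum.inl (Fin.last n)) • eL n F - x (Sum.inr (Fin.last n)) • fL n F, ?_, ?_, ?_⟩
  · intro j
    refine Fin.lastCases ?_ (fun i => ?_) j
    · simp [eL, fL]
    · have h1 := hx i
      have h2 : (Fin.castSucc i) ≠ Fin.last n := (Fin.castSucc_lt_last i).ne
      simp [eL, fL, h1, h2]
  · simp [eL, fL]
  · abel

section fixer2

variable (hF : ∀ a : F, a = 0 ∨ a = 1) (h2 : (2 : F) = 0)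
variable (g : OO (n + 1) F) (hg : ∀ i : Fin n, mat g *ᵥ S0 n F i = S0 n F i)

include hg

lemma coord_mul {x : Fin (n + 1) ⊕ Fin (n + 1) → F} (hx : PP n F x) :
    (mat g *ᵥ x) (Sum.inl (Fin.last n)) =
        x (Sum.inl (Fin.last n)) * (mat g *ᵥ eL n F) (Sum.inl (Fin.last n)) +
          x (Sum.inr (Fin.last n)) * (mat g *ᵥ fL n F) (Sum.inl (Fin.last n)) ∧
      (mat g *ᵥ x) (Sum.inr (Fin.last n)) =
        x (Sum.inl (Fin.last n)) * (mat g *ᵥ eL n F) (Sum.inr (Fin.last n)) +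
          x (Sum.inr (Fin.last n)) * (mat g *ᵥ fL n F) (Sum.inr (Fin.last n)) := by
  obtain ⟨w, hw1, hw2, hxw⟩ := decomp hx
  have hMw := fix_W g hg hw1 hw2
  have hM : mat g *ᵥ x = w + x (Sum.inl (Fin.last n)) • (mat g *ᵥ eL n F) +
      x (Sum.inr (Fin.last n)) • (mat g *ᵥ fL n F) := by
    conv_lhs => rw [hxw]
    rw [Matrix.mulVec_add, Matrix.mulVec_add, Matrix.mulVec_smul, Matrix.mulVec_smul, hMw]
  constructor
  · rw [hM]
    simp only [Pi.add_apply, Pi.smul_apply, smul_eq_mul, hw2, zero_add]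
  · rw [hM]
    simp only [Pi.add_apply, Pi.smul_apply, smul_eq_mul, hw1, zero_add]

include hF h2

lemma sq_coord {x : Fin (n + 1) ⊕ Fin (n + 1) → F} (hx : PP n F x) :
    (mat g *ᵥ (mat g *ᵥ x)) (Sum.inl (Fin.last n)) = x (Sum.inl (Fin.last n)) ∧
      (mat g *ᵥ (mat g *ᵥ x)) (Sum.inr (Fin.last n)) = x (Sum.inr (Fin.last n)) := by
  have hE := PP_mul g hg (PP_eL (n := n) (F := F))
  have hE' := PP_mul g hg (PP_fL (n := n) (F := F))
  -- constraints
  have c1 : (mat g *ᵥ eL n F) (Sum.inl (Fin.last n)) * (mat g *ᵥ eL n F) (Sum.inr (Fin.last n))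
      = 0 := by
    rw [← Q_of_PP hE, mat_Q, Q_of_PP PP_eL]
    simp [eL]
  have c2 : (mat g *ᵥ fL n F) (Sum.inl (Fin.last n)) * (mat g *ᵥ fL n F) (Sum.inr (Fin.last n))
      = 0 := by
    rw [← Q_of_PP hE', mat_Q, Q_of_PP PP_fL]
    simp [fL]
  have c3 : (mat g *ᵥ eL n F) (Sum.inl (Fin.last n)) * (mat g *ᵥ fL n F) (Sum.inr (Fin.last n)) +
      (mat g *ᵥ fL n F) (Sum.inl (Fin.last n)) * (mat g *ᵥ eL n F) (Sum.inr (Fin.last n)) = 1 := by
    rw [← B_of_PP hE hE', mat_B, B_of_PP PP_eL PP_fL]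
    simp [eL, fL]
  obtain ⟨k1, k2⟩ := coord_mul g hg hx
  obtain ⟨l1, l2⟩ := coord_mul g hg (PP_mul g hg hx)
  rw [l1, l2, k1, k2]
  generalize (mat g *ᵥ eL n F) (Sum.inl (Fin.last n)) = p1 at *
  generalize (mat g *ᵥ eL n F) (Sum.inr (Fin.last n)) = q1 at *
  generalize (mat g *ᵥ fL n F) (Sum.inl (Fin.last n)) = r1 at *
  generalize (mat g *ᵥ fL n F) (Sum.inr (Fin.last n)) = s1 at *
  have h11 : (1 : F) + 1 = 0 := by rw [one_add_one_eq_two]; exact h2
  rcases hF p1 with rfl | rfl <;> rcases hF q1 with rfl | rfl <;> rcases hF r1 with rfl | rfl <;>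
    rcases hF s1 with rfl | rfl <;> simp at c1 c2 c3 ⊢ <;> simp_all

end fixer2

end Cfsg.Agent.Lib.Helper14.OPlusSylow
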