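import Mathlib
import Cfsg.Prelude.Def_Classical
import Cfsg.Agent.Lib.Helper14.OPlusSylowB
import Cfsg.Agent.Lib.Helper14.OPlusSylowC

set_option autoImplicit false

/-!
# `O⁺_{2m}(2)`: any two Sylow `2`-subgroups meet non-trivially
-/

namespace Cfsg.Agent.Lib.Helper14.OPlusSylow

open Matrix Module Cfsg.Agent.Lib.Helper14
open scoped Pointwise

variable {F : Type*} [Field F] {n : ℕ}

lemma pow_four_mulVec (hF : ∀ a : F, a = 0 ∨ a = 1) (h2 : (2 : F) = 0)
    (g : OO (n + 1) F) (hg : ∀ i : Fin n, mat g *ᵥ S0 n F i = S0 n F i)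
    (x : Fin (n + 1) ⊕ Fin (n + 1) → F) :
    mat g *ᵥ (mat g *ᵥ (mat g *ᵥ (mat g *ᵥ x))) = x := by
  set y := mat g *ᵥ x + x with hy
  have hyP : PP n F y := PP_add g hg h2 x
  obtain ⟨s1, s2⟩ := sq_coord hF h2 g hg hyP
  have hzP : PP n F (mat g *ᵥ (mat g *ᵥ y) + y) := by
    have := PP_mul g hg (PP_mul g hg hyP)
    intro i
    rw [Pi.add_apply, this i, hyP i, add_zero]
  have hz : mat g *ᵥ (mat g *ᵥ (mat g *ᵥ y) + y) = mat g *ᵥ (mat g *ᵥ y) + y := by
    apply fix_W g hg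
    · intro j
      refine Fin.lastCases ?_ (fun i => ?_) j
      · rw [Pi.add_apply, s2, ← two_mul, h2, zero_mul]
      · exact hzP i
    · rw [Pi.add_apply, s1, ← two_mul, h2, zero_mul]
  rw [hy] at hz
  simp only [Matrix.mulVec_add] at hz
  -- hz : M⁴x + M³x + (M²x + Mx) = M³x + M²x + (Mx + x)
  have h3 : ∀ v : Fin (n + 1) ⊕ Fin (n + 1) → F, v + v = 0 := by
    intro v
    rw [← two_smul F, h2, zero_smul]
  set a := mat g *ᵥ (mat g *ᵥ (mat g *ᵥ (mat g *ᵥ x))) with ha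
  set b := mat g *ᵥ (mat g *ᵥ (mat g *ᵥ x)) with hb
  set c := mat g *ᵥ (mat g *ᵥ x) with hc
  set d := mat g *ᵥ x with hd
  have h4 : a + (b + c + d) = x + (b + c + d) := by
    calc a + (b + c + d) = a + b + (c + d) := by abel
      _ = b + c + (d + x) := hz
      _ = x + (b + c + d) := by abel
  exact add_right_cancel h4

lemma pow_four_eq_one (hF : ∀ a : F, a = 0 ∨ a = 1) (h2 : (2 : F) = 0)
    (g : OO (n + 1) F) (hg : ∀ i : Fin n, mat g *ᵥ S0 n F i = S0 n F i) : g ^ 4 = 1 := by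
  apply eq_one_of_mulVec
  intro v
  have e : g ^ 4 = g * (g * (g * g)) := by
    rw [show (4 : ℕ) = 1 + 1 + 1 + 1 from rfl, pow_add, pow_add, pow_add, pow_one]
    simp only [mul_assoc]
  rw [e, mat_mul, mat_mul, mat_mul, ← Matrix.mulVec_mulVec, ← Matrix.mulVec_mulVec,
    ← Matrix.mulVec_mulVec]
  exact pow_four_mulVec hF h2 g hg v

/-- the pointwise fixer of the standard totally singular `n`-frame -/
def K0 (n : ℕ) (F : Type*) [Field F] : Subgroup (OO (n + 1) F) where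
  carrier := {g | ∀ i : Fin n, mat g *ᵥ S0 n F i = S0 n F i}
  mul_mem' {a b} ha hb := by
    intro i
    rw [mat_mul, ← Matrix.mulVec_mulVec, hb i, ha i]
  one_mem' := by
    intro i
    rw [mat_one, Matrix.one_mulVec]
  inv_mem' {a} ha := by
    intro i
    have := mat_inv_mulVec a (S0 n F i)
    rw [ha i] at this
    exact this

lemma mem_K0 (g : OO (n + 1) F) : g ∈ K0 n F ↔ ∀ i : Fin n, mat g *ᵥ S0 n F i = S0 n F i :=
  Iff.rfl

lemma isPGroup_K0 (hF : ∀ a : F, a = 0 ∨ a = 1) (h2 : (2 : F) = 0) : IsPGroup 2 (K0 n F) := by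
  intro g
  refine ⟨2, ?_⟩
  apply Subtype.ext
  rw [Subgroup.coe_pow, Subgroup.coe_one]
  exact pow_four_eq_one hF h2 g.1 g.2

/-- any two Sylow `2`-subgroups of `O⁺_{2(n+1)}(2)` meet non-trivially -/
theorem sylow_inter_ne_bot [Fintype F] (hcard : Fintype.card F = 2)
    (H : Sylow 2 (OO (n + 1) F)) (x : OO (n + 1) F) :
    (H : Subgroup (OO (n + 1) F)) ⊓ MulAut.conj x • (H : Subgroup (OO (n + 1) F)) ≠ ⊥ := by
  classical
  have h2 : (2 : F) = 0 := by
    have := Nat.cast_card_eq_zero F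
    rw [hcard] at this
    exact_mod_cast this
  have hF : ∀ a : F, a = 0 ∨ a = 1 := by
    intro a
    by_contra hne
    rw [not_or] at hne
    have h3 : ({0, 1, a} : Finset F).card ≤ Fintype.card F := Finset.card_le_univ _
    rw [hcard, Finset.card_insert_of_notMem, Finset.card_insert_of_notMem,
      Finset.card_singleton] at h3
    · omega
    · simp only [Finset.mem_singleton]
      exact fun h => hne.2 h.symm
    · simp only [Finset.mem_insert, Finset.mem_singleton, not_or]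
      exact ⟨zero_ne_one, fun h => hne.1 h.symm⟩
  haveI : Finite (OO (n + 1) F) := inferInstance
  obtain ⟨P0, hP0⟩ := (isPGroup_K0 (n := n) hF h2).exists_le_sylow
  obtain ⟨y, hy⟩ := MulAction.exists_smul_eq (OO (n + 1) F) P0 H
  -- membership in H
  have hmemH : ∀ z : OO (n + 1) F, y⁻¹ * z * y ∈ K0 n F → z ∈ (H : Subgroup (OO (n + 1) F)) := by
    intro z hz
    have h1 : y⁻¹ * z * y ∈ (P0 : Subgroup (OO (n + 1) F)) := hP0 hz
    rw [← hy, Sylow.coe_subgroup_smul, Subgroup.mem_pointwise_smul_iff_inv_smul_mem]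
    rw [MulAut.smul_def, MulAut.conj_inv_apply]
    exact h1
  -- the family of vectors
  let s : Fin n ⊕ Fin n → (Fin (n + 1) ⊕ Fin (n + 1) → F) := fun c =>
    Sum.elim (fun i => mat y *ᵥ S0 n F i) (fun i => mat (x * y) *ᵥ S0 n F i) c
  have hcs : Fintype.card (Fin n ⊕ Fin n) + 2 ≤ 2 * (n + 1) := by
    rw [Fintype.card_sum, Fintype.card_fin]
    omega
  obtain ⟨g, hg1, hg⟩ := exists_fix h2 hcs s
  have hgy : ∀ i, mat g *ᵥ (mat y *ᵥ S0 n F i) = mat y *ᵥ S0 n F i := fun i => hg (Sum.inl i)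
  have hgxy : ∀ i, mat g *ᵥ (mat (x * y) *ᵥ S0 n F i) = mat (x * y) *ᵥ S0 n F i :=
    fun i => hg (Sum.inr i)
  have hconj : ∀ t : OO (n + 1) F, (∀ i, mat g *ᵥ (mat t *ᵥ S0 n F i) = mat t *ᵥ S0 n F i) →
      t⁻¹ * g * t ∈ K0 n F := by
    intro t ht i
    rw [mat_mul, mat_mul, ← Matrix.mulVec_mulVec, ← Matrix.mulVec_mulVec, ht i, mat_inv_mulVec]
  have hgH : g ∈ (H : Subgroup (OO (n + 1) F)) := hmemH g (hconj y hgy)
  have hgxH : g ∈ MulAut.conj x • (H : Subgroup (OO (n + 1) F)) := by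
    rw [Subgroup.mem_pointwise_smul_iff_inv_smul_mem, MulAut.smul_def, MulAut.conj_inv_apply]
    apply hmemH
    have := hconj (x * y) hgxy
    have e : y⁻¹ * (x⁻¹ * g * x) * y = (x * y)⁻¹ * g * (x * y) := by group
    rw [e]
    exact this
  intro hbot
  have : g ∈ (H : Subgroup (OO (n + 1) F)) ⊓ MulAut.conj x • (H : Subgroup (OO (n + 1) F)) :=
    ⟨hgH, hgxH⟩
  rw [hbot, Subgroup.mem_bot] at this
  exact hg1 this

end Cfsg.Agent.Lib.Helper14.OPlusSylow
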