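import Mathlib

set_option autoImplicit false

/-!
# The centraliser of a transvection in `SL₅(𝔽₂)` has order `21504`
-/

namespace Cfsg.Agent.Lib.Helper14.TransvCent

open Matrix

abbrev M5 := Matrix (Fin 5) (Fin 5) (ZMod 2)
abbrev M3 := Matrix (Fin 3) (Fin 3) (ZMod 2)

/-- the general shape of an element of the centraliser -/
def mk (a : Fin 4 → ZMod 2) (b : Fin 3 → ZMod 2) (H : M3) : M5 :=
  !![1, a 0, a 1, a 2, a 3;
     0, 1, 0, 0, 0;
     0, b 0, H 0 0, H 0 1, H 0 2;
     0, b 1, H 1 0, H 1 1, H 1 2;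
     0, b 2, H 2 0, H 2 1, H 2 2]

theorem det_mk (a : Fin 4 → ZMod 2) (b : Fin 3 → ZMod 2) (H : M3) : (mk a b H).det = H.det := by
  rw [Matrix.det_succ_column_zero]
  simp [Fin.sum_univ_succ, mk]
  rw [Matrix.det_succ_row_zero]
  simp [Fin.sum_univ_succ]
  rw [Matrix.det_fin_three, Matrix.det_fin_three]
  simp

/-- the transvection -/
def t01 : M5 := Matrix.transvection 0 1 1

theorem t01_eq :
    t01 = !![1, 1, 0, 0, 0; 0, 1, 0, 0, 0; 0, 0, 1, 0, 0; 0, 0, 0, 1, 0; 0, 0, 0, 0, 1] := by
  decide

theorem mk_comm (a : Fin 4 → ZMod 2) (b : Fin 3 → ZMod 2) (H : M3) :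
    mk a b H * t01 = t01 * mk a b H := by
  rw [t01_eq]
  ext i j
  fin_cases i <;> fin_cases j <;> simp [mk, Matrix.mul_apply, Fin.sum_univ_succ] <;> ring

theorem eq_mk_of_comm (g : M5) (hdet : g.det = 1) (hc : g * t01 = t01 * g) :
    g = mk (fun k => g 0 k.succ) (fun k => g k.succ.succ 1)
      (fun i j => g i.succ.succ j.succ.succ) := by
  rw [t01_eq] at hc
  have e := fun i j => congrFun (congrFun hc i) j
  have h10 := e 1 1
  have h20 := e 2 1
  have h30 := e 3 1
  have h40 := e 4 1
  have h00 := e 0 1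
  have r2 := e 0 2
  have r3 := e 0 3
  have r4 := e 0 4
  simp [Matrix.mul_apply, Fin.sum_univ_succ] at h10 h20 h30 h40 h00 r2 r3 r4
  have hg00 : g 0 0 = 1 := by
    have hne : g 0 0 ≠ 0 := by
      intro h0
      have : g.det = 0 := by
        apply Matrix.det_eq_zero_of_column_eq_zero 0
        intro i
        fin_cases i
        · exact h0
        · exact h10
        · exact h20
        · exact h30
        · exact h40
      rw [this] at hdet
      exact zero_ne_one hdet
    revert hne
    generalize g 0 0 = x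
    revert x
    decide
  have hg11 : g 1 1 = 1 := by
    rw [hg00] at h00
    have : g 1 1 = 1 := by linear_combination -h00
    exact this
  ext i j
  fin_cases i <;> fin_cases j <;> first
    | exact hg00 | exact h10 | exact h20 | exact h30 | exact h40 | exact hg11
    | exact r2 | exact r3 | exact r4 | rfl

theorem mk_a (a : Fin 4 → ZMod 2) (b : Fin 3 → ZMod 2) (H : M3) (k : Fin 4) :
    mk a b H 0 k.succ = a k := by
  fin_cases k <;> rfl

theorem mk_b (a : Fin 4 → ZMod 2) (b : Fin 3 → ZMod 2) (H : M3) (k : Fin 3) :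
    mk a b H k.succ.succ 1 = b k := by
  fin_cases k <;> rfl

theorem mk_H (a : Fin 4 → ZMod 2) (b : Fin 3 → ZMod 2) (H : M3) (i j : Fin 3) :
    mk a b H i.succ.succ j.succ.succ = H i j := by
  fin_cases i <;> fin_cases j <;> rfl

theorem card_SL3 : Nat.card {H : M3 // H.det = 1} = 168 := by
  have h1 := Matrix.card_GL_field (𝔽 := ZMod 2) 3
  have e : {H : M3 // H.det = 1} ≃ GL (Fin 3) (ZMod 2) :=
    { toFun := fun H => Matrix.GeneralLinearGroup.mkOfDetNeZero H.1 (by rw [H.2]; exact one_ne_zero)
      invFun := fun g => ⟨g.1, by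
        have hu : IsUnit (g.1 : M3).det := (Matrix.isUnit_iff_isUnit_det _).mp g.isUnit
        revert hu
        generalize (g.1 : M3).det = x
        revert x
        decide⟩
      left_inv := fun H => rfl
      right_inv := fun g => by
        apply Units.ext
        rfl }
  rw [Nat.card_congr e, h1]
  simp [Fin.prod_univ_succ]

theorem main (s : Matrix.SpecialLinearGroup (Fin 5) (ZMod 2))
    (hs : (s : Matrix (Fin 5) (Fin 5) (ZMod 2)) = Matrix.transvection 0 1 1) :
    Nat.card (Subgroup.centralizer ({s} : Set (Matrix.SpecialLinearGroup (Fin 5) (ZMod 2)))) =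
      21504 := by
  have hs' : (s : M5) = t01 := hs
  have hmem : ∀ g : Matrix.SpecialLinearGroup (Fin 5) (ZMod 2),
      g ∈ Subgroup.centralizer ({s} : Set (Matrix.SpecialLinearGroup (Fin 5) (ZMod 2))) ↔
        (g : M5) * t01 = t01 * (g : M5) := by
    intro g
    rw [Subgroup.mem_centralizer_iff]
    constructor
    · intro h
      have := h s rfl
      have h2 := congrArg Subtype.val this
      rw [← hs']
      exact h2.symm
    · intro h x hx
      rw [Set.mem_singleton_iff] at hx
      subst hx
      apply Subtype.ext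
      show (x : M5) * (g : M5) = (g : M5) * (x : M5)
      rw [hs']
      exact h.symm
  let Φ : (Fin 4 → ZMod 2) × (Fin 3 → ZMod 2) × {H : M3 // H.det = 1} →
      Subgroup.centralizer ({s} : Set (Matrix.SpecialLinearGroup (Fin 5) (ZMod 2))) :=
    fun p => ⟨(⟨mk p.1 p.2.1 p.2.2.1, by rw [det_mk]; exact p.2.2.2⟩ :
      Matrix.SpecialLinearGroup (Fin 5) (ZMod 2)), (hmem _).mpr (mk_comm _ _ _)⟩
  have hΦ : Function.Bijective Φ := by
    constructor
    · rintro ⟨a, b, H⟩ ⟨a', b', H'⟩ h
      have h1 : mk a b H.1 = mk a' b' H'.1 := congrArg (fun x => (x.1.1 : M5)) h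
      have ha : a = a' := by
        funext k
        rw [← mk_a a b H.1 k, h1, mk_a]
      have hb : b = b' := by
        funext k
        rw [← mk_b a b H.1 k, h1, mk_b]
      have hH : H = H' := by
        apply Subtype.ext
        ext i j
        rw [← mk_H a b H.1 i j, h1, mk_H]
      rw [ha, hb, hH]
    · rintro ⟨g, hg⟩
      rw [hmem] at hg
      have hdet : (g : M5).det = 1 := g.2
      have heq := eq_mk_of_comm (g : M5) hdet hg
      set a0 : Fin 4 → ZMod 2 := fun k => (g : M5) 0 k.succ with ha0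
      set b0 : Fin 3 → ZMod 2 := fun k => (g : M5) k.succ.succ 1 with hb0
      set H0 : M3 := fun i j => (g : M5) i.succ.succ j.succ.succ with hH0
      have hdet0 : H0.det = 1 := by
        rw [← det_mk a0 b0 H0, ← heq]
        exact hdet
      refine ⟨(a0, b0, ⟨H0, hdet0⟩), ?_⟩
      apply Subtype.ext
      apply Subtype.ext
      exact heq.symm
  rw [← Nat.card_congr (Equiv.ofBijective Φ hΦ), Nat.card_prod, Nat.card_prod, card_SL3,
    Nat.card_eq_fintype_card, Nat.card_eq_fintype_card, Fintype.card_fun, Fintype.card_fun,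
    ZMod.card, Fintype.card_fin, Fintype.card_fin]
  norm_num

end Cfsg.Agent.Lib.Helper14.TransvCent
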