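import Mathlib
import Cfsg.Agent.Lib.Helper14.TransvCent

set_option autoImplicit false

/-!
# The centraliser `D` of a transvection in `SL₅(𝔽₂)`: parametrisation

Every element of `D` is `mD c α b H` with `c : 𝔽₂`, `α b : 𝔽₂³`, `H ∈ SL₃(2)`, and the product is
`(c, α, b, H) (c', α', b', H') = (c + c' + α·b', α' + αH', b + Hb', HH')`.
-/

namespace Cfsg.Agent.Lib.Helper14.OctInv

open Matrix Cfsg.Agent.Lib.Helper14.TransvCent

abbrev V3 := Fin 3 → ZMod 2
abbrev SL3 := Matrix.SpecialLinearGroup (Fin 3) (ZMod 2)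
abbrev SL5 := Matrix.SpecialLinearGroup (Fin 5) (ZMod 2)

/-- parametrised matrix -/
def mq (c : ZMod 2) (α b : V3) (H : M3) : M5 := mk ![c, α 0, α 1, α 2] b H

theorem mq_mul (c c' : ZMod 2) (α α' b b' : V3) (H H' : M3) :
    mq c α b H * mq c' α' b' H' =
      mq (c + c' + α ⬝ᵥ b') (α' + α ᵥ* H') (b + H *ᵥ b') (H * H') := by
  ext i j
  fin_cases i <;> fin_cases j <;>
    simp [mq, mk, Matrix.mul_apply, Fin.sum_univ_succ, dotProduct, Matrix.vecMul,
      Matrix.mulVec] <;> ring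

theorem det_mq (c : ZMod 2) (α b : V3) (H : M3) : (mq c α b H).det = H.det := det_mk _ _ _

theorem mq_comm (c : ZMod 2) (α b : V3) (H : M3) : mq c α b H * t01 = t01 * mq c α b H :=
  mk_comm _ _ _

theorem mk_eq_mq (a : Fin 4 → ZMod 2) (b : V3) (H : M3) :
    mk a b H = mq (a 0) (fun k => a k.succ) b H := by
  unfold mq
  congr 1
  funext k
  fin_cases k <;> rfl

theorem mq_one : mq 0 0 0 1 = 1 := by
  ext i j
  fin_cases i <;> fin_cases j <;> simp [mq, mk]

theorem mq_t01 : mq 1 0 0 1 = t01 := by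
  rw [t01_eq]
  ext i j
  fin_cases i <;> fin_cases j <;> simp [mq, mk]

theorem mq_c (c : ZMod 2) (α b : V3) (H : M3) : mq c α b H 0 1 = c := rfl

theorem mq_α (c : ZMod 2) (α b : V3) (H : M3) (k : Fin 3) : mq c α b H 0 k.succ.succ = α k := by
  fin_cases k <;> rfl

theorem mq_b (c : ZMod 2) (α b : V3) (H : M3) (k : Fin 3) : mq c α b H k.succ.succ 1 = b k := by
  fin_cases k <;> rfl

theorem mq_H (c : ZMod 2) (α b : V3) (H : M3) (i j : Fin 3) :
    mq c α b H i.succ.succ j.succ.succ = H i j := by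
  fin_cases i <;> fin_cases j <;> rfl

/-- the transvection as an element of `SL₅(2)` -/
def s5 : SL5 := ⟨t01, by rw [← mq_t01, det_mq, Matrix.det_one]⟩

/-- the centraliser of the transvection -/
abbrev D : Subgroup SL5 := Subgroup.centralizer ({s5} : Set SL5)

theorem mem_D (g : SL5) : g ∈ D ↔ (g : M5) * t01 = t01 * (g : M5) := by
  rw [Subgroup.mem_centralizer_iff]
  constructor
  · intro h
    have := h s5 rfl
    have h2 := congrArg Subtype.val this
    exact h2.symm
  · intro h x hx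
    rw [Set.mem_singleton_iff] at hx
    subst hx
    apply Subtype.ext
    exact h.symm

/-- parametrised element of `D` -/
def mD (c : ZMod 2) (α b : V3) (H : SL3) : ↥D :=
  ⟨⟨mq c α b H.1, by rw [det_mq]; exact H.2⟩, (mem_D _).mpr (mq_comm _ _ _ _)⟩

theorem mD_val (c : ZMod 2) (α b : V3) (H : SL3) : ((mD c α b H : ↥D) : SL5).1 = mq c α b H.1 := rfl

theorem val_injective : Function.Injective (fun g : ↥D => (g : SL5).1) := by
  intro g h e
  exact Subtype.ext (Subtype.ext e)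

theorem mD_mul (c c' : ZMod 2) (α α' b b' : V3) (H H' : SL3) :
    mD c α b H * mD c' α' b' H' =
      mD (c + c' + α ⬝ᵥ b') (α' + α ᵥ* H'.1) (b + H.1 *ᵥ b') (H * H') := by
  apply val_injective
  show mq c α b H.1 * mq c' α' b' H'.1 = _
  rw [mq_mul]
  rfl

theorem mD_one : mD 0 0 0 1 = 1 := by
  apply val_injective
  show mq 0 0 0 1 = 1
  exact mq_one

theorem mD_inj {c c' : ZMod 2} {α α' b b' : V3} {H H' : SL3}
    (h : mD c α b H = mD c' α' b' H') : c = c' ∧ α = α' ∧ b = b' ∧ H = H' := by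
  have h1 : mq c α b H.1 = mq c' α' b' H'.1 := congrArg (fun g : ↥D => (g : SL5).1) h
  refine ⟨?_, ?_, ?_, ?_⟩
  · rw [← mq_c c α b H.1, h1, mq_c]
  · funext k
    rw [← mq_α c α b H.1 k, h1, mq_α]
  · funext k
    rw [← mq_b c α b H.1 k, h1, mq_b]
  · apply Subtype.ext
    ext i j
    rw [← mq_H c α b H.1 i j, h1, mq_H]

theorem exists_mD (g : ↥D) : ∃ (c : ZMod 2) (α b : V3) (H : SL3), g = mD c α b H := by
  have hg := (mem_D _).mp g.2
  have hdet : ((g : SL5) : M5).det = 1 := (g : SL5).2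
  obtain ⟨c, α, b, H0, hM⟩ : ∃ (c : ZMod 2) (α b : V3) (H0 : M3), ((g : SL5) : M5) = mq c α b H0 :=
    ⟨_, _, _, _, (eq_mk_of_comm _ hdet hg).trans (mk_eq_mq _ _ _)⟩
  have hdet0 : H0.det = 1 := by
    rw [← det_mq c α b H0, ← hM]
    exact hdet
  refine ⟨c, α, b, ⟨H0, hdet0⟩, ?_⟩
  apply val_injective
  exact hM

/-- the projection to `SL₃(2)` -/
noncomputable def piFun (g : ↥D) : SL3 := (exists_mD g).choose_spec.choose_spec.choose_spec.choose

theorem piFun_mD (c : ZMod 2) (α b : V3) (H : SL3) : piFun (mD c α b H) = H := by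
  have h := (exists_mD (mD c α b H)).choose_spec.choose_spec.choose_spec.choose_spec
  exact (mD_inj h).2.2.2.symm

/-- the projection as a homomorphism -/
noncomputable def piD : ↥D →* SL3 where
  toFun := piFun
  map_one' := by rw [← mD_one, piFun_mD]
  map_mul' g h := by
    obtain ⟨c, α, b, H, rfl⟩ := exists_mD g
    obtain ⟨c', α', b', H', rfl⟩ := exists_mD h
    rw [mD_mul, piFun_mD, piFun_mD, piFun_mD]

theorem piD_mD (c : ZMod 2) (α b : V3) (H : SL3) : piD (mD c α b H) = H := piFun_mD c α b H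

/-- the complement -/
def sigD : SL3 →* ↥D where
  toFun H := mD 0 0 0 H
  map_one' := mD_one
  map_mul' H H' := by
    rw [mD_mul]
    simp

theorem sigD_apply (H : SL3) : sigD H = mD 0 0 0 H := rfl

theorem piD_sigD (H : SL3) : piD (sigD H) = H := piD_mD _ _ _ _

theorem mem_ker_iff (g : ↥D) : g ∈ piD.ker ↔ ∃ (c : ZMod 2) (α b : V3), g = mD c α b 1 := by
  rw [MonoidHom.mem_ker]
  constructor
  · intro h
    obtain ⟨c, α, b, H, rfl⟩ := exists_mD g
    rw [piD_mD] at h
    exact ⟨c, α, b, by rw [h]⟩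
  · rintro ⟨c, α, b, rfl⟩
    exact piD_mD _ _ _ _

/-- the product in the kernel -/
theorem mD_mul_one (c c' : ZMod 2) (α α' b b' : V3) :
    mD c α b 1 * mD c' α' b' 1 = mD (c + c' + α ⬝ᵥ b') (α' + α) (b + b') 1 := by
  rw [mD_mul]
  simp

/-- the central involution -/
def sD : ↥D := mD 1 0 0 1

theorem sD_val : (sD : SL5) = s5 := by
  apply Subtype.ext
  show mq 1 0 0 1 = t01
  exact mq_t01

end Cfsg.Agent.Lib.Helper14.OctInv
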