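import Mathlib
import Cfsg.Prelude.Def_Transfer
import Cfsg.Prelude.Def_Solvable
import Cfsg.Agent.Lib.Helper14.OctInvA
import Cfsg.Agent.Lib.Helper20.ESCriterion

set_option autoImplicit false

/-!
# The centraliser `D` of a transvection in `SL₅(𝔽₂)`: the extraspecial kernel
-/

namespace Cfsg.Agent.Lib.Helper14.OctInv

open Matrix Cfsg.Agent.Lib.Helper14.TransvCent Cfsg.Agent.Lib.Helper20.ES
open scoped commutatorElement

theorem two_eq_zero_z2 : (2 : ZMod 2) = 0 := rfl

theorem v3_add_self (v : V3) : v + v = 0 := by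
  funext k
  exact CharTwo.add_self_eq_zero (v k)

/-- the kernel of the projection -/
noncomputable abbrev QD : Subgroup ↥D := piD.ker

theorem mD_mem_QD (c : ZMod 2) (α b : V3) : mD c α b 1 ∈ QD := (mem_ker_iff _).mpr ⟨c, α, b, rfl⟩

theorem sD_mem_QD : sD ∈ QD := mD_mem_QD 1 0 0

theorem exists_params (x : ↥QD) : ∃ (c : ZMod 2) (α b : V3), (x : ↥D) = mD c α b 1 :=
  (mem_ker_iff _).mp x.2

/-- the central elements -/
theorem mD_central (e c : ZMod 2) (α b : V3) (H : SL3) :
    mD e 0 0 1 * mD c α b H = mD c α b H * mD e 0 0 1 := by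
  rw [mD_mul, mD_mul]
  congr 1
  · simp only [zero_dotProduct, dotProduct_zero, add_zero]
    ring
  · simp
  · simp
  · rw [one_mul, mul_one]

theorem sD_central (g : ↥D) : sD * g = g * sD := by
  obtain ⟨c, α, b, H, rfl⟩ := exists_mD g
  exact mD_central 1 c α b H

theorem mD_cases (e : ZMod 2) : mD e 0 0 1 = 1 ∨ mD e 0 0 1 = sD := by
  have : e = 0 ∨ e = 1 := by
    revert e
    decide
  rcases this with rfl | rfl
  · left; exact mD_one
  · right; rfl

theorem sD_ne_one : sD ≠ 1 := by
  intro h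
  rw [← mD_one] at h
  have := (mD_inj h).1
  exact one_ne_zero this

theorem sD_sq : sD * sD = 1 := by
  show mD 1 0 0 1 * mD 1 0 0 1 = 1
  rw [mD_mul_one, ← mD_one]
  congr 1

/-- the commutator formula -/
theorem comm_eq (c c' : ZMod 2) (α α' b b' : V3) :
    mD c α b 1 * mD c' α' b' 1 =
      mD (α ⬝ᵥ b' + α' ⬝ᵥ b) 0 0 1 * (mD c' α' b' 1 * mD c α b 1) := by
  rw [mD_mul_one, mD_mul_one, mD_mul_one]
  congr 1
  · simp only [zero_dotProduct, add_zero]
    linear_combination (-(α' ⬝ᵥ b)) * two_eq_zero_z2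
  · simp [add_comm]
  · simp [add_comm]

theorem sq_eq (c : ZMod 2) (α b : V3) :
    mD c α b 1 * mD c α b 1 = mD (α ⬝ᵥ b) 0 0 1 := by
  rw [mD_mul_one]
  congr 1
  · linear_combination c * two_eq_zero_z2
  · exact v3_add_self α
  · exact v3_add_self b

/-- elements centralising the kernel -/
theorem cent_QD (g : ↥D) (hg : ∀ q ∈ QD, g * q = q * g) : g = 1 ∨ g = sD := by
  obtain ⟨c, α, b, H, rfl⟩ := exists_mD g
  have hb : b = 0 := by
    funext k
    have h := hg _ (mD_mem_QD 0 (Pi.single k 1) 0)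
    rw [mD_mul, mD_mul] at h
    have h1 := (mD_inj h).1
    simp only [dotProduct_zero, add_zero, zero_add, single_one_dotProduct] at h1
    have : b k = 0 := by linear_combination -h1
    exact this
  have hα : α = 0 := by
    funext k
    have h := hg _ (mD_mem_QD 0 0 (Pi.single k 1))
    rw [mD_mul, mD_mul] at h
    have h1 := (mD_inj h).1
    simp only [zero_dotProduct, add_zero, dotProduct_single_one] at h1
    have : α k = 0 := by linear_combination h1
    exact this
  have hH : H = 1 := by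
    apply Subtype.ext
    ext i j
    have h := hg _ (mD_mem_QD 0 (Pi.single i 1) 0)
    rw [mD_mul, mD_mul] at h
    have h1 := (mD_inj h).2.1
    have h2 := congrFun h1 j
    rw [hα] at h2
    simp only [Matrix.SpecialLinearGroup.coe_one, Matrix.vecMul_one, Pi.add_apply, Pi.zero_apply,
      add_zero, zero_add, single_one_vecMul, Matrix.row_apply] at h2
    rw [← h2]
    simp [Matrix.one_apply, Pi.single_apply, eq_comm]
  rw [hb, hα, hH]
  exact mD_cases c

/-- the central involution of the kernel -/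
noncomputable def zq : ↥QD := ⟨sD, sD_mem_QD⟩

theorem mem_zpowers_zq (x : ↥QD) (e : ZMod 2) (hx : (x : ↥D) = mD e 0 0 1) :
    x ∈ Subgroup.zpowers zq := by
  rcases mD_cases e with h | h
  · have : x = 1 := Subtype.ext (hx.trans h)
    rw [this]
    exact Subgroup.one_mem _
  · have : x = zq := Subtype.ext (hx.trans h)
    rw [this]
    exact Subgroup.mem_zpowers _

theorem esData_QD : ESData 2 ↥QD zq where
  z_ne := fun h => sD_ne_one (congrArg Subtype.val h)
  z_pow := by
    apply Subtype.ext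
    show sD ^ 2 = 1
    rw [pow_two, sD_sq]
  z_central := by
    rw [Subgroup.mem_center_iff]
    intro g
    apply Subtype.ext
    exact (sD_central g.1).symm
  center_le := by
    intro w hw
    rw [Subgroup.mem_center_iff] at hw
    have h := cent_QD w.1 (fun q hq => (congrArg Subtype.val (hw ⟨q, hq⟩)).symm)
    rcases h with h | h
    · have : w = 1 := Subtype.ext h
      rw [this]
      exact Subgroup.one_mem _
    · have : w = zq := Subtype.ext h
      rw [this]
      exact Subgroup.mem_zpowers _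
  comm_mem := by
    intro x y
    obtain ⟨c, α, b, hx⟩ := exists_params x
    obtain ⟨c', α', b', hy⟩ := exists_params y
    apply mem_zpowers_zq _ (α ⬝ᵥ b' + α' ⬝ᵥ b)
    show ⁅(x : ↥D), (y : ↥D)⁆ = _
    rw [commutatorElement_def, mul_inv_eq_iff_eq_mul, mul_inv_eq_iff_eq_mul, hx, hy, mul_assoc]
    exact comm_eq c c' α α' b b'
  pow_mem := by
    intro x
    obtain ⟨c, α, b, hx⟩ := exists_params x
    apply mem_zpowers_zq _ (α ⬝ᵥ b)
    show (x : ↥D) ^ 2 = _
    rw [pow_two, hx]
    exact sq_eq c α b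

theorem QD_nonabelian : ∃ x y : ↥QD, ⁅x, y⁆ ≠ 1 := by
  refine ⟨⟨_, mD_mem_QD 0 (Pi.single 0 1) 0⟩, ⟨_, mD_mem_QD 0 0 (Pi.single 0 1)⟩, ?_⟩
  intro h
  rw [commutatorElement_eq_one_iff_mul_comm] at h
  have h1 := congrArg Subtype.val h
  simp only [Subgroup.coe_mul] at h1
  rw [mD_mul_one, mD_mul_one] at h1
  have h2 := (mD_inj h1).1
  simp only [single_one_dotProduct, zero_dotProduct, add_zero, Pi.single_eq_same] at h2
  exact one_ne_zero h2

theorem isExtraspecial_QD : Cfsg.IsExtraspecial 2 ↥QD := by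
  have : Fact (Nat.Prime 2) := ⟨Nat.prime_two⟩
  exact esData_QD.isExtraspecial QD_nonabelian

theorem card_QD : Nat.card ↥QD = 2 ^ 7 := by
  let Φ : ZMod 2 × V3 × V3 → ↥QD := fun p => ⟨mD p.1 p.2.1 p.2.2 1, mD_mem_QD _ _ _⟩
  have hΦ : Function.Bijective Φ := by
    constructor
    · rintro ⟨c, α, b⟩ ⟨c', α', b'⟩ h
      have h1 : mD c α b 1 = mD c' α' b' 1 := congrArg Subtype.val h
      obtain ⟨h2, h3, h4, -⟩ := mD_inj h1
      rw [h2, h3, h4]
    · intro x
      obtain ⟨c, α, b, hx⟩ := exists_params x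
      exact ⟨(c, α, b), Subtype.ext hx.symm⟩
  rw [← Nat.card_congr (Equiv.ofBijective Φ hΦ), Nat.card_prod, Nat.card_prod,
    Nat.card_eq_fintype_card, Nat.card_eq_fintype_card, Fintype.card_fun, ZMod.card,
    Fintype.card_fin]
  norm_num

/-- the elementary abelian subgroup of order `16` -/
def homE : Multiplicative (ZMod 2 × V3) →* ↥D where
  toFun p := mD (Multiplicative.toAdd p).1 (Multiplicative.toAdd p).2 0 1
  map_one' := mD_one
  map_mul' p q := by
    rw [mD_mul_one]
    congr 1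
    · simp
    · simp [add_comm]

theorem homE_injective : Function.Injective homE := by
  intro p q h
  obtain ⟨h1, h2, -, -⟩ := mD_inj h
  apply Multiplicative.toAdd.injective
  exact Prod.ext h1 h2

/-- the elementary abelian subgroup of order `16` -/
def ED : Subgroup ↥D := homE.range

theorem ED_le : ED ≤ QD := by
  rintro _ ⟨p, rfl⟩
  exact mD_mem_QD _ _ _

theorem card_ED : Nat.card ↥ED = 2 ^ 4 := by
  show Nat.card ↥homE.range = _
  rw [← Nat.card_congr (MonoidHom.ofInjective homE_injective).toEquiv, Nat.card_eq_fintype_card]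
  show Fintype.card (ZMod 2 × V3) = _
  rw [Fintype.card_prod, Fintype.card_fun, ZMod.card, Fintype.card_fin]
  norm_num

theorem ED_comm (x y : ↥D) (hx : x ∈ ED) (hy : y ∈ ED) : x * y = y * x := by
  obtain ⟨p, rfl⟩ := hx
  obtain ⟨q, rfl⟩ := hy
  rw [← map_mul, ← map_mul, mul_comm]

theorem ED_sq (x : ↥D) (hx : x ∈ ED) : x ^ 2 = 1 := by
  obtain ⟨p, rfl⟩ := hx
  rw [← map_pow]
  have : p ^ 2 = 1 := by
    apply Multiplicative.toAdd.injective
    show (2 : ℕ) • (Multiplicative.toAdd p) = 0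
    rw [two_nsmul]
    apply Prod.ext
    · exact CharTwo.add_self_eq_zero _
    · exact v3_add_self _
  rw [this, map_one]

/-- the complement -/
def KD : Subgroup ↥D := sigD.range

theorem sigD_injective : Function.Injective sigD := by
  intro H H' h
  have := congrArg piD h
  rwa [piD_sigD, piD_sigD] at this

theorem QD_inf_KD : QD ⊓ KD = ⊥ := by
  rw [eq_bot_iff]
  rintro x ⟨hx, ⟨H, rfl⟩⟩
  have h1 : piD (sigD H) = 1 := hx
  rw [piD_sigD] at h1
  rw [h1, map_one]
  exact Subgroup.mem_bot.mpr rfl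

theorem QD_sup_KD : QD ⊔ KD = ⊤ := by
  rw [eq_top_iff]
  intro g _
  have h1 : g * (sigD (piD g))⁻¹ ∈ QD := by
    rw [MonoidHom.mem_ker, map_mul, map_inv, piD_sigD, mul_inv_cancel]
  have h2 : sigD (piD g) ∈ KD := ⟨_, rfl⟩
  have := Subgroup.mul_mem_sup h1 h2
  rwa [inv_mul_cancel_right] at this

theorem piD_surjective : Function.Surjective piD := fun H => ⟨sigD H, piD_sigD H⟩

end Cfsg.Agent.Lib.Helper14.OctInv
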