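import Mathlib
import Cfsg.Agent.Lib.Helper14.OctInvB
import Cfsg.Agent.Lib.Helper1.Fitting

set_option autoImplicit false

/-!
# The centraliser `D` of a transvection in `SL₅(𝔽₂)`: `O₂(D)` is the kernel
-/

namespace Cfsg.Agent.Lib.Helper14.OctInv

open Matrix Cfsg.Agent.Lib.Helper14.TransvCent

theorem z2_cases (x : ZMod 2) : x = 0 ∨ x = 1 := by
  revert x
  decide

/-- `SL₃(2)` is transitive on nonzero vectors -/
theorem exists_sl3_col (v : V3) (hv : v ≠ 0) : ∃ H : SL3, H.1 *ᵥ (Pi.single 0 1) = v := by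
  rcases z2_cases (v 0) with h0 | h0
  · rcases z2_cases (v 1) with h1 | h1
    · rcases z2_cases (v 2) with h2 | h2
      · exfalso
        apply hv
        funext k
        fin_cases k
        · exact h0
        · exact h1
        · exact h2
      · refine ⟨⟨!![0, 0, 1; 0, 1, 0; 1, 0, 0], by rw [Matrix.det_fin_three]; simp⟩, ?_⟩
        rw [mulVec_single_one]
        funext k
        fin_cases k
        · exact h0.symm
        · exact h1.symm
        · exact h2.symm
    · refine ⟨⟨!![0, 1, 0; 1, 0, 0; v 2, 0, 1], by rw [Matrix.det_fin_three]; simp⟩, ?_⟩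
      rw [mulVec_single_one]
      funext k
      fin_cases k
      · exact h0.symm
      · exact h1.symm
      · rfl
  · refine ⟨⟨!![1, 0, 0; v 1, 1, 0; v 2, 0, 1], by rw [Matrix.det_fin_three]; simp⟩, ?_⟩
    rw [mulVec_single_one]
    funext k
    fin_cases k
    · exact h0.symm
    · rfl
    · rfl

theorem exists_sl3_map (v w : V3) (hv : v ≠ 0) (hw : w ≠ 0) : ∃ H : SL3, H.1 *ᵥ v = w := by
  obtain ⟨A, hA⟩ := exists_sl3_col v hv
  obtain ⟨B, hB⟩ := exists_sl3_col w hw
  refine ⟨B * A⁻¹, ?_⟩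
  rw [← hA, Matrix.mulVec_mulVec, ← Matrix.SpecialLinearGroup.coe_mul, inv_mul_cancel_right]
  exact hB

/-- `O₂(SL₃(2)) = 1` -/
theorem O2_SL3 (N : Subgroup SL3) (hN : N.Normal) (h2 : IsPGroup 2 ↥N) : N = ⊥ := by
  have hp2 : Fact (Nat.Prime 2) := ⟨Nat.prime_two⟩
  letI act : MulAction ↥N V3 := MulAction.compHom V3
    ((Matrix.SpecialLinearGroup.toLin' (n := Fin 3) (R := ZMod 2)).comp N.subtype)
  have h0 : (0 : V3) ∈ MulAction.fixedPoints ↥N V3 := by
    intro n
    exact mulVec_zero n.1.1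
  have hcard : 2 ∣ Nat.card V3 := by
    rw [Nat.card_eq_fintype_card, Fintype.card_fun, ZMod.card, Fintype.card_fin]
    norm_num
  obtain ⟨v, hv, hv0⟩ := h2.exists_fixed_point_of_prime_dvd_card_of_fixed_point V3 hcard h0
  have key : ∀ n ∈ N, ∀ w : V3, n.1 *ᵥ w = w := by
    intro n hn w
    by_cases hw : w = 0
    · rw [hw, mulVec_zero]
    obtain ⟨h, hh⟩ := exists_sl3_map v w (Ne.symm hv0) hw
    have hm : h⁻¹ * n * h ∈ N := by
      have := hN.conj_mem n hn h⁻¹
      rwa [inv_inv] at this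
    have hmv : (h⁻¹ * n * h).1 *ᵥ v = v := by
      have := hv ⟨_, hm⟩
      exact this
    have hn' : n = h * (h⁻¹ * n * h) * h⁻¹ := by group
    rw [hn', ← hh, Matrix.mulVec_mulVec, ← Matrix.SpecialLinearGroup.coe_mul,
      inv_mul_cancel_right, Matrix.SpecialLinearGroup.coe_mul, ← Matrix.mulVec_mulVec, hmv]
  rw [eq_bot_iff]
  intro n hn
  rw [Subgroup.mem_bot]
  apply Subtype.ext
  ext i j
  have := congrFun (key n hn (Pi.single j 1)) i
  rw [mulVec_single_one] at this
  rw [Matrix.SpecialLinearGroup.coe_one, Matrix.one_apply]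
  rw [Matrix.col_apply] at this
  rw [this, Pi.single_apply]

theorem pCore_D : Cfsg.pCore 2 ↥D = QD := by
  have hp2 : Fact (Nat.Prime 2) := ⟨Nat.prime_two⟩
  apply le_antisymm
  · have hn := Cfsg.Agent.Lib.Helper1.pCore_normal 2 ↥D
    have hp := Cfsg.Agent.Lib.Helper1.pCore_isPGroup 2 ↥D
    have h1 : (Cfsg.pCore 2 ↥D).map piD = ⊥ :=
      O2_SL3 _ (hn.map piD piD_surjective) (hp.map piD)
    intro x hx
    rw [MonoidHom.mem_ker]
    have : piD x ∈ (Cfsg.pCore 2 ↥D).map piD := ⟨x, hx, rfl⟩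
    rw [h1] at this
    exact Subgroup.mem_bot.mp this
  · exact Cfsg.Agent.Lib.Helper1.le_pCore (MonoidHom.normal_ker piD) (IsPGroup.of_card card_QD)

end Cfsg.Agent.Lib.Helper14.OctInv
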