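import Mathlib
import Cfsg.Prelude.Def_MonsterType
import Cfsg.Agent.Lib.Helper14.OctInvC
import Cfsg.Agent.Lib.Helper12.Cores
import Cfsg.Agent.Lib.Helper20.ESLargeConj

set_option autoImplicit false

/-!
# Groups with an involution centraliser isomorphic to the centraliser of a transvection of `SL₅(2)`
-/

namespace Cfsg.Agent.Lib.Helper14.OctInv

open Cfsg.Agent.Lib.Helper20.ES
open scoped commutatorElement

/-- transport of `ESData` along an isomorphism -/
theorem esData_equiv {p : ℕ} {E F : Type*} [Group E] [Group F] {z : E} (h : ESData p E z)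
    (e : E ≃* F) : ESData p F (e z) where
  z_ne := fun h1 => h.z_ne ((EmbeddingLike.map_eq_one_iff (f := e)).mp h1)
  z_pow := by rw [← map_pow, h.z_pow, map_one]
  z_central := by
    rw [Subgroup.mem_center_iff]
    intro g
    obtain ⟨g', rfl⟩ := e.surjective g
    rw [← map_mul, ← map_mul, Subgroup.mem_center_iff.mp h.z_central g']
  center_le := by
    intro w hw
    obtain ⟨w', rfl⟩ := e.surjective w
    have hw' : w' ∈ Subgroup.center E := by
      rw [Subgroup.mem_center_iff] at hw ⊢
      intro g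
      apply e.injective
      rw [map_mul, map_mul]
      exact hw (e g)
    obtain ⟨k, hk⟩ := Subgroup.mem_zpowers_iff.mp (h.center_le _ hw')
    exact Subgroup.mem_zpowers_iff.mpr ⟨k, by rw [← map_zpow, hk]⟩
  comm_mem := by
    intro x y
    obtain ⟨x', rfl⟩ := e.surjective x
    obtain ⟨y', rfl⟩ := e.surjective y
    obtain ⟨k, hk⟩ := Subgroup.mem_zpowers_iff.mp (h.comm_mem x' y')
    exact Subgroup.mem_zpowers_iff.mpr ⟨k, by rw [← map_zpow, hk, map_commutatorElement]⟩
  pow_mem := by
    intro x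
    obtain ⟨x', rfl⟩ := e.surjective x
    obtain ⟨k, hk⟩ := Subgroup.mem_zpowers_iff.mp (h.pow_mem x')
    exact Subgroup.mem_zpowers_iff.mpr ⟨k, by rw [← map_zpow, hk, map_pow]⟩

section Transfer

variable {G : Type*} [Group G] (z : G) (ψ : ↥(Subgroup.centralizer ({z} : Set G)) ≃* ↥D)

/-- the embedding of the model -/
noncomputable def iota : ↥D →* G :=
  (Subgroup.centralizer ({z} : Set G)).subtype.comp ψ.symm.toMonoidHom

theorem iota_apply (d : ↥D) : iota z ψ d = (ψ.symm d : G) := rfl

theorem iota_injective : Function.Injective (iota z ψ) := by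
  intro a b h
  apply ψ.symm.injective
  exact Subtype.ext h

theorem iota_psi (c : ↥(Subgroup.centralizer ({z} : Set G))) : iota z ψ (ψ c) = c := by
  rw [iota_apply, MulEquiv.symm_apply_apply]

theorem iota_mem (d : ↥D) : iota z ψ d ∈ Subgroup.centralizer ({z} : Set G) := (ψ.symm d).2

theorem iota_range : (iota z ψ).range = Subgroup.centralizer ({z} : Set G) := by
  ext x
  constructor
  · rintro ⟨d, rfl⟩
    exact iota_mem z ψ d
  · intro hx
    exact ⟨ψ ⟨x, hx⟩, iota_psi z ψ ⟨x, hx⟩⟩

theorem coreCent_eq :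
    (Cfsg.pCore 2 ↥(Subgroup.centralizer ({z} : Set G))).map
      (Subgroup.centralizer ({z} : Set G)).subtype = QD.map (iota z ψ) := by
  have h1 := Cfsg.Agent.Lib.Helper12.pCore_map_equiv' 2 ψ.symm
  rw [pCore_D] at h1
  rw [← h1, Subgroup.map_map]
  rfl

theorem z_mem_cent : z ∈ Subgroup.centralizer ({z} : Set G) := by
  rw [Subgroup.mem_centralizer_iff]
  intro w hw
  rw [Set.mem_singleton_iff] at hw
  rw [hw]

theorem psi_z (hz : orderOf z = 2) : ψ ⟨z, z_mem_cent z⟩ = sD := by
  have h := cent_QD (ψ ⟨z, z_mem_cent z⟩) (fun q _ => by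
    obtain ⟨c, rfl⟩ := ψ.surjective q
    rw [← map_mul, ← map_mul]
    congr 1
    apply Subtype.ext
    exact Subgroup.mem_centralizer_iff.mp c.2 z rfl)
  rcases h with h | h
  · exfalso
    have h1 : (⟨z, z_mem_cent z⟩ : ↥(Subgroup.centralizer ({z} : Set G))) = 1 :=
      (EmbeddingLike.map_eq_one_iff (f := ψ)).mp h
    have h2 : z = 1 := congrArg Subtype.val h1
    rw [h2, orderOf_one] at hz
    norm_num at hz
  · exact h

theorem iota_sD (hz : orderOf z = 2) : iota z ψ sD = z := by
  rw [← psi_z z ψ hz, iota_psi]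

end Transfer

end Cfsg.Agent.Lib.Helper14.OctInv
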