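import Mathlib
import Cfsg.Prelude.Def_MonsterType
import Cfsg.Agent.Lib.Helper14.OctInvD

set_option autoImplicit false

/-!
# Groups with an involution centraliser isomorphic to the centraliser of a transvection of `SL₅(2)`:
the structure of the centraliser
-/

namespace Cfsg.Agent.Lib.Helper14.OctInv

open Cfsg.Agent.Lib.Helper20.ES
open scoped commutatorElement

theorem transfer {G : Type*} [Group G] [Finite G] (z : G) (hz : orderOf z = 2)
    (ψ : ↥(Subgroup.centralizer ({z} : Set G)) ≃* ↥D) (Q : Subgroup G)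
    (hQ : Q = (Cfsg.pCore 2 ↥(Subgroup.centralizer ({z} : Set G))).map
      (Subgroup.centralizer ({z} : Set G)).subtype)
    (g : G) (hg1 : g * z * g⁻¹ ≠ z) (hg2 : g * z * g⁻¹ ∈ Q) :
    Cfsg.IsExtraspecial 2 ↥Q ∧ Nat.card ↥Q = 2 ^ 7 ∧
      (∃ E : Subgroup G, E ≤ Q ∧ Cfsg.IsElementaryAbelian 2 E ∧ Nat.card ↥E = 2 ^ 4) ∧
      Cfsg.IsLargeExtraspecial Q ∧
      ∃ K : Subgroup G, K ≤ Subgroup.centralizer ({z} : Set G) ∧ Q ⊓ K = ⊥ ∧
        Q ⊔ K = Subgroup.centralizer ({z} : Set G) ∧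
        Nonempty (↥K ≃* Matrix.SpecialLinearGroup (Fin 3) (ZMod 2)) := by
  have hp2 : Fact (Nat.Prime 2) := ⟨Nat.prime_two⟩
  have hQ' : Q = QD.map (iota z ψ) := hQ.trans (coreCent_eq z ψ)
  subst hQ'
  have hinj := iota_injective z ψ
  have hιz : iota z ψ sD = z := iota_sD z ψ hz
  have hz1 : z ≠ 1 := by
    intro h
    rw [h, orderOf_one] at hz
    norm_num at hz
  -- the extraspecial structure
  have hes : ESData 2 ↥(QD.map (iota z ψ)) ((QD.equivMapOfInjective (iota z ψ) hinj) zq) :=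
    esData_equiv esData_QD _
  have hL1 : Cfsg.IsExtraspecial 2 ↥(QD.map (iota z ψ)) := by
    obtain ⟨x, y, hxy⟩ := QD_nonabelian
    refine hes.isExtraspecial ⟨(QD.equivMapOfInjective (iota z ψ) hinj) x,
      (QD.equivMapOfInjective (iota z ψ) hinj) y, ?_⟩
    rw [← map_commutatorElement]
    intro h
    exact hxy ((EmbeddingLike.map_eq_one_iff (f := QD.equivMapOfInjective (iota z ψ) hinj)).mp h)
  have hcard : Nat.card ↥(QD.map (iota z ψ)) = 2 ^ 7 := by
    rw [← Nat.card_congr (QD.equivMapOfInjective (iota z ψ) hinj).toEquiv, card_QD]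
  -- membership facts
  have hzQ : z ∈ QD.map (iota z ψ) := ⟨sD, sD_mem_QD, hιz⟩
  have hQC : QD.map (iota z ψ) ≤ Subgroup.centralizer ({z} : Set G) := by
    rintro _ ⟨d, -, rfl⟩
    exact iota_mem z ψ d
  have hcomm : ∀ q ∈ QD.map (iota z ψ), z * q = q * z := fun q hq =>
    Subgroup.mem_centralizer_iff.mp (hQC hq) z rfl
  have hcentQ : ∀ x ∈ Subgroup.centralizer ((QD.map (iota z ψ) : Subgroup G) : Set G),
      x = 1 ∨ x = z := by
    intro x hx
    rw [Subgroup.mem_centralizer_iff] at hx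
    have hxC : x ∈ Subgroup.centralizer ({z} : Set G) := by
      rw [Subgroup.mem_centralizer_iff]
      intro w hw
      rw [Set.mem_singleton_iff] at hw
      rw [hw]
      exact hx z hzQ
    have hd : iota z ψ (ψ ⟨x, hxC⟩) = x := iota_psi z ψ ⟨x, hxC⟩
    have h := cent_QD (ψ ⟨x, hxC⟩) (fun q hq => by
      apply hinj
      rw [map_mul, map_mul, hd]
      exact (hx _ ⟨q, hq, rfl⟩).symm)
    rcases h with h | h
    · left
      rw [← hd, h, map_one]
    · right
      rw [← hd, h, hιz]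
  have hZmap : ∀ x, x ∈ (Subgroup.center ↥(QD.map (iota z ψ))).map (QD.map (iota z ψ)).subtype ↔
      x = 1 ∨ x = z := by
    intro x
    constructor
    · rintro ⟨c, hc, rfl⟩
      apply hcentQ
      rw [Subgroup.mem_centralizer_iff]
      intro q hq
      exact congrArg Subtype.val (Subgroup.mem_center_iff.mp hc ⟨q, hq⟩)
    · rintro (rfl | rfl)
      · exact Subgroup.one_mem _
      · refine ⟨⟨x, hzQ⟩, ?_, rfl⟩
        rw [SetLike.mem_coe, Subgroup.mem_center_iff]
        intro q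
        apply Subtype.ext
        exact (hcomm q.1 q.2).symm
  have hL2 : Subgroup.centralizer ((QD.map (iota z ψ) : Subgroup G) : Set G) =
      (Subgroup.center ↥(QD.map (iota z ψ))).map (QD.map (iota z ψ)).subtype := by
    ext x
    constructor
    · intro hx
      exact (hZmap x).mpr (hcentQ x hx)
    · rintro ⟨c, hc, rfl⟩
      rw [Subgroup.mem_centralizer_iff]
      intro q hq
      exact congrArg Subtype.val (Subgroup.mem_center_iff.mp hc ⟨q, hq⟩)
  have hnorm : ∀ c : G, z * c = c * z → ∀ q ∈ QD.map (iota z ψ), c * q * c⁻¹ ∈ QD.map (iota z ψ) := by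
    intro c hc q hq
    have hcC : c ∈ Subgroup.centralizer ({z} : Set G) := by
      rw [Subgroup.mem_centralizer_iff]
      intro w hw
      rw [Set.mem_singleton_iff] at hw
      rw [hw]
      exact hc
    obtain ⟨q', hq', rfl⟩ := hq
    have hd : iota z ψ (ψ ⟨c, hcC⟩) = c := iota_psi z ψ ⟨c, hcC⟩
    refine ⟨ψ ⟨c, hcC⟩ * q' * (ψ ⟨c, hcC⟩)⁻¹, ?_, ?_⟩
    · exact (MonoidHom.normal_ker piD).conj_mem q' hq' _
    · rw [map_mul, map_mul, map_inv, hd]
  have hL3 : Subgroup.centralizer (((Subgroup.center ↥(QD.map (iota z ψ))).map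
      (QD.map (iota z ψ)).subtype : Subgroup G) : Set G) ≤
      Subgroup.normalizer ((QD.map (iota z ψ) : Subgroup G) : Set G) := by
    intro x hx
    rw [Subgroup.mem_centralizer_iff] at hx
    have hxz : z * x = x * z := hx z ((hZmap z).mpr (Or.inr rfl))
    apply Subgroup.mem_normalizer_fintype
    intro n hn
    exact hnorm x hxz n hn
  have hg : g ∉ Subgroup.normalizer (((Subgroup.center ↥(QD.map (iota z ψ))).map
      (QD.map (iota z ψ)).subtype : Subgroup G) : Set G) := by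
    intro h
    have h1 := (Subgroup.mem_normalizer_iff.mp h z).mp ((hZmap z).mpr (Or.inr rfl))
    rcases (hZmap _).mp h1 with h2 | h2
    · exact hz1 (conj_eq_one_iff.mp h2)
    · exact hg1 h2
  have hZg : ((Subgroup.center ↥(QD.map (iota z ψ))).map
      (QD.map (iota z ψ)).subtype).map (MulAut.conj g).toMonoidHom ≤ QD.map (iota z ψ) := by
    rintro _ ⟨y, hy, rfl⟩
    rcases (hZmap y).mp hy with rfl | rfl
    · rw [map_one]
      exact Subgroup.one_mem _
    · exact hg2
  have hlarge := (large_conj _ hL1 hL2 hL3 g hg hZg).2.2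
  refine ⟨hL1, hcard, ⟨ED.map (iota z ψ), Subgroup.map_mono ED_le, ⟨⟨⟨?_⟩⟩, ?_⟩, ?_⟩, hlarge,
    KD.map (iota z ψ), ?_, ?_, ?_, ?_⟩
  · intro a b
    obtain ⟨a', ha', hae⟩ := a.2
    obtain ⟨b', hb', hbe⟩ := b.2
    apply Subtype.ext
    show (a : G) * (b : G) = (b : G) * (a : G)
    rw [← hae, ← hbe, ← map_mul, ← map_mul, ED_comm a' b' ha' hb']
  · rintro _ ⟨a', ha', rfl⟩
    rw [← map_pow, ED_sq a' ha', map_one]
  · rw [← Nat.card_congr (ED.equivMapOfInjective (iota z ψ) hinj).toEquiv, card_ED]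
  · rintro _ ⟨d, -, rfl⟩
    exact iota_mem z ψ d
  · rw [← Subgroup.map_inf QD KD (iota z ψ) hinj, QD_inf_KD, Subgroup.map_bot]
  · rw [← Subgroup.map_sup, QD_sup_KD, ← MonoidHom.range_eq_map, iota_range]
  · exact ⟨((KD.equivMapOfInjective (iota z ψ) hinj).symm.trans
      (MonoidHom.ofInjective sigD_injective).symm)⟩

end Cfsg.Agent.Lib.Helper14.OctInv
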