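import Mathlib
import Cfsg.Prelude.Def_Sporadic_a
import Cfsg.Agent.Lib.Helper14.OctInvE
import Cfsg.Agent.Lib.Helper3.Cent24.Main
import Cfsg.Agent.Lib.Helper28.M24InvolClasses
import Cfsg.Agent.S0381
import Cfsg.Agent.Lib.Helper17.LargeES

set_option autoImplicit false

/-!
# The centraliser in `M24` of an involution fixing an octad: link with the matrix model
-/

namespace Cfsg.Agent.Lib.Helper14.OctInv

open Cfsg Cfsg.Agent.Lib.Helper3.Cent24 Cfsg.Agent.Lib.Helper3.Golay Cfsg.Agent.Lib.Helper17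

/-- the isomorphism for the base involution -/
theorem nonempty_psi0 : Nonempty (↥(Subgroup.centralizer ({zz} : Set ↥M24)) ≃* ↥D) := by
  have hs : ((s5 : SL5) : Matrix (Fin 5) (Fin 5) (ZMod 2)) = Matrix.transvection 0 1 1 := rfl
  have hzc : zz ∈ Subgroup.centralizer ({zz} : Set ↥M24) := z_mem_cent zz
  have hPz : Phi0 ⟨zz, hzc⟩ = s5 := Subtype.ext (mat_z0.trans hs.symm)
  have hmem : ∀ σ, Phi0 σ ∈ D := by
    intro σ
    rw [Subgroup.mem_centralizer_iff]
    intro w hw
    rw [Set.mem_singleton_iff] at hw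
    subst hw
    rw [← hPz, ← map_mul, ← map_mul]
    congr 1
    apply Subtype.ext
    exact Subgroup.mem_centralizer_iff.mp σ.2 zz rfl
  have hinj : Function.Injective (Phi0.codRestrict _ hmem) := by
    intro a b hab
    apply Phi0_injective
    exact congrArg Subtype.val hab
  have hcard : Nat.card ↥D ≤ Nat.card ↥(Subgroup.centralizer ({zz} : Set ↥M24)) := by
    rw [Cfsg.Agent.Lib.Helper14.TransvCent.main s5 hs]
    have hp : (zz : Equiv.Perm GolayPt) (pt 0) = pt 0 := by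
      show z0 (pt 0) = pt 0
      rw [z0_fix, mem_bitSet, idx_pt (by norm_num)]
      decide +kernel
    exact card_centralizer_ge zz_order hp
  exact ⟨MulEquiv.ofBijective _ (hinj.bijective_of_nat_card_le hcard)⟩

/-- conjugate elements have isomorphic centralisers -/
def centConj {G : Type*} [Group G] (k x y : G) (h : y = k * x * k⁻¹) :
    ↥(Subgroup.centralizer ({y} : Set G)) ≃* ↥(Subgroup.centralizer ({x} : Set G)) where
  toFun c := ⟨k⁻¹ * c * k, by
    rw [Subgroup.mem_centralizer_iff]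
    intro w hw
    rw [Set.mem_singleton_iff] at hw
    subst hw
    have h0 := Subgroup.mem_centralizer_iff.mp c.2 y rfl
    have h1 : (k * w * k⁻¹) * (c : G) = (c : G) * (k * w * k⁻¹) := by
      rw [← h]
      exact h0
    calc w * (k⁻¹ * c * k) = k⁻¹ * ((k * w * k⁻¹) * c) * k := by group
      _ = k⁻¹ * (c * (k * w * k⁻¹)) * k := by rw [h1]
      _ = k⁻¹ * c * k * w := by group⟩
  invFun c := ⟨k * c * k⁻¹, by
    rw [Subgroup.mem_centralizer_iff]
    intro w hw
    rw [Set.mem_singleton_iff] at hw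
    subst hw
    have h1 := Subgroup.mem_centralizer_iff.mp c.2 x rfl
    rw [h]
    calc k * x * k⁻¹ * (k * c * k⁻¹) = k * (x * c) * k⁻¹ := by group
      _ = k * (c * x) * k⁻¹ := by rw [h1]
      _ = k * c * k⁻¹ * (k * x * k⁻¹) := by group⟩
  left_inv c := Subtype.ext (by
    show k * (k⁻¹ * (c : G) * k) * k⁻¹ = c
    group)
  right_inv c := Subtype.ext (by
    show k⁻¹ * (k * (c : G) * k⁻¹) * k = c
    group)
  map_mul' a b := Subtype.ext (by
    show k⁻¹ * ((a : G) * (b : G)) * k = (k⁻¹ * a * k) * (k⁻¹ * b * k)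
    group)

theorem z0_fix_pt : z0 (pt 0) = pt 0 := by
  rw [z0_fix, mem_bitSet, idx_pt (by norm_num)]
  decide +kernel

/-- involutions of `M24` with a fixed point are conjugate to the base involution -/
theorem exists_conj_zz (z : ↥M24) (hz : orderOf z = 2)
    (hfix : ∃ p, (z : Equiv.Perm GolayPt) p = p) : ∃ k : ↥M24, z = k * zz * k⁻¹ := by
  have hz2 : (z : Equiv.Perm GolayPt) ^ 2 = 1 := by
    have := pow_orderOf_eq_one z
    rw [hz] at this
    exact congrArg Subtype.val this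
  have hz1 : (z : Equiv.Perm GolayPt) ≠ 1 := by
    intro h
    have : z = 1 := Subtype.ext h
    rw [this, orderOf_one] at hz
    norm_num at hz
  obtain ⟨-, k2, hk2, hk2c⟩ :=
    Cfsg.Agent.Lib.Helper28.M24InvolClasses.fix_invol_conj_rep z.2 hz2 hz1 hfix
  have hz02 : z0 ^ 2 = 1 := by rw [pow_two, z0_sq]
  obtain ⟨-, k0, hk0, hk0c⟩ :=
    Cfsg.Agent.Lib.Helper28.M24InvolClasses.fix_invol_conj_rep z0_mem hz02 z0_ne
      ⟨pt 0, z0_fix_pt⟩
  refine ⟨⟨k2⁻¹ * k0, M24.mul_mem (M24.inv_mem hk2) hk0⟩, ?_⟩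
  apply Subtype.ext
  show (z : Equiv.Perm GolayPt) = k2⁻¹ * k0 * z0 * (k2⁻¹ * k0)⁻¹
  have h1 : (z : Equiv.Perm GolayPt) = k2⁻¹ * (k2 * z * k2⁻¹) * k2 := by group
  rw [h1, hk2c, ← hk0c]
  group

theorem comm_of_sq {G : Type*} [Group G] (H : Subgroup G) (h : ∀ g ∈ H, g * g = 1) (a b : G)
    (ha : a ∈ H) (hb : b ∈ H) : a * b = b * a := by
  have h1 := h a ha
  have h2 := h b hb
  have h3 := h (a * b) (H.mul_mem ha hb)
  symm
  calc b * a = (a * a) * (b * a) * (b * b) := by rw [h1, h2, one_mul, mul_one]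
    _ = a * ((a * b) * (a * b)) * b := by group
    _ = a * b := by rw [h3, mul_one]

/-- a conjugate of `z` other than `z` in `O₂(C(z))` -/
theorem exists_g (z : ↥M24) (hz : orderOf z = 2)
    (hfix : (Finset.univ.filter fun p : GolayPt => (z : Equiv.Perm GolayPt) p = p) ∈ octads) :
    ∃ g : ↥M24, g * z * g⁻¹ ≠ z ∧ g * z * g⁻¹ ∈ coreCent 2 z := by
  classical
  set O : Finset GolayPt := Finset.univ.filter fun p : GolayPt => (z : Equiv.Perm GolayPt) p = p
    with hO
  have hmemO : ∀ p, p ∈ O ↔ (z : Equiv.Perm GolayPt) p = p := by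
    intro p
    rw [hO, Finset.mem_filter]
    simp
  obtain ⟨hcard, hsq⟩ := Cfsg.Agent.S0381.result O hfix
  set F : Subgroup (Equiv.Perm GolayPt) :=
    M24 ⊓ fixingSubgroup (Equiv.Perm GolayPt) (O : Set GolayPt) with hF
  have hmemF : ∀ t, t ∈ F ↔ t ∈ M24 ∧ ∀ p ∈ O, t p = p := by
    intro t
    rw [hF, Subgroup.mem_inf, mem_fixingSubgroup_iff]
    rfl
  have hzF : (z : Equiv.Perm GolayPt) ∈ F := (hmemF _).mpr ⟨z.2, fun p hp => (hmemO p).mp hp⟩
  have hz2 : (z : Equiv.Perm GolayPt) ^ 2 = 1 := by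
    have := pow_orderOf_eq_one z
    rw [hz] at this
    exact congrArg Subtype.val this
  have hz1 : (z : Equiv.Perm GolayPt) ≠ 1 := by
    intro h
    have : z = 1 := Subtype.ext h
    rw [this, orderOf_one] at hz
    norm_num at hz
  -- a third element
  obtain ⟨t, htF, ht1, htz⟩ : ∃ t ∈ F, t ≠ 1 ∧ t ≠ (z : Equiv.Perm GolayPt) := by
    by_contra hcon
    push Not at hcon
    have hsub : (F : Set (Equiv.Perm GolayPt)) ⊆ {1, (z : Equiv.Perm GolayPt)} := by
      intro t ht
      by_cases h1 : t = 1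
      · left; exact h1
      · right; exact hcon t ht h1
    have h1 : Nat.card ↥F ≤ 2 := by
      have h2 : Nat.card ↥F = (F : Set (Equiv.Perm GolayPt)).ncard := rfl
      rw [h2]
      calc (F : Set (Equiv.Perm GolayPt)).ncard
          ≤ ({1, (z : Equiv.Perm GolayPt)} : Set (Equiv.Perm GolayPt)).ncard :=
            Set.ncard_le_ncard hsub (Set.toFinite _)
        _ ≤ 2 := by
            refine (Set.ncard_insert_le _ _).trans ?_
            rw [Set.ncard_singleton]
    rw [hcard] at h1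
    norm_num at h1
  obtain ⟨htM, htfix⟩ := (hmemF t).mp htF
  have ht2 : t ^ 2 = 1 := by rw [pow_two]; exact hsq t htF
  have hOne : O.Nonempty := by
    rw [← Finset.card_pos, hfix.2]
    norm_num
  obtain ⟨p0, hp0⟩ := hOne
  obtain ⟨-, k1, hk1, hk1c⟩ :=
    Cfsg.Agent.Lib.Helper28.M24InvolClasses.fix_invol_conj_rep htM ht2 ht1 ⟨p0, htfix p0 hp0⟩
  obtain ⟨-, k2, hk2, hk2c⟩ :=
    Cfsg.Agent.Lib.Helper28.M24InvolClasses.fix_invol_conj_rep z.2 hz2 hz1
      ⟨p0, (hmemO p0).mp hp0⟩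
  have hconj : (⟨k1⁻¹ * k2, M24.mul_mem (M24.inv_mem hk1) hk2⟩ : ↥M24) * z *
      (⟨k1⁻¹ * k2, M24.mul_mem (M24.inv_mem hk1) hk2⟩ : ↥M24)⁻¹ = ⟨t, htM⟩ := by
    apply Subtype.ext
    show k1⁻¹ * k2 * (z : Equiv.Perm GolayPt) * (k1⁻¹ * k2)⁻¹ = t
    have h1 : t = k1⁻¹ * (k1 * t * k1⁻¹) * k1 := by group
    rw [h1, hk1c, ← hk2c]
    group
  refine ⟨⟨k1⁻¹ * k2, M24.mul_mem (M24.inv_mem hk1) hk2⟩, ?_, ?_⟩
  · rw [hconj]
    intro h
    exact htz (congrArg Subtype.val h)
  · rw [hconj]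
    have hle : F.subgroupOf M24 ≤ coreCent 2 z := by
      apply le_coreCent
      · intro n
        refine ⟨1, ?_⟩
        have h := hsq n.1.1 (Subgroup.mem_subgroupOf.mp n.2)
        apply Subtype.ext
        apply Subtype.ext
        rw [pow_one, pow_two]
        exact h
      · intro n hn
        apply Subtype.ext
        exact comm_of_sq F hsq _ _ (Subgroup.mem_subgroupOf.mp hn) hzF
      · intro c hc n hn
        rw [Subgroup.mem_subgroupOf] at hn ⊢
        obtain ⟨hnM, hnfix⟩ := (hmemF _).mp hn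
        rw [hmemF]
        refine ⟨(c * n * c⁻¹).2, ?_⟩
        intro p hp
        have hc' : (c : Equiv.Perm GolayPt) * (z : Equiv.Perm GolayPt) =
            (z : Equiv.Perm GolayPt) * (c : Equiv.Perm GolayPt) := congrArg Subtype.val hc
        have hcp : (c : Equiv.Perm GolayPt)⁻¹ p ∈ O := by
          rw [hmemO]
          have h1 : (z : Equiv.Perm GolayPt) * (c : Equiv.Perm GolayPt)⁻¹ =
              (c : Equiv.Perm GolayPt)⁻¹ * (z : Equiv.Perm GolayPt) := by
            calc (z : Equiv.Perm GolayPt) * (c : Equiv.Perm GolayPt)⁻¹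
                = (c : Equiv.Perm GolayPt)⁻¹ * ((c : Equiv.Perm GolayPt) *
                    (z : Equiv.Perm GolayPt)) * (c : Equiv.Perm GolayPt)⁻¹ := by group
              _ = (c : Equiv.Perm GolayPt)⁻¹ * ((z : Equiv.Perm GolayPt) *
                    (c : Equiv.Perm GolayPt)) * (c : Equiv.Perm GolayPt)⁻¹ := by rw [hc']
              _ = (c : Equiv.Perm GolayPt)⁻¹ * (z : Equiv.Perm GolayPt) := by group
          have h2 := congrArg (fun σ : Equiv.Perm GolayPt => σ p) h1
          simp only [Equiv.Perm.mul_apply] at h2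
          rw [h2, (hmemO p).mp hp]
        show (c : Equiv.Perm GolayPt) ((n : Equiv.Perm GolayPt) ((c : Equiv.Perm GolayPt)⁻¹ p)) = p
        rw [hnfix _ hcp]
        exact Equiv.apply_symm_apply _ p
    exact hle (Subgroup.mem_subgroupOf.mpr htF)

end Cfsg.Agent.Lib.Helper14.OctInv
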