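import Mathlib
import Cfsg.Prelude.Def_Classical
import Cfsg.Prelude.Def_ClassicalGeometry
import Cfsg.Agent.Lib.Helper14.OrthPlus
import Cfsg.Agent.Lib.Helper15.SympChar2
import Cfsg.Agent.Lib.Helper15.FieldExt

set_option autoImplicit false

/-!
# In characteristic two, `O_{2m+1}(q) ≅ Sp_{2m}(q)`
-/

namespace Cfsg.Agent.Lib.Helper14.OddChar2

open Matrix Cfsg.Agent.Lib.Helper15 Cfsg.Agent.Lib.Helper14

variable {F : Type*} [Field F] {m : ℕ}

/-- the lower (hyperbolic) part of a vector -/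
def low (v : Unit ⊕ (Fin m ⊕ Fin m) → F) : Fin m ⊕ Fin m → F := fun x => v (Sum.inr x)

/-- the hyperbolic quadratic form -/
def qq (w : Fin m ⊕ Fin m → F) : F := ∑ i, w (Sum.inl i) * w (Sum.inr i)

theorem quadFormOdd_eq (v : Unit ⊕ (Fin m ⊕ Fin m) → F) :
    Cfsg.quadFormOdd m F v = v (Sum.inl ()) ^ 2 + qq (low v) := rfl

theorem low_add (u v : Unit ⊕ (Fin m ⊕ Fin m) → F) : low (u + v) = low u + low v := rfl

theorem low_smul (c : F) (v : Unit ⊕ (Fin m ⊕ Fin m) → F) : low (c • v) = c • low v := rfl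

theorem qq_smul (c : F) (w : Fin m ⊕ Fin m → F) : qq (c • w) = c ^ 2 * qq w := by
  unfold qq
  rw [Finset.mul_sum]
  apply Finset.sum_congr rfl
  intro i _
  simp only [Pi.smul_apply, smul_eq_mul]
  ring

variable [CharP F 2]

theorem two_eq_zero' : (2 : F) = 0 := CharTwo.two_eq_zero

theorem qq_add (u v : Fin m ⊕ Fin m → F) :
    qq (u + v) = qq u + qq v + Cfsg.sympForm m F u v := by
  have h := polar_plusQF (F := F) m u v
  unfold QuadraticMap.polar at h
  rw [plusQF_apply, plusQF_apply, plusQF_apply] at h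
  unfold qq
  linear_combination h

theorem Q_add (u v : Unit ⊕ (Fin m ⊕ Fin m) → F) :
    Cfsg.quadFormOdd m F (u + v) = Cfsg.quadFormOdd m F u + Cfsg.quadFormOdd m F v +
      Cfsg.sympForm m F (low u) (low v) := by
  rw [quadFormOdd_eq, quadFormOdd_eq, quadFormOdd_eq, low_add, qq_add]
  simp only [Pi.add_apply]
  linear_combination (u (Sum.inl ()) * v (Sum.inl ())) * (two_eq_zero' (F := F))

theorem symp_of_preserves (M : Matrix (Unit ⊕ (Fin m ⊕ Fin m)) (Unit ⊕ (Fin m ⊕ Fin m)) F)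
    (hM : ∀ u, Cfsg.quadFormOdd m F (M *ᵥ u) = Cfsg.quadFormOdd m F u)
    (u v : Unit ⊕ (Fin m ⊕ Fin m) → F) :
    Cfsg.sympForm m F (low (M *ᵥ u)) (low (M *ᵥ v)) = Cfsg.sympForm m F (low u) (low v) := by
  have h1 := Q_add (M *ᵥ u) (M *ᵥ v)
  rw [← Matrix.mulVec_add, hM, hM, hM, Q_add] at h1
  linear_combination -h1

/-- the first basis vector -/
def e0 : Unit ⊕ (Fin m ⊕ Fin m) → F := Pi.single (Sum.inl ()) 1

theorem low_e0 : low (e0 : Unit ⊕ (Fin m ⊕ Fin m) → F) = 0 := by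
  funext x
  simp [low, e0]

theorem sympForm_zero_left' (w : Fin m ⊕ Fin m → F) : Cfsg.sympForm m F 0 w = 0 := by
  unfold Cfsg.sympForm; rw [zero_dotProduct]

theorem qq_zero : qq (0 : Fin m ⊕ Fin m → F) = 0 := by
  unfold qq
  simp

/-- an isometry fixes the radical vector -/
theorem low_mulVec_e0 (M N : Matrix (Unit ⊕ (Fin m ⊕ Fin m)) (Unit ⊕ (Fin m ⊕ Fin m)) F)
    (hMN : M * N = 1)
    (hM : ∀ u, Cfsg.quadFormOdd m F (M *ᵥ u) = Cfsg.quadFormOdd m F u) :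
    low (M *ᵥ e0) = 0 := by
  have hnd := (sympBilin_nondegenerate (F := F) m).1
  apply hnd
  intro w
  rw [sympBilin_apply]
  have h1 := symp_of_preserves M hM e0 (N *ᵥ (Sum.elim (fun _ => 0) w))
  rw [Matrix.mulVec_mulVec, hMN, Matrix.one_mulVec, low_e0, sympForm_zero_left'] at h1
  exact h1

theorem mulVec_e0_inl (M N : Matrix (Unit ⊕ (Fin m ⊕ Fin m)) (Unit ⊕ (Fin m ⊕ Fin m)) F)
    (hMN : M * N = 1)
    (hM : ∀ u, Cfsg.quadFormOdd m F (M *ᵥ u) = Cfsg.quadFormOdd m F u) :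
    (M *ᵥ e0) (Sum.inl ()) = 1 := by
  have h1 := hM e0
  rw [quadFormOdd_eq, quadFormOdd_eq, low_mulVec_e0 M N hMN hM, low_e0, qq_zero] at h1
  have h2 : (e0 : Unit ⊕ (Fin m ⊕ Fin m) → F) (Sum.inl ()) = 1 := by simp [e0]
  rw [h2] at h1
  have h3 : ((M *ᵥ e0) (Sum.inl ()) - 1) ^ 2 = 0 := by
    linear_combination h1 + (1 - (M *ᵥ e0) (Sum.inl ())) * (two_eq_zero' (F := F))
  exact sub_eq_zero.mp (pow_eq_zero_iff (two_ne_zero) |>.mp h3)

theorem col_inl (M N : Matrix (Unit ⊕ (Fin m ⊕ Fin m)) (Unit ⊕ (Fin m ⊕ Fin m)) F)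
    (hMN : M * N = 1)
    (hM : ∀ u, Cfsg.quadFormOdd m F (M *ᵥ u) = Cfsg.quadFormOdd m F u) :
    (∀ x, M (Sum.inr x) (Sum.inl ()) = 0) ∧ M (Sum.inl ()) (Sum.inl ()) = 1 := by
  have hcol : M *ᵥ e0 = fun r => M r (Sum.inl ()) := by
    unfold e0
    rw [Matrix.mulVec_single_one]; rfl
  constructor
  · intro x
    have := congrFun (low_mulVec_e0 M N hMN hM) x
    rw [hcol] at this
    exact this
  · have := mulVec_e0_inl M N hMN hM
    rw [hcol] at this
    exact this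

/-- the lower right block -/
def blk (M : Matrix (Unit ⊕ (Fin m ⊕ Fin m)) (Unit ⊕ (Fin m ⊕ Fin m)) F) :
    Matrix (Fin m ⊕ Fin m) (Fin m ⊕ Fin m) F := fun x y => M (Sum.inr x) (Sum.inr y)

omit [CharP F 2] in
theorem low_mulVec (M : Matrix (Unit ⊕ (Fin m ⊕ Fin m)) (Unit ⊕ (Fin m ⊕ Fin m)) F)
    (h0 : ∀ x, M (Sum.inr x) (Sum.inl ()) = 0) (v : Unit ⊕ (Fin m ⊕ Fin m) → F) :
    low (M *ᵥ v) = blk M *ᵥ low v := by
  funext x
  simp only [low, Matrix.mulVec, dotProduct, Fintype.sum_sum_type, Finset.univ_unique,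
    Finset.sum_singleton, h0, zero_mul, zero_add, blk]

omit [Field F] [CharP F 2] in
theorem low_elim (w : Fin m ⊕ Fin m → F) (c : F) :
    low (Sum.elim (fun _ => c) w : Unit ⊕ (Fin m ⊕ Fin m) → F) = w := rfl

theorem blk_mem (M N : Matrix (Unit ⊕ (Fin m ⊕ Fin m)) (Unit ⊕ (Fin m ⊕ Fin m)) F)
    (hMN : M * N = 1)
    (hM : ∀ u, Cfsg.quadFormOdd m F (M *ᵥ u) = Cfsg.quadFormOdd m F u) :
    blk M ∈ Matrix.symplecticGroup (Fin m) F := by
  apply mem_symplectic_of_preserves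
  intro u v
  have h0 := (col_inl M N hMN hM).1
  have := symp_of_preserves M hM (Sum.elim (fun _ => 0) u) (Sum.elim (fun _ => 0) v)
  rw [low_mulVec M h0, low_mulVec M h0, low_elim, low_elim] at this
  exact this

omit [CharP F 2] in
theorem blk_mul (M M' : Matrix (Unit ⊕ (Fin m ⊕ Fin m)) (Unit ⊕ (Fin m ⊕ Fin m)) F)
    (h0 : ∀ x, M (Sum.inr x) (Sum.inl ()) = 0) : blk (M * M') = blk M * blk M' := by
  ext x y
  simp only [blk, Matrix.mul_apply, Fintype.sum_sum_type, Finset.univ_unique,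
    Finset.sum_singleton, h0, zero_mul, zero_add]

omit [CharP F 2] in
theorem blk_one : blk (1 : Matrix (Unit ⊕ (Fin m ⊕ Fin m)) (Unit ⊕ (Fin m ⊕ Fin m)) F) = 1 := by
  ext x y
  simp only [blk, Matrix.one_apply, Sum.inr.injEq]

omit [CharP F 2] in
theorem coe_mul_inv (g : Matrix.GeneralLinearGroup (Unit ⊕ (Fin m ⊕ Fin m)) F) :
    (g : Matrix (Unit ⊕ (Fin m ⊕ Fin m)) (Unit ⊕ (Fin m ⊕ Fin m)) F) *
      ((g⁻¹ : Matrix.GeneralLinearGroup (Unit ⊕ (Fin m ⊕ Fin m)) F) :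
        Matrix (Unit ⊕ (Fin m ⊕ Fin m)) (Unit ⊕ (Fin m ⊕ Fin m)) F) = 1 :=
  g.mul_inv

/-- the homomorphism `O_{2m+1}(F) → Sp_{2m}(F)` -/
noncomputable def toSp :
    Cfsg.isometryGroup F (Cfsg.quadFormOdd m F) →* Matrix.symplecticGroup (Fin m) F where
  toFun g := ⟨blk (g.1 : Matrix (Unit ⊕ (Fin m ⊕ Fin m)) (Unit ⊕ (Fin m ⊕ Fin m)) F),
    blk_mem _ _ (coe_mul_inv g.1) ((mem_isometryGroup_iff _ g.1).mp g.2)⟩
  map_one' := Subtype.ext blk_one
  map_mul' g _ := Subtype.ext (blk_mul _ _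
    (col_inl _ _ (coe_mul_inv g.1) ((mem_isometryGroup_iff _ g.1).mp g.2)).1)

theorem toSp_coe (g : Cfsg.isometryGroup F (Cfsg.quadFormOdd m F)) :
    ((toSp g : Matrix.symplecticGroup (Fin m) F) : Matrix (Fin m ⊕ Fin m) (Fin m ⊕ Fin m) F) =
      blk (g.1 : Matrix (Unit ⊕ (Fin m ⊕ Fin m)) (Unit ⊕ (Fin m ⊕ Fin m)) F) := rfl

theorem toSp_injective : Function.Injective (toSp (F := F) (m := m)) := by
  rw [injective_iff_map_eq_one]
  intro g hg
  have hM := (mem_isometryGroup_iff _ g.1).mp g.2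
  have hcol := col_inl _ _ (coe_mul_inv g.1) hM
  set M := (g.1 : Matrix (Unit ⊕ (Fin m ⊕ Fin m)) (Unit ⊕ (Fin m ⊕ Fin m)) F) with hMdef
  have hblk : blk M = 1 := by
    have := congrArg Subtype.val hg
    exact this
  have hrow : ∀ y, M (Sum.inl ()) (Sum.inr y) = 0 := by
    intro y
    have h1 := hM (Pi.single (Sum.inr y) 1)
    rw [quadFormOdd_eq, quadFormOdd_eq, low_mulVec M hcol.1, hblk, Matrix.one_mulVec] at h1
    have h2 : (M *ᵥ Pi.single (Sum.inr y) 1) (Sum.inl ()) = M (Sum.inl ()) (Sum.inr y) := by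
      rw [Matrix.mulVec_single_one]; rfl
    rw [h2] at h1
    have h3 : (Pi.single (Sum.inr y) (1 : F) : Unit ⊕ (Fin m ⊕ Fin m) → F) (Sum.inl ()) = 0 := by
      simp
    rw [h3] at h1
    have h4 : M (Sum.inl ()) (Sum.inr y) ^ 2 = 0 := by linear_combination h1
    exact pow_eq_zero_iff (two_ne_zero) |>.mp h4
  apply Subtype.ext
  apply Units.ext
  show M = 1
  ext r c
  rcases r with ⟨⟩ | x <;> rcases c with ⟨⟩ | y
  · rw [hcol.2]; simp
  · rw [hrow]; simp
  · rw [hcol.1]; simp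
  · have := congrFun (congrFun hblk x) y
    simp only [blk] at this
    rw [this]
    simp [Matrix.one_apply]

theorem toSp_surjective [Finite F] : Function.Surjective (toSp (F := F) (m := m)) := by
  intro A
  have h2 : (2 : F) = 0 := CharTwo.two_eq_zero
  have hsq_add : ∀ x y : F, (x + y) ^ 2 = x ^ 2 + y ^ 2 := by
    intro x y; linear_combination (x * y) * h2
  set H := (A : Matrix (Fin m ⊕ Fin m) (Fin m ⊕ Fin m) F) with hH
  let D : (Fin m ⊕ Fin m → F) → F := fun w => qq (H *ᵥ w) - qq w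
  have hDadd : ∀ u v, D (u + v) = D u + D v := by
    intro u v
    simp only [D]
    rw [Matrix.mulVec_add, qq_add, qq_add, sympForm_invariant]
    ring
  have hDsmul : ∀ (c : F) v, D (c • v) = c ^ 2 * D v := by
    intro c v
    simp only [D]
    rw [Matrix.mulVec_smul, qq_smul, qq_smul]; ring
  let sq := (frobeniusEquiv F 2).symm
  have hsq : ∀ x : F, (sq x) ^ 2 = x := fun x => frobeniusEquiv_symm_pow_p F 2 x
  have hsq' : ∀ x : F, sq (x ^ 2) = x := fun x => by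
    have := frobeniusEquiv_symm_apply_frobenius F 2 x
    rwa [frobenius_def] at this
  let lam : (Fin m ⊕ Fin m → F) →ₗ[F] F :=
    { toFun := fun v => sq (D v)
      map_add' := by intro u v; rw [hDadd, map_add]
      map_smul' := by
        intro c v
        rw [hDsmul, map_mul, hsq', RingHom.id_apply, smul_eq_mul] }
  have hlam : ∀ v, (lam v) ^ 2 = D v := fun v => hsq (D v)
  let R : Matrix Unit (Fin m ⊕ Fin m) F := Matrix.of (fun _ y => lam (fun j => if y = j then 1 else 0))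
  have hR : ∀ w, (R *ᵥ w) () = lam w := by
    intro w
    rw [LinearMap.pi_apply_eq_sum_univ lam w]
    simp only [Matrix.mulVec, dotProduct, R, Matrix.of_apply, smul_eq_mul]
    exact Finset.sum_congr rfl (fun i _ => mul_comm _ _)
  let M : Matrix (Unit ⊕ (Fin m ⊕ Fin m)) (Unit ⊕ (Fin m ⊕ Fin m)) F :=
    Matrix.fromBlocks 1 R 0 H
  have hMv : ∀ v, M *ᵥ v = Sum.elim (fun _ => v (Sum.inl ()) + lam (low v)) (H *ᵥ low v) := by
    intro v
    simp only [M]
    rw [Matrix.fromBlocks_mulVec]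
    funext r
    rcases r with ⟨⟩ | x
    · simp only [Sum.elim_inl, Pi.add_apply, Matrix.one_mulVec, Function.comp_apply]
      congr 1
      exact hR _
    · simp only [Sum.elim_inr, Matrix.zero_mulVec, zero_add]
      rfl
  have hMQ : ∀ v, Cfsg.quadFormOdd m F (M *ᵥ v) = Cfsg.quadFormOdd m F v := by
    intro v
    rw [quadFormOdd_eq, quadFormOdd_eq, hMv, low_elim, Sum.elim_inl, hsq_add, hlam]
    simp only [D]
    linear_combination (qq (H *ᵥ low v) - qq (low v)) * h2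
  have hdet : M.det ≠ 0 := by
    simp only [M]
    rw [Matrix.det_fromBlocks_zero₂₁, Matrix.det_one, one_mul]
    exact (SymplecticGroup.symplectic_det A.2).ne_zero
  refine ⟨⟨Matrix.GeneralLinearGroup.mkOfDetNeZero M hdet, ?_⟩, ?_⟩
  · rw [mem_isometryGroup_iff]
    exact hMQ
  · apply Subtype.ext
    rw [toSp_coe]
    show blk M = H
    ext x y
    simp [blk, M]

/-- In characteristic two, `O_{2m+1}(q) ≅ Sp_{2m}(q)`. -/
theorem main [Finite F] :
    Nonempty (Cfsg.isometryGroup F (Cfsg.quadFormOdd m F) ≃* Matrix.symplecticGroup (Fin m) F) :=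
  ⟨MulEquiv.ofBijective toSp ⟨toSp_injective, toSp_surjective⟩⟩

end Cfsg.Agent.Lib.Helper14.OddChar2
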