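/-
helper14: existence half of S2144 (market OM3, planner helper11):
`PΩ_{2m+1}(3)` has a subgroup of index `3^m (3^m - 1) / 2` (the stabilizer of a nonsingular point
`⟨v⟩`, `Q v = -1`).  General part: the `Ω`-set `NPt Q c` of the points `⟨v⟩`, `Q v = c ≠ 0`
(odd characteristic), transitivity from helper25's `omega_trans_nondeg`, and the count
`2 |NPt Q c| = #{v | Q v = c}`.
-/
import Mathlib
import Cfsg.Prelude.Def_Classical
import Cfsg.Agent.Lib.Helper18.MinIdxOrthC
import Cfsg.Agent.Lib.Helper25.OmegaTrans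
import Cfsg.Agent.Lib.Helper14.OrthOdd

set_option autoImplicit false

namespace Cfsg.Agent.Lib.Helper14.Om3EX

open Module QuadraticMap Matrix Cfsg.Agent.Lib.Helper25.CD Cfsg.Agent.Lib.Helper25.PS
  Cfsg.Agent.Lib.Helper25.Spin Cfsg.Agent.Lib.Helper25.MaxTS Cfsg.Agent.Lib.Helper14
  Cfsg.Agent.Lib.Helper5.OmegaCenter Cfsg.Agent.Lib.Helper18.MinIdx Cfsg.Agent.Lib.Helper25.Fam

section general

variable {ι : Type} [Fintype ι] [DecidableEq ι] {F : Type*} [Field F]
  (Q : QuadraticForm F (ι → F)) (c : F)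

/-- the points `⟨v⟩` with `Q v = c` -/
def NPt : Type _ := {P : Submodule F (ι → F) // ∃ v : ι → F, Q v = c ∧ P = Submodule.span F {v}}

noncomputable instance : MulAction ↥(Cfsg.isometryGroup F ⇑Q) (NPt Q c) where
  smul g P := ⟨P.1.map (lm Q g), by
    obtain ⟨v, hv, hP⟩ := P.2
    refine ⟨toOG Q g v, by rw [Q_toOG, hv], ?_⟩
    rw [hP, Submodule.map_span, Set.image_singleton]
    rfl⟩
  one_smul P := by
    apply Subtype.ext
    show P.1.map (lm Q 1) = P.1
    ext x
    constructor
    · rintro ⟨y, hy, rfl⟩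
      rw [lm_apply, map_one]
      exact hy
    · intro hx
      refine ⟨x, hx, ?_⟩
      rw [lm_apply, map_one]
      rfl
  mul_smul g h P := by
    apply Subtype.ext
    show P.1.map (lm Q (g * h)) = (P.1.map (lm Q h)).map (lm Q g)
    unfold lm
    rw [map_mul]
    exact map_mul_equiv _ _ _

theorem NPt_smul_val (g : ↥(Cfsg.isometryGroup F ⇑Q)) (P : NPt Q c) :
    (g • P).1 = P.1.map (lm Q g) := rfl

/-- the point of a vector -/
def NPt.mk {Q : QuadraticForm F (ι → F)} {c : F} (v : ι → F) (hv : Q v = c) : NPt Q c :=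
  ⟨Submodule.span F {v}, v, hv, rfl⟩

theorem NPt.mk_val {v : ι → F} (hv : Q v = c) :
    (NPt.mk v hv : NPt Q c).1 = Submodule.span F {v} := rfl

theorem NPt.exists_rep (P : NPt Q c) : ∃ (v : ι → F) (hv : Q v = c), P = NPt.mk v hv := by
  obtain ⟨v, hv, hP⟩ := P.2
  exact ⟨v, hv, Subtype.ext hP⟩

theorem NPt.smul_mk (g : ↥(Cfsg.isometryGroup F ⇑Q)) {v : ι → F} (hv : Q v = c) :
    g • (NPt.mk v hv : NPt Q c) = NPt.mk (toOG Q g v) (by rw [Q_toOG, hv]) := by
  apply Subtype.ext
  rw [NPt_smul_val, NPt.mk_val, NPt.mk_val, Submodule.map_span, Set.image_singleton]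
  rfl

/-- in odd characteristic a point `⟨v⟩`, `Q v = c ≠ 0`, carries exactly two vectors of norm `c` -/
theorem card_NPt_mul [Fintype F] (h2 : (2 : F) ≠ 0) (hc : c ≠ 0) :
    Nat.card (NPt Q c) * 2 = Nat.card {v : ι → F // Q v = c} := by
  classical
  have hrep : ∀ P : NPt Q c, ∃ v : ι → F, Q v = c ∧ P.1 = Submodule.span F {v} := fun P => P.2
  choose rep hrepQ hspan using hrep
  have hrep0 : ∀ P, rep P ≠ 0 := by
    intro P h
    have := hrepQ P
    rw [h, QuadraticMap.map_zero] at this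
    exact hc this.symm
  let sgn : Bool → F := fun b => if b then 1 else -1
  have hsgn : ∀ b, sgn b * sgn b = 1 := by
    intro b; cases b <;> simp [sgn]
  have hsgn0 : ∀ b, sgn b ≠ 0 := by
    intro b h
    have := hsgn b
    rw [h, zero_mul] at this
    exact zero_ne_one this
  have hsgn_inj : Function.Injective sgn := by
    intro a b h
    cases a <;> cases b <;> simp only [sgn] at h ⊢
    · exfalso
      apply h2
      have h' : (-1 : F) = 1 := by simpa using h
      linear_combination -h'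
    · exfalso
      apply h2
      have h' : (1 : F) = -1 := by simpa using h
      linear_combination h'
  let e : NPt Q c × Bool → {v : ι → F // Q v = c} :=
    fun x => ⟨sgn x.2 • rep x.1, by
      rw [QuadraticMap.map_smul, hrepQ, smul_eq_mul, hsgn, one_mul]⟩
  have hbij : Function.Bijective e := by
    constructor
    · rintro ⟨W, b⟩ ⟨W', b'⟩ h
      have h1 : sgn b • rep W = sgn b' • rep W' := congrArg Subtype.val h
      have hW : W = W' := by
        apply Subtype.ext
        rw [hspan W, hspan W', ← Submodule.span_singleton_smul_eq (IsUnit.mk0 _ (hsgn0 b)) (rep W),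
          ← Submodule.span_singleton_smul_eq (IsUnit.mk0 _ (hsgn0 b')) (rep W'), h1]
      subst hW
      have h3 : (sgn b - sgn b') • rep W = 0 := by rw [sub_smul, h1, sub_self]
      have h4 : sgn b - sgn b' = 0 := by
        rcases smul_eq_zero.1 h3 with h | h
        · exact h
        · exact absurd h (hrep0 W)
      have h5 : b = b' := hsgn_inj (sub_eq_zero.1 h4)
      rw [h5]
    · rintro ⟨v, hv⟩
      have h1 : rep (NPt.mk v hv) ∈ Submodule.span F {v} := by
        have := hspan (NPt.mk v hv)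
        rw [NPt.mk_val] at this
        rw [this]
        exact Submodule.mem_span_singleton_self _
      obtain ⟨a, ha⟩ := Submodule.mem_span_singleton.1 h1
      have hQ1 := hrepQ (NPt.mk v hv)
      rw [← ha, QuadraticMap.map_smul, hv, smul_eq_mul] at hQ1
      have ha2 : a * a = 1 := by
        have : (a * a - 1) * c = 0 := by linear_combination hQ1
        rcases mul_eq_zero.1 this with h | h
        · exact sub_eq_zero.1 h
        · exact absurd h hc
      have ha' : a = 1 ∨ a = -1 := by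
        have : (a - 1) * (a + 1) = 0 := by linear_combination ha2
        rcases mul_eq_zero.1 this with h | h
        · exact Or.inl (sub_eq_zero.1 h)
        · exact Or.inr (eq_neg_of_add_eq_zero_left h)
      rcases ha' with h | h
      · refine ⟨⟨NPt.mk v hv, true⟩, ?_⟩
        apply Subtype.ext
        show sgn true • rep (NPt.mk v hv) = v
        rw [← ha, h]
        simp [sgn]
      · refine ⟨⟨NPt.mk v hv, false⟩, ?_⟩
        apply Subtype.ext
        show sgn false • rep (NPt.mk v hv) = v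
        rw [← ha, h]
        simp [sgn]
  rw [← Nat.card_congr (Equiv.ofBijective e hbij), Nat.card_prod]
  congr 1
  rw [Nat.card_eq_fintype_card, Fintype.card_bool]

/-- `Ω` is transitive on the points `⟨v⟩`, `Q v = c ≠ 0` (odd characteristic, dimension `≥ 3`) -/
theorem omega_pretransitive_NPt [Fintype F] (hQ : (polarBilin Q).Nondegenerate)
    (hn : 3 ≤ Fintype.card ι) (hex : Fintype.card F ≠ 2 ∨ Fintype.card ι ≠ 4)
    (h2 : (2 : F) ≠ 0) (hc : c ≠ 0) :
    MulAction.IsPretransitive ↥(Cfsg.Omega F ⇑Q) (NPt Q c) := by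
  constructor
  intro P P'
  obtain ⟨v, hv, rfl⟩ := NPt.exists_rep Q c P
  obtain ⟨v', hv', rfl⟩ := NPt.exists_rep Q c P'
  have hv0 : v ≠ 0 := by
    rintro rfl
    rw [QuadraticMap.map_zero] at hv
    exact hc hv.symm
  have hv'0 : v' ≠ 0 := by
    rintro rfl
    rw [QuadraticMap.map_zero] at hv'
    exact hc hv'.symm
  have hW : Submodule.span F {v'} ⊓ Cfsg.Agent.Lib.Helper25.MaxTS.perp Q (Submodule.span F {v'}) = ⊥ := by
    rw [eq_bot_iff]
    rintro x ⟨hx1, hx2⟩
    obtain ⟨a, rfl⟩ := Submodule.mem_span_singleton.1 hx1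
    have h3 := Cfsg.Agent.Lib.Helper25.MaxTS.mem_perp.1 hx2 v' (Submodule.mem_span_singleton_self v')
    rw [polar_smul_right, Cfsg.Agent.Lib.Helper25.MaxTS.polar_self, hv', smul_eq_mul] at h3
    have ha : a = 0 := by
      rcases mul_eq_zero.1 h3 with h | h
      · exact h
      · exfalso
        rcases mul_eq_zero.1 h with h | h
        · exact h2 h
        · exact hc h
    rw [ha, zero_smul]
    exact Submodule.zero_mem _
  let e : ↥(Submodule.span F {v}) ≃ₗ[F] ↥(Submodule.span F {v'}) :=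
    (LinearEquiv.toSpanNonzeroSingleton F (ι → F) v hv0).symm ≪≫ₗ
      (LinearEquiv.toSpanNonzeroSingleton F (ι → F) v' hv'0)
  have he : ∀ u : ↥(Submodule.span F {v}), Q (e u : ι → F) = Q (u : ι → F) := by
    intro u
    obtain ⟨a, rfl⟩ := (LinearEquiv.toSpanNonzeroSingleton F (ι → F) v hv0).surjective u
    have h1 : e (LinearEquiv.toSpanNonzeroSingleton F (ι → F) v hv0 a) =
        LinearEquiv.toSpanNonzeroSingleton F (ι → F) v' hv'0 a := by
      show (LinearEquiv.toSpanNonzeroSingleton F (ι → F) v' hv'0)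
        ((LinearEquiv.toSpanNonzeroSingleton F (ι → F) v hv0).symm _) = _
      rw [LinearEquiv.symm_apply_apply]
    rw [h1, LinearEquiv.toSpanNonzeroSingleton_apply, LinearEquiv.toSpanNonzeroSingleton_apply]
    show Q (a • v') = Q (a • v)
    rw [QuadraticMap.map_smul, QuadraticMap.map_smul, hv, hv']
  obtain ⟨g, hgΩ, hg⟩ := omega_trans_nondeg Q hQ hn hex hW e he
  refine ⟨⟨g, hgΩ⟩, ?_⟩
  apply Subtype.ext
  show (NPt.mk v hv : NPt Q c).1.map (lm Q g) = (NPt.mk v' hv' : NPt Q c).1
  rw [NPt.mk_val, NPt.mk_val]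
  exact hg

/-- the centre of `Ω` fixes every point -/
theorem center_smul_NPt [Fintype F] (hQ : (polarBilin Q).Nondegenerate) (hn : 5 ≤ Fintype.card ι)
    (z : ↥(Cfsg.Omega F ⇑Q)) (hz : z ∈ Subgroup.center ↥(Cfsg.Omega F ⇑Q)) (P : NPt Q c) :
    z • P = P := by
  have h1 := center_pm_one Q hQ (Or.inr (by omega)) (by omega) (coe_mem_CZ Q z hz)
  apply Subtype.ext
  show P.1.map (lm Q (z : ↥(Cfsg.isometryGroup F ⇑Q))) = P.1
  ext x
  constructor
  · rintro ⟨y, hy, rfl⟩
    rw [lm_apply, toOG_apply]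
    rcases h1 with h | h
    · rw [h, Matrix.one_mulVec]
      exact hy
    · rw [h, Matrix.neg_mulVec, Matrix.one_mulVec]
      exact P.1.neg_mem hy
  · intro hx
    rcases h1 with h | h
    · refine ⟨x, hx, ?_⟩
      rw [lm_apply, toOG_apply, h, Matrix.one_mulVec]
    · refine ⟨-x, P.1.neg_mem hx, ?_⟩
      rw [lm_apply, toOG_apply, h, Matrix.neg_mulVec, Matrix.one_mulVec, neg_neg]

/-- `PΩ(Q)` has a subgroup of index `#{v | Q v = c} / 2` -/
theorem exists_index_NPt [Fintype F] (hQ : (polarBilin Q).Nondegenerate)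
    (hn : 5 ≤ Fintype.card ι) (h2 : (2 : F) ≠ 0) (hc : c ≠ 0) (hne : ∃ v : ι → F, Q v = c) :
    ∃ H : Subgroup (Cfsg.POmega F ⇑Q), H.index = Nat.card {v : ι → F // Q v = c} / 2 := by
  obtain ⟨v₀, hv₀⟩ := hne
  have htr := omega_pretransitive_NPt Q c hQ (by omega) (Or.inr (by omega)) h2 hc
  obtain ⟨H, hH⟩ := exists_index_of_pretransitive Q htr (NPt.mk v₀ hv₀)
    (fun z hz => center_smul_NPt Q c hQ hn z hz _)
  refine ⟨H, ?_⟩
  rw [hH, ← card_NPt_mul Q c h2 hc, Nat.mul_div_cancel _ (by omega)]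

end general

section three

variable {F : Type*} [Field F] [Fintype F]

/-- in a field with three elements `2 ≠ 0` -/
theorem two_ne_zero_of_card_three (hF : Fintype.card F = 3) : (2 : F) ≠ 0 := by
  intro h2
  have : CharP F 2 := CharTwo.of_one_ne_zero_of_two_eq_zero one_ne_zero h2
  have : Fact (Nat.Prime 2) := ⟨Nat.prime_two⟩
  obtain ⟨k, -, hk⟩ := FiniteField.card F 2
  rw [hF] at hk
  have h1 : Even (2 ^ (k : ℕ)) := (Nat.even_pow' k.ne_zero).2 even_two
  rw [← hk] at h1
  exact absurd h1 (by decide)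

/-- `-1` is not a square in a field with three elements -/
theorem sq_ne_neg_one_of_card_three (hF : Fintype.card F = 3) (a : F) : a ^ 2 - (-1) ≠ 0 := by
  intro h
  have h2 := two_ne_zero_of_card_three hF
  have h3 : a ^ 3 = a := by
    have := FiniteField.pow_card a
    rwa [hF] at this
  have h4 : (2 : F) * a = 0 := by
    have : a ^ 3 = -a := by
      have h5 : a ^ 2 = -1 := by linear_combination h
      calc a ^ 3 = a ^ 2 * a := by ring
        _ = -a := by rw [h5]; ring
    linear_combination this - h3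
  have ha : a = 0 := by
    rcases mul_eq_zero.1 h4 with h | h
    · exact absurd h h2
    · exact h
  rw [ha] at h
  have : (1 : F) = 0 := by linear_combination h
  exact one_ne_zero this

/-- **Existence half of S2144**: `PΩ_{2m+1}(3)` has a subgroup of index `3^m (3^m - 1) / 2`. -/
theorem exists_index_odd_three (hF : Fintype.card F = 3) (m : ℕ) (hm : 3 ≤ m) :
    ∃ H : Subgroup (Cfsg.POmega F (Cfsg.quadFormOdd m F)),
      H.index = 3 ^ m * (3 ^ m - 1) / 2 := by
  classical
  have h2 : (2 : F) ≠ 0 := two_ne_zero_of_card_three hF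
  have hcard : 5 ≤ Fintype.card (Unit ⊕ (Fin m ⊕ Fin m)) := by
    rw [Fintype.card_sum, Fintype.card_sum, Fintype.card_fin, Fintype.card_unit]; omega
  have hA : Nat.card {a : Unit → F // a () ^ 2 - (-1) = 0} = 0 := by
    rw [Nat.card_eq_zero]
    left
    exact ⟨fun a => sq_ne_neg_one_of_card_three hF (a.1 ()) a.2⟩
  have hcount : Nat.card {v : Unit ⊕ (Fin m ⊕ Fin m) → F //
      (qfOf (isQF_odd (F := F) (m := m) h2)) v = -1} = 3 ^ m * (3 ^ m - 1) := by
    have := odd_card (F := F) m (-1)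
    rw [hA, hF, zero_mul, zero_add, Nat.sub_zero] at this
    rw [show (fun v : Unit ⊕ (Fin m ⊕ Fin m) → F =>
        (qfOf (isQF_odd (F := F) (m := m) h2)) v = -1) =
      fun v => Cfsg.quadFormOdd m F v = -1 from rfl, this]
    obtain ⟨k, rfl⟩ : ∃ k, m = k + 1 := ⟨m - 1, by omega⟩
    rw [Nat.add_sub_cancel, pow_succ]
    ring
  have hpos : 0 < 3 ^ m * (3 ^ m - 1) := by
    have : 3 ≤ 3 ^ m := by
      calc 3 = 3 ^ 1 := (pow_one _).symm
        _ ≤ 3 ^ m := Nat.pow_le_pow_right (by omega) (by omega)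
    exact Nat.mul_pos (by omega) (by omega)
  have hne : ∃ v : Unit ⊕ (Fin m ⊕ Fin m) → F, (qfOf (isQF_odd (F := F) (m := m) h2)) v = -1 := by
    by_contra hcon
    push Not at hcon
    have : IsEmpty {v : Unit ⊕ (Fin m ⊕ Fin m) → F //
        (qfOf (isQF_odd (F := F) (m := m) h2)) v = -1} := ⟨fun v => hcon v.1 v.2⟩
    rw [Nat.card_of_isEmpty] at hcount
    omega
  have key : ∃ H : Subgroup (Cfsg.POmega F (Cfsg.quadFormOdd m F)),
      H.index = Nat.card {v : Unit ⊕ (Fin m ⊕ Fin m) → F //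
        (qfOf (isQF_odd (F := F) (m := m) h2)) v = -1} / 2 :=
    exists_index_NPt (qfOf (isQF_odd (F := F) (m := m) h2)) (-1) (qfOf_nondeg _)
      hcard h2 (neg_ne_zero.2 one_ne_zero) hne
  obtain ⟨H, hH⟩ := key
  refine ⟨H, ?_⟩
  rw [hH, hcount]

end three

end Cfsg.Agent.Lib.Helper14.Om3EX
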