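import Mathlib
import Cfsg.Prelude.Def_Classical
import Cfsg.Agent.Lib.Helper11.Om3Defs
import Cfsg.Agent.Lib.Helper25.Siegel2
import Cfsg.Agent.Lib.Helper25.SpinForms
import Cfsg.Agent.Lib.Helper14.OrthOdd
import Cfsg.Agent.Lib.Helper14.Om3EX

/-!
helper14: Om3INST (S2144 market OM3, planner helper11): `Ω_{2m+1}(3) = ↥(Cfsg.Omega F ⇑(oddQ hF m))`,
`|F| = 3`, `m ≥ 3`, acting on `Unit ⊕ (Fin m ⊕ Fin m) → F`, is an instance of helper11's abstract
`Om3.Setting`; plus the numerical hypotheses `hV`, `hs`, `h1`.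
-/

set_option autoImplicit false

namespace Cfsg.Agent.Lib.Helper14.Om3Leaf

open Module QuadraticMap Matrix Cfsg.Agent.Lib.Helper11.Om3 Cfsg.Agent.Lib.Helper25.CD
  Cfsg.Agent.Lib.Helper25.Spin Cfsg.Agent.Lib.Helper25.Siegel Cfsg.Agent.Lib.Helper14
  Cfsg.Agent.Lib.Helper14.Om3EX

section formulas

variable {F : Type*} [Field F] {V : Type*} [AddCommGroup V] [Module F V] (Q : QuadraticForm F V)

/-- the singular Siegel element (parameter `-1`) has helper11's formula -/
theorem siegF_formula3 {x w : V} (hw : Q w = 0) (z : V) :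
    siegF Q x w (-1) z = z + polar Q z w • x - polar Q z x • w - (Q w * polar Q z x) • x := by
  unfold siegF
  rw [hw, zero_mul, zero_smul, sub_zero, polar_comm Q x z, polar_comm Q w z]
  module

/-- the product of two reflections `r_w r_{w - c x}` (`c = Q w`, `c * c = 1`) has helper11's formula -/
theorem refl_pair_formula3 {x w : V} {c : F} (hx : Q x = 0) (hw : Q w = c) (hcc : c * c = 1)
    (hxw : polar Q x w = 0) (z : V) :
    reflE Q w (reflE Q (w - c • x) z) =
      z + polar Q z w • x - polar Q z x • w - (Q w * polar Q z x) • x := by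
  have hc0 : c ≠ 0 := by
    rintro rfl
    rw [zero_mul] at hcc
    exact zero_ne_one hcc
  have hcinv : c⁻¹ = c := by
    field_simp
    linear_combination -hcc
  have hwx : Q (w - c • x) = c := by
    rw [sub_eq_add_neg, ← neg_smul, QuadraticMap.map_add (⇑Q), QuadraticMap.map_smul, hx, hw,
      polar_smul_right, polar_comm Q w x, hxw]
    simp
  have hww : polar Q w w = 2 * c := by rw [polar_self'', hw]
  rw [reflE_apply, reflE_apply, hw, hwx, hcinv]
  simp only [polar_sub_right, polar_sub_left, polar_smul_right, polar_smul_left, smul_eq_mul,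
    hww, polar_comm Q w x, hxw, polar_comm Q w z, polar_comm Q x z, mul_zero, sub_zero]
  match_scalars
  · rfl
  · linear_combination (2 * c * polar Q z w - polar Q z x * (2 * c ^ 2 + 1)) * hcc
  · linear_combination (polar Q z w - c * polar Q z x) * hcc

/-- the product of two commuting reflections `r_c r_c'` (`Q c = Q c' = a`, `a * a = 1`) -/
theorem refl_rr_formula3 {c c' : V} {a : F} (hc : Q c = a) (hc' : Q c' = a) (haa : a * a = 1)
    (hcc' : polar Q c c' = 0) (z : V) :
    reflE Q c (reflE Q c' z) = z - (Q c * polar Q z c) • c - (Q c * polar Q z c') • c' := by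
  have ha0 : a ≠ 0 := by
    rintro rfl
    rw [zero_mul] at haa
    exact zero_ne_one haa
  have hainv : a⁻¹ = a := by
    field_simp
    linear_combination -haa
  rw [reflE_apply, reflE_apply, hc, hc', hainv]
  simp only [polar_sub_right, polar_smul_right, smul_eq_mul, hcc', polar_comm Q c z,
    polar_comm Q c' z, mul_zero, sub_zero]
  module

end formulas

section field3

variable {F : Type*} [Field F] [Fintype F]

theorem three_eq_zero_of_card (hF : Fintype.card F = 3) : (3 : F) = 0 := by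
  have := Nat.cast_card_eq_zero F
  rw [hF] at this
  exact_mod_cast this

theorem cases_of_card_three (hF : Fintype.card F = 3) (a : F) : a = 0 ∨ a = 1 ∨ a = -1 := by
  classical
  have h2 := two_ne_zero_of_card_three hF
  have h1 : (1 : F) ≠ -1 := by
    intro h
    apply h2
    linear_combination h
  by_contra hcon
  push Not at hcon
  have h4 : ({0, 1, -1, a} : Finset F).card = 4 := by
    rw [Finset.card_insert_of_notMem, Finset.card_insert_of_notMem, Finset.card_insert_of_notMem,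
      Finset.card_singleton]
    · simp only [Finset.mem_singleton]; exact fun h => hcon.2.2 h.symm
    · simp only [Finset.mem_insert, Finset.mem_singleton, not_or]
      exact ⟨h1, fun h => hcon.2.1 h.symm⟩
    · simp only [Finset.mem_insert, Finset.mem_singleton, not_or]
      exact ⟨zero_ne_one, fun h => one_ne_zero (neg_eq_zero.1 h.symm), fun h => hcon.1 h.symm⟩
  have := Finset.card_le_univ ({0, 1, -1, a} : Finset F)
  omega

theorem mul_self_of_card_three (hF : Fintype.card F = 3) {a : F} (ha : a ≠ 0) : a * a = 1 := by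
  rcases cases_of_card_three hF a with h | h | h
  · exact absurd h ha
  · rw [h, mul_one]
  · rw [h]; ring

end field3

section inst

variable {F : Type*} [Field F] [Fintype F] (m : ℕ)

/-- the bundled odd-dimensional form over a field with three elements -/
noncomputable def oddQ (hF : Fintype.card F = 3) : QuadraticForm F (Unit ⊕ (Fin m ⊕ Fin m) → F) :=
  qfOf (isQF_odd (F := F) (m := m) (two_ne_zero_of_card_three hF))

theorem coe_oddQ (hF : Fintype.card F = 3) : ⇑(oddQ m hF) = Cfsg.quadFormOdd m F := rfl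

theorem oddQ_apply (hF : Fintype.card F = 3) (v : Unit ⊕ (Fin m ⊕ Fin m) → F) :
    oddQ m hF v = Cfsg.quadFormOdd m F v := rfl

theorem oddQ_nondegenerate (hF : Fintype.card F = 3) : (polarBilin (oddQ m hF)).Nondegenerate :=
  qfOf_nondeg _

omit [Fintype F] in
theorem card_idx3 (hm : 3 ≤ m) : 7 ≤ Fintype.card (Unit ⊕ (Fin m ⊕ Fin m)) := by
  rw [Fintype.card_sum, Fintype.card_sum, Fintype.card_fin, Fintype.card_unit]; omega

/-- `Ω(oddQ)` acts on column vectors (through `toOG`). -/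
@[reducible] noncomputable def om3Act (hF : Fintype.card F = 3) :
    DistribMulAction ↥(Cfsg.Omega F ⇑(oddQ m hF)) (Unit ⊕ (Fin m ⊕ Fin m) → F) where
  smul g x := toOG (oddQ m hF) (g : ↥(Cfsg.isometryGroup F ⇑(oddQ m hF))) x
  one_smul x := by
    show toOG (oddQ m hF) ((1 : ↥(Cfsg.Omega F ⇑(oddQ m hF))) :
      ↥(Cfsg.isometryGroup F ⇑(oddQ m hF))) x = x
    rw [Subgroup.coe_one, map_one]; rfl
  mul_smul g h x := by
    show toOG (oddQ m hF) ((g * h : ↥(Cfsg.Omega F ⇑(oddQ m hF))) :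
      ↥(Cfsg.isometryGroup F ⇑(oddQ m hF))) x =
      toOG (oddQ m hF) g (toOG (oddQ m hF) h x)
    rw [Subgroup.coe_mul, map_mul]; rfl
  smul_zero g := map_zero _
  smul_add g x y := map_add _ x y

theorem om3Act_smul (hF : Fintype.card F = 3) (g : ↥(Cfsg.Omega F ⇑(oddQ m hF)))
    (x : Unit ⊕ (Fin m ⊕ Fin m) → F) :
    @HSMul.hSMul _ _ _ (@instHSMul _ _ (om3Act m hF).toSMul) g x =
      toOG (oddQ m hF) (g : ↥(Cfsg.isometryGroup F ⇑(oddQ m hF))) x := rfl

/-- products of two reflections in vectors of the same norm lie in `Ω` -/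
theorem refl_pair_mem3 (hF : Fintype.card F = 3) (hm : 3 ≤ m)
    {a b : Unit ⊕ (Fin m ⊕ Fin m) → F} {c : F} (hc : c ≠ 0)
    (ha : oddQ m hF a = c) (hb : oddQ m hF b = c) :
    reflM (oddQ m hF) a * reflM (oddQ m hF) b ∈ Cfsg.Omega F ⇑(oddQ m hF) := by
  rw [omega_eq_root' (oddQ m hF) (oddQ_nondegenerate m hF) (card_idx3 m hm)]
  exact pair_same_norm (oddQ m hF) (two_ne_zero_of_card_three hF) (oddQ_nondegenerate m hF)
    (by have := card_idx3 m hm; omega) hc ha hb

theorem Q_sub_smul3 (hF : Fintype.card F = 3) {x w : Unit ⊕ (Fin m ⊕ Fin m) → F}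
    (hx : oddQ m hF x = 0) (hxw : polar (oddQ m hF) x w = 0) (c : F) :
    oddQ m hF (w - c • x) = oddQ m hF w := by
  rw [sub_eq_add_neg, ← neg_smul, QuadraticMap.map_add (⇑(oddQ m hF)), QuadraticMap.map_smul, hx,
    polar_smul_right, polar_comm (oddQ m hF) w x, hxw]
  simp

open Classical in
/-- the Siegel element `ρ_{x,w}` (`x` singular, `w ⊥ x`) as an element of `Ω`; `1` for junk arguments -/
noncomputable def om3Sg (hF : Fintype.card F = 3) (hm : 3 ≤ m)
    (x w : Unit ⊕ (Fin m ⊕ Fin m) → F) : ↥(Cfsg.Omega F ⇑(oddQ m hF)) :=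
  if h : oddQ m hF x = 0 ∧ polar (oddQ m hF) x w = 0 then
    if hw : oddQ m hF w = 0 then
      ⟨siegG (oddQ m hF) x w (-1) h.1 hw h.2,
        siegG_mem_omega (oddQ m hF) (oddQ_nondegenerate m hF) (card_idx3 m hm) x w (-1) h.1 hw h.2⟩
    else
      ⟨reflM (oddQ m hF) w * reflM (oddQ m hF) (w - oddQ m hF w • x),
        refl_pair_mem3 m hF hm hw rfl (Q_sub_smul3 m hF h.1 h.2 _)⟩
  else 1

theorem om3Sg_of_sing (hF : Fintype.card F = 3) (hm : 3 ≤ m) {x w : Unit ⊕ (Fin m ⊕ Fin m) → F}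
    (hx : oddQ m hF x = 0) (hw : oddQ m hF w = 0) (hxw : polar (oddQ m hF) x w = 0) :
    (om3Sg m hF hm x w : ↥(Cfsg.isometryGroup F ⇑(oddQ m hF))) =
      siegG (oddQ m hF) x w (-1) hx hw hxw := by
  unfold om3Sg
  rw [dif_pos ⟨hx, hxw⟩, dif_pos hw]

theorem om3Sg_of_nonsing (hF : Fintype.card F = 3) (hm : 3 ≤ m)
    {x w : Unit ⊕ (Fin m ⊕ Fin m) → F}
    (hx : oddQ m hF x = 0) (hw : ¬ oddQ m hF w = 0) (hxw : polar (oddQ m hF) x w = 0) :
    (om3Sg m hF hm x w : ↥(Cfsg.isometryGroup F ⇑(oddQ m hF))) =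
      reflM (oddQ m hF) w * reflM (oddQ m hF) (w - oddQ m hF w • x) := by
  unfold om3Sg
  rw [dif_pos ⟨hx, hxw⟩, dif_neg hw]

/-- the formula for the action of `om3Sg` -/
theorem toOG_om3Sg (hF : Fintype.card F = 3) (hm : 3 ≤ m) {x w : Unit ⊕ (Fin m ⊕ Fin m) → F}
    (hx : oddQ m hF x = 0) (hxw : polar (oddQ m hF) x w = 0) (z : Unit ⊕ (Fin m ⊕ Fin m) → F) :
    toOG (oddQ m hF) (om3Sg m hF hm x w : ↥(Cfsg.isometryGroup F ⇑(oddQ m hF))) z =
      z + polar (oddQ m hF) z w • x - polar (oddQ m hF) z x • w -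
        (oddQ m hF w * polar (oddQ m hF) z x) • x := by
  by_cases hw : oddQ m hF w = 0
  · rw [om3Sg_of_sing m hF hm hx hw hxw, toOG_siegG]
    exact siegF_formula3 (oddQ m hF) (x := x) hw z
  · rw [om3Sg_of_nonsing m hF hm hx hw hxw, map_mul, LinearEquiv.mul_apply, toOG_reflM, toOG_reflM]
    exact refl_pair_formula3 (oddQ m hF) (x := x) (w := w) hx rfl
      (mul_self_of_card_three hF hw) hxw z

open Classical in
/-- `r_c r_c'` as an element of `Ω`; `1` for junk arguments -/
noncomputable def om3Rr (hF : Fintype.card F = 3) (hm : 3 ≤ m)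
    (c c' : Unit ⊕ (Fin m ⊕ Fin m) → F) : ↥(Cfsg.Omega F ⇑(oddQ m hF)) :=
  if h : oddQ m hF c ≠ 0 ∧ oddQ m hF c' = oddQ m hF c then
    ⟨reflM (oddQ m hF) c * reflM (oddQ m hF) c', refl_pair_mem3 m hF hm h.1 rfl h.2⟩
  else 1

theorem om3Rr_coe (hF : Fintype.card F = 3) (hm : 3 ≤ m) {c c' : Unit ⊕ (Fin m ⊕ Fin m) → F}
    (hc : oddQ m hF c ≠ 0) (hc' : oddQ m hF c' = oddQ m hF c) :
    (om3Rr m hF hm c c' : ↥(Cfsg.isometryGroup F ⇑(oddQ m hF))) =
      reflM (oddQ m hF) c * reflM (oddQ m hF) c' := by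
  unfold om3Rr
  rw [dif_pos ⟨hc, hc'⟩]

theorem toOG_om3Rr (hF : Fintype.card F = 3) (hm : 3 ≤ m) {c c' : Unit ⊕ (Fin m ⊕ Fin m) → F}
    (hc : oddQ m hF c ≠ 0) (hc' : oddQ m hF c' = oddQ m hF c)
    (hcc' : polar (oddQ m hF) c c' = 0) (z : Unit ⊕ (Fin m ⊕ Fin m) → F) :
    toOG (oddQ m hF) (om3Rr m hF hm c c' : ↥(Cfsg.isometryGroup F ⇑(oddQ m hF))) z =
      z - (oddQ m hF c * polar (oddQ m hF) z c) • c -
        (oddQ m hF c * polar (oddQ m hF) z c') • c' := by
  rw [om3Rr_coe m hF hm hc hc', map_mul, LinearEquiv.mul_apply, toOG_reflM, toOG_reflM]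
  exact refl_rr_formula3 (oddQ m hF) rfl hc' (mul_self_of_card_three hF hc) hcc' z

/-- the setting -/
noncomputable def om3Setting (hF : Fintype.card F = 3) (hm : 3 ≤ m) :
    @Setting F (Unit ⊕ (Fin m ⊕ Fin m) → F) ↥(Cfsg.Omega F ⇑(oddQ m hF)) _ _ _ _ (om3Act m hF) :=
  letI := om3Act m hF
  { B := polarBilin (oddQ m hF)
    Q := fun v => oddQ m hF v
    sg := om3Sg m hF hm
    rr := om3Rr m hF hm
    h3 := cases_of_card_three hF
    three := three_eq_zero_of_card hF
    Q_add := fun x y => by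
      rw [polarBilin_apply_apply]
      unfold polar
      ring
    Q_neg := fun x => QuadraticMap.map_neg _ x
    nondeg := fun x hx => by
      have h := oddQ_nondegenerate (F := F) m hF
      rw [Cfsg.Agent.Lib.Helper25.MaxTS.isRefl.nondegenerate_iff_separatingLeft] at h
      exact h x hx
    isoQ := fun g x => toOG_mem_OG (oddQ m hF) (g : ↥(Cfsg.isometryGroup F ⇑(oddQ m hF))) x
    sg_smul := fun x w hx hxw z => by
      rw [polarBilin_apply_apply] at hxw
      simp only [polarBilin_apply_apply]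
      exact toOG_om3Sg m hF hm hx hxw z
    rr_smul := fun c c' hc hc' hcc' z => by
      rw [polarBilin_apply_apply] at hcc'
      simp only [polarBilin_apply_apply]
      exact toOG_om3Rr m hF hm hc hc' hcc' z
    gen := fun H hH => by
      rw [eq_top_iff]
      intro g _
      have hg : (g : ↥(Cfsg.isometryGroup F ⇑(oddQ m hF))) ∈
          Subgroup.closure (rootSet (oddQ m hF)) := by
        rw [← omega_eq_root' (oddQ m hF) (oddQ_nondegenerate m hF) (card_idx3 m hm)]
        exact g.2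
      have hle : Subgroup.closure (rootSet (oddQ m hF)) ≤
          H.map (Cfsg.Omega F ⇑(oddQ m hF)).subtype := by
        rw [Subgroup.closure_le]
        rintro r ⟨u, v, c, hu, hv, huv, hr⟩
        have hmem : om3Sg m hF hm u v ∈ H :=
          hH u v hu hv (by rw [polarBilin_apply_apply]; exact huv)
        rcases cases_of_card_three hF c with rfl | rfl | rfl
        · have : r = 1 := by
            apply Subtype.ext
            apply Units.ext
            rw [hr, siegelMatrix_zero]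
            rfl
          rw [this]
          exact Subgroup.one_mem _
        · -- `c = 1`: the inverse of `sg u v`
          refine ⟨(om3Sg m hF hm u v)⁻¹, H.inv_mem hmem, ?_⟩
          rw [Subgroup.coe_subtype, Subgroup.coe_inv, om3Sg_of_sing m hF hm hu hv huv]
          have h1 : r = siegG (oddQ m hF) u v 1 hu hv huv :=
            eq_siegG_of_coe (oddQ m hF) hu hv huv hr
          rw [h1, inv_eq_iff_eq_inv, eq_inv_iff_mul_eq_one]
          apply Subtype.ext
          apply Units.ext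
          show Cfsg.siegelMatrix ⇑(oddQ m hF) u v (-1) * Cfsg.siegelMatrix ⇑(oddQ m hF) u v 1 = 1
          rw [siegelMatrix_mul (oddQ m hF) hu hv huv, neg_add_cancel, siegelMatrix_zero]
        · refine ⟨om3Sg m hF hm u v, hmem, ?_⟩
          rw [Subgroup.coe_subtype, om3Sg_of_sing m hF hm hu hv huv]
          exact (eq_siegG_of_coe (oddQ m hF) hu hv huv hr).symm
      obtain ⟨g', hg', hgg'⟩ := hle hg
      have e : g' = g := Subtype.ext hgg'
      rw [← e]
      exact hg'
    faithful := fun g hg => by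
      apply Subtype.ext
      apply toOG_injective (oddQ m hF)
      ext1 z
      rw [Subgroup.coe_one, map_one]
      exact hg z }

theorem om3Setting_Q (hF : Fintype.card F = 3) (hm : 3 ≤ m) (v : Unit ⊕ (Fin m ⊕ Fin m) → F) :
    (om3Setting m hF hm).Q v = Cfsg.quadFormOdd m F v := rfl

theorem om3Setting_B (hF : Fintype.card F = 3) (hm : 3 ≤ m) (u v : Unit ⊕ (Fin m ⊕ Fin m) → F) :
    (om3Setting m hF hm).B u v = polar (oddQ m hF) u v := rfl

theorem om3Setting_sg (hF : Fintype.card F = 3) (hm : 3 ≤ m) (x w : Unit ⊕ (Fin m ⊕ Fin m) → F) :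
    (om3Setting m hF hm).sg x w = om3Sg m hF hm x w := rfl

theorem om3Setting_rr (hF : Fintype.card F = 3) (hm : 3 ≤ m) (c c' : Unit ⊕ (Fin m ⊕ Fin m) → F) :
    (om3Setting m hF hm).rr c c' = om3Rr m hF hm c c' := rfl

omit [Field F] in
/-- `hV` -/
theorem card_V3 (hF : Fintype.card F = 3) :
    Nat.card (Unit ⊕ (Fin m ⊕ Fin m) → F) = 3 ^ (2 * m + 1) := by
  classical
  rw [Nat.card_eq_fintype_card, Fintype.card_fun, Fintype.card_sum, Fintype.card_sum,
    Fintype.card_fin, Fintype.card_unit, hF]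
  congr 1
  omega

/-- `hs` -/
theorem card_sing3 (hF : Fintype.card F = 3) (hm : 3 ≤ m) :
    Nat.card {v : Unit ⊕ (Fin m ⊕ Fin m) → F // (om3Setting m hF hm).Q v = 0} = 3 ^ (2 * m) := by
  classical
  have h1 : Nat.card {v : Unit ⊕ (Fin m ⊕ Fin m) → F // (om3Setting m hF hm).Q v = 0} =
      Nat.card {v : Unit ⊕ (Fin m ⊕ Fin m) → F // Cfsg.quadFormOdd m F v = 0} := rfl
  rw [h1, odd_card_zero, hF]

/-- `h1` -/
theorem card_one3 (hF : Fintype.card F = 3) (hm : 3 ≤ m) :
    Nat.card {v : Unit ⊕ (Fin m ⊕ Fin m) → F // (om3Setting m hF hm).Q v = 1} =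
      3 ^ (2 * m) + 3 ^ m := by
  classical
  have h1 : Nat.card {v : Unit ⊕ (Fin m ⊕ Fin m) → F // (om3Setting m hF hm).Q v = 1} =
      Nat.card {v : Unit ⊕ (Fin m ⊕ Fin m) → F // Cfsg.quadFormOdd m F v = 1} := rfl
  rw [h1, odd_card, odd_sq_one_card (two_ne_zero_of_card_three hF), hF]
  obtain ⟨k, rfl⟩ : ∃ k, m = k + 1 := ⟨m - 1, by omega⟩
  rw [Nat.add_sub_cancel]
  have h3 : 3 ^ (k + 1) = 3 * 3 ^ k := by rw [pow_succ]; ring
  have h5 : 3 ^ (2 * (k + 1)) = 9 * (3 ^ k * 3 ^ k) := by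
    rw [show 2 * (k + 1) = k + k + 2 by ring, pow_add, pow_add]; ring
  rw [h3, h5]
  have h2 : 1 ≤ 3 ^ k := Nat.one_le_pow _ _ (by omega)
  obtain ⟨a, ha⟩ : ∃ a, 3 * 3 ^ k = a + 1 := ⟨3 * 3 ^ k - 1, by omega⟩
  rw [ha, Nat.add_sub_cancel]
  nlinarith [ha]

end inst

end Cfsg.Agent.Lib.Helper14.Om3Leaf
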