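import Mathlib
import Cfsg.Agent.Lib.Helper14.Om3INST
import Cfsg.Agent.Lib.Helper14.Om3EX

/-!
helper14: Om3INST2 (S2144 market OM3): the transfer `Ω(oddQ) → Ω(quadFormOdd) → PΩ(quadFormOdd)` and
the frozen shape of S2144 from the abstract lower bound `index_ge` (passed as a hypothesis).
-/

set_option autoImplicit false

namespace Cfsg.Agent.Lib.Helper14.Om3Leaf

open Cfsg.Agent.Lib.Helper11.Om3

variable {F : Type*} [Field F] [Fintype F]

/-- from `Ω` to `PΩ` -/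
theorem pomega_index_ge_of3 (hF : Fintype.card F = 3) (m : ℕ)
    (hidx : ∀ H : Subgroup ↥(Cfsg.Omega F ⇑(oddQ (F := F) m hF)), H ≠ ⊤ →
      3 ^ m * (3 ^ m - 1) ≤ 2 * H.index)
    (H : Subgroup (Cfsg.POmega F (Cfsg.quadFormOdd m F))) (hH : H ≠ ⊤) :
    3 ^ m * (3 ^ m - 1) / 2 ≤ H.index := by
  have hidx' : ∀ K : Subgroup ↥(Cfsg.Omega F (Cfsg.quadFormOdd m F)), K ≠ ⊤ →
      3 ^ m * (3 ^ m - 1) ≤ 2 * K.index := hidx
  have hs : Function.Surjective
      (QuotientGroup.mk' (Subgroup.center ↥(Cfsg.Omega F (Cfsg.quadFormOdd m F)))) :=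
    QuotientGroup.mk'_surjective _
  rw [← Subgroup.index_comap_of_surjective H hs]
  have h1 := hidx' (H.comap (QuotientGroup.mk'
      (Subgroup.center ↥(Cfsg.Omega F (Cfsg.quadFormOdd m F))))) (by
    intro h
    apply hH
    apply Subgroup.comap_injective hs
    rw [h, Subgroup.comap_top])
  omega

/-- the frozen shape of S2144 from the abstract lower bound -/
theorem S2144_of_index_ge (hF : Fintype.card F = 3) (m : ℕ) (hm : 3 ≤ m)
    (hidx : ∀ H : Subgroup ↥(Cfsg.Omega F ⇑(oddQ (F := F) m hF)), H ≠ ⊤ →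
      3 ^ m * (3 ^ m - 1) ≤ 2 * H.index) :
    (∀ H : Subgroup (Cfsg.POmega F (Cfsg.quadFormOdd m F)), H ≠ ⊤ →
      3 ^ m * (3 ^ m - 1) / 2 ≤ H.index) ∧
    (∃ H : Subgroup (Cfsg.POmega F (Cfsg.quadFormOdd m F)), H.index = 3 ^ m * (3 ^ m - 1) / 2) :=
  ⟨fun H hH => pomega_index_ge_of3 hF m hidx H hH,
    Cfsg.Agent.Lib.Helper14.Om3EX.exists_index_odd_three hF m hm⟩

end Cfsg.Agent.Lib.Helper14.Om3Leaf
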