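/-
helper14: leaf OLk (`relIndex_ge_of_mid`) of helper11's S2144 market OM3, over the statement of T2 only
(COV through helper22's `covering_of`).
-/
import Mathlib
import Cfsg.Agent.Lib.Helper14.Om3OLkOf
import Cfsg.Agent.Lib.Helper22.Om3COVOf

set_option autoImplicit false

open Cfsg.Agent.Lib.Helper11.Om3 MulAction
open scoped Pointwise

namespace Cfsg.Agent.Lib.Helper14.Om3OLkOf

variable {F V G : Type*} [Field F] [AddCommGroup V] [Module F V] [Group G] [DistribMulAction G V]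
  (S : Setting F V G)

/-- OLk over the statement of T2 -/
theorem relIndex_ge_of_mid_ofT2 [Finite V] [Finite G] (hT2 : Cfsg.Agent.Lib.Helper22.Om3COVOf.T2 S)
    {m : ℕ} (hV : Nat.card V = 3 ^ (2 * m + 1))
    (hs : Nat.card {v : V // S.Q v = 0} = 3 ^ (2 * m))
    (h1 : Nat.card {v : V // S.Q v = 1} = 3 ^ (2 * m) + 3 ^ m) (hm : 3 ≤ m)
    (H : Subgroup G) {x : V} (hx0 : x ≠ 0) (hx : S.Q x = 0)
    (h : Nat.card (S.Dt H hx) = 3 ^ m) :
    3 ^ m * (3 ^ m - 1) ≤ 2 * H.relIndex (stabilizer G x) :=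
  relIndex_ge_of_mid_of S hV hs h1 hm H hx0 hx h
    (fun _ _ g hg _ hu0 hu0x hinj =>
      Cfsg.Agent.Lib.Helper22.Om3COVOf.covering_of S hT2 hx0 hx (S.Dt H hx) (S.Dt_le_perp hx)
        g hg hu0 hu0x hinj)

end Cfsg.Agent.Lib.Helper14.Om3OLkOf
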