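/-
helper14: leaf OLk (`relIndex_ge_of_mid`) of helper11's S2144 market OM3: exact statement
(proof in `Om3OLkOf` / `Om3OLkOfT2`; T2 by helper15, COV by helper22's `covering_of`).
-/
import Mathlib
import Cfsg.Agent.Lib.Helper14.Om3OLkOfT2
import Cfsg.Agent.Lib.Helper15.Om3T2

set_option autoImplicit false

open Cfsg.Agent.Lib.Helper11.Om3 MulAction
open scoped Pointwise

namespace Cfsg.Agent.Lib.Helper14.Om3Leaf

variable {F V G : Type*} [Field F] [AddCommGroup V] [Module F V] [Group G] [DistribMulAction G V]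
  (S : Setting F V G)

/-- OLk -/
theorem relIndex_ge_of_mid [Finite V] [Finite G] {m : ℕ} (hV : Nat.card V = 3 ^ (2 * m + 1))
    (hs : Nat.card {v : V // S.Q v = 0} = 3 ^ (2 * m))
    (h1 : Nat.card {v : V // S.Q v = 1} = 3 ^ (2 * m) + 3 ^ m) (hm : 3 ≤ m)
    (H : Subgroup G) {x : V} (hx0 : x ≠ 0) (hx : S.Q x = 0)
    (h : Nat.card (S.Dt H hx) = 3 ^ m) :
    3 ^ m * (3 ^ m - 1) ≤ 2 * H.relIndex (stabilizer G x) :=
  Cfsg.Agent.Lib.Helper14.Om3OLkOf.relIndex_ge_of_mid_ofT2 S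
    (fun hx0 hx hw hw' hwx hwx' hQ =>
      Cfsg.Agent.Lib.Helper15.Om3Leaf.exists_stab_smul_eq S hV hs hm hx0 hx hw hw' hwx hwx' hQ)
    hV hs h1 hm H hx0 hx h

end Cfsg.Agent.Lib.Helper14.Om3Leaf
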