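import Mathlib
import Cfsg.Agent.Lib.Helper14.PBExtDefs

/-!
# S4937, leaves SYL1-SYL2 (helper14): pure group theory
-/

set_option autoImplicit false

namespace Cfsg.Agent.Lib.Helper14.PBExt

open Cfsg

universe u

variable {G : Type u} [Group G]

/-- SYL1: an element centralising a Sylow `p`-subgroup of `N` has an `N`-class of size prime to `p`. -/
theorem not_dvd_kN [Finite G] (p : ℕ) [Fact p.Prime] (N : Subgroup G) (P : Sylow p ↥N) (c : G)
    (hc : c ∈ Subgroup.centralizer (((P : Subgroup ↥N).map N.subtype : Subgroup G) : Set G)) :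
    ¬ p ∣ kN N c := by
  have hle : (P : Subgroup ↥N) ≤ (Subgroup.centralizer ({c} : Set G)).subgroupOf N := by
    intro x hx
    rw [Subgroup.mem_subgroupOf, Subgroup.mem_centralizer_iff]
    intro h hh
    rw [Set.mem_singleton_iff] at hh
    subst hh
    have hx' : (x : G) ∈ (((P : Subgroup ↥N).map N.subtype : Subgroup G) : Set G) :=
      Subgroup.mem_map.mpr ⟨x, hx, rfl⟩
    exact (Subgroup.mem_centralizer_iff.mp hc (x : G) hx').symm
  have hdvd : ((Subgroup.centralizer ({c} : Set G)).subgroupOf N).index ∣ (P : Subgroup ↥N).index :=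
    Subgroup.index_dvd_of_le hle
  intro hp
  exact P.not_dvd_index (dvd_trans hp hdvd)

/-- SYL2: if `N C = G` then every coset of `N` meets `C`. -/
theorem exists_cent_rep (N : Subgroup G) [N.Normal] (C : Subgroup G) (hcov : N ⊔ C = ⊤) (x : G) :
    ∃ c ∈ C, c⁻¹ * x ∈ N := by
  have hx : x ∈ ((N ⊔ C : Subgroup G) : Set G) := by
    rw [hcov]
    exact Set.mem_univ x
  rw [Subgroup.normal_mul, Set.mem_mul] at hx
  obtain ⟨n, hn, c, hc, rfl⟩ := hx
  refine ⟨c, hc, ?_⟩
  have h1 : c⁻¹ * (n * c) = c⁻¹ * n * (c⁻¹)⁻¹ := by group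
  rw [h1]
  exact ‹N.Normal›.conj_mem n hn c⁻¹

end Cfsg.Agent.Lib.Helper14.PBExt
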