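/-
helper14: S4892 leaf (GA) for helper23's plan.  Galois descent: a character of `G` invariant under
the power maps `g ↦ g ^ k`, `k` coprime to `|G|`, `k ≡ 1 mod m` (`m ∣ |G|`), has its values in
`ℚ(ζ_m)`.
-/
import Mathlib
import Cfsg.Agent.Lib.Lead.GalChar

set_option autoImplicit false

namespace Cfsg.Agent.Lib.Helper14.PRat

open Cfsg Cfsg.Agent.CharLib

universe u

/-- S4892 leaf (GA). -/
theorem mem_adjoin_of_pow_invariant {G : Type u} [Group G] [Finite G] {χ : G → ℂ}
    (hχ : IsCharacter G χ) (m : ℕ) (hm : 0 < m) (hdvd : m ∣ Nat.card G)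
    (h : ∀ k : ℕ, k.Coprime (Nat.card G) → k ≡ 1 [MOD m] → ∀ g, χ (g ^ k) = χ g) (g : G) :
    χ g ∈ IntermediateField.adjoin ℚ ({Complex.exp (2 * Real.pi * Complex.I / m)} : Set ℂ) := by
  classical
  obtain ⟨n, ρ, rfl⟩ := hχ
  have hEpos : 0 < Nat.card G := Nat.card_pos
  have : NeZero (Nat.card G) := ⟨hEpos.ne'⟩
  obtain ⟨c, hc⟩ := hdvd
  obtain ⟨K, _, _, _, ⟨φ⟩⟩ := exists_cyclotomic_field (Nat.card G)
  have : FiniteDimensional ℚ K := IsCyclotomicExtension.finiteDimensional {Nat.card G} ℚ K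
  have : IsGalois ℚ K := IsCyclotomicExtension.isGalois {Nat.card G} ℚ K
  obtain ⟨x, -, hx2, hx3⟩ := exists_cyclotomic_charVal (Nat.card G) K φ ρ g pow_card_eq_one'
  set ζ := IsCyclotomicExtension.zeta (Nat.card G) ℚ K with hζdef
  have hζ : IsPrimitiveRoot ζ (Nat.card G) := IsCyclotomicExtension.zeta_spec (Nat.card G) ℚ K
  -- η = ζ ^ c is a primitive m-th root of unity
  have hη : IsPrimitiveRoot (ζ ^ c) m := by
    apply hζ.pow hEpos
    rw [hc, mul_comm]
  set η := ζ ^ c with hηdef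
  set F : IntermediateField ℚ K := IntermediateField.adjoin ℚ ({η} : Set K) with hFdef
  -- x is fixed by the fixing subgroup of F
  have hxF : x ∈ F := by
    rw [← IsGalois.fixedField_fixingSubgroup F, IntermediateField.mem_fixedField_iff]
    intro σ hσ
    have hση : σ η = η := by
      rw [IntermediateField.mem_fixingSubgroup_iff] at hσ
      exact hσ η (IntermediateField.subset_adjoin ℚ _ (Set.mem_singleton η))
    have hσζ : σ ζ = ζ ^ galExp (Nat.card G) K σ := galExp_spec (Nat.card G) K σ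
    set k := galExp (Nat.card G) K σ with hkdef
    have hηk : η ^ k = η ^ 1 := by
      rw [pow_one]
      calc η ^ k = (ζ ^ k) ^ c := by rw [hηdef, ← pow_mul, ← pow_mul, mul_comm]
        _ = (σ ζ) ^ c := by rw [hσζ]
        _ = σ (ζ ^ c) := by rw [map_pow]
        _ = η := hση
    have hk1 : k ≡ 1 [MOD m] := by
      have hηm : η ^ m = 1 := hη.pow_eq_one
      rw [pow_eq_pow_mod k hηm, pow_eq_pow_mod 1 hηm] at hηk
      exact hη.pow_inj (Nat.mod_lt _ hm) (Nat.mod_lt _ hm) hηk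
    have hkc : k.Coprime (Nat.card G) := galExp_coprime (Nat.card G) K σ
    apply φ.injective
    rw [hx3 σ, hx2]
    exact h k hkc hk1 g
  -- transport along φ
  let φ' : K →ₐ[ℚ] ℂ := φ.toRatAlgHom
  have hφ' : ∀ y : K, φ' y = φ y := fun y => rfl
  have hmap : φ' x ∈ F.map φ' := ⟨x, hxF, rfl⟩
  rw [hFdef, IntermediateField.adjoin_map, Set.image_singleton] at hmap
  rw [hφ' x, hx2] at hmap
  -- φ η is a power of exp(2πi/m)
  have hζm : IsPrimitiveRoot (Complex.exp (2 * Real.pi * Complex.I / m)) m :=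
    Complex.isPrimitiveRoot_exp m hm.ne'
  have hφη : IsPrimitiveRoot (φ' η) m := hη.map_of_injective φ'.toRingHom.injective
  have : NeZero m := ⟨hm.ne'⟩
  obtain ⟨j, -, hj⟩ := hζm.eq_pow_of_pow_eq_one hφη.pow_eq_one
  have hle : IntermediateField.adjoin ℚ ({φ' η} : Set ℂ) ≤
      IntermediateField.adjoin ℚ ({Complex.exp (2 * Real.pi * Complex.I / m)} : Set ℂ) := by
    rw [IntermediateField.adjoin_le_iff]
    intro y hy
    rw [Set.mem_singleton_iff] at hy
    rw [hy, ← hj]
    exact pow_mem (IntermediateField.subset_adjoin ℚ _ (Set.mem_singleton _)) j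
  exact hle hmap

end Cfsg.Agent.Lib.Helper14.PRat
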