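/-
helper14: S4892 leaf (GB) for helper23's plan.  A character whose values lie in `ℚ(ζ_m)` is
invariant under the power maps `g ↦ g ^ k` for `k` coprime to `|G|` and `≡ 1` modulo every common
divisor of `|G|` and `m`.
-/
import Mathlib
import Cfsg.Agent.Lib.Helper23.ComplexAut
import Cfsg.Agent.Lib.Helper23.PConjA

set_option autoImplicit false

namespace Cfsg.Agent.Lib.Helper14.PRat

open Cfsg Cfsg.Agent.CharLib

universe u

/-- A ring automorphism of `ℂ` fixing `ζ` fixes `ℚ(ζ)` pointwise. -/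
theorem ringEquiv_fix_adjoin (τ : ℂ ≃+* ℂ) (ζ : ℂ) (hζ : τ ζ = ζ) (x : ℂ)
    (hx : x ∈ IntermediateField.adjoin ℚ ({ζ} : Set ℂ)) : τ x = x := by
  induction hx using IntermediateField.adjoin_induction with
  | mem y hy =>
    rw [Set.mem_singleton_iff] at hy
    rw [hy]; exact hζ
  | algebraMap q =>
    show τ ((algebraMap ℚ ℂ) q) = (algebraMap ℚ ℂ) q
    rw [eq_ratCast, map_ratCast]
  | add y z _ _ ihy ihz => rw [map_add, ihy, ihz]
  | inv y _ ihy => rw [map_inv₀, ihy]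
  | mul y z _ _ ihy ihz => rw [map_mul, ihy, ihz]

/-- S4892 leaf (GB). -/
theorem pow_invariant_of_mem_adjoin {G : Type u} [Group G] [Finite G] {χ : G → ℂ}
    (hχ : IsCharacter G χ) (m : ℕ) (hm : 0 < m)
    (hrat : ∀ g, χ g ∈ IntermediateField.adjoin ℚ
      ({Complex.exp (2 * Real.pi * Complex.I / m)} : Set ℂ))
    (k : ℕ) (hk : k.Coprime (Nat.card G))
    (hk1 : ∀ d : ℕ, d ∣ Nat.card G → d ∣ m → k ≡ 1 [MOD d]) (g : G) : χ (g ^ k) = χ g := by
  classical
  set E := Nat.card G with hE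
  have hEpos : 0 < E := Nat.card_pos
  -- a common lift `k'` of `k mod E` and `1 mod m`
  have hgcd : k ≡ 1 [MOD Nat.gcd E m] :=
    hk1 _ (Nat.gcd_dvd_left E m) (Nat.gcd_dvd_right E m)
  obtain ⟨k', hk'E, hk'm⟩ := Nat.chineseRemainder' hgcd
  have hcopE : k'.Coprime E := by
    have h1 : Nat.gcd k' E = Nat.gcd k E := hk'E.gcd_eq
    show Nat.gcd k' E = 1
    rw [h1]; exact hk
  have hcopm : k'.Coprime m := by
    have h1 : Nat.gcd k' m = Nat.gcd 1 m := hk'm.gcd_eq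
    show Nat.gcd k' m = 1
    rw [h1]; exact Nat.gcd_one_left m
  have hcop : k'.Coprime (E * m) := Nat.Coprime.mul_right hcopE hcopm
  have : NeZero (E * m) := ⟨(Nat.mul_pos hEpos hm).ne'⟩
  obtain ⟨τ, hτ⟩ := Cfsg.Agent.Lib.Helper23.exists_ringEquiv_complex_pow (E * m) k' hcop
  -- τ fixes ζ_m
  have hζ : IsPrimitiveRoot (Complex.exp (2 * Real.pi * Complex.I / m)) m :=
    Complex.isPrimitiveRoot_exp m hm.ne'
  set ζ : ℂ := Complex.exp (2 * Real.pi * Complex.I / m) with hζdef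
  have hζm : ζ ^ m = 1 := hζ.pow_eq_one
  have hτζ : τ ζ = ζ := by
    rw [hτ ζ (by rw [mul_comm, pow_mul, hζm, one_pow])]
    rw [pow_eq_pow_mod k' hζm]
    have h2 : k' % m = 1 % m := hk'm
    rw [h2, ← pow_eq_pow_mod 1 hζm, pow_one]
  -- τ acts on character values through the `k'`-th power map
  have hτχ : τ (χ g) = χ (g ^ k') := by
    apply Cfsg.Agent.Lib.Helper23.PConj.ringEquiv_apply_char hχ τ k'
    intro μ hμ
    apply hτ
    rw [pow_mul, hμ, one_pow]
  have hpow : g ^ k' = g ^ k := by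
    have h1 : g ^ E = 1 := pow_card_eq_one'
    rw [pow_eq_pow_mod k' h1, pow_eq_pow_mod k h1]
    have h2 : k' % E = k % E := hk'E
    rw [h2]
  rw [← hpow, ← hτχ]
  exact ringEquiv_fix_adjoin τ ζ hτζ (χ g) (hrat g)

end Cfsg.Agent.Lib.Helper14.PRat
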