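/-
helper14: S4892 leaf (T2) for helper23's plan, core form with (T1) uniqueness and (D1) as inner
hypotheses: the extension of `p'`-determinantal order of a `p`-rational character over a `p`-group
quotient is `p`-rational.
-/
import Mathlib
import Cfsg.Prelude.Def_Blocks
import Cfsg.Prelude.Def_CharExt
import Cfsg.Agent.Lib.Helper6.Clifford
import Cfsg.Agent.Lib.Helper23.PRatDefs
import Cfsg.Agent.Lib.Helper23.GaloisChar

set_option autoImplicit false

namespace Cfsg.Agent.Lib.Helper14.PRat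

open Cfsg Cfsg.Agent.CharLib Cfsg.Agent.Lib.Helper6 Cfsg.Agent.Lib.Helper23.PRat

universe u

/-- (T2), with the uniqueness half of (T1) and the determinant formula (D1) as hypotheses. -/
theorem prat_extension_core {G : Type u} [Group G] [Finite G] (p : ℕ) [Fact p.Prime]
    (H : Subgroup G) (χ₁ : IrrCharacter H)
    (hT1 : ∀ χ χ' : IrrCharacter G,
      (∀ h : H, (χ : G → ℂ) h = (χ₁ : H → ℂ) h) → ¬ p ∣ orderOf (detChar (χ : G → ℂ)) →
      (∀ h : H, (χ' : G → ℂ) h = (χ₁ : H → ℂ) h) → ¬ p ∣ orderOf (detChar (χ' : G → ℂ)) →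
      χ' = χ)
    (hD1 : ∀ (χ : G → ℂ), IsCharacter G χ → ∀ k : ℕ, k.Coprime (Nat.card G) →
      detChar (fun x => χ (x ^ k)) = fun x => (detChar χ x) ^ k)
    (n : ℕ) (hn : Nat.card G ∣ n) (hrat : PRat p n (χ₁ : H → ℂ)) (χ : IrrCharacter G)
    (hχ : ∀ h : H, (χ : G → ℂ) h = (χ₁ : H → ℂ) h)
    (hχdet : ¬ p ∣ orderOf (detChar (χ : G → ℂ))) : PRat p n (χ : G → ℂ) := by
  intro k hk hk1 x
  have hkG : k.Coprime (Nat.card G) := Nat.Coprime.coprime_dvd_right hn hk
  have hirr : IsIrrCharacter G (fun g => (χ : G → ℂ) (g ^ k)) :=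
    Cfsg.Agent.Lib.Helper23.isIrrCharacter_comp_pow χ.2 k hkG
  set χ' : IrrCharacter G := ⟨fun g => (χ : G → ℂ) (g ^ k), hirr⟩ with hχ'def
  have hχ'app : ∀ g : G, (χ' : G → ℂ) g = (χ : G → ℂ) (g ^ k) := fun g => rfl
  have hext : ∀ h : H, (χ' : G → ℂ) h = (χ₁ : H → ℂ) h := by
    intro h
    rw [hχ'app]
    have h1 : ((h : G) ^ k) = ((h ^ k : H) : G) := by simp
    rw [h1, hχ (h ^ k)]
    exact hrat k hk hk1 h
  have hdet : ¬ p ∣ orderOf (detChar (χ' : G → ℂ)) := by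
    have h1 : detChar (χ' : G → ℂ) = (detChar (χ : G → ℂ)) ^ k := by
      have := hD1 (χ : G → ℂ) (Cfsg.Agent.CharLib.IsIrrCharacter.isCharacter χ.2) k hkG
      rw [show (χ' : G → ℂ) = fun x => (χ : G → ℂ) (x ^ k) from rfl, this]
      funext g
      rfl
    rw [h1]
    intro hp
    exact hχdet (dvd_trans hp (orderOf_pow_dvd k))
  have heq : χ' = χ := hT1 χ χ' hχ hχdet hext hdet
  have := congrArg (fun ψ : IrrCharacter G => (ψ : G → ℂ) x) heq
  simpa [hχ'app] using this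

end Cfsg.Agent.Lib.Helper14.PRat
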