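import Cfsg.Agent.Lib.Helper7.ChevTwist0
import Cfsg.Agent.Lib.Helper7.ChevAddMain
import Cfsg.Agent.Lib.Helper7.ChevOrd3
import Cfsg.Agent.Lib.Helper25.R3Gen

/-!
# S1788 leaf (D): the exceptional Chevalley groups in characteristic two have 2-rank at least 3

The three highest roots (in the lexicographic indexing of the tables) pairwise commute, so
`(a, b, c) ↦ x_r(a) x_s(b) x_t(c)` is an injective homomorphism from `F³` (helper7's uniqueness of
ordered products).
-/

set_option autoImplicit false

namespace Cfsg.Agent.Lib.Helper14.R3Leaf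

open Cfsg Cfsg.Lie Cfsg.Agent.Lib.Helper7

section
variable (D : ChevalleyDatum) (hD : D ∈ [chevG2, chevB2, chevD4, chevF4, chevE6, chevE7, chevE8])
variable (F : Type*) [Field F]

theorem xGL_zero' (r : ℕ) : xGL D hD F r 0 = 1 := by
  have := xGL_mul D hD F r 0 0
  rw [add_zero] at this
  exact mul_eq_left.mp this

/-- the map `(a, b, c) ↦ x_n(a) x_{n+1}(b) x_{n+2}(c)` -/
noncomputable def top3Fun (n : ℕ) (p : Multiplicative F × Multiplicative F × Multiplicative F) :
    GL D.Idx F :=
  xGL D hD F n (Multiplicative.toAdd p.1) * xGL D hD F (n + 1) (Multiplicative.toAdd p.2.1) *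
    xGL D hD F (n + 2) (Multiplicative.toAdd p.2.2)

theorem top3Fun_mul (n : ℕ)
    (h12 : ∀ a b : F, Commute (xGL D hD F n a) (xGL D hD F (n + 1) b))
    (h13 : ∀ a b : F, Commute (xGL D hD F n a) (xGL D hD F (n + 2) b))
    (h23 : ∀ a b : F, Commute (xGL D hD F (n + 1) a) (xGL D hD F (n + 2) b))
    (p q : Multiplicative F × Multiplicative F × Multiplicative F) :
    top3Fun D hD F n (p * q) = top3Fun D hD F n p * top3Fun D hD F n q := by
  unfold top3Fun
  simp only [Prod.fst_mul, Prod.snd_mul, toAdd_mul, ← xGL_mul]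
  set a := Multiplicative.toAdd p.1
  set b := Multiplicative.toAdd p.2.1
  set c := Multiplicative.toAdd p.2.2
  set a' := Multiplicative.toAdd q.1
  set b' := Multiplicative.toAdd q.2.1
  set c' := Multiplicative.toAdd q.2.2
  have h1 : xGL D hD F n a' * xGL D hD F (n + 1) b = xGL D hD F (n + 1) b * xGL D hD F n a' :=
    h12 a' b
  have h2 : xGL D hD F n a' * xGL D hD F (n + 2) c = xGL D hD F (n + 2) c * xGL D hD F n a' :=
    h13 a' c
  have h3 : xGL D hD F (n + 1) b' * xGL D hD F (n + 2) c =
      xGL D hD F (n + 2) c * xGL D hD F (n + 1) b' := h23 b' c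
  calc xGL D hD F n a * xGL D hD F n a' * (xGL D hD F (n + 1) b * xGL D hD F (n + 1) b') *
        (xGL D hD F (n + 2) c * xGL D hD F (n + 2) c')
      = xGL D hD F n a * (xGL D hD F n a' * xGL D hD F (n + 1) b) *
          (xGL D hD F (n + 1) b' * xGL D hD F (n + 2) c) * xGL D hD F (n + 2) c' := by
        simp only [mul_assoc]
    _ = xGL D hD F n a * (xGL D hD F (n + 1) b * xGL D hD F n a') *
          (xGL D hD F (n + 2) c * xGL D hD F (n + 1) b') * xGL D hD F (n + 2) c' := by rw [h1, h3]
    _ = xGL D hD F n a * xGL D hD F (n + 1) b * (xGL D hD F n a' * xGL D hD F (n + 2) c) *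
          xGL D hD F (n + 1) b' * xGL D hD F (n + 2) c' := by simp only [mul_assoc]
    _ = xGL D hD F n a * xGL D hD F (n + 1) b * (xGL D hD F (n + 2) c * xGL D hD F n a') *
          xGL D hD F (n + 1) b' * xGL D hD F (n + 2) c' := by rw [h2]
    _ = xGL D hD F n a * xGL D hD F (n + 1) b * xGL D hD F (n + 2) c *
          (xGL D hD F n a' * xGL D hD F (n + 1) b' * xGL D hD F (n + 2) c') := by
        simp only [mul_assoc]

theorem top3Fun_mem (n : ℕ) (p : Multiplicative F × Multiplicative F × Multiplicative F) :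
    top3Fun D hD F n p ∈ D.group F :=
  Subgroup.mul_mem _ (Subgroup.mul_mem _ (xGL_mem_group D hD F _ _) (xGL_mem_group D hD F _ _))
    (xGL_mem_group D hD F _ _)

theorem goodL_top3 (n : ℕ) (hn : D.nroots = n + 3) (hp1 : D.IsPosRoot n) (hp2 : D.IsPosRoot (n + 1))
    (hp3 : D.IsPosRoot (n + 2)) : GoodL D [n, n + 1, n + 2] := by
  refine ⟨?_, ?_, ?_⟩
  · simp
  · intro r hr
    simp only [List.mem_cons, List.not_mem_nil, or_false] at hr
    rcases hr with rfl | rfl | rfl
    · exact hp1
    · exact hp2
    · exact hp3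
  · intro r hr s hs hrs
    have hs' := hs.1
    simp only [List.mem_cons, List.not_mem_nil, or_false] at hr ⊢
    omega

theorem top3Fun_eq_ordProd (n : ℕ) (p : Multiplicative F × Multiplicative F × Multiplicative F) :
    top3Fun D hD F n p = ordProd D hD F [n, n + 1, n + 2]
      (fun r => if r = n then Multiplicative.toAdd p.1 else
        if r = n + 1 then Multiplicative.toAdd p.2.1 else Multiplicative.toAdd p.2.2) := by
  rw [ordProd_cons, ordProd_cons, ordProd_cons, ordProd_nil, mul_one]
  unfold top3Fun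
  rw [if_pos rfl, if_neg (by omega), if_pos rfl, if_neg (by omega), if_neg (by omega), mul_assoc]

theorem one_eq_ordProd (l : List ℕ) : (1 : GL D.Idx F) = ordProd D hD F l (fun _ => 0) := by
  induction l with
  | nil => rw [ordProd_nil]
  | cons r l ih => rw [ordProd_cons, ← ih, xGL_zero', one_mul]

include hD in
theorem prank_of_top3 [Fintype F] [CharP F 2] (n : ℕ) (hn : D.nroots = n + 3)
    (hp1 : D.IsPosRoot n) (hp2 : D.IsPosRoot (n + 1)) (hp3 : D.IsPosRoot (n + 2))
    (hn12 : n + 1 ≠ D.neg n) (hn13 : n + 2 ≠ D.neg n) (hn23 : n + 2 ≠ D.neg (n + 1))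
    (hc12 : D.commTerms n (n + 1) = []) (hc13 : D.commTerms n (n + 2) = [])
    (hc23 : D.commTerms (n + 1) (n + 2) = []) : Cfsg.PRankAtLeast 2 3 (D.group F) := by
  have h12 : ∀ a b : F, Commute (xGL D hD F n a) (xGL D hD F (n + 1) b) :=
    xGL_comm_of_nil D hD F n (n + 1) (by omega) (by omega) (by omega) hn12 hc12
  have h13 : ∀ a b : F, Commute (xGL D hD F n a) (xGL D hD F (n + 2) b) :=
    xGL_comm_of_nil D hD F n (n + 2) (by omega) (by omega) (by omega) hn13 hc13
  have h23 : ∀ a b : F, Commute (xGL D hD F (n + 1) a) (xGL D hD F (n + 2) b) :=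
    xGL_comm_of_nil D hD F (n + 1) (n + 2) (by omega) (by omega) (by omega) hn23 hc23
  let f : Multiplicative F × Multiplicative F × Multiplicative F →* D.group F :=
    MonoidHom.mk' (fun p => ⟨top3Fun D hD F n p, top3Fun_mem D hD F n p⟩) (by
      intro p q
      apply Subtype.ext
      exact top3Fun_mul D hD F n h12 h13 h23 p q)
  have hf : Function.Injective f := by
    rw [injective_iff_map_eq_one]
    intro p hp
    have hp' : top3Fun D hD F n p = 1 := congrArg Subtype.val hp
    rw [top3Fun_eq_ordProd, one_eq_ordProd D hD F [n, n + 1, n + 2]] at hp'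
    obtain ⟨w, hO⟩ := exists_ordW D hD
    have hA := chainAdd_linF D hD w
    have key := ordProd_inj D hD F _ hA hO _ (goodL_top3 D n hn hp1 hp2 hp3) _ _ hp'
    have k1 := key n (by simp)
    have k2 := key (n + 1) (by simp)
    have k3 := key (n + 2) (by simp)
    rw [if_pos rfl] at k1
    rw [if_neg (by omega), if_pos rfl] at k2
    rw [if_neg (by omega), if_neg (by omega)] at k3
    apply Prod.ext
    · exact Multiplicative.toAdd.injective k1
    · apply Prod.ext
      · exact Multiplicative.toAdd.injective k2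
      · exact Multiplicative.toAdd.injective k3
  apply Cfsg.Agent.Lib.Helper25.R3.prank_of_injective f hf
  · intro p
    apply Prod.ext
    · exact Cfsg.Agent.Lib.Helper25.R3.ofAdd_sq (F := F) (V := F) p.1
    · apply Prod.ext
      · exact Cfsg.Agent.Lib.Helper25.R3.ofAdd_sq (F := F) (V := F) p.2.1
      · exact Cfsg.Agent.Lib.Helper25.R3.ofAdd_sq (F := F) (V := F) p.2.2
  · rw [Nat.card_prod, Nat.card_prod]
    have h2 : 2 ≤ Nat.card (Multiplicative F) := by
      rw [Nat.card_eq_fintype_card]
      exact Fintype.one_lt_card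
    calc 2 ^ 3 = 2 * (2 * 2) := by norm_num
      _ ≤ _ := Nat.mul_le_mul h2 (Nat.mul_le_mul h2 h2)

end

section
variable {F : Type} [Field F] [Fintype F] [CharP F 2]

theorem g2_rank : Cfsg.PRankAtLeast 2 3 (chevG2.group F) :=
  prank_of_top3 chevG2 (by simp) F 9 (by decide +kernel) (by decide +kernel) (by decide +kernel)
    (by decide +kernel) (by decide +kernel) (by decide +kernel) (by decide +kernel)
    (by decide +kernel) (by decide +kernel) (by decide +kernel)

theorem f4_rank : Cfsg.PRankAtLeast 2 3 (chevF4.group F) :=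
  prank_of_top3 chevF4 (by simp) F 45 (by decide +kernel) (by decide +kernel) (by decide +kernel)
    (by decide +kernel) (by decide +kernel) (by decide +kernel) (by decide +kernel)
    (by decide +kernel) (by decide +kernel) (by decide +kernel)

theorem e6_rank : Cfsg.PRankAtLeast 2 3 (chevE6.group F) :=
  prank_of_top3 chevE6 (by simp) F 69 (by decide +kernel) (by decide +kernel) (by decide +kernel)
    (by decide +kernel) (by decide +kernel) (by decide +kernel) (by decide +kernel)
    (by decide +kernel) (by decide +kernel) (by decide +kernel)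

theorem e7_rank : Cfsg.PRankAtLeast 2 3 (chevE7.group F) :=
  prank_of_top3 chevE7 (by simp) F 123 (by decide +kernel) (by decide +kernel) (by decide +kernel)
    (by decide +kernel) (by decide +kernel) (by decide +kernel) (by decide +kernel)
    (by decide +kernel) (by decide +kernel) (by decide +kernel)

theorem e8_rank : Cfsg.PRankAtLeast 2 3 (chevE8.group F) :=
  prank_of_top3 chevE8 (by simp) F 237 (by decide +kernel) (by decide +kernel) (by decide +kernel)
    (by decide +kernel) (by decide +kernel) (by decide +kernel) (by decide +kernel)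
    (by decide +kernel) (by decide +kernel) (by decide +kernel)

theorem chev_rank (D : Cfsg.Lie.ChevalleyDatum)
    (hD : D ∈ [Cfsg.Lie.chevG2, Cfsg.Lie.chevF4, Cfsg.Lie.chevE6, Cfsg.Lie.chevE7, Cfsg.Lie.chevE8]) :
    Cfsg.PRankAtLeast 2 3 (D.group F) := by
  simp only [List.mem_cons, List.not_mem_nil, or_false] at hD
  rcases hD with rfl | rfl | rfl | rfl | rfl
  · exact g2_rank
  · exact f4_rank
  · exact e6_rank
  · exact e7_rank
  · exact e8_rank

end

end Cfsg.Agent.Lib.Helper14.R3Leaf
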