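import Mathlib
import Cfsg.Prelude.Def_Spor_Ru

set_option autoImplicit false

/-!
# The Rudvalis lattice: basic tools (Hermitian product, norms, reduction mod `1+i`)
-/

namespace Cfsg.Agent.Lib.Helper14.RuLat

open Cfsg.Spor Finset

/-- Hermitian product on `ℤ[i]²⁸`. -/
def herm (v w : RuVec) : GaussianInt := ∑ p, v p * star (w p)

lemma herm_add_left (v v' w : RuVec) : herm (v + v') w = herm v w + herm v' w := by
  simp [herm, add_mul, Finset.sum_add_distrib]

lemma herm_smul_left (c : GaussianInt) (v w : RuVec) : herm (c • v) w = c * herm v w := by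
  simp [herm, Finset.mul_sum, mul_assoc]

/-- `herm · w` as a linear map. -/
def hermL (w : RuVec) : RuVec →ₗ[GaussianInt] GaussianInt where
  toFun v := herm v w
  map_add' := fun v v' => herm_add_left v v' w
  map_smul' := fun c v => by simpa using herm_smul_left c v w

@[simp] lemma hermL_apply (v w : RuVec) : hermL w v = herm v w := rfl

/-- real part as an additive hom -/
def reHom : GaussianInt →+ ℤ where
  toFun := Zsqrtd.re
  map_zero' := rfl
  map_add' := Zsqrtd.re_add

lemma norm_add' (a b : GaussianInt) :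
    (a + b).norm = a.norm + b.norm + 2 * (a * star b).re := by
  simp [Zsqrtd.norm_def]; ring

lemma ruNorm_add (v w : RuVec) :
    ruNorm (v + w) = ruNorm v + ruNorm w + 2 * (herm v w).re := by
  have h : (herm v w).re = ∑ p, (v p * star (w p)).re := by
    change reHom (herm v w) = _
    rw [herm, map_sum]; rfl
  rw [h, Finset.mul_sum]
  unfold ruNorm
  rw [← Finset.sum_add_distrib, ← Finset.sum_add_distrib]
  refine Finset.sum_congr rfl fun p _ => ?_
  exact norm_add' (v p) (w p)

lemma ruNorm_smul (c : GaussianInt) (v : RuVec) : ruNorm (c • v) = c.norm * ruNorm v := by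
  unfold ruNorm
  rw [Finset.mul_sum]
  refine Finset.sum_congr rfl fun p _ => ?_
  simp [Zsqrtd.norm_mul]

lemma norm_nonneg' (z : GaussianInt) : 0 ≤ z.norm := Zsqrtd.norm_nonneg (by norm_num) z

lemma norm_eq_zero' (z : GaussianInt) : z.norm = 0 ↔ z = 0 :=
  Zsqrtd.norm_eq_zero_iff (by norm_num) z

lemma ruNorm_nonneg (v : RuVec) : 0 ≤ ruNorm v :=
  Finset.sum_nonneg fun p _ => norm_nonneg' (v p)

lemma ruNorm_eq_zero (v : RuVec) : ruNorm v = 0 ↔ v = 0 := by
  unfold ruNorm
  rw [Finset.sum_eq_zero_iff_of_nonneg fun p _ => norm_nonneg' (v p)]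
  constructor
  · intro h; funext p; exact (norm_eq_zero' _).1 (h p (mem_univ p))
  · rintro rfl p _; simp

/-- divisibility by 4, decidable form -/
def Div4 (z : GaussianInt) : Prop := z.re % 4 = 0 ∧ z.im % 4 = 0

instance (z : GaussianInt) : Decidable (Div4 z) := by unfold Div4; infer_instance

lemma div4_iff (z : GaussianInt) : Div4 z ↔ (4 : GaussianInt) ∣ z := by
  have h4 : (4 : GaussianInt) = ((4 : ℤ) : GaussianInt) := by norm_cast
  rw [h4, Zsqrtd.intCast_dvd]
  unfold Div4
  omega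

lemma norm_dvd_of_dvd {a b : GaussianInt} (h : a ∣ b) : a.norm ∣ b.norm := by
  obtain ⟨c, rfl⟩ := h
  rw [Zsqrtd.norm_mul]; exact Dvd.intro _ rfl

/-- `π = 1 + i`. -/
def gPi : GaussianInt := ⟨1, 1⟩

lemma norm_gPi : gPi.norm = 2 := by decide

lemma norm_four : (4 : GaussianInt).norm = 16 := by
  have h4 : (4 : GaussianInt) = ((4 : ℤ) : GaussianInt) := by norm_cast
  rw [h4, Zsqrtd.norm_intCast]; norm_num

/-- reduction mod `1+i`. -/
def par : GaussianInt →+* ZMod 2 := Zsqrtd.lift ⟨1, by decide⟩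

lemma par_apply (z : GaussianInt) : par z = ((z.re + z.im : ℤ) : ZMod 2) := by
  simp [par, Zsqrtd.lift]

lemma par_star (z : GaussianInt) : par (star z) = par z := by
  rw [par_apply, par_apply]
  simp only [Zsqrtd.re_star, Zsqrtd.im_star]
  push_cast
  have : ∀ x : ZMod 2, -x = x := by decide
  rw [this]

lemma zmod2_cases : ∀ x : ZMod 2, x = 0 ∨ x = 1 := by decide

lemma par_eq_zero_iff_re_im (z : GaussianInt) : par z = 0 ↔ (2 : ℤ) ∣ z.re + z.im := by
  rw [par_apply]
  exact ZMod.intCast_zmod_eq_zero_iff_dvd _ 2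

lemma par_eq_zero_iff_norm (z : GaussianInt) : par z = 0 ↔ (2 : ℤ) ∣ z.norm := by
  rw [par_eq_zero_iff_re_im, Zsqrtd.norm_def]
  have : z.re * z.re - -1 * z.im * z.im = (z.re + z.im) * (z.re + z.im) - 2 * (z.re * z.im) := by
    ring
  rw [this]
  constructor
  · intro h
    exact dvd_sub (Dvd.dvd.mul_left h _) (Dvd.intro _ rfl)
  · intro h
    have h2 : (2 : ℤ) ∣ (z.re + z.im) * (z.re + z.im) := by
      have := dvd_add h (Dvd.intro (z.re * z.im) rfl : (2 : ℤ) ∣ 2 * (z.re * z.im))
      simpa using this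
    rcases Int.prime_two.dvd_or_dvd h2 with h | h <;> exact h

lemma one_le_norm_of_par {z : GaussianInt} (h : par z = 1) : 1 ≤ z.norm := by
  have hz : z ≠ 0 := by
    rintro rfl
    simp at h
  have h0 := norm_nonneg' z
  have h1 : z.norm ≠ 0 := fun h => hz ((norm_eq_zero' z).1 h)
  omega

lemma exists_eq_gPi_mul {z : GaussianInt} (h : par z = 0) : ∃ z', z = gPi * z' := by
  rw [par_eq_zero_iff_re_im] at h
  refine ⟨⟨(z.re + z.im) / 2, (z.im - z.re) / 2⟩, ?_⟩
  obtain ⟨c, hc⟩ := h
  apply Zsqrtd.ext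
  · simp [gPi]; omega
  · simp [gPi]; omega

lemma par_gPi : par gPi = 0 := by decide

/-- From `4 ∣ π^k * (star π)^m * s` with `k + m ≤ 3`, deduce `par s = 0`. -/
lemma par_eq_zero_of_four_dvd {k m : ℕ} (hkm : k + m ≤ 3) {s : GaussianInt}
    (h : (4 : GaussianInt) ∣ gPi ^ k * (star gPi) ^ m * s) : par s = 0 := by
  rw [par_eq_zero_iff_norm]
  have h1 := norm_dvd_of_dvd h
  rw [norm_four, Zsqrtd.norm_mul, Zsqrtd.norm_mul] at h1
  have hk : (gPi ^ k).norm = 2 ^ k := by
    have : (gPi ^ k).norm = Zsqrtd.normMonoidHom (gPi ^ k) := rfl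
    rw [this, map_pow]; change gPi.norm ^ k = _; rw [norm_gPi]
  have hm : ((star gPi) ^ m).norm = 2 ^ m := by
    have : ((star gPi) ^ m).norm = Zsqrtd.normMonoidHom ((star gPi) ^ m) := rfl
    rw [this, map_pow]; change (star gPi).norm ^ m = _; rw [Zsqrtd.norm_conj, norm_gPi]
  rw [hk, hm] at h1
  have hk3 : k ≤ 3 := by omega
  have hm3 : m ≤ 3 := by omega
  interval_cases k <;> interval_cases m <;> first | omega | (norm_num at h1; omega)

end Cfsg.Agent.Lib.Helper14.RuLat
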