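import Mathlib
import Cfsg.Prelude.Def_Spor_Ru
import Cfsg.Agent.Lib.Helper14.RuLatA

set_option autoImplicit false

/-!
# The Rudvalis lattice: an explicit `ℤ[i]`-basis and closure under the monomial group
-/

namespace Cfsg.Agent.Lib.Helper14.RuLat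

open Cfsg.Spor Finset

/-- An explicit triangular `ℤ[i]`-basis of the lattice. -/
def Bv : Fin 28 → RuVec := ![
  ruOfArray ![![⟨1, 0⟩, ⟨0, 0⟩, ⟨0, 0⟩, ⟨0, -1⟩],
      ![⟨0, 0⟩, ⟨0, -1⟩, ⟨0, 0⟩, ⟨0, -1⟩],
      ![⟨0, 0⟩, ⟨0, 0⟩, ⟨0, 0⟩, ⟨-1, -1⟩],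
      ![⟨0, 0⟩, ⟨0, -1⟩, ⟨-1, 0⟩, ⟨0, 0⟩],
      ![⟨0, -1⟩, ⟨-1, 0⟩, ⟨0, 0⟩, ⟨1, -1⟩],
      ![⟨0, -1⟩, ⟨0, 1⟩, ⟨1, -1⟩, ⟨-2, -2⟩],
      ![⟨1, 0⟩, ⟨-1, 1⟩, ⟨-2, 1⟩, ⟨-2, -2⟩]],
  ruOfArray ![![⟨0, 0⟩, ⟨1, 0⟩, ⟨0, 0⟩, ⟨0, -1⟩],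
      ![⟨0, 0⟩, ⟨0, -1⟩, ⟨0, -1⟩, ⟨0, 0⟩],
      ![⟨0, 0⟩, ⟨0, -1⟩, ⟨-1, -1⟩, ⟨1, 0⟩],
      ![⟨0, -1⟩, ⟨-1, 0⟩, ⟨0, -1⟩, ⟨-1, 0⟩],
      ![⟨0, 0⟩, ⟨0, 1⟩, ⟨0, -1⟩, ⟨1, -1⟩],
      ![⟨0, -1⟩, ⟨-1, 0⟩, ⟨0, 0⟩, ⟨-1, -1⟩],
      ![⟨0, -2⟩, ⟨1, 1⟩, ⟨-1, 0⟩, ⟨-2, -1⟩]],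
  ruOfArray ![![⟨0, 0⟩, ⟨0, 0⟩, ⟨1, 0⟩, ⟨0, -1⟩],
      ![⟨0, 0⟩, ⟨0, 0⟩, ⟨0, -1⟩, ⟨0, -1⟩],
      ![⟨0, 0⟩, ⟨0, -1⟩, ⟨-1, -1⟩, ⟨0, -1⟩],
      ![⟨0, -1⟩, ⟨0, 0⟩, ⟨0, 0⟩, ⟨1, 0⟩],
      ![⟨0, -1⟩, ⟨-1, -1⟩, ⟨0, -1⟩, ⟨0, 0⟩],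
      ![⟨0, 0⟩, ⟨1, -1⟩, ⟨0, 0⟩, ⟨-2, -2⟩],
      ![⟨-1, -1⟩, ⟨1, -2⟩, ⟨1, -2⟩, ⟨-2, 0⟩]],
  ruOfArray ![![⟨0, 0⟩, ⟨0, 0⟩, ⟨0, 0⟩, ⟨1, 1⟩],
      ![⟨0, 0⟩, ⟨0, -1⟩, ⟨0, -1⟩, ⟨-1, -1⟩],
      ![⟨0, 0⟩, ⟨0, 0⟩, ⟨0, -1⟩, ⟨-1, 0⟩],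
      ![⟨0, 0⟩, ⟨0, 0⟩, ⟨-1, 0⟩, ⟨1, 0⟩],
      ![⟨0, -1⟩, ⟨0, 0⟩, ⟨-1, 0⟩, ⟨-1, 1⟩],
      ![⟨-1, 0⟩, ⟨0, 0⟩, ⟨0, 0⟩, ⟨-2, 1⟩],
      ![⟨1, -1⟩, ⟨0, -1⟩, ⟨-2, -2⟩, ⟨1, 0⟩]],
  ruOfArray ![![⟨0, 0⟩, ⟨0, 0⟩, ⟨0, 0⟩, ⟨0, 0⟩],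
      ![⟨1, 0⟩, ⟨0, -1⟩, ⟨0, -1⟩, ⟨0, -1⟩],
      ![⟨0, 0⟩, ⟨0, 0⟩, ⟨-1, -1⟩, ⟨-1, -1⟩],
      ![⟨0, 0⟩, ⟨-1, -1⟩, ⟨-1, -1⟩, ⟨0, -2⟩],
      ![⟨0, 0⟩, ⟨0, 0⟩, ⟨-1, -1⟩, ⟨-1, 1⟩],
      ![⟨-1, 0⟩, ⟨0, 1⟩, ⟨-1, 0⟩, ⟨1, 0⟩],
      ![⟨-1, -1⟩, ⟨-2, 0⟩, ⟨-1, -1⟩, ⟨0, 0⟩]],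
  ruOfArray ![![⟨0, 0⟩, ⟨0, 0⟩, ⟨0, 0⟩, ⟨0, 0⟩],
      ![⟨0, 0⟩, ⟨1, 1⟩, ⟨0, 0⟩, ⟨-1, -1⟩],
      ![⟨0, 0⟩, ⟨0, 0⟩, ⟨-1, -1⟩, ⟨-1, -1⟩],
      ![⟨0, -1⟩, ⟨0, -1⟩, ⟨-1, 0⟩, ⟨0, 1⟩],
      ![⟨0, -1⟩, ⟨0, -1⟩, ⟨-1, 0⟩, ⟨0, 1⟩],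
      ![⟨-1, -1⟩, ⟨1, -1⟩, ⟨0, 0⟩, ⟨0, 0⟩],
      ![⟨-1, -1⟩, ⟨0, -2⟩, ⟨-1, 1⟩, ⟨-2, 0⟩]],
  ruOfArray ![![⟨0, 0⟩, ⟨0, 0⟩, ⟨0, 0⟩, ⟨0, 0⟩],
      ![⟨0, 0⟩, ⟨0, 0⟩, ⟨1, 1⟩, ⟨-1, -1⟩],
      ![⟨0, 0⟩, ⟨0, 0⟩, ⟨0, 0⟩, ⟨0, 0⟩],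
      ![⟨0, -1⟩, ⟨0, -1⟩, ⟨0, -1⟩, ⟨-1, 0⟩],
      ![⟨0, -1⟩, ⟨1, 0⟩, ⟨-1, 0⟩, ⟨-1, 0⟩],
      ![⟨0, 0⟩, ⟨-1, -1⟩, ⟨0, 0⟩, ⟨-1, 1⟩],
      ![⟨1, -1⟩, ⟨1, -1⟩, ⟨1, -1⟩, ⟨-1, 1⟩]],
  ruOfArray ![![⟨0, 0⟩, ⟨0, 0⟩, ⟨0, 0⟩, ⟨0, 0⟩],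
      ![⟨0, 0⟩, ⟨0, 0⟩, ⟨0, 0⟩, ⟨2, 0⟩],
      ![⟨0, 0⟩, ⟨0, 0⟩, ⟨-1, -1⟩, ⟨1, -1⟩],
      ![⟨0, 0⟩, ⟨0, 0⟩, ⟨0, 0⟩, ⟨0, -2⟩],
      ![⟨0, -1⟩, ⟨0, -1⟩, ⟨0, -1⟩, ⟨-1, -2⟩],
      ![⟨0, -1⟩, ⟨1, 0⟩, ⟨1, 0⟩, ⟨1, -2⟩],
      ![⟨0, 0⟩, ⟨1, 1⟩, ⟨-2, -2⟩, ⟨-1, -1⟩]],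
  ruOfArray ![![⟨0, 0⟩, ⟨0, 0⟩, ⟨0, 0⟩, ⟨0, 0⟩],
      ![⟨0, 0⟩, ⟨0, 0⟩, ⟨0, 0⟩, ⟨0, 0⟩],
      ![⟨1, 0⟩, ⟨0, -1⟩, ⟨0, -1⟩, ⟨0, 1⟩],
      ![⟨0, 0⟩, ⟨0, 0⟩, ⟨0, 0⟩, ⟨0, -2⟩],
      ![⟨0, 0⟩, ⟨1, -1⟩, ⟨-1, -1⟩, ⟨-2, 0⟩],
      ![⟨0, -1⟩, ⟨0, -1⟩, ⟨1, 0⟩, ⟨0, 1⟩],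
      ![⟨0, -2⟩, ⟨-2, 0⟩, ⟨-1, 1⟩, ⟨1, 1⟩]],
  ruOfArray ![![⟨0, 0⟩, ⟨0, 0⟩, ⟨0, 0⟩, ⟨0, 0⟩],
      ![⟨0, 0⟩, ⟨0, 0⟩, ⟨0, 0⟩, ⟨0, 0⟩],
      ![⟨0, 0⟩, ⟨1, 1⟩, ⟨0, 0⟩, ⟨1, -1⟩],
      ![⟨0, 0⟩, ⟨0, 0⟩, ⟨0, 0⟩, ⟨0, -2⟩],
      ![⟨0, -1⟩, ⟨0, 1⟩, ⟨-1, 0⟩, ⟨0, 1⟩],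
      ![⟨-1, -1⟩, ⟨-1, -1⟩, ⟨0, 0⟩, ⟨0, -2⟩],
      ![⟨1, 0⟩, ⟨-2, -1⟩, ⟨-1, -2⟩, ⟨-1, 0⟩]],
  ruOfArray ![![⟨0, 0⟩, ⟨0, 0⟩, ⟨0, 0⟩, ⟨0, 0⟩],
      ![⟨0, 0⟩, ⟨0, 0⟩, ⟨0, 0⟩, ⟨0, 0⟩],
      ![⟨0, 0⟩, ⟨0, 0⟩, ⟨2, 0⟩, ⟨0, -2⟩],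
      ![⟨0, 0⟩, ⟨0, 0⟩, ⟨0, 0⟩, ⟨0, 0⟩],
      ![⟨0, 0⟩, ⟨0, -2⟩, ⟨0, 0⟩, ⟨-2, 0⟩],
      ![⟨0, 0⟩, ⟨0, -2⟩, ⟨0, -2⟩, ⟨0, 0⟩],
      ![⟨0, -2⟩, ⟨0, 0⟩, ⟨-2, 0⟩, ⟨0, 0⟩]],
  ruOfArray ![![⟨0, 0⟩, ⟨0, 0⟩, ⟨0, 0⟩, ⟨0, 0⟩],
      ![⟨0, 0⟩, ⟨0, 0⟩, ⟨0, 0⟩, ⟨0, 0⟩],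
      ![⟨0, 0⟩, ⟨0, 0⟩, ⟨0, 0⟩, ⟨2, 2⟩],
      ![⟨0, 0⟩, ⟨0, 0⟩, ⟨0, 0⟩, ⟨0, 0⟩],
      ![⟨0, 0⟩, ⟨0, 0⟩, ⟨0, 0⟩, ⟨-2, -2⟩],
      ![⟨-1, -1⟩, ⟨1, -1⟩, ⟨-1, -1⟩, ⟨1, 1⟩],
      ![⟨1, -1⟩, ⟨1, -1⟩, ⟨1, -1⟩, ⟨-1, -1⟩]],
  ruOfArray ![![⟨0, 0⟩, ⟨0, 0⟩, ⟨0, 0⟩, ⟨0, 0⟩],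
      ![⟨0, 0⟩, ⟨0, 0⟩, ⟨0, 0⟩, ⟨0, 0⟩],
      ![⟨0, 0⟩, ⟨0, 0⟩, ⟨0, 0⟩, ⟨0, 0⟩],
      ![⟨1, 1⟩, ⟨-1, -1⟩, ⟨-1, -1⟩, ⟨1, -1⟩],
      ![⟨0, 0⟩, ⟨0, -2⟩, ⟨0, 0⟩, ⟨0, -2⟩],
      ![⟨-1, -1⟩, ⟨-1, -1⟩, ⟨-1, -1⟩, ⟨1, -1⟩],
      ![⟨0, 0⟩, ⟨0, 0⟩, ⟨-2, 0⟩, ⟨-2, 0⟩]],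
  ruOfArray ![![⟨0, 0⟩, ⟨0, 0⟩, ⟨0, 0⟩, ⟨0, 0⟩],
      ![⟨0, 0⟩, ⟨0, 0⟩, ⟨0, 0⟩, ⟨0, 0⟩],
      ![⟨0, 0⟩, ⟨0, 0⟩, ⟨0, 0⟩, ⟨0, 0⟩],
      ![⟨0, 0⟩, ⟨2, 0⟩, ⟨0, 0⟩, ⟨0, -2⟩],
      ![⟨0, 0⟩, ⟨0, -2⟩, ⟨0, 0⟩, ⟨0, -2⟩],
      ![⟨-1, -1⟩, ⟨1, -1⟩, ⟨1, -1⟩, ⟨-1, 1⟩],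
      ![⟨1, -1⟩, ⟨-1, -1⟩, ⟨-1, 1⟩, ⟨-1, 1⟩]],
  ruOfArray ![![⟨0, 0⟩, ⟨0, 0⟩, ⟨0, 0⟩, ⟨0, 0⟩],
      ![⟨0, 0⟩, ⟨0, 0⟩, ⟨0, 0⟩, ⟨0, 0⟩],
      ![⟨0, 0⟩, ⟨0, 0⟩, ⟨0, 0⟩, ⟨0, 0⟩],
      ![⟨0, 0⟩, ⟨0, 0⟩, ⟨2, 0⟩, ⟨0, -2⟩],
      ![⟨0, 0⟩, ⟨0, 0⟩, ⟨0, 0⟩, ⟨0, 0⟩],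
      ![⟨-1, -1⟩, ⟨1, -1⟩, ⟨1, -1⟩, ⟨-1, 1⟩],
      ![⟨1, -1⟩, ⟨1, -1⟩, ⟨-1, -1⟩, ⟨-1, 1⟩]],
  ruOfArray ![![⟨0, 0⟩, ⟨0, 0⟩, ⟨0, 0⟩, ⟨0, 0⟩],
      ![⟨0, 0⟩, ⟨0, 0⟩, ⟨0, 0⟩, ⟨0, 0⟩],
      ![⟨0, 0⟩, ⟨0, 0⟩, ⟨0, 0⟩, ⟨0, 0⟩],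
      ![⟨0, 0⟩, ⟨0, 0⟩, ⟨0, 0⟩, ⟨2, 2⟩],
      ![⟨0, 0⟩, ⟨0, -2⟩, ⟨0, 0⟩, ⟨-2, 0⟩],
      ![⟨-1, -1⟩, ⟨1, -1⟩, ⟨1, -1⟩, ⟨-1, 1⟩],
      ![⟨-1, -1⟩, ⟨-1, 1⟩, ⟨-1, 1⟩, ⟨1, -1⟩]],
  ruOfArray ![![⟨0, 0⟩, ⟨0, 0⟩, ⟨0, 0⟩, ⟨0, 0⟩],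
      ![⟨0, 0⟩, ⟨0, 0⟩, ⟨0, 0⟩, ⟨0, 0⟩],
      ![⟨0, 0⟩, ⟨0, 0⟩, ⟨0, 0⟩, ⟨0, 0⟩],
      ![⟨0, 0⟩, ⟨0, 0⟩, ⟨0, 0⟩, ⟨0, 0⟩],
      ![⟨1, 1⟩, ⟨-1, -1⟩, ⟨-1, -1⟩, ⟨-1, 1⟩],
      ![⟨0, 0⟩, ⟨0, 0⟩, ⟨0, -2⟩, ⟨-2, 0⟩],
      ![⟨-1, -1⟩, ⟨-1, -1⟩, ⟨-1, -1⟩, ⟨1, -1⟩]],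
  ruOfArray ![![⟨0, 0⟩, ⟨0, 0⟩, ⟨0, 0⟩, ⟨0, 0⟩],
      ![⟨0, 0⟩, ⟨0, 0⟩, ⟨0, 0⟩, ⟨0, 0⟩],
      ![⟨0, 0⟩, ⟨0, 0⟩, ⟨0, 0⟩, ⟨0, 0⟩],
      ![⟨0, 0⟩, ⟨0, 0⟩, ⟨0, 0⟩, ⟨0, 0⟩],
      ![⟨0, 0⟩, ⟨2, 2⟩, ⟨0, 0⟩, ⟨-2, -2⟩],
      ![⟨0, 0⟩, ⟨0, 0⟩, ⟨0, 0⟩, ⟨0, 0⟩],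
      ![⟨0, -2⟩, ⟨0, -2⟩, ⟨-2, 0⟩, ⟨0, -2⟩]],
  ruOfArray ![![⟨0, 0⟩, ⟨0, 0⟩, ⟨0, 0⟩, ⟨0, 0⟩],
      ![⟨0, 0⟩, ⟨0, 0⟩, ⟨0, 0⟩, ⟨0, 0⟩],
      ![⟨0, 0⟩, ⟨0, 0⟩, ⟨0, 0⟩, ⟨0, 0⟩],
      ![⟨0, 0⟩, ⟨0, 0⟩, ⟨0, 0⟩, ⟨0, 0⟩],
      ![⟨0, 0⟩, ⟨0, 0⟩, ⟨2, 0⟩, ⟨-2, 0⟩],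
      ![⟨-1, -1⟩, ⟨1, -1⟩, ⟨1, -1⟩, ⟨-1, 1⟩],
      ![⟨1, -1⟩, ⟨1, 1⟩, ⟨-1, 1⟩, ⟨-1, 1⟩]],
  ruOfArray ![![⟨0, 0⟩, ⟨0, 0⟩, ⟨0, 0⟩, ⟨0, 0⟩],
      ![⟨0, 0⟩, ⟨0, 0⟩, ⟨0, 0⟩, ⟨0, 0⟩],
      ![⟨0, 0⟩, ⟨0, 0⟩, ⟨0, 0⟩, ⟨0, 0⟩],
      ![⟨0, 0⟩, ⟨0, 0⟩, ⟨0, 0⟩, ⟨0, 0⟩],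
      ![⟨0, 0⟩, ⟨0, 0⟩, ⟨0, 0⟩, ⟨4, 0⟩],
      ![⟨0, 0⟩, ⟨0, 0⟩, ⟨0, 0⟩, ⟨0, 0⟩],
      ![⟨0, 0⟩, ⟨0, 0⟩, ⟨0, 0⟩, ⟨0, 0⟩]],
  ruOfArray ![![⟨0, 0⟩, ⟨0, 0⟩, ⟨0, 0⟩, ⟨0, 0⟩],
      ![⟨0, 0⟩, ⟨0, 0⟩, ⟨0, 0⟩, ⟨0, 0⟩],
      ![⟨0, 0⟩, ⟨0, 0⟩, ⟨0, 0⟩, ⟨0, 0⟩],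
      ![⟨0, 0⟩, ⟨0, 0⟩, ⟨0, 0⟩, ⟨0, 0⟩],
      ![⟨0, 0⟩, ⟨0, 0⟩, ⟨0, 0⟩, ⟨0, 0⟩],
      ![⟨2, 0⟩, ⟨0, -2⟩, ⟨0, -2⟩, ⟨0, -2⟩],
      ![⟨0, 0⟩, ⟨-2, -2⟩, ⟨0, 0⟩, ⟨-2, -2⟩]],
  ruOfArray ![![⟨0, 0⟩, ⟨0, 0⟩, ⟨0, 0⟩, ⟨0, 0⟩],
      ![⟨0, 0⟩, ⟨0, 0⟩, ⟨0, 0⟩, ⟨0, 0⟩],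
      ![⟨0, 0⟩, ⟨0, 0⟩, ⟨0, 0⟩, ⟨0, 0⟩],
      ![⟨0, 0⟩, ⟨0, 0⟩, ⟨0, 0⟩, ⟨0, 0⟩],
      ![⟨0, 0⟩, ⟨0, 0⟩, ⟨0, 0⟩, ⟨0, 0⟩],
      ![⟨0, 0⟩, ⟨2, 2⟩, ⟨0, 0⟩, ⟨-2, -2⟩],
      ![⟨0, 0⟩, ⟨-2, -2⟩, ⟨-2, -2⟩, ⟨0, 0⟩]],
  ruOfArray ![![⟨0, 0⟩, ⟨0, 0⟩, ⟨0, 0⟩, ⟨0, 0⟩],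
      ![⟨0, 0⟩, ⟨0, 0⟩, ⟨0, 0⟩, ⟨0, 0⟩],
      ![⟨0, 0⟩, ⟨0, 0⟩, ⟨0, 0⟩, ⟨0, 0⟩],
      ![⟨0, 0⟩, ⟨0, 0⟩, ⟨0, 0⟩, ⟨0, 0⟩],
      ![⟨0, 0⟩, ⟨0, 0⟩, ⟨0, 0⟩, ⟨0, 0⟩],
      ![⟨0, 0⟩, ⟨0, 0⟩, ⟨2, 2⟩, ⟨-2, -2⟩],
      ![⟨0, -2⟩, ⟨-2, 0⟩, ⟨0, -2⟩, ⟨0, -2⟩]],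
  ruOfArray ![![⟨0, 0⟩, ⟨0, 0⟩, ⟨0, 0⟩, ⟨0, 0⟩],
      ![⟨0, 0⟩, ⟨0, 0⟩, ⟨0, 0⟩, ⟨0, 0⟩],
      ![⟨0, 0⟩, ⟨0, 0⟩, ⟨0, 0⟩, ⟨0, 0⟩],
      ![⟨0, 0⟩, ⟨0, 0⟩, ⟨0, 0⟩, ⟨0, 0⟩],
      ![⟨0, 0⟩, ⟨0, 0⟩, ⟨0, 0⟩, ⟨0, 0⟩],
      ![⟨0, 0⟩, ⟨0, 0⟩, ⟨0, 0⟩, ⟨4, 0⟩],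
      ![⟨0, 0⟩, ⟨0, 0⟩, ⟨0, 0⟩, ⟨0, 0⟩]],
  ruOfArray ![![⟨0, 0⟩, ⟨0, 0⟩, ⟨0, 0⟩, ⟨0, 0⟩],
      ![⟨0, 0⟩, ⟨0, 0⟩, ⟨0, 0⟩, ⟨0, 0⟩],
      ![⟨0, 0⟩, ⟨0, 0⟩, ⟨0, 0⟩, ⟨0, 0⟩],
      ![⟨0, 0⟩, ⟨0, 0⟩, ⟨0, 0⟩, ⟨0, 0⟩],
      ![⟨0, 0⟩, ⟨0, 0⟩, ⟨0, 0⟩, ⟨0, 0⟩],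
      ![⟨0, 0⟩, ⟨0, 0⟩, ⟨0, 0⟩, ⟨0, 0⟩],
      ![⟨2, 2⟩, ⟨-2, -2⟩, ⟨-2, -2⟩, ⟨-2, -2⟩]],
  ruOfArray ![![⟨0, 0⟩, ⟨0, 0⟩, ⟨0, 0⟩, ⟨0, 0⟩],
      ![⟨0, 0⟩, ⟨0, 0⟩, ⟨0, 0⟩, ⟨0, 0⟩],
      ![⟨0, 0⟩, ⟨0, 0⟩, ⟨0, 0⟩, ⟨0, 0⟩],
      ![⟨0, 0⟩, ⟨0, 0⟩, ⟨0, 0⟩, ⟨0, 0⟩],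
      ![⟨0, 0⟩, ⟨0, 0⟩, ⟨0, 0⟩, ⟨0, 0⟩],
      ![⟨0, 0⟩, ⟨0, 0⟩, ⟨0, 0⟩, ⟨0, 0⟩],
      ![⟨0, 0⟩, ⟨4, 0⟩, ⟨0, 0⟩, ⟨0, 0⟩]],
  ruOfArray ![![⟨0, 0⟩, ⟨0, 0⟩, ⟨0, 0⟩, ⟨0, 0⟩],
      ![⟨0, 0⟩, ⟨0, 0⟩, ⟨0, 0⟩, ⟨0, 0⟩],
      ![⟨0, 0⟩, ⟨0, 0⟩, ⟨0, 0⟩, ⟨0, 0⟩],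
      ![⟨0, 0⟩, ⟨0, 0⟩, ⟨0, 0⟩, ⟨0, 0⟩],
      ![⟨0, 0⟩, ⟨0, 0⟩, ⟨0, 0⟩, ⟨0, 0⟩],
      ![⟨0, 0⟩, ⟨0, 0⟩, ⟨0, 0⟩, ⟨0, 0⟩],
      ![⟨0, 0⟩, ⟨0, 0⟩, ⟨4, 0⟩, ⟨0, 0⟩]],
  ruOfArray ![![⟨0, 0⟩, ⟨0, 0⟩, ⟨0, 0⟩, ⟨0, 0⟩],
      ![⟨0, 0⟩, ⟨0, 0⟩, ⟨0, 0⟩, ⟨0, 0⟩],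
      ![⟨0, 0⟩, ⟨0, 0⟩, ⟨0, 0⟩, ⟨0, 0⟩],
      ![⟨0, 0⟩, ⟨0, 0⟩, ⟨0, 0⟩, ⟨0, 0⟩],
      ![⟨0, 0⟩, ⟨0, 0⟩, ⟨0, 0⟩, ⟨0, 0⟩],
      ![⟨0, 0⟩, ⟨0, 0⟩, ⟨0, 0⟩, ⟨0, 0⟩],
      ![⟨0, 0⟩, ⟨0, 0⟩, ⟨0, 0⟩, ⟨4, 0⟩]]]

/-- coefficients of `ruRj (Bv j)` -/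
def MRj : Fin 28 → Fin 28 → GaussianInt := ![![⟨0, 0⟩, ⟨0, 1⟩, ⟨0, -1⟩, ⟨0, 0⟩, ⟨1, 0⟩, ⟨0, 1⟩, ⟨0, 0⟩, ⟨0, 1⟩, ⟨0, 0⟩, ⟨0, 0⟩, ⟨-1, 1⟩, ⟨-1, 0⟩, ⟨0, 0⟩, ⟨0, 1⟩, ⟨0, 1⟩, ⟨0, 2⟩, ⟨-1, 0⟩, ⟨-3, 1⟩, ⟨0, 0⟩, ⟨-4, 0⟩, ⟨-4, 2⟩, ⟨-6, -2⟩, ⟨-8, -2⟩, ⟨-6, -10⟩, ⟨-8, -5⟩, ⟨-10, -14⟩, ⟨-4, -12⟩, ⟨-4, -13⟩],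
  ![⟨0, 1⟩, ⟨0, 0⟩, ⟨0, -1⟩, ⟨0, 0⟩, ⟨1, 0⟩, ⟨0, 1⟩, ⟨1, 0⟩, ⟨0, 2⟩, ⟨1, 0⟩, ⟨1, 0⟩, ⟨0, 2⟩, ⟨-1, 2⟩, ⟨0, 0⟩, ⟨0, 1⟩, ⟨0, 2⟩, ⟨0, 4⟩, ⟨-1, 3⟩, ⟨-5, 6⟩, ⟨0, 2⟩, ⟨-7, 6⟩, ⟨-7, 6⟩, ⟨-12, -1⟩, ⟨-16, 2⟩, ⟨-16, -14⟩, ⟨-19, -1⟩, ⟨-30, -18⟩, ⟨-18, -16⟩, ⟨-21, -21⟩],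
  ![⟨0, 0⟩, ⟨0, 0⟩, ⟨0, -1⟩, ⟨0, 0⟩, ⟨0, 0⟩, ⟨0, 0⟩, ⟨0, -1⟩, ⟨1, 0⟩, ⟨1, 0⟩, ⟨1, 0⟩, ⟨1, 0⟩, ⟨1, 1⟩, ⟨1, -1⟩, ⟨2, 0⟩, ⟨2, 0⟩, ⟨4, 4⟩, ⟨2, -1⟩, ⟨4, 5⟩, ⟨3, 1⟩, ⟨5, 9⟩, ⟨5, 11⟩, ⟨-4, 14⟩, ⟨-4, 15⟩, ⟨-19, 11⟩, ⟨-6, 16⟩, ⟨-24, 28⟩, ⟨-19, 11⟩, ⟨-24, 12⟩],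
  ![⟨0, 0⟩, ⟨0, 0⟩, ⟨1, 1⟩, ⟨0, 1⟩, ⟨1, 0⟩, ⟨0, 1⟩, ⟨-1, 2⟩, ⟨-3, 3⟩, ⟨0, 0⟩, ⟨0, 1⟩, ⟨-4, 2⟩, ⟨-4, -1⟩, ⟨-2, 2⟩, ⟨-3, 0⟩, ⟨-2, 1⟩, ⟨-7, -2⟩, ⟨-6, 3⟩, ⟨-13, -6⟩, ⟨-7, 1⟩, ⟨-17, -12⟩, ⟨-15, -12⟩, ⟨-7, -25⟩, ⟨-12, -26⟩, ⟨14, -36⟩, ⟨-7, -37⟩, ⟨18, -71⟩, ⟨17, -42⟩, ⟨28, -46⟩],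
  ![⟨0, 0⟩, ⟨0, 0⟩, ⟨0, 0⟩, ⟨0, 0⟩, ⟨1, 0⟩, ⟨1, 1⟩, ⟨0, 0⟩, ⟨0, 2⟩, ⟨0, 0⟩, ⟨0, 0⟩, ⟨-1, 2⟩, ⟨-1, 1⟩, ⟨0, 0⟩, ⟨0, 1⟩, ⟨1, 0⟩, ⟨0, 2⟩, ⟨-1, 2⟩, ⟨-4, 4⟩, ⟨-2, 2⟩, ⟨-7, 4⟩, ⟨-5, 3⟩, ⟨-10, -2⟩, ⟨-10, -1⟩, ⟨-10, -12⟩, ⟨-12, -4⟩, ⟨-18, -17⟩, ⟨-10, -13⟩, ⟨-10, -15⟩],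
  ![⟨0, 0⟩, ⟨0, 0⟩, ⟨0, 0⟩, ⟨0, 0⟩, ⟨-1, 1⟩, ⟨-1, 0⟩, ⟨-2, 0⟩, ⟨-2, -2⟩, ⟨0, 0⟩, ⟨0, 0⟩, ⟨-2, -3⟩, ⟨1, -3⟩, ⟨-1, -2⟩, ⟨0, -3⟩, ⟨-1, -2⟩, ⟨2, -5⟩, ⟨-1, -4⟩, ⟨6, -11⟩, ⟨0, -3⟩, ⟨12, -11⟩, ⟨10, -9⟩, ⟨18, -3⟩, ⟨19, -6⟩, ⟨25, 14⟩, ⟨27, -4⟩, ⟨52, 18⟩, ⟨29, 14⟩, ⟨33, 23⟩],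
  ![⟨0, 0⟩, ⟨0, 0⟩, ⟨0, 0⟩, ⟨0, 0⟩, ⟨0, 0⟩, ⟨0, 0⟩, ⟨-1, 0⟩, ⟨-1, -1⟩, ⟨0, 0⟩, ⟨0, 0⟩, ⟨0, -1⟩, ⟨1, -1⟩, ⟨0, -1⟩, ⟨1, -1⟩, ⟨0, -1⟩, ⟨2, -1⟩, ⟨0, -1⟩, ⟨4, -2⟩, ⟨0, -1⟩, ⟨6, -1⟩, ⟨6, -2⟩, ⟨7, 3⟩, ⟨8, 2⟩, ⟨6, 11⟩, ⟨10, 5⟩, ⟨15, 18⟩, ⟨6, 12⟩, ⟨6, 15⟩],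
  ![⟨0, 0⟩, ⟨0, 0⟩, ⟨0, 0⟩, ⟨0, 0⟩, ⟨0, 0⟩, ⟨0, 0⟩, ⟨1, -1⟩, ⟨1, 0⟩, ⟨0, 0⟩, ⟨0, 0⟩, ⟨1, 0⟩, ⟨1, 1⟩, ⟨1, 0⟩, ⟨1, 1⟩, ⟨1, 0⟩, ⟨1, 2⟩, ⟨2, 0⟩, ⟨2, 4⟩, ⟨1, 0⟩, ⟨1, 6⟩, ⟨1, 6⟩, ⟨-3, 6⟩, ⟨-2, 7⟩, ⟨-10, 4⟩, ⟨-4, 10⟩, ⟨-17, 14⟩, ⟨-11, 7⟩, ⟨-14, 7⟩],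
  ![⟨0, 0⟩, ⟨0, 0⟩, ⟨0, 0⟩, ⟨0, 0⟩, ⟨0, 0⟩, ⟨0, 0⟩, ⟨0, 0⟩, ⟨0, 0⟩, ⟨1, 0⟩, ⟨1, 1⟩, ⟨0, 1⟩, ⟨-1, 1⟩, ⟨0, 0⟩, ⟨0, 0⟩, ⟨0, -1⟩, ⟨1, 1⟩, ⟨1, 1⟩, ⟨0, 2⟩, ⟨0, 2⟩, ⟨0, 3⟩, ⟨-1, 3⟩, ⟨-3, 2⟩, ⟨-4, 4⟩, ⟨-7, 0⟩, ⟨-6, 2⟩, ⟨-9, 1⟩, ⟨-7, -2⟩, ⟨-10, -3⟩],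
  ![⟨0, 0⟩, ⟨0, 0⟩, ⟨0, 0⟩, ⟨0, 0⟩, ⟨0, 0⟩, ⟨0, 0⟩, ⟨0, 0⟩, ⟨0, 0⟩, ⟨-1, 1⟩, ⟨-1, 0⟩, ⟨0, -1⟩, ⟨1, -1⟩, ⟨0, 0⟩, ⟨0, 0⟩, ⟨0, -1⟩, ⟨-1, -1⟩, ⟨-1, 0⟩, ⟨0, -2⟩, ⟨-2, 0⟩, ⟨0, -1⟩, ⟨0, -4⟩, ⟨3, -4⟩, ⟨3, -6⟩, ⟨8, -2⟩, ⟨5, -5⟩, ⟨12, -4⟩, ⟨10, 0⟩, ⟨12, 0⟩],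
  ![⟨0, 0⟩, ⟨0, 0⟩, ⟨0, 0⟩, ⟨0, 0⟩, ⟨0, 0⟩, ⟨0, 0⟩, ⟨0, 0⟩, ⟨0, 0⟩, ⟨0, 0⟩, ⟨0, 0⟩, ⟨0, -1⟩, ⟨0, 0⟩, ⟨0, 0⟩, ⟨0, 0⟩, ⟨0, 0⟩, ⟨0, 0⟩, ⟨1, -1⟩, ⟨1, -1⟩, ⟨0, 0⟩, ⟨1, -1⟩, ⟨1, 0⟩, ⟨1, 0⟩, ⟨2, 0⟩, ⟨2, 2⟩, ⟨3, 0⟩, ⟨5, 3⟩, ⟨3, 2⟩, ⟨3, 4⟩],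
  ![⟨0, 0⟩, ⟨0, 0⟩, ⟨0, 0⟩, ⟨0, 0⟩, ⟨0, 0⟩, ⟨0, 0⟩, ⟨0, 0⟩, ⟨0, 0⟩, ⟨0, 0⟩, ⟨0, 0⟩, ⟨1, 1⟩, ⟨0, 1⟩, ⟨0, 0⟩, ⟨0, 0⟩, ⟨0, 0⟩, ⟨0, 0⟩, ⟨0, 0⟩, ⟨0, 1⟩, ⟨-1, -1⟩, ⟨-1, 1⟩, ⟨0, 0⟩, ⟨0, 0⟩, ⟨1, 1⟩, ⟨0, 1⟩, ⟨0, 2⟩, ⟨-1, 2⟩, ⟨-2, 2⟩, ⟨-3, 2⟩],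
  ![⟨0, 0⟩, ⟨0, 0⟩, ⟨0, 0⟩, ⟨0, 0⟩, ⟨0, 0⟩, ⟨0, 0⟩, ⟨0, 0⟩, ⟨0, 0⟩, ⟨0, 0⟩, ⟨0, 0⟩, ⟨0, 0⟩, ⟨0, 0⟩, ⟨0, -1⟩, ⟨0, 0⟩, ⟨1, -1⟩, ⟨2, 0⟩, ⟨1, -1⟩, ⟨2, 0⟩, ⟨1, -1⟩, ⟨3, 0⟩, ⟨4, 0⟩, ⟨3, 3⟩, ⟨4, 3⟩, ⟨2, 7⟩, ⟨4, 5⟩, ⟨4, 12⟩, ⟨0, 8⟩, ⟨0, 9⟩],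
  ![⟨0, 0⟩, ⟨0, 0⟩, ⟨0, 0⟩, ⟨0, 0⟩, ⟨0, 0⟩, ⟨0, 0⟩, ⟨0, 0⟩, ⟨0, 0⟩, ⟨0, 0⟩, ⟨0, 0⟩, ⟨0, 0⟩, ⟨0, 0⟩, ⟨1, 1⟩, ⟨0, 1⟩, ⟨0, 0⟩, ⟨-1, 1⟩, ⟨1, -1⟩, ⟨-1, 1⟩, ⟨1, -1⟩, ⟨-2, 0⟩, ⟨0, 2⟩, ⟨-1, 1⟩, ⟨0, 2⟩, ⟨-3, 1⟩, ⟨-2, 1⟩, ⟨-4, 2⟩, ⟨-3, 1⟩, ⟨-3, 0⟩],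
  ![⟨0, 0⟩, ⟨0, 0⟩, ⟨0, 0⟩, ⟨0, 0⟩, ⟨0, 0⟩, ⟨0, 0⟩, ⟨0, 0⟩, ⟨0, 0⟩, ⟨0, 0⟩, ⟨0, 0⟩, ⟨0, 0⟩, ⟨0, 0⟩, ⟨0, 0⟩, ⟨0, 0⟩, ⟨0, -1⟩, ⟨0, 0⟩, ⟨0, 0⟩, ⟨0, 0⟩, ⟨0, 0⟩, ⟨0, 0⟩, ⟨1, 0⟩, ⟨1, 0⟩, ⟨1, 1⟩, ⟨0, 2⟩, ⟨1, 1⟩, ⟨2, 3⟩, ⟨0, 2⟩, ⟨0, 2⟩],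
  ![⟨0, 0⟩, ⟨0, 0⟩, ⟨0, 0⟩, ⟨0, 0⟩, ⟨0, 0⟩, ⟨0, 0⟩, ⟨0, 0⟩, ⟨0, 0⟩, ⟨0, 0⟩, ⟨0, 0⟩, ⟨0, 0⟩, ⟨0, 0⟩, ⟨0, 0⟩, ⟨0, 0⟩, ⟨1, 1⟩, ⟨0, 1⟩, ⟨1, -1⟩, ⟨0, 0⟩, ⟨0, 0⟩, ⟨0, 0⟩, ⟨0, 2⟩, ⟨-2, 1⟩, ⟨-1, 2⟩, ⟨-3, 0⟩, ⟨-2, 1⟩, ⟨-4, 1⟩, ⟨-3, -1⟩, ⟨-3, 0⟩],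
  ![⟨0, 0⟩, ⟨0, 0⟩, ⟨0, 0⟩, ⟨0, 0⟩, ⟨0, 0⟩, ⟨0, 0⟩, ⟨0, 0⟩, ⟨0, 0⟩, ⟨0, 0⟩, ⟨0, 0⟩, ⟨0, 0⟩, ⟨0, 0⟩, ⟨0, 0⟩, ⟨0, 0⟩, ⟨0, 0⟩, ⟨0, 0⟩, ⟨0, -1⟩, ⟨0, 0⟩, ⟨0, 0⟩, ⟨0, 0⟩, ⟨0, 0⟩, ⟨0, 0⟩, ⟨0, 0⟩, ⟨0, 0⟩, ⟨0, -1⟩, ⟨1, -1⟩, ⟨1, -1⟩, ⟨1, 0⟩],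
  ![⟨0, 0⟩, ⟨0, 0⟩, ⟨0, 0⟩, ⟨0, 0⟩, ⟨0, 0⟩, ⟨0, 0⟩, ⟨0, 0⟩, ⟨0, 0⟩, ⟨0, 0⟩, ⟨0, 0⟩, ⟨0, 0⟩, ⟨0, 0⟩, ⟨0, 0⟩, ⟨0, 0⟩, ⟨0, 0⟩, ⟨0, 0⟩, ⟨0, 2⟩, ⟨0, 1⟩, ⟨-2, 0⟩, ⟨-1, 1⟩, ⟨-1, -1⟩, ⟨0, -2⟩, ⟨-1, -1⟩, ⟨1, -1⟩, ⟨0, -1⟩, ⟨1, -2⟩, ⟨1, -1⟩, ⟨0, -2⟩],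
  ![⟨0, 0⟩, ⟨0, 0⟩, ⟨0, 0⟩, ⟨0, 0⟩, ⟨0, 0⟩, ⟨0, 0⟩, ⟨0, 0⟩, ⟨0, 0⟩, ⟨0, 0⟩, ⟨0, 0⟩, ⟨0, 0⟩, ⟨0, 0⟩, ⟨0, 0⟩, ⟨0, 0⟩, ⟨0, 0⟩, ⟨0, 0⟩, ⟨0, 0⟩, ⟨0, 0⟩, ⟨-1, 0⟩, ⟨-1, 0⟩, ⟨0, 0⟩, ⟨0, -1⟩, ⟨0, 0⟩, ⟨0, 0⟩, ⟨0, 0⟩, ⟨1, 0⟩, ⟨0, 0⟩, ⟨0, 0⟩],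
  ![⟨0, 0⟩, ⟨0, 0⟩, ⟨0, 0⟩, ⟨0, 0⟩, ⟨0, 0⟩, ⟨0, 0⟩, ⟨0, 0⟩, ⟨0, 0⟩, ⟨0, 0⟩, ⟨0, 0⟩, ⟨0, 0⟩, ⟨0, 0⟩, ⟨0, 0⟩, ⟨0, 0⟩, ⟨0, 0⟩, ⟨0, 0⟩, ⟨0, 0⟩, ⟨0, 0⟩, ⟨2, 0⟩, ⟨1, 0⟩, ⟨1, 1⟩, ⟨0, 2⟩, ⟨0, 2⟩, ⟨-2, 2⟩, ⟨-1, 2⟩, ⟨-3, 3⟩, ⟨-3, 1⟩, ⟨-2, 1⟩],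
  ![⟨0, 0⟩, ⟨0, 0⟩, ⟨0, 0⟩, ⟨0, 0⟩, ⟨0, 0⟩, ⟨0, 0⟩, ⟨0, 0⟩, ⟨0, 0⟩, ⟨0, 0⟩, ⟨0, 0⟩, ⟨0, 0⟩, ⟨0, 0⟩, ⟨0, 0⟩, ⟨0, 0⟩, ⟨0, 0⟩, ⟨0, 0⟩, ⟨0, 0⟩, ⟨0, 0⟩, ⟨0, 0⟩, ⟨0, 0⟩, ⟨1, 0⟩, ⟨1, 1⟩, ⟨0, 0⟩, ⟨0, 2⟩, ⟨0, -1⟩, ⟨1, 1⟩, ⟨0, 0⟩, ⟨1, 0⟩],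
  ![⟨0, 0⟩, ⟨0, 0⟩, ⟨0, 0⟩, ⟨0, 0⟩, ⟨0, 0⟩, ⟨0, 0⟩, ⟨0, 0⟩, ⟨0, 0⟩, ⟨0, 0⟩, ⟨0, 0⟩, ⟨0, 0⟩, ⟨0, 0⟩, ⟨0, 0⟩, ⟨0, 0⟩, ⟨0, 0⟩, ⟨0, 0⟩, ⟨0, 0⟩, ⟨0, 0⟩, ⟨0, 0⟩, ⟨0, 0⟩, ⟨-1, 1⟩, ⟨-1, 0⟩, ⟨-2, 0⟩, ⟨-2, -2⟩, ⟨-1, -2⟩, ⟨-2, -2⟩, ⟨0, -3⟩, ⟨0, -2⟩],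
  ![⟨0, 0⟩, ⟨0, 0⟩, ⟨0, 0⟩, ⟨0, 0⟩, ⟨0, 0⟩, ⟨0, 0⟩, ⟨0, 0⟩, ⟨0, 0⟩, ⟨0, 0⟩, ⟨0, 0⟩, ⟨0, 0⟩, ⟨0, 0⟩, ⟨0, 0⟩, ⟨0, 0⟩, ⟨0, 0⟩, ⟨0, 0⟩, ⟨0, 0⟩, ⟨0, 0⟩, ⟨0, 0⟩, ⟨0, 0⟩, ⟨0, 0⟩, ⟨0, 0⟩, ⟨-1, 0⟩, ⟨-1, -1⟩, ⟨-1, -1⟩, ⟨0, -1⟩, ⟨0, -2⟩, ⟨0, -1⟩],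
  ![⟨0, 0⟩, ⟨0, 0⟩, ⟨0, 0⟩, ⟨0, 0⟩, ⟨0, 0⟩, ⟨0, 0⟩, ⟨0, 0⟩, ⟨0, 0⟩, ⟨0, 0⟩, ⟨0, 0⟩, ⟨0, 0⟩, ⟨0, 0⟩, ⟨0, 0⟩, ⟨0, 0⟩, ⟨0, 0⟩, ⟨0, 0⟩, ⟨0, 0⟩, ⟨0, 0⟩, ⟨0, 0⟩, ⟨0, 0⟩, ⟨0, 0⟩, ⟨0, 0⟩, ⟨1, -1⟩, ⟨1, 0⟩, ⟨1, 0⟩, ⟨1, 0⟩, ⟨1, 1⟩, ⟨1, 1⟩],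
  ![⟨0, 0⟩, ⟨0, 0⟩, ⟨0, 0⟩, ⟨0, 0⟩, ⟨0, 0⟩, ⟨0, 0⟩, ⟨0, 0⟩, ⟨0, 0⟩, ⟨0, 0⟩, ⟨0, 0⟩, ⟨0, 0⟩, ⟨0, 0⟩, ⟨0, 0⟩, ⟨0, 0⟩, ⟨0, 0⟩, ⟨0, 0⟩, ⟨0, 0⟩, ⟨0, 0⟩, ⟨0, 0⟩, ⟨0, 0⟩, ⟨0, 0⟩, ⟨0, 0⟩, ⟨0, 0⟩, ⟨0, 0⟩, ⟨0, -1⟩, ⟨0, 0⟩, ⟨0, -1⟩, ⟨1, 0⟩],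
  ![⟨0, 0⟩, ⟨0, 0⟩, ⟨0, 0⟩, ⟨0, 0⟩, ⟨0, 0⟩, ⟨0, 0⟩, ⟨0, 0⟩, ⟨0, 0⟩, ⟨0, 0⟩, ⟨0, 0⟩, ⟨0, 0⟩, ⟨0, 0⟩, ⟨0, 0⟩, ⟨0, 0⟩, ⟨0, 0⟩, ⟨0, 0⟩, ⟨0, 0⟩, ⟨0, 0⟩, ⟨0, 0⟩, ⟨0, 0⟩, ⟨0, 0⟩, ⟨0, 0⟩, ⟨0, 0⟩, ⟨0, 0⟩, ⟨1, 1⟩, ⟨0, 1⟩, ⟨0, 1⟩, ⟨0, 1⟩],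
  ![⟨0, 0⟩, ⟨0, 0⟩, ⟨0, 0⟩, ⟨0, 0⟩, ⟨0, 0⟩, ⟨0, 0⟩, ⟨0, 0⟩, ⟨0, 0⟩, ⟨0, 0⟩, ⟨0, 0⟩, ⟨0, 0⟩, ⟨0, 0⟩, ⟨0, 0⟩, ⟨0, 0⟩, ⟨0, 0⟩, ⟨0, 0⟩, ⟨0, 0⟩, ⟨0, 0⟩, ⟨0, 0⟩, ⟨0, 0⟩, ⟨0, 0⟩, ⟨0, 0⟩, ⟨0, 0⟩, ⟨0, 0⟩, ⟨0, 0⟩, ⟨0, 0⟩, ⟨0, 0⟩, ⟨-1, 0⟩],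
  ![⟨0, 0⟩, ⟨0, 0⟩, ⟨0, 0⟩, ⟨0, 0⟩, ⟨0, 0⟩, ⟨0, 0⟩, ⟨0, 0⟩, ⟨0, 0⟩, ⟨0, 0⟩, ⟨0, 0⟩, ⟨0, 0⟩, ⟨0, 0⟩, ⟨0, 0⟩, ⟨0, 0⟩, ⟨0, 0⟩, ⟨0, 0⟩, ⟨0, 0⟩, ⟨0, 0⟩, ⟨0, 0⟩, ⟨0, 0⟩, ⟨0, 0⟩, ⟨0, 0⟩, ⟨0, 0⟩, ⟨0, 0⟩, ⟨0, 0⟩, ⟨0, 0⟩, ⟨1, 0⟩, ⟨0, 0⟩]]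

/-- coefficients of `ruRk (Bv j)` -/
def MRk : Fin 28 → Fin 28 → GaussianInt := ![![⟨0, 0⟩, ⟨0, 1⟩, ⟨0, 1⟩, ⟨-1, 1⟩, ⟨0, 0⟩, ⟨-1, 1⟩, ⟨-2, 1⟩, ⟨-4, -1⟩, ⟨0, 0⟩, ⟨0, 1⟩, ⟨-4, -2⟩, ⟨-2, -4⟩, ⟨-4, 0⟩, ⟨-3, -3⟩, ⟨-4, -2⟩, ⟨-3, -10⟩, ⟨-6, -2⟩, ⟨-3, -17⟩, ⟨-4, -4⟩, ⟨1, -25⟩, ⟨0, -22⟩, ⟨20, -22⟩, ⟨16, -28⟩, ⟨43, -8⟩, ⟨27, -32⟩, ⟨77, -33⟩, ⟨49, -12⟩, ⟨60, -6⟩],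
  ![⟨0, 0⟩, ⟨0, 1⟩, ⟨0, 0⟩, ⟨0, 0⟩, ⟨1, 0⟩, ⟨0, 1⟩, ⟨0, 1⟩, ⟨-1, 1⟩, ⟨1, -1⟩, ⟨0, 1⟩, ⟨-1, 2⟩, ⟨-3, 0⟩, ⟨-1, 1⟩, ⟨-1, 1⟩, ⟨-1, 1⟩, ⟨-2, 1⟩, ⟨-2, 1⟩, ⟨-6, 1⟩, ⟨-1, 1⟩, ⟨-8, -3⟩, ⟨-8, -1⟩, ⟨-7, -7⟩, ⟨-10, -7⟩, ⟨-3, -17⟩, ⟨-10, -12⟩, ⟨-7, -30⟩, ⟨-1, -20⟩, ⟨-1, -22⟩],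
  ![⟨0, 1⟩, ⟨0, 1⟩, ⟨0, 0⟩, ⟨-1, 1⟩, ⟨1, 0⟩, ⟨-1, 2⟩, ⟨-1, 1⟩, ⟨-4, 1⟩, ⟨1, -1⟩, ⟨1, 1⟩, ⟨-4, 0⟩, ⟨-4, -2⟩, ⟨-3, 1⟩, ⟨-4, -1⟩, ⟨-3, 1⟩, ⟨-4, -5⟩, ⟨-6, 0⟩, ⟨-9, -11⟩, ⟨-3, -2⟩, ⟨-8, -21⟩, ⟨-9, -14⟩, ⟨5, -23⟩, ⟨-2, -25⟩, ⟨24, -25⟩, ⟨7, -35⟩, ⟨42, -55⟩, ⟨31, -31⟩, ⟨38, -30⟩],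
  ![⟨0, 0⟩, ⟨-1, -1⟩, ⟨0, 0⟩, ⟨0, -1⟩, ⟨1, 0⟩, ⟨2, -1⟩, ⟨1, -1⟩, ⟨3, 0⟩, ⟨1, 0⟩, ⟨1, -1⟩, ⟨4, 2⟩, ⟨3, 4⟩, ⟨2, -1⟩, ⟨2, 2⟩, ⟨4, 0⟩, ⟨5, 7⟩, ⟨5, 1⟩, ⟨5, 14⟩, ⟨6, 3⟩, ⟨5, 20⟩, ⟨7, 20⟩, ⟨-12, 26⟩, ⟨-8, 30⟩, ⟨-39, 20⟩, ⟨-19, 34⟩, ⟨-61, 48⟩, ⟨-45, 21⟩, ⟨-53, 18⟩],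
  ![⟨0, 0⟩, ⟨0, 0⟩, ⟨0, 0⟩, ⟨0, 0⟩, ⟨1, 0⟩, ⟨1, 1⟩, ⟨1, 1⟩, ⟨0, 2⟩, ⟨1, -1⟩, ⟨2, 0⟩, ⟨0, 3⟩, ⟨-2, 3⟩, ⟨0, 1⟩, ⟨-1, 3⟩, ⟨0, 2⟩, ⟨-2, 4⟩, ⟨0, 3⟩, ⟨-8, 6⟩, ⟨1, 3⟩, ⟨-11, 4⟩, ⟨-9, 8⟩, ⟨-17, 0⟩, ⟨-19, 3⟩, ⟨-21, -16⟩, ⟨-25, -4⟩, ⟨-40, -26⟩, ⟨-24, -23⟩, ⟨-24, -27⟩],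
  ![⟨0, 0⟩, ⟨0, 0⟩, ⟨0, 0⟩, ⟨0, 0⟩, ⟨0, 0⟩, ⟨1, 0⟩, ⟨0, 0⟩, ⟨1, 1⟩, ⟨1, -1⟩, ⟨2, 0⟩, ⟨1, 2⟩, ⟨-1, 3⟩, ⟨0, 0⟩, ⟨0, 0⟩, ⟨1, 0⟩, ⟨2, 2⟩, ⟨1, 2⟩, ⟨0, 5⟩, ⟨2, 2⟩, ⟨-1, 6⟩, ⟨0, 8⟩, ⟨-7, 8⟩, ⟨-8, 11⟩, ⟨-18, 3⟩, ⟨-13, 9⟩, ⟨-27, 7⟩, ⟨-21, -1⟩, ⟨-24, -2⟩],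
  ![⟨0, 0⟩, ⟨0, 0⟩, ⟨0, 0⟩, ⟨0, 0⟩, ⟨-1, 1⟩, ⟨0, 0⟩, ⟨-1, 0⟩, ⟨-1, -1⟩, ⟨0, 0⟩, ⟨0, 0⟩, ⟨-1, -1⟩, ⟨0, -1⟩, ⟨0, -1⟩, ⟨0, -1⟩, ⟨0, -1⟩, ⟨0, -2⟩, ⟨-1, -2⟩, ⟨2, -5⟩, ⟨0, -2⟩, ⟨4, -5⟩, ⟨4, -4⟩, ⟨8, -2⟩, ⟨8, -3⟩, ⟨11, 5⟩, ⟨11, -2⟩, ⟨22, 7⟩, ⟨13, 5⟩, ⟨15, 8⟩],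
  ![⟨0, 0⟩, ⟨0, 0⟩, ⟨0, 0⟩, ⟨0, 0⟩, ⟨0, 0⟩, ⟨-1, 1⟩, ⟨0, 0⟩, ⟨-1, 0⟩, ⟨1, -1⟩, ⟨1, 1⟩, ⟨-1, 0⟩, ⟨-2, 0⟩, ⟨-1, 0⟩, ⟨-1, 0⟩, ⟨-1, 0⟩, ⟨0, -1⟩, ⟨-1, 0⟩, ⟨-1, -2⟩, ⟨1, 0⟩, ⟨0, -5⟩, ⟨-2, -1⟩, ⟨0, -3⟩, ⟨-2, -3⟩, ⟨2, -5⟩, ⟨0, -7⟩, ⟨5, -10⟩, ⟨4, -8⟩, ⟨4, -6⟩],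
  ![⟨0, 0⟩, ⟨0, 0⟩, ⟨0, 0⟩, ⟨0, 0⟩, ⟨0, 0⟩, ⟨0, 0⟩, ⟨0, 0⟩, ⟨0, 0⟩, ⟨1, 0⟩, ⟨0, 0⟩, ⟨0, 1⟩, ⟨-1, 0⟩, ⟨0, 0⟩, ⟨0, 1⟩, ⟨0, 0⟩, ⟨0, 1⟩, ⟨0, -1⟩, ⟨-1, 1⟩, ⟨1, 0⟩, ⟨-1, 0⟩, ⟨-1, 2⟩, ⟨-3, 1⟩, ⟨-3, 1⟩, ⟨-4, -3⟩, ⟨-4, 0⟩, ⟨-7, -3⟩, ⟨-3, -4⟩, ⟨-5, -4⟩],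
  ![⟨0, 0⟩, ⟨0, 0⟩, ⟨0, 0⟩, ⟨0, 0⟩, ⟨0, 0⟩, ⟨0, 0⟩, ⟨0, 0⟩, ⟨0, 0⟩, ⟨0, 0⟩, ⟨0, 1⟩, ⟨0, 0⟩, ⟨0, 0⟩, ⟨0, 0⟩, ⟨0, 1⟩, ⟨0, 0⟩, ⟨-1, 1⟩, ⟨-1, 0⟩, ⟨-2, 0⟩, ⟨0, 0⟩, ⟨-2, 0⟩, ⟨-2, 1⟩, ⟨-2, 0⟩, ⟨-3, -2⟩, ⟨-3, -4⟩, ⟨-3, -4⟩, ⟨-4, -6⟩, ⟨-1, -5⟩, ⟨0, -7⟩],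
  ![⟨0, 0⟩, ⟨0, 0⟩, ⟨0, 0⟩, ⟨0, 0⟩, ⟨0, 0⟩, ⟨0, 0⟩, ⟨0, 0⟩, ⟨0, 0⟩, ⟨0, 2⟩, ⟨0, 2⟩, ⟨-1, 0⟩, ⟨-1, -1⟩, ⟨0, 0⟩, ⟨0, 0⟩, ⟨0, 0⟩, ⟨-2, 2⟩, ⟨-1, 1⟩, ⟨-3, -1⟩, ⟨-2, 2⟩, ⟨-3, 0⟩, ⟨-5, 0⟩, ⟨-5, -4⟩, ⟨-7, -6⟩, ⟨-2, -11⟩, ⟨-6, -9⟩, ⟨-4, -16⟩, ⟨2, -13⟩, ⟨3, -16⟩],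
  ![⟨0, 0⟩, ⟨0, 0⟩, ⟨0, 0⟩, ⟨0, 0⟩, ⟨0, 0⟩, ⟨0, 0⟩, ⟨0, 0⟩, ⟨0, 0⟩, ⟨0, 0⟩, ⟨-2, 0⟩, ⟨0, 0⟩, ⟨0, -1⟩, ⟨0, 0⟩, ⟨0, 0⟩, ⟨0, 0⟩, ⟨-1, -1⟩, ⟨-1, -1⟩, ⟨1, -1⟩, ⟨-1, -1⟩, ⟨0, -1⟩, ⟨0, -4⟩, ⟨2, -3⟩, ⟨3, -5⟩, ⟨7, -3⟩, ⟨6, -3⟩, ⟨10, -3⟩, ⟨9, 1⟩, ⟨10, 1⟩],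
  ![⟨0, 0⟩, ⟨0, 0⟩, ⟨0, 0⟩, ⟨0, 0⟩, ⟨0, 0⟩, ⟨0, 0⟩, ⟨0, 0⟩, ⟨0, 0⟩, ⟨0, 0⟩, ⟨0, 0⟩, ⟨0, 0⟩, ⟨0, 0⟩, ⟨0, -1⟩, ⟨0, 0⟩, ⟨0, 0⟩, ⟨0, 0⟩, ⟨0, 0⟩, ⟨1, 0⟩, ⟨0, 0⟩, ⟨1, 0⟩, ⟨1, -1⟩, ⟨1, 0⟩, ⟨1, -1⟩, ⟨2, 1⟩, ⟨1, 0⟩, ⟨3, 1⟩, ⟨2, 1⟩, ⟨2, 1⟩],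
  ![⟨0, 0⟩, ⟨0, 0⟩, ⟨0, 0⟩, ⟨0, 0⟩, ⟨0, 0⟩, ⟨0, 0⟩, ⟨0, 0⟩, ⟨0, 0⟩, ⟨0, 0⟩, ⟨0, 0⟩, ⟨0, 0⟩, ⟨0, 0⟩, ⟨0, 0⟩, ⟨0, 1⟩, ⟨0, 0⟩, ⟨0, 0⟩, ⟨0, 0⟩, ⟨0, 1⟩, ⟨0, 0⟩, ⟨-1, 0⟩, ⟨0, 1⟩, ⟨-1, 0⟩, ⟨-1, 0⟩, ⟨-1, -1⟩, ⟨-2, 0⟩, ⟨-3, -1⟩, ⟨-1, -1⟩, ⟨-2, -1⟩],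
  ![⟨0, 0⟩, ⟨0, 0⟩, ⟨0, 0⟩, ⟨0, 0⟩, ⟨0, 0⟩, ⟨0, 0⟩, ⟨0, 0⟩, ⟨0, 0⟩, ⟨0, 0⟩, ⟨0, 0⟩, ⟨0, 0⟩, ⟨0, 0⟩, ⟨1, 1⟩, ⟨0, 2⟩, ⟨0, 1⟩, ⟨-2, 2⟩, ⟨0, 0⟩, ⟨-3, 2⟩, ⟨0, 0⟩, ⟨-5, 1⟩, ⟨-3, 3⟩, ⟨-5, -1⟩, ⟨-5, -1⟩, ⟨-5, -6⟩, ⟨-7, -3⟩, ⟨-11, -9⟩, ⟨-4, -7⟩, ⟨-4, -9⟩],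
  ![⟨0, 0⟩, ⟨0, 0⟩, ⟨0, 0⟩, ⟨0, 0⟩, ⟨0, 0⟩, ⟨0, 0⟩, ⟨0, 0⟩, ⟨0, 0⟩, ⟨0, 0⟩, ⟨0, 0⟩, ⟨0, 0⟩, ⟨0, 0⟩, ⟨0, 0⟩, ⟨-1, -1⟩, ⟨0, 0⟩, ⟨0, -1⟩, ⟨0, 0⟩, ⟨1, -2⟩, ⟨0, 0⟩, ⟨2, -2⟩, ⟨1, -1⟩, ⟨2, -1⟩, ⟨2, -1⟩, ⟨3, 1⟩, ⟨3, -1⟩, ⟨6, 1⟩, ⟨4, 1⟩, ⟨4, 3⟩],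
  ![⟨0, 0⟩, ⟨0, 0⟩, ⟨0, 0⟩, ⟨0, 0⟩, ⟨0, 0⟩, ⟨0, 0⟩, ⟨0, 0⟩, ⟨0, 0⟩, ⟨0, 0⟩, ⟨0, 0⟩, ⟨0, 0⟩, ⟨0, 0⟩, ⟨0, 0⟩, ⟨0, 0⟩, ⟨0, 0⟩, ⟨0, 0⟩, ⟨0, -1⟩, ⟨0, -1⟩, ⟨0, 0⟩, ⟨0, -1⟩, ⟨1, 0⟩, ⟨1, 0⟩, ⟨1, 0⟩, ⟨1, 1⟩, ⟨1, -1⟩, ⟨3, 1⟩, ⟨2, 0⟩, ⟨2, 1⟩],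
  ![⟨0, 0⟩, ⟨0, 0⟩, ⟨0, 0⟩, ⟨0, 0⟩, ⟨0, 0⟩, ⟨0, 0⟩, ⟨0, 0⟩, ⟨0, 0⟩, ⟨0, 0⟩, ⟨0, 0⟩, ⟨0, 0⟩, ⟨0, 0⟩, ⟨0, 0⟩, ⟨0, 0⟩, ⟨0, 0⟩, ⟨0, 0⟩, ⟨0, 0⟩, ⟨1, 0⟩, ⟨0, 0⟩, ⟨1, 1⟩, ⟨0, 0⟩, ⟨0, 0⟩, ⟨0, 0⟩, ⟨0, 0⟩, ⟨0, 0⟩, ⟨0, 1⟩, ⟨1, 0⟩, ⟨0, 0⟩],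
  ![⟨0, 0⟩, ⟨0, 0⟩, ⟨0, 0⟩, ⟨0, 0⟩, ⟨0, 0⟩, ⟨0, 0⟩, ⟨0, 0⟩, ⟨0, 0⟩, ⟨0, 0⟩, ⟨0, 0⟩, ⟨0, 0⟩, ⟨0, 0⟩, ⟨0, 0⟩, ⟨0, 0⟩, ⟨0, 0⟩, ⟨0, 0⟩, ⟨1, 1⟩, ⟨1, 0⟩, ⟨0, 1⟩, ⟨1, 1⟩, ⟨0, 1⟩, ⟨-1, 0⟩, ⟨-1, 1⟩, ⟨-1, 0⟩, ⟨-1, 1⟩, ⟨-2, 1⟩, ⟨-1, 0⟩, ⟨-2, 1⟩],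
  ![⟨0, 0⟩, ⟨0, 0⟩, ⟨0, 0⟩, ⟨0, 0⟩, ⟨0, 0⟩, ⟨0, 0⟩, ⟨0, 0⟩, ⟨0, 0⟩, ⟨0, 0⟩, ⟨0, 0⟩, ⟨0, 0⟩, ⟨0, 0⟩, ⟨0, 0⟩, ⟨0, 0⟩, ⟨0, 0⟩, ⟨0, 0⟩, ⟨0, 0⟩, ⟨-1, 1⟩, ⟨0, 0⟩, ⟨-1, 0⟩, ⟨0, 0⟩, ⟨0, 0⟩, ⟨0, 0⟩, ⟨0, 0⟩, ⟨-1, 0⟩, ⟨-1, -1⟩, ⟨-1, 0⟩, ⟨-1, -1⟩],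
  ![⟨0, 0⟩, ⟨0, 0⟩, ⟨0, 0⟩, ⟨0, 0⟩, ⟨0, 0⟩, ⟨0, 0⟩, ⟨0, 0⟩, ⟨0, 0⟩, ⟨0, 0⟩, ⟨0, 0⟩, ⟨0, 0⟩, ⟨0, 0⟩, ⟨0, 0⟩, ⟨0, 0⟩, ⟨0, 0⟩, ⟨0, 0⟩, ⟨0, 0⟩, ⟨0, 0⟩, ⟨0, 0⟩, ⟨0, 0⟩, ⟨1, 0⟩, ⟨1, 1⟩, ⟨1, 1⟩, ⟨0, 2⟩, ⟨0, 1⟩, ⟨1, 3⟩, ⟨-1, 2⟩, ⟨-1, 1⟩],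
  ![⟨0, 0⟩, ⟨0, 0⟩, ⟨0, 0⟩, ⟨0, 0⟩, ⟨0, 0⟩, ⟨0, 0⟩, ⟨0, 0⟩, ⟨0, 0⟩, ⟨0, 0⟩, ⟨0, 0⟩, ⟨0, 0⟩, ⟨0, 0⟩, ⟨0, 0⟩, ⟨0, 0⟩, ⟨0, 0⟩, ⟨0, 0⟩, ⟨0, 0⟩, ⟨0, 0⟩, ⟨0, 0⟩, ⟨0, 0⟩, ⟨0, 0⟩, ⟨1, 0⟩, ⟨0, 0⟩, ⟨1, 1⟩, ⟨0, -1⟩, ⟨1, 0⟩, ⟨1, 0⟩, ⟨0, -1⟩],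
  ![⟨0, 0⟩, ⟨0, 0⟩, ⟨0, 0⟩, ⟨0, 0⟩, ⟨0, 0⟩, ⟨0, 0⟩, ⟨0, 0⟩, ⟨0, 0⟩, ⟨0, 0⟩, ⟨0, 0⟩, ⟨0, 0⟩, ⟨0, 0⟩, ⟨0, 0⟩, ⟨0, 0⟩, ⟨0, 0⟩, ⟨0, 0⟩, ⟨0, 0⟩, ⟨0, 0⟩, ⟨0, 0⟩, ⟨0, 0⟩, ⟨-1, 1⟩, ⟨0, 0⟩, ⟨-1, 0⟩, ⟨-1, -1⟩, ⟨0, -1⟩, ⟨-1, 0⟩, ⟨1, -1⟩, ⟨-1, -1⟩],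
  ![⟨0, 0⟩, ⟨0, 0⟩, ⟨0, 0⟩, ⟨0, 0⟩, ⟨0, 0⟩, ⟨0, 0⟩, ⟨0, 0⟩, ⟨0, 0⟩, ⟨0, 0⟩, ⟨0, 0⟩, ⟨0, 0⟩, ⟨0, 0⟩, ⟨0, 0⟩, ⟨0, 0⟩, ⟨0, 0⟩, ⟨0, 0⟩, ⟨0, 0⟩, ⟨0, 0⟩, ⟨0, 0⟩, ⟨0, 0⟩, ⟨0, 0⟩, ⟨-1, 1⟩, ⟨0, 0⟩, ⟨-1, 0⟩, ⟨0, 0⟩, ⟨-1, 0⟩, ⟨-1, 0⟩, ⟨0, 0⟩],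
  ![⟨0, 0⟩, ⟨0, 0⟩, ⟨0, 0⟩, ⟨0, 0⟩, ⟨0, 0⟩, ⟨0, 0⟩, ⟨0, 0⟩, ⟨0, 0⟩, ⟨0, 0⟩, ⟨0, 0⟩, ⟨0, 0⟩, ⟨0, 0⟩, ⟨0, 0⟩, ⟨0, 0⟩, ⟨0, 0⟩, ⟨0, 0⟩, ⟨0, 0⟩, ⟨0, 0⟩, ⟨0, 0⟩, ⟨0, 0⟩, ⟨0, 0⟩, ⟨0, 0⟩, ⟨0, 0⟩, ⟨0, 0⟩, ⟨0, -1⟩, ⟨1, 0⟩, ⟨0, 0⟩, ⟨0, -1⟩],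
  ![⟨0, 0⟩, ⟨0, 0⟩, ⟨0, 0⟩, ⟨0, 0⟩, ⟨0, 0⟩, ⟨0, 0⟩, ⟨0, 0⟩, ⟨0, 0⟩, ⟨0, 0⟩, ⟨0, 0⟩, ⟨0, 0⟩, ⟨0, 0⟩, ⟨0, 0⟩, ⟨0, 0⟩, ⟨0, 0⟩, ⟨0, 0⟩, ⟨0, 0⟩, ⟨0, 0⟩, ⟨0, 0⟩, ⟨0, 0⟩, ⟨0, 0⟩, ⟨0, 0⟩, ⟨0, 0⟩, ⟨0, 0⟩, ⟨0, 0⟩, ⟨0, 0⟩, ⟨0, 0⟩, ⟨1, 0⟩],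
  ![⟨0, 0⟩, ⟨0, 0⟩, ⟨0, 0⟩, ⟨0, 0⟩, ⟨0, 0⟩, ⟨0, 0⟩, ⟨0, 0⟩, ⟨0, 0⟩, ⟨0, 0⟩, ⟨0, 0⟩, ⟨0, 0⟩, ⟨0, 0⟩, ⟨0, 0⟩, ⟨0, 0⟩, ⟨0, 0⟩, ⟨0, 0⟩, ⟨0, 0⟩, ⟨0, 0⟩, ⟨0, 0⟩, ⟨0, 0⟩, ⟨0, 0⟩, ⟨0, 0⟩, ⟨0, 0⟩, ⟨0, 0⟩, ⟨1, 1⟩, ⟨0, 1⟩, ⟨0, 1⟩, ⟨0, 1⟩],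
  ![⟨0, 0⟩, ⟨0, 0⟩, ⟨0, 0⟩, ⟨0, 0⟩, ⟨0, 0⟩, ⟨0, 0⟩, ⟨0, 0⟩, ⟨0, 0⟩, ⟨0, 0⟩, ⟨0, 0⟩, ⟨0, 0⟩, ⟨0, 0⟩, ⟨0, 0⟩, ⟨0, 0⟩, ⟨0, 0⟩, ⟨0, 0⟩, ⟨0, 0⟩, ⟨0, 0⟩, ⟨0, 0⟩, ⟨0, 0⟩, ⟨0, 0⟩, ⟨0, 0⟩, ⟨0, 0⟩, ⟨0, 0⟩, ⟨0, 0⟩, ⟨-1, 0⟩, ⟨0, 0⟩, ⟨0, 0⟩]]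

/-- coefficients of `ruSign (Bv j)` -/
def MSign : Fin 28 → Fin 28 → GaussianInt := ![![⟨-1, 0⟩, ⟨0, 0⟩, ⟨0, 0⟩, ⟨0, 0⟩, ⟨0, 0⟩, ⟨-1, -1⟩, ⟨0, 0⟩, ⟨0, -2⟩, ⟨0, 0⟩, ⟨0, 0⟩, ⟨1, -2⟩, ⟨1, -1⟩, ⟨0, -1⟩, ⟨1, -1⟩, ⟨0, -1⟩, ⟨3, -1⟩, ⟨0, -3⟩, ⟨5, -2⟩, ⟨2, -2⟩, ⟨9, -2⟩, ⟨8, -1⟩, ⟨10, 6⟩, ⟨11, 4⟩, ⟨7, 16⟩, ⟨12, 8⟩, ⟨16, 25⟩, ⟨7, 17⟩, ⟨6, 20⟩],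
  ![⟨0, 0⟩, ⟨-1, 0⟩, ⟨0, 0⟩, ⟨0, 0⟩, ⟨0, 0⟩, ⟨-1, -1⟩, ⟨-1, -1⟩, ⟨0, -2⟩, ⟨0, 0⟩, ⟨-1, -1⟩, ⟨0, -3⟩, ⟨3, -3⟩, ⟨0, -2⟩, ⟨2, -2⟩, ⟨1, -2⟩, ⟨5, -2⟩, ⟨1, -4⟩, ⟨10, -3⟩, ⟨2, -4⟩, ⟨15, -2⟩, ⟨15, -3⟩, ⟨17, 9⟩, ⟨20, 6⟩, ⟨13, 27⟩, ⟨24, 15⟩, ⟨31, 46⟩, ⟨14, 33⟩, ⟨12, 38⟩],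
  ![⟨0, 0⟩, ⟨0, 0⟩, ⟨-1, 0⟩, ⟨0, 0⟩, ⟨0, 0⟩, ⟨0, 0⟩, ⟨-1, -1⟩, ⟨0, -2⟩, ⟨0, 0⟩, ⟨-1, -1⟩, ⟨0, -2⟩, ⟨2, -2⟩, ⟨0, -1⟩, ⟨1, -1⟩, ⟨1, -1⟩, ⟨3, -2⟩, ⟨0, -4⟩, ⟨5, -3⟩, ⟨2, -4⟩, ⟨9, -4⟩, ⟨11, -2⟩, ⟨12, 7⟩, ⟨15, 4⟩, ⟨9, 19⟩, ⟨17, 9⟩, ⟨22, 31⟩, ⟨10, 22⟩, ⟨11, 26⟩],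
  ![⟨0, 0⟩, ⟨0, 0⟩, ⟨0, 0⟩, ⟨-1, 0⟩, ⟨0, 0⟩, ⟨-1, -1⟩, ⟨-1, -1⟩, ⟨-1, -3⟩, ⟨0, 0⟩, ⟨0, 0⟩, ⟨1, -4⟩, ⟨3, -2⟩, ⟨0, -2⟩, ⟨2, -2⟩, ⟨1, -2⟩, ⟨5, -2⟩, ⟨0, -5⟩, ⟨10, -5⟩, ⟨2, -4⟩, ⟨15, -3⟩, ⟨15, -2⟩, ⟨18, 10⟩, ⟨21, 6⟩, ⟨13, 28⟩, ⟨25, 14⟩, ⟨33, 48⟩, ⟨15, 32⟩, ⟨14, 39⟩],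
  ![⟨0, 0⟩, ⟨0, 0⟩, ⟨0, 0⟩, ⟨0, 0⟩, ⟨1, 0⟩, ⟨0, 0⟩, ⟨0, 0⟩, ⟨0, 0⟩, ⟨0, 0⟩, ⟨0, 0⟩, ⟨0, 0⟩, ⟨0, 0⟩, ⟨0, 0⟩, ⟨1, 1⟩, ⟨1, 1⟩, ⟨1, 3⟩, ⟨0, 0⟩, ⟨-1, 3⟩, ⟨0, 0⟩, ⟨-2, 3⟩, ⟨0, 4⟩, ⟨-5, 3⟩, ⟨-4, 3⟩, ⟨-8, -1⟩, ⟨-5, 3⟩, ⟨-12, 2⟩, ⟨-8, -1⟩, ⟨-9, -2⟩],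
  ![⟨0, 0⟩, ⟨0, 0⟩, ⟨0, 0⟩, ⟨0, 0⟩, ⟨0, 0⟩, ⟨1, 0⟩, ⟨0, 0⟩, ⟨0, 0⟩, ⟨0, 0⟩, ⟨0, 0⟩, ⟨0, 0⟩, ⟨0, 0⟩, ⟨1, 1⟩, ⟨0, 2⟩, ⟨1, 1⟩, ⟨-2, 2⟩, ⟨0, 0⟩, ⟨-3, 2⟩, ⟨0, 0⟩, ⟨-5, 1⟩, ⟨-2, 4⟩, ⟨-5, 2⟩, ⟨-5, 1⟩, ⟨-8, -3⟩, ⟨-7, -1⟩, ⟨-14, -3⟩, ⟨-7, -5⟩, ⟨-5, -7⟩],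
  ![⟨0, 0⟩, ⟨0, 0⟩, ⟨0, 0⟩, ⟨0, 0⟩, ⟨0, 0⟩, ⟨0, 0⟩, ⟨1, 0⟩, ⟨0, 0⟩, ⟨0, 0⟩, ⟨0, 0⟩, ⟨0, 0⟩, ⟨0, 0⟩, ⟨1, 1⟩, ⟨0, 2⟩, ⟨0, 2⟩, ⟨-2, 2⟩, ⟨0, 0⟩, ⟨-3, 2⟩, ⟨0, 0⟩, ⟨-5, 1⟩, ⟨-4, 3⟩, ⟨-5, -1⟩, ⟨-6, -1⟩, ⟨-5, -7⟩, ⟨-8, -2⟩, ⟨-14, -9⟩, ⟨-6, -7⟩, ⟨-5, -10⟩],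
  ![⟨0, 0⟩, ⟨0, 0⟩, ⟨0, 0⟩, ⟨0, 0⟩, ⟨0, 0⟩, ⟨0, 0⟩, ⟨0, 0⟩, ⟨1, 0⟩, ⟨0, 0⟩, ⟨0, 0⟩, ⟨0, 0⟩, ⟨0, 0⟩, ⟨0, 0⟩, ⟨0, 0⟩, ⟨0, 0⟩, ⟨1, 1⟩, ⟨0, 0⟩, ⟨0, 1⟩, ⟨0, 0⟩, ⟨0, 1⟩, ⟨0, 2⟩, ⟨-2, 2⟩, ⟨-2, 2⟩, ⟨-5, 1⟩, ⟨-2, 1⟩, ⟨-6, 1⟩, ⟨-3, 0⟩, ⟨-4, 0⟩],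
  ![⟨0, 0⟩, ⟨0, 0⟩, ⟨0, 0⟩, ⟨0, 0⟩, ⟨0, 0⟩, ⟨0, 0⟩, ⟨0, 0⟩, ⟨0, 0⟩, ⟨1, 0⟩, ⟨0, 0⟩, ⟨0, 0⟩, ⟨0, 0⟩, ⟨0, 0⟩, ⟨0, 0⟩, ⟨0, 0⟩, ⟨1, 1⟩, ⟨0, 0⟩, ⟨0, 1⟩, ⟨0, 0⟩, ⟨0, 1⟩, ⟨0, 2⟩, ⟨-1, 2⟩, ⟨-2, 2⟩, ⟨-4, 0⟩, ⟨-1, 2⟩, ⟨-4, 3⟩, ⟨-3, 0⟩, ⟨-5, 0⟩],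
  ![⟨0, 0⟩, ⟨0, 0⟩, ⟨0, 0⟩, ⟨0, 0⟩, ⟨0, 0⟩, ⟨0, 0⟩, ⟨0, 0⟩, ⟨0, 0⟩, ⟨0, 0⟩, ⟨1, 0⟩, ⟨0, 0⟩, ⟨0, 0⟩, ⟨0, 0⟩, ⟨0, 0⟩, ⟨0, 0⟩, ⟨1, 1⟩, ⟨0, 0⟩, ⟨0, 1⟩, ⟨0, 0⟩, ⟨0, 1⟩, ⟨1, 2⟩, ⟨0, 2⟩, ⟨-1, 2⟩, ⟨-3, 3⟩, ⟨-2, 2⟩, ⟨-3, 4⟩, ⟨-3, 2⟩, ⟨-4, 1⟩],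
  ![⟨0, 0⟩, ⟨0, 0⟩, ⟨0, 0⟩, ⟨0, 0⟩, ⟨0, 0⟩, ⟨0, 0⟩, ⟨0, 0⟩, ⟨0, 0⟩, ⟨0, 0⟩, ⟨0, 0⟩, ⟨1, 0⟩, ⟨0, 0⟩, ⟨0, 0⟩, ⟨0, 0⟩, ⟨0, 0⟩, ⟨0, 0⟩, ⟨0, 0⟩, ⟨0, 0⟩, ⟨0, 0⟩, ⟨0, 0⟩, ⟨0, 0⟩, ⟨1, 1⟩, ⟨1, 1⟩, ⟨0, 2⟩, ⟨1, 2⟩, ⟨0, 3⟩, ⟨0, 3⟩, ⟨-1, 2⟩],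
  ![⟨0, 0⟩, ⟨0, 0⟩, ⟨0, 0⟩, ⟨0, 0⟩, ⟨0, 0⟩, ⟨0, 0⟩, ⟨0, 0⟩, ⟨0, 0⟩, ⟨0, 0⟩, ⟨0, 0⟩, ⟨0, 0⟩, ⟨1, 0⟩, ⟨0, 0⟩, ⟨0, 0⟩, ⟨0, 0⟩, ⟨0, 0⟩, ⟨0, 0⟩, ⟨0, 0⟩, ⟨0, 0⟩, ⟨0, 0⟩, ⟨1, 1⟩, ⟨0, 2⟩, ⟨1, 1⟩, ⟨-2, 2⟩, ⟨0, 2⟩, ⟨-2, 4⟩, ⟨-3, 3⟩, ⟨-1, 3⟩],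
  ![⟨0, 0⟩, ⟨0, 0⟩, ⟨0, 0⟩, ⟨0, 0⟩, ⟨0, 0⟩, ⟨0, 0⟩, ⟨0, 0⟩, ⟨0, 0⟩, ⟨0, 0⟩, ⟨0, 0⟩, ⟨0, 0⟩, ⟨0, 0⟩, ⟨-1, 0⟩, ⟨0, 0⟩, ⟨0, 0⟩, ⟨0, 0⟩, ⟨0, 0⟩, ⟨-1, -1⟩, ⟨0, 0⟩, ⟨0, -2⟩, ⟨0, 0⟩, ⟨0, 0⟩, ⟨0, 0⟩, ⟨0, 0⟩, ⟨0, -1⟩, ⟨1, -1⟩, ⟨0, -1⟩, ⟨1, -1⟩],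
  ![⟨0, 0⟩, ⟨0, 0⟩, ⟨0, 0⟩, ⟨0, 0⟩, ⟨0, 0⟩, ⟨0, 0⟩, ⟨0, 0⟩, ⟨0, 0⟩, ⟨0, 0⟩, ⟨0, 0⟩, ⟨0, 0⟩, ⟨0, 0⟩, ⟨0, 0⟩, ⟨-1, 0⟩, ⟨0, 0⟩, ⟨0, 0⟩, ⟨0, 0⟩, ⟨-1, -1⟩, ⟨0, 0⟩, ⟨0, -2⟩, ⟨0, 0⟩, ⟨0, 0⟩, ⟨0, 0⟩, ⟨0, 0⟩, ⟨0, -1⟩, ⟨1, -1⟩, ⟨0, -1⟩, ⟨1, -1⟩],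
  ![⟨0, 0⟩, ⟨0, 0⟩, ⟨0, 0⟩, ⟨0, 0⟩, ⟨0, 0⟩, ⟨0, 0⟩, ⟨0, 0⟩, ⟨0, 0⟩, ⟨0, 0⟩, ⟨0, 0⟩, ⟨0, 0⟩, ⟨0, 0⟩, ⟨0, 0⟩, ⟨0, 0⟩, ⟨-1, 0⟩, ⟨0, 0⟩, ⟨0, 0⟩, ⟨0, 0⟩, ⟨0, 0⟩, ⟨0, 0⟩, ⟨0, 0⟩, ⟨0, 0⟩, ⟨0, 0⟩, ⟨0, 0⟩, ⟨0, 0⟩, ⟨0, 0⟩, ⟨0, 0⟩, ⟨0, 0⟩],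
  ![⟨0, 0⟩, ⟨0, 0⟩, ⟨0, 0⟩, ⟨0, 0⟩, ⟨0, 0⟩, ⟨0, 0⟩, ⟨0, 0⟩, ⟨0, 0⟩, ⟨0, 0⟩, ⟨0, 0⟩, ⟨0, 0⟩, ⟨0, 0⟩, ⟨0, 0⟩, ⟨0, 0⟩, ⟨0, 0⟩, ⟨-1, 0⟩, ⟨0, 0⟩, ⟨-1, -1⟩, ⟨0, 0⟩, ⟨-1, -1⟩, ⟨0, 0⟩, ⟨0, 0⟩, ⟨0, 0⟩, ⟨0, 0⟩, ⟨0, -1⟩, ⟨1, -1⟩, ⟨0, -1⟩, ⟨1, -1⟩],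
  ![⟨0, 0⟩, ⟨0, 0⟩, ⟨0, 0⟩, ⟨0, 0⟩, ⟨0, 0⟩, ⟨0, 0⟩, ⟨0, 0⟩, ⟨0, 0⟩, ⟨0, 0⟩, ⟨0, 0⟩, ⟨0, 0⟩, ⟨0, 0⟩, ⟨0, 0⟩, ⟨0, 0⟩, ⟨0, 0⟩, ⟨0, 0⟩, ⟨1, 0⟩, ⟨0, 0⟩, ⟨0, 0⟩, ⟨0, 0⟩, ⟨0, 0⟩, ⟨0, 0⟩, ⟨1, 1⟩, ⟨1, 1⟩, ⟨1, 1⟩, ⟨1, 2⟩, ⟨0, 2⟩, ⟨-1, 2⟩],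
  ![⟨0, 0⟩, ⟨0, 0⟩, ⟨0, 0⟩, ⟨0, 0⟩, ⟨0, 0⟩, ⟨0, 0⟩, ⟨0, 0⟩, ⟨0, 0⟩, ⟨0, 0⟩, ⟨0, 0⟩, ⟨0, 0⟩, ⟨0, 0⟩, ⟨0, 0⟩, ⟨0, 0⟩, ⟨0, 0⟩, ⟨0, 0⟩, ⟨0, 0⟩, ⟨1, 0⟩, ⟨0, 0⟩, ⟨0, 0⟩, ⟨0, 0⟩, ⟨0, 0⟩, ⟨0, 0⟩, ⟨0, 0⟩, ⟨1, 1⟩, ⟨0, 2⟩, ⟨1, 1⟩, ⟨0, 2⟩],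
  ![⟨0, 0⟩, ⟨0, 0⟩, ⟨0, 0⟩, ⟨0, 0⟩, ⟨0, 0⟩, ⟨0, 0⟩, ⟨0, 0⟩, ⟨0, 0⟩, ⟨0, 0⟩, ⟨0, 0⟩, ⟨0, 0⟩, ⟨0, 0⟩, ⟨0, 0⟩, ⟨0, 0⟩, ⟨0, 0⟩, ⟨0, 0⟩, ⟨0, 0⟩, ⟨0, 0⟩, ⟨1, 0⟩, ⟨0, 0⟩, ⟨1, 1⟩, ⟨0, 2⟩, ⟨0, 2⟩, ⟨-2, 2⟩, ⟨-1, 2⟩, ⟨-3, 3⟩, ⟨-3, 1⟩, ⟨-2, 1⟩],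
  ![⟨0, 0⟩, ⟨0, 0⟩, ⟨0, 0⟩, ⟨0, 0⟩, ⟨0, 0⟩, ⟨0, 0⟩, ⟨0, 0⟩, ⟨0, 0⟩, ⟨0, 0⟩, ⟨0, 0⟩, ⟨0, 0⟩, ⟨0, 0⟩, ⟨0, 0⟩, ⟨0, 0⟩, ⟨0, 0⟩, ⟨0, 0⟩, ⟨0, 0⟩, ⟨0, 0⟩, ⟨0, 0⟩, ⟨1, 0⟩, ⟨0, 0⟩, ⟨0, 0⟩, ⟨0, 0⟩, ⟨0, 0⟩, ⟨0, 0⟩, ⟨0, 0⟩, ⟨0, 0⟩, ⟨0, 0⟩],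
  ![⟨0, 0⟩, ⟨0, 0⟩, ⟨0, 0⟩, ⟨0, 0⟩, ⟨0, 0⟩, ⟨0, 0⟩, ⟨0, 0⟩, ⟨0, 0⟩, ⟨0, 0⟩, ⟨0, 0⟩, ⟨0, 0⟩, ⟨0, 0⟩, ⟨0, 0⟩, ⟨0, 0⟩, ⟨0, 0⟩, ⟨0, 0⟩, ⟨0, 0⟩, ⟨0, 0⟩, ⟨0, 0⟩, ⟨0, 0⟩, ⟨-1, 0⟩, ⟨0, 0⟩, ⟨0, 0⟩, ⟨0, 0⟩, ⟨0, 0⟩, ⟨0, 0⟩, ⟨0, 0⟩, ⟨0, 0⟩],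
  ![⟨0, 0⟩, ⟨0, 0⟩, ⟨0, 0⟩, ⟨0, 0⟩, ⟨0, 0⟩, ⟨0, 0⟩, ⟨0, 0⟩, ⟨0, 0⟩, ⟨0, 0⟩, ⟨0, 0⟩, ⟨0, 0⟩, ⟨0, 0⟩, ⟨0, 0⟩, ⟨0, 0⟩, ⟨0, 0⟩, ⟨0, 0⟩, ⟨0, 0⟩, ⟨0, 0⟩, ⟨0, 0⟩, ⟨0, 0⟩, ⟨0, 0⟩, ⟨-1, 0⟩, ⟨0, 0⟩, ⟨0, 0⟩, ⟨0, 0⟩, ⟨0, 0⟩, ⟨0, 0⟩, ⟨0, 0⟩],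
  ![⟨0, 0⟩, ⟨0, 0⟩, ⟨0, 0⟩, ⟨0, 0⟩, ⟨0, 0⟩, ⟨0, 0⟩, ⟨0, 0⟩, ⟨0, 0⟩, ⟨0, 0⟩, ⟨0, 0⟩, ⟨0, 0⟩, ⟨0, 0⟩, ⟨0, 0⟩, ⟨0, 0⟩, ⟨0, 0⟩, ⟨0, 0⟩, ⟨0, 0⟩, ⟨0, 0⟩, ⟨0, 0⟩, ⟨0, 0⟩, ⟨0, 0⟩, ⟨0, 0⟩, ⟨-1, 0⟩, ⟨0, 0⟩, ⟨0, 0⟩, ⟨0, 0⟩, ⟨0, 0⟩, ⟨0, 0⟩],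
  ![⟨0, 0⟩, ⟨0, 0⟩, ⟨0, 0⟩, ⟨0, 0⟩, ⟨0, 0⟩, ⟨0, 0⟩, ⟨0, 0⟩, ⟨0, 0⟩, ⟨0, 0⟩, ⟨0, 0⟩, ⟨0, 0⟩, ⟨0, 0⟩, ⟨0, 0⟩, ⟨0, 0⟩, ⟨0, 0⟩, ⟨0, 0⟩, ⟨0, 0⟩, ⟨0, 0⟩, ⟨0, 0⟩, ⟨0, 0⟩, ⟨0, 0⟩, ⟨0, 0⟩, ⟨0, 0⟩, ⟨-1, 0⟩, ⟨0, 0⟩, ⟨0, 0⟩, ⟨0, 0⟩, ⟨0, 0⟩],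
  ![⟨0, 0⟩, ⟨0, 0⟩, ⟨0, 0⟩, ⟨0, 0⟩, ⟨0, 0⟩, ⟨0, 0⟩, ⟨0, 0⟩, ⟨0, 0⟩, ⟨0, 0⟩, ⟨0, 0⟩, ⟨0, 0⟩, ⟨0, 0⟩, ⟨0, 0⟩, ⟨0, 0⟩, ⟨0, 0⟩, ⟨0, 0⟩, ⟨0, 0⟩, ⟨0, 0⟩, ⟨0, 0⟩, ⟨0, 0⟩, ⟨0, 0⟩, ⟨0, 0⟩, ⟨0, 0⟩, ⟨0, 0⟩, ⟨-1, 0⟩, ⟨0, 0⟩, ⟨0, 0⟩, ⟨0, 0⟩],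
  ![⟨0, 0⟩, ⟨0, 0⟩, ⟨0, 0⟩, ⟨0, 0⟩, ⟨0, 0⟩, ⟨0, 0⟩, ⟨0, 0⟩, ⟨0, 0⟩, ⟨0, 0⟩, ⟨0, 0⟩, ⟨0, 0⟩, ⟨0, 0⟩, ⟨0, 0⟩, ⟨0, 0⟩, ⟨0, 0⟩, ⟨0, 0⟩, ⟨0, 0⟩, ⟨0, 0⟩, ⟨0, 0⟩, ⟨0, 0⟩, ⟨0, 0⟩, ⟨0, 0⟩, ⟨0, 0⟩, ⟨0, 0⟩, ⟨0, 0⟩, ⟨-1, 0⟩, ⟨0, 0⟩, ⟨0, 0⟩],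
  ![⟨0, 0⟩, ⟨0, 0⟩, ⟨0, 0⟩, ⟨0, 0⟩, ⟨0, 0⟩, ⟨0, 0⟩, ⟨0, 0⟩, ⟨0, 0⟩, ⟨0, 0⟩, ⟨0, 0⟩, ⟨0, 0⟩, ⟨0, 0⟩, ⟨0, 0⟩, ⟨0, 0⟩, ⟨0, 0⟩, ⟨0, 0⟩, ⟨0, 0⟩, ⟨0, 0⟩, ⟨0, 0⟩, ⟨0, 0⟩, ⟨0, 0⟩, ⟨0, 0⟩, ⟨0, 0⟩, ⟨0, 0⟩, ⟨0, 0⟩, ⟨0, 0⟩, ⟨-1, 0⟩, ⟨0, 0⟩],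
  ![⟨0, 0⟩, ⟨0, 0⟩, ⟨0, 0⟩, ⟨0, 0⟩, ⟨0, 0⟩, ⟨0, 0⟩, ⟨0, 0⟩, ⟨0, 0⟩, ⟨0, 0⟩, ⟨0, 0⟩, ⟨0, 0⟩, ⟨0, 0⟩, ⟨0, 0⟩, ⟨0, 0⟩, ⟨0, 0⟩, ⟨0, 0⟩, ⟨0, 0⟩, ⟨0, 0⟩, ⟨0, 0⟩, ⟨0, 0⟩, ⟨0, 0⟩, ⟨0, 0⟩, ⟨0, 0⟩, ⟨0, 0⟩, ⟨0, 0⟩, ⟨0, 0⟩, ⟨0, 0⟩, ⟨-1, 0⟩]]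

/-- coefficients of `ruShift (Bv j)` -/
def MShift : Fin 28 → Fin 28 → GaussianInt := ![![⟨0, 0⟩, ⟨0, -1⟩, ⟨0, 0⟩, ⟨0, -1⟩, ⟨0, 0⟩, ⟨1, -1⟩, ⟨1, -1⟩, ⟨2, -1⟩, ⟨0, 0⟩, ⟨0, -1⟩, ⟨3, 0⟩, ⟨3, 2⟩, ⟨2, -1⟩, ⟨2, 1⟩, ⟨3, 0⟩, ⟨4, 3⟩, ⟨4, -1⟩, ⟨7, 8⟩, ⟨5, 0⟩, ⟨7, 12⟩, ⟨10, 12⟩, ⟨-1, 21⟩, ⟨3, 23⟩, ⟨-21, 24⟩, ⟨-4, 29⟩, ⟨-31, 50⟩, ⟨-26, 27⟩, ⟨-30, 27⟩],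
  ![⟨0, 0⟩, ⟨0, -1⟩, ⟨0, -1⟩, ⟨1, -1⟩, ⟨0, 0⟩, ⟨1, -1⟩, ⟨1, -1⟩, ⟨4, 0⟩, ⟨0, -1⟩, ⟨1, -1⟩, ⟨5, 1⟩, ⟨3, 5⟩, ⟨3, -1⟩, ⟨3, 2⟩, ⟨4, 0⟩, ⟨6, 7⟩, ⟨6, 1⟩, ⟨8, 15⟩, ⟨6, 3⟩, ⟨6, 23⟩, ⟨8, 21⟩, ⟨-10, 28⟩, ⟨-6, 34⟩, ⟨-39, 25⟩, ⟨-18, 40⟩, ⟨-63, 57⟩, ⟨-46, 28⟩, ⟨-58, 26⟩],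
  ![⟨0, 0⟩, ⟨0, 0⟩, ⟨0, -1⟩, ⟨0, -1⟩, ⟨0, 0⟩, ⟨0, -1⟩, ⟨0, -1⟩, ⟨2, -2⟩, ⟨0, -1⟩, ⟨1, -1⟩, ⟨4, -1⟩, ⟨4, 2⟩, ⟨1, -2⟩, ⟨2, -1⟩, ⟨2, -2⟩, ⟨8, 1⟩, ⟨5, -2⟩, ⟨13, 4⟩, ⟨6, 0⟩, ⟨17, 10⟩, ⟨15, 10⟩, ⟨7, 23⟩, ⟨12, 25⟩, ⟨-13, 35⟩, ⟨9, 34⟩, ⟨-11, 67⟩, ⟨-15, 40⟩, ⟨-24, 46⟩],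
  ![⟨0, 0⟩, ⟨0, -1⟩, ⟨0, -1⟩, ⟨0, -1⟩, ⟨0, 0⟩, ⟨1, -1⟩, ⟨1, -2⟩, ⟨3, -1⟩, ⟨0, 0⟩, ⟨1, -1⟩, ⟨4, 0⟩, ⟨4, 3⟩, ⟨3, -2⟩, ⟨4, 1⟩, ⟨4, 0⟩, ⟨7, 7⟩, ⟨6, 0⟩, ⟨10, 13⟩, ⟨6, 2⟩, ⟨10, 22⟩, ⟨12, 20⟩, ⟨-6, 29⟩, ⟨-2, 33⟩, ⟨-34, 30⟩, ⟨-11, 41⟩, ⟨-52, 67⟩, ⟨-40, 33⟩, ⟨-50, 33⟩],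
  ![⟨1, 0⟩, ⟨0, -1⟩, ⟨0, -1⟩, ⟨1, -1⟩, ⟨0, 0⟩, ⟨2, 0⟩, ⟨1, -1⟩, ⟨3, 1⟩, ⟨0, 0⟩, ⟨0, -1⟩, ⟨3, 2⟩, ⟨2, 3⟩, ⟨3, 0⟩, ⟨2, 3⟩, ⟨4, 1⟩, ⟨2, 8⟩, ⟨5, 3⟩, ⟨2, 15⟩, ⟨3, 4⟩, ⟨-2, 21⟩, ⟨0, 19⟩, ⟨-18, 19⟩, ⟨-15, 24⟩, ⟨-38, 7⟩, ⟨-25, 27⟩, ⟨-68, 28⟩, ⟨-43, 9⟩, ⟨-52, 4⟩],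
  ![⟨0, 0⟩, ⟨1, 1⟩, ⟨0, 0⟩, ⟨-1, 1⟩, ⟨0, 0⟩, ⟨-1, 1⟩, ⟨-2, 1⟩, ⟨-4, -1⟩, ⟨0, -1⟩, ⟨0, 0⟩, ⟨-3, -2⟩, ⟨-1, -3⟩, ⟨-3, 0⟩, ⟨-2, -3⟩, ⟨-4, -1⟩, ⟨-1, -9⟩, ⟨-6, -3⟩, ⟨-1, -16⟩, ⟨-3, -5⟩, ⟨3, -22⟩, ⟨2, -19⟩, ⟨19, -18⟩, ⟨17, -22⟩, ⟨38, -4⟩, ⟨28, -25⟩, ⟨71, -23⟩, ⟨44, -7⟩, ⟨54, 2⟩],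
  ![⟨0, 0⟩, ⟨0, 0⟩, ⟨1, 1⟩, ⟨-1, 1⟩, ⟨0, 0⟩, ⟨-1, 0⟩, ⟨-1, 1⟩, ⟨-3, 0⟩, ⟨0, -1⟩, ⟨0, 0⟩, ⟨-2, -2⟩, ⟨-1, -2⟩, ⟨-2, 0⟩, ⟨-1, -2⟩, ⟨-3, -1⟩, ⟨-2, -6⟩, ⟨-4, -1⟩, ⟨-1, -10⟩, ⟨-3, -3⟩, ⟨0, -14⟩, ⟨1, -15⟩, ⟨14, -15⟩, ⟨12, -18⟩, ⟨30, -3⟩, ⟨20, -19⟩, ⟨52, -19⟩, ⟨32, -5⟩, ⟨40, -1⟩],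
  ![⟨0, 0⟩, ⟨0, 0⟩, ⟨0, 0⟩, ⟨1, -1⟩, ⟨0, 0⟩, ⟨1, 0⟩, ⟨0, 0⟩, ⟨2, 0⟩, ⟨0, 0⟩, ⟨0, 0⟩, ⟨2, 2⟩, ⟨0, 2⟩, ⟨0, 0⟩, ⟨0, 0⟩, ⟨1, -1⟩, ⟨1, 1⟩, ⟨2, 1⟩, ⟨2, 4⟩, ⟨2, 2⟩, ⟨2, 6⟩, ⟨1, 5⟩, ⟨-4, 8⟩, ⟨-4, 10⟩, ⟨-13, 5⟩, ⟨-7, 11⟩, ⟨-21, 13⟩, ⟨-14, 6⟩, ⟨-18, 5⟩],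
  ![⟨0, 0⟩, ⟨0, 0⟩, ⟨0, 0⟩, ⟨0, 0⟩, ⟨1, 0⟩, ⟨0, 0⟩, ⟨0, 0⟩, ⟨0, 1⟩, ⟨0, 0⟩, ⟨0, 0⟩, ⟨0, 1⟩, ⟨-1, 0⟩, ⟨0, 0⟩, ⟨1, 0⟩, ⟨0, 0⟩, ⟨0, 2⟩, ⟨-1, 0⟩, ⟨-2, 2⟩, ⟨0, 0⟩, ⟨-3, 2⟩, ⟨-1, 0⟩, ⟨-3, 0⟩, ⟨-3, 0⟩, ⟨-3, -3⟩, ⟨-4, 0⟩, ⟨-5, -5⟩, ⟨-4, -3⟩, ⟨-4, -6⟩],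
  ![⟨0, 0⟩, ⟨0, 0⟩, ⟨0, 0⟩, ⟨0, 0⟩, ⟨0, 0⟩, ⟨1, 0⟩, ⟨0, 0⟩, ⟨1, 0⟩, ⟨0, 0⟩, ⟨0, 0⟩, ⟨1, 1⟩, ⟨0, 1⟩, ⟨0, 0⟩, ⟨0, 1⟩, ⟨0, 0⟩, ⟨0, 1⟩, ⟨0, 1⟩, ⟨-1, 3⟩, ⟨0, 1⟩, ⟨-2, 3⟩, ⟨-1, 3⟩, ⟨-5, 3⟩, ⟨-5, 3⟩, ⟨-9, -1⟩, ⟨-7, 2⟩, ⟨-15, -1⟩, ⟨-9, -3⟩, ⟨-9, -4⟩],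
  ![⟨0, 0⟩, ⟨0, 0⟩, ⟨0, 0⟩, ⟨0, 0⟩, ⟨0, 0⟩, ⟨0, 0⟩, ⟨1, -1⟩, ⟨1, -1⟩, ⟨0, 0⟩, ⟨0, 0⟩, ⟨1, 0⟩, ⟨1, 1⟩, ⟨1, 0⟩, ⟨1, 0⟩, ⟨1, 1⟩, ⟨1, 2⟩, ⟨2, 0⟩, ⟨2, 3⟩, ⟨2, 0⟩, ⟨3, 5⟩, ⟨2, 5⟩, ⟨-2, 7⟩, ⟨-1, 9⟩, ⟨-9, 7⟩, ⟨-4, 11⟩, ⟨-16, 16⟩, ⟨-12, 8⟩, ⟨-14, 7⟩],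
  ![⟨0, 0⟩, ⟨0, 0⟩, ⟨0, 0⟩, ⟨0, 0⟩, ⟨0, 0⟩, ⟨0, 0⟩, ⟨0, 0⟩, ⟨1, 1⟩, ⟨0, 0⟩, ⟨0, 0⟩, ⟨0, 1⟩, ⟨-1, 1⟩, ⟨0, 0⟩, ⟨0, 0⟩, ⟨0, 0⟩, ⟨-1, 1⟩, ⟨-1, 1⟩, ⟨-2, 1⟩, ⟨-2, 0⟩, ⟨-4, 2⟩, ⟨-3, -1⟩, ⟨-3, -4⟩, ⟨-4, -3⟩, ⟨-1, -7⟩, ⟨-4, -4⟩, ⟨-3, -12⟩, ⟨0, -7⟩, ⟨-1, -9⟩],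
  ![⟨0, 0⟩, ⟨0, 0⟩, ⟨0, 0⟩, ⟨0, 0⟩, ⟨0, 0⟩, ⟨0, 0⟩, ⟨0, 0⟩, ⟨0, 0⟩, ⟨1, 1⟩, ⟨-1, 1⟩, ⟨-1, 0⟩, ⟨-1, -2⟩, ⟨0, 0⟩, ⟨0, -1⟩, ⟨0, 0⟩, ⟨-1, 0⟩, ⟨-2, 0⟩, ⟨-2, -1⟩, ⟨-2, 0⟩, ⟨-1, -2⟩, ⟨-2, -3⟩, ⟨1, -4⟩, ⟨-2, -6⟩, ⟨3, -6⟩, ⟨1, -7⟩, ⟨7, -10⟩, ⟨7, -6⟩, ⟨8, -9⟩],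
  ![⟨0, 0⟩, ⟨0, 0⟩, ⟨0, 0⟩, ⟨0, 0⟩, ⟨0, 0⟩, ⟨0, 0⟩, ⟨0, 0⟩, ⟨0, 0⟩, ⟨0, 0⟩, ⟨1, -1⟩, ⟨0, 0⟩, ⟨0, 0⟩, ⟨0, 0⟩, ⟨0, -1⟩, ⟨0, 0⟩, ⟨1, -1⟩, ⟨0, 0⟩, ⟨1, -1⟩, ⟨1, -1⟩, ⟨2, -1⟩, ⟨4, -1⟩, ⟨4, 2⟩, ⟨4, 3⟩, ⟨2, 8⟩, ⟨3, 4⟩, ⟨6, 9⟩, ⟨0, 7⟩, ⟨1, 7⟩],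
  ![⟨0, 0⟩, ⟨0, 0⟩, ⟨0, 0⟩, ⟨0, 0⟩, ⟨0, 0⟩, ⟨0, 0⟩, ⟨0, 0⟩, ⟨0, 0⟩, ⟨0, 0⟩, ⟨0, 0⟩, ⟨1, 0⟩, ⟨0, 0⟩, ⟨0, 0⟩, ⟨0, 0⟩, ⟨0, 0⟩, ⟨0, 0⟩, ⟨-1, 0⟩, ⟨0, 0⟩, ⟨0, -1⟩, ⟨0, 0⟩, ⟨1, -1⟩, ⟨2, 0⟩, ⟨1, 0⟩, ⟨1, 2⟩, ⟨1, 1⟩, ⟨2, 2⟩, ⟨1, 2⟩, ⟨1, 1⟩],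
  ![⟨0, 0⟩, ⟨0, 0⟩, ⟨0, 0⟩, ⟨0, 0⟩, ⟨0, 0⟩, ⟨0, 0⟩, ⟨0, 0⟩, ⟨0, 0⟩, ⟨0, 0⟩, ⟨0, 0⟩, ⟨0, 0⟩, ⟨1, 0⟩, ⟨0, 0⟩, ⟨0, -1⟩, ⟨0, 0⟩, ⟨0, 0⟩, ⟨-1, 0⟩, ⟨0, -1⟩, ⟨0, -1⟩, ⟨1, 0⟩, ⟨1, -1⟩, ⟨2, 1⟩, ⟨2, 0⟩, ⟨1, 2⟩, ⟨2, 1⟩, ⟨3, 3⟩, ⟨0, 3⟩, ⟨2, 2⟩],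
  ![⟨0, 0⟩, ⟨0, 0⟩, ⟨0, 0⟩, ⟨0, 0⟩, ⟨0, 0⟩, ⟨0, 0⟩, ⟨0, 0⟩, ⟨0, 0⟩, ⟨0, 0⟩, ⟨0, 0⟩, ⟨0, 0⟩, ⟨0, 0⟩, ⟨1, 0⟩, ⟨0, 0⟩, ⟨0, 0⟩, ⟨0, 1⟩, ⟨0, 0⟩, ⟨0, 1⟩, ⟨0, -1⟩, ⟨-1, 1⟩, ⟨0, 0⟩, ⟨0, 0⟩, ⟨0, 0⟩, ⟨0, 0⟩, ⟨0, 1⟩, ⟨-1, 1⟩, ⟨0, 1⟩, ⟨-1, 0⟩],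
  ![⟨0, 0⟩, ⟨0, 0⟩, ⟨0, 0⟩, ⟨0, 0⟩, ⟨0, 0⟩, ⟨0, 0⟩, ⟨0, 0⟩, ⟨0, 0⟩, ⟨0, 0⟩, ⟨0, 0⟩, ⟨0, 0⟩, ⟨0, 0⟩, ⟨0, 0⟩, ⟨1, 1⟩, ⟨0, 0⟩, ⟨-1, 1⟩, ⟨0, 0⟩, ⟨-1, 1⟩, ⟨0, 0⟩, ⟨-2, 1⟩, ⟨-1, 0⟩, ⟨-2, -1⟩, ⟨-2, 0⟩, ⟨-1, -3⟩, ⟨-3, 0⟩, ⟨-4, -3⟩, ⟨-2, -3⟩, ⟨-2, -4⟩],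
  ![⟨0, 0⟩, ⟨0, 0⟩, ⟨0, 0⟩, ⟨0, 0⟩, ⟨0, 0⟩, ⟨0, 0⟩, ⟨0, 0⟩, ⟨0, 0⟩, ⟨0, 0⟩, ⟨0, 0⟩, ⟨0, 0⟩, ⟨0, 0⟩, ⟨0, 0⟩, ⟨0, 0⟩, ⟨1, 0⟩, ⟨0, 1⟩, ⟨-1, 0⟩, ⟨-1, 0⟩, ⟨0, -1⟩, ⟨-1, 0⟩, ⟨1, 0⟩, ⟨1, 1⟩, ⟨0, 1⟩, ⟨-1, 2⟩, ⟨-1, 1⟩, ⟨-1, 2⟩, ⟨-2, 1⟩, ⟨-1, -1⟩],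
  ![⟨0, 0⟩, ⟨0, 0⟩, ⟨0, 0⟩, ⟨0, 0⟩, ⟨0, 0⟩, ⟨0, 0⟩, ⟨0, 0⟩, ⟨0, 0⟩, ⟨0, 0⟩, ⟨0, 0⟩, ⟨0, 0⟩, ⟨0, 0⟩, ⟨0, 0⟩, ⟨0, 0⟩, ⟨0, 0⟩, ⟨1, -1⟩, ⟨0, 0⟩, ⟨1, 0⟩, ⟨0, 0⟩, ⟨1, 0⟩, ⟨1, 0⟩, ⟨1, 1⟩, ⟨1, 1⟩, ⟨0, 2⟩, ⟨1, 1⟩, ⟨1, 3⟩, ⟨0, 2⟩, ⟨0, 3⟩],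
  ![⟨0, 0⟩, ⟨0, 0⟩, ⟨0, 0⟩, ⟨0, 0⟩, ⟨0, 0⟩, ⟨0, 0⟩, ⟨0, 0⟩, ⟨0, 0⟩, ⟨0, 0⟩, ⟨0, 0⟩, ⟨0, 0⟩, ⟨0, 0⟩, ⟨0, 0⟩, ⟨0, 0⟩, ⟨0, 0⟩, ⟨0, 0⟩, ⟨1, -1⟩, ⟨0, -1⟩, ⟨1, -1⟩, ⟨1, -2⟩, ⟨1, 0⟩, ⟨0, 1⟩, ⟨2, 1⟩, ⟨0, 1⟩, ⟨2, 1⟩, ⟨2, 3⟩, ⟨0, 2⟩, ⟨1, 3⟩],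
  ![⟨0, 0⟩, ⟨0, 0⟩, ⟨0, 0⟩, ⟨0, 0⟩, ⟨0, 0⟩, ⟨0, 0⟩, ⟨0, 0⟩, ⟨0, 0⟩, ⟨0, 0⟩, ⟨0, 0⟩, ⟨0, 0⟩, ⟨0, 0⟩, ⟨0, 0⟩, ⟨0, 0⟩, ⟨0, 0⟩, ⟨0, 0⟩, ⟨0, 0⟩, ⟨1, 0⟩, ⟨0, 0⟩, ⟨0, 0⟩, ⟨0, 0⟩, ⟨-1, 0⟩, ⟨-1, 0⟩, ⟨-1, -1⟩, ⟨0, 0⟩, ⟨-1, 0⟩, ⟨0, -1⟩, ⟨0, 0⟩],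
  ![⟨0, 0⟩, ⟨0, 0⟩, ⟨0, 0⟩, ⟨0, 0⟩, ⟨0, 0⟩, ⟨0, 0⟩, ⟨0, 0⟩, ⟨0, 0⟩, ⟨0, 0⟩, ⟨0, 0⟩, ⟨0, 0⟩, ⟨0, 0⟩, ⟨0, 0⟩, ⟨0, 0⟩, ⟨0, 0⟩, ⟨0, 0⟩, ⟨0, 0⟩, ⟨0, 0⟩, ⟨1, 1⟩, ⟨0, 0⟩, ⟨0, 0⟩, ⟨-1, 1⟩, ⟨-1, 0⟩, ⟨-1, -1⟩, ⟨-1, 0⟩, ⟨-2, -1⟩, ⟨-1, -1⟩, ⟨0, -1⟩],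
  ![⟨0, 0⟩, ⟨0, 0⟩, ⟨0, 0⟩, ⟨0, 0⟩, ⟨0, 0⟩, ⟨0, 0⟩, ⟨0, 0⟩, ⟨0, 0⟩, ⟨0, 0⟩, ⟨0, 0⟩, ⟨0, 0⟩, ⟨0, 0⟩, ⟨0, 0⟩, ⟨0, 0⟩, ⟨0, 0⟩, ⟨0, 0⟩, ⟨0, 0⟩, ⟨0, 0⟩, ⟨0, 0⟩, ⟨1, 0⟩, ⟨0, 0⟩, ⟨0, 0⟩, ⟨0, 0⟩, ⟨0, 0⟩, ⟨0, 0⟩, ⟨0, 0⟩, ⟨0, 0⟩, ⟨0, 0⟩],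
  ![⟨0, 0⟩, ⟨0, 0⟩, ⟨0, 0⟩, ⟨0, 0⟩, ⟨0, 0⟩, ⟨0, 0⟩, ⟨0, 0⟩, ⟨0, 0⟩, ⟨0, 0⟩, ⟨0, 0⟩, ⟨0, 0⟩, ⟨0, 0⟩, ⟨0, 0⟩, ⟨0, 0⟩, ⟨0, 0⟩, ⟨0, 0⟩, ⟨0, 0⟩, ⟨0, 0⟩, ⟨0, 0⟩, ⟨0, 0⟩, ⟨1, 1⟩, ⟨-1, 1⟩, ⟨-1, 1⟩, ⟨-3, 0⟩, ⟨-1, 0⟩, ⟨-2, 1⟩, ⟨-2, -1⟩, ⟨-1, 0⟩],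
  ![⟨0, 0⟩, ⟨0, 0⟩, ⟨0, 0⟩, ⟨0, 0⟩, ⟨0, 0⟩, ⟨0, 0⟩, ⟨0, 0⟩, ⟨0, 0⟩, ⟨0, 0⟩, ⟨0, 0⟩, ⟨0, 0⟩, ⟨0, 0⟩, ⟨0, 0⟩, ⟨0, 0⟩, ⟨0, 0⟩, ⟨0, 0⟩, ⟨0, 0⟩, ⟨0, 0⟩, ⟨0, 0⟩, ⟨0, 0⟩, ⟨0, 0⟩, ⟨1, -1⟩, ⟨0, 0⟩, ⟨1, 0⟩, ⟨0, 0⟩, ⟨1, 0⟩, ⟨1, 0⟩, ⟨0, 0⟩],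
  ![⟨0, 0⟩, ⟨0, 0⟩, ⟨0, 0⟩, ⟨0, 0⟩, ⟨0, 0⟩, ⟨0, 0⟩, ⟨0, 0⟩, ⟨0, 0⟩, ⟨0, 0⟩, ⟨0, 0⟩, ⟨0, 0⟩, ⟨0, 0⟩, ⟨0, 0⟩, ⟨0, 0⟩, ⟨0, 0⟩, ⟨0, 0⟩, ⟨0, 0⟩, ⟨0, 0⟩, ⟨0, 0⟩, ⟨0, 0⟩, ⟨0, 0⟩, ⟨0, 0⟩, ⟨1, -1⟩, ⟨1, 0⟩, ⟨1, 0⟩, ⟨1, 0⟩, ⟨1, 1⟩, ⟨1, 1⟩],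
  ![⟨0, 0⟩, ⟨0, 0⟩, ⟨0, 0⟩, ⟨0, 0⟩, ⟨0, 0⟩, ⟨0, 0⟩, ⟨0, 0⟩, ⟨0, 0⟩, ⟨0, 0⟩, ⟨0, 0⟩, ⟨0, 0⟩, ⟨0, 0⟩, ⟨0, 0⟩, ⟨0, 0⟩, ⟨0, 0⟩, ⟨0, 0⟩, ⟨0, 0⟩, ⟨0, 0⟩, ⟨0, 0⟩, ⟨0, 0⟩, ⟨0, 0⟩, ⟨0, 0⟩, ⟨0, 0⟩, ⟨1, 0⟩, ⟨0, 0⟩, ⟨0, 0⟩, ⟨0, 0⟩, ⟨0, 0⟩]]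

/-- coefficients of the table vectors -/
def TA : Fin 20 → Fin 28 → GaussianInt := ![![⟨4, 0⟩, ⟨0, 0⟩, ⟨0, 0⟩, ⟨2, 2⟩, ⟨0, 0⟩, ⟨2, 4⟩, ⟨0, 2⟩, ⟨-2, 8⟩, ⟨0, 0⟩, ⟨0, 0⟩, ⟨-7, 7⟩, ⟨-7, 1⟩, ⟨-2, 4⟩, ⟨-6, 4⟩, ⟨0, 4⟩, ⟨-14, 2⟩, ⟨-5, 11⟩, ⟨-28, 1⟩, ⟨-10, 6⟩, ⟨-40, -7⟩, ⟨-34, -4⟩, ⟨-36, -37⟩, ⟨-44, -29⟩, ⟨-9, -73⟩, ⟨-48, -51⟩, ⟨-40, -132⟩, ⟨-12, -87⟩, ⟨-1, -99⟩],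
  ![⟨0, -1⟩, ⟨1, 0⟩, ⟨1, 0⟩, ⟨2, 0⟩, ⟨0, 0⟩, ⟨2, 1⟩, ⟨2, 2⟩, ⟨2, 5⟩, ⟨0, 0⟩, ⟨1, 1⟩, ⟨0, 7⟩, ⟨-5, 5⟩, ⟨2, 4⟩, ⟨-1, 5⟩, ⟨0, 5⟩, ⟨-9, 10⟩, ⟨1, 9⟩, ⟨-18, 15⟩, ⟨-3, 9⟩, ⟨-30, 16⟩, ⟨-27, 15⟩, ⟨-41, -7⟩, ⟨-46, 0⟩, ⟨-42, -46⟩, ⟨-58, -13⟩, ⟨-94, -71⟩, ⟨-49, -54⟩, ⟨-49, -70⟩],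
  ![⟨0, -1⟩, ⟨1, 0⟩, ⟨-1, 0⟩, ⟨0, 0⟩, ⟨0, 0⟩, ⟨1, 0⟩, ⟨0, 0⟩, ⟨1, 0⟩, ⟨0, 0⟩, ⟨0, 0⟩, ⟨1, 1⟩, ⟨0, 1⟩, ⟨1, 0⟩, ⟨1, 1⟩, ⟨1, 1⟩, ⟨1, 2⟩, ⟨1, 0⟩, ⟨0, 4⟩, ⟨1, 1⟩, ⟨-1, 6⟩, ⟨1, 7⟩, ⟨-6, 7⟩, ⟨-4, 8⟩, ⟨-13, 3⟩, ⟨-8, 8⟩, ⟨-22, 8⟩, ⟨-15, 1⟩, ⟨-15, 2⟩],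
  ![⟨0, -1⟩, ⟨-1, 0⟩, ⟨1, 0⟩, ⟨0, 0⟩, ⟨0, 0⟩, ⟨0, -1⟩, ⟨0, 0⟩, ⟨1, 0⟩, ⟨0, 0⟩, ⟨0, 0⟩, ⟨1, 0⟩, ⟨1, 0⟩, ⟨1, -1⟩, ⟨2, 0⟩, ⟨1, -2⟩, ⟨3, 2⟩, ⟨2, 0⟩, ⟨5, 4⟩, ⟨1, 1⟩, ⟨5, 8⟩, ⟨6, 4⟩, ⟨1, 10⟩, ⟨3, 10⟩, ⟨-7, 14⟩, ⟨1, 14⟩, ⟨-8, 27⟩, ⟨-10, 16⟩, ⟨-12, 15⟩],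
  ![⟨0, -1⟩, ⟨-1, 0⟩, ⟨-1, 0⟩, ⟨0, -2⟩, ⟨0, 0⟩, ⟨1, -2⟩, ⟨0, -2⟩, ⟨4, -3⟩, ⟨0, 0⟩, ⟨-1, -1⟩, ⟨5, -1⟩, ⟨5, 1⟩, ⟨2, -3⟩, ⟨4, 0⟩, ⟨4, -4⟩, ⟨10, 3⟩, ⟨7, -4⟩, ⟨17, 9⟩, ⟨7, -1⟩, ⟨21, 17⟩, ⟨22, 13⟩, ⟨9, 34⟩, ⟨18, 34⟩, ⟨-19, 49⟩, ⟨12, 49⟩, ⟨-18, 96⟩, ⟨-22, 58⟩, ⟨-34, 63⟩],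
  ![⟨1, 0⟩, ⟨1, 0⟩, ⟨1, 0⟩, ⟨2, 1⟩, ⟨1, 0⟩, ⟨2, 3⟩, ⟨2, 3⟩, ⟨-1, 8⟩, ⟨1, 0⟩, ⟨1, 2⟩, ⟨-4, 9⟩, ⟨-9, 4⟩, ⟨0, 6⟩, ⟨-5, 6⟩, ⟨-2, 7⟩, ⟨-16, 8⟩, ⟨-4, 12⟩, ⟨-32, 10⟩, ⟨-8, 10⟩, ⟨-47, 3⟩, ⟨-44, 6⟩, ⟨-51, -32⟩, ⟨-61, -25⟩, ⟨-32, -86⟩, ⟨-69, -49⟩, ⟨-84, -145⟩, ⟨-35, -99⟩, ⟨-28, -119⟩],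
  ![⟨1, 0⟩, ⟨1, 0⟩, ⟨1, 0⟩, ⟨2, 1⟩, ⟨0, 0⟩, ⟨1, 3⟩, ⟨2, 3⟩, ⟨-1, 7⟩, ⟨0, 0⟩, ⟨1, 1⟩, ⟨-5, 7⟩, ⟨-8, 3⟩, ⟨-1, 6⟩, ⟨-6, 5⟩, ⟨-3, 6⟩, ⟨-16, 4⟩, ⟨-4, 11⟩, ⟨-30, 4⟩, ⟨-8, 8⟩, ⟨-43, -4⟩, ⟨-41, -1⟩, ⟨-41, -37⟩, ⟨-51, -30⟩, ⟨-15, -81⟩, ⟨-56, -53⟩, ⟨-57, -143⟩, ⟨-18, -93⟩, ⟨-9, -110⟩],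
  ![⟨1, 0⟩, ⟨1, 0⟩, ⟨1, 0⟩, ⟨2, 1⟩, ⟨0, 0⟩, ⟨2, 3⟩, ⟨1, 3⟩, ⟨-1, 7⟩, ⟨0, 0⟩, ⟨1, 1⟩, ⟨-4, 8⟩, ⟨-8, 4⟩, ⟨0, 6⟩, ⟨-6, 5⟩, ⟨-2, 6⟩, ⟨-16, 5⟩, ⟨-4, 11⟩, ⟨-30, 6⟩, ⟨-8, 8⟩, ⟨-44, -1⟩, ⟨-40, 2⟩, ⟨-43, -33⟩, ⟨-52, -26⟩, ⟨-22, -78⟩, ⟨-59, -49⟩, ⟨-66, -137⟩, ⟨-25, -91⟩, ⟨-16, -108⟩],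
  ![⟨1, 0⟩, ⟨1, 0⟩, ⟨-1, 0⟩, ⟨0, 1⟩, ⟨0, 0⟩, ⟨1, 1⟩, ⟨0, 1⟩, ⟨-1, 2⟩, ⟨0, 0⟩, ⟨0, 0⟩, ⟨-2, 2⟩, ⟨-2, 0⟩, ⟨-1, 2⟩, ⟨-2, 1⟩, ⟨-1, 2⟩, ⟨-5, -1⟩, ⟨-3, 2⟩, ⟨-10, -2⟩, ⟨-3, 0⟩, ⟨-13, -6⟩, ⟨-10, -3⟩, ⟨-8, -13⟩, ⟨-11, -12⟩, ⟨1, -23⟩, ⟨-12, -20⟩, ⟨-4, -45⟩, ⟨1, -29⟩, ⟨8, -31⟩],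
  ![⟨1, 0⟩, ⟨1, 0⟩, ⟨-1, 0⟩, ⟨0, 1⟩, ⟨0, 0⟩, ⟨0, 1⟩, ⟨-1, 1⟩, ⟨-2, 1⟩, ⟨0, 0⟩, ⟨0, 0⟩, ⟨-3, 0⟩, ⟨-2, -2⟩, ⟨-1, 1⟩, ⟨-1, 0⟩, ⟨-1, 1⟩, ⟨-3, -2⟩, ⟨-4, 1⟩, ⟨-7, -5⟩, ⟨-3, -1⟩, ⟨-8, -9⟩, ⟨-5, -6⟩, ⟨0, -13⟩, ⟨-4, -13⟩, ⟨10, -15⟩, ⟨-2, -19⟩, ⟨15, -34⟩, ⟨12, -22⟩, ⟨18, -21⟩],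
  ![⟨1, 0⟩, ⟨1, 0⟩, ⟨-1, 0⟩, ⟨0, 1⟩, ⟨1, 0⟩, ⟨1, 2⟩, ⟨0, 1⟩, ⟨-1, 3⟩, ⟨0, -1⟩, ⟨1, 0⟩, ⟨-2, 3⟩, ⟨-3, 2⟩, ⟨-1, 2⟩, ⟨-2, 2⟩, ⟨0, 3⟩, ⟨-4, 1⟩, ⟨-3, 4⟩, ⟨-12, 2⟩, ⟨-3, 2⟩, ⟨-17, -2⟩, ⟨-13, 3⟩, ⟨-17, -11⟩, ⟨-20, -7⟩, ⟨-13, -28⟩, ⟨-24, -18⟩, ⟨-27, -51⟩, ⟨-14, -37⟩, ⟨-9, -39⟩],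
  ![⟨1, 0⟩, ⟨1, 0⟩, ⟨-1, 0⟩, ⟨0, 1⟩, ⟨0, -1⟩, ⟨1, 1⟩, ⟨0, 0⟩, ⟨0, 2⟩, ⟨1, 0⟩, ⟨1, 0⟩, ⟨-1, 2⟩, ⟨-2, 1⟩, ⟨0, 1⟩, ⟨0, 1⟩, ⟨1, 2⟩, ⟨-1, 2⟩, ⟨-1, 3⟩, ⟨-6, 4⟩, ⟨-1, 2⟩, ⟨-9, 3⟩, ⟨-6, 6⟩, ⟨-12, -1⟩, ⟨-15, 2⟩, ⟨-16, -12⟩, ⟨-19, -4⟩, ⟨-28, -21⟩, ⟨-17, -19⟩, ⟨-16, -21⟩],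
  ![⟨1, 0⟩, ⟨-1, 0⟩, ⟨1, 0⟩, ⟨0, 1⟩, ⟨0, -1⟩, ⟨0, 0⟩, ⟨0, 0⟩, ⟨0, 1⟩, ⟨0, 0⟩, ⟨0, 0⟩, ⟨0, 0⟩, ⟨1, 0⟩, ⟨0, 0⟩, ⟨0, 0⟩, ⟨1, -1⟩, ⟨0, 0⟩, ⟨0, 2⟩, ⟨1, 1⟩, ⟨-1, 1⟩, ⟨0, 3⟩, ⟨0, 0⟩, ⟨-1, 1⟩, ⟨-1, 1⟩, ⟨-2, 2⟩, ⟨-2, 2⟩, ⟨-4, 2⟩, ⟨-4, 2⟩, ⟨-3, 0⟩],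
  ![⟨1, 0⟩, ⟨-1, 0⟩, ⟨1, 0⟩, ⟨0, 1⟩, ⟨-1, 0⟩, ⟨-1, 0⟩, ⟨-1, 0⟩, ⟨-1, 0⟩, ⟨0, 0⟩, ⟨0, 0⟩, ⟨-2, -2⟩, ⟨0, -2⟩, ⟨-1, -1⟩, ⟨-1, -2⟩, ⟨0, -2⟩, ⟨0, -3⟩, ⟨-1, 0⟩, ⟨2, -7⟩, ⟨-2, -1⟩, ⟨4, -7⟩, ⟨2, -8⟩, ⟨9, -7⟩, ⟨8, -8⟩, ⟨18, 2⟩, ⟨14, -8⟩, ⟨32, -2⟩, ⟨20, 2⟩, ⟨22, 4⟩],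
  ![⟨1, 0⟩, ⟨-1, 0⟩, ⟨1, 0⟩, ⟨0, 1⟩, ⟨0, 0⟩, ⟨0, 1⟩, ⟨-1, 1⟩, ⟨-2, 2⟩, ⟨1, 0⟩, ⟨1, 0⟩, ⟨-3, 1⟩, ⟨-2, -1⟩, ⟨-1, 1⟩, ⟨-3, 0⟩, ⟨-1, 0⟩, ⟨-4, -1⟩, ⟨-3, 2⟩, ⟨-8, -4⟩, ⟨-3, 1⟩, ⟨-9, -8⟩, ⟨-8, -6⟩, ⟨-4, -14⟩, ⟨-7, -14⟩, ⟨8, -19⟩, ⟨-5, -21⟩, ⟨11, -40⟩, ⟨9, -24⟩, ⟨15, -27⟩],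
  ![⟨1, 0⟩, ⟨-1, 0⟩, ⟨1, 0⟩, ⟨0, 1⟩, ⟨0, 0⟩, ⟨0, 0⟩, ⟨-1, 0⟩, ⟨-1, 1⟩, ⟨0, -1⟩, ⟨1, 0⟩, ⟨-1, 0⟩, ⟨0, 0⟩, ⟨0, -1⟩, ⟨0, -1⟩, ⟨1, -1⟩, ⟨1, 0⟩, ⟨0, 1⟩, ⟨2, -1⟩, ⟨0, 0⟩, ⟨2, 0⟩, ⟨3, 0⟩, ⟨2, 1⟩, ⟨2, 2⟩, ⟨1, 6⟩, ⟨2, 2⟩, ⟨5, 7⟩, ⟨-1, 4⟩, ⟨0, 5⟩],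
  ![⟨1, 0⟩, ⟨-1, 0⟩, ⟨-1, 0⟩, ⟨0, -1⟩, ⟨0, 0⟩, ⟨1, 0⟩, ⟨0, -2⟩, ⟨2, -1⟩, ⟨0, -1⟩, ⟨-1, -2⟩, ⟨2, 0⟩, ⟨3, 1⟩, ⟨0, -2⟩, ⟨1, 0⟩, ⟨3, -2⟩, ⟨6, -1⟩, ⟨4, -2⟩, ⟨10, 4⟩, ⟨4, -2⟩, ⟨12, 6⟩, ⟨13, 5⟩, ⟨6, 16⟩, ⟨12, 19⟩, ⟨-7, 26⟩, ⟨9, 27⟩, ⟨-5, 51⟩, ⟨-10, 32⟩, ⟨-17, 38⟩],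
  ![⟨1, 0⟩, ⟨-1, 0⟩, ⟨-1, 0⟩, ⟨0, -1⟩, ⟨0, 0⟩, ⟨0, 0⟩, ⟨-1, -2⟩, ⟨1, -2⟩, ⟨-1, 0⟩, ⟨-1, -2⟩, ⟨1, -2⟩, ⟨4, -1⟩, ⟨-1, -2⟩, ⟨1, -2⟩, ⟨2, -3⟩, ⟨6, -4⟩, ⟨3, -4⟩, ⟨11, -3⟩, ⟨3, -4⟩, ⟨16, -2⟩, ⟨17, -2⟩, ⟨16, 12⟩, ⟨23, 12⟩, ⟨10, 31⟩, ⟨24, 21⟩, ⟨27, 54⟩, ⟨9, 38⟩, ⟨6, 47⟩],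
  ![⟨1, 0⟩, ⟨-1, 0⟩, ⟨-1, 0⟩, ⟨0, -1⟩, ⟨0, -1⟩, ⟨1, -1⟩, ⟨0, -2⟩, ⟨3, -1⟩, ⟨0, 0⟩, ⟨-1, -1⟩, ⟨3, 0⟩, ⟨3, 1⟩, ⟨1, -2⟩, ⟨3, 0⟩, ⟨4, -3⟩, ⟨8, 2⟩, ⟨5, -2⟩, ⟨12, 8⟩, ⟨5, -1⟩, ⟨13, 13⟩, ⟨15, 10⟩, ⟨4, 24⟩, ⟨10, 26⟩, ⟨-17, 33⟩, ⟨5, 36⟩, ⟨-19, 66⟩, ⟨-20, 39⟩, ⟨-30, 43⟩],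
  ![⟨1, 0⟩, ⟨-1, 0⟩, ⟨-1, 0⟩, ⟨0, -1⟩, ⟨1, 0⟩, ⟨1, 0⟩, ⟨0, -1⟩, ⟨2, 0⟩, ⟨0, 0⟩, ⟨-1, -1⟩, ⟨2, 1⟩, ⟨2, 1⟩, ⟨0, -1⟩, ⟨1, 1⟩, ⟨3, -1⟩, ⟨4, 2⟩, ⟨2, -1⟩, ⟨4, 6⟩, ⟨2, 0⟩, ⟨4, 8⟩, ⟨6, 7⟩, ⟨-3, 13⟩, ⟨1, 14⟩, ⟨-15, 12⟩, ⟨-3, 18⟩, ⟨-20, 28⟩, ⟨-16, 15⟩, ⟨-21, 17⟩]]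

end Cfsg.Agent.Lib.Helper14.RuLat
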