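import Mathlib
import Cfsg.Prelude.Def_Spor_Ru
import Cfsg.Agent.Lib.Helper14.RuLatA
import Cfsg.Agent.Lib.Helper14.RuLatB

set_option autoImplicit false

/-!
# The Rudvalis lattice is contained in the span of the explicit basis; evenness
-/

namespace Cfsg.Agent.Lib.Helper14.RuLat

open Cfsg.Spor Finset

/-- right multiplication by `j`, as a linear map -/
def RjL : RuVec →ₗ[GaussianInt] RuVec where
  toFun := ruRj
  map_add' v w := by
    funext p; rcases p with ⟨n, t⟩
    fin_cases t <;> simp [ruRj, mul_add] <;> ring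
  map_smul' c v := by
    funext p; rcases p with ⟨n, t⟩
    fin_cases t <;> simp [ruRj] <;> ring

/-- right multiplication by `k`, as a linear map -/
def RkL : RuVec →ₗ[GaussianInt] RuVec where
  toFun := ruRk
  map_add' v w := by
    funext p; rcases p with ⟨n, t⟩
    fin_cases t <;> simp [ruRk, mul_add] <;> ring
  map_smul' c v := by
    funext p; rcases p with ⟨n, t⟩
    fin_cases t <;> simp [ruRk] <;> ring

/-- the sign change, as a linear map -/
def SignL : RuVec →ₗ[GaussianInt] RuVec where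
  toFun := ruSign
  map_add' v w := by
    funext p
    simp only [ruSign, Pi.add_apply]
    split_ifs <;> ring
  map_smul' c v := by
    funext p
    simp only [ruSign, Pi.smul_apply, smul_eq_mul, RingHom.id_apply]
    split_ifs <;> ring

/-- the cyclic shift, as a linear map -/
def ShiftL : RuVec →ₗ[GaussianInt] RuVec where
  toFun := ruShift
  map_add' v w := by
    funext p; simp [ruShift]
  map_smul' c v := by
    funext p; simp [ruShift]

/-- The span of the explicit basis. -/
def Lc : Submodule GaussianInt RuVec := Submodule.span GaussianInt (Set.range Bv)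

lemma Bv_mem (j : Fin 28) : Bv j ∈ Lc := Submodule.subset_span ⟨j, rfl⟩

lemma sum_mem_Lc (c : Fin 28 → GaussianInt) : (fun p => ∑ k, c k * Bv k p) ∈ Lc := by
  have : (fun p => ∑ k, c k * Bv k p) = ∑ k, c k • Bv k := by
    funext p; simp [Finset.sum_apply]
  rw [this]
  exact Submodule.sum_mem _ fun k _ => Submodule.smul_mem _ _ (Bv_mem k)

set_option maxRecDepth 100000 in
lemma Rj_Bv : ∀ j : Fin 28, ∀ p : RuIdx, ruRj (Bv j) p = ∑ k, MRj j k * Bv k p := by
  decide +kernel

set_option maxRecDepth 100000 in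
lemma Rk_Bv : ∀ j : Fin 28, ∀ p : RuIdx, ruRk (Bv j) p = ∑ k, MRk j k * Bv k p := by
  decide +kernel

set_option maxRecDepth 100000 in
lemma Sign_Bv : ∀ j : Fin 28, ∀ p : RuIdx, ruSign (Bv j) p = ∑ k, MSign j k * Bv k p := by
  decide +kernel

set_option maxRecDepth 100000 in
lemma Shift_Bv : ∀ j : Fin 28, ∀ p : RuIdx, ruShift (Bv j) p = ∑ k, MShift j k * Bv k p := by
  decide +kernel

set_option maxRecDepth 100000 in
lemma table_Bv : ∀ i : Fin 20, ∀ p : RuIdx, (ruTable.getD i.1 0) p = ∑ k, TA i k * Bv k p := by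
  decide +kernel

lemma map_le (f : RuVec →ₗ[GaussianInt] RuVec) (M : Fin 28 → Fin 28 → GaussianInt)
    (h : ∀ j : Fin 28, ∀ p : RuIdx, f (Bv j) p = ∑ k, M j k * Bv k p) {v : RuVec} (hv : v ∈ Lc) :
    f v ∈ Lc := by
  have hle : Lc.map f ≤ Lc := by
    rw [Lc, Submodule.map_span_le]
    rintro _ ⟨j, rfl⟩
    have : f (Bv j) = fun p => ∑ k, M j k * Bv k p := funext (h j)
    rw [this]
    exact sum_mem_Lc _
  exact hle (Submodule.mem_map_of_mem hv)

lemma table_mem : ∀ v ∈ ruTable, v ∈ Lc := by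
  intro v hv
  obtain ⟨i, hi, rfl⟩ := List.mem_iff_getElem.1 hv
  have hlen : ruTable.length = 20 := by rfl
  have h := table_Bv ⟨i, hlen ▸ hi⟩
  have h2 : ruTable.getD i 0 = ruTable[i] := by
    rw [List.getD_eq_getElem?_getD, List.getElem?_eq_getElem hi]; rfl
  rw [← h2]
  have : ruTable.getD i 0 = fun p => ∑ k, TA ⟨i, hlen ▸ hi⟩ k * Bv k p := funext h
  rw [this]
  exact sum_mem_Lc _

lemma Lc_closed : Lc.toAddSubgroup ∈ ruClosed := by
  refine ⟨fun v hv => table_mem v hv, fun v hv => ⟨?_, ?_, ?_, ?_, ?_⟩⟩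
  · exact Submodule.smul_mem Lc gI hv
  · exact map_le RjL MRj Rj_Bv hv
  · exact map_le RkL MRk Rk_Bv hv
  · exact map_le SignL MSign Sign_Bv hv
  · exact map_le ShiftL MShift Shift_Bv hv

theorem ruLattice_le : ∀ v ∈ ruLattice, v ∈ Lc := by
  intro v hv
  have : ruLattice ≤ Lc.toAddSubgroup := sInf_le Lc_closed
  exact this hv

/-! ### Duality and evenness -/

set_option maxRecDepth 100000 in
lemma gram : ∀ j k : Fin 28, Div4 (herm (Bv j) (Bv k)) := by
  decide +kernel

set_option maxRecDepth 100000 in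
lemma norm_Bv : ∀ j : Fin 28, ruNorm (Bv j) % 8 = 0 := by
  decide +kernel

lemma dual_of_mem {g : RuVec} (hg : ∀ j, Div4 (herm (Bv j) g)) {v : RuVec} (hv : v ∈ Lc) :
    (4 : GaussianInt) ∣ herm v g := by
  induction hv using Submodule.span_induction with
  | mem x hx =>
    obtain ⟨j, rfl⟩ := hx
    exact (div4_iff _).1 (hg j)
  | zero => simp [herm]
  | add x y _ _ hx hy => rw [herm_add_left]; exact dvd_add hx hy
  | smul c x _ hx => rw [herm_smul_left]; exact Dvd.dvd.mul_left hx c

lemma herm_star (v w : RuVec) : herm v w = star (herm w v) := by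
  simp [herm, star_sum, mul_comm]

lemma four_dvd_star {z : GaussianInt} (h : (4 : GaussianInt) ∣ z) : (4 : GaussianInt) ∣ star z := by
  obtain ⟨c, rfl⟩ := h
  refine ⟨star c, ?_⟩
  rw [star_mul']
  congr 1

lemma four_dvd_herm {v w : RuVec} (hv : v ∈ Lc) (hw : w ∈ Lc) : (4 : GaussianInt) ∣ herm v w := by
  apply dual_of_mem _ hv
  intro j
  rw [div4_iff, herm_star]
  exact four_dvd_star (dual_of_mem (fun i => gram i j) hw)

theorem eight_dvd {v : RuVec} (hv : v ∈ Lc) : (8 : ℤ) ∣ ruNorm v := by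
  induction hv using Submodule.span_induction with
  | mem x hx =>
    obtain ⟨j, rfl⟩ := hx
    exact Int.dvd_of_emod_eq_zero (norm_Bv j)
  | zero => simp [ruNorm]
  | add x y hx hy hx8 hy8 =>
    rw [ruNorm_add]
    have h4 := four_dvd_herm hx hy
    have h4' : (4 : ℤ) ∣ (herm x y).re := by
      have h4c : (4 : GaussianInt) = ((4 : ℤ) : GaussianInt) := by norm_cast
      rw [h4c, Zsqrtd.intCast_dvd] at h4
      exact h4.1
    omega
  | smul c x _ hx8 =>
    rw [ruNorm_smul]; exact Dvd.dvd.mul_left hx8 _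

end Cfsg.Agent.Lib.Helper14.RuLat
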