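import Mathlib
import Cfsg.Prelude.Def_Spor_Ru
import Cfsg.Agent.Lib.Helper14.RuLatA

set_option autoImplicit false

/-!
# The Rudvalis lattice: test vectors and parity-check data
-/

namespace Cfsg.Agent.Lib.Helper14.RuLat

open Cfsg.Spor Finset

/-- The reduced filtered vectors `u_m`; the lattice contains `π^(KK m) • u_m`. -/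
def Uv : Fin 19 → RuVec := ![
  ruOfArray ![![⟨0, -1⟩, ⟨1, 0⟩, ⟨1, 0⟩, ⟨0, 1⟩],
      ![⟨1, 0⟩, ⟨0, 0⟩, ⟨0, 0⟩, ⟨1, 0⟩],
      ![⟨1, 0⟩, ⟨-1, 0⟩, ⟨0, 0⟩, ⟨0, 0⟩],
      ![⟨-1, 0⟩, ⟨0, 1⟩, ⟨0, 0⟩, ⟨0, 0⟩],
      ![⟨-1, 0⟩, ⟨0, 0⟩, ⟨-1, 0⟩, ⟨0, 0⟩],
      ![⟨0, 1⟩, ⟨0, 0⟩, ⟨0, 0⟩, ⟨-1, 0⟩],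
      ![⟨0, 0⟩, ⟨0, -1⟩, ⟨0, 0⟩, ⟨0, -1⟩]],
  ruOfArray ![![⟨0, 0⟩, ⟨1, 0⟩, ⟨0, 0⟩, ⟨-1, 0⟩],
      ![⟨0, -1⟩, ⟨-1, 0⟩, ⟨0, -1⟩, ⟨1, 0⟩],
      ![⟨0, -1⟩, ⟨0, 0⟩, ⟨0, 0⟩, ⟨0, 1⟩],
      ![⟨0, 0⟩, ⟨0, 0⟩, ⟨0, 1⟩, ⟨1, 0⟩],
      ![⟨0, 0⟩, ⟨0, 0⟩, ⟨1, 0⟩, ⟨1, 0⟩],
      ![⟨-1, 0⟩, ⟨0, 0⟩, ⟨1, 0⟩, ⟨0, 0⟩],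
      ![⟨1, 0⟩, ⟨0, 0⟩, ⟨0, 0⟩, ⟨0, 1⟩]],
  ruOfArray ![![⟨0, 0⟩, ⟨0, 0⟩, ⟨0, -1⟩, ⟨-1, 0⟩],
      ![⟨0, 0⟩, ⟨0, 0⟩, ⟨0, -1⟩, ⟨0, -1⟩],
      ![⟨0, -1⟩, ⟨0, 0⟩, ⟨0, 1⟩, ⟨0, 0⟩],
      ![⟨0, 0⟩, ⟨-1, 0⟩, ⟨-1, 0⟩, ⟨0, 0⟩],
      ![⟨0, 0⟩, ⟨0, -1⟩, ⟨0, 0⟩, ⟨0, -1⟩],
      ![⟨-1, 0⟩, ⟨1, 0⟩, ⟨0, 1⟩, ⟨0, 1⟩],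
      ![⟨0, 0⟩, ⟨1, 0⟩, ⟨0, 1⟩, ⟨0, 0⟩]],
  ruOfArray ![![⟨0, 0⟩, ⟨0, 0⟩, ⟨0, 0⟩, ⟨1, -1⟩],
      ![⟨1, 2⟩, ⟨-1, -1⟩, ⟨2, 0⟩, ⟨2, 1⟩],
      ![⟨1, -1⟩, ⟨0, 2⟩, ⟨0, -1⟩, ⟨0, 1⟩],
      ![⟨0, 1⟩, ⟨-1, 0⟩, ⟨-1, 1⟩, ⟨1, 1⟩],
      ![⟨0, 0⟩, ⟨0, 1⟩, ⟨0, 2⟩, ⟨1, 2⟩],
      ![⟨1, 2⟩, ⟨0, 0⟩, ⟨1, -1⟩, ⟨-1, 0⟩],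
      ![⟨1, 0⟩, ⟨2, 0⟩, ⟨0, -1⟩, ⟨2, 2⟩]],
  ruOfArray ![![⟨0, 0⟩, ⟨0, 0⟩, ⟨0, 0⟩, ⟨-1, 1⟩],
      ![⟨0, 2⟩, ⟨-1, 2⟩, ⟨-1, 2⟩, ⟨-1, 1⟩],
      ![⟨2, -1⟩, ⟨0, 1⟩, ⟨1, 1⟩, ⟨-1, -1⟩],
      ![⟨2, 2⟩, ⟨2, 2⟩, ⟨0, 1⟩, ⟨2, -1⟩],
      ![⟨0, 1⟩, ⟨2, 0⟩, ⟨1, 0⟩, ⟨1, 1⟩],
      ![⟨2, 1⟩, ⟨1, 1⟩, ⟨1, -1⟩, ⟨-1, 0⟩],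
      ![⟨1, 2⟩, ⟨1, 1⟩, ⟨-1, 0⟩, ⟨0, 2⟩]],
  ruOfArray ![![⟨0, 0⟩, ⟨0, 0⟩, ⟨0, 0⟩, ⟨0, 0⟩],
      ![⟨0, 0⟩, ⟨-1, -1⟩, ⟨0, 0⟩, ⟨1, -1⟩],
      ![⟨0, 1⟩, ⟨0, -1⟩, ⟨-1, 0⟩, ⟨2, 1⟩],
      ![⟨-1, 0⟩, ⟨1, 2⟩, ⟨0, -1⟩, ⟨1, 0⟩],
      ![⟨1, 2⟩, ⟨2, -1⟩, ⟨0, 1⟩, ⟨0, 1⟩],
      ![⟨-1, -1⟩, ⟨0, 0⟩, ⟨-1, 1⟩, ⟨0, 0⟩],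
      ![⟨2, 1⟩, ⟨-1, 2⟩, ⟨-1, 0⟩, ⟨-1, 0⟩]],
  ruOfArray ![![⟨0, 0⟩, ⟨0, 0⟩, ⟨0, 0⟩, ⟨0, 0⟩],
      ![⟨0, 0⟩, ⟨0, 0⟩, ⟨1, 1⟩, ⟨1, -1⟩],
      ![⟨1, -1⟩, ⟨2, 0⟩, ⟨2, 2⟩, ⟨-1, 1⟩],
      ![⟨2, -1⟩, ⟨0, -1⟩, ⟨2, 1⟩, ⟨1, 0⟩],
      ![⟨-1, 2⟩, ⟨2, -1⟩, ⟨1, 2⟩, ⟨1, 0⟩],
      ![⟨-1, 0⟩, ⟨-1, 2⟩, ⟨-1, 2⟩, ⟨0, -1⟩],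
      ![⟨0, -1⟩, ⟨0, -1⟩, ⟨2, 1⟩, ⟨-1, 2⟩]],
  ruOfArray ![![⟨0, 0⟩, ⟨0, 0⟩, ⟨0, 0⟩, ⟨0, 0⟩],
      ![⟨0, 0⟩, ⟨0, 0⟩, ⟨0, 0⟩, ⟨2, 0⟩],
      ![⟨0, 2⟩, ⟨0, 2⟩, ⟨-1, 1⟩, ⟨1, 1⟩],
      ![⟨1, 1⟩, ⟨-1, -1⟩, ⟨1, -1⟩, ⟨-1, 1⟩],
      ![⟨-1, 2⟩, ⟨-1, 2⟩, ⟨-1, 0⟩, ⟨0, -1⟩],
      ![⟨-1, 0⟩, ⟨0, 1⟩, ⟨0, 1⟩, ⟨2, -1⟩],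
      ![⟨-1, 1⟩, ⟨0, 2⟩, ⟨1, 1⟩, ⟨0, 2⟩]],
  ruOfArray ![![⟨0, 0⟩, ⟨0, 0⟩, ⟨0, 0⟩, ⟨0, 0⟩],
      ![⟨0, 0⟩, ⟨0, 0⟩, ⟨0, 0⟩, ⟨2, 0⟩],
      ![⟨0, 2⟩, ⟨1, 1⟩, ⟨1, 1⟩, ⟨0, 2⟩],
      ![⟨2, 2⟩, ⟨2, 0⟩, ⟨2, 2⟩, ⟨0, 2⟩],
      ![⟨0, 0⟩, ⟨2, 2⟩, ⟨1, -1⟩, ⟨1, 1⟩],
      ![⟨1, 2⟩, ⟨2, 1⟩, ⟨-1, 0⟩, ⟨-1, 2⟩],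
      ![⟨1, 2⟩, ⟨1, 2⟩, ⟨1, 0⟩, ⟨0, -1⟩]],
  ruOfArray ![![⟨0, 0⟩, ⟨0, 0⟩, ⟨0, 0⟩, ⟨1, -1⟩],
      ![⟨2, 0⟩, ⟨1, 1⟩, ⟨2, 0⟩, ⟨0, 0⟩],
      ![⟨0, 0⟩, ⟨1, 1⟩, ⟨2, 0⟩, ⟨0, 0⟩],
      ![⟨1, -1⟩, ⟨1, 1⟩, ⟨0, 0⟩, ⟨1, 1⟩],
      ![⟨1, 1⟩, ⟨1, 1⟩, ⟨0, 0⟩, ⟨1, 1⟩],
      ![⟨1, 1⟩, ⟨1, -1⟩, ⟨2, 0⟩, ⟨1, 1⟩],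
      ![⟨0, 1⟩, ⟨-1, 0⟩, ⟨1, 0⟩, ⟨0, 1⟩]],
  ruOfArray ![![⟨0, 0⟩, ⟨0, 0⟩, ⟨0, 0⟩, ⟨0, 0⟩],
      ![⟨0, 0⟩, ⟨0, 0⟩, ⟨0, 0⟩, ⟨1, 1⟩],
      ![⟨1, 1⟩, ⟨1, 0⟩, ⟨1, 1⟩, ⟨0, 1⟩],
      ![⟨1, 0⟩, ⟨0, 1⟩, ⟨1, 0⟩, ⟨0, 1⟩],
      ![⟨1, 1⟩, ⟨0, 0⟩, ⟨0, 1⟩, ⟨0, 1⟩],
      ![⟨0, 0⟩, ⟨1, 0⟩, ⟨1, 1⟩, ⟨0, 1⟩],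
      ![⟨1, 0⟩, ⟨0, 1⟩, ⟨0, 0⟩, ⟨1, 1⟩]],
  ruOfArray ![![⟨0, 0⟩, ⟨0, 0⟩, ⟨0, 0⟩, ⟨0, 0⟩],
      ![⟨0, 0⟩, ⟨0, 0⟩, ⟨1, 0⟩, ⟨0, 1⟩],
      ![⟨0, 1⟩, ⟨1, 0⟩, ⟨1, 1⟩, ⟨1, 1⟩],
      ![⟨1, 0⟩, ⟨1, 0⟩, ⟨0, 1⟩, ⟨0, 1⟩],
      ![⟨1, 0⟩, ⟨1, 0⟩, ⟨1, 0⟩, ⟨1, 0⟩],
      ![⟨0, 0⟩, ⟨1, 1⟩, ⟨1, 1⟩, ⟨0, 0⟩],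
      ![⟨1, 1⟩, ⟨1, 1⟩, ⟨0, 1⟩, ⟨0, 1⟩]],
  ruOfArray ![![⟨0, 0⟩, ⟨0, 0⟩, ⟨0, 0⟩, ⟨0, 0⟩],
      ![⟨0, 0⟩, ⟨0, 0⟩, ⟨0, 0⟩, ⟨0, 0⟩],
      ![⟨0, 0⟩, ⟨0, 0⟩, ⟨0, 1⟩, ⟨0, 1⟩],
      ![⟨0, 0⟩, ⟨0, 1⟩, ⟨0, 0⟩, ⟨0, 1⟩],
      ![⟨1, 0⟩, ⟨1, 1⟩, ⟨0, 0⟩, ⟨0, 1⟩],
      ![⟨0, 0⟩, ⟨0, 1⟩, ⟨1, 1⟩, ⟨1, 0⟩],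
      ![⟨1, 1⟩, ⟨0, 0⟩, ⟨1, 0⟩, ⟨0, 1⟩]],
  ruOfArray ![![⟨0, 0⟩, ⟨0, 0⟩, ⟨0, 0⟩, ⟨0, 0⟩],
      ![⟨0, 0⟩, ⟨0, 0⟩, ⟨0, 0⟩, ⟨1, 1⟩],
      ![⟨1, 1⟩, ⟨1, 1⟩, ⟨0, 0⟩, ⟨0, 0⟩],
      ![⟨0, 0⟩, ⟨1, 0⟩, ⟨1, 1⟩, ⟨1, 0⟩],
      ![⟨0, 0⟩, ⟨1, 0⟩, ⟨0, 1⟩, ⟨1, 1⟩],
      ![⟨1, 1⟩, ⟨1, 0⟩, ⟨1, 1⟩, ⟨0, 1⟩],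
      ![⟨1, 1⟩, ⟨1, 0⟩, ⟨1, 0⟩, ⟨0, 0⟩]],
  ruOfArray ![![⟨0, 0⟩, ⟨0, 0⟩, ⟨0, 0⟩, ⟨0, 0⟩],
      ![⟨0, 0⟩, ⟨0, 0⟩, ⟨0, 0⟩, ⟨0, 0⟩],
      ![⟨0, 0⟩, ⟨0, 0⟩, ⟨0, 0⟩, ⟨0, 0⟩],
      ![⟨0, 0⟩, ⟨0, 0⟩, ⟨0, 1⟩, ⟨0, 1⟩],
      ![⟨0, 1⟩, ⟨0, 0⟩, ⟨1, 0⟩, ⟨1, 1⟩],
      ![⟨1, 1⟩, ⟨0, 0⟩, ⟨1, 1⟩, ⟨0, 0⟩],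
      ![⟨0, 1⟩, ⟨1, 1⟩, ⟨1, 0⟩, ⟨1, 1⟩]],
  ruOfArray ![![⟨0, 0⟩, ⟨0, 0⟩, ⟨0, 0⟩, ⟨0, 0⟩],
      ![⟨0, 0⟩, ⟨0, 0⟩, ⟨1, 1⟩, ⟨0, 0⟩],
      ![⟨0, 0⟩, ⟨1, 1⟩, ⟨0, 0⟩, ⟨0, 0⟩],
      ![⟨1, 1⟩, ⟨0, 0⟩, ⟨0, 0⟩, ⟨0, 0⟩],
      ![⟨0, 0⟩, ⟨1, 0⟩, ⟨1, 1⟩, ⟨0, 1⟩],
      ![⟨0, 0⟩, ⟨0, 1⟩, ⟨1, 0⟩, ⟨0, 0⟩],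
      ![⟨0, 0⟩, ⟨0, 0⟩, ⟨0, 0⟩, ⟨1, 1⟩]],
  ruOfArray ![![⟨0, 0⟩, ⟨0, 0⟩, ⟨0, 0⟩, ⟨0, 0⟩],
      ![⟨0, 0⟩, ⟨0, 0⟩, ⟨1, 1⟩, ⟨1, 1⟩],
      ![⟨1, 1⟩, ⟨0, 0⟩, ⟨1, 1⟩, ⟨1, 1⟩],
      ![⟨0, 0⟩, ⟨1, 1⟩, ⟨0, 0⟩, ⟨1, 1⟩],
      ![⟨1, 1⟩, ⟨0, 0⟩, ⟨1, 0⟩, ⟨1, 0⟩],
      ![⟨1, 0⟩, ⟨1, 0⟩, ⟨0, 0⟩, ⟨1, 1⟩],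
      ![⟨1, 1⟩, ⟨0, 1⟩, ⟨0, 0⟩, ⟨0, 1⟩]],
  ruOfArray ![![⟨0, 0⟩, ⟨0, 0⟩, ⟨0, 0⟩, ⟨0, 0⟩],
      ![⟨0, 0⟩, ⟨0, 0⟩, ⟨0, 0⟩, ⟨1, 1⟩],
      ![⟨1, 1⟩, ⟨0, 0⟩, ⟨0, 0⟩, ⟨1, 1⟩],
      ![⟨1, 1⟩, ⟨1, 1⟩, ⟨0, 0⟩, ⟨0, 0⟩],
      ![⟨0, 0⟩, ⟨1, 1⟩, ⟨1, 1⟩, ⟨0, 0⟩],
      ![⟨1, 1⟩, ⟨1, 0⟩, ⟨0, 0⟩, ⟨1, 0⟩],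
      ![⟨0, 0⟩, ⟨1, 0⟩, ⟨0, 1⟩, ⟨1, 1⟩]],
  ruOfArray ![![⟨0, 0⟩, ⟨0, 0⟩, ⟨0, 0⟩, ⟨1, 0⟩],
      ![⟨0, 0⟩, ⟨1, 0⟩, ⟨0, 0⟩, ⟨0, 0⟩],
      ![⟨0, 0⟩, ⟨1, 0⟩, ⟨0, 0⟩, ⟨0, 0⟩],
      ![⟨1, 0⟩, ⟨1, 0⟩, ⟨0, 0⟩, ⟨1, 0⟩],
      ![⟨1, 0⟩, ⟨1, 0⟩, ⟨0, 0⟩, ⟨1, 0⟩],
      ![⟨1, 0⟩, ⟨0, 0⟩, ⟨1, 0⟩, ⟨1, 0⟩],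
      ![⟨0, 0⟩, ⟨1, 0⟩, ⟨0, 0⟩, ⟨0, 0⟩]]]

/-- levels of the filtered vectors -/
def KK : Fin 19 → ℕ := ![0, 0, 0, 0, 0, 0, 0, 0, 0, 1, 2, 2, 2, 2, 2, 2, 2, 2, 3]

/-- special test vectors for pairs of components -/
def DAv : Fin 7 → Fin 7 → RuVec := ![
  ![ruOfArray ![![⟨0, 0⟩, ⟨0, 0⟩, ⟨0, 0⟩, ⟨0, 0⟩],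
      ![⟨0, 0⟩, ⟨0, 0⟩, ⟨0, 0⟩, ⟨0, 0⟩],
      ![⟨0, 0⟩, ⟨0, 0⟩, ⟨0, 0⟩, ⟨0, 0⟩],
      ![⟨0, 0⟩, ⟨0, 0⟩, ⟨0, 0⟩, ⟨0, 0⟩],
      ![⟨0, 0⟩, ⟨0, 0⟩, ⟨0, 0⟩, ⟨0, 0⟩],
      ![⟨0, 0⟩, ⟨0, 0⟩, ⟨0, 0⟩, ⟨0, 0⟩],
      ![⟨0, 0⟩, ⟨0, 0⟩, ⟨0, 0⟩, ⟨0, 0⟩]],
    ruOfArray ![![⟨2, 0⟩, ⟨0, 0⟩, ⟨0, 0⟩, ⟨0, 0⟩],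
      ![⟨0, 0⟩, ⟨0, 0⟩, ⟨0, 0⟩, ⟨0, 0⟩],
      ![⟨0, 0⟩, ⟨0, 0⟩, ⟨-1, 1⟩, ⟨1, -1⟩],
      ![⟨-1, -1⟩, ⟨-1, 1⟩, ⟨1, 1⟩, ⟨-1, -1⟩],
      ![⟨0, 1⟩, ⟨0, 1⟩, ⟨2, 1⟩, ⟨-1, 0⟩],
      ![⟨0, -1⟩, ⟨-1, 2⟩, ⟨1, 2⟩, ⟨-1, 0⟩],
      ![⟨2, 2⟩, ⟨-1, -1⟩, ⟨0, 0⟩, ⟨-1, 1⟩]],
    ruOfArray ![![⟨2, 0⟩, ⟨0, 0⟩, ⟨0, 0⟩, ⟨0, 0⟩],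
      ![⟨2, 2⟩, ⟨-1, -1⟩, ⟨-1, 1⟩, ⟨2, 0⟩],
      ![⟨0, 0⟩, ⟨0, 0⟩, ⟨0, 0⟩, ⟨0, 0⟩],
      ![⟨0, 0⟩, ⟨0, 2⟩, ⟨1, -1⟩, ⟨-1, 1⟩],
      ![⟨2, -1⟩, ⟨-1, 2⟩, ⟨0, 1⟩, ⟨0, 1⟩],
      ![⟨2, 1⟩, ⟨0, 1⟩, ⟨2, 1⟩, ⟨-1, 2⟩],
      ![⟨0, 0⟩, ⟨0, 0⟩, ⟨2, 0⟩, ⟨0, 2⟩]],
    ruOfArray ![![⟨2, 0⟩, ⟨0, 0⟩, ⟨0, 0⟩, ⟨0, 0⟩],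
      ![⟨-1, -1⟩, ⟨-1, -1⟩, ⟨1, -1⟩, ⟨-1, -1⟩],
      ![⟨0, 0⟩, ⟨0, 0⟩, ⟨-1, -1⟩, ⟨-1, -1⟩],
      ![⟨0, 0⟩, ⟨0, 0⟩, ⟨0, 0⟩, ⟨0, 0⟩],
      ![⟨2, 1⟩, ⟨0, -1⟩, ⟨0, 1⟩, ⟨-1, 2⟩],
      ![⟨2, 1⟩, ⟨1, 0⟩, ⟨-1, 0⟩, ⟨-1, 0⟩],
      ![⟨0, 0⟩, ⟨1, -1⟩, ⟨0, 0⟩, ⟨-1, -1⟩]],
    ruOfArray ![![⟨2, 0⟩, ⟨0, 0⟩, ⟨0, 0⟩, ⟨0, 0⟩],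
      ![⟨2, -1⟩, ⟨0, 1⟩, ⟨-1, 2⟩, ⟨0, 1⟩],
      ![⟨0, 0⟩, ⟨0, 0⟩, ⟨-1, -1⟩, ⟨-1, -1⟩],
      ![⟨2, -1⟩, ⟨-1, 0⟩, ⟨2, 1⟩, ⟨0, 1⟩],
      ![⟨0, 0⟩, ⟨0, 0⟩, ⟨0, 0⟩, ⟨0, 0⟩],
      ![⟨2, 0⟩, ⟨0, 0⟩, ⟨0, 0⟩, ⟨0, 2⟩],
      ![⟨2, 2⟩, ⟨1, -1⟩, ⟨2, 0⟩, ⟨-1, 1⟩]],
    ruOfArray ![![⟨2, 0⟩, ⟨0, 0⟩, ⟨0, 0⟩, ⟨0, 0⟩],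
      ![⟨-1, 0⟩, ⟨-1, 2⟩, ⟨2, 1⟩, ⟨-1, 0⟩],
      ![⟨0, 0⟩, ⟨0, 0⟩, ⟨1, 1⟩, ⟨-1, -1⟩],
      ![⟨1, 0⟩, ⟨2, -1⟩, ⟨-1, 2⟩, ⟨-1, 0⟩],
      ![⟨0, 0⟩, ⟨2, 0⟩, ⟨2, 2⟩, ⟨2, 0⟩],
      ![⟨0, 0⟩, ⟨0, 0⟩, ⟨0, 0⟩, ⟨0, 0⟩],
      ![⟨0, 0⟩, ⟨-1, 1⟩, ⟨0, 2⟩, ⟨-1, 1⟩]],
    ruOfArray ![![⟨2, 0⟩, ⟨0, 0⟩, ⟨0, 0⟩, ⟨0, 0⟩],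
      ![⟨2, 2⟩, ⟨-1, -1⟩, ⟨1, -1⟩, ⟨0, 2⟩],
      ![⟨-1, 1⟩, ⟨1, 1⟩, ⟨1, 1⟩, ⟨-1, -1⟩],
      ![⟨2, 0⟩, ⟨2, 2⟩, ⟨-1, -1⟩, ⟨1, 1⟩],
      ![⟨2, 1⟩, ⟨1, 0⟩, ⟨0, 1⟩, ⟨0, -1⟩],
      ![⟨1, 0⟩, ⟨1, 2⟩, ⟨-1, 0⟩, ⟨2, 1⟩],
      ![⟨0, 0⟩, ⟨0, 0⟩, ⟨0, 0⟩, ⟨0, 0⟩]]],
  ![ruOfArray ![![⟨0, 0⟩, ⟨0, 0⟩, ⟨0, 0⟩, ⟨0, 0⟩],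
      ![⟨2, 0⟩, ⟨0, 0⟩, ⟨0, 0⟩, ⟨0, 0⟩],
      ![⟨0, 0⟩, ⟨0, 0⟩, ⟨1, 1⟩, ⟨1, -1⟩],
      ![⟨2, 2⟩, ⟨0, 0⟩, ⟨2, 0⟩, ⟨0, 0⟩],
      ![⟨1, 2⟩, ⟨1, 0⟩, ⟨-1, 0⟩, ⟨2, -1⟩],
      ![⟨1, 2⟩, ⟨2, -1⟩, ⟨2, -1⟩, ⟨2, -1⟩],
      ![⟨0, 0⟩, ⟨1, 1⟩, ⟨0, 0⟩, ⟨-1, -1⟩]],
    ruOfArray ![![⟨0, 0⟩, ⟨0, 0⟩, ⟨0, 0⟩, ⟨0, 0⟩],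
      ![⟨0, 0⟩, ⟨0, 0⟩, ⟨0, 0⟩, ⟨0, 0⟩],
      ![⟨0, 0⟩, ⟨0, 0⟩, ⟨0, 0⟩, ⟨0, 0⟩],
      ![⟨0, 0⟩, ⟨0, 0⟩, ⟨0, 0⟩, ⟨0, 0⟩],
      ![⟨0, 0⟩, ⟨0, 0⟩, ⟨0, 0⟩, ⟨0, 0⟩],
      ![⟨0, 0⟩, ⟨0, 0⟩, ⟨0, 0⟩, ⟨0, 0⟩],
      ![⟨0, 0⟩, ⟨0, 0⟩, ⟨0, 0⟩, ⟨0, 0⟩]],
    ruOfArray ![![⟨1, 2⟩, ⟨-1, 0⟩, ⟨1, 0⟩, ⟨2, -1⟩],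
      ![⟨2, 0⟩, ⟨0, 0⟩, ⟨0, 0⟩, ⟨0, 0⟩],
      ![⟨0, 0⟩, ⟨0, 0⟩, ⟨0, 0⟩, ⟨0, 0⟩],
      ![⟨1, 1⟩, ⟨2, 2⟩, ⟨0, 0⟩, ⟨1, 1⟩],
      ![⟨1, 1⟩, ⟨1, 1⟩, ⟨1, -1⟩, ⟨1, -1⟩],
      ![⟨2, 2⟩, ⟨2, 2⟩, ⟨1, 1⟩, ⟨1, 1⟩],
      ![⟨2, -1⟩, ⟨-1, 0⟩, ⟨0, -1⟩, ⟨0, -1⟩]],
    ruOfArray ![![⟨2, 2⟩, ⟨0, 2⟩, ⟨2, 2⟩, ⟨0, 0⟩],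
      ![⟨2, 0⟩, ⟨0, 0⟩, ⟨0, 0⟩, ⟨0, 0⟩],
      ![⟨2, -1⟩, ⟨-1, 0⟩, ⟨1, 0⟩, ⟨-1, 0⟩],
      ![⟨0, 0⟩, ⟨0, 0⟩, ⟨0, 0⟩, ⟨0, 0⟩],
      ![⟨1, -1⟩, ⟨0, 0⟩, ⟨2, 2⟩, ⟨1, -1⟩],
      ![⟨1, 2⟩, ⟨-1, 0⟩, ⟨2, 1⟩, ⟨1, 2⟩],
      ![⟨2, 0⟩, ⟨0, 2⟩, ⟨1, -1⟩, ⟨-1, 1⟩]],
    ruOfArray ![![⟨0, -1⟩, ⟨-1, 2⟩, ⟨0, 1⟩, ⟨0, 1⟩],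
      ![⟨2, 0⟩, ⟨0, 0⟩, ⟨0, 0⟩, ⟨0, 0⟩],
      ![⟨1, -1⟩, ⟨-1, -1⟩, ⟨1, -1⟩, ⟨1, 1⟩],
      ![⟨2, 0⟩, ⟨1, -1⟩, ⟨0, 0⟩, ⟨-1, -1⟩],
      ![⟨0, 0⟩, ⟨0, 0⟩, ⟨0, 0⟩, ⟨0, 0⟩],
      ![⟨1, 0⟩, ⟨1, 0⟩, ⟨2, -1⟩, ⟨-1, 2⟩],
      ![⟨-1, 1⟩, ⟨-1, -1⟩, ⟨2, 2⟩, ⟨2, 0⟩]],
    ruOfArray ![![⟨1, -1⟩, ⟨2, 2⟩, ⟨1, 1⟩, ⟨0, 2⟩],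
      ![⟨2, 0⟩, ⟨0, 0⟩, ⟨0, 0⟩, ⟨0, 0⟩],
      ![⟨1, 0⟩, ⟨-1, 0⟩, ⟨0, -1⟩, ⟨1, 2⟩],
      ![⟨0, 0⟩, ⟨0, 2⟩, ⟨-1, -1⟩, ⟨-1, 1⟩],
      ![⟨1, 0⟩, ⟨0, -1⟩, ⟨1, 2⟩, ⟨1, 2⟩],
      ![⟨0, 0⟩, ⟨0, 0⟩, ⟨0, 0⟩, ⟨0, 0⟩],
      ![⟨1, -1⟩, ⟨-1, -1⟩, ⟨-1, -1⟩, ⟨-1, -1⟩]],
    ruOfArray ![![⟨2, 0⟩, ⟨-1, 1⟩, ⟨0, 0⟩, ⟨-1, 1⟩],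
      ![⟨2, 0⟩, ⟨0, 0⟩, ⟨0, 0⟩, ⟨0, 0⟩],
      ![⟨1, 2⟩, ⟨-1, 0⟩, ⟨2, -1⟩, ⟨-1, 0⟩],
      ![⟨0, 0⟩, ⟨2, 2⟩, ⟨1, 1⟩, ⟨-1, -1⟩],
      ![⟨0, 1⟩, ⟨-1, 0⟩, ⟨2, -1⟩, ⟨2, 1⟩],
      ![⟨1, -1⟩, ⟨-1, 1⟩, ⟨-1, 1⟩, ⟨-1, -1⟩],
      ![⟨0, 0⟩, ⟨0, 0⟩, ⟨0, 0⟩, ⟨0, 0⟩]]],
  ![ruOfArray ![![⟨0, 0⟩, ⟨0, 0⟩, ⟨0, 0⟩, ⟨0, 0⟩],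
      ![⟨0, 1⟩, ⟨1, 0⟩, ⟨1, 0⟩, ⟨-1, 0⟩],
      ![⟨2, 0⟩, ⟨0, 0⟩, ⟨0, 0⟩, ⟨0, 0⟩],
      ![⟨0, 0⟩, ⟨1, -1⟩, ⟨1, -1⟩, ⟨0, 0⟩],
      ![⟨-1, 0⟩, ⟨-1, 0⟩, ⟨0, 1⟩, ⟨-1, 0⟩],
      ![⟨2, 0⟩, ⟨2, 2⟩, ⟨1, 1⟩, ⟨1, 1⟩],
      ![⟨2, 0⟩, ⟨0, 0⟩, ⟨2, 0⟩, ⟨0, 0⟩]],
    ruOfArray ![![⟨2, -1⟩, ⟨0, 1⟩, ⟨2, -1⟩, ⟨-1, 2⟩],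
      ![⟨0, 0⟩, ⟨0, 0⟩, ⟨0, 0⟩, ⟨0, 0⟩],
      ![⟨2, 0⟩, ⟨0, 0⟩, ⟨0, 0⟩, ⟨0, 0⟩],
      ![⟨2, 2⟩, ⟨1, 1⟩, ⟨1, -1⟩, ⟨2, 0⟩],
      ![⟨-1, 1⟩, ⟨-1, -1⟩, ⟨-1, -1⟩, ⟨1, 1⟩],
      ![⟨0, 0⟩, ⟨2, 2⟩, ⟨-1, 1⟩, ⟨-1, -1⟩],
      ![⟨-1, 0⟩, ⟨2, 1⟩, ⟨-1, 0⟩, ⟨1, 0⟩]],
    ruOfArray ![![⟨0, 0⟩, ⟨0, 0⟩, ⟨0, 0⟩, ⟨0, 0⟩],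
      ![⟨0, 0⟩, ⟨0, 0⟩, ⟨0, 0⟩, ⟨0, 0⟩],
      ![⟨0, 0⟩, ⟨0, 0⟩, ⟨0, 0⟩, ⟨0, 0⟩],
      ![⟨0, 0⟩, ⟨0, 0⟩, ⟨0, 0⟩, ⟨0, 0⟩],
      ![⟨0, 0⟩, ⟨0, 0⟩, ⟨0, 0⟩, ⟨0, 0⟩],
      ![⟨0, 0⟩, ⟨0, 0⟩, ⟨0, 0⟩, ⟨0, 0⟩],
      ![⟨0, 0⟩, ⟨0, 0⟩, ⟨0, 0⟩, ⟨0, 0⟩]],
    ruOfArray ![![⟨1, -1⟩, ⟨2, 2⟩, ⟨1, 1⟩, ⟨0, 2⟩],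
      ![⟨-1, 1⟩, ⟨0, 2⟩, ⟨2, 0⟩, ⟨-1, -1⟩],
      ![⟨2, 0⟩, ⟨0, 0⟩, ⟨0, 0⟩, ⟨0, 0⟩],
      ![⟨0, 0⟩, ⟨0, 0⟩, ⟨0, 0⟩, ⟨0, 0⟩],
      ![⟨-1, 0⟩, ⟨0, 1⟩, ⟨1, 0⟩, ⟨1, 2⟩],
      ![⟨1, -1⟩, ⟨-1, 1⟩, ⟨-1, 1⟩, ⟨-1, 1⟩],
      ![⟨0, -1⟩, ⟨-1, 2⟩, ⟨1, 0⟩, ⟨-1, 0⟩]],
    ruOfArray ![![⟨1, 0⟩, ⟨-1, 2⟩, ⟨-1, 2⟩, ⟨0, -1⟩],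
      ![⟨0, 2⟩, ⟨2, 0⟩, ⟨0, 0⟩, ⟨2, 2⟩],
      ![⟨2, 0⟩, ⟨0, 0⟩, ⟨0, 0⟩, ⟨0, 0⟩],
      ![⟨-1, 1⟩, ⟨2, 2⟩, ⟨0, 2⟩, ⟨1, -1⟩],
      ![⟨0, 0⟩, ⟨0, 0⟩, ⟨0, 0⟩, ⟨0, 0⟩],
      ![⟨0, 2⟩, ⟨0, 0⟩, ⟨-1, 1⟩, ⟨1, -1⟩],
      ![⟨2, 1⟩, ⟨-1, 2⟩, ⟨0, -1⟩, ⟨2, -1⟩]],
    ruOfArray ![![⟨2, -1⟩, ⟨1, 0⟩, ⟨1, 0⟩, ⟨1, 2⟩],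
      ![⟨2, 2⟩, ⟨1, -1⟩, ⟨2, 0⟩, ⟨1, -1⟩],
      ![⟨2, 0⟩, ⟨0, 0⟩, ⟨0, 0⟩, ⟨0, 0⟩],
      ![⟨2, 0⟩, ⟨0, 0⟩, ⟨0, 2⟩, ⟨2, 2⟩],
      ![⟨2, 2⟩, ⟨2, 0⟩, ⟨-1, -1⟩, ⟨1, -1⟩],
      ![⟨0, 0⟩, ⟨0, 0⟩, ⟨0, 0⟩, ⟨0, 0⟩],
      ![⟨1, 0⟩, ⟨-1, 2⟩, ⟨-1, 0⟩, ⟨0, 1⟩]],
    ruOfArray ![![⟨-1, 1⟩, ⟨1, -1⟩, ⟨1, 1⟩, ⟨1, -1⟩],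
      ![⟨0, 0⟩, ⟨-1, 1⟩, ⟨0, 0⟩, ⟨1, 1⟩],
      ![⟨2, 0⟩, ⟨0, 0⟩, ⟨0, 0⟩, ⟨0, 0⟩],
      ![⟨0, -1⟩, ⟨0, -1⟩, ⟨-1, 2⟩, ⟨0, 1⟩],
      ![⟨0, 0⟩, ⟨2, 2⟩, ⟨1, -1⟩, ⟨-1, 1⟩],
      ![⟨1, 2⟩, ⟨0, 1⟩, ⟨1, 2⟩, ⟨-1, 0⟩],
      ![⟨0, 0⟩, ⟨0, 0⟩, ⟨0, 0⟩, ⟨0, 0⟩]]],
  ![ruOfArray ![![⟨0, 0⟩, ⟨0, 0⟩, ⟨0, 0⟩, ⟨0, 0⟩],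
      ![⟨1, -1⟩, ⟨-1, -1⟩, ⟨1, 1⟩, ⟨1, -1⟩],
      ![⟨0, 0⟩, ⟨0, 0⟩, ⟨1, 1⟩, ⟨1, -1⟩],
      ![⟨2, 0⟩, ⟨0, 0⟩, ⟨0, 0⟩, ⟨0, 0⟩],
      ![⟨-1, 2⟩, ⟨1, 0⟩, ⟨-1, 0⟩, ⟨0, -1⟩],
      ![⟨0, -1⟩, ⟨1, 0⟩, ⟨1, 2⟩, ⟨-1, 2⟩],
      ![⟨0, 2⟩, ⟨1, -1⟩, ⟨2, 0⟩, ⟨1, -1⟩]],
    ruOfArray ![![⟨1, 1⟩, ⟨1, 1⟩, ⟨1, 1⟩, ⟨1, 1⟩],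
      ![⟨0, 0⟩, ⟨0, 0⟩, ⟨0, 0⟩, ⟨0, 0⟩],
      ![⟨0, -1⟩, ⟨1, 2⟩, ⟨2, -1⟩, ⟨0, -1⟩],
      ![⟨2, 0⟩, ⟨0, 0⟩, ⟨0, 0⟩, ⟨0, 0⟩],
      ![⟨1, 2⟩, ⟨0, 1⟩, ⟨2, -1⟩, ⟨0, 1⟩],
      ![⟨-1, 1⟩, ⟨2, 0⟩, ⟨1, 1⟩, ⟨0, 0⟩],
      ![⟨1, 1⟩, ⟨0, 2⟩, ⟨2, 0⟩, ⟨1, -1⟩]],
    ruOfArray ![![⟨-1, -1⟩, ⟨2, 2⟩, ⟨1, -1⟩, ⟨0, 0⟩],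
      ![⟨2, 0⟩, ⟨-1, 1⟩, ⟨1, -1⟩, ⟨2, 2⟩],
      ![⟨0, 0⟩, ⟨0, 0⟩, ⟨0, 0⟩, ⟨0, 0⟩],
      ![⟨2, 0⟩, ⟨0, 0⟩, ⟨0, 0⟩, ⟨0, 0⟩],
      ![⟨2, 1⟩, ⟨-1, 0⟩, ⟨0, -1⟩, ⟨0, -1⟩],
      ![⟨2, 2⟩, ⟨2, 0⟩, ⟨0, 0⟩, ⟨2, 0⟩],
      ![⟨0, 1⟩, ⟨1, 0⟩, ⟨-1, 2⟩, ⟨-1, 0⟩]],
    ruOfArray ![![⟨0, 0⟩, ⟨0, 0⟩, ⟨0, 0⟩, ⟨0, 0⟩],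
      ![⟨0, 0⟩, ⟨0, 0⟩, ⟨0, 0⟩, ⟨0, 0⟩],
      ![⟨0, 0⟩, ⟨0, 0⟩, ⟨0, 0⟩, ⟨0, 0⟩],
      ![⟨0, 0⟩, ⟨0, 0⟩, ⟨0, 0⟩, ⟨0, 0⟩],
      ![⟨0, 0⟩, ⟨0, 0⟩, ⟨0, 0⟩, ⟨0, 0⟩],
      ![⟨0, 0⟩, ⟨0, 0⟩, ⟨0, 0⟩, ⟨0, 0⟩],
      ![⟨0, 0⟩, ⟨0, 0⟩, ⟨0, 0⟩, ⟨0, 0⟩]],
    ruOfArray ![![⟨0, 2⟩, ⟨0, 2⟩, ⟨1, 1⟩, ⟨-1, -1⟩],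
      ![⟨0, -1⟩, ⟨1, 2⟩, ⟨2, 1⟩, ⟨2, -1⟩],
      ![⟨0, -1⟩, ⟨2, -1⟩, ⟨0, -1⟩, ⟨1, 2⟩],
      ![⟨2, 0⟩, ⟨0, 0⟩, ⟨0, 0⟩, ⟨0, 0⟩],
      ![⟨0, 0⟩, ⟨0, 0⟩, ⟨0, 0⟩, ⟨0, 0⟩],
      ![⟨0, 2⟩, ⟨-1, 1⟩, ⟨-1, -1⟩, ⟨2, 0⟩],
      ![⟨1, -1⟩, ⟨1, 1⟩, ⟨1, 1⟩, ⟨1, -1⟩]],
    ruOfArray ![![⟨2, 2⟩, ⟨-1, 1⟩, ⟨0, 2⟩, ⟨-1, -1⟩],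
      ![⟨1, -1⟩, ⟨2, 0⟩, ⟨2, 0⟩, ⟨-1, 1⟩],
      ![⟨1, -1⟩, ⟨1, 1⟩, ⟨-1, 1⟩, ⟨-1, 1⟩],
      ![⟨2, 0⟩, ⟨0, 0⟩, ⟨0, 0⟩, ⟨0, 0⟩],
      ![⟨1, 2⟩, ⟨0, -1⟩, ⟨-1, 0⟩, ⟨-1, 2⟩],
      ![⟨0, 0⟩, ⟨0, 0⟩, ⟨0, 0⟩, ⟨0, 0⟩],
      ![⟨2, -1⟩, ⟨1, 2⟩, ⟨1, 0⟩, ⟨1, 0⟩]],
    ruOfArray ![![⟨-1, 1⟩, ⟨0, 0⟩, ⟨0, 0⟩, ⟨-1, 1⟩],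
      ![⟨2, -1⟩, ⟨0, 1⟩, ⟨-1, 0⟩, ⟨2, -1⟩],
      ![⟨-1, -1⟩, ⟨-1, 1⟩, ⟨0, 0⟩, ⟨2, 2⟩],
      ![⟨2, 0⟩, ⟨0, 0⟩, ⟨0, 0⟩, ⟨0, 0⟩],
      ![⟨1, -1⟩, ⟨1, 1⟩, ⟨-1, -1⟩, ⟨-1, 1⟩],
      ![⟨1, 2⟩, ⟨0, -1⟩, ⟨0, -1⟩, ⟨0, 1⟩],
      ![⟨0, 0⟩, ⟨0, 0⟩, ⟨0, 0⟩, ⟨0, 0⟩]]],
  ![ruOfArray ![![⟨0, 0⟩, ⟨0, 0⟩, ⟨0, 0⟩, ⟨0, 0⟩],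
      ![⟨2, -1⟩, ⟨2, 1⟩, ⟨1, 2⟩, ⟨2, 1⟩],
      ![⟨0, 0⟩, ⟨0, 0⟩, ⟨1, 1⟩, ⟨1, -1⟩],
      ![⟨-1, 0⟩, ⟨0, -1⟩, ⟨1, 2⟩, ⟨-1, 0⟩],
      ![⟨2, 0⟩, ⟨0, 0⟩, ⟨0, 0⟩, ⟨0, 0⟩],
      ![⟨2, 2⟩, ⟨2, 2⟩, ⟨2, 0⟩, ⟨0, 0⟩],
      ![⟨2, 2⟩, ⟨1, 1⟩, ⟨0, 2⟩, ⟨1, -1⟩]],
    ruOfArray ![![⟨2, -1⟩, ⟨2, -1⟩, ⟨-1, 0⟩, ⟨0, 1⟩],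
      ![⟨0, 0⟩, ⟨0, 0⟩, ⟨0, 0⟩, ⟨0, 0⟩],
      ![⟨0, 0⟩, ⟨0, 2⟩, ⟨2, 2⟩, ⟨2, 2⟩],
      ![⟨2, -1⟩, ⟨0, -1⟩, ⟨2, -1⟩, ⟨-1, 2⟩],
      ![⟨2, 0⟩, ⟨0, 0⟩, ⟨0, 0⟩, ⟨0, 0⟩],
      ![⟨-1, -1⟩, ⟨2, 2⟩, ⟨-1, -1⟩, ⟨2, 2⟩],
      ![⟨0, 2⟩, ⟨-1, 1⟩, ⟨1, 1⟩, ⟨2, 2⟩]],
    ruOfArray ![![⟨0, 1⟩, ⟨0, -1⟩, ⟨0, 1⟩, ⟨-1, 2⟩],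
      ![⟨0, 0⟩, ⟨0, 0⟩, ⟨2, 2⟩, ⟨2, 0⟩],
      ![⟨0, 0⟩, ⟨0, 0⟩, ⟨0, 0⟩, ⟨0, 0⟩],
      ![⟨0, 2⟩, ⟨1, -1⟩, ⟨-1, 1⟩, ⟨0, 0⟩],
      ![⟨2, 0⟩, ⟨0, 0⟩, ⟨0, 0⟩, ⟨0, 0⟩],
      ![⟨2, 2⟩, ⟨0, 2⟩, ⟨1, 1⟩, ⟨-1, 1⟩],
      ![⟨1, 2⟩, ⟨0, 1⟩, ⟨-1, 2⟩, ⟨1, 2⟩]],
    ruOfArray ![![⟨-1, 2⟩, ⟨0, 1⟩, ⟨2, -1⟩, ⟨2, -1⟩],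
      ![⟨0, 2⟩, ⟨-1, 1⟩, ⟨2, 0⟩, ⟨1, -1⟩],
      ![⟨2, 0⟩, ⟨-1, -1⟩, ⟨1, -1⟩, ⟨0, 2⟩],
      ![⟨0, 0⟩, ⟨0, 0⟩, ⟨0, 0⟩, ⟨0, 0⟩],
      ![⟨2, 0⟩, ⟨0, 0⟩, ⟨0, 0⟩, ⟨0, 0⟩],
      ![⟨1, 2⟩, ⟨2, 1⟩, ⟨-1, 0⟩, ⟨1, 0⟩],
      ![⟨-1, -1⟩, ⟨1, -1⟩, ⟨1, -1⟩, ⟨1, -1⟩]],
    ruOfArray ![![⟨0, 0⟩, ⟨0, 0⟩, ⟨0, 0⟩, ⟨0, 0⟩],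
      ![⟨0, 0⟩, ⟨0, 0⟩, ⟨0, 0⟩, ⟨0, 0⟩],
      ![⟨0, 0⟩, ⟨0, 0⟩, ⟨0, 0⟩, ⟨0, 0⟩],
      ![⟨0, 0⟩, ⟨0, 0⟩, ⟨0, 0⟩, ⟨0, 0⟩],
      ![⟨0, 0⟩, ⟨0, 0⟩, ⟨0, 0⟩, ⟨0, 0⟩],
      ![⟨0, 0⟩, ⟨0, 0⟩, ⟨0, 0⟩, ⟨0, 0⟩],
      ![⟨0, 0⟩, ⟨0, 0⟩, ⟨0, 0⟩, ⟨0, 0⟩]],
    ruOfArray ![![⟨0, 2⟩, ⟨2, 2⟩, ⟨0, 2⟩, ⟨2, 2⟩],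
      ![⟨0, -1⟩, ⟨0, -1⟩, ⟨0, 1⟩, ⟨-1, 2⟩],
      ![⟨1, 0⟩, ⟨0, 1⟩, ⟨0, -1⟩, ⟨2, 1⟩],
      ![⟨1, -1⟩, ⟨0, 0⟩, ⟨1, -1⟩, ⟨0, 0⟩],
      ![⟨2, 0⟩, ⟨0, 0⟩, ⟨0, 0⟩, ⟨0, 0⟩],
      ![⟨0, 0⟩, ⟨0, 0⟩, ⟨0, 0⟩, ⟨0, 0⟩],
      ![⟨-1, 1⟩, ⟨-1, 1⟩, ⟨0, 2⟩, ⟨2, 2⟩]],
    ruOfArray ![![⟨1, 1⟩, ⟨1, 1⟩, ⟨2, 0⟩, ⟨2, 0⟩],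
      ![⟨1, 2⟩, ⟨2, -1⟩, ⟨1, 0⟩, ⟨-1, 2⟩],
      ![⟨-1, 2⟩, ⟨-1, 2⟩, ⟨-1, 0⟩, ⟨2, -1⟩],
      ![⟨0, 2⟩, ⟨0, 0⟩, ⟨2, 2⟩, ⟨0, 2⟩],
      ![⟨2, 0⟩, ⟨0, 0⟩, ⟨0, 0⟩, ⟨0, 0⟩],
      ![⟨1, -1⟩, ⟨0, 2⟩, ⟨0, 0⟩, ⟨-1, 1⟩],
      ![⟨0, 0⟩, ⟨0, 0⟩, ⟨0, 0⟩, ⟨0, 0⟩]]],
  ![ruOfArray ![![⟨0, 0⟩, ⟨0, 0⟩, ⟨0, 0⟩, ⟨0, 0⟩],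
      ![⟨0, 1⟩, ⟨0, -1⟩, ⟨-1, 2⟩, ⟨0, 1⟩],
      ![⟨0, 0⟩, ⟨0, 0⟩, ⟨-1, -1⟩, ⟨-1, 1⟩],
      ![⟨2, 1⟩, ⟨-1, 0⟩, ⟨0, -1⟩, ⟨0, 1⟩],
      ![⟨-1, 1⟩, ⟨1, -1⟩, ⟨-1, 1⟩, ⟨1, -1⟩],
      ![⟨2, 0⟩, ⟨0, 0⟩, ⟨0, 0⟩, ⟨0, 0⟩],
      ![⟨0, 2⟩, ⟨1, -1⟩, ⟨2, 2⟩, ⟨1, 1⟩]],
    ruOfArray ![![⟨0, 0⟩, ⟨1, 1⟩, ⟨2, 0⟩, ⟨1, -1⟩],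
      ![⟨0, 0⟩, ⟨0, 0⟩, ⟨0, 0⟩, ⟨0, 0⟩],
      ![⟨0, -1⟩, ⟨0, 1⟩, ⟨1, 0⟩, ⟨0, 1⟩],
      ![⟨0, 2⟩, ⟨2, 0⟩, ⟨1, 1⟩, ⟨1, -1⟩],
      ![⟨-1, 0⟩, ⟨0, 1⟩, ⟨-1, 0⟩, ⟨-1, 2⟩],
      ![⟨2, 0⟩, ⟨0, 0⟩, ⟨0, 0⟩, ⟨0, 0⟩],
      ![⟨2, 0⟩, ⟨2, 2⟩, ⟨2, 2⟩, ⟨2, 2⟩]],
    ruOfArray ![![⟨0, -1⟩, ⟨-1, 0⟩, ⟨1, 0⟩, ⟨-1, 2⟩],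
      ![⟨-1, -1⟩, ⟨0, 2⟩, ⟨1, 1⟩, ⟨0, 0⟩],
      ![⟨0, 0⟩, ⟨0, 0⟩, ⟨0, 0⟩, ⟨0, 0⟩],
      ![⟨2, 0⟩, ⟨2, 2⟩, ⟨0, 0⟩, ⟨2, 2⟩],
      ![⟨0, 0⟩, ⟨0, 2⟩, ⟨1, 1⟩, ⟨1, 1⟩],
      ![⟨2, 0⟩, ⟨0, 0⟩, ⟨0, 0⟩, ⟨0, 0⟩],
      ![⟨1, 0⟩, ⟨1, 0⟩, ⟨-1, 2⟩, ⟨0, 1⟩]],
    ruOfArray ![![⟨1, 1⟩, ⟨1, -1⟩, ⟨0, 2⟩, ⟨0, 2⟩],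
      ![⟨0, 1⟩, ⟨1, 2⟩, ⟨0, -1⟩, ⟨0, 1⟩],
      ![⟨-1, 1⟩, ⟨-1, -1⟩, ⟨1, 1⟩, ⟨-1, -1⟩],
      ![⟨0, 0⟩, ⟨0, 0⟩, ⟨0, 0⟩, ⟨0, 0⟩],
      ![⟨0, 0⟩, ⟨1, -1⟩, ⟨0, 2⟩, ⟨-1, 1⟩],
      ![⟨2, 0⟩, ⟨0, 0⟩, ⟨0, 0⟩, ⟨0, 0⟩],
      ![⟨0, -1⟩, ⟨0, 1⟩, ⟨1, 0⟩, ⟨2, 1⟩]],
    ruOfArray ![![⟨1, -1⟩, ⟨-1, 1⟩, ⟨1, 1⟩, ⟨1, 1⟩],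
      ![⟨-1, 0⟩, ⟨1, 0⟩, ⟨-1, 2⟩, ⟨0, -1⟩],
      ![⟨1, 2⟩, ⟨0, -1⟩, ⟨0, -1⟩, ⟨2, -1⟩],
      ![⟨-1, -1⟩, ⟨2, 2⟩, ⟨1, 1⟩, ⟨2, 0⟩],
      ![⟨0, 0⟩, ⟨0, 0⟩, ⟨0, 0⟩, ⟨0, 0⟩],
      ![⟨2, 0⟩, ⟨0, 0⟩, ⟨0, 0⟩, ⟨0, 0⟩],
      ![⟨0, 2⟩, ⟨2, 2⟩, ⟨-1, 1⟩, ⟨1, -1⟩]],
    ruOfArray ![![⟨0, 0⟩, ⟨0, 0⟩, ⟨0, 0⟩, ⟨0, 0⟩],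
      ![⟨0, 0⟩, ⟨0, 0⟩, ⟨0, 0⟩, ⟨0, 0⟩],
      ![⟨0, 0⟩, ⟨0, 0⟩, ⟨0, 0⟩, ⟨0, 0⟩],
      ![⟨0, 0⟩, ⟨0, 0⟩, ⟨0, 0⟩, ⟨0, 0⟩],
      ![⟨0, 0⟩, ⟨0, 0⟩, ⟨0, 0⟩, ⟨0, 0⟩],
      ![⟨0, 0⟩, ⟨0, 0⟩, ⟨0, 0⟩, ⟨0, 0⟩],
      ![⟨0, 0⟩, ⟨0, 0⟩, ⟨0, 0⟩, ⟨0, 0⟩]],
    ruOfArray ![![⟨1, -1⟩, ⟨1, -1⟩, ⟨0, 0⟩, ⟨2, 0⟩],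
      ![⟨2, 2⟩, ⟨2, 0⟩, ⟨0, 0⟩, ⟨0, 2⟩],
      ![⟨-1, 0⟩, ⟨-1, 0⟩, ⟨-1, 0⟩, ⟨0, 1⟩],
      ![⟨0, -1⟩, ⟨-1, 0⟩, ⟨1, 0⟩, ⟨1, 2⟩],
      ![⟨1, -1⟩, ⟨2, 0⟩, ⟨-1, -1⟩, ⟨2, 2⟩],
      ![⟨2, 0⟩, ⟨0, 0⟩, ⟨0, 0⟩, ⟨0, 0⟩],
      ![⟨0, 0⟩, ⟨0, 0⟩, ⟨0, 0⟩, ⟨0, 0⟩]]],
  ![ruOfArray ![![⟨0, 0⟩, ⟨0, 0⟩, ⟨0, 0⟩, ⟨0, 0⟩],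
      ![⟨1, 1⟩, ⟨0, 2⟩, ⟨0, 0⟩, ⟨-1, 1⟩],
      ![⟨0, 0⟩, ⟨0, 0⟩, ⟨0, 0⟩, ⟨0, 2⟩],
      ![⟨1, 1⟩, ⟨1, -1⟩, ⟨2, 2⟩, ⟨0, 0⟩],
      ![⟨0, 1⟩, ⟨-1, 2⟩, ⟨0, 1⟩, ⟨0, -1⟩],
      ![⟨-1, 0⟩, ⟨-1, 0⟩, ⟨-1, 2⟩, ⟨2, -1⟩],
      ![⟨2, 0⟩, ⟨0, 0⟩, ⟨0, 0⟩, ⟨0, 0⟩]],
    ruOfArray ![![⟨2, 0⟩, ⟨1, 1⟩, ⟨0, 2⟩, ⟨-1, -1⟩],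
      ![⟨0, 0⟩, ⟨0, 0⟩, ⟨0, 0⟩, ⟨0, 0⟩],
      ![⟨2, 1⟩, ⟨0, 1⟩, ⟨1, 2⟩, ⟨0, -1⟩],
      ![⟨-1, 1⟩, ⟨-1, -1⟩, ⟨2, 2⟩, ⟨0, 2⟩],
      ![⟨0, 1⟩, ⟨-1, 0⟩, ⟨0, 1⟩, ⟨2, -1⟩],
      ![⟨2, 2⟩, ⟨2, 0⟩, ⟨0, 2⟩, ⟨0, 2⟩],
      ![⟨2, 0⟩, ⟨0, 0⟩, ⟨0, 0⟩, ⟨0, 0⟩]],
    ruOfArray ![![⟨1, 1⟩, ⟨-1, 1⟩, ⟨1, -1⟩, ⟨1, 1⟩],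
      ![⟨-1, -1⟩, ⟨2, 2⟩, ⟨-1, -1⟩, ⟨0, 2⟩],
      ![⟨0, 0⟩, ⟨0, 0⟩, ⟨0, 0⟩, ⟨0, 0⟩],
      ![⟨1, 0⟩, ⟨-1, 0⟩, ⟨2, 1⟩, ⟨-1, 2⟩],
      ![⟨1, 1⟩, ⟨-1, 1⟩, ⟨2, 0⟩, ⟨0, 0⟩],
      ![⟨1, 2⟩, ⟨0, 1⟩, ⟨-1, 0⟩, ⟨1, 0⟩],
      ![⟨2, 0⟩, ⟨0, 0⟩, ⟨0, 0⟩, ⟨0, 0⟩]],
    ruOfArray ![![⟨0, 0⟩, ⟨-1, 1⟩, ⟨2, 2⟩, ⟨-1, -1⟩],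
      ![⟨-1, 1⟩, ⟨0, 2⟩, ⟨0, 0⟩, ⟨1, -1⟩],
      ![⟨-1, 2⟩, ⟨1, 0⟩, ⟨2, -1⟩, ⟨1, 0⟩],
      ![⟨0, 0⟩, ⟨0, 0⟩, ⟨0, 0⟩, ⟨0, 0⟩],
      ![⟨1, -1⟩, ⟨-1, -1⟩, ⟨-1, 1⟩, ⟨1, 1⟩],
      ![⟨2, -1⟩, ⟨0, 1⟩, ⟨2, 1⟩, ⟨1, 0⟩],
      ![⟨2, 0⟩, ⟨0, 0⟩, ⟨0, 0⟩, ⟨0, 0⟩]],
    ruOfArray ![![⟨1, 1⟩, ⟨0, 2⟩, ⟨2, 2⟩, ⟨1, 1⟩],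
      ![⟨0, -1⟩, ⟨2, 1⟩, ⟨1, 2⟩, ⟨2, 1⟩],
      ![⟨-1, 1⟩, ⟨1, -1⟩, ⟨0, 2⟩, ⟨0, 2⟩],
      ![⟨0, 0⟩, ⟨0, 0⟩, ⟨2, 2⟩, ⟨2, 2⟩],
      ![⟨0, 0⟩, ⟨0, 0⟩, ⟨0, 0⟩, ⟨0, 0⟩],
      ![⟨-1, 2⟩, ⟨2, -1⟩, ⟨2, 1⟩, ⟨0, -1⟩],
      ![⟨2, 0⟩, ⟨0, 0⟩, ⟨0, 0⟩, ⟨0, 0⟩]],
    ruOfArray ![![⟨-1, -1⟩, ⟨0, 2⟩, ⟨2, 0⟩, ⟨1, -1⟩],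
      ![⟨2, 2⟩, ⟨0, 2⟩, ⟨0, 0⟩, ⟨2, 0⟩],
      ![⟨1, 1⟩, ⟨-1, 1⟩, ⟨2, 0⟩, ⟨2, 2⟩],
      ![⟨1, 2⟩, ⟨2, -1⟩, ⟨-1, 2⟩, ⟨-1, 2⟩],
      ![⟨1, 2⟩, ⟨1, 2⟩, ⟨1, 0⟩, ⟨0, -1⟩],
      ![⟨0, 0⟩, ⟨0, 0⟩, ⟨0, 0⟩, ⟨0, 0⟩],
      ![⟨2, 0⟩, ⟨0, 0⟩, ⟨0, 0⟩, ⟨0, 0⟩]],
    ruOfArray ![![⟨0, 0⟩, ⟨0, 0⟩, ⟨0, 0⟩, ⟨0, 0⟩],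
      ![⟨0, 0⟩, ⟨0, 0⟩, ⟨0, 0⟩, ⟨0, 0⟩],
      ![⟨0, 0⟩, ⟨0, 0⟩, ⟨0, 0⟩, ⟨0, 0⟩],
      ![⟨0, 0⟩, ⟨0, 0⟩, ⟨0, 0⟩, ⟨0, 0⟩],
      ![⟨0, 0⟩, ⟨0, 0⟩, ⟨0, 0⟩, ⟨0, 0⟩],
      ![⟨0, 0⟩, ⟨0, 0⟩, ⟨0, 0⟩, ⟨0, 0⟩],
      ![⟨0, 0⟩, ⟨0, 0⟩, ⟨0, 0⟩, ⟨0, 0⟩]]]]

/-- special test vectors for single components -/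
def DBv : Fin 7 → RuVec := ![
  ruOfArray ![![⟨0, 0⟩, ⟨0, 0⟩, ⟨0, 0⟩, ⟨1, 1⟩],
      ![⟨0, 0⟩, ⟨0, -1⟩, ⟨0, -1⟩, ⟨-1, -1⟩],
      ![⟨0, 0⟩, ⟨0, 0⟩, ⟨0, -1⟩, ⟨-1, 0⟩],
      ![⟨0, 0⟩, ⟨0, 0⟩, ⟨-1, 0⟩, ⟨1, 0⟩],
      ![⟨0, -1⟩, ⟨0, 0⟩, ⟨-1, 0⟩, ⟨-1, 1⟩],
      ![⟨-1, 0⟩, ⟨0, 0⟩, ⟨0, 0⟩, ⟨2, 1⟩],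
      ![⟨1, -1⟩, ⟨0, -1⟩, ⟨2, 2⟩, ⟨1, 0⟩]],
  ruOfArray ![![⟨0, 0⟩, ⟨1, 0⟩, ⟨0, 0⟩, ⟨-1, 2⟩],
      ![⟨0, 0⟩, ⟨0, 0⟩, ⟨0, 0⟩, ⟨1, 1⟩],
      ![⟨0, 0⟩, ⟨0, -1⟩, ⟨-1, 0⟩, ⟨2, 0⟩],
      ![⟨0, -1⟩, ⟨-1, 0⟩, ⟨1, -1⟩, ⟨2, 0⟩],
      ![⟨0, 1⟩, ⟨0, 1⟩, ⟨1, -1⟩, ⟨2, 2⟩],
      ![⟨1, -1⟩, ⟨-1, 0⟩, ⟨0, 0⟩, ⟨1, 2⟩],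
      ![⟨-1, -1⟩, ⟨1, 2⟩, ⟨1, 2⟩, ⟨1, -1⟩]],
  ruOfArray ![![⟨-1, 0⟩, ⟨0, 0⟩, ⟨0, 0⟩, ⟨0, 1⟩],
      ![⟨0, 0⟩, ⟨0, 1⟩, ⟨0, 0⟩, ⟨0, 1⟩],
      ![⟨0, 0⟩, ⟨0, 0⟩, ⟨0, 0⟩, ⟨1, 1⟩],
      ![⟨0, 0⟩, ⟨0, 1⟩, ⟨1, 0⟩, ⟨0, 0⟩],
      ![⟨0, 1⟩, ⟨1, 0⟩, ⟨0, 0⟩, ⟨-1, 1⟩],
      ![⟨0, 1⟩, ⟨0, -1⟩, ⟨-1, 1⟩, ⟨2, 2⟩],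
      ![⟨-1, 0⟩, ⟨1, -1⟩, ⟨2, -1⟩, ⟨2, 2⟩]],
  ruOfArray ![![⟨0, 2⟩, ⟨-1, 0⟩, ⟨1, -1⟩, ⟨-1, 2⟩],
      ![⟨0, 0⟩, ⟨-1, 2⟩, ⟨1, 0⟩, ⟨0, 0⟩],
      ![⟨0, 0⟩, ⟨-1, 0⟩, ⟨2, 0⟩, ⟨1, 2⟩],
      ![⟨0, 0⟩, ⟨0, 0⟩, ⟨0, 0⟩, ⟨1, 1⟩],
      ![⟨0, -1⟩, ⟨-1, 1⟩, ⟨-1, 1⟩, ⟨2, 1⟩],
      ![⟨-1, 2⟩, ⟨0, -1⟩, ⟨2, 2⟩, ⟨-1, 1⟩],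
      ![⟨1, 1⟩, ⟨0, 2⟩, ⟨1, 0⟩, ⟨0, -1⟩]],
  ruOfArray ![![⟨1, 2⟩, ⟨0, 1⟩, ⟨0, 2⟩, ⟨0, 2⟩],
      ![⟨2, 2⟩, ⟨1, 2⟩, ⟨1, -1⟩, ⟨-1, 2⟩],
      ![⟨0, 0⟩, ⟨-1, 0⟩, ⟨-1, 2⟩, ⟨0, 2⟩],
      ![⟨-1, 0⟩, ⟨2, 2⟩, ⟨1, 2⟩, ⟨-1, 1⟩],
      ![⟨0, 0⟩, ⟨0, 0⟩, ⟨0, 0⟩, ⟨1, 1⟩],
      ![⟨2, 1⟩, ⟨2, 0⟩, ⟨1, -1⟩, ⟨-1, 2⟩],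
      ![⟨0, 1⟩, ⟨0, -1⟩, ⟨2, 0⟩, ⟨2, 0⟩]],
  ruOfArray ![![⟨0, 0⟩, ⟨-1, 1⟩, ⟨-1, 0⟩, ⟨1, 0⟩],
      ![⟨0, 0⟩, ⟨2, 0⟩, ⟨2, 1⟩, ⟨0, -1⟩],
      ![⟨0, 0⟩, ⟨1, 2⟩, ⟨0, 0⟩, ⟨2, 1⟩],
      ![⟨1, 2⟩, ⟨1, -1⟩, ⟨0, 0⟩, ⟨1, 0⟩],
      ![⟨1, 0⟩, ⟨0, 0⟩, ⟨0, 1⟩, ⟨2, 2⟩],
      ![⟨0, 0⟩, ⟨0, 0⟩, ⟨0, 0⟩, ⟨1, 1⟩],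
      ![⟨1, -1⟩, ⟨2, 1⟩, ⟨0, 1⟩, ⟨2, 0⟩]],
  ruOfArray ![![⟨0, 2⟩, ⟨1, 0⟩, ⟨1, 2⟩, ⟨-1, 1⟩],
      ![⟨1, 1⟩, ⟨1, 1⟩, ⟨1, 0⟩, ⟨2, -1⟩],
      ![⟨0, 0⟩, ⟨2, 2⟩, ⟨2, 1⟩, ⟨0, 1⟩],
      ![⟨2, 2⟩, ⟨1, 2⟩, ⟨-1, 1⟩, ⟨-1, 2⟩],
      ![⟨2, 2⟩, ⟨1, 0⟩, ⟨1, 2⟩, ⟨2, 0⟩],
      ![⟨0, 0⟩, ⟨-1, 2⟩, ⟨1, 1⟩, ⟨2, -1⟩],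
      ![⟨0, 0⟩, ⟨0, 0⟩, ⟨0, 0⟩, ⟨1, 1⟩]]]

/-- parities of the `u_m` -/
def HbA : Fin 19 → Fin 7 → Fin 4 → ZMod 2 := ![
  ![![1, 1, 1, 1], ![1, 0, 0, 1], ![1, 1, 0, 0], ![1, 1, 0, 0], ![1, 0, 1, 0], ![1, 0, 0, 1], ![0, 1, 0, 1]],
  ![![0, 1, 0, 1], ![1, 1, 1, 1], ![1, 0, 0, 1], ![0, 0, 1, 1], ![0, 0, 1, 1], ![1, 0, 1, 0], ![1, 0, 0, 1]],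
  ![![0, 0, 1, 1], ![0, 0, 1, 1], ![1, 0, 1, 0], ![0, 1, 1, 0], ![0, 1, 0, 1], ![1, 1, 1, 1], ![0, 1, 1, 0]],
  ![![0, 0, 0, 0], ![1, 0, 0, 1], ![0, 0, 1, 1], ![1, 1, 0, 0], ![0, 1, 0, 1], ![1, 0, 0, 1], ![1, 0, 1, 0]],
  ![![0, 0, 0, 0], ![0, 1, 1, 0], ![1, 1, 0, 0], ![0, 0, 1, 1], ![1, 0, 1, 0], ![1, 0, 0, 1], ![1, 0, 1, 0]],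
  ![![0, 0, 0, 0], ![0, 0, 0, 0], ![1, 1, 1, 1], ![1, 1, 1, 1], ![1, 1, 1, 1], ![0, 0, 0, 0], ![1, 1, 1, 1]],
  ![![0, 0, 0, 0], ![0, 0, 0, 0], ![0, 0, 0, 0], ![1, 1, 1, 1], ![1, 1, 1, 1], ![1, 1, 1, 1], ![1, 1, 1, 1]],
  ![![0, 0, 0, 0], ![0, 0, 0, 0], ![0, 0, 0, 0], ![0, 0, 0, 0], ![1, 1, 1, 1], ![1, 1, 1, 1], ![0, 0, 0, 0]],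
  ![![0, 0, 0, 0], ![0, 0, 0, 0], ![0, 0, 0, 0], ![0, 0, 0, 0], ![0, 0, 0, 0], ![1, 1, 1, 1], ![1, 1, 1, 1]],
  ![![0, 0, 0, 0], ![0, 0, 0, 0], ![0, 0, 0, 0], ![0, 0, 0, 0], ![0, 0, 0, 0], ![0, 0, 0, 0], ![1, 1, 1, 1]],
  ![![0, 0, 0, 0], ![0, 0, 0, 0], ![0, 1, 0, 1], ![1, 1, 1, 1], ![0, 0, 1, 1], ![0, 1, 0, 1], ![1, 1, 0, 0]],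
  ![![0, 0, 0, 0], ![0, 0, 1, 1], ![1, 1, 0, 0], ![1, 1, 1, 1], ![1, 1, 1, 1], ![0, 0, 0, 0], ![0, 0, 1, 1]],
  ![![0, 0, 0, 0], ![0, 0, 0, 0], ![0, 0, 1, 1], ![0, 1, 0, 1], ![1, 0, 0, 1], ![0, 1, 0, 1], ![0, 0, 1, 1]],
  ![![0, 0, 0, 0], ![0, 0, 0, 0], ![0, 0, 0, 0], ![0, 1, 0, 1], ![0, 1, 1, 0], ![0, 1, 0, 1], ![0, 1, 1, 0]],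
  ![![0, 0, 0, 0], ![0, 0, 0, 0], ![0, 0, 0, 0], ![0, 0, 1, 1], ![1, 0, 1, 0], ![0, 0, 0, 0], ![1, 0, 1, 0]],
  ![![0, 0, 0, 0], ![0, 0, 0, 0], ![0, 0, 0, 0], ![0, 0, 0, 0], ![0, 1, 0, 1], ![0, 1, 1, 0], ![0, 0, 0, 0]],
  ![![0, 0, 0, 0], ![0, 0, 0, 0], ![0, 0, 0, 0], ![0, 0, 0, 0], ![0, 0, 1, 1], ![1, 1, 0, 0], ![0, 1, 0, 1]],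
  ![![0, 0, 0, 0], ![0, 0, 0, 0], ![0, 0, 0, 0], ![0, 0, 0, 0], ![0, 0, 0, 0], ![0, 1, 0, 1], ![0, 1, 1, 0]],
  ![![0, 0, 0, 1], ![0, 1, 0, 0], ![0, 1, 0, 0], ![1, 1, 0, 1], ![1, 1, 0, 1], ![1, 0, 1, 1], ![0, 1, 0, 0]]]

/-- left inverse data for the level 0 code -/
def Q0A : Fin 9 → Fin 7 → Fin 4 → ZMod 2 := ![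
  ![![1, 0, 0, 0], ![0, 0, 0, 0], ![0, 0, 0, 0], ![0, 0, 0, 0], ![0, 0, 0, 0], ![0, 0, 0, 0], ![0, 0, 0, 0]],
  ![![1, 1, 0, 0], ![0, 0, 0, 0], ![0, 0, 0, 0], ![0, 0, 0, 0], ![0, 0, 0, 0], ![0, 0, 0, 0], ![0, 0, 0, 0]],
  ![![1, 0, 1, 0], ![0, 0, 0, 0], ![0, 0, 0, 0], ![0, 0, 0, 0], ![0, 0, 0, 0], ![0, 0, 0, 0], ![0, 0, 0, 0]],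
  ![![0, 1, 0, 0], ![1, 0, 0, 0], ![0, 0, 0, 0], ![0, 0, 0, 0], ![0, 0, 0, 0], ![0, 0, 0, 0], ![0, 0, 0, 0]],
  ![![1, 1, 0, 0], ![0, 1, 0, 0], ![0, 0, 0, 0], ![0, 0, 0, 0], ![0, 0, 0, 0], ![0, 0, 0, 0], ![0, 0, 0, 0]],
  ![![0, 0, 1, 0], ![0, 1, 0, 0], ![1, 0, 0, 0], ![0, 0, 0, 0], ![0, 0, 0, 0], ![0, 0, 0, 0], ![0, 0, 0, 0]],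
  ![![1, 1, 1, 0], ![1, 1, 0, 0], ![1, 0, 0, 0], ![1, 0, 0, 0], ![0, 0, 0, 0], ![0, 0, 0, 0], ![0, 0, 0, 0]],
  ![![1, 0, 0, 0], ![1, 1, 0, 0], ![0, 0, 0, 0], ![1, 0, 0, 0], ![1, 0, 0, 0], ![0, 0, 0, 0], ![0, 0, 0, 0]],
  ![![0, 0, 0, 0], ![1, 1, 0, 0], ![1, 0, 0, 0], ![0, 0, 0, 0], ![1, 0, 0, 0], ![1, 0, 0, 0], ![0, 0, 0, 0]]]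

/-- left inverse data for the level 0 code -/
def P0A : Fin 7 → Fin 4 → Fin 19 → ZMod 2 := ![
  ![![0, 0, 0, 0, 0, 0, 0, 0, 0, 0, 0, 0, 0, 0, 0, 0, 0, 0, 0], ![0, 0, 0, 0, 0, 0, 0, 0, 0, 0, 0, 0, 0, 0, 0, 0, 0, 0, 0], ![0, 0, 0, 0, 0, 0, 0, 0, 0, 0, 0, 0, 0, 0, 0, 0, 0, 0, 0], ![1, 0, 0, 1, 0, 1, 1, 1, 0, 1, 0, 0, 0, 0, 0, 0, 0, 0, 0]],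
  ![![0, 0, 0, 0, 0, 0, 0, 0, 0, 0, 0, 0, 0, 0, 0, 0, 0, 0, 0], ![0, 0, 0, 0, 0, 0, 0, 0, 0, 0, 0, 0, 0, 0, 0, 0, 0, 0, 0], ![1, 1, 0, 0, 0, 0, 0, 1, 1, 1, 1, 0, 0, 0, 0, 1, 0, 0, 0], ![1, 1, 0, 1, 1, 1, 0, 1, 1, 0, 1, 0, 0, 0, 0, 1, 0, 0, 0]],
  ![![0, 0, 0, 0, 0, 0, 0, 0, 0, 0, 0, 0, 0, 0, 0, 0, 0, 0, 0], ![0, 1, 1, 1, 1, 1, 1, 1, 0, 1, 0, 1, 1, 0, 0, 0, 0, 0, 0], ![1, 0, 1, 0, 1, 0, 1, 0, 1, 0, 0, 0, 0, 1, 1, 1, 1, 0, 0], ![1, 1, 0, 1, 0, 0, 1, 1, 0, 0, 0, 1, 1, 1, 1, 1, 1, 0, 0]],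
  ![![0, 0, 0, 0, 0, 0, 0, 0, 0, 0, 0, 0, 0, 0, 0, 0, 0, 0, 0], ![1, 1, 0, 0, 1, 1, 0, 0, 1, 1, 1, 0, 1, 1, 0, 0, 0, 0, 0], ![0, 1, 1, 0, 0, 0, 1, 0, 0, 0, 0, 0, 1, 1, 0, 1, 1, 0, 0], ![1, 0, 1, 0, 1, 1, 0, 1, 1, 0, 1, 0, 0, 0, 0, 1, 1, 0, 0]],
  ![![0, 0, 0, 0, 0, 0, 0, 0, 0, 0, 0, 0, 0, 0, 0, 0, 0, 0, 0], ![1, 1, 0, 1, 0, 1, 1, 0, 1, 1, 1, 1, 0, 0, 1, 1, 1, 1, 0], ![1, 0, 1, 1, 0, 1, 1, 1, 1, 0, 1, 1, 1, 0, 1, 0, 0, 0, 0], ![0, 1, 1, 0, 0, 0, 0, 0, 1, 0, 0, 0, 1, 0, 0, 1, 1, 1, 0]],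
  ![![0, 0, 0, 0, 0, 0, 0, 0, 0, 0, 0, 0, 0, 0, 0, 0, 0, 0, 0], ![1, 0, 1, 0, 1, 1, 1, 1, 0, 1, 1, 0, 0, 1, 1, 1, 0, 1, 0], ![0, 0, 0, 1, 1, 0, 0, 1, 0, 0, 0, 1, 1, 1, 0, 0, 0, 1, 0], ![1, 0, 1, 1, 0, 1, 1, 0, 1, 0, 1, 1, 1, 0, 1, 1, 0, 0, 0]],
  ![![1, 1, 1, 1, 0, 0, 0, 1, 0, 1, 0, 0, 0, 0, 0, 0, 1, 1, 1], ![1, 0, 0, 1, 0, 0, 0, 0, 1, 0, 0, 0, 1, 0, 0, 0, 1, 1, 1], ![1, 0, 0, 0, 1, 0, 0, 1, 0, 1, 0, 1, 0, 1, 0, 0, 1, 1, 1], ![1, 1, 1, 0, 1, 0, 0, 0, 1, 1, 0, 1, 1, 1, 0, 0, 1, 1, 1]]]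

/-- left inverse data for the level 1 code -/
def Q1A : Fin 10 → Fin 7 → Fin 4 → ZMod 2 := ![
  ![![1, 0, 0, 0], ![0, 0, 0, 0], ![0, 0, 0, 0], ![0, 0, 0, 0], ![0, 0, 0, 0], ![0, 0, 0, 0], ![0, 0, 0, 0]],
  ![![1, 1, 0, 0], ![0, 0, 0, 0], ![0, 0, 0, 0], ![0, 0, 0, 0], ![0, 0, 0, 0], ![0, 0, 0, 0], ![0, 0, 0, 0]],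
  ![![1, 0, 1, 0], ![0, 0, 0, 0], ![0, 0, 0, 0], ![0, 0, 0, 0], ![0, 0, 0, 0], ![0, 0, 0, 0], ![0, 0, 0, 0]],
  ![![0, 1, 0, 0], ![1, 0, 0, 0], ![0, 0, 0, 0], ![0, 0, 0, 0], ![0, 0, 0, 0], ![0, 0, 0, 0], ![0, 0, 0, 0]],
  ![![1, 1, 0, 0], ![0, 1, 0, 0], ![0, 0, 0, 0], ![0, 0, 0, 0], ![0, 0, 0, 0], ![0, 0, 0, 0], ![0, 0, 0, 0]],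
  ![![0, 0, 1, 0], ![0, 1, 0, 0], ![1, 0, 0, 0], ![0, 0, 0, 0], ![0, 0, 0, 0], ![0, 0, 0, 0], ![0, 0, 0, 0]],
  ![![1, 1, 1, 0], ![1, 1, 0, 0], ![1, 0, 0, 0], ![1, 0, 0, 0], ![0, 0, 0, 0], ![0, 0, 0, 0], ![0, 0, 0, 0]],
  ![![1, 0, 0, 0], ![1, 1, 0, 0], ![0, 0, 0, 0], ![1, 0, 0, 0], ![1, 0, 0, 0], ![0, 0, 0, 0], ![0, 0, 0, 0]],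
  ![![0, 0, 0, 0], ![1, 1, 0, 0], ![1, 0, 0, 0], ![0, 0, 0, 0], ![1, 0, 0, 0], ![1, 0, 0, 0], ![0, 0, 0, 0]],
  ![![1, 0, 0, 0], ![1, 0, 0, 0], ![1, 0, 0, 0], ![1, 0, 0, 0], ![1, 0, 0, 0], ![1, 0, 0, 0], ![1, 0, 0, 0]]]

/-- left inverse data for the level 1 code -/
def P1A : Fin 7 → Fin 4 → Fin 18 → ZMod 2 := ![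
  ![![0, 0, 0, 0, 0, 0, 0, 0, 0, 0, 0, 0, 0, 0, 0, 0, 0, 0], ![0, 0, 0, 0, 0, 0, 0, 0, 0, 0, 0, 0, 0, 0, 0, 0, 0, 0], ![0, 0, 0, 0, 0, 0, 0, 0, 0, 0, 0, 0, 0, 0, 0, 0, 0, 0], ![1, 0, 0, 1, 0, 1, 1, 1, 0, 1, 0, 0, 0, 0, 0, 0, 0, 0]],
  ![![0, 0, 0, 0, 0, 0, 0, 0, 0, 0, 0, 0, 0, 0, 0, 0, 0, 0], ![0, 0, 0, 0, 0, 0, 0, 0, 0, 0, 0, 0, 0, 0, 0, 0, 0, 0], ![1, 1, 0, 0, 0, 0, 0, 1, 1, 1, 1, 0, 0, 0, 0, 1, 0, 0], ![1, 1, 0, 1, 1, 1, 0, 1, 1, 0, 1, 0, 0, 0, 0, 1, 0, 0]],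
  ![![0, 0, 0, 0, 0, 0, 0, 0, 0, 0, 0, 0, 0, 0, 0, 0, 0, 0], ![0, 1, 1, 1, 1, 1, 1, 1, 0, 1, 0, 1, 1, 0, 0, 0, 0, 0], ![1, 0, 1, 0, 1, 0, 1, 0, 1, 0, 0, 0, 0, 1, 1, 1, 1, 0], ![1, 1, 0, 1, 0, 0, 1, 1, 0, 0, 0, 1, 1, 1, 1, 1, 1, 0]],
  ![![0, 0, 0, 0, 0, 0, 0, 0, 0, 0, 0, 0, 0, 0, 0, 0, 0, 0], ![1, 1, 0, 0, 1, 1, 0, 0, 1, 1, 1, 0, 1, 1, 0, 0, 0, 0], ![0, 1, 1, 0, 0, 0, 1, 0, 0, 0, 0, 0, 1, 1, 0, 1, 1, 0], ![1, 0, 1, 0, 1, 1, 0, 1, 1, 0, 1, 0, 0, 0, 0, 1, 1, 0]],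
  ![![0, 0, 0, 0, 0, 0, 0, 0, 0, 0, 0, 0, 0, 0, 0, 0, 0, 0], ![1, 1, 0, 1, 0, 1, 1, 0, 1, 1, 1, 1, 0, 0, 1, 1, 1, 1], ![1, 0, 1, 1, 0, 1, 1, 1, 1, 0, 1, 1, 1, 0, 1, 0, 0, 0], ![0, 1, 1, 0, 0, 0, 0, 0, 1, 0, 0, 0, 1, 0, 0, 1, 1, 1]],
  ![![0, 0, 0, 0, 0, 0, 0, 0, 0, 0, 0, 0, 0, 0, 0, 0, 0, 0], ![1, 0, 1, 0, 1, 1, 1, 1, 0, 1, 1, 0, 0, 1, 1, 1, 0, 1], ![0, 0, 0, 1, 1, 0, 0, 1, 0, 0, 0, 1, 1, 1, 0, 0, 0, 1], ![1, 0, 1, 1, 0, 1, 1, 0, 1, 0, 1, 1, 1, 0, 1, 1, 0, 0]],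
  ![![0, 0, 0, 0, 0, 0, 0, 0, 0, 0, 0, 0, 0, 0, 0, 0, 0, 0], ![0, 1, 1, 0, 0, 0, 0, 1, 1, 1, 0, 0, 1, 0, 0, 0, 0, 0], ![0, 1, 1, 1, 1, 0, 0, 0, 0, 0, 0, 1, 0, 1, 0, 0, 0, 0], ![0, 0, 0, 1, 1, 0, 0, 1, 1, 0, 0, 1, 1, 1, 0, 0, 0, 0]]]

end Cfsg.Agent.Lib.Helper14.RuLat
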