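import Mathlib
import Cfsg.Prelude.Def_Spor_Ru
import Cfsg.Agent.Lib.Helper14.RuLatA
import Cfsg.Agent.Lib.Helper14.RuLatB
import Cfsg.Agent.Lib.Helper14.RuLatC
import Cfsg.Agent.Lib.Helper14.RuLatD

set_option autoImplicit false

/-!
# The Rudvalis lattice: verified properties of the test vectors and of the parity codes
-/

namespace Cfsg.Agent.Lib.Helper14.RuLat

open Cfsg.Spor Finset

/-- parity-check matrix -/
def Hb (m : Fin 19) (p : RuIdx) : ZMod 2 := HbA m p.1 p.2
/-- level 0 decoding data -/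
def Q0 (a : Fin 9) (p : RuIdx) : ZMod 2 := Q0A a p.1 p.2
/-- level 0 decoding data -/
def P0 (q : RuIdx) (m : Fin 19) : ZMod 2 := P0A q.1 q.2 m
/-- level 1 decoding data -/
def Q1 (a : Fin 10) (p : RuIdx) : ZMod 2 := Q1A a p.1 p.2
/-- level 1 decoding data -/
def P1 (q : RuIdx) (m : Fin 18) : ZMod 2 := P1A q.1 q.2 m

/-- the first 9 rows -/
def H9 (a : Fin 9) (p : RuIdx) : ZMod 2 := Hb (Fin.castLE (by norm_num) a) p
/-- the first 10 rows -/
def H10 (a : Fin 10) (p : RuIdx) : ZMod 2 := Hb (Fin.castLE (by norm_num) a) p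
/-- the first 18 rows -/
def H18 (a : Fin 18) (p : RuIdx) : ZMod 2 := Hb (Fin.castLE (by norm_num) a) p

/-- the test vectors in the lattice -/
def Tv (m : Fin 19) : RuVec := gPi ^ KK m • Uv m

lemma par_eq_ite (z : GaussianInt) : par z = if (z.re + z.im) % 2 = 0 then 0 else 1 := by
  rw [par_apply]
  split_ifs with h
  · exact (ZMod.intCast_zmod_eq_zero_iff_dvd _ 2).2 (Int.dvd_of_emod_eq_zero h)
  · have h1 : (z.re + z.im) % 2 = 1 := by omega
    have h2 : z.re + z.im = 2 * ((z.re + z.im) / 2) + 1 := by omega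
    rw [h2]
    push_cast
    have : (2 : ZMod 2) = 0 := by decide
    rw [this]; simp

set_option maxRecDepth 100000 in
lemma Hb_eq_aux : ∀ (m : Fin 19) (p : RuIdx),
    (if ((Uv m p).re + (Uv m p).im) % 2 = 0 then (0 : ZMod 2) else 1) = Hb m p := by
  decide +kernel

lemma Hb_eq (m : Fin 19) (p : RuIdx) : par (Uv m p) = Hb m p := by
  rw [par_eq_ite]; exact Hb_eq_aux m p

lemma KK_le : ∀ m : Fin 19, KK m ≤ 3 := by decide
lemma KK_18 : ∀ m : Fin 18, KK (Fin.castLE (by norm_num) m) ≤ 2 := by decide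
lemma KK_9 : ∀ m : Fin 9, KK (Fin.castLE (by norm_num) m) = 0 := by decide

set_option maxRecDepth 100000 in
lemma Tv_dual : ∀ (m : Fin 19) (j : Fin 28), Div4 (herm (Bv j) (Tv m)) := by
  decide +kernel

set_option maxRecDepth 100000 in
lemma DA_dual : ∀ (n n' : Fin 7) (j : Fin 28), Div4 (herm (Bv j) (DAv n n')) := by
  decide +kernel

set_option maxRecDepth 100000 in
lemma DB_dual : ∀ (n : Fin 7) (j : Fin 28), Div4 (herm (Bv j) (DBv n)) := by
  decide +kernel

set_option maxRecDepth 100000 in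
lemma DA_shape : ∀ n n' : Fin 7, n ≠ n' → ∀ p : RuIdx, (p.1 = n ∨ p.1 = n') → p ≠ (n, 0) →
    DAv n n' p = 0 := by
  decide +kernel

set_option maxRecDepth 100000 in
lemma DA_val : ∀ n n' : Fin 7, n ≠ n' → DAv n n' (n, 0) = ⟨2, 0⟩ := by
  decide +kernel

set_option maxRecDepth 100000 in
lemma DB_shape : ∀ n : Fin 7, ∀ p : RuIdx, p.1 = n → p ≠ (n, 3) → DBv n p = 0 := by
  decide +kernel

set_option maxRecDepth 100000 in
lemma DB_val : ∀ n : Fin 7, DBv n (n, 3) = ⟨1, 1⟩ := by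
  decide +kernel

/-! ### Codes -/

/-- weight of a binary vector -/
def wt (e : RuIdx → ZMod 2) : ℕ := (univ.filter fun p => e p = 1).card

/-- level 0 encoder -/
def enc0 (b : Fin 9 → ZMod 2) : RuIdx → ZMod 2 := fun q => ∑ a, b a * H9 a q
/-- level 1 encoder -/
def enc1 (b : Fin 10 → ZMod 2) : RuIdx → ZMod 2 := fun q => ∑ a, b a * H10 a q

/-- indicator of a pair of components -/
def IsPair (e : RuIdx → ZMod 2) : Prop :=
  ∃ n n' : Fin 7, n ≠ n' ∧ ∀ p : RuIdx, e p = if p.1 = n ∨ p.1 = n' then 1 else 0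

instance : DecidablePred IsPair := fun e => by unfold IsPair; infer_instance

/-- indicator of a single component -/
def IsSingle (e : RuIdx → ZMod 2) : Prop :=
  ∃ n : Fin 7, ∀ p : RuIdx, e p = if p.1 = n then 1 else 0

instance : DecidablePred IsSingle := fun e => by unfold IsSingle; infer_instance

set_option maxRecDepth 100000 in
lemma id0 : ∀ q p : RuIdx,
    (∑ a : Fin 9, H9 a q * Q0 a p) + ∑ m : Fin 19, P0 q m * Hb m p = if q = p then 1 else 0 := by
  decide +kernel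

set_option maxRecDepth 100000 in
lemma id1 : ∀ q p : RuIdx,
    (∑ a : Fin 10, H10 a q * Q1 a p) + ∑ m : Fin 18, P1 q m * H18 m p = if q = p then 1 else 0 := by
  decide +kernel

lemma decode_aux {ι κ : Type} [Fintype ι] [Fintype κ] (G : ι → RuIdx → ZMod 2)
    (Q : ι → RuIdx → ZMod 2) (P : RuIdx → κ → ZMod 2) (H : κ → RuIdx → ZMod 2)
    (hid : ∀ q p : RuIdx, (∑ a, G a q * Q a p) + ∑ m, P q m * H m p = if q = p then 1 else 0)
    (e : RuIdx → ZMod 2) (hk : ∀ m, ∑ p, e p * H m p = 0) :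
    e = fun q => ∑ a, (∑ p, Q a p * e p) * G a q := by
  funext q
  have h1 : e q = ∑ p, (if q = p then 1 else 0) * e p := by simp
  rw [h1]
  have h2 : ∀ p, (if q = p then (1 : ZMod 2) else 0) * e p =
      (∑ a, G a q * Q a p * e p) + ∑ m, P q m * (e p * H m p) := by
    intro p
    rw [← hid q p, add_mul, Finset.sum_mul, Finset.sum_mul]
    congr 1
    refine Finset.sum_congr rfl fun m _ => ?_
    ring
  simp_rw [h2]
  rw [Finset.sum_add_distrib, Finset.sum_comm, Finset.sum_comm (s := univ) (t := univ) (f := fun p m => P q m * (e p * H m p))]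
  have h3 : ∑ m, ∑ p, P q m * (e p * H m p) = 0 := by
    refine Finset.sum_eq_zero fun m _ => ?_
    rw [← Finset.mul_sum, hk m, mul_zero]
  rw [h3, add_zero]
  refine Finset.sum_congr rfl fun a _ => ?_
  rw [Finset.sum_mul]
  refine Finset.sum_congr rfl fun p _ => ?_
  ring

set_option maxRecDepth 100000 in
lemma F0_enum : ∀ b0 b1 b2 b3 b4 b5 b6 b7 b8 : ZMod 2,
    wt (enc0 ![b0, b1, b2, b3, b4, b5, b6, b7, b8]) ≤ 8 →
      (enc0 ![b0, b1, b2, b3, b4, b5, b6, b7, b8] = 0 ∨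
        IsPair (enc0 ![b0, b1, b2, b3, b4, b5, b6, b7, b8])) := by
  decide +kernel

set_option maxRecDepth 100000 in
lemma F1_enum : ∀ b0 b1 b2 b3 b4 b5 b6 b7 b8 b9 : ZMod 2,
    wt (enc1 ![b0, b1, b2, b3, b4, b5, b6, b7, b8, b9]) ≤ 4 →
      (enc1 ![b0, b1, b2, b3, b4, b5, b6, b7, b8, b9] = 0 ∨
        IsSingle (enc1 ![b0, b1, b2, b3, b4, b5, b6, b7, b8, b9])) := by
  decide +kernel

/-- level 0 code fact -/
theorem F0 (e : RuIdx → ZMod 2) (hk : ∀ m : Fin 19, ∑ p, e p * Hb m p = 0) (hw : wt e ≤ 8) :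
    e = 0 ∨ IsPair e := by
  have he := decode_aux H9 Q0 P0 Hb id0 e hk
  set b : Fin 9 → ZMod 2 := fun a => ∑ p, Q0 a p * e p with hb
  have hb' : b = ![b 0, b 1, b 2, b 3, b 4, b 5, b 6, b 7, b 8] := by
    funext a; fin_cases a <;> rfl
  have he' : e = enc0 ![b 0, b 1, b 2, b 3, b 4, b 5, b 6, b 7, b 8] := by
    rw [← hb']; exact he
  rw [he'] at hw ⊢
  exact F0_enum _ _ _ _ _ _ _ _ _ hw

/-- level 1 code fact -/
theorem F1 (e : RuIdx → ZMod 2) (hk : ∀ m : Fin 18, ∑ p, e p * H18 m p = 0) (hw : wt e ≤ 4) :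
    e = 0 ∨ IsSingle e := by
  have he := decode_aux H10 Q1 P1 H18 id1 e hk
  set b : Fin 10 → ZMod 2 := fun a => ∑ p, Q1 a p * e p with hb
  have hb' : b = ![b 0, b 1, b 2, b 3, b 4, b 5, b 6, b 7, b 8, b 9] := by
    funext a; fin_cases a <;> rfl
  have he' : e = enc1 ![b 0, b 1, b 2, b 3, b 4, b 5, b 6, b 7, b 8, b 9] := by
    rw [← hb']; exact he
  rw [he'] at hw ⊢
  exact F1_enum _ _ _ _ _ _ _ _ _ _ hw

set_option maxRecDepth 100000 in
lemma col_ne_zero : ∀ p : RuIdx, ∃ m : Fin 9, H9 m p = 1 := by decide +kernel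

set_option maxRecDepth 100000 in
lemma col_inj : ∀ p q : RuIdx, p ≠ q → ∃ m : Fin 9, H9 m p ≠ H9 m q := by decide +kernel

lemma zmod2_add_eq_zero : ∀ x y : ZMod 2, x + y = 0 → x = y := by decide

/-- levels 2 and 3 code fact -/
theorem F2 (e : RuIdx → ZMod 2) (hk : ∀ m : Fin 9, ∑ p, e p * H9 m p = 0) (hw : wt e ≤ 2) :
    e = 0 := by
  set s := univ.filter fun p => e p = 1 with hs
  have he : ∀ p, e p = if p ∈ s then 1 else 0 := by
    intro p
    rcases zmod2_cases (e p) with h | h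
    · rw [h, if_neg]; simp [hs, h]
    · rw [h, if_pos]; simp [hs, h]
  have hsum : ∀ m : Fin 9, ∑ p ∈ s, H9 m p = 0 := by
    intro m
    rw [← hk m]
    rw [← Finset.sum_filter_add_sum_filter_not univ (fun p => e p = 1)]
    have h0 : ∑ p ∈ univ.filter (fun p => ¬ e p = 1), e p * H9 m p = 0 := by
      refine Finset.sum_eq_zero fun p hp => ?_
      have : e p = 0 := by
        rcases zmod2_cases (e p) with h | h
        · exact h
        · exact absurd h (Finset.mem_filter.1 hp).2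
      rw [this, zero_mul]
    rw [h0, add_zero]
    refine Finset.sum_congr rfl fun p hp => ?_
    rw [(Finset.mem_filter.1 hp).2, one_mul]
  have hcard : s.card ≤ 2 := hw
  have hs0 : s = ∅ := by
    by_contra hne
    have hpos : 0 < s.card := Finset.card_pos.2 (Finset.nonempty_iff_ne_empty.2 hne)
    have h12 : s.card = 1 ∨ s.card = 2 := by omega
    rcases h12 with h1 | h2
    · obtain ⟨a, ha⟩ := Finset.card_eq_one.1 h1
      obtain ⟨m, hm⟩ := col_ne_zero a
      have := hsum m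
      rw [ha, Finset.sum_singleton, hm] at this
      exact one_ne_zero this
    · obtain ⟨a, b, hab, hs2⟩ := Finset.card_eq_two.1 h2
      obtain ⟨m, hm⟩ := col_inj a b hab
      have := hsum m
      rw [hs2, Finset.sum_pair hab] at this
      exact hm (zmod2_add_eq_zero _ _ this)
  funext p
  rw [he p, hs0]; simp

end Cfsg.Agent.Lib.Helper14.RuLat
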