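import Mathlib
import Cfsg.Prelude.Def_Spor_Ru
import Cfsg.Agent.Lib.Helper14.RuLatA
import Cfsg.Agent.Lib.Helper14.RuLatB
import Cfsg.Agent.Lib.Helper14.RuLatC
import Cfsg.Agent.Lib.Helper14.RuLatD
import Cfsg.Agent.Lib.Helper14.RuLatE

set_option autoImplicit false

/-!
# The Rudvalis lattice has no vectors of norm 8 (in the scaled coordinates)
-/

namespace Cfsg.Agent.Lib.Helper14.RuLat

open Cfsg.Spor Finset

/-- the dual conditions used in the descent -/
structure Good (v : RuVec) : Prop where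
  tv : ∀ m : Fin 19, (4 : GaussianInt) ∣ herm v (Tv m)
  da : ∀ n n' : Fin 7, (4 : GaussianInt) ∣ herm v (DAv n n')
  db : ∀ n : Fin 7, (4 : GaussianInt) ∣ herm v (DBv n)

lemma good_of_mem {v : RuVec} (hv : v ∈ Lc) : Good v :=
  ⟨fun m => dual_of_mem (fun j => Tv_dual m j) hv,
   fun n n' => dual_of_mem (fun j => DA_dual n n' j) hv,
   fun n => dual_of_mem (fun j => DB_dual n j) hv⟩

lemma herm_smul_right (c : GaussianInt) (v w : RuVec) : herm v (c • w) = star c * herm v w := by
  unfold herm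
  rw [Finset.mul_sum]
  refine Finset.sum_congr rfl fun p _ => ?_
  rw [Pi.smul_apply, smul_eq_mul, star_mul']
  ring

lemma par_herm (w u : RuVec) : par (herm w u) = ∑ p, par (w p) * par (u p) := by
  unfold herm
  rw [map_sum]
  refine Finset.sum_congr rfl fun p _ => ?_
  rw [map_mul, par_star]

lemma parity_check {k : ℕ} {w : RuVec}
    (hg : ∀ m : Fin 19, (4 : GaussianInt) ∣ herm (gPi ^ k • w) (Tv m))
    (m : Fin 19) (hm : k + KK m ≤ 3) : ∑ p, par (w p) * Hb m p = 0 := by
  have h := hg m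
  rw [Tv, herm_smul_left, herm_smul_right, star_pow, ← mul_assoc] at h
  have h2 := par_eq_zero_of_four_dvd hm h
  rw [par_herm] at h2
  rw [← h2]
  refine Finset.sum_congr rfl fun p _ => ?_
  rw [Hb_eq]

lemma wt_le (w : RuVec) : ((wt fun p => par (w p) : ℕ) : ℤ) ≤ ruNorm w := by
  unfold wt ruNorm
  rw [Finset.card_filter]
  push_cast
  refine Finset.sum_le_sum fun p _ => ?_
  split_ifs with h
  · exact one_le_norm_of_par h
  · exact norm_nonneg' _

lemma norm_eq_of_wt_eq (w : RuVec) (h : ((wt fun p => par (w p) : ℕ) : ℤ) = ruNorm w) :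
    ∀ p, (w p).norm = if par (w p) = 1 then 1 else 0 := by
  unfold wt ruNorm at h
  rw [Finset.card_filter] at h
  push_cast at h
  have hle : ∀ p ∈ (univ : Finset RuIdx),
      (if par (w p) = 1 then (1 : ℤ) else 0) ≤ (w p).norm := by
    intro p _
    split_ifs with h
    · exact one_le_norm_of_par h
    · exact norm_nonneg' _
  have := (Finset.sum_eq_sum_iff_of_le hle).1 h
  intro p
  exact (this p (mem_univ p)).symm

lemma descend {w : RuVec} (h0 : ∀ p, par (w p) = 0) :
    ∃ w' : RuVec, w = gPi • w' ∧ ruNorm w = 2 * ruNorm w' := by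
  choose f hf using fun p => exists_eq_gPi_mul (h0 p)
  have hw : w = gPi • f := by
    funext p
    rw [Pi.smul_apply, smul_eq_mul]
    exact hf p
  refine ⟨f, hw, ?_⟩
  rw [hw, ruNorm_smul, norm_gPi]

lemma kill {v d : RuVec} (S : RuIdx → Prop) (p0 : RuIdx) (hv : ∀ p, ¬ S p → v p = 0)
    (hd : ∀ p, S p → p ≠ p0 → d p = 0) : herm v d = v p0 * star (d p0) := by
  unfold herm
  refine Finset.sum_eq_single p0 (fun p _ hp => ?_) (fun h => absurd (mem_univ _) h)
  by_cases hS : S p
  · rw [hd p hS hp, star_zero, mul_zero]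
  · rw [hv p hS, zero_mul]

lemma card_pair : ∀ n n' : Fin 7, n ≠ n' →
    wt (fun p : RuIdx => if p.1 = n ∨ p.1 = n' then (1 : ZMod 2) else 0) = 8 := by
  decide

lemma card_single : ∀ n : Fin 7,
    wt (fun p : RuIdx => if p.1 = n then (1 : ZMod 2) else 0) = 4 := by
  decide

lemma norm_two : (⟨2, 0⟩ : GaussianInt).norm = 4 := by decide
lemma norm_one_one : (⟨1, 1⟩ : GaussianInt).norm = 2 := by decide

theorem no8 {v : RuVec} (hG : Good v) : ruNorm v ≠ 8 := by
  intro h8
  -- level 0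
  have c0 : ∀ m : Fin 19, ∑ p, par (v p) * Hb m p = 0 := fun m =>
    parity_check (k := 0) (w := v) (by simpa using hG.tv) m (by have := KK_le m; omega)
  have w0 : wt (fun p => par (v p)) ≤ 8 := by
    have := wt_le v; rw [h8] at this; exact_mod_cast this
  rcases F0 _ c0 w0 with h0 | ⟨n, n', hnn, hpair0⟩
  swap
  · have hpair : ∀ p : RuIdx, par (v p) = if p.1 = n ∨ p.1 = n' then (1 : ZMod 2) else 0 := hpair0
    have hfun : (fun p => par (v p)) =
        fun p : RuIdx => if p.1 = n ∨ p.1 = n' then (1 : ZMod 2) else 0 := funext hpair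
    have hcard : wt (fun p => par (v p)) = 8 := by rw [hfun]; exact card_pair n n' hnn
    have hnorm := norm_eq_of_wt_eq v (by rw [hcard, h8]; norm_num)
    have hz : ∀ p : RuIdx, ¬ (p.1 = n ∨ p.1 = n') → v p = 0 := by
      intro p hp
      have := hnorm p
      rw [hpair p, if_neg hp] at this
      simp at this
      exact this
    have hk := kill (fun p : RuIdx => p.1 = n ∨ p.1 = n') (n, 0) hz
      (fun p hS hp => DA_shape n n' hnn p hS hp)
    have h4 := hG.da n n'
    rw [hk, DA_val n n' hnn] at h4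
    have hn1 : (v (n, 0)).norm = 1 := by
      have := hnorm (n, 0)
      rw [hpair (n, 0), if_pos (Or.inl rfl)] at this
      simpa using this
    have := norm_dvd_of_dvd h4
    rw [norm_four, Zsqrtd.norm_mul, hn1, Zsqrtd.norm_conj, norm_two] at this
    omega
  have h0' : ∀ p, par (v p) = 0 := fun p => congrFun h0 p
  obtain ⟨w1, hv1, hn1⟩ := descend h0'
  have hN1 : ruNorm w1 = 4 := by omega
  -- level 1
  have hG1 : ∀ m : Fin 19, (4 : GaussianInt) ∣ herm (gPi ^ 1 • w1) (Tv m) := by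
    rw [pow_one, ← hv1]; exact hG.tv
  have c1 : ∀ m : Fin 18, ∑ p, par (w1 p) * H18 m p = 0 := fun m =>
    parity_check hG1 (Fin.castLE (by norm_num) m) (by have := KK_18 m; omega)
  have w1wt : wt (fun p => par (w1 p)) ≤ 4 := by
    have := wt_le w1; rw [hN1] at this; exact_mod_cast this
  rcases F1 _ c1 w1wt with h1 | ⟨n, hsingle0⟩
  swap
  · have hsingle : ∀ p : RuIdx, par (w1 p) = if p.1 = n then (1 : ZMod 2) else 0 := hsingle0
    have hfun : (fun p => par (w1 p)) =
        fun p : RuIdx => if p.1 = n then (1 : ZMod 2) else 0 := funext hsingle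
    have hcard : wt (fun p => par (w1 p)) = 4 := by rw [hfun]; exact card_single n
    have hnorm := norm_eq_of_wt_eq w1 (by rw [hcard, hN1]; norm_num)
    have hz : ∀ p : RuIdx, ¬ (p.1 = n) → v p = 0 := by
      intro p hp
      have := hnorm p
      rw [hsingle p, if_neg hp] at this
      simp at this
      rw [hv1, Pi.smul_apply, this, smul_zero]
    have hk := kill (fun p : RuIdx => p.1 = n) (n, 3) hz
      (fun p hS hp => DB_shape n p hS hp)
    have h4 := hG.db n
    rw [hk, DB_val n] at h4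
    have hn1 : (w1 (n, 3)).norm = 1 := by
      have := hnorm (n, 3)
      rw [hsingle (n, 3), if_pos rfl] at this
      simpa using this
    have hvn : (v (n, 3)).norm = 2 := by
      rw [hv1, Pi.smul_apply, smul_eq_mul, Zsqrtd.norm_mul, norm_gPi, hn1]; norm_num
    have := norm_dvd_of_dvd h4
    rw [norm_four, Zsqrtd.norm_mul, hvn, Zsqrtd.norm_conj, norm_one_one] at this
    omega
  have h1' : ∀ p, par (w1 p) = 0 := fun p => congrFun h1 p
  obtain ⟨w2, hv2, hn2⟩ := descend h1'
  have hN2 : ruNorm w2 = 2 := by omega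
  -- level 2
  have hv2' : v = gPi ^ 2 • w2 := by rw [hv1, hv2, smul_smul, pow_two]
  have hG2 : ∀ m : Fin 19, (4 : GaussianInt) ∣ herm (gPi ^ 2 • w2) (Tv m) := by
    rw [← hv2']; exact hG.tv
  have c2 : ∀ m : Fin 9, ∑ p, par (w2 p) * H9 m p = 0 := fun m =>
    parity_check hG2 (Fin.castLE (by norm_num) m) (by have := KK_9 m; omega)
  have w2wt : wt (fun p => par (w2 p)) ≤ 2 := by
    have := wt_le w2; rw [hN2] at this; exact_mod_cast this
  have h2 := F2 _ c2 w2wt
  have h2' : ∀ p, par (w2 p) = 0 := fun p => congrFun h2 p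
  obtain ⟨w3, hv3, hn3⟩ := descend h2'
  have hN3 : ruNorm w3 = 1 := by omega
  -- level 3
  have hv3' : v = gPi ^ 3 • w3 := by rw [hv2', hv3, smul_smul, ← pow_succ]
  have hG3 : ∀ m : Fin 19, (4 : GaussianInt) ∣ herm (gPi ^ 3 • w3) (Tv m) := by
    rw [← hv3']; exact hG.tv
  have c3 : ∀ m : Fin 9, ∑ p, par (w3 p) * H9 m p = 0 := fun m =>
    parity_check hG3 (Fin.castLE (by norm_num) m) (by have := KK_9 m; omega)
  have w3wt : wt (fun p => par (w3 p)) ≤ 2 := by
    have := wt_le w3; rw [hN3] at this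
    have h : (wt fun p => par (w3 p)) ≤ 1 := by exact_mod_cast this
    omega
  have h3 := F2 _ c3 w3wt
  have h3' : ∀ p, par (w3 p) = 0 := fun p => congrFun h3 p
  obtain ⟨w4, _, hn4⟩ := descend h3'
  omega

set_option maxRecDepth 100000 in
lemma norm_first : ruNorm (ruTable.getD 0 0) = 16 := by decide +kernel

/-- The Rudvalis lattice (scaled by 2): norms divisible by 8, never 8, at least 16, and 16 occurs. -/
theorem main : (∀ x ∈ ruLattice, (8 : ℤ) ∣ ruNorm x) ∧ (∀ x ∈ ruLattice, ruNorm x ≠ 8) ∧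
    (∀ x ∈ ruLattice, x ≠ 0 → 16 ≤ ruNorm x) ∧ ∃ x ∈ ruLattice, ruNorm x = 16 := by
  have h1 : ∀ x ∈ ruLattice, (8 : ℤ) ∣ ruNorm x := fun x hx => eight_dvd (ruLattice_le x hx)
  have h2 : ∀ x ∈ ruLattice, ruNorm x ≠ 8 := fun x hx => no8 (good_of_mem (ruLattice_le x hx))
  refine ⟨h1, h2, ?_, ?_⟩
  · intro x hx hx0
    have h8 := h1 x hx
    have hne := h2 x hx
    have hnn := ruNorm_nonneg x
    have h0 : ruNorm x ≠ 0 := fun h => hx0 ((ruNorm_eq_zero x).1 h)
    omega
  · refine ⟨ruTable.getD 0 0, ?_, norm_first⟩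
    rw [ruLattice, AddSubgroup.mem_sInf]
    intro L hL
    refine hL.1 _ ?_
    unfold ruTable
    exact List.mem_cons_self
end Cfsg.Agent.Lib.Helper14.RuLat
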