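import Mathlib
import Cfsg.Prelude.Def_LocalEven
import Cfsg.Prelude.Def_Local
import Cfsg.Prelude.Def_Sz
import Cfsg.Agent.Lib.Helper16.SFDefs
import Cfsg.Agent.Lib.Helper22.SFnormPslOf

/-!
helper14, market "SF" (S2752, planner helper16): leaves `normBeta`, `normSz` in `_of` form
(the leaves `invAut`, resp. `szAutEA`, at `Q := ↥K` enter as hypotheses).  Uses helper22's `conjHom` API.
-/

set_option autoImplicit false
universe u
open Cfsg Cfsg.Agent.Lib.Helper16.SF Cfsg.Agent.Lib.Helper22.SFnormPslOf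

namespace Cfsg.Agent.Lib.Helper14.SFnormOf

variable {H : Type u} [Group H]

theorem ea_mul_self {A : Subgroup H} (hAe : Cfsg.IsElementaryAbelian 2 A) {a : H} (ha : a ∈ A) :
    a * a = 1 := by
  have := hAe.2 a ha
  rwa [pow_two] at this

/-- some element of `A` lies outside `C(K)` when `|A : C_A(K)| ≠ 1`. -/
theorem exists_not_mem_centralizer (A K : Subgroup H)
    (h : (A ⊓ Subgroup.centralizer (K : Set H)).relIndex A ≠ 1) :
    ∃ b ∈ A, b ∉ Subgroup.centralizer (K : Set H) := by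
  by_contra hcon
  push Not at hcon
  apply h
  rw [Subgroup.relIndex_eq_one]
  exact le_inf le_rfl hcon

/-- the automorphism induced by `b ∈ A ∖ C(K)` is a non-trivial involution. -/
theorem conjHom_invol (A K : Subgroup H) (hAe : Cfsg.IsElementaryAbelian 2 A)
    (hAN : A ≤ Subgroup.normalizer (K : Set H)) (b : H) (hbA : b ∈ A)
    (hbC : b ∉ Subgroup.centralizer (K : Set H)) :
    conjHom A K hAN ⟨b, hbA⟩ * conjHom A K hAN ⟨b, hbA⟩ = 1 ∧ conjHom A K hAN ⟨b, hbA⟩ ≠ 1 := by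
  constructor
  · rw [← map_mul]
    have : (⟨b, hbA⟩ : ↥A) * ⟨b, hbA⟩ = 1 := Subtype.ext (ea_mul_self hAe hbA)
    rw [this, map_one]
  · intro h
    have hk : (⟨b, hbA⟩ : ↥A) ∈ (conjHom A K hAN).ker := h
    rw [conjHom_ker, Subgroup.mem_subgroupOf] at hk
    exact hbC hk.2

/-- **normBeta**, over `invAut` at `Q := ↥K`. -/
theorem normBeta_of (A : Subgroup H) (hAe : Cfsg.IsElementaryAbelian 2 A) (K : Subgroup H)
    (hinvAut : ∀ β : MulAut ↥K, β * β = 1 → β ≠ 1 →
      ∃ x : ↥K, Odd (orderOf x) ∧ x ∉ Subgroup.center ↥K ∧ β x = x⁻¹)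
    (hAN : A ≤ Subgroup.normalizer (K : Set H))
    (h2 : (A ⊓ Subgroup.centralizer (K : Set H)).relIndex A = 2) : ConfD A := by
  obtain ⟨b, hbA, hbC⟩ := exists_not_mem_centralizer A K (by rw [h2]; norm_num)
  obtain ⟨hββ, hβ1⟩ := conjHom_invol A K hAe hAN b hbA hbC
  obtain ⟨x, hxo, hxc, hβx⟩ := hinvAut _ hββ hβ1
  have hbB : b ∉ A ⊓ Subgroup.centralizer (K : Set H) := fun h => hbC h.2
  refine ⟨A ⊓ Subgroup.centralizer (K : Set H), b, (x : H), inf_le_left, hbA, hbB, ?_, ?_, ?_, ?_, ?_⟩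
  · -- `A ≤ B ⊔ ⟨b⟩` since `|A : B| = 2`
    intro c hc
    by_cases hcB : c ∈ A ⊓ Subgroup.centralizer (K : Set H)
    · exact Subgroup.mem_sup_left hcB
    · have hidx : ((A ⊓ Subgroup.centralizer (K : Set H)).subgroupOf A).index = 2 := h2
      have hiff := Subgroup.mul_mem_iff_of_index_two hidx (a := (⟨c, hc⟩ : ↥A)) (b := ⟨b, hbA⟩)
      have hcb : c * b ∈ A ⊓ Subgroup.centralizer (K : Set H) := by
        have : (⟨c, hc⟩ : ↥A) * ⟨b, hbA⟩ ∈ (A ⊓ Subgroup.centralizer (K : Set H)).subgroupOf A := by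
          rw [hiff]
          constructor
          · intro h; exact absurd (Subgroup.mem_subgroupOf.mp h) hcB
          · intro h; exact absurd (Subgroup.mem_subgroupOf.mp h) hbB
        exact Subgroup.mem_subgroupOf.mp this
      have e : c = (c * b) * b⁻¹ := by group
      rw [e]
      exact Subgroup.mul_mem_sup hcb (Subgroup.inv_mem _ (Subgroup.mem_zpowers b))
  · intro h
    apply hxc
    have : x = 1 := Subtype.ext h
    rw [this]
    exact Subgroup.one_mem _
  · rw [Subgroup.orderOf_coe]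
    exact hxo
  · intro c hc
    have := (Subgroup.mem_centralizer_iff.mp hc.2) (x : H) x.2
    exact this.symm
  · have := congrArg (fun k : ↥K => (k : H)) hβx
    simpa [conjHom_coe] using this

/-- **normSz**, over `szAutEA` at `Q := ↥K`. -/
theorem normSz_of (A : Subgroup H) (hAe : Cfsg.IsElementaryAbelian 2 A) (K : Subgroup H)
    (hK : Cfsg.IsQuasisimple ↥K) (hZ : Odd (Nat.card ↥(Subgroup.center ↥K)))
    (hszAutEA : ∀ {F : Type} [Field F] [Fintype F] (m : ℕ), 1 ≤ m → Fintype.card F = 2 ^ (2 * m + 1) →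
      Nonempty (↥K ⧸ Subgroup.center ↥K ≃* ↥(Cfsg.Lie.Sz F (2 ^ (m + 1)))) →
      ∀ E : Subgroup (MulAut ↥K), Cfsg.IsElementaryAbelian 2 E →
        (∀ β ∈ E, ∃ t : ↥K, t * t = 1 ∧ ∀ x : ↥K, β x = t * x * t⁻¹) ∧ Nat.card E ≤ 2 ^ (2 * m + 1))
    (hty : Cfsg.Lie.IsoSuzuki (↥K ⧸ Subgroup.center ↥K))
    (hAN : A ≤ Subgroup.normalizer (K : Set H))
    (h4 : 4 ≤ (A ⊓ Subgroup.centralizer (K : Set H)).relIndex A) : ConfS A := by
  obtain ⟨F, iF, iFt, m, hm, hF, e⟩ := hty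
  obtain ⟨b, hbA, hbC⟩ := exists_not_mem_centralizer A K (by omega)
  obtain ⟨hββ, hβ1⟩ := conjHom_invol A K hAe hAN b hbA hbC
  obtain ⟨hinner, hcard⟩ := hszAutEA m hm hF e (conjHom A K hAN).range (ea_range_conjHom A K hAN hAe)
  obtain ⟨t, htt, hβt⟩ := hinner _ ⟨⟨b, hbA⟩, rfl⟩
  have hbB : b ∉ A ⊓ Subgroup.centralizer (K : Set H) := fun h => hbC h.2
  -- the action of `b` on `K` is conjugation by `t`
  have hact : ∀ k : H, k ∈ K → b * k * b⁻¹ = (t : H) * k * (t : H)⁻¹ := by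
    intro k hk
    have := congrArg (fun k : ↥K => (k : H)) (hβt ⟨k, hk⟩)
    simpa [conjHom_coe] using this
  refine ⟨A ⊓ Subgroup.centralizer (K : Set H), K, b, (t : H), F, iF, iFt, m, inf_le_left, hbA, hbB, hm,
    hF, ?_, ?_, hK, hZ, e, t.2, ?_, ?_, ?_⟩
  · -- `|A| ≤ q |A₂|`
    rw [card_range_conjHom] at hcard
    have h : (A ⊓ Subgroup.centralizer (K : Set H)).relIndex A *
        Nat.card ↥(A ⊓ Subgroup.centralizer (K : Set H)) = Nat.card ↥A := by
      have h0 := ((A ⊓ Subgroup.centralizer (K : Set H)).subgroupOf A).card_mul_index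
      rw [Nat.card_congr (Subgroup.subgroupOfEquivOfLe
        (inf_le_left : A ⊓ Subgroup.centralizer (K : Set H) ≤ A)).toEquiv, mul_comm] at h0
      exact h0
    calc Nat.card ↥A = (A ⊓ Subgroup.centralizer (K : Set H)).relIndex A *
          Nat.card ↥(A ⊓ Subgroup.centralizer (K : Set H)) := h.symm
      _ ≤ 2 ^ (2 * m + 1) * Nat.card ↥(A ⊓ Subgroup.centralizer (K : Set H)) :=
          Nat.mul_le_mul_right _ hcard
  · intro k hk c hc
    exact (Subgroup.mem_centralizer_iff.mp hc.2) k hk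
  · have := congrArg (fun k : ↥K => (k : H)) htt
    simpa using this
  · -- `t` is not central in `K`
    by_contra hcon
    push Not at hcon
    apply hβ1
    ext k
    rw [hβt]
    have := hcon (k : H) k.2
    show ((t * k * t⁻¹ : ↥K) : H) = (k : H)
    push_cast
    rw [← this]
    group
  · -- `b t⁻¹` centralizes `K`
    intro k hk
    have hk' : (t : H)⁻¹ * k * (t : H) ∈ K := K.mul_mem (K.mul_mem (K.inv_mem t.2) hk) t.2
    have h1 := hact _ hk'
    -- b (t⁻¹ k t) b⁻¹ = t (t⁻¹ k t) t⁻¹ = k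
    have h2 : b * ((t : H)⁻¹ * k * (t : H)) * b⁻¹ = k := by
      rw [h1]; group
    calc k * (b * (t : H)⁻¹) = (b * ((t : H)⁻¹ * k * (t : H)) * b⁻¹) * (b * (t : H)⁻¹) := by rw [h2]
      _ = b * (t : H)⁻¹ * k := by group

end Cfsg.Agent.Lib.Helper14.SFnormOf
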