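import Mathlib
import Cfsg.Statements.S2752
import Cfsg.Agent.Lib.Helper16.SFDefs
import Cfsg.Agent.Lib.Helper14.SFnormOf
import Cfsg.Agent.Lib.Helper17.SFinvAut

/-!
helper14, market "SF" (S2752, planner helper16): EXACT leaf `normBeta`
(= `SFnormOf.normBeta_of` fed with helper17's `invAut`).
-/

set_option autoImplicit false
universe u v
open Cfsg Cfsg.Agent.Lib.Helper16.SF

namespace Cfsg.Agent.Lib.Helper14.SFLeaf

section grp
variable {H : Type u} [Group H] [Finite H]

/-- **normBeta** (`|A : C_A(K)| = 2`). -/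
theorem normBeta (A : Subgroup H) (hAe : Cfsg.IsElementaryAbelian 2 A) (K : Subgroup H)
    (hK : Cfsg.IsQuasisimple ↥K) (hAN : A ≤ Subgroup.normalizer (K : Set H))
    (h2 : (A ⊓ Subgroup.centralizer (K : Set H)).relIndex A = 2) : ConfD A :=
  Cfsg.Agent.Lib.Helper14.SFnormOf.normBeta_of A hAe K
    (fun β h2 h1 => Cfsg.Agent.Lib.Helper17.SFLeaf.invAut hK β h2 h1) hAN h2

end grp

end Cfsg.Agent.Lib.Helper14.SFLeaf
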