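import Mathlib
import Cfsg.Statements.S2752
import Cfsg.Agent.Lib.Helper16.SFDefs
import Cfsg.Agent.Lib.Helper14.SFnormOf
import Cfsg.Agent.Lib.Helper26.SFszAutEA

/-!
helper14, market "SF" (S2752, planner helper16): EXACT leaf `normSz`
(= `SFnormOf.normSz_of` fed with helper26's `szAutEA`).
-/

set_option autoImplicit false
universe u v
open Cfsg Cfsg.Agent.Lib.Helper16.SF

namespace Cfsg.Agent.Lib.Helper14.SFLeaf

section grp
variable {H : Type u} [Group H] [Finite H]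

/-- **normSz** (`|A : C_A(K)| ≥ 4`, Suzuki type). -/
theorem normSz (A : Subgroup H) (hAe : Cfsg.IsElementaryAbelian 2 A) (K : Subgroup H)
    (hK : Cfsg.IsQuasisimple ↥K) (hZ : Odd (Nat.card ↥(Subgroup.center ↥K)))
    (hty : Cfsg.Lie.IsoSuzuki (↥K ⧸ Subgroup.center ↥K))
    (hAN : A ≤ Subgroup.normalizer (K : Set H))
    (h4 : 4 ≤ (A ⊓ Subgroup.centralizer (K : Set H)).relIndex A) : ConfS A :=
  Cfsg.Agent.Lib.Helper14.SFnormOf.normSz_of A hAe K hK hZ
    (fun m hm hF e E hE => Cfsg.Agent.Lib.Helper26.SFLeaf.szAutEA hK hZ m hm hF e E hE) hty hAN h4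

end grp

end Cfsg.Agent.Lib.Helper14.SFLeaf
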