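import Mathlib
import Cfsg.Agent.Lib.Helper13.PSL2

/-!
helper14, market "SF" (S2752, planner helper16): leaf `pslTorus`.
Two distinct commuting involutions `s, t` of `PSL₂(q)`, `q = 3^(2n+1)`, `n ≥ 1`: some `x ≠ 1` of odd order is
centralized by `s` and inverted by `t`.
-/

set_option autoImplicit false

namespace Cfsg.Agent.Lib.Helper14.SFLeaf

open Matrix Cfsg.Agent.Lib.Helper13

section
variable {F : Type} [Field F]

/-- an element of `SL₂` whose image in `PSL₂` is an involution has trace `0` and square `-1` (`2 ≠ 0`). -/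
theorem trace_zero_of_mk_invol (g : SpecialLinearGroup (Fin 2) F)
    (hg : (QuotientGroup.mk g : ProjectiveSpecialLinearGroup (Fin 2) F) * QuotientGroup.mk g = 1)
    (hg1 : (QuotientGroup.mk g : ProjectiveSpecialLinearGroup (Fin 2) F) ≠ 1) :
    (g : Matrix (Fin 2) (Fin 2) F) 0 0 + (g : Matrix (Fin 2) (Fin 2) F) 1 1 = 0 ∧
    (g : Matrix (Fin 2) (Fin 2) F) * (g : Matrix (Fin 2) (Fin 2) F) = -1 := by
  have hc : g * g ∈ Subgroup.center (SpecialLinearGroup (Fin 2) F) := by
    rw [← QuotientGroup.mk_mul, QuotientGroup.eq_one_iff] at hg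
    exact hg
  obtain ⟨r, hr⟩ := scalar_of_mem_center _ hc
  replace hr : (g : Matrix (Fin 2) (Fin 2) F) * (g : Matrix (Fin 2) (Fin 2) F) =
      r • (1 : Matrix (Fin 2) (Fin 2) F) := hr
  have hCH := cayley_hamilton_two (g : Matrix (Fin 2) (Fin 2) F) g.2
  by_cases hτ : (g : Matrix (Fin 2) (Fin 2) F) 0 0 + (g : Matrix (Fin 2) (Fin 2) F) 1 1 = 0
  · refine ⟨hτ, ?_⟩
    rw [hCH, hτ, zero_smul, zero_sub]
  · exfalso
    apply hg1
    rw [QuotientGroup.eq_one_iff]
    apply mem_center_of_scalar g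
      ((r + 1) / ((g : Matrix (Fin 2) (Fin 2) F) 0 0 + (g : Matrix (Fin 2) (Fin 2) F) 1 1))
    have h1 : ((g : Matrix (Fin 2) (Fin 2) F) 0 0 + (g : Matrix (Fin 2) (Fin 2) F) 1 1) •
        (g : Matrix (Fin 2) (Fin 2) F) = (r + 1) • (1 : Matrix (Fin 2) (Fin 2) F) := by
      rw [hCH] at hr
      have e : (r + 1) • (1 : Matrix (Fin 2) (Fin 2) F) = r • (1 : Matrix (Fin 2) (Fin 2) F) + 1 := by
        rw [add_smul r 1 (1 : Matrix (Fin 2) (Fin 2) F), one_smul]
      rw [e, ← hr]
      abel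
    calc (g : Matrix (Fin 2) (Fin 2) F)
        = ((g : Matrix (Fin 2) (Fin 2) F) 0 0 + (g : Matrix (Fin 2) (Fin 2) F) 1 1)⁻¹ •
            (((g : Matrix (Fin 2) (Fin 2) F) 0 0 + (g : Matrix (Fin 2) (Fin 2) F) 1 1) •
              (g : Matrix (Fin 2) (Fin 2) F)) := by
          rw [smul_smul, inv_mul_cancel₀ hτ, one_smul]
      _ = _ := by
          rw [h1, smul_smul, div_eq_mul_inv, mul_comm]

/-- the torus element `a + b S` of `SL₂`, for `S` of trace `0` and `a² + b² = 1`. -/
def torusElt (S : SpecialLinearGroup (Fin 2) F)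
    (hS : (S : Matrix (Fin 2) (Fin 2) F) 0 0 + (S : Matrix (Fin 2) (Fin 2) F) 1 1 = 0) (a b : F)
    (hab : a * a + b * b = 1) : SpecialLinearGroup (Fin 2) F :=
  ⟨a • (1 : Matrix (Fin 2) (Fin 2) F) + b • (S : Matrix (Fin 2) (Fin 2) F), by
    have hd := S.2
    rw [Matrix.det_fin_two] at hd ⊢
    simp only [Matrix.add_apply, Matrix.smul_apply, Matrix.one_apply_eq, smul_eq_mul, mul_one,
      Matrix.one_apply_ne (show (0 : Fin 2) ≠ 1 by decide),
      Matrix.one_apply_ne (show (1 : Fin 2) ≠ 0 by decide), mul_zero, zero_add]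
    linear_combination hab + (b * b) * hd + (a * b) * hS⟩

theorem coe_torusElt (S : SpecialLinearGroup (Fin 2) F)
    (hS : (S : Matrix (Fin 2) (Fin 2) F) 0 0 + (S : Matrix (Fin 2) (Fin 2) F) 1 1 = 0) (a b : F)
    (hab : a * a + b * b = 1) :
    ((torusElt S hS a b hab : SpecialLinearGroup (Fin 2) F) : Matrix (Fin 2) (Fin 2) F) =
      a • (1 : Matrix (Fin 2) (Fin 2) F) + b • (S : Matrix (Fin 2) (Fin 2) F) := rfl

/-- descent: in `PSL₂(F)` with `2` a non-square, `z^(2^e) = 1 → z^2 = 1`. -/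
theorem sq_eq_one_of_two_pow (h2sq : ¬ IsSquare (2 : F)) :
    ∀ (e : ℕ) (z : ProjectiveSpecialLinearGroup (Fin 2) F), z ^ (2 ^ e) = 1 → z ^ 2 = 1 := by
  intro e
  induction e with
  | zero =>
    intro z hz
    rw [pow_zero, pow_one] at hz
    rw [hz, one_pow]
  | succ e ih =>
    intro z hz
    rcases e with _ | e
    · simpa using hz
    · apply ih
      have h4 : (z ^ (2 ^ e)) ^ 4 = 1 := by
        rw [← pow_mul, ← hz]
        congr 1
        ring
      have h := PSL2_sq_eq_one_of_pow_four h2sq _ h4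
      rw [← pow_mul] at h
      rw [← h]
      congr 1

/-- anticommutation of lifts of two distinct commuting involutions. -/
theorem anticomm_of_commuting_invol (h2 : (2 : F) ≠ 0) (S T : SpecialLinearGroup (Fin 2) F)
    (hs : (QuotientGroup.mk S : ProjectiveSpecialLinearGroup (Fin 2) F) * QuotientGroup.mk S = 1)
    (ht : (QuotientGroup.mk T : ProjectiveSpecialLinearGroup (Fin 2) F) * QuotientGroup.mk T = 1)
    (hs1 : (QuotientGroup.mk S : ProjectiveSpecialLinearGroup (Fin 2) F) ≠ 1)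
    (ht1 : (QuotientGroup.mk T : ProjectiveSpecialLinearGroup (Fin 2) F) ≠ 1)
    (hst : (QuotientGroup.mk S : ProjectiveSpecialLinearGroup (Fin 2) F) ≠ QuotientGroup.mk T)
    (hc : (QuotientGroup.mk S : ProjectiveSpecialLinearGroup (Fin 2) F) * QuotientGroup.mk T =
      QuotientGroup.mk T * QuotientGroup.mk S) :
    (S : Matrix (Fin 2) (Fin 2) F) * (T : Matrix (Fin 2) (Fin 2) F) =
      -((T : Matrix (Fin 2) (Fin 2) F) * (S : Matrix (Fin 2) (Fin 2) F)) := by
  obtain ⟨hS0, hSS⟩ := trace_zero_of_mk_invol S hs hs1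
  obtain ⟨hT0, hTT⟩ := trace_zero_of_mk_invol T ht ht1
  obtain ⟨z, hzdef⟩ : ∃ z, z = (T * S)⁻¹ * (S * T) := ⟨_, rfl⟩
  have hz : z ∈ Subgroup.center (SpecialLinearGroup (Fin 2) F) := by
    rw [← QuotientGroup.mk_mul, ← QuotientGroup.mk_mul] at hc
    rw [hzdef]
    exact QuotientGroup.eq.mp hc.symm
  obtain ⟨r, hr⟩ := scalar_of_mem_center z hz
  have e : S * T = (T * S) * z := by rw [hzdef]; group
  have e' : (S : Matrix (Fin 2) (Fin 2) F) * (T : Matrix (Fin 2) (Fin 2) F) =
      ((T : Matrix (Fin 2) (Fin 2) F) * (S : Matrix (Fin 2) (Fin 2) F)) *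
        (z : Matrix (Fin 2) (Fin 2) F) := by
    exact congrArg Subtype.val e
  rw [hr, Matrix.mul_smul, Matrix.mul_one] at e'
  have hrr : r * r = 1 := by
    have hd := z.2
    rw [hr, Matrix.det_smul, Matrix.det_one, Fintype.card_fin, mul_one] at hd
    linear_combination hd
  have hr1 : r = 1 ∨ r = -1 := by
    have : (r - 1) * (r + 1) = 0 := by linear_combination hrr
    rcases mul_eq_zero.mp this with h | h
    · left; linear_combination h
    · right; linear_combination h
  rcases hr1 with rfl | rfl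
  · exfalso
    rw [one_smul] at e'
    have hsq : (S : Matrix (Fin 2) (Fin 2) F) * (T : Matrix (Fin 2) (Fin 2) F) *
        ((S : Matrix (Fin 2) (Fin 2) F) * (T : Matrix (Fin 2) (Fin 2) F)) = 1 := by
      calc (S : Matrix (Fin 2) (Fin 2) F) * (T : Matrix (Fin 2) (Fin 2) F) *
            ((S : Matrix (Fin 2) (Fin 2) F) * (T : Matrix (Fin 2) (Fin 2) F))
          = (S : Matrix (Fin 2) (Fin 2) F) * (T : Matrix (Fin 2) (Fin 2) F) *
            ((T : Matrix (Fin 2) (Fin 2) F) * (S : Matrix (Fin 2) (Fin 2) F)) := by rw [← e']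
        _ = (S : Matrix (Fin 2) (Fin 2) F) * ((T : Matrix (Fin 2) (Fin 2) F) *
            (T : Matrix (Fin 2) (Fin 2) F)) * (S : Matrix (Fin 2) (Fin 2) F) := by
            simp only [Matrix.mul_assoc]
        _ = 1 := by
            rw [hTT, Matrix.mul_neg, Matrix.mul_one, Matrix.neg_mul, hSS, neg_neg]
    by_cases h1 : (QuotientGroup.mk (S * T) : ProjectiveSpecialLinearGroup (Fin 2) F) = 1
    · apply hst
      rw [QuotientGroup.mk_mul] at h1
      calc (QuotientGroup.mk S : ProjectiveSpecialLinearGroup (Fin 2) F)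
          = QuotientGroup.mk S * (QuotientGroup.mk T * QuotientGroup.mk T) := by rw [ht, mul_one]
        _ = (QuotientGroup.mk S * QuotientGroup.mk T) * QuotientGroup.mk T := by rw [mul_assoc]
        _ = QuotientGroup.mk T := by rw [h1, one_mul]
    · have hmm : (QuotientGroup.mk (S * T) : ProjectiveSpecialLinearGroup (Fin 2) F) *
          QuotientGroup.mk (S * T) = 1 := by
        rw [← QuotientGroup.mk_mul, QuotientGroup.eq_one_iff]
        have : (S * T) * (S * T) = 1 := by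
          apply Subtype.ext
          exact hsq
        rw [this]
        exact Subgroup.one_mem _
      obtain ⟨-, hneg⟩ := trace_zero_of_mk_invol (S * T) hmm h1
      replace hneg : (S : Matrix (Fin 2) (Fin 2) F) * (T : Matrix (Fin 2) (Fin 2) F) *
        ((S : Matrix (Fin 2) (Fin 2) F) * (T : Matrix (Fin 2) (Fin 2) F)) = -1 := hneg
      rw [hsq] at hneg
      have h00 := congrFun (congrFun hneg 0) 0
      simp only [Matrix.one_apply_eq, Matrix.neg_apply] at h00
      apply h2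
      linear_combination h00
  · rw [neg_smul, one_smul] at e'
    exact e'

/-- the image in `PSL₂` of a torus element `a + b S` commutes with `s = [S]`, is inverted by `t = [T]` when
`ST = -TS`, and has non-trivial square when `ab ≠ 0`. -/
theorem torus_props (h2 : (2 : F) ≠ 0) (S T : SpecialLinearGroup (Fin 2) F)
    (hS0 : (S : Matrix (Fin 2) (Fin 2) F) 0 0 + (S : Matrix (Fin 2) (Fin 2) F) 1 1 = 0)
    (hSS : (S : Matrix (Fin 2) (Fin 2) F) * (S : Matrix (Fin 2) (Fin 2) F) = -1)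
    (hs1 : (QuotientGroup.mk S : ProjectiveSpecialLinearGroup (Fin 2) F) ≠ 1)
    (hanti : (S : Matrix (Fin 2) (Fin 2) F) * (T : Matrix (Fin 2) (Fin 2) F) =
      -((T : Matrix (Fin 2) (Fin 2) F) * (S : Matrix (Fin 2) (Fin 2) F)))
    (a b : F) (hab : a * a + b * b = 1) (ha0 : a ≠ 0) (hb0 : b ≠ 0) :
    ∃ y : ProjectiveSpecialLinearGroup (Fin 2) F,
      (QuotientGroup.mk S : ProjectiveSpecialLinearGroup (Fin 2) F) * y = y * QuotientGroup.mk S ∧
      (QuotientGroup.mk T : ProjectiveSpecialLinearGroup (Fin 2) F) * y *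
        (QuotientGroup.mk T : ProjectiveSpecialLinearGroup (Fin 2) F)⁻¹ = y⁻¹ ∧ y ^ 2 ≠ 1 := by
  have hab' : a * a + (-b) * (-b) = 1 := by linear_combination hab
  refine ⟨QuotientGroup.mk (torusElt S hS0 a b hab), ?_, ?_, ?_⟩
  · rw [← QuotientGroup.mk_mul, ← QuotientGroup.mk_mul]
    congr 1
    apply Subtype.ext
    change (S : Matrix (Fin 2) (Fin 2) F) *
        (a • (1 : Matrix (Fin 2) (Fin 2) F) + b • (S : Matrix (Fin 2) (Fin 2) F)) =
      (a • (1 : Matrix (Fin 2) (Fin 2) F) + b • (S : Matrix (Fin 2) (Fin 2) F)) *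
        (S : Matrix (Fin 2) (Fin 2) F)
    simp only [Matrix.mul_add, Matrix.add_mul, Matrix.mul_smul, Matrix.smul_mul, Matrix.mul_one,
      Matrix.one_mul]
  · have hinv : (torusElt S hS0 a b hab)⁻¹ = torusElt S hS0 a (-b) hab' := by
      apply inv_eq_of_mul_eq_one_right
      apply Subtype.ext
      change (a • (1 : Matrix (Fin 2) (Fin 2) F) + b • (S : Matrix (Fin 2) (Fin 2) F)) *
        (a • (1 : Matrix (Fin 2) (Fin 2) F) + (-b) • (S : Matrix (Fin 2) (Fin 2) F)) = 1
      simp only [Matrix.mul_add, Matrix.add_mul, Matrix.mul_smul, Matrix.smul_mul, Matrix.mul_one,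
        Matrix.one_mul, hSS]
      trans (a * a + b * b) • (1 : Matrix (Fin 2) (Fin 2) F)
      · module
      · rw [hab, one_smul]
    have hconj : T * torusElt S hS0 a b hab = torusElt S hS0 a (-b) hab' * T := by
      apply Subtype.ext
      change (T : Matrix (Fin 2) (Fin 2) F) *
          (a • (1 : Matrix (Fin 2) (Fin 2) F) + b • (S : Matrix (Fin 2) (Fin 2) F)) =
        (a • (1 : Matrix (Fin 2) (Fin 2) F) + (-b) • (S : Matrix (Fin 2) (Fin 2) F)) *
          (T : Matrix (Fin 2) (Fin 2) F)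
      simp only [Matrix.mul_add, Matrix.add_mul, Matrix.mul_smul, Matrix.smul_mul, Matrix.mul_one,
        Matrix.one_mul, hanti]
      module
    rw [← QuotientGroup.mk_inv, ← QuotientGroup.mk_inv, ← QuotientGroup.mk_mul, ← QuotientGroup.mk_mul,
      hconj, hinv, mul_inv_cancel_right]
  · intro hy
    apply hs1
    rw [← QuotientGroup.mk_pow, QuotientGroup.eq_one_iff] at hy
    obtain ⟨ρ, hρ⟩ := scalar_of_mem_center _ hy
    replace hρ : (a • (1 : Matrix (Fin 2) (Fin 2) F) + b • (S : Matrix (Fin 2) (Fin 2) F)) ^ 2 =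
      ρ • (1 : Matrix (Fin 2) (Fin 2) F) := hρ
    rw [QuotientGroup.eq_one_iff]
    apply mem_center_of_scalar S ((ρ - a * a + b * b) / (2 * a * b))
    have hne : 2 * a * b ≠ 0 := mul_ne_zero (mul_ne_zero h2 ha0) hb0
    have h1 : (2 * a * b) • (S : Matrix (Fin 2) (Fin 2) F) =
        (ρ - a * a + b * b) • (1 : Matrix (Fin 2) (Fin 2) F) := by
      rw [pow_two] at hρ
      simp only [Matrix.mul_add, Matrix.add_mul, Matrix.mul_smul, Matrix.smul_mul, Matrix.mul_one,
        Matrix.one_mul, hSS] at hρ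
      have e2 : (ρ - a * a + b * b) • (1 : Matrix (Fin 2) (Fin 2) F) =
          ρ • (1 : Matrix (Fin 2) (Fin 2) F) - (a * a - b * b) • (1 : Matrix (Fin 2) (Fin 2) F) := by
        module
      rw [e2, ← hρ]
      module
    calc (S : Matrix (Fin 2) (Fin 2) F)
        = (2 * a * b)⁻¹ • ((2 * a * b) • (S : Matrix (Fin 2) (Fin 2) F)) := by
          rw [smul_smul, inv_mul_cancel₀ hne, one_smul]
      _ = _ := by
          rw [h1, smul_smul, div_eq_mul_inv, mul_comm]

end

/-- **pslTorus** (market SF, S2752). -/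
theorem pslTorus {F : Type} [Field F] [Fintype F] (n : ℕ) (hn : 1 ≤ n)
    (hF : Fintype.card F = 3 ^ (2 * n + 1))
    (s t : Matrix.ProjectiveSpecialLinearGroup (Fin 2) F) (hs : s * s = 1) (ht : t * t = 1)
    (hs1 : s ≠ 1) (ht1 : t ≠ 1) (hst : s ≠ t) (hc : s * t = t * s) :
    ∃ x : Matrix.ProjectiveSpecialLinearGroup (Fin 2) F, x ≠ 1 ∧ Odd (orderOf x) ∧
      s * x = x * s ∧ t * x * t⁻¹ = x⁻¹ := by
  classical
  have h3 : (3 : F) = 0 := by
    have h := Nat.cast_card_eq_zero F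
    rw [hF] at h
    push_cast at h
    exact (pow_eq_zero_iff (by omega)).mp h
  have h2 : (2 : F) ≠ 0 := by
    intro h
    have : (1 : F) = 0 := by linear_combination h3 - h
    exact one_ne_zero this
  have hmod : 3 ^ (2 * n + 1) % 4 = 3 := by
    rw [pow_succ, pow_mul, Nat.mul_mod, Nat.pow_mod]
    norm_num
  have hm1 : ¬ IsSquare (-1 : F) := by
    rw [FiniteField.isSquare_neg_one_iff, hF]
    intro h
    exact h hmod
  have h2sq : ¬ IsSquare (2 : F) := by
    have : (2 : F) = -1 := by linear_combination h3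
    rwa [this]
  obtain ⟨m, hm0, hm1', hmm1⟩ : ∃ m : F, m ≠ 0 ∧ m ≠ 1 ∧ m ≠ -1 := by
    by_contra hcon
    push Not at hcon
    have hsub : (Finset.univ : Finset F) ⊆ {0, 1, -1} := by
      intro m _
      simp only [Finset.mem_insert, Finset.mem_singleton]
      by_cases h0 : m = 0
      · exact Or.inl h0
      by_cases h1 : m = 1
      · exact Or.inr (Or.inl h1)
      exact Or.inr (Or.inr (hcon m h0 h1))
    have hle := Finset.card_le_card hsub
    rw [Finset.card_univ, hF] at hle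
    have h27 : 27 ≤ 3 ^ (2 * n + 1) := by
      calc 27 = 3 ^ 3 := by norm_num
        _ ≤ 3 ^ (2 * n + 1) := Nat.pow_le_pow_right (by norm_num) (by omega)
    have h3' : ({0, 1, -1} : Finset F).card ≤ 3 := Finset.card_le_three
    omega
  have hden : 1 + m * m ≠ 0 := by
    intro h
    apply hm1
    exact ⟨m, by linear_combination -h⟩
  obtain ⟨a, b, hab, ha0, hb0⟩ : ∃ a b : F, a * a + b * b = 1 ∧ a ≠ 0 ∧ b ≠ 0 := by
    refine ⟨(1 - m * m) / (1 + m * m), 2 * m / (1 + m * m), ?_, ?_, ?_⟩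
    · have hd2 : (1 + m * m) * (1 + m * m) ≠ 0 := mul_ne_zero hden hden
      rw [div_mul_div_comm, div_mul_div_comm, ← add_div, div_eq_one_iff_eq hd2]
      ring
    · rw [div_ne_zero_iff]
      refine ⟨?_, hden⟩
      intro h
      have : (m - 1) * (m + 1) = 0 := by linear_combination -h
      rcases mul_eq_zero.mp this with h | h
      · exact hm1' (by linear_combination h)
      · exact hmm1 (by linear_combination h)
    · exact div_ne_zero (mul_ne_zero h2 hm0) hden
  obtain ⟨S, rfl⟩ := QuotientGroup.mk_surjective s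
  obtain ⟨T, rfl⟩ := QuotientGroup.mk_surjective t
  obtain ⟨hS0, hSS⟩ := trace_zero_of_mk_invol S hs hs1
  have hanti := anticomm_of_commuting_invol h2 S T hs ht hs1 ht1 hst hc
  obtain ⟨y, hy1, hy2, hy3⟩ := torus_props h2 S T hS0 hSS hs1 hanti a b hab ha0 hb0
  have hord : orderOf y ≠ 0 := (orderOf_pos y).ne'
  obtain ⟨e, r, hr, hN⟩ := Nat.exists_eq_two_pow_mul_odd hord
  refine ⟨y ^ (2 ^ e), ?_, ?_, ?_, ?_⟩
  · intro h
    exact hy3 (sq_eq_one_of_two_pow h2sq e y h)
  · have hx : (y ^ (2 ^ e)) ^ r = 1 := by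
      rw [← pow_mul, ← hN, pow_orderOf_eq_one]
    exact Odd.of_dvd_nat hr (orderOf_dvd_of_pow_eq_one hx)
  · exact (Commute.pow_right (show Commute _ y from hy1) _).eq
  · rw [← conj_pow, hy2, inv_pow]

end Cfsg.Agent.Lib.Helper14.SFLeaf
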