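/-
helper14: S2772 SIMS3 market, leaf SETUP1 (`exists_pair`): for a maximal subgroup `A` of a
non-abelian finite simple group with `|A| = 2 q |O_2(A)|`, `q` an odd prime, and
`N_G(S) ≰ A` for a Sylow 2-subgroup `S` of `A`: some `u ∈ N_G(S) \ A` gives a
Tutte-Sims pair `(A, u A u⁻¹)` with intersection `S` of index `q` in `A`.
-/
import Mathlib
import Cfsg.Agent.Lib.Helper18.SimsQ

set_option autoImplicit false

namespace Cfsg.Agent.Lib.Helper14.SIMS3SETUP1

open Cfsg Cfsg.Agent.Lib.Helper29.TWPair Cfsg.Agent.Lib.Helper18.Sims3 Cfsg.Agent.Lib.Helper18.SimsQ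
  MulAction

variable {G : Type*} [Group G]

theorem mem_cj_iff (g x : G) (S : Subgroup G) : x ∈ cj g S ↔ g⁻¹ * x * g ∈ S := by
  constructor
  · rintro ⟨y, hy, rfl⟩
    have : g⁻¹ * ((MulAut.conj g).toMonoidHom y) * g = y := by
      simp [MulAut.conj_apply, mul_assoc]
    rw [this]; exact hy
  · intro h
    refine ⟨g⁻¹ * x * g, h, ?_⟩
    simp [MulAut.conj_apply, mul_assoc]

theorem cj_eq_of_mem_normalizer {u : G} {S : Subgroup G}
    (hu : u ∈ Subgroup.normalizer (S : Set G)) : cj u S = S := by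
  ext x
  rw [mem_cj_iff]
  have h := Subgroup.mem_normalizer_iff.mp (inv_mem hu) x
  rw [inv_inv] at h
  exact h.symm

theorem mem_normalizer_of_cj_eq {u : G} {A : Subgroup G} (h : A = cj u A) :
    u ∈ Subgroup.normalizer (A : Set G) := by
  rw [Subgroup.mem_normalizer_iff]
  intro x
  constructor
  · intro hx
    rw [h, mem_cj_iff]
    have : u⁻¹ * (u * x * u⁻¹) * u = x := by group
    rw [this]; exact hx
  · intro hx
    rw [h, mem_cj_iff] at hx
    have : u⁻¹ * (u * x * u⁻¹) * u = x := by group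
    rw [this] at hx; exact hx

/-- the index of a Sylow `2`-subgroup when `|M| = 2 q |O_2(M)|`, `q` an odd prime. -/
theorem sylow_index_eq {M : Type*} [Group M] [Finite M] (S : Sylow 2 M) (q : ℕ) (hq : q.Prime)
    (hq2 : q ≠ 2) (hcard : Nat.card M = 2 * q * Nat.card ↥(Cfsg.pCore 2 M)) :
    (S : Subgroup M).index = q := by
  have : Fact (Nat.Prime 2) := ⟨Nat.prime_two⟩
  obtain ⟨k, hk⟩ := (Cfsg.Agent.Lib.Helper27.pCore_isPGroup 2 M).exists_card_eq
  obtain ⟨m, hm⟩ := S.2.exists_card_eq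
  have hidx : ¬ 2 ∣ (S : Subgroup M).index := S.not_dvd_index
  have hmul : Nat.card (S : Subgroup M) * (S : Subgroup M).index = Nat.card M :=
    Subgroup.card_mul_index _
  have hm' : Nat.card (S : Subgroup M) = 2 ^ m := hm
  rw [hm', hcard, hk] at hmul
  have hmul' : 2 ^ m * (S : Subgroup M).index = 2 ^ (k + 1) * q := by
    rw [hmul, pow_succ]; ring
  have hqodd : Nat.Coprime 2 q := by
    rw [Nat.coprime_primes Nat.prime_two hq]; exact fun h => hq2 h.symm
  have hiodd : Nat.Coprime 2 (S : Subgroup M).index :=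
    (Nat.Prime.coprime_iff_not_dvd Nat.prime_two).mpr hidx
  have h1 : 2 ^ m ∣ 2 ^ (k + 1) :=
    (Nat.Coprime.pow_left m hqodd).dvd_of_dvd_mul_right ⟨_, hmul'.symm⟩
  have h2 : 2 ^ (k + 1) ∣ 2 ^ m :=
    (Nat.Coprime.pow_left (k + 1) hiodd).dvd_of_dvd_mul_right ⟨_, hmul'⟩
  have h3 : 2 ^ m = 2 ^ (k + 1) := Nat.dvd_antisymm h1 h2
  rw [h3] at hmul'
  exact Nat.eq_of_mul_eq_mul_left (by positivity) hmul'

/-- LEAF SETUP1. -/
theorem exists_pair [Finite G] [IsSimpleGroup G] (hna : ¬ IsMulCommutative G)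
    (A : Subgroup G) (hA : IsCoatom A) (S : Sylow 2 ↥A)
    (hN : ¬ Subgroup.normalizer (((S : Subgroup ↥A).map A.subtype : Subgroup G) : Set G) ≤ A)
    (q : ℕ) (hq : q.Prime) (hq2 : q ≠ 2)
    (hcard : Nat.card ↥A = 2 * q * Nat.card ↥(Cfsg.pCore 2 ↥A)) :
    ∃ u : G, cj u ((S : Subgroup ↥A).map A.subtype) = (S : Subgroup ↥A).map A.subtype ∧
      Pair A (cj u A) ∧ A ⊓ cj u A = (S : Subgroup ↥A).map A.subtype ∧
      ((S : Subgroup ↥A).map A.subtype).relIndex A = q := by
  set S' : Subgroup G := (S : Subgroup ↥A).map A.subtype with hS'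
  obtain ⟨u, huN, huA⟩ := SetLike.not_le_iff_exists.mp hN
  have hcjS : cj u S' = S' := cj_eq_of_mem_normalizer huN
  -- `A ≠ ⊥`
  have hAbot : A ≠ ⊥ := by
    intro h
    have h1 : Nat.card ↥A = 1 := by rw [h]; exact Subgroup.card_bot
    rw [h1] at hcard
    have h2 : 2 ∣ 1 := ⟨q * Nat.card ↥(Cfsg.pCore 2 ↥A), by rw [hcard]; ring⟩
    omega
  -- trivial core
  have hcore : A.normalCore = ⊥ := by
    rcases (Subgroup.normalCore_normal A).eq_bot_or_eq_top with h | h
    · exact h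
    · exfalso
      apply hA.1
      have := Subgroup.normalCore_le A
      rw [h] at this
      exact top_le_iff.mp this
  have hNA : Subgroup.normalizer (A : Set G) = A :=
    normalizer_eq_of_coatom hA hcore hAbot le_rfl Subgroup.le_normalizer
  have hne : A ≠ cj u A := by
    intro h
    apply huA
    have := mem_normalizer_of_cj_eq h
    rw [hNA] at this
    exact this
  have hpair : Pair A (cj u A) := ⟨hA, hcore, hne, ⟨u, rfl⟩⟩
  -- the index
  have hS'A : S' ≤ A := Subgroup.map_subtype_le _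
  have hsub : S'.subgroupOf A = (S : Subgroup ↥A) := by
    rw [hS']
    exact Subgroup.comap_map_eq_self_of_injective A.subtype_injective _
  have hrel : S'.relIndex A = q := by
    unfold Subgroup.relIndex
    rw [hsub]
    exact sylow_index_eq S q hq hq2 hcard
  refine ⟨u, hcjS, hpair, ?_, hrel⟩
  -- the intersection
  have hS'B : S' ≤ cj u A := by
    rw [← hcjS]
    exact Subgroup.map_mono hS'A
  have hS'D : S' ≤ A ⊓ cj u A := le_inf hS'A hS'B
  have hDA : A ⊓ cj u A ≤ A := inf_le_left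
  have hmul := Subgroup.relIndex_mul_relIndex S' (A ⊓ cj u A) A hS'D hDA
  rw [hrel] at hmul
  have hdvd : S'.relIndex (A ⊓ cj u A) ∣ q := ⟨_, hmul.symm⟩
  rcases (Nat.dvd_prime hq).mp hdvd with h1 | h1
  · exact le_antisymm (Subgroup.relIndex_eq_one.mp h1) hS'D
  · exfalso
    rw [h1] at hmul
    have h2 : (A ⊓ cj u A).relIndex A = 1 := by
      have hqpos : 0 < q := hq.pos
      exact Nat.eq_of_mul_eq_mul_left hqpos (by rw [hmul, mul_one])
    have h3 : A ≤ A ⊓ cj u A := Subgroup.relIndex_eq_one.mp h2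
    have h4 : A ≤ cj u A := h3.trans inf_le_right
    have hB : IsCoatom (cj u A) := isCoatom_map_conj' hA u
    exact hB.1 (hA.2 _ (lt_of_le_of_ne h4 hne))

end Cfsg.Agent.Lib.Helper14.SIMS3SETUP1
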