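import Mathlib
import Cfsg.Agent.Lib.Helper14.GGPsiAbs
import Cfsg.Agent.Lib.Helper18.PSLnUnitri

/-!
# S4538 leaf (B3) (helper14): a linear character of the upper unitriangular subgroup of `SL_n(F)`
which is nontrivial on every simple root subgroup `{1 + t E_{i,i+1}}`

`ψ(u) = χ₀(Σ_i u_{i,i+1})` with `χ₀` a nontrivial additive character of the finite field `F`.
-/

set_option autoImplicit false

namespace Cfsg.Agent.Lib.Helper14.SLPsi

open Matrix Cfsg.Agent.Lib.Helper18.PSLnAut

variable {n : ℕ} {F : Type*} [Field F]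

/-- on unitriangular matrices the entries just above the diagonal are additive -/
theorem mul_apply_succ {A B : Matrix (Fin n) (Fin n) F} (hA : IsUni A) (hB : IsUni B)
    {i j : Fin n} (hij : j.val = i.val + 1) : (A * B) i j = A i j + B i j := by
  have hne : i ≠ j := by
    intro h; rw [h] at hij; omega
  rw [Matrix.mul_apply, Finset.sum_eq_add i j hne]
  · rw [hA.2 i, hB.2 j, one_mul, mul_one, add_comm]
  · intro k _ hk
    by_cases hki : k < i
    · rw [hA.1 i k hki, zero_mul]
    · have hjk : j < k := by
        rw [Fin.lt_def]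
        have h1 : i.val ≤ k.val := not_lt.mp hki
        have h2 : k.val ≠ i.val := fun h => hk.1 (Fin.ext h)
        have h3 : k.val ≠ j.val := fun h => hk.2 (Fin.ext h)
        omega
      rw [hB.1 k j hjk, mul_zero]
  · intro h; exact absurd (Finset.mem_univ i) h
  · intro h; exact absurd (Finset.mem_univ j) h

/-- the sum of the entries just above the diagonal -/
def sdSum (M : Matrix (Fin n) (Fin n) F) : F :=
  ∑ i : Fin n, ∑ j : Fin n, if j.val = i.val + 1 then M i j else 0

theorem sdSum_mul {A B : Matrix (Fin n) (Fin n) F} (hA : IsUni A) (hB : IsUni B) :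
    sdSum (A * B) = sdSum A + sdSum B := by
  unfold sdSum
  rw [← Finset.sum_add_distrib]
  apply Finset.sum_congr rfl
  intro i _
  rw [← Finset.sum_add_distrib]
  apply Finset.sum_congr rfl
  intro j _
  by_cases h : j.val = i.val + 1
  · rw [if_pos h, if_pos h, if_pos h, mul_apply_succ hA hB h]
  · rw [if_neg h, if_neg h, if_neg h, add_zero]

theorem sdSum_one : sdSum (1 : Matrix (Fin n) (Fin n) F) = 0 := by
  unfold sdSum
  apply Finset.sum_eq_zero
  intro i _
  apply Finset.sum_eq_zero
  intro j _
  by_cases h : j.val = i.val + 1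
  · rw [if_pos h, Matrix.one_apply_ne]
    intro e; rw [e] at h; omega
  · rw [if_neg h]

theorem sdSum_transvection {i j : Fin n} (hij : j.val = i.val + 1) (t : F) :
    sdSum (1 + Matrix.single i j t : Matrix (Fin n) (Fin n) F) = t := by
  unfold sdSum
  rw [Finset.sum_eq_single i]
  · rw [Finset.sum_eq_single j]
    · rw [if_pos hij, Matrix.add_apply, Matrix.single_apply_same, Matrix.one_apply_ne, zero_add]
      intro e; rw [e] at hij; omega
    · intro k _ hk
      by_cases h : k.val = i.val + 1
      · exact absurd (Fin.ext (h.trans hij.symm)) hk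
      · rw [if_neg h]
    · intro h; exact absurd (Finset.mem_univ j) h
  · intro k _ hk
    apply Finset.sum_eq_zero
    intro l _
    by_cases h : l.val = k.val + 1
    · rw [if_pos h, Matrix.add_apply, Matrix.single_apply_of_row_ne (Ne.symm hk), add_zero,
        Matrix.one_apply_ne]
      intro e; rw [e] at h; omega
    · rw [if_neg h]
  · intro h; exact absurd (Finset.mem_univ i) h

variable [Fintype F]

/-- the superdiagonal sum of an element of `SL_n(F)` -/
def sdS (g : SpecialLinearGroup (Fin n) F) : F := sdSum (g : Matrix (Fin n) (Fin n) F)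

omit [Fintype F] in
theorem sdS_eq (g : SpecialLinearGroup (Fin n) F) :
    sdS g = sdSum (g : Matrix (Fin n) (Fin n) F) := rfl

omit [Fintype F] in
theorem sdS_one : sdS (1 : SpecialLinearGroup (Fin n) F) = 0 := by
  rw [sdS_eq, Matrix.SpecialLinearGroup.coe_one, sdSum_one]

omit [Fintype F] in
theorem sdS_mul {g h : SpecialLinearGroup (Fin n) F}
    (hg : IsUni (g : Matrix (Fin n) (Fin n) F)) (hh : IsUni (h : Matrix (Fin n) (Fin n) F)) :
    sdS (g * h) = sdS g + sdS h := by
  rw [sdS_eq, sdS_eq, sdS_eq, Matrix.SpecialLinearGroup.coe_mul, sdSum_mul hg hh]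

omit [Fintype F] in
theorem sdS_transvection {i j : Fin n} (hij : j.val = i.val + 1) (hne : i ≠ j) (t : F) :
    sdS (SpecialLinearGroup.transvection hne t : SpecialLinearGroup (Fin n) F) = t := by
  rw [sdS_eq, Matrix.SpecialLinearGroup.transvection_coe, sdSum_transvection hij]

/-- the linear character `u ↦ χ₀(Σ_i u_{i,i+1})` of the unitriangular group -/
noncomputable def psiU (χ₀ : Multiplicative F →* ℂˣ) : unitri n F →* ℂˣ where
  toFun u := χ₀ (Multiplicative.ofAdd (sdS (u : SpecialLinearGroup (Fin n) F)))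
  map_one' := by
    rw [Subgroup.coe_one, sdS_one, ofAdd_zero, map_one]
  map_mul' := by
    intro u v
    rw [Subgroup.coe_mul, sdS_mul (mem_unitri.1 u.2) (mem_unitri.1 v.2), ofAdd_add, map_mul]

theorem psiU_transvection (χ₀ : Multiplicative F →* ℂˣ) {i j : Fin n} (hij : j.val = i.val + 1)
    (hlt : i < j) (t : F) :
    psiU χ₀ ⟨SpecialLinearGroup.transvection (ne_of_lt hlt) t, transvection_mem_unitri hlt t⟩ =
      χ₀ (Multiplicative.ofAdd t) := by
  show χ₀ (Multiplicative.ofAdd (sdS (SpecialLinearGroup.transvection (ne_of_lt hlt) t :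
    SpecialLinearGroup (Fin n) F))) = _
  rw [sdS_transvection hij]

/-- a nontrivial additive character of a finite field -/
theorem exists_addChar_ne_one : ∃ χ₀ : Multiplicative F →* ℂˣ, χ₀ (Multiplicative.ofAdd 1) ≠ 1 := by
  apply Cfsg.Agent.Lib.Helper14.GG.exists_complex_char_ne_one
  intro h
  have : (1 : F) = 0 := by
    have := congrArg Multiplicative.toAdd h
    simp at this
  exact one_ne_zero this

/-- **(B3)**: a linear character of the unitriangular subgroup of `SL_n(F)` which is nontrivial at
`1 + E_{i,i+1}` for every `i` -/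
theorem exists_psi (n : ℕ) (F : Type*) [Field F] [Fintype F] :
    ∃ ψ : unitri n F →* ℂˣ, ∀ (i j : Fin n), j.val = i.val + 1 → ∀ (hlt : i < j),
      ψ ⟨SpecialLinearGroup.transvection (ne_of_lt hlt) 1, transvection_mem_unitri hlt 1⟩ ≠ 1 := by
  obtain ⟨χ₀, hχ⟩ := exists_addChar_ne_one (F := F)
  refine ⟨psiU χ₀, fun i j hij hlt => ?_⟩
  rw [psiU_transvection χ₀ hij hlt]
  exact hχ

end Cfsg.Agent.Lib.Helper14.SLPsi
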