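import Mathlib
import Cfsg.Agent.Lib.Helper27.SLGGDet
import Cfsg.Agent.Lib.Helper14.SLPsi

/-!
# S4538 leaf T7 `sl_psi` (helper14): a linear character of the unitriangular subgroup `Usl n F` of
`↥(SLsub n F)` which is nontrivial on every fundamental root subgroup `Xsl n F i`

`ψ(u) = χ₀(Σ_k u_{k,k+1})`, `χ₀` a nontrivial additive character of `F` (core: `Helper14.SLPsi`).
-/

set_option autoImplicit false

namespace Cfsg.Agent.Lib.Helper14.SLGG

open Matrix Equiv Cfsg Cfsg.Agent.Lib.Helper6.GLBN Cfsg.Agent.Lib.Helper27.SLGG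
open Cfsg.Agent.Lib.Helper14.SLPsi Cfsg.Agent.Lib.Helper18.PSLnAut

variable {n : ℕ} {F : Type*} [Field F]

/-- elements of `UGL` are unitriangular in helper18's sense -/
theorem isUni_of_mem_UGL {g : GL (Fin n) F} (hg : g ∈ UGL n F) :
    IsUni (g : Matrix (Fin n) (Fin n) F) :=
  ⟨mem_Bup.mp hg.1, hg.2⟩

theorem isUni_of_mem_Usl (u : Usl n F) :
    IsUni (((u : SLsub n F) : GL (Fin n) F) : Matrix (Fin n) (Fin n) F) :=
  isUni_of_mem_UGL (Subgroup.mem_subgroupOf.mp u.2)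

/-- the superdiagonal sum on `Usl` -/
def sdU (u : Usl n F) : F := sdSum (((u : SLsub n F) : GL (Fin n) F) : Matrix (Fin n) (Fin n) F)

theorem sdU_one : sdU (1 : Usl n F) = 0 := by
  unfold sdU
  rw [Subgroup.coe_one, Subgroup.coe_one, Units.val_one, sdSum_one]

theorem sdU_mul (u v : Usl n F) : sdU (u * v) = sdU u + sdU v := by
  unfold sdU
  rw [Subgroup.coe_mul, Subgroup.coe_mul, Units.val_mul,
    sdSum_mul (isUni_of_mem_Usl u) (isUni_of_mem_Usl v)]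

/-- the root element `1 + t E_{k,k'}` as an element of `Usl` -/
theorem xGL_mem_UGL (i : SLι n) (t : F) : xGL i.1.1 i.1.2 (SLι_ne i) t ∈ UGL n F := by
  have hlt : i.1.1 < i.1.2 := by
    rw [Fin.lt_def]; have := i.2; omega
  refine ⟨xGL_mem_Bup hlt t, fun k => ?_⟩
  rw [coe_xGL, transvection_apply', if_pos rfl, if_neg, add_zero]
  rintro ⟨h1, h2⟩
  exact SLι_ne i (h1.symm.trans h2)

/-- `x_i(t)` in `Usl` -/
def xU (i : SLι n) (t : F) : Usl n F :=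
  ⟨⟨xGL i.1.1 i.1.2 (SLι_ne i) t, UGL_le_SLsub (xGL_mem_UGL i t)⟩,
    Subgroup.mem_subgroupOf.mpr (xGL_mem_UGL i t)⟩

theorem xU_mem_Xsl (i : SLι n) (t : F) : ((xU i t : Usl n F) : SLsub n F) ∈ Xsl n F i := by
  unfold Xsl
  rw [Subgroup.mem_subgroupOf]
  exact ⟨t, rfl⟩

theorem sdU_xU (i : SLι n) (t : F) : sdU (xU i t) = t := by
  unfold sdU
  show sdSum ((xGL i.1.1 i.1.2 (SLι_ne i) t : GL (Fin n) F) : Matrix (Fin n) (Fin n) F) = t
  rw [coe_xGL]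
  exact sdSum_transvection i.2.symm t

/-- the linear character `u ↦ χ₀(Σ_k u_{k,k+1})` of `Usl` -/
noncomputable def psiSl (χ₀ : Multiplicative F →* ℂˣ) : Usl n F →* ℂˣ where
  toFun u := χ₀ (Multiplicative.ofAdd (sdU u))
  map_one' := by rw [sdU_one, ofAdd_zero, map_one]
  map_mul' := by
    intro u v
    rw [sdU_mul, ofAdd_add, map_mul]

/-- **T7** -/
theorem sl_psi [Fintype F] : ∃ ψ : Usl n F →* ℂˣ, ∀ i : SLι n,
    ∃ x : Usl n F, ((x : SLsub n F)) ∈ Xsl n F i ∧ ψ x ≠ 1 := by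
  obtain ⟨χ₀, hχ⟩ := exists_addChar_ne_one (F := F)
  refine ⟨psiSl χ₀, fun i => ⟨xU i 1, xU_mem_Xsl i 1, ?_⟩⟩
  show χ₀ (Multiplicative.ofAdd (sdU (xU i 1))) ≠ 1
  rw [sdU_xU]
  exact hχ

end Cfsg.Agent.Lib.Helper14.SLGG
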