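import Cfsg.Agent.Lib.Helper17.SLMDefs
import Cfsg.Agent.Lib.Helper14.SLMLines

/-!
SLnMax market (helper17; rows S5775 ... S5862): leaf Q2 `lines_three` (exact signature of notes/SLnMax_leaves.lean).
Taker: helper14.
-/

set_option autoImplicit false
set_option linter.unusedSectionVars false
set_option linter.unusedVariables false

namespace Cfsg.Agent.Lib.Helper14.SLMLeaf

open Cfsg.Geo Matrix Module Cfsg.Agent.Lib.Helper17.SLM

variable {n : ℕ} {F : Type*} [Field F] [Fintype F]

/-- in a field with three elements `2 ≠ 0` -/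
theorem two_ne_zero_of_card_three (hq : Fintype.card F = 3) : (2 : F) ≠ 0 := by
  obtain ⟨p, hp⟩ := CharP.exists F
  obtain ⟨k, hprime, hcard⟩ := FiniteField.card F p
  rw [hq] at hcard
  have hp3 : p = 3 := by
    have h1 : p ∣ 3 := by
      rw [hcard]
      exact dvd_pow_self p k.ne_zero
    exact (Nat.prime_dvd_prime_iff_eq hprime Nat.prime_three).1 h1
  subst hp3
  intro h
  have h2 : ((2 : ℕ) : F) = 0 := by exact_mod_cast h
  rw [CharP.cast_eq_zero_iff F 3] at h2
  omega

/-- the sum of squares of the coordinates -/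
noncomputable def sqForm {t : ℕ} (b : Basis (Fin t) F (Fin n → F)) (v : Fin n → F) : F := ∑ i, (b.repr v i) ^ 2

theorem polar_sqForm {t : ℕ} (b : Basis (Fin t) F (Fin n → F)) (u v : Fin n → F) :
    QuadraticMap.polar (sqForm b) u v = 2 * ∑ i, b.repr u i * b.repr v i := by
  unfold QuadraticMap.polar sqForm
  rw [Finset.mul_sum, ← Finset.sum_sub_distrib, ← Finset.sum_sub_distrib]
  apply Finset.sum_congr rfl
  intro i _
  rw [map_add, Finsupp.add_apply]
  ring

/-- Q2.  `q = 3`: `d i` spanning `D i`; `Q (Σ x_i d_i) := Σ x_i²` is a non-degenerate quadratic form (`2 ≠ 0`); an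
element of the stabiliser is monomial in the basis `d` with entries `± 1`, so it is an isometry of `Q`. -/
theorem lines_three (hq : Fintype.card F = 3) {t : ℕ} {D : Fin t → Submodule F (Fin n → F)}
    (hD : IsMDecomposition 1 D) :
    ∃ Q : (Fin n → F) → F, IsNondegenerateQuadraticForm Q ∧
      decompositionStabilizer D ≤ quadSimilarityGroup Q := by
  classical
  obtain ⟨b, hb⟩ := exists_lines_basis hD
  have h2 : (2 : F) ≠ 0 := two_ne_zero_of_card_three hq
  refine ⟨sqForm b, ⟨?_, ⟨?_, ?_, ?_, ?_⟩, ?_⟩, ?_⟩
  · -- smul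
    intro c v
    unfold sqForm
    rw [Finset.mul_sum]
    apply Finset.sum_congr rfl
    intro i _
    rw [map_smul, Finsupp.smul_apply, smul_eq_mul, mul_pow]
  · intro x y v
    simp only [polar_sqForm, map_add, Finsupp.add_apply, add_mul, Finset.sum_add_distrib, mul_add]
  · intro c x v
    simp only [polar_sqForm, map_smul, Finsupp.smul_apply, smul_eq_mul, Finset.mul_sum]
    apply Finset.sum_congr rfl
    intro i _
    ring
  · intro v x y
    simp only [polar_sqForm, map_add, Finsupp.add_apply, mul_add, Finset.sum_add_distrib]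
  · intro c v x
    simp only [polar_sqForm, map_smul, Finsupp.smul_apply, smul_eq_mul, Finset.mul_sum]
    apply Finset.sum_congr rfl
    intro i _
    ring
  · -- nondegenerate
    intro v hv
    obtain ⟨i, hi⟩ : ∃ i, b.repr v i ≠ 0 := by
      by_contra hcon
      push Not at hcon
      apply hv
      have : b.repr v = 0 := Finsupp.ext hcon
      exact (LinearEquiv.map_eq_zero_iff b.repr).1 this
    have hsingle : ∀ j, b.repr (b i) j = if j = i then 1 else 0 := by
      intro j
      rw [Basis.repr_self, Finsupp.single_apply]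
      by_cases h : i = j
      · subst h; simp
      · rw [if_neg h, if_neg (fun h' => h h'.symm)]
    refine ⟨⟨b i, ?_⟩, ⟨b i, ?_⟩⟩
    · rw [polar_sqForm]
      simp only [hsingle, ite_mul, one_mul, zero_mul, Finset.sum_ite_eq', Finset.mem_univ, if_true]
      exact mul_ne_zero h2 hi
    · rw [polar_sqForm]
      simp only [hsingle, mul_ite, mul_one, mul_zero, Finset.sum_ite_eq', Finset.mem_univ, if_true]
      exact mul_ne_zero h2 hi
  · -- similarity
    intro g hg
    obtain ⟨σ, c, hc0, hc⟩ := stab_monomial b hb hg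
    refine ⟨1, fun v => ?_⟩
    rw [Units.val_one, one_mul]
    unfold sqForm
    rw [← Equiv.sum_comp σ (fun j => (b.repr ((g : Matrix (Fin n) (Fin n) F) *ᵥ v) j) ^ 2)]
    apply Finset.sum_congr rfl
    intro i _
    rw [repr_monomial b _ σ c hc v i, mul_pow]
    have : c i ^ 2 = 1 := by
      have := FiniteField.pow_card_sub_one_eq_one (c i) (hc0 i)
      rwa [hq] at this
    rw [this, one_mul]

end Cfsg.Agent.Lib.Helper14.SLMLeaf
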