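import Cfsg.Agent.Lib.Helper17.SLMDefs
import Cfsg.Agent.Lib.Helper14.SLMLines
import Cfsg.Agent.Lib.Helper15.AschA7NT

/-!
SLnMax market (helper17; rows S5775 ... S5862): leaf Q3 `lines_four` (exact signature of notes/SLnMax_leaves.lean).
Taker: helper14.
-/

set_option autoImplicit false
set_option linter.unusedSectionVars false
set_option linter.unusedVariables false

namespace Cfsg.Agent.Lib.Helper14.SLMLeaf

open Cfsg.Geo Matrix Module Cfsg.Agent.Lib.Helper17.SLM

variable {n : ℕ} {F : Type*} [Field F] [Fintype F]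

/-- a field with four elements has characteristic two -/
theorem charP_two_of_card_four (hq : Fintype.card F = 4) : CharP F 2 := by
  obtain ⟨p, hp⟩ := CharP.exists F
  obtain ⟨k, hprime, hcard⟩ := FiniteField.card F p
  rw [hq] at hcard
  have hp2 : p = 2 := by
    have h1 : p ∣ 4 := by
      rw [hcard]
      exact dvd_pow_self p k.ne_zero
    have h2 : p ∣ 2 ^ 2 := by simpa using h1
    exact (Nat.prime_dvd_prime_iff_eq hprime Nat.prime_two).1 (hprime.dvd_of_dvd_pow h2)
  subst hp2
  exact hp

/-- the sesquilinear form `Σ u_i σ(v_i)` in the coordinates of a basis -/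
noncomputable def sesqForm {t : ℕ} (σ : F ≃+* F) (b : Basis (Fin t) F (Fin n → F)) (u v : Fin n → F) : F :=
  ∑ i, b.repr u i * σ (b.repr v i)

/-- Q3.  `q = 4`: `σ x = x²` is an automorphism of order two; `f (Σ x_i d_i) (Σ y_i d_i) := Σ x_i σ(y_i)` is a unitary
form; a monomial matrix with entries `a`, `a σ(a) = a³ = 1`, is an isometry. -/
theorem lines_four (hq : Fintype.card F = 4) {t : ℕ} {D : Fin t → Submodule F (Fin n → F)}
    (hD : IsMDecomposition 1 D) :
    ∃ (σ : F ≃+* F) (f : (Fin n → F) → (Fin n → F) → F), IsUnitaryForm σ f ∧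
      decompositionStabilizer D ≤ similarityGroup f := by
  classical
  obtain ⟨b, hb⟩ := exists_lines_basis hD
  have hchar : CharP F 2 := charP_two_of_card_four hq
  obtain ⟨σ, hσ1, hσ2, hσ⟩ := Cfsg.Agent.Lib.Helper15.AschA7Leaf.exists_half_frobenius (F := F) (p := 2) (k := 1)
    Nat.prime_two hchar one_pos (by rw [hq]; norm_num)
  have hσ' : ∀ a : F, σ a = a ^ 2 := fun a => by rw [hσ a, pow_one]
  have hsingle : ∀ i j, b.repr (b i) j = if j = i then 1 else 0 := by
    intro i j
    rw [Basis.repr_self, Finsupp.single_apply]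
    by_cases h : i = j
    · subst h; simp
    · rw [if_neg h, if_neg (fun h' => h h'.symm)]
  refine ⟨σ, sesqForm σ b, ⟨hσ1, hσ2, ?_, ?_, ?_, ?_⟩, ?_⟩
  · intro x y v
    unfold sesqForm
    rw [← Finset.sum_add_distrib]
    apply Finset.sum_congr rfl
    intro i _
    rw [map_add, Finsupp.add_apply, add_mul]
  · intro c x v
    unfold sesqForm
    rw [Finset.mul_sum]
    apply Finset.sum_congr rfl
    intro i _
    rw [map_smul, Finsupp.smul_apply, smul_eq_mul, mul_assoc]
  · intro v w
    unfold sesqForm
    rw [map_sum]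
    apply Finset.sum_congr rfl
    intro i _
    rw [map_mul, hσ2, mul_comm]
  · intro v hv
    obtain ⟨i, hi⟩ : ∃ i, b.repr v i ≠ 0 := by
      by_contra hcon
      push Not at hcon
      apply hv
      have : b.repr v = 0 := Finsupp.ext hcon
      exact (LinearEquiv.map_eq_zero_iff b.repr).1 this
    refine ⟨⟨b i, ?_⟩, ⟨b i, ?_⟩⟩
    · unfold sesqForm
      simp only [hsingle, ite_mul, one_mul, zero_mul, Finset.sum_ite_eq', Finset.mem_univ, if_true]
      intro h
      apply hi
      have := congrArg σ h
      rwa [hσ2, map_zero] at this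
    · unfold sesqForm
      have : ∀ j, b.repr v j * σ (b.repr (b i) j) = if j = i then b.repr v j else 0 := by
        intro j
        rw [hsingle]
        split_ifs
        · rw [map_one, mul_one]
        · rw [map_zero, mul_zero]
      simp only [this, Finset.sum_ite_eq', Finset.mem_univ, if_true]
      exact hi
  · intro g hg
    obtain ⟨τ, c, hc0, hc⟩ := stab_monomial b hb hg
    refine ⟨1, fun u v => ?_⟩
    rw [Units.val_one, one_mul]
    unfold sesqForm
    rw [← Equiv.sum_comp τ (fun j => b.repr ((g : Matrix (Fin n) (Fin n) F) *ᵥ u) j *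
      σ (b.repr ((g : Matrix (Fin n) (Fin n) F) *ᵥ v) j))]
    apply Finset.sum_congr rfl
    intro i _
    rw [repr_monomial b _ τ c hc u i, repr_monomial b _ τ c hc v i, map_mul, hσ' (c i)]
    have h3 : c i ^ 3 = 1 := by
      have := FiniteField.pow_card_sub_one_eq_one (c i) (hc0 i)
      rwa [hq] at this
    calc c i * b.repr u i * (c i ^ 2 * σ (b.repr v i))
        = c i ^ 3 * (b.repr u i * σ (b.repr v i)) := by ring
      _ = b.repr u i * σ (b.repr v i) := by rw [h3, one_mul]

end Cfsg.Agent.Lib.Helper14.SLMLeaf
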