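import Cfsg.Agent.Lib.Helper17.SLMDefs
import Cfsg.Agent.Lib.Helper20.AschDefs
import Cfsg.Agent.Lib.Helper14.SLMQ1

/-!
SLnMax market (helper17; rows S5775 ... S5862): leaf Q5 `tensor_two` (signature of notes/SLnMax_leaves.lean WITH the extra
hypothesis `0 < n₂`: for `n₂ = 0` the statement is false, `Matrix (Fin 0) (Fin 0) F` being the zero ring).
Taker: helper14.
-/

set_option autoImplicit false
set_option linter.unusedSectionVars false
set_option linter.unusedVariables false

namespace Cfsg.Agent.Lib.Helper14.SLMLeaf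

open Cfsg.Geo Matrix Module Cfsg.Agent.Lib.Helper17.SLM Cfsg.Agent.Lib.Helper20.Asch
open scoped Kronecker

variable {n : ℕ} {F : Type*} [Field F]

/-- the generator of `F_4` inside `M_2(F)` -/
def s2 : Matrix (Fin 2) (Fin 2) F := !![0, 1; 1, 1]

theorem s2_sq : (s2 : Matrix (Fin 2) (Fin 2) F) * s2 = s2 + 1 := by
  unfold s2
  ext i j
  fin_cases i <;> fin_cases j <;> simp [Matrix.mul_apply, Fin.sum_univ_two, Matrix.one_apply] <;> norm_num

/-- the subalgebra `{a + b S}` for `S * S = S + 1` -/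
def quadAlg (S : Matrix (Fin n) (Fin n) F) (hS : S * S = S + 1) : Subalgebra F (Matrix (Fin n) (Fin n) F) where
  carrier := {x | ∃ a b : F, x = a • (1 : Matrix (Fin n) (Fin n) F) + b • S}
  mul_mem' := by
    rintro _ _ ⟨a, b, rfl⟩ ⟨a', b', rfl⟩
    refine ⟨a * a' + b * b', a * b' + a' * b + b * b', ?_⟩
    have : (a • (1 : Matrix (Fin n) (Fin n) F) + b • S) * (a' • (1 : Matrix (Fin n) (Fin n) F) + b' • S) =
        (a * a') • (1 : Matrix (Fin n) (Fin n) F) + (a * b' + a' * b) • S + (b * b') • (S * S) := by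
      simp only [add_mul, mul_add, Matrix.smul_mul, Matrix.mul_smul, Matrix.one_mul, Matrix.mul_one, smul_smul]
      module
    rw [this, hS]
    module
  one_mem' := ⟨1, 0, by simp⟩
  add_mem' := by
    rintro _ _ ⟨a, b, rfl⟩ ⟨a', b', rfl⟩
    exact ⟨a + a', b + b', by module⟩
  zero_mem' := ⟨0, 0, by simp⟩
  algebraMap_mem' r := ⟨r, 0, by simp [Algebra.algebraMap_eq_smul_one]⟩

theorem mem_quadAlg {S : Matrix (Fin n) (Fin n) F} {hS : S * S = S + 1} {x : Matrix (Fin n) (Fin n) F} :
    x ∈ quadAlg S hS ↔ ∃ a b : F, x = a • (1 : Matrix (Fin n) (Fin n) F) + b • S := Iff.rfl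

theorem zero_or_one_of_card_two [Fintype F] (hq : Fintype.card F = 2) (x : F) : x = 0 ∨ x = 1 := by
  by_cases h : x = 0
  · exact Or.inl h
  · exact Or.inr (eq_one_of_card_two hq h)

theorem two_eq_zero_of_card_two [Fintype F] (hq : Fintype.card F = 2) : (1 : F) + 1 = 0 := by
  rcases zero_or_one_of_card_two hq ((1 : F) + 1) with h | h
  · exact h
  · exfalso
    have : (1 : F) = 0 := by
      have h2 : (1 : F) + 1 = 1 + 0 := by rw [h, add_zero]
      exact add_left_cancel h2
    exact one_ne_zero this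

/-- over the field with two elements a `2 × 2` matrix with `M * M = M + 1` is `s2` or `s2 + 1` -/
theorem eq_s2_of_sq [Fintype F] (hq : Fintype.card F = 2) (M : Matrix (Fin 2) (Fin 2) F) (hM : M * M = M + 1) :
    M = s2 ∨ M = s2 + 1 := by
  have h11 := two_eq_zero_of_card_two hq
  have hsq : ∀ x : F, x * x = x := by
    intro x
    rcases zero_or_one_of_card_two hq x with rfl | rfl <;> simp
  have e00 := congrFun (congrFun hM 0) 0
  have e01 := congrFun (congrFun hM 0) 1
  simp only [Matrix.mul_apply, Fin.sum_univ_two, Matrix.add_apply, Matrix.one_apply_eq] at e00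
  simp only [Matrix.mul_apply, Fin.sum_univ_two, Matrix.add_apply, Matrix.one_apply_ne (show (0 : Fin 2) ≠ 1 by decide),
    add_zero] at e01
  rw [hsq] at e00
  have hqr : M 0 1 * M 1 0 = 1 := by
    have := add_left_cancel e00
    exact this
  have hq1 : M 0 1 = 1 := by
    rcases zero_or_one_of_card_two hq (M 0 1) with h | h
    · rw [h, zero_mul] at hqr; exact absurd hqr zero_ne_one
    · exact h
  have hr1 : M 1 0 = 1 := by
    rcases zero_or_one_of_card_two hq (M 1 0) with h | h
    · rw [h, mul_zero] at hqr; exact absurd hqr zero_ne_one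
    · exact h
  rw [hq1, mul_one, one_mul] at e01
  -- `M 0 0 + M 1 1 = 1`
  rcases zero_or_one_of_card_two hq (M 0 0) with h0 | h0
  · left
    have hu : M 1 1 = 1 := by rw [h0, zero_add] at e01; exact e01
    unfold s2
    ext i j
    fin_cases i <;> fin_cases j <;> simp [h0, hq1, hr1, hu]
  · right
    have hu : M 1 1 = 0 := by
      rw [h0] at e01
      have : (1 : F) + M 1 1 = 1 + 0 := by rw [e01, add_zero]
      exact add_left_cancel this
    unfold s2
    ext i j
    fin_cases i <;> fin_cases j <;> simp [h0, hq1, hr1, hu, Matrix.one_apply, h11]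

variable [Fintype F]

/-- Q5.  `q = 2`, `GL_2(2) ⊗ GL_{n₂}(2)`: `K₀ = {0, 1, s, s²} ⊆ M_2(F)`, `s = !![0,1;1,1]`, is a field normalised by all of
`GL_2(2)`; `K := P (K₀ ⊗ 1) P⁻¹` (transported along `e`).  (`0 < n₂` is needed: for `n = 0` there is no `K`.) -/
theorem tensor_two (hq : Fintype.card F = 2) {n₂ : ℕ} (hn₂ : 0 < n₂) (e : Fin n ≃ Fin 2 × Fin n₂) (P : GL (Fin n) F) :
    ∃ K : Subalgebra F (Matrix (Fin n) (Fin n) F), IsFieldSubalgebra 2 K ∧
      tensorProductSubgroup 2 n₂ e P ≤ subalgebraNormalizer K := by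
  classical
  have h11 := two_eq_zero_of_card_two hq
  -- the generator
  set S : Matrix (Fin n) (Fin n) F := conjR e P ((s2 : Matrix (Fin 2) (Fin 2) F) ⊗ₖ (1 : Matrix (Fin n₂) (Fin n₂) F))
    with hSdef
  have hone : conjR e P ((1 : Matrix (Fin 2) (Fin 2) F) ⊗ₖ (1 : Matrix (Fin n₂) (Fin n₂) F)) = 1 := by
    rw [Matrix.one_kronecker_one, conjR_one]
  have hSS : S * S = S + 1 := by
    rw [hSdef, ← conjR_mul, ← Matrix.mul_kronecker_mul, s2_sq, Matrix.mul_one, Matrix.add_kronecker, conjR_add, hone]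
  -- `a + b S` as a conjugate
  have hform : ∀ a b : F, a • (1 : Matrix (Fin n) (Fin n) F) + b • S =
      conjR e P ((a • (1 : Matrix (Fin 2) (Fin 2) F) + b • s2) ⊗ₖ (1 : Matrix (Fin n₂) (Fin n₂) F)) := by
    intro a b
    rw [Matrix.add_kronecker, Matrix.smul_kronecker, Matrix.smul_kronecker, conjR_add, conjR_smul, conjR_smul, hone]
  have hzero : ∀ a b : F, a • (1 : Matrix (Fin n) (Fin n) F) + b • S = 0 → a = 0 ∧ b = 0 := by
    intro a b h
    rw [hform] at h
    have h0 : conjR e P (0 : Matrix (Fin 2 × Fin n₂) (Fin 2 × Fin n₂) F) = 0 := by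
      have := conjR_smul e P (0 : F) (0 : Matrix (Fin 2 × Fin n₂) (Fin 2 × Fin n₂) F)
      simpa using this
    rw [← h0] at h
    have h2 := conjR_injective e P h
    let j : Fin n₂ := ⟨0, hn₂⟩
    have ha := congrFun (congrFun h2 (0, j)) (0, j)
    have hb := congrFun (congrFun h2 (0, j)) (1, j)
    simp [Matrix.kroneckerMap_apply, s2] at ha hb
    exact ⟨ha, hb⟩
  refine ⟨quadAlg S hSS, ⟨?_, ?_, ?_⟩, ?_⟩
  · -- commutative
    rintro _ ⟨a, b, rfl⟩ _ ⟨a', b', rfl⟩
    simp only [add_mul, mul_add, Matrix.smul_mul, Matrix.mul_smul, Matrix.one_mul, Matrix.mul_one, smul_smul]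
    module
  · -- inverses
    rintro _ ⟨a, b, rfl⟩ hx
    rcases zero_or_one_of_card_two hq a with rfl | rfl
    · rcases zero_or_one_of_card_two hq b with rfl | rfl
      · exfalso; apply hx; simp
      · refine ⟨S + 1, ⟨1, 1, by simp [add_comm]⟩, ?_⟩
        rw [zero_smul, zero_add, one_smul, mul_add, hSS, Matrix.mul_one]
        have : S + 1 + S = ((1 : F) + 1) • S + 1 := by rw [add_smul, one_smul]; abel
        rw [this, h11, zero_smul, zero_add]
    · rcases zero_or_one_of_card_two hq b with rfl | rfl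
      · exact ⟨1, ⟨1, 0, by simp⟩, by simp⟩
      · refine ⟨S, ⟨0, 1, by simp⟩, ?_⟩
        rw [one_smul, one_smul, add_mul, Matrix.one_mul, hSS]
        have : S + (S + 1) = ((1 : F) + 1) • S + 1 := by rw [add_smul, one_smul]; abel
        rw [this, h11, zero_smul, zero_add]
  · -- dimension two
    have hli : LinearIndependent F ![(1 : Matrix (Fin n) (Fin n) F), S] := by
      rw [LinearIndependent.pair_iff]
      intro a b h
      exact hzero a b h
    have hspan : Subalgebra.toSubmodule (quadAlg S hSS) =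
        Submodule.span F (Set.range ![(1 : Matrix (Fin n) (Fin n) F), S]) := by
      ext x
      rw [Subalgebra.mem_toSubmodule, mem_quadAlg]
      have hr : Set.range ![(1 : Matrix (Fin n) (Fin n) F), S] = {1, S} := by
        ext y
        simp only [Set.mem_range, Set.mem_insert_iff, Set.mem_singleton_iff]
        constructor
        · rintro ⟨i, rfl⟩
          fin_cases i
          · left; rfl
          · right; rfl
        · rintro (rfl | rfl)
          · exact ⟨0, rfl⟩
          · exact ⟨1, rfl⟩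
      rw [hr, Submodule.mem_span_pair]
      constructor
      · rintro ⟨a, b, rfl⟩; exact ⟨a, b, rfl⟩
      · rintro ⟨a, b, rfl⟩; exact ⟨a, b, rfl⟩
    rw [← Subalgebra.finrank_toSubmodule, hspan, finrank_span_eq_card hli]
    simp
  · -- normalised by the tensor product subgroup
    have hinv : ∀ g ∈ tensorProductSubgroup 2 n₂ e P, ∀ k ∈ quadAlg S hSS,
        (g : Matrix (Fin n) (Fin n) F) * k * ((g⁻¹ : GL (Fin n) F) : Matrix (Fin n) (Fin n) F) ∈ quadAlg S hSS := by
      intro g hg k hk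
      rw [mem_tensorProductSubgroup_iff] at hg
      obtain ⟨α, β, hgm⟩ := hg
      have hginv : ((g⁻¹ : GL (Fin n) F) : Matrix (Fin n) (Fin n) F) =
          conjR e P (((α⁻¹ : GL (Fin 2) F) : Matrix (Fin 2) (Fin 2) F) ⊗ₖ
            ((β⁻¹ : GL (Fin n₂) F) : Matrix (Fin n₂) (Fin n₂) F)) := by
        apply Units.inv_eq_of_mul_eq_one_right
        rw [hgm, ← conjR_mul, ← Matrix.mul_kronecker_mul, ← Units.val_mul, ← Units.val_mul, mul_inv_cancel,
          mul_inv_cancel, Units.val_one, Units.val_one, hone]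
      obtain ⟨a, b, rfl⟩ := hk
      -- the conjugate of `s2`
      set M : Matrix (Fin 2) (Fin 2) F := (α : Matrix (Fin 2) (Fin 2) F) * s2 *
        ((α⁻¹ : GL (Fin 2) F) : Matrix (Fin 2) (Fin 2) F) with hMdef
      have hαα : ((α⁻¹ : GL (Fin 2) F) : Matrix (Fin 2) (Fin 2) F) * (α : Matrix (Fin 2) (Fin 2) F) = 1 := by
        rw [← Units.val_mul, inv_mul_cancel, Units.val_one]
      have hαα' : (α : Matrix (Fin 2) (Fin 2) F) * ((α⁻¹ : GL (Fin 2) F) : Matrix (Fin 2) (Fin 2) F) = 1 := by
        rw [← Units.val_mul, mul_inv_cancel, Units.val_one]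
      have hMM : M * M = M + 1 := by
        rw [hMdef]
        calc (α : Matrix (Fin 2) (Fin 2) F) * s2 * ((α⁻¹ : GL (Fin 2) F) : Matrix (Fin 2) (Fin 2) F) *
              ((α : Matrix (Fin 2) (Fin 2) F) * s2 * ((α⁻¹ : GL (Fin 2) F) : Matrix (Fin 2) (Fin 2) F))
            = (α : Matrix (Fin 2) (Fin 2) F) * s2 * (((α⁻¹ : GL (Fin 2) F) : Matrix (Fin 2) (Fin 2) F) *
                (α : Matrix (Fin 2) (Fin 2) F)) * s2 * ((α⁻¹ : GL (Fin 2) F) : Matrix (Fin 2) (Fin 2) F) := by
              simp only [mul_assoc]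
          _ = (α : Matrix (Fin 2) (Fin 2) F) * (s2 * s2) * ((α⁻¹ : GL (Fin 2) F) : Matrix (Fin 2) (Fin 2) F) := by
              rw [hαα, mul_one]; simp only [mul_assoc]
          _ = _ := by
              rw [s2_sq, mul_add, add_mul, mul_one, hαα']
      have hgSg : (g : Matrix (Fin n) (Fin n) F) * S * ((g⁻¹ : GL (Fin n) F) : Matrix (Fin n) (Fin n) F) =
          conjR e P (M ⊗ₖ (1 : Matrix (Fin n₂) (Fin n₂) F)) := by
        rw [hgm, hginv, hSdef, ← conjR_mul, ← conjR_mul, ← Matrix.mul_kronecker_mul, ← Matrix.mul_kronecker_mul,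
          Matrix.mul_one, ← Units.val_mul, mul_inv_cancel, Units.val_one]
      have hggi : (g : Matrix (Fin n) (Fin n) F) * ((g⁻¹ : GL (Fin n) F) : Matrix (Fin n) (Fin n) F) = 1 := by
        rw [← Units.val_mul, mul_inv_cancel, Units.val_one]
      have hexp : (g : Matrix (Fin n) (Fin n) F) * (a • (1 : Matrix (Fin n) (Fin n) F) + b • S) *
          ((g⁻¹ : GL (Fin n) F) : Matrix (Fin n) (Fin n) F) =
          a • (1 : Matrix (Fin n) (Fin n) F) + b • ((g : Matrix (Fin n) (Fin n) F) * S *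
            ((g⁻¹ : GL (Fin n) F) : Matrix (Fin n) (Fin n) F)) := by
        rw [mul_add, add_mul, Matrix.mul_smul, Matrix.smul_mul, Matrix.mul_one, hggi, Matrix.mul_smul,
          Matrix.smul_mul]
      rw [hexp, hgSg]
      rcases eq_s2_of_sq hq M hMM with h | h
      · rw [h]
        exact ⟨a, b, rfl⟩
      · rw [h, Matrix.add_kronecker, conjR_add, hone]
        refine ⟨a + b, b, ?_⟩
        module
    intro g hg k
    constructor
    · exact hinv g hg k
    · intro hk
      have h2 := hinv g⁻¹ ((tensorProductSubgroup 2 n₂ e P).inv_mem hg) _ hk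
      have h3 : ((g⁻¹ : GL (Fin n) F) : Matrix (Fin n) (Fin n) F) * ((g : Matrix (Fin n) (Fin n) F) * k *
          ((g⁻¹ : GL (Fin n) F) : Matrix (Fin n) (Fin n) F)) *
          (((g⁻¹)⁻¹ : GL (Fin n) F) : Matrix (Fin n) (Fin n) F) = k := by
        rw [inv_inv]
        have hgig : ((g⁻¹ : GL (Fin n) F) : Matrix (Fin n) (Fin n) F) * (g : Matrix (Fin n) (Fin n) F) = 1 := by
          rw [← Units.val_mul, inv_mul_cancel, Units.val_one]
        calc ((g⁻¹ : GL (Fin n) F) : Matrix (Fin n) (Fin n) F) * ((g : Matrix (Fin n) (Fin n) F) * k *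
              ((g⁻¹ : GL (Fin n) F) : Matrix (Fin n) (Fin n) F)) * (g : Matrix (Fin n) (Fin n) F)
            = (((g⁻¹ : GL (Fin n) F) : Matrix (Fin n) (Fin n) F) * (g : Matrix (Fin n) (Fin n) F)) * k *
                (((g⁻¹ : GL (Fin n) F) : Matrix (Fin n) (Fin n) F) * (g : Matrix (Fin n) (Fin n) F)) := by
              simp only [mul_assoc]
          _ = k := by rw [hgig, one_mul, mul_one]
      rwa [h3] at h2

end Cfsg.Agent.Lib.Helper14.SLMLeaf
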