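import Mathlib
import Cfsg.Agent.Lib.Helper14.SLPsi
import Cfsg.Agent.Lib.Helper28.SLBNX

/-!
# S4538 leaf (helper14): the linear character `ψ` of `unitri n F`, in the final model

`ψ` is nontrivial on every fundamental root subgroup `Xsl n F i` of helper28's split record of
`slBN`; this is the pair `(ψ, hψ)` consumed by helper27's `SLAsm.s4538_of_split`.
-/

set_option autoImplicit false

namespace Cfsg.Agent.Lib.Helper14.SLPsiX

open Matrix Cfsg.Agent.Lib.Helper18.PSLnAut Cfsg.Agent.Lib.Helper28.SLBN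

variable (n : ℕ) (F : Type*) [Field F] [Fintype F]

/-- helper28's root element `xSL p q _ t` is Mathlib's `SpecialLinearGroup.transvection` -/
theorem xSL_eq_transvection {p q : Fin n} (hpq : p ≠ q) (t : F) :
    xSL p q hpq t = Matrix.SpecialLinearGroup.transvection hpq t := by
  apply Subtype.ext
  rw [coe_xSL, Matrix.SpecialLinearGroup.transvection_coe]
  rfl

/-- **(ψ, hψ) for the split record of `slBN`**: a linear character of `unitri n F` which is
nontrivial on each fundamental root subgroup `Xsl n F i` -/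
theorem exists_psi_Xsl :
    ∃ ψ : unitri n F →* ℂˣ, ∀ i : Fin (n - 1), ∃ x : unitri n F,
      (x : Matrix.SpecialLinearGroup (Fin n) F) ∈ Xsl n F i ∧ ψ x ≠ 1 := by
  obtain ⟨ψ, hψ⟩ := Cfsg.Agent.Lib.Helper14.SLPsi.exists_psi n F
  refine ⟨ψ, fun i => ?_⟩
  refine ⟨⟨Matrix.SpecialLinearGroup.transvection (ne_of_lt (lo_lt_hi i)) 1,
    transvection_mem_unitri (lo_lt_hi i) 1⟩, ?_, ?_⟩
  · exact ⟨1, (xSL_eq_transvection n F (lo_ne_hi i) 1).symm⟩
  · exact hψ (lo i) (hi i) (hi_val i) (lo_lt_hi i)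

end Cfsg.Agent.Lib.Helper14.SLPsiX
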