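/-
helper14: S4004 leaf `A4_abs` (planner helper18, `notes/S4004_leaves.lean`).
A Frobenius-type group `⟨y⟩ : ⟨σ⟩` acting on a commutative group `A` with `y` fixed-point-free and
`∏_{j<r} φ (σ^j) a = 1` for all `a` forces `a ^ r' = 1`.
-/
import Mathlib

set_option autoImplicit false

namespace Cfsg.Agent.Lib.Helper14.SOT4

open Finset

/-- a nontrivial element of a cyclic group of prime order generates it -/
theorem mem_zpowers_of_prime {H : Type*} [Group H] {r' : ℕ} (hr' : r'.Prime) {y d : H}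
    (hy : orderOf y = r') (hd : d ∈ Subgroup.zpowers y) (hd1 : d ≠ 1) : y ∈ Subgroup.zpowers d := by
  have hod : orderOf d = r' := by
    have h1 : orderOf d ∣ r' := by
      rw [← hy]; exact orderOf_dvd_of_mem_zpowers hd
    rcases (Nat.dvd_prime hr').1 h1 with h | h
    · exact absurd (orderOf_eq_one_iff.1 h) hd1
    · exact h
  have hle : Subgroup.zpowers d ≤ Subgroup.zpowers y := by
    rw [Subgroup.zpowers_le]; exact hd
  have hfin : Finite (Subgroup.zpowers y) := by
    apply Nat.finite_of_card_ne_zero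
    rw [Nat.card_zpowers, hy]; exact hr'.ne_zero
  have heq : Subgroup.zpowers d = Subgroup.zpowers y := by
    apply Subgroup.eq_of_le_of_card_ge hle
    rw [Nat.card_zpowers, Nat.card_zpowers, hy, hod]
  rw [heq]; exact Subgroup.mem_zpowers y

theorem A4_abs {H A : Type*} [Group H] [Finite H] [CommGroup A] (φ : H →* MulAut A) (r r' : ℕ) (hr : r.Prime) (hr' : r'.Prime)
    (y σ : H) (hy : orderOf y = r') (hσ : orderOf σ = r)
    (hnorm : σ * y * σ⁻¹ ∈ Subgroup.zpowers y) (hnc : ¬ Commute σ y)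
    (hfy : ∀ a : A, φ y a = a → a = 1)
    (hN : ∀ a : A, ∏ j ∈ Finset.range r, φ (σ ^ j) a = 1) : ∀ a : A, a ^ r' = 1 := by
  classical
  intro a
  haveI : Fintype H := Fintype.ofFinite H
  haveI : Fintype (Subgroup.zpowers y) := Fintype.ofFinite _
  have hcard : Fintype.card (Subgroup.zpowers y) = r' := by
    rw [← Nat.card_eq_fintype_card, Nat.card_zpowers, hy]
  -- σ normalizes C
  have hn1 : ∀ x ∈ Subgroup.zpowers y, σ * x * σ⁻¹ ∈ Subgroup.zpowers y := by
    intro x hx
    obtain ⟨k, rfl⟩ := Subgroup.mem_zpowers_iff.mp hx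
    rw [← conj_zpow]
    exact Subgroup.zpow_mem _ hnorm k
  have hnj : ∀ j : ℕ, ∀ x ∈ Subgroup.zpowers y, σ ^ j * x * (σ ^ j)⁻¹ ∈ Subgroup.zpowers y := by
    intro j
    induction j with
    | zero => intro x hx; simpa using hx
    | succ j ih =>
      intro x hx
      have h2 := hn1 _ (ih x hx)
      have e : σ ^ (j + 1) * x * (σ ^ (j + 1))⁻¹ = σ * (σ ^ j * x * (σ ^ j)⁻¹) * σ⁻¹ := by
        rw [pow_succ']; group
      rw [e]; exact h2
  -- the averaging product over C is fixed by y, hence trivial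
  have hP : ∀ b : A, ∏ x : Subgroup.zpowers y, φ (x : H) b = 1 := by
    intro b
    apply hfy
    rw [map_prod]
    have h3 : ∀ x : Subgroup.zpowers y, φ y (φ (x : H) b) =
        φ (((⟨y, Subgroup.mem_zpowers y⟩ : Subgroup.zpowers y) * x : Subgroup.zpowers y) : H) b := by
      intro x
      rw [Subgroup.coe_mul, map_mul]; rfl
    simp_rw [h3]
    exact Equiv.prod_comp (Equiv.mulLeft (⟨y, Subgroup.mem_zpowers y⟩ : Subgroup.zpowers y))
      (fun x => φ (x : H) b)
  -- the double product is trivial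
  have hT : ∏ x : Subgroup.zpowers y, ∏ j ∈ Finset.range r, φ ((x : H) * σ ^ j * (x : H)⁻¹) a = 1 := by
    apply Finset.prod_eq_one
    intro x _
    have h4 : ∀ j, φ ((x : H) * σ ^ j * (x : H)⁻¹) a = φ (x : H) (φ (σ ^ j) (φ ((x : H)⁻¹) a)) := by
      intro j
      rw [map_mul, map_mul]; rfl
    simp_rw [h4]
    rw [← map_prod, hN, map_one]
  rw [Finset.prod_comm] at hT
  obtain ⟨k, rfl⟩ : ∃ k, r = k + 1 := ⟨r - 1, (Nat.sub_add_cancel hr.one_lt.le).symm⟩
  rw [Finset.prod_range_succ'] at hT
  have h0 : ∏ x : Subgroup.zpowers y, φ ((x : H) * σ ^ 0 * (x : H)⁻¹) a = a ^ r' := by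
    have : ∀ x : Subgroup.zpowers y, φ ((x : H) * σ ^ 0 * (x : H)⁻¹) a = a := by
      intro x; simp
    simp_rw [this]
    rw [Finset.prod_const, Finset.card_univ, hcard]
  have hj : ∀ j ∈ Finset.range k,
      ∏ x : Subgroup.zpowers y, φ ((x : H) * σ ^ (j + 1) * (x : H)⁻¹) a = 1 := by
    intro j hjk
    have hjk' : j + 1 < k + 1 := by have := Finset.mem_range.1 hjk; omega
    set s : H := σ ^ (j + 1) with hs
    have hs1 : s ≠ 1 := by
      intro h
      have : orderOf σ ∣ j + 1 := orderOf_dvd_of_pow_eq_one h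
      rw [hσ] at this
      exact absurd (Nat.le_of_dvd (Nat.succ_pos j) this) (by omega)
    have hsσ : σ ∈ Subgroup.zpowers s :=
      mem_zpowers_of_prime hr hσ (Subgroup.pow_mem _ (Subgroup.mem_zpowers σ) _) hs1
    -- the map c
    have hcmem : ∀ x : Subgroup.zpowers y, (x : H) * (s * (x : H)⁻¹ * s⁻¹) ∈ Subgroup.zpowers y := by
      intro x
      exact Subgroup.mul_mem _ x.2 (hnj (j + 1) _ (Subgroup.inv_mem _ x.2))
    let c : Subgroup.zpowers y → Subgroup.zpowers y := fun x => ⟨(x : H) * (s * (x : H)⁻¹ * s⁻¹), hcmem x⟩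
    have hcinj : Function.Injective c := by
      intro x x' hxx
      have h5 : (x : H) * (s * (x : H)⁻¹ * s⁻¹) = (x' : H) * (s * (x' : H)⁻¹ * s⁻¹) :=
        congrArg Subtype.val hxx
      by_contra hne
      set d : H := (x' : H)⁻¹ * (x : H) with hd
      have hdmem : d ∈ Subgroup.zpowers y := Subgroup.mul_mem _ (Subgroup.inv_mem _ x'.2) x.2
      have hd1 : d ≠ 1 := by
        intro h
        apply hne
        apply Subtype.ext
        have : (x : H) = (x' : H) := by
          have := congrArg (fun t => (x' : H) * t) h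
          simpa [hd, mul_assoc] using this
        exact this
      have hcomm : Commute d s := by
        have h6 : (x : H) * s * (x : H)⁻¹ = (x' : H) * s * (x' : H)⁻¹ := by
          have := congrArg (fun t => t * s) h5
          simpa [mul_assoc] using this
        show d * s = s * d
        rw [hd]
        have h7 : s * (x : H)⁻¹ = (x : H)⁻¹ * ((x' : H) * s * (x' : H)⁻¹) * 1 := by
          rw [← h6]; group
        calc (x' : H)⁻¹ * (x : H) * s = (x' : H)⁻¹ * ((x : H) * s * (x : H)⁻¹) * (x : H) := by group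
          _ = (x' : H)⁻¹ * ((x' : H) * s * (x' : H)⁻¹) * (x : H) := by rw [h6]
          _ = s * ((x' : H)⁻¹ * (x : H)) := by group
      obtain ⟨m, hm⟩ := Subgroup.mem_zpowers_iff.mp (mem_zpowers_of_prime hr' hy hdmem hd1)
      obtain ⟨m', hm'⟩ := Subgroup.mem_zpowers_iff.mp hsσ
      have : Commute y σ := by
        rw [← hm, ← hm']
        exact (hcomm.zpow_left m).zpow_right m'
      exact hnc this.symm
    have hcbij : Function.Bijective c := Finite.injective_iff_bijective.1 hcinj
    have h8 : ∀ x : Subgroup.zpowers y,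
        φ ((x : H) * s * (x : H)⁻¹) a = φ ((c x : Subgroup.zpowers y) : H) (φ s a) := by
      intro x
      have : (x : H) * s * (x : H)⁻¹ = ((c x : Subgroup.zpowers y) : H) * s := by
        show (x : H) * s * (x : H)⁻¹ = (x : H) * (s * (x : H)⁻¹ * s⁻¹) * s
        group
      rw [this, map_mul]; rfl
    simp_rw [h8]
    rw [hcbij.prod_comp (fun x' : Subgroup.zpowers y => φ (x' : H) (φ s a))]
    exact hP _
  rw [Finset.prod_eq_one hj, one_mul, h0] at hT
  exact hT

end Cfsg.Agent.Lib.Helper14.SOT4
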