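import Mathlib
import Cfsg.Agent.Lib.Helper2.SOTDefs
import Cfsg.Agent.Lib.Helper2.SOTBEx
import Cfsg.Agent.Lib.Helper15.QuadClass

/-!
SpLow / S5666 Part II for `b ≥ 5` (helper14): the two existence lemmas of the new Stage I
(`notes/SpLow_plan.md` §T): orthogonal geometry of `B` with only TWO vectors to avoid.
-/

set_option autoImplicit false
set_option linter.unusedSectionVars false
set_option linter.unusedVariables false

namespace Cfsg.Agent.Lib.Helper14.SOTBLow
open Matrix Module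
open Cfsg.Agent.Lib.Helper2.SOT Cfsg.Agent.Lib.Helper2.SOTBLeaf

variable {F : Type*} [Field F] {b : ℕ} {G : Matrix (Fin b) (Fin b) F}

/-- the common perpendicular space of two vectors -/
noncomputable def perp2 (G : Matrix (Fin b) (Fin b) F) (w₀ w₁ : Fin b → F) :
    Submodule F (Fin b → F) :=
  (⊤ ⊓ LinearMap.ker (BfB G w₀)) ⊓ LinearMap.ker (BfB G w₁)

lemma mem_perp2 (hG : Gᵀ = G) (w₀ w₁ v : Fin b → F) :
    v ∈ perp2 G w₀ w₁ ↔ fB G v w₀ = 0 ∧ fB G v w₁ = 0 := by
  unfold perp2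
  simp only [Submodule.mem_inf, Submodule.mem_top, true_and, LinearMap.mem_ker, BfB_apply]
  rw [fB_comm G hG w₀ v, fB_comm G hG w₁ v]

lemma finrank_perp2_ge (G : Matrix (Fin b) (Fin b) F) (w₀ w₁ : Fin b → F) :
    b ≤ finrank F ↥(perp2 G w₀ w₁) + 2 := by
  unfold perp2
  have h0 := finrank_inf_ker_ge G w₀ (⊤ : Submodule F (Fin b → F))
  have h1 := finrank_inf_ker_ge G w₁ (⊤ ⊓ LinearMap.ker (BfB G w₀))
  have ht : finrank F ↥(⊤ : Submodule F (Fin b → F)) = b := by
    rw [finrank_top, Module.finrank_fintype_fun_eq_card, Fintype.card_fin]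
  omega

/-- (E1') the common perpendicular space of two vectors is not totally singular (`b ≥ 5`) -/
theorem exists_nonsing_perp2 (hG : Gᵀ = G) (hdet : G.det ≠ 0) (two : (2 : F) ≠ 0) (hb : 5 ≤ b)
    (w₀ w₁ : Fin b → F) :
    ∃ v : Fin b → F, fB G v v ≠ 0 ∧ fB G v w₀ = 0 ∧ fB G v w₁ = 0 := by
  by_contra hcon
  push Not at hcon
  have hs : ∀ u ∈ perp2 G w₀ w₁, fB G u u = 0 := by
    intro u hu
    by_contra hne
    obtain ⟨h0, h1⟩ := (mem_perp2 hG w₀ w₁ u).1 hu
    exact hcon u hne h0 h1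
  have h1 := two_mul_finrank_le_of_isotropic hdet _ (fB_eq_zero_of_all_sing hG two _ hs)
  have h2 := finrank_perp2_ge G w₀ w₁
  omega

/-- (E') `b ≥ 5`: there are a non-zero singular `z` and a nonsingular `v ⊥ z`, both orthogonal to
`w₀, w₁`. -/
theorem exists_sing_nonsing2 [Fintype F] (hG : Gᵀ = G) (hdet : G.det ≠ 0) (two : (2 : F) ≠ 0)
    (hb : 5 ≤ b) (w₀ w₁ : Fin b → F) :
    ∃ z v : Fin b → F, z ≠ 0 ∧ fB G z z = 0 ∧ fB G z v = 0 ∧ fB G v v ≠ 0 ∧
      fB G z w₀ = 0 ∧ fB G z w₁ = 0 ∧ fB G v w₀ = 0 ∧ fB G v w₁ = 0 := by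
  classical
  set U : Submodule F (Fin b → F) := perp2 G w₀ w₁ with hU
  have hUdim : b ≤ finrank F U + 2 := finrank_perp2_ge G w₀ w₁
  have hmem : ∀ v, v ∈ U ↔ fB G v w₀ = 0 ∧ fB G v w₁ = 0 := fun v => mem_perp2 hG w₀ w₁ v
  -- a nonsingular vector of `U`
  obtain ⟨v₀, hv₀U, hv₀⟩ : ∃ v₀ ∈ U, fB G v₀ v₀ ≠ 0 := by
    by_contra hcon
    push Not at hcon
    have := two_mul_finrank_le_of_isotropic hdet U (fB_eq_zero_of_all_sing hG two U hcon)
    omega
  by_cases hrad : ∃ z ∈ U, z ≠ 0 ∧ ∀ u ∈ U, fB G z u = 0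
  · -- the radical of `U` is not zero
    obtain ⟨z, hzU, hz0, hzr⟩ := hrad
    exact ⟨z, v₀, hz0, hzr z hzU, hzr v₀ hv₀U, hv₀, ((hmem z).1 hzU).1, ((hmem z).1 hzU).2,
      ((hmem v₀).1 hv₀U).1, ((hmem v₀).1 hv₀U).2⟩
  · -- `U` is nondegenerate
    push Not at hrad
    have hUdim3 : 3 ≤ finrank F U := by omega
    let Q : QuadraticForm F U := ((BfB G).toQuadraticMap).comp U.subtype
    obtain ⟨w, hw0, hQw⟩ := Cfsg.Agent.Lib.Helper15.exists_singular_of_three_le Q hUdim3
    obtain ⟨z, hzdef⟩ : ∃ z : Fin b → F, z = (w : Fin b → F) := ⟨_, rfl⟩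
    have hzU : z ∈ U := by rw [hzdef]; exact w.2
    have hz0 : z ≠ 0 := by
      rw [hzdef]
      intro h0
      exact hw0 (Subtype.ext h0)
    have hzz : fB G z z = 0 := by
      have : Q w = BfB G (w : Fin b → F) (w : Fin b → F) := by
        simp [Q]
      rw [hzdef, ← BfB_apply, ← this]
      exact hQw
    set T : Submodule F (Fin b → F) := U ⊓ LinearMap.ker (BfB G z) with hT
    have hTdim : 2 ≤ finrank F T := by
      have := finrank_inf_ker_ge G z U
      rw [← hT] at this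
      omega
    have hTmem : ∀ t, t ∈ T ↔ t ∈ U ∧ fB G z t = 0 := by
      intro t
      rw [hT, Submodule.mem_inf, LinearMap.mem_ker, BfB_apply]
    by_cases hTs : ∃ v ∈ T, fB G v v ≠ 0
    · obtain ⟨v, hvT, hv⟩ := hTs
      obtain ⟨hvU, hzv⟩ := (hTmem v).1 hvT
      exact ⟨z, v, hz0, hzz, hzv, hv, ((hmem z).1 hzU).1, ((hmem z).1 hzU).2,
        ((hmem v).1 hvU).1, ((hmem v).1 hvU).2⟩
    · exfalso
      push Not at hTs
      have hTi := fB_eq_zero_of_all_sing hG two T hTs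
      have hzT : z ∈ T := (hTmem z).2 ⟨hzU, hzz⟩
      -- `y ∈ U` with `f(z,y) ≠ 0`
      obtain ⟨y, hyU, hzy⟩ := hrad z hzU hz0
      -- `t ∈ T` outside `F z`
      obtain ⟨t, htT, htz⟩ : ∃ t ∈ T, t ∉ Submodule.span F {z} := by
        by_contra hcon
        push Not at hcon
        have hle : T ≤ Submodule.span F {z} := fun t ht => hcon t ht
        have h1 := Submodule.finrank_mono hle
        have h2 := finrank_span_singleton (K := F) hz0
        omega
      obtain ⟨c, hc⟩ : ∃ c : F, c = fB G t y / fB G z y := ⟨_, rfl⟩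
      obtain ⟨t', ht'def⟩ : ∃ t' : Fin b → F, t' = t - c • z := ⟨_, rfl⟩
      have ht'T : t' ∈ T := by
        rw [ht'def]
        exact T.sub_mem htT (T.smul_mem c hzT)
      have ht'0 : t' ≠ 0 := by
        intro h0
        apply htz
        rw [ht'def, sub_eq_zero] at h0
        rw [h0]
        exact Submodule.smul_mem _ c (Submodule.mem_span_singleton_self z)
      have ht'y : fB G t' y = 0 := by
        rw [ht'def, sub_eq_add_neg, fB_add_left, ← neg_smul, fB_smul_left, hc]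
        field_simp
        ring
      have ht'U : t' ∈ U := ((hTmem t').1 ht'T).1
      obtain ⟨u, huU, hu⟩ := hrad t' ht'U ht'0
      apply hu
      obtain ⟨d, hd⟩ : ∃ d : F, d = fB G z u / fB G z y := ⟨_, rfl⟩
      have huT : u - d • y ∈ T := by
        rw [hTmem]
        refine ⟨U.sub_mem huU (U.smul_mem d hyU), ?_⟩
        rw [sub_eq_add_neg, fB_add_right, ← neg_smul, fB_smul_right, hd]
        field_simp
        ring
      have h1 : fB G t' (u - d • y) = 0 := hTi t' ht'T _ huT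
      have h2 : u = (u - d • y) + d • y := by abel
      rw [h2, fB_add_right, h1, fB_smul_right, ht'y]
      ring

end Cfsg.Agent.Lib.Helper14.SOTBLow
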