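import Mathlib
import Cfsg.Agent.Lib.Helper2.SOTDefs
import Cfsg.Agent.Lib.Helper28.SOTBDefs
import Cfsg.Agent.Lib.Helper14.SOTBLowE

/-!
SpLow / S5666 Part II for `b ≥ 5` (helper14): the NEW Stage I (`notes/SpLow_plan.md` §T (b)).
`stageI_low` takes (B2) (`hstab`, only for `z = e_o`) and (B3) (`hfus`) as hypotheses and needs only `5 ≤ b`.
-/

set_option autoImplicit false
set_option linter.unusedSectionVars false
set_option linter.unusedVariables false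

namespace Cfsg.Agent.Lib.Helper14.SOTBLow
open Matrix
open Cfsg.Agent.Lib.Helper25.Tens Cfsg.Agent.Lib.Helper25.TensLeaves Cfsg.Agent.Lib.Helper25.SpT
open Cfsg.Agent.Lib.Helper19.OSub
open Cfsg.Agent.Lib.Helper2.SOT Cfsg.Agent.Lib.Helper28.SOTB
open scoped Kronecker

variable {F : Type*} [Field F] [Fintype F] {b : ℕ} {G : Matrix (Fin b) (Fin b) F}
  {M : Subgroup (GL (Idx 2 b) F)} {o o' : Fin b}

local notation "e₀" => (Pi.single (0 : Fin 2) (1 : F) : Fin 2 → F)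
local notation "e₁" => (Pi.single (1 : Fin 2) (1 : F) : Fin 2 → F)

lemma sf_e01 : sf e₀ e₁ = (1 : F) := by rw [sf_two]; simp
lemma sf_e10 : sf e₁ e₀ = (-1 : F) := by rw [sf_two]; simp
lemma sf_e00 : sf e₀ e₀ = (0 : F) := sf_self _
lemma sf_e11 : sf e₁ e₁ = (0 : F) := sf_self _

/-- the form on `e₀ ⊗ y₀ + e₁ ⊗ y₁` -/
lemma fV_two (G : Matrix (Fin b) (Fin b) F) (y₀ y₁ y₀' y₁' : Fin b → F) :
    fV G (pt e₀ y₀ + pt e₁ y₁) (pt e₀ y₀' + pt e₁ y₁') = fB G y₀ y₁' - fB G y₁ y₀' := by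
  rw [fV_add_left, fV_add_right, fV_add_right, fV_pt, fV_pt, fV_pt, fV_pt, sf_e00, sf_e01, sf_e10,
    sf_e11]
  ring

/-- an isometry fixing `u₀ = e₀ ⊗ z` (`z` singular): the components of `w' = m (e₁ ⊗ z)` -/
lemma comp_of_fix (hG : Gᵀ = G) {z : Fin b → F} (hzz : fB G z z = 0) {m : GL (Idx 2 b) F}
    (hm : m ∈ SpV G) (hm0 : mv m (pt e₀ z) = pt e₀ z) :
    fB G z (fun k => mv m (pt e₁ z) (1, k)) = 0 ∧
      fV G (pt e₁ z) (mv m (pt e₁ z)) = - fB G z (fun k => mv m (pt e₁ z) (0, k)) := by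
  obtain ⟨w', hw'⟩ : ∃ w', w' = mv m (pt e₁ z) := ⟨_, rfl⟩
  rw [← hw']
  have h1 : fV G (pt e₀ z) w' = 0 := by
    have := (mem_SpV.1 hm) (pt e₀ z) (pt e₁ z)
    rw [hm0, ← hw', fV_pt, hzz, mul_zero] at this
    exact this
  constructor
  · have h2 : fV G (pt e₀ z + pt e₁ 0) w' = fB G z (fun k => w' (1, k)) - fB G 0 (fun k => w' (0, k)) := by
      conv_lhs => rw [eq_pt_two w']
      exact fV_two G z 0 _ _
    rw [pt_zero_right, add_zero, h1] at h2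
    have h3 : fB G (0 : Fin b → F) (fun k => w' (0, k)) = 0 := by
      unfold fB
      rw [zero_dotProduct]
    rw [h3, sub_zero] at h2
    exact h2.symm
  · have h2 : fV G (pt e₀ 0 + pt e₁ z) w' = fB G 0 (fun k => w' (1, k)) - fB G z (fun k => w' (0, k)) := by
      conv_lhs => rw [eq_pt_two w']
      exact fV_two G 0 z _ _
    rw [pt_zero_right, zero_add] at h2
    have h3 : fB G (0 : Fin b → F) (fun k => w' (1, k)) = 0 := by
      unfold fB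
      rw [zero_dotProduct]
    rw [h3, zero_sub] at h2
    exact h2

/-- NEW STAGE I (`b ≥ 5`) -/
theorem stageI_low (h : MCtx 2 b G M) (hb : 5 ≤ b) (hN : NormG G o o')
    (hstab : ∀ g ∈ M, StabZ (Pi.single o (1 : F)) g → g ∈ KG 2 b F)
    (hfus : ∀ {z v : Fin b → F}, z ≠ 0 → fB G z z = 0 → fB G z v = 0 → fB G v v ≠ 0 →
      ∀ m ∈ M, m⁻¹ * kE G z v * m ∈ KG 2 b F → m ∈ KG 2 b F) :
    M ≤ KG 2 b F := by
  classical
  have hG := h.symm
  have h2 := h.two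
  obtain ⟨z, hzdef⟩ : ∃ z : Fin b → F, z = Pi.single o 1 := ⟨_, rfl⟩
  have hz0 : z ≠ 0 := by
    rw [hzdef]
    intro hc
    have := congrFun hc o
    simp at this
  have hzz : fB G z z = 0 := by rw [hzdef]; exact hN.fB_oo hG
  rw [← hzdef] at hstab
  -- (*) an element of `M ∖ KG` fixing `u₀` moves `u₁` to a vector not orthogonal to `u₁`
  have star : ∀ m ∈ M, mv m (pt e₀ z) = pt e₀ z → fV G (pt e₁ z) (mv m (pt e₁ z)) = 0 →
      m ∈ KG 2 b F := by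
    intro m hmM hm0 hm1
    obtain ⟨hz1, hz0'⟩ := comp_of_fix hG hzz (h.le_sp hmM) hm0
    rw [hm1] at hz0'
    obtain ⟨w', hw'⟩ : ∃ w', w' = mv m (pt e₁ z) := ⟨_, rfl⟩
    rw [← hw'] at hz1 hz0'
    obtain ⟨w0, hw0⟩ : ∃ w0 : Fin b → F, w0 = fun k => w' (0, k) := ⟨_, rfl⟩
    obtain ⟨w1, hw1⟩ : ∃ w1 : Fin b → F, w1 = fun k => w' (1, k) := ⟨_, rfl⟩
    rw [← hw1] at hz1
    rw [← hw0] at hz0'
    have hzw0 : fB G z w0 = 0 := by
      have := hz0'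
      linear_combination this
    have hw'eq : w' = pt e₀ w0 + pt e₁ w1 := by rw [hw0, hw1]; exact eq_pt_two w'
    obtain ⟨v3, hv3, hv3z, hv3w1⟩ := exists_nonsing_perp2 hG h.nd h2 hb z w1
    have hzv3 : fB G z v3 = 0 := by rw [fB_comm G hG]; exact hv3z
    have hk3M : (kE G z v3 : GL (Idx 2 b) F) ∈ M := kE_mem h hzz hzv3
    have hk30 : mv (kE G z v3 : GL (Idx 2 b) F) (pt e₀ z) = pt e₀ z :=
      mv_kE_fix hG h2 hzz hzv3 _ hzz hzv3
    have hk3w : mv (kE G z v3 : GL (Idx 2 b) F) w' = w' - fB G w0 v3 • pt e₀ z := by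
      rw [hw'eq, mv_add, mv_kE_pt hG h2 hzz hzv3,
        mv_kE_fix hG h2 hzz hzv3 e₁ (by rw [fB_comm G hG]; exact hz1) (by rw [fB_comm G hG]; exact hv3w1)]
      have : fB G w0 z = 0 := by rw [fB_comm G hG]; exact hzw0
      rw [this, zero_smul, mul_zero, zero_smul, add_zero, sub_zero, sub_eq_add_neg, pt_add_right,
        ← neg_smul, pt_smul_right, neg_smul]
      abel
    -- `m' = m⁻¹ k₃ m` stabilises `A ⊗ z`
    have hm'M : m⁻¹ * kE G z v3 * m ∈ M := M.mul_mem (M.mul_mem (M.inv_mem hmM) hk3M) hmM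
    have hmi0 : mv m⁻¹ (pt e₀ z) = pt e₀ z := by
      conv_lhs => rw [← hm0]
      rw [mv_inv_mv]
    have hf0 : mv (m⁻¹ * kE G z v3 * m) (pt e₀ z) = pt e₀ z := by
      rw [mv_mul, mv_mul, hm0, hk30, hmi0]
    have hf1 : mv (m⁻¹ * kE G z v3 * m) (pt e₁ z) = pt e₁ z - fB G w0 v3 • pt e₀ z := by
      rw [mv_mul, mv_mul, ← hw', hk3w, mv_sub, mv_smul, hmi0, hw', mv_inv_mv]
    have hst : StabZ z (m⁻¹ * kE G z v3 * m) := by
      intro x
      refine ⟨![x 0 - fB G w0 v3 * x 1, x 1], ?_⟩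
      rw [pt_two x, mv_add, mv_smul, mv_smul, hf0, hf1, pt_two ![x 0 - fB G w0 v3 * x 1, x 1]]
      simp only [Matrix.cons_val_zero, Matrix.cons_val_one]
      rw [sub_smul, smul_sub, smul_smul, mul_comm (x 1)]
      abel
    exact hfus hz0 hzz hzv3 hv3 m hmM (hstab _ hm'M hst)
  intro g hg
  by_contra hgK
  -- Step 0
  obtain ⟨w, hw⟩ : ∃ w, w = mv g (pt e₀ z) := ⟨_, rfl⟩
  obtain ⟨z2, v2, hz2, hz2z2, hz2v2, hv2, a0, a1, b0, b1⟩ :=
    exists_sing_nonsing2 hG h.nd h2 hb (fun k => w (0, k)) (fun k => w (1, k))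
  have hk2 : (kE G z2 v2 : GL (Idx 2 b) F) ∈ M := kE_mem h hz2z2 hz2v2
  have hk2w : mv (kE G z2 v2 : GL (Idx 2 b) F) w = w :=
    mv_kE_fix_two hG h2 hz2z2 hz2v2 w (by rw [fB_comm G hG, a0]) (by rw [fB_comm G hG, b0])
      (by rw [fB_comm G hG, a1]) (by rw [fB_comm G hG, b1])
  obtain ⟨m, hmdef⟩ : ∃ m, m = g⁻¹ * kE G z2 v2 * g := ⟨_, rfl⟩
  have hmM : m ∈ M := by rw [hmdef]; exact M.mul_mem (M.mul_mem (M.inv_mem hg) hk2) hg
  have hm0 : mv m (pt e₀ z) = pt e₀ z := by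
    rw [hmdef, mv_mul, mv_mul, ← hw, hk2w, hw, mv_inv_mv]
  have hmK : m ∉ KG 2 b F := by
    intro hmK
    exact hgK (hfus hz2 hz2z2 hz2v2 hv2 g hg (by rw [← hmdef]; exact hmK))
  -- Step 1
  obtain ⟨hz1, hz0'⟩ := comp_of_fix hG hzz (h.le_sp hmM) hm0
  have hne : fV G (pt e₁ z) (mv m (pt e₁ z)) ≠ 0 := fun h0 => hmK (star m hmM hm0 h0)
  obtain ⟨w', hw'⟩ : ∃ w', w' = mv m (pt e₁ z) := ⟨_, rfl⟩
  rw [← hw'] at hz1 hz0' hne
  obtain ⟨w0, hw0⟩ : ∃ w0 : Fin b → F, w0 = fun k => w' (0, k) := ⟨_, rfl⟩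
  obtain ⟨w1, hw1⟩ : ∃ w1 : Fin b → F, w1 = fun k => w' (1, k) := ⟨_, rfl⟩
  rw [← hw1] at hz1
  rw [← hw0] at hz0'
  have hzw0 : fB G z w0 ≠ 0 := by
    intro h0
    apply hne
    rw [hz0', h0, neg_zero]
  have hw0z : fB G w0 z ≠ 0 := by rw [fB_comm G hG]; exact hzw0
  have hw1z : fB G w1 z = 0 := by rw [fB_comm G hG]; exact hz1
  have hw'eq : w' = pt e₀ w0 + pt e₁ w1 := by rw [hw0, hw1]; exact eq_pt_two w'
  obtain ⟨v, hv, hvz, hvw1⟩ := exists_nonsing_perp2 hG h.nd h2 hb z w1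
  have hzv : fB G z v = 0 := by rw [fB_comm G hG]; exact hvz
  have hw1v : fB G w1 v = 0 := by rw [fB_comm G hG]; exact hvw1
  have hkM : (kE G z v : GL (Idx 2 b) F) ∈ M := kE_mem h hzz hzv
  have hk0 : mv (kE G z v : GL (Idx 2 b) F) (pt e₀ z) = pt e₀ z :=
    mv_kE_fix hG h2 hzz hzv _ hzz hzv
  obtain ⟨y, hy⟩ : ∃ y : Fin b → F,
      y = w0 + fB G w0 z • v - fB G w0 v • z - (fB G v v / 2 * fB G w0 z) • z := ⟨_, rfl⟩
  have hkw : mv (kE G z v : GL (Idx 2 b) F) w' = pt e₀ y + pt e₁ w1 := by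
    rw [hw'eq, mv_add, mv_kE_pt hG h2 hzz hzv, mv_kE_fix hG h2 hzz hzv e₁ hw1z hw1v, ← hy]
  -- `m'' = m⁻¹ k m`
  obtain ⟨m'', hm''def⟩ : ∃ m'', m'' = m⁻¹ * kE G z v * m := ⟨_, rfl⟩
  have hm''M : m'' ∈ M := by
    rw [hm''def]; exact M.mul_mem (M.mul_mem (M.inv_mem hmM) hkM) hmM
  have hmi0 : mv m⁻¹ (pt e₀ z) = pt e₀ z := by
    conv_lhs => rw [← hm0]
    rw [mv_inv_mv]
  have hm''0 : mv m'' (pt e₀ z) = pt e₀ z := by
    rw [hm''def, mv_mul, mv_mul, hm0, hk0, hmi0]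
  have hmm'' : mv m (mv m'' (pt e₁ z)) = pt e₀ y + pt e₁ w1 := by
    rw [hm''def, mv_mul, mv_mul, mv_mv_inv, ← hw', hkw]
  have hm''1 : fV G (pt e₁ z) (mv m'' (pt e₁ z)) = 0 := by
    have h3 := (mem_SpV.1 (h.le_sp hmM)) (pt e₁ z) (mv m'' (pt e₁ z))
    rw [← h3, ← hw', hmm'', hw'eq, fV_two, hy]
    simp only [fB_add_right, fB_smul_right, sub_eq_add_neg, ← neg_smul, hw1v, hw1z]
    rw [fB_comm G hG w0 w1]
    ring
  have hm''K : m'' ∈ KG 2 b F := star m'' hm''M hm''0 hm''1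
  -- an element of `KG` fixing `e₀ ⊗ z` maps `e₁ ⊗ z` into `A ⊗ z`
  obtain ⟨α, β, hαβ⟩ := (mem_KG_iff _).1 hm''K
  have hm''kel : m'' = kel α β := Units.ext hαβ
  have hmv'' : ∀ x : Fin 2 → F, mv m'' (pt x z) = pt (α.1 *ᵥ x) (β.1 *ᵥ z) := by
    intro x
    rw [hm''kel]
    exact kel_mulVec_pt α β x z
  have h00 := hmv'' e₀
  rw [hm''0] at h00
  obtain ⟨c0, hc0⟩ : ∃ c0 : F, c0 = (α.1 *ᵥ e₀) 0 := ⟨_, rfl⟩
  have hβz : ∀ k, z k = c0 * (β.1 *ᵥ z) k := by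
    intro k
    have := congrFun h00 (0, k)
    simp only [pt] at this
    rw [Pi.single_eq_same, one_mul, ← hc0] at this
    exact this
  have hc0ne : c0 ≠ 0 := by
    intro h0
    apply hz0
    funext k
    rw [hβz k, h0, zero_mul]
    rfl
  have hβz' : β.1 *ᵥ z = c0⁻¹ • z := by
    funext k
    rw [Pi.smul_apply, smul_eq_mul, hβz k, ← mul_assoc, inv_mul_cancel₀ hc0ne, one_mul]
  obtain ⟨x'', hx''⟩ : ∃ x'' : Fin 2 → F, x'' = c0⁻¹ • (α.1 *ᵥ e₁) := ⟨_, rfl⟩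
  have hm''1' : mv m'' (pt e₁ z) = pt x'' z := by
    rw [hmv'' e₁, hβz', pt_smul_right, hx'', pt_smul_left]
  -- hence `k w' = s u₀ + t w'`
  have hkey : pt e₀ y + pt e₁ w1 = x'' 0 • pt e₀ z + x'' 1 • (pt e₀ w0 + pt e₁ w1) := by
    rw [← hmm'', hm''1', pt_two x'', mv_add, mv_smul, mv_smul, hm0, ← hw', hw'eq]
  have hy2 : ∀ k, y k = x'' 0 * z k + x'' 1 * w0 k := by
    intro k
    have := congrFun hkey (0, k)
    simp only [pt, Pi.add_apply, Pi.smul_apply, smul_eq_mul] at this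
    rw [Pi.single_eq_same, Pi.single_eq_of_ne (by decide : (0 : Fin 2) ≠ 1)] at this
    linear_combination this
  have hy3 : y = x'' 0 • z + x'' 1 • w0 := by
    funext k
    rw [hy2 k]
    rfl
  -- apply `f(·, z)`
  have hyz : fB G y z = fB G w0 z := by
    rw [hy]
    simp only [fB_add_left, fB_smul_left, sub_eq_add_neg, ← neg_smul, hzz]
    rw [fB_comm G hG v z, hzv]
    ring
  have ht : x'' 1 = 1 := by
    have h5 : fB G y z = x'' 1 * fB G w0 z := by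
      rw [hy3, fB_add_left, fB_smul_left, fB_smul_left, hzz]
      ring
    rw [hyz] at h5
    have h6 : (x'' 1 - 1) * fB G w0 z = 0 := by linear_combination -h5
    rcases mul_eq_zero.1 h6 with h7 | h7
    · linear_combination h7
    · exact absurd h7 hw0z
  -- so `v ∈ F z`
  have hvz' : fB G w0 z • v = (x'' 0 + fB G w0 v + fB G v v / 2 * fB G w0 z) • z := by
    have h8 := hy3
    rw [ht, one_smul, hy] at h8
    have h9 : fB G w0 z • v = x'' 0 • z + fB G w0 v • z + (fB G v v / 2 * fB G w0 z) • z := by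
      have : w0 + fB G w0 z • v - fB G w0 v • z - (fB G v v / 2 * fB G w0 z) • z - w0
          = x'' 0 • z + w0 - w0 := by rw [h8]
      have h10 : fB G w0 z • v - fB G w0 v • z - (fB G v v / 2 * fB G w0 z) • z = x'' 0 • z := by
        have e1 : w0 + fB G w0 z • v - fB G w0 v • z - (fB G v v / 2 * fB G w0 z) • z - w0 =
          fB G w0 z • v - fB G w0 v • z - (fB G v v / 2 * fB G w0 z) • z := by abel
        have e2 : x'' 0 • z + w0 - w0 = x'' 0 • z := by abel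
        rw [e1, e2] at this
        exact this
      rw [← h10]
      abel
    rw [h9, add_smul, add_smul]
  apply hv
  have hv' : v = ((fB G w0 z)⁻¹ * (x'' 0 + fB G w0 v + fB G v v / 2 * fB G w0 z)) • z := by
    rw [mul_smul, ← hvz', smul_smul, inv_mul_cancel₀ hw0z, one_smul]
  rw [hv', fB_smul_left, fB_smul_right, hzz, mul_zero, mul_zero]

end Cfsg.Agent.Lib.Helper14.SOTBLow
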