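import Mathlib

/-!
# No sharply 2-transitive subsets of `PΓL_n(q)`, `n ≥ 3`: auxiliary lemmas

* `pts W` : points of the projective space lying in the subspace `W`; `card_pts_modEq`: their
  number is `≡ 1 (mod q)` for `W ≠ ⊥`.
* `key` : abstract double count for the stabiliser part of a sharply 2-transitive set.
-/

set_option autoImplicit false

namespace Cfsg.Agent.Lib.Helper14.Sharp2T

open scoped LinearAlgebra.Projectivization

section geom

variable {F : Type*} [Field F] {V : Type*} [AddCommGroup V] [Module F V]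

theorem rep_mk_mem_iff (W : Submodule F V) (v : V) (hv : v ≠ 0) :
    (Projectivization.mk F v hv).rep ∈ W ↔ v ∈ W := by
  obtain ⟨a, ha⟩ := Projectivization.exists_smul_eq_mk_rep F v hv
  rw [← ha]
  constructor
  · intro h
    have h2 := W.smul_mem ((a⁻¹ : Fˣ) : F) h
    rwa [Units.smul_def, smul_smul, Units.inv_mul, one_smul] at h2
  · intro h
    rw [Units.smul_def]
    exact W.smul_mem _ h

/-- the points of `ℙ V` lying in `W` are the points of `ℙ W`. -/
noncomputable def ptsEquiv (W : Submodule F V) : ℙ F W ≃ {x : ℙ F V // x.rep ∈ W} :=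
  Equiv.ofBijective
    (fun y => ⟨Projectivization.map W.subtype W.subtype_injective y, by
      induction y using Projectivization.ind with
      | h w hw =>
        rw [Projectivization.map_mk, rep_mk_mem_iff]
        exact w.2⟩)
    ⟨by
      intro y z h
      have h2 : Projectivization.map W.subtype W.subtype_injective y
          = Projectivization.map W.subtype W.subtype_injective z := congrArg Subtype.val h
      exact Projectivization.map_injective W.subtype W.subtype_injective h2,
     by
      rintro ⟨x, hx⟩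
      have hne : (⟨x.rep, hx⟩ : W) ≠ 0 := by
        intro h
        exact x.rep_nonzero (congrArg Subtype.val h)
      refine ⟨Projectivization.mk F ⟨x.rep, hx⟩ hne, ?_⟩
      apply Subtype.ext
      show Projectivization.map W.subtype W.subtype_injective
        (Projectivization.mk F ⟨x.rep, hx⟩ hne) = x
      rw [Projectivization.map_mk]
      exact x.mk_rep⟩

variable [Finite F] [Finite V]

theorem card_pts (W : Submodule F V) :
    Nat.card {x : ℙ F V // x.rep ∈ W} * (Nat.card F - 1) + 1 = Nat.card W := by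
  rw [← Nat.card_congr (ptsEquiv W)]
  exact (Projectivization.card' F W).symm

theorem card_dvd (W : Submodule F V) (hW : W ≠ ⊥) : Nat.card F ∣ Nat.card W := by
  haveI : Module.Finite F W := Module.Finite.of_finite
  rw [Module.natCard_eq_pow_finrank (K := F) (V := W)]
  have h1 : 0 < Module.finrank F W := by
    rw [Module.finrank_pos_iff]
    exact (Submodule.nontrivial_iff_ne_bot).2 hW
  exact dvd_pow_self _ (by omega)

theorem card_pts_modEq (W : Submodule F V) (hW : W ≠ ⊥) :
    Nat.card {x : ℙ F V // x.rep ∈ W} ≡ 1 [MOD Nat.card F] := by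
  have h1 := card_pts W
  obtain ⟨m, hm⟩ := card_dvd W hW
  have hq : 1 < Nat.card F := Finite.one_lt_card
  rw [hm] at h1
  rw [Nat.modEq_iff_dvd]
  refine ⟨(m : ℤ) - (Nat.card {x : ℙ F V // x.rep ∈ W} : ℤ), ?_⟩
  have h2 : ((Nat.card {x : ℙ F V // x.rep ∈ W} * (Nat.card F - 1) + 1 : ℕ) : ℤ)
      = ((Nat.card F * m : ℕ) : ℤ) := by rw [h1]
  push_cast [Nat.cast_sub hq.le] at h2
  linear_combination h2

end geom

section comb

variable {P : Type*} [Fintype P] [DecidableEq P]

/-- the abstract double count -/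
theorem key (S : Finset (Equiv.Perm P)) (a b0 : P) (hab : b0 ≠ a) (H : Finset P) (haH : a ∉ H)
    (hsharp : ∀ b d, b ≠ a → d ≠ a → ∃! s, s ∈ S ∧ s a = a ∧ s b = d) (q : ℕ)
    (hg : ∀ s ∈ S, s a = a → (H.filter (fun b => s b ∈ H)).card ≡ 1 [MOD q]) :
    H.card * H.card ≡ Fintype.card P - 1 [MOD q] := by
  classical
  set Sa := S.filter (fun s => s a = a) with hSa
  -- |Sa| = |P| - 1
  have h1 : Sa.card = Fintype.card P - 1 := by
    have : Sa.card = (Finset.univ.erase a).card := by
      apply Finset.card_bij (fun s _ => s b0)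
      · intro s hs
        rw [hSa, Finset.mem_filter] at hs
        rw [Finset.mem_erase]
        refine ⟨?_, Finset.mem_univ _⟩
        intro h
        have : s b0 = s a := by rw [h, hs.2]
        exact hab (s.injective this)
      · intro s hs t ht hst
        rw [hSa, Finset.mem_filter] at hs ht
        have hne : s b0 ≠ a := by
          intro h
          have : s b0 = s a := by rw [h, hs.2]
          exact hab (s.injective this)
        obtain ⟨u, -, hu⟩ := hsharp b0 (s b0) hab hne
        rw [hu s ⟨hs.1, hs.2, rfl⟩, hu t ⟨ht.1, ht.2, hst.symm⟩]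
      · intro d hd
        rw [Finset.mem_erase] at hd
        obtain ⟨u, hu, -⟩ := hsharp b0 d hab hd.1
        refine ⟨u, ?_, hu.2.2⟩
        rw [hSa, Finset.mem_filter]
        exact ⟨hu.1, hu.2.1⟩
    rw [this, Finset.card_erase_of_mem (Finset.mem_univ a), Finset.card_univ]
  -- double count
  have h2 : ∑ s ∈ Sa, (H.filter (fun b => s b ∈ H)).card = (H ×ˢ H).card := by
    rw [← Finset.card_sigma]
    apply Finset.card_bij (fun (x : Σ _ : Equiv.Perm P, P) _ => (x.2, x.1 x.2))
    · rintro ⟨s, b⟩ hx
      simp only [Finset.mem_sigma, Finset.mem_filter, hSa] at hx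
      rw [Finset.mem_product]
      exact ⟨hx.2.1, hx.2.2⟩
    · rintro ⟨s, b⟩ hx ⟨t, c⟩ hy hxy
      simp only [Finset.mem_sigma, Finset.mem_filter, hSa] at hx hy
      simp only [Prod.mk.injEq] at hxy
      obtain ⟨rfl, h3⟩ := hxy
      have hb : b ≠ a := fun h => haH (h ▸ hx.2.1)
      have hd : s b ≠ a := fun h => haH (h ▸ hx.2.2)
      obtain ⟨u, -, hu⟩ := hsharp b (s b) hb hd
      have e1 := hu s ⟨hx.1.1, hx.1.2, rfl⟩
      have e2 := hu t ⟨hy.1.1, hy.1.2, h3.symm⟩
      rw [e1, e2]
    · rintro ⟨b, d⟩ hbd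
      rw [Finset.mem_product] at hbd
      have hb : b ≠ a := fun h => haH (h ▸ hbd.1)
      have hd : d ≠ a := fun h => haH (h ▸ hbd.2)
      obtain ⟨u, hu, -⟩ := hsharp b d hb hd
      refine ⟨⟨u, b⟩, ?_, ?_⟩
      · simp only [Finset.mem_sigma, Finset.mem_filter, hSa]
        refine ⟨⟨hu.1, hu.2.1⟩, hbd.1, ?_⟩
        rw [hu.2.2]; exact hbd.2
      · show (b, u b) = (b, d)
        rw [hu.2.2]
  rw [Finset.card_product] at h2
  rw [← h2, ← h1]
  have h3 : ∑ s ∈ Sa, (H.filter (fun b => s b ∈ H)).card ≡ ∑ _s ∈ Sa, 1 [MOD q] := by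
    unfold Nat.ModEq
    rw [Finset.sum_nat_mod, Finset.sum_nat_mod Sa q (fun _ => 1)]
    congr 1
    apply Finset.sum_congr rfl
    intro s hs
    rw [hSa, Finset.mem_filter] at hs
    exact hg s hs.1 hs.2
  rw [Finset.sum_const, smul_eq_mul, mul_one] at h3
  exact h3

end comb

end Cfsg.Agent.Lib.Helper14.Sharp2T
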