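import Mathlib

/-!
# S2142 leaf E3: number of zeros of the minus-type quadratic form over the two-element field
-/

namespace Cfsg.Agent.Lib.Helper14.Sp2Leaf

section
variable {F : Type*} [Field F] [Fintype F]

theorem f2_zero_or_one (hF : Fintype.card F = 2) (a : F) : a = 0 ∨ a = 1 := by
  classical
  by_contra h
  push Not at h
  have h3 : ({0, 1, a} : Finset F).card = 3 := by
    rw [Finset.card_insert_of_notMem, Finset.card_insert_of_notMem, Finset.card_singleton]
    · simp [Ne.symm h.2]
    · simp [Ne.symm h.1]
  have h2 := Finset.card_le_univ ({0, 1, a} : Finset F)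
  omega

theorem f2_one_add_one (hF : Fintype.card F = 2) : (1 : F) + 1 = 0 := by
  rcases f2_zero_or_one hF (1 + 1) with h | h
  · exact h
  · exfalso
    have : (1 : F) = 0 := by linear_combination h
    exact one_ne_zero this

theorem f2_add_self (hF : Fintype.card F = 2) (a : F) : a + a = 0 := by
  have := f2_one_add_one hF
  linear_combination a * this

end

theorem two_mul_card_of_swap {α : Type*} [Finite α] (σ : α → α) (hσ : ∀ a, σ (σ a) = a)
    (P : α → Prop) (hP : ∀ a, P (σ a) ↔ ¬ P a) : 2 * Nat.card {a // P a} = Nat.card α := by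
  classical
  have e : {a // P a} ≃ {a // ¬ P a} :=
    { toFun := fun a => ⟨σ a.1, (hP (σ a.1)).mp (by rw [hσ]; exact a.2)⟩
      invFun := fun a => ⟨σ a.1, (hP a.1).mpr a.2⟩
      left_inv := fun a => Subtype.ext (hσ _)
      right_inv := fun a => Subtype.ext (hσ _) }
  have h1 : Nat.card α = Nat.card {a // P a} + Nat.card {a // ¬ P a} := by
    rw [← Nat.card_sum]
    exact Nat.card_congr (Equiv.sumCompl P).symm
  rw [h1, ← Nat.card_congr e]
  ring

section
variable {F : Type*} [Field F] [Fintype F]

open Classical in
theorem card_fiber_minus (hF : Fintype.card F = 2) (m : ℕ) (hm : 1 ≤ m) (i0 : Fin m)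
    (x : Fin m → F) :
    Nat.card {y : Fin m → F // (∑ i, x i * y i) + x i0 + y i0 = 0} =
      if x = Pi.single i0 1 then 0 else 2 ^ (m - 1) := by
  split_ifs with hx
  · subst hx
    rw [Nat.card_eq_zero]
    left
    constructor
    rintro ⟨y, hy⟩
    have hs : (∑ i, (Pi.single i0 (1 : F) : Fin m → F) i * y i) = y i0 := by
      rw [Finset.sum_eq_single i0]
      · simp
      · intro b _ hb
        simp [Pi.single_apply, hb]
      · intro h; exact absurd (Finset.mem_univ _) h
    rw [hs] at hy
    simp only [Pi.single_eq_same] at hy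
    have h2 := f2_add_self hF (y i0)
    have : (1 : F) = 0 := by linear_combination hy - h2
    exact one_ne_zero this
  · obtain ⟨j, hj⟩ : ∃ j, x j ≠ (Pi.single i0 1 : Fin m → F) j := by
      by_contra h
      push Not at h
      exact hx (funext h)
    have hj1 : x j + (Pi.single i0 1 : Fin m → F) j = 1 := by
      rcases f2_zero_or_one hF (x j) with h0 | h0 <;>
        rcases f2_zero_or_one hF ((Pi.single i0 1 : Fin m → F) j) with h1 | h1
      · exact absurd (h0.trans h1.symm) hj
      · rw [h0, h1, zero_add]
      · rw [h0, h1, add_zero]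
      · exact absurd (h0.trans h1.symm) hj
    have key := two_mul_card_of_swap (fun y : Fin m → F => y + Pi.single j 1)
      (fun y => by
        funext i
        simp only [Pi.add_apply]
        have := f2_add_self hF ((Pi.single j 1 : Fin m → F) i)
        linear_combination this)
      (fun y => (∑ i, x i * y i) + x i0 + y i0 = 0)
      (fun y => by
        have hsum : (∑ i, x i * (y + (Pi.single j 1 : Fin m → F)) i) = (∑ i, x i * y i) + x j := by
          simp only [Pi.add_apply, mul_add, Finset.sum_add_distrib]
          congr 1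
          rw [Finset.sum_eq_single j]
          · simp
          · intro b _ hb
            simp [Pi.single_apply, hb]
          · intro h; exact absurd (Finset.mem_univ _) h
        have hsw : (Pi.single j (1 : F) : Fin m → F) i0 = (Pi.single i0 (1 : F) : Fin m → F) j := by
          simp only [Pi.single_apply]
          by_cases h : i0 = j
          · subst h; simp
          · rw [if_neg h, if_neg (Ne.symm h)]
        show (∑ i, x i * (y + (Pi.single j 1 : Fin m → F)) i) + x i0 +
          (y i0 + (Pi.single j (1 : F) : Fin m → F) i0) = 0 ↔ _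
        rw [hsum, hsw]
        have hval : (∑ i, x i * y i) + x j + x i0 + (y i0 + (Pi.single i0 (1 : F) : Fin m → F) j)
            = ((∑ i, x i * y i) + x i0 + y i0) + 1 := by
          linear_combination hj1
        rw [hval]
        rcases f2_zero_or_one hF ((∑ i, x i * y i) + x i0 + y i0) with h0 | h0
        · rw [h0]; simp
        · rw [h0]; simp [f2_one_add_one hF])
    have hc : Nat.card (Fin m → F) = 2 ^ m := by
      rw [Nat.card_eq_fintype_card, Fintype.card_fun, hF, Fintype.card_fin]
    rw [hc] at key
    obtain ⟨k, rfl⟩ : ∃ k, m = k + 1 := ⟨m - 1, by omega⟩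
    rw [pow_succ] at key
    simp only [Nat.add_sub_cancel]
    omega

open Classical in
theorem card_zeros_minus (hF : Fintype.card F = 2) (m : ℕ) (hm : 1 ≤ m) (i0 : Fin m) :
    Nat.card {v : Fin m ⊕ Fin m → F //
      (∑ i, v (Sum.inl i) * v (Sum.inr i)) + v (Sum.inl i0) + v (Sum.inr i0) = 0}
      = 2 ^ (m - 1) * (2 ^ m - 1) := by
  have e : {v : Fin m ⊕ Fin m → F //
      (∑ i, v (Sum.inl i) * v (Sum.inr i)) + v (Sum.inl i0) + v (Sum.inr i0) = 0} ≃
      Σ x : Fin m → F, {y : Fin m → F // (∑ i, x i * y i) + x i0 + y i0 = 0} :=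
    { toFun := fun v => ⟨fun i => v.1 (Sum.inl i), ⟨fun i => v.1 (Sum.inr i), v.2⟩⟩
      invFun := fun p => ⟨Sum.elim p.1 p.2.1, by simpa using p.2.2⟩
      left_inv := fun v => by
        apply Subtype.ext
        funext s
        cases s <;> rfl
      right_inv := fun p => by
        rcases p with ⟨x, y, hy⟩
        rfl }
  rw [Nat.card_congr e, Nat.card_sigma]
  simp_rw [card_fiber_minus hF m hm i0]
  rw [Finset.sum_ite, Finset.sum_const_zero, zero_add, Finset.sum_const, smul_eq_mul,
    Finset.filter_not, Finset.card_sdiff_of_subset (Finset.subset_univ _), Finset.card_univ,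
    Fintype.card_fun, hF, Fintype.card_fin, Finset.filter_eq', if_pos (Finset.mem_univ _),
    Finset.card_singleton, mul_comm]

end

end Cfsg.Agent.Lib.Helper14.Sp2Leaf
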