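import Mathlib
import Cfsg.Agent.Lib.Helper2.SOTDefs
import Cfsg.Agent.Lib.Helper2.SOTGA
import Cfsg.Agent.Lib.Helper13.SOTGMain
import Cfsg.Agent.Lib.Helper28.SOTBMain
import Cfsg.Agent.Lib.Helper7.SOTT
import Cfsg.Agent.Lib.Helper27.SOTLAMain

/-!
SpLow leaf SPL-T (helper14): S5666 (`Sp_{n₁}(q) ⊗ O_{n₂}(q)` is maximal in `Sp_{2m}(q)`, `q` odd) for `5 ≤ m`.
`Helper2.SOT.Ctx.hn` is now `10 ≤ a * b`, and Part II (`a = 2`) uses the new Stage I
`Helper14.SOTBLow.stageI_low` (`5 ≤ b`); everything else of the S5666 tower is bound-free.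
The two theorems below are the `5 ≤ m` twins of `Cfsg.Agent.S5666.model_main` and
`Cfsg.Agent.Lib.Helper7.SOTLeaf.frozen_of_model`.
-/

set_option autoImplicit false
set_option linter.unusedSectionVars false
set_option linter.unusedVariables false

namespace Cfsg.Agent.Lib.Helper14.SpLowLeaf
open Matrix
open Cfsg.Agent.Lib.Helper25.Tens Cfsg.Agent.Lib.Helper25.SpT Cfsg.Agent.Lib.Helper19.OSub
open Cfsg.Agent.Lib.Helper2.SOT
open Cfsg.Agent.Lib.Helper15.TensLeaf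
open Cfsg.Agent.Lib.Helper7.SOTLeaf
open scoped Kronecker

/-- the model theorem (twin of `Cfsg.Agent.S5666.model_main`) -/
theorem model_main_low {F : Type*} [Field F] [Fintype F] {a b : ℕ} {G : Matrix (Fin b) (Fin b) F}
    {M : Subgroup (GL (Idx a b) F)} (h : MCtx a b G M) :
    M = KG a b F ⊓ SpV G ∨ M = SpV G := by
  by_cases ht : HasTv G M
  · right
    exact le_antisymm h.le_sp (Cfsg.Agent.Lib.Helper13.SOTGMain.growth h ht)
  · left
    have hK : M ≤ KG a b F := by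
      obtain ⟨k, hk⟩ := h.ea
      have ha := h.ha
      rcases Nat.lt_or_ge a 4 with h4 | h4
      · exact Cfsg.Agent.Lib.Helper28.SOTBMain.partII h (by omega) ht
      · exact Cfsg.Agent.Lib.Helper2.SOTLeaf.globalA h h4 (Cfsg.Agent.Lib.Helper27.SOTLAMain.local_L1 h h4 ht)
          (Cfsg.Agent.Lib.Helper27.SOTLAMain.local_L2 h h4 ht)
    exact le_antisymm (le_inf hK h.le_sp) h.le

/-- SPL-T: S5666 with `5 ≤ m` -/
theorem tensor_max {F : Type*} [Field F] [Fintype F] (m : ℕ) (hm : 5 ≤ m) (hodd : Odd (Fintype.card F)) (n₁ n₂ : ℕ) (hn₂ : 3 ≤ n₂) (hex : ¬ (Fintype.card F = 3 ∧ n₂ = 3)) (e : (Fin m ⊕ Fin m) ≃ Fin n₁ × Fin n₂) (P : Matrix.GeneralLinearGroup (Fin m ⊕ Fin m) F) (f₁ : (Fin n₁ → F) → (Fin n₁ → F) → F) (f₂ : (Fin n₂ → F) → (Fin n₂ → F) → F) (hf₁ : Cfsg.Geo.IsSymplecticForm f₁) (hf₂ : Cfsg.Geo.IsSymmetricForm f₂) (hT : Cfsg.Geo.IsTensorFormStructure id (Cfsg.sympForm m F) f₁ f₂ e P) : Cfsg.Geo.IsMaximalIn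 (Cfsg.spGL m F) (Cfsg.Geo.tensorProductSubgroup n₁ n₂ e P ⊓ Cfsg.spGL m F) := by
  classical
  obtain ⟨hev, P₁, hP₁⟩ := Cfsg.Agent.Lib.Helper13.SpTLeaf.exists_symp_basis f₁ hf₁
  obtain ⟨c, hc, hTc⟩ := hT
  set G : Matrix (Fin n₂) (Fin n₂) F := Cfsg.Geo.gramMatrix f₂ with hG
  have hcard : 2 * m = n₁ * n₂ := by
    have := Fintype.card_congr e
    simp only [Fintype.card_sum, Fintype.card_fin, Fintype.card_prod] at this
    omega
  have hn1 : n₁ ≠ 0 := by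
    rintro rfl
    omega
  have h2 : (2 : F) ≠ 0 := by
    intro h
    have : CharP F 2 := CharTwo.of_one_ne_zero_of_two_eq_zero one_ne_zero h
    obtain ⟨k, -, hk⟩ := FiniteField.card F 2
    rw [hk] at hodd
    have hev2 : Even (2 ^ (k : ℕ)) := (Nat.even_pow.2 ⟨even_two, k.ne_zero⟩)
    exact (Nat.not_even_iff_odd.2 hodd) hev2
  have hsymm : Gᵀ = G := by
    ext i j
    rw [Matrix.transpose_apply]
    exact hf₂.symm _ _
  have hnd : G.det ≠ 0 := by
    intro h0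
    obtain ⟨v, hv0, hv⟩ := Matrix.exists_mulVec_eq_zero_iff.mpr h0
    obtain ⟨⟨x, hx⟩, -⟩ := hf₂.nondegenerate v hv0
    apply hx
    rw [bil_eq_dot f₂ hf₂.bilinear, hv, dotProduct_zero]
  have ctx : Ctx n₁ n₂ G :=
    { ea := hev
      ha := by
        obtain ⟨k, hk⟩ := hev
        omega
      hb := hn₂
      hn := by rw [← hcard]; omega
      symm := hsymm
      nd := hnd
      two := h2
      hex := hex }
  set R : GL (Idx n₁ n₂) F := kel P₁ (1 : GL (Fin n₂) F) with hR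
  have hL : ∀ x y : Idx n₁ n₂ → F,
      Cfsg.sympForm m F (sL e P R x) (sL e P R y) = c * fV G x y := by
    intro x y
    unfold sL
    rw [hTc]
    congr 1
    exact form_kel f₁ f₂ hf₁.bilinear hf₂.bilinear P₁ hP₁ x y
  have hmax : Cfsg.Geo.IsMaximalIn (SpV G) (KG n₁ n₂ F ⊓ SpV G) :=
    ⟨KG_SpV_lt ctx, fun M h1 h2 => model_main_low { toCtx := ctx, le := h1, le_sp := h2 }⟩
  have key := tt_isMaximalIn_map (sphi e P R) hmax
  rw [Subgroup.map_inf _ _ _ (sphi e P R).injective, map_KG' e P R (kel_mem_KG _ _),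
    map_SpV e P R G (Cfsg.sympForm m F) c hc hL] at key
  exact key

end Cfsg.Agent.Lib.Helper14.SpLowLeaf
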