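import Mathlib
import Cfsg.Prelude.Def_Solvable
import Cfsg.Prelude.Def_SolvableStructure
import Cfsg.Agent.Lib.Helper1.SqfDefs
import Cfsg.Agent.Lib.Helper1.Fitting

/-!
# Leaf C of S4130 (Chillag–Herzog): `F(G)` has class at most two when all class sizes are
squarefree (helper14 for helper1)
-/

set_option autoImplicit false

namespace Cfsg.Agent.Lib.Helper14.SqfLeaf

open Subgroup Cfsg.Agent.Lib.Helper1.Sqf Cfsg.Agent.Lib.Helper1
open scoped commutatorElement

/-- In a finite `r`-group with squarefree class sizes, commutators are central. -/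
theorem commutator_central_of_pgroup {Q : Type*} [Group Q] [Finite Q] (r : ℕ) [Fact r.Prime]
    (hQ : IsPGroup r Q) (h : SF Q) (a b c : Q) : ⁅a, b⁆ * c = c * ⁅a, b⁆ := by
  have hr : r.Prime := Fact.out
  obtain ⟨n, hn⟩ := IsPGroup.iff_card.mp hQ
  set C := centralizer ({c} : Set Q) with hC
  have hmem : ⁅a, b⁆ ∈ C := by
    have hsq := h c
    have hdvd : C.index ∣ r ^ n := by
      rw [← hn]; exact Subgroup.index_dvd_card C
    have hdr : C.index ∣ r := by
      rcases (Nat.dvd_prime_pow hr).mp hdvd with ⟨k, hk, hk'⟩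
      rcases Nat.lt_or_ge k 2 with hk2 | hk2
      · interval_cases k
        · rw [hk', pow_zero]; exact one_dvd _
        · rw [hk', pow_one]
      · exfalso
        have h2 : r * r ∣ C.index := by
          rw [hk']
          calc r * r = r ^ 2 := (sq r).symm
            _ ∣ r ^ k := pow_dvd_pow r hk2
        exact hr.not_isUnit (hsq r h2)
    rcases (Nat.dvd_prime hr).mp hdr with h1 | h1
    · have : C = ⊤ := Subgroup.index_eq_one.mp h1
      rw [this]; exact mem_top _
    · have hn0 : n ≠ 0 := by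
        rintro rfl
        rw [pow_zero] at hn
        have : C.index ∣ 1 := by rw [← hn]; exact Subgroup.index_dvd_card C
        rw [h1] at this
        exact hr.one_lt.ne' (Nat.dvd_one.mp this)
      have hmin : (Nat.card Q).minFac = r := by
        rw [hn]; exact hr.pow_minFac hn0
      haveI : C.Normal := Subgroup.normal_of_index_eq_minFac_card (by rw [hmin, h1])
      have hcard : Nat.card (Q ⧸ C) = r := by
        rw [← Subgroup.index_eq_card]; exact h1
      haveI : IsCyclic (Q ⧸ C) := isCyclic_of_prime_card hcard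
      have hcomm : IsMulCommutative (Q ⧸ C) := ⟨⟨IsCyclic.commGroup.mul_comm⟩⟩
      have hle := Subgroup.Normal.quotient_commutative_iff_commutator_le.mp hcomm
      exact hle (Subgroup.commutator_mem_commutator (mem_top a) (mem_top b))
  rw [hC, mem_centralizer_singleton_iff] at hmem
  exact hmem

variable {G : Type*} [Group G] [Finite G]

/-- A subgroup containing all `p`-cores contains the Fitting subgroup. -/
theorem fitting_le_of_pCore_le (K : Subgroup G)
    (hK : ∀ (p : ℕ) [Fact p.Prime], Cfsg.pCore p G ≤ K) : Cfsg.fittingSubgroup G ≤ K := by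
  rw [fittingSubgroup_eq_iSup_pCore]
  apply iSup_le
  intro p
  haveI : Fact (Nat.Prime (p : ℕ)) := ⟨p.2⟩
  exact hK (p : ℕ)

theorem pCore_le_fitting (p : ℕ) [Fact p.Prime] : Cfsg.pCore p G ≤ Cfsg.fittingSubgroup G :=
  le_fittingSubgroup (pCore_normal p G) (pCore_isPGroup p G).isNilpotent

/-- Commutators of two elements of `O_r(G)` commute with `F(G)`. -/
theorem comm_pCore_central (h : SF G) (r : ℕ) [Fact r.Prime] {x y : G}
    (hx : x ∈ Cfsg.pCore r G) (hy : y ∈ Cfsg.pCore r G) {z : G}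
    (hz : z ∈ Cfsg.fittingSubgroup G) : ⁅x, y⁆ * z = z * ⁅x, y⁆ := by
  have hxy : ⁅x, y⁆ ∈ Cfsg.pCore r G := by
    rw [commutatorElement_def]
    exact mul_mem (mul_mem (mul_mem hx hy) (inv_mem hx)) (inv_mem hy)
  have hle : Cfsg.fittingSubgroup G ≤ centralizer ({⁅x, y⁆} : Set G) := by
    apply fitting_le_of_pCore_le
    intro t _ w hw
    rw [mem_centralizer_singleton_iff]
    by_cases htr : t = r
    · subst htr
      haveI : (Cfsg.pCore t G).Normal := pCore_normal t G
      have hSF : SF (Cfsg.pCore t G) := h.subgroup (Cfsg.pCore t G)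
      have hPG : IsPGroup t (Cfsg.pCore t G) := pCore_isPGroup t G
      have key := commutator_central_of_pgroup t hPG hSF ⟨x, hx⟩ ⟨y, hy⟩ ⟨w, hw⟩
      have := congrArg Subtype.val key
      simpa [commutatorElement_def] using this.symm
    · exact (pCore_commute htr w ⁅x, y⁆ hw hxy).eq
  have := hle hz
  rw [mem_centralizer_singleton_iff] at this
  exact this.symm

/-- For `x ∈ O_r(G)` and `y ∈ F(G)`, the commutator `[x,y]` commutes with `F(G)`. -/
theorem comm_pCore_fitting_central (h : SF G) (r : ℕ) [Fact r.Prime] {x : G}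
    (hx : x ∈ Cfsg.pCore r G) {y : G} (hy : y ∈ Cfsg.fittingSubgroup G) {z : G}
    (hz : z ∈ Cfsg.fittingSubgroup G) : ⁅x, y⁆ * z = z * ⁅x, y⁆ := by
  let T : Subgroup G :=
    { carrier := {y | y ∈ Cfsg.fittingSubgroup G ∧
        ∀ z ∈ Cfsg.fittingSubgroup G, ⁅x, y⁆ * z = z * ⁅x, y⁆}
      one_mem' := ⟨one_mem _, fun z _ => by simp⟩
      mul_mem' := by
        rintro a b ⟨ha, ha'⟩ ⟨hb, hb'⟩
        refine ⟨mul_mem ha hb, fun z hz => ?_⟩
        have e : ⁅x, a * b⁆ = ⁅x, a⁆ * ⁅x, b⁆ := by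
          have h1 : ⁅x, a * b⁆ = ⁅x, a⁆ * (a * ⁅x, b⁆ * a⁻¹) := by
            simp only [commutatorElement_def]; group
          rw [h1, ← hb' a ha]; group
        rw [e, mul_assoc, hb' z hz, ← mul_assoc, ha' z hz, mul_assoc]
      inv_mem' := by
        rintro a ⟨ha, ha'⟩
        refine ⟨inv_mem ha, fun z hz => ?_⟩
        have e : ⁅x, a⁻¹⁆ = ⁅x, a⁆⁻¹ := by
          have h1 : ⁅x, a⁻¹⁆ = a⁻¹ * ⁅x, a⁆⁻¹ * a := by
            simp only [commutatorElement_def]; group
          have h2 : ⁅x, a⁆⁻¹ * a = a * ⁅x, a⁆⁻¹ := by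
            have := ha' a ha
            calc ⁅x, a⁆⁻¹ * a = ⁅x, a⁆⁻¹ * (a * ⁅x, a⁆) * ⁅x, a⁆⁻¹ := by group
              _ = ⁅x, a⁆⁻¹ * (⁅x, a⁆ * a) * ⁅x, a⁆⁻¹ := by rw [this]
              _ = a * ⁅x, a⁆⁻¹ := by group
          rw [h1, mul_assoc, h2]; group
        rw [e]
        have := ha' z hz
        calc ⁅x, a⁆⁻¹ * z = ⁅x, a⁆⁻¹ * (z * ⁅x, a⁆) * ⁅x, a⁆⁻¹ := by group
          _ = ⁅x, a⁆⁻¹ * (⁅x, a⁆ * z) * ⁅x, a⁆⁻¹ := by rw [this]
          _ = z * ⁅x, a⁆⁻¹ := by group }
  have hle : Cfsg.fittingSubgroup G ≤ T := by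
    apply fitting_le_of_pCore_le
    intro s _ w hw
    refine ⟨pCore_le_fitting s hw, fun z hz => ?_⟩
    by_cases hsr : s = r
    · subst hsr
      exact comm_pCore_central h s hx hw hz
    · have : ⁅x, w⁆ = 1 := by
        rw [commutatorElement_eq_one_iff_commute]
        exact (pCore_commute hsr w x hw hx).symm
      rw [this, one_mul, mul_one]
  exact (hle hy).2 z hz

/-- **Leaf C.** If all class sizes of `G` are squarefree then `F(G)` has class at most `2`. -/
theorem fitting_class_two {G : Type*} [Group G] [Finite G] (h : SF G) :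
    Subgroup.upperCentralSeries ↥(Cfsg.fittingSubgroup G) 2 = ⊤ := by
  let Z2 : Subgroup G :=
    (Subgroup.upperCentralSeries ↥(Cfsg.fittingSubgroup G) 2).map (Cfsg.fittingSubgroup G).subtype
  have hle : Cfsg.fittingSubgroup G ≤ Z2 := by
    apply fitting_le_of_pCore_le
    intro r _ x hx
    refine ⟨⟨x, pCore_le_fitting r hx⟩, ?_, rfl⟩
    rw [SetLike.mem_coe, Subgroup.mem_upperCentralSeries_succ_iff]
    intro y
    rw [Subgroup.upperCentralSeries_one, Subgroup.mem_center_iff]
    intro z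
    apply Subtype.ext
    have := comm_pCore_fitting_central h r hx y.2 z.2
    simpa [commutatorElement_def] using this.symm
  rw [eq_top_iff]
  intro w _
  obtain ⟨w', hw', hww'⟩ := hle w.2
  have : w' = w := Subtype.ext hww'
  rw [← this]
  exact hw'

end Cfsg.Agent.Lib.Helper14.SqfLeaf
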