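import Mathlib
import Cfsg.Agent.Lib.Helper11.Su2Tools
import Cfsg.Agent.Lib.Helper24.Su2P1
import Cfsg.Agent.Lib.Helper15.Su2QR
import Cfsg.Agent.Lib.Helper15.Su2T2
import Cfsg.Agent.Lib.Helper22.Su2COV
import Cfsg.Agent.Lib.Helper25.Su2S2N
import Cfsg.Agent.Lib.Helper14.Su2GC
import Cfsg.Agent.Lib.Helper25.Su2MULTI
import Cfsg.Agent.Lib.Helper25.Su2MULTIIa
import Cfsg.Agent.Lib.Helper17.Su2MULTIIb

/-!
helper14: leaf S2 (twin) of the S2153 market "SU2" (planner helper11): points `x` with `tv x ∈ H` and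
`Q_x ≰ H` have `3 |G_x : G_x ∩ H| ≥ 2^(n-1)(2^(n-2)-1)`.  `relIndex_ge_of_tv_mem_of` takes the MULT
leaf (three conjugates of a big totally singular subgroup through one vector) as a hypothesis.
-/

set_option autoImplicit false

namespace Cfsg.Agent.Lib.Helper14.Su2Leaf

open MulAction Pointwise Cfsg.Agent.Lib.Helper11.Su2

variable {F V G : Type*} [Field F] [AddCommGroup V] [Module F V] [Group G] [DistribMulAction G V]
variable (S : Setting F V G)

/-- the class `S_0(x)`: isotropic vectors of `x^⊥` outside `F x` -/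
def s2T0 (x : V) : Set V := {u | S.h u x = 0 ∧ S.h u u = 0 ∧ ∀ a : F, u ≠ a • x}

/-- the class `S_1(x)`: vectors of norm one in `x^⊥` -/
def s2T1 (x : V) : Set V := {u | S.h u x = 0 ∧ S.h u u = 1}

theorem s2_ne_smul_of_one {x u : V} (hx : S.h x x = 0) (hu : S.h u u = 1) (a : F) : u ≠ a • x := by
  rintro rfl
  rw [S.h_self_smul, hx, mul_zero] at hu
  exact zero_ne_one hu

theorem s2_smul_perp {x : V} {g : G} (hg : g • x = x) {s : V} (hs : S.h s x = 0) :
    S.h (g • s) x = 0 := by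
  have : S.h (g • s) x = S.h (g • s) (g • x) := by rw [hg]
  rw [this, S.iso, hs]

theorem s2T0_inv {x : V} (g : G) (hg : g ∈ stabilizer G x) (s : V) (hs : s ∈ s2T0 S x) :
    g • s ∈ s2T0 S x := by
  have hgx : g • x = x := hg
  obtain ⟨h1, h2, h3⟩ := hs
  refine ⟨s2_smul_perp S hgx h1, by rw [S.iso, h2], ?_⟩
  intro a ha
  apply h3 a
  have h4 : g⁻¹ • x = x := by rw [inv_smul_eq_iff, hgx]
  rw [← inv_smul_smul g s, ha, S.smul_fsmul, h4]

theorem s2T1_inv {x : V} (g : G) (hg : g ∈ stabilizer G x) (s : V) (hs : s ∈ s2T1 S x) :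
    g • s ∈ s2T1 S x := by
  have hgx : g • x = x := hg
  obtain ⟨h1, h2⟩ := hs
  exact ⟨s2_smul_perp S hgx h1, by rw [S.iso, h2]⟩

theorem s2T0_tr [Finite V] {n : ℕ} (hV : Nat.card V = 4 ^ n) (hn : 6 ≤ n) {x : V} (hx0 : x ≠ 0)
    (hx : S.h x x = 0) : ∀ s ∈ s2T0 S x, ∀ s' ∈ s2T0 S x, ∃ g ∈ stabilizer G x, g • s = s' := by
  rintro s ⟨h1, h2, h3⟩ s' ⟨h1', h2', h3'⟩
  obtain ⟨g, hg1, hg2⟩ := Cfsg.Agent.Lib.Helper15.Su2Leaf.exists_stab_smul_eq S hV hn hx0 hx h1 h1'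
    (by rw [h2, h2']) h3 h3'
  exact ⟨g, hg1, hg2⟩

theorem s2T1_tr [Finite V] {n : ℕ} (hV : Nat.card V = 4 ^ n) (hn : 6 ≤ n) {x : V} (hx0 : x ≠ 0)
    (hx : S.h x x = 0) : ∀ s ∈ s2T1 S x, ∀ s' ∈ s2T1 S x, ∃ g ∈ stabilizer G x, g • s = s' := by
  rintro s ⟨h1, h2⟩ s' ⟨h1', h2'⟩
  obtain ⟨g, hg1, hg2⟩ := Cfsg.Agent.Lib.Helper15.Su2Leaf.exists_stab_smul_eq S hV hn hx0 hx h1 h1'
    (by rw [h2, h2']) (s2_ne_smul_of_one S hx h2) (s2_ne_smul_of_one S hx h2')
  exact ⟨g, hg1, hg2⟩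

/-- the covering bound with multiplicity one -/
theorem s2_cov_one [Finite V] [Finite G] {x : V} (E : AddSubgroup V) (T : Set V)
    (hTinv : ∀ g ∈ stabilizer G x, ∀ s ∈ T, g • s ∈ T)
    (hTtr : ∀ s ∈ T, ∀ s' ∈ T, ∃ g ∈ stabilizer G x, g • s = s') {u0 : V} (hu0E : u0 ∈ E)
    (hu0 : u0 ∈ T) :
    Nat.card T ≤ (stabilizer G (E : Set V)).relIndex (stabilizer G x) *
      Nat.card ↥((E : Set V) ∩ T) := by
  have := Cfsg.Agent.Lib.Helper22.Su2Leaf.cov (stabilizer G x) (E : Set V) T hTinv hTtr u0 hu0 1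
    (fun _ => 1) (fun _ => (stabilizer G x).one_mem) (fun _ => by rw [one_smul]; exact hu0E)
    (fun i j _ => Subsingleton.elim i j)
  rwa [one_mul] at this

/-- the three classes inside `E` -/
theorem s2_card_parts [Finite V] {x : V} (hx0 : x ≠ 0) (hx : S.h x x = 0) (E : AddSubgroup V)
    (hxE : ∀ a : F, a • x ∈ E) :
    Nat.card ↥((E : Set V) ∩ s2T0 S x) + Nat.card ↥((E : Set V) ∩ s2T1 S x) + 4 ≤ Nat.card E := by
  classical
  have hF : Finite F := S.finite_F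
  set A := (E : Set V) ∩ s2T0 S x with hA
  set B := (E : Set V) ∩ s2T1 S x with hB
  set C := Set.range (fun a : F => a • x) with hC
  have hCcard : C.ncard = 4 := by
    rw [← Nat.card_coe_set_eq, hC, Nat.card_range_of_injective (smul_left_injective F hx0),
      S.natCard_F]
  have hAB : Disjoint A B := by
    rw [Set.disjoint_left]
    rintro u ⟨-, -, h2, -⟩ ⟨-, -, h3⟩
    rw [h2] at h3
    exact zero_ne_one h3
  have hABC : Disjoint (A ∪ B) C := by
    rw [Set.disjoint_left]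
    rintro u (⟨-, -, -, h3⟩ | ⟨-, -, h3⟩) ⟨a, rfl⟩
    · exact h3 a rfl
    · exact s2_ne_smul_of_one S hx h3 a rfl
  have hsub : A ∪ B ∪ C ⊆ (E : Set V) := by
    rintro u ((⟨h, -⟩ | ⟨h, -⟩) | ⟨a, rfl⟩)
    · exact h
    · exact h
    · exact hxE a
  have h1 := Set.ncard_le_ncard hsub (Set.toFinite _)
  rw [Set.ncard_union_eq hABC (Set.toFinite _) (Set.toFinite _),
    Set.ncard_union_eq hAB (Set.toFinite _) (Set.toFinite _), hCcard] at h1
  rw [← Nat.card_coe_set_eq A, ← Nat.card_coe_set_eq B] at h1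
  have h2 : ((E : Set V)).ncard = Nat.card E := by
    rw [← Nat.card_coe_set_eq]; rfl
  rw [h2] at h1
  exact h1

/-- the combined MULT statement at the point `x` -/
def S2Mult (x : V) : Prop :=
  ∀ U : AddSubgroup V, (∀ a : F, a • x ∈ U) → (∀ u ∈ U, S.h u x = 0) → (∀ u ∈ U, S.h u u = 0) →
    32 ≤ Nat.card U →
    ∃ u0 ∈ U, (∀ a : F, u0 ≠ a • x) ∧ ∃ g : Fin 3 → G, (∀ i, g i • x = x) ∧
      (∀ i, u0 ∈ g i • (U : Set V)) ∧ Function.Injective (fun i => g i • (U : Set V))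

theorem relIndex_ge_of_tv_mem_of [Finite V] [Finite G] {n : ℕ} (hV : Nat.card V = 4 ^ n)
    (hI : Nat.card {v : V // S.h v v = 0} = 2 ^ (2 * n - 1) + 2 ^ (n - 1)) (hn : 6 ≤ n)
    (H : Subgroup G) {x : V} (hx0 : x ≠ 0) (hx : S.h x x = 0) (htv : S.tv x ∈ H)
    (hQ : ¬ S.Qx hx ≤ H) (hM : S2Mult S x) :
    2 ^ (n - 1) * (2 ^ (n - 2) - 1) ≤ 3 * H.relIndex (stabilizer G x) := by
  classical
  have hF : Finite F := S.finite_F
  set D := S.Dt H hx with hD
  set E := S.perp D with hE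
  -- basic facts about `E`
  have hxE : ∀ a : F, a • x ∈ E := by
    intro a u hu
    rw [S.h_smul_right, S.Dt_le_perp hx u hu, mul_zero]; ring
  have hEx : ∀ v ∈ E, S.h v x = 0 := by
    intro v hv
    apply S.h_eq_zero_symm
    apply S.eq_zero_of_tr_mul
    · have := hv _ (S.smul_self_mem_Dt H hx 1)
      rwa [one_smul] at this
    · have := hv _ (S.smul_self_mem_Dt H hx S.om)
      rwa [S.h_smul_left] at this
  have hinv : ∀ p ∈ H, p • x = x → ∀ u ∈ E, p • u ∈ E := by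
    intro p hp hpx u hu
    apply S.smul_mem_perp _ hu
    intro w hw
    exact S.smul_mem_Dt hx (H.inv_mem hp) (by rw [inv_smul_eq_iff, hpx]) hw
  -- cardinalities
  have hP1 := Cfsg.Agent.Lib.Helper24.Su2Leaf.card_mul_card_perp S D
  have hQR := Cfsg.Agent.Lib.Helper15.Su2Leaf.relIndex_Qx_mul_card_Dt_of_mem S hV H hx0 hx htv
  have hstab := S.stab_bound H hx E hxE hEx hinv
  have hρ2 : 2 ≤ H.relIndex (S.Qx hx) := by
    have h0 : H.relIndex (S.Qx hx) ≠ 0 := by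
      unfold Subgroup.relIndex
      exact Subgroup.index_ne_zero_of_finite
    have h1 : H.relIndex (S.Qx hx) ≠ 1 := fun h => hQ (Subgroup.relIndex_eq_one.1 h)
    omega
  have hS0 := card_S0 S hV hI hn hx0 hx
  have hS1 := card_one_perp S hV hI hn hx0 hx
  have hparts := s2_card_parts S hx0 hx E hxE
  have hT0c : Nat.card ↥(s2T0 S x) =
      Nat.card {u : V // S.h u x = 0 ∧ S.h u u = 0 ∧ ∀ a : F, u ≠ a • x} := rfl
  have hT1c : Nat.card ↥(s2T1 S x) = Nat.card {u : V // S.h u x = 0 ∧ S.h u u = 1} := rfl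
  rw [← hT0c] at hS0
  rw [← hT1c] at hS1
  -- `|E|` is a power of two
  have hEpow : ∃ j, Nat.card E = 2 ^ j := by
    have hdvd : Nat.card E ∣ Nat.card V := AddSubgroup.card_addSubgroup_dvd_card E
    rw [hV, show (4 : ℕ) = 2 ^ 2 by norm_num, ← pow_mul] at hdvd
    obtain ⟨j, -, hj⟩ := (Nat.dvd_prime_pow Nat.prime_two).1 hdvd
    exact ⟨j, hj⟩
  -- an element of `E` outside `F x`
  have hDpos : 0 < Nat.card D := Nat.card_pos
  obtain ⟨m, rfl⟩ : ∃ m, n = m + 2 := ⟨n - 2, by omega⟩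
  have p2 : 2 ^ (m + 2 - 1) = 2 * 2 ^ m := by
    rw [show m + 2 - 1 = m + 1 by omega]; ring
  have p3 : 2 ^ (2 * (m + 2) - 3) = 2 * (2 ^ m * 2 ^ m) := by
    rw [show 2 * (m + 2) - 3 = m + m + 1 by omega]; ring
  have p4 : 4 ^ (m + 2) = 16 * (2 ^ m * 2 ^ m) := by
    rw [show (4 : ℕ) = 2 ^ 2 by norm_num, ← pow_mul]
    rw [show 2 * (m + 2) = m + m + 4 by omega]; ring
  have p5 : 4 ^ (m + 2 - 1) = 4 * (2 ^ m * 2 ^ m) := by
    rw [show m + 2 - 1 = m + 1 by omega, show (4 : ℕ) = 2 ^ 2 by norm_num, ← pow_mul]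
    rw [show 2 * (m + 1) = m + m + 2 by omega]; ring
  have p6 : 2 ^ (m + 2 - 2) = 2 ^ m := by rw [show m + 2 - 2 = m by omega]
  have htpos : 1 ≤ 2 ^ m := Nat.one_le_two_pow
  rw [p2, p3] at hS0 hS1
  rw [p5] at hQR
  rw [hV, p4] at hP1
  rw [p2, p6]
  -- `|E| = 4 ρ`
  have hE4 : Nat.card E = 4 * H.relIndex (S.Qx hx) := by
    have h1 : Nat.card D * Nat.card E = Nat.card D * (4 * H.relIndex (S.Qx hx)) := by
      rw [hP1]
      calc 16 * (2 ^ m * 2 ^ m) = 4 * (4 * (2 ^ m * 2 ^ m)) := by ring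
        _ = 4 * (H.relIndex (S.Qx hx) * Nat.card D) := by rw [hQR]
        _ = Nat.card D * (4 * H.relIndex (S.Qx hx)) := by ring
    exact Nat.eq_of_mul_eq_mul_left hDpos h1
  have hE8 : 8 ≤ Nat.card E := by omega
  obtain ⟨w, hwE, hwx⟩ := Cfsg.Agent.Lib.Helper25.Su2Leaf.exists_mem_forall_ne E
    (fun a : F => a • x) (by rw [S.natCard_F]; omega)
  set t := (stabilizer G (E : Set V)).relIndex (stabilizer G x) with ht
  set ρ := H.relIndex (S.Qx hx) with hρ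
  set o := H.relIndex (stabilizer G x) with ho
  set e := Nat.card E with he
  set s := 2 ^ m * 2 ^ m with hs
  set tt := 2 ^ m with htt
  have hstt : tt ≤ s := by rw [hs]; nlinarith
  -- the target in terms of `s`, `tt`
  have htarget : 2 * tt * (tt - 1) + 2 * tt = 2 * s := by
    rw [hs]
    obtain ⟨k, hk⟩ : ∃ k, tt = k + 1 := ⟨tt - 1, by omega⟩
    rw [hk]; simp only [Nat.add_sub_cancel]; ring
  by_cases h0 : ∃ u ∈ E, u ∈ s2T0 S x
  · by_cases h1 : ∃ u ∈ E, u ∈ s2T1 S x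
    · -- mixed case
      obtain ⟨u0, hu0E, hu0⟩ := h0
      obtain ⟨u1, hu1E, hu1⟩ := h1
      have c0 := s2_cov_one (x := x) E (s2T0 S x) (s2T0_inv S) (s2T0_tr S hV hn hx0 hx) hu0E hu0
      have c1 := s2_cov_one (x := x) E (s2T1 S x) (s2T1_inv S) (s2T1_tr S hV hn hx0 hx) hu1E hu1
      -- t (e - 4) ≥ 4 s - 4, 4 o ≥ t e
      have h5 : Nat.card ↥(s2T0 S x) + Nat.card ↥(s2T1 S x) ≤ t * (e - 4) := by
        calc Nat.card ↥(s2T0 S x) + Nat.card ↥(s2T1 S x)
            ≤ t * Nat.card ↥((E : Set V) ∩ s2T0 S x) + t * Nat.card ↥((E : Set V) ∩ s2T1 S x) :=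
              Nat.add_le_add c0 c1
          _ = t * (Nat.card ↥((E : Set V) ∩ s2T0 S x) + Nat.card ↥((E : Set V) ∩ s2T1 S x)) := by
              ring
          _ ≤ t * (e - 4) := Nat.mul_le_mul_left _ (by omega)
      have h6 : t * (e - 4) ≤ t * e := Nat.mul_le_mul_left _ (Nat.sub_le _ _)
      have h7 : t * e = 4 * (t * ρ) := by rw [hE4]; ring
      omega
    · -- all isotropic
      push Not at h1
      obtain ⟨u0, hu0E, hu0⟩ := h0
      have hU0 : ∀ u ∈ E, S.h u u = 0 := by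
        intro u hu
        rcases S.h_self_mem u with h | h
        · exact h
        · exact absurd ⟨hEx u hu, h⟩ (h1 u hu)
      have hle : Nat.card ↥((E : Set V) ∩ s2T0 S x) ≤ e - 4 := by omega
      obtain ⟨j, hj⟩ := hEpow
      by_cases h32 : 32 ≤ e
      · obtain ⟨v0, hv0E, hv0x, g, hgx, hgv, hginj⟩ := hM E hxE hEx hU0 h32
        have hv0 : v0 ∈ s2T0 S x := ⟨hEx v0 hv0E, hU0 v0 hv0E, hv0x⟩
        have c0 := Cfsg.Agent.Lib.Helper22.Su2Leaf.cov (stabilizer G x) (E : Set V) (s2T0 S x)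
          (s2T0_inv S) (s2T0_tr S hV hn hx0 hx) v0 hv0 3 g (fun i => hgx i) hgv hginj
        have h5 : 3 * Nat.card ↥(s2T0 S x) ≤ t * (e - 4) :=
          c0.trans (Nat.mul_le_mul_left _ hle)
        have h6 : t * (e - 4) ≤ t * e := Nat.mul_le_mul_left _ (Nat.sub_le _ _)
        have h7 : t * e = 4 * (t * ρ) := by rw [hE4]; ring
        omega
      · have he16 : e ≤ 16 := by
          rw [hj] at h32 ⊢
          have : j < 5 := by
            by_contra hc
            push Not at hc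
            have := Nat.pow_le_pow_right (by norm_num : 1 ≤ 2) hc
            omega
          calc 2 ^ j ≤ 2 ^ 4 := Nat.pow_le_pow_right (by norm_num) (by omega)
            _ = 16 := by norm_num
        have c0 := s2_cov_one (x := x) E (s2T0 S x) (s2T0_inv S) (s2T0_tr S hV hn hx0 hx)
          hu0E hu0
        have h5 : Nat.card ↥(s2T0 S x) ≤ t * (e - 4) := c0.trans (Nat.mul_le_mul_left _ hle)
        have h7 : 3 * (t * e) = 12 * (t * ρ) := by rw [hE4]; ring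
        have h8 : 4 * (t * (e - 4)) ≤ 3 * (t * e) := by
          have : 4 * (e - 4) ≤ 3 * e := by omega
          calc 4 * (t * (e - 4)) = t * (4 * (e - 4)) := by ring
            _ ≤ t * (3 * e) := Nat.mul_le_mul_left _ this
            _ = 3 * (t * e) := by ring
        omega
  · -- all of norm one
    push Not at h0
    have hw1 : w ∈ s2T1 S x := by
      refine ⟨hEx w hwE, ?_⟩
      rcases S.h_self_mem w with h | h
      · exact absurd ⟨hEx w hwE, h, hwx⟩ (h0 w hwE)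
      · exact h
    have h16 := Cfsg.Agent.Lib.Helper25.Su2Leaf.card_le_of_forall_one S hx0 hx E hxE hEx
      (fun u hu hux => by
        rcases S.h_self_mem u with h | h
        · exact absurd ⟨hEx u hu, h, hux⟩ (h0 u hu)
        · exact h)
    have hle : Nat.card ↥((E : Set V) ∩ s2T1 S x) ≤ e - 4 := by omega
    have c1 := s2_cov_one (x := x) E (s2T1 S x) (s2T1_inv S) (s2T1_tr S hV hn hx0 hx) hwE hw1
    have h5 : Nat.card ↥(s2T1 S x) ≤ t * (e - 4) := c1.trans (Nat.mul_le_mul_left _ hle)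
    have h7 : 3 * (t * e) = 12 * (t * ρ) := by rw [hE4]; ring
    have h8 : 4 * (t * (e - 4)) ≤ 3 * (t * e) := by
      have : 4 * (e - 4) ≤ 3 * e := by omega
      calc 4 * (t * (e - 4)) = t * (4 * (e - 4)) := by ring
        _ ≤ t * (3 * e) := Nat.mul_le_mul_left _ this
        _ = 3 * (t * e) := by ring
    omega

/-- MULT assembled: the three variants cover every big totally singular subgroup -/
theorem s2Mult_holds [Finite V] {n : ℕ} (hV : Nat.card V = 4 ^ n) (hn : 6 ≤ n) {x : V}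
    (hx0 : x ≠ 0) (hx : S.h x x = 0) : S2Mult S x := by
  intro U hxU hUx hU0 hcard
  by_cases hom : ∀ u ∈ U, S.om • u ∈ U
  · exact Cfsg.Agent.Lib.Helper25.Su2Leaf.mult_I S hV hn hx0 hx U hxU hUx hU0 hcard hom
  · push Not at hom
    obtain ⟨w1, hw1, hw1'⟩ := hom
    by_cases hperp : ∀ u ∈ U, S.h u w1 = 0
    · exact Cfsg.Agent.Lib.Helper25.Su2Leaf.mult_IIa S hV hn hx0 hx U hxU hUx hU0 hcard hw1 hw1'
        hperp
    · push Not at hperp
      obtain ⟨z0, hz0, hz0'⟩ := hperp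
      exact Cfsg.Agent.Lib.Helper17.Su2Leaf.mult_IIb S hV hn hx0 hx U hxU hUx hU0 hcard hw1 hw1'
        hz0 hz0'

theorem relIndex_ge_of_tv_mem [Finite V] [Finite G] {n : ℕ} (hV : Nat.card V = 4 ^ n)
    (hI : Nat.card {v : V // S.h v v = 0} = 2 ^ (2 * n - 1) + 2 ^ (n - 1)) (hn : 6 ≤ n)
    (H : Subgroup G) {x : V} (hx0 : x ≠ 0) (hx : S.h x x = 0) (htv : S.tv x ∈ H)
    (hQ : ¬ S.Qx hx ≤ H) :
    2 ^ (n - 1) * (2 ^ (n - 2) - 1) ≤ 3 * H.relIndex (stabilizer G x) :=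
  relIndex_ge_of_tv_mem_of S hV hI hn H hx0 hx htv hQ (s2Mult_holds S hV hn hx0 hx)

end Cfsg.Agent.Lib.Helper14.Su2Leaf
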