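import Mathlib

/-!
Groups generated by 3-cycles: a transitive group generated by 3-cycles is primitive, hence
(Jordan) alternating.
-/

set_option autoImplicit false

namespace Cfsg.Agent.Lib.Helper14.ThreeCycGen

open Equiv Equiv.Perm MulAction
open scoped Pointwise

section adj

variable {β : Type*} [Fintype β] [DecidableEq β]

/-- In a 3-cycle, two distinct moved points are adjacent. -/
theorem threeCycle_adj {g : Perm β} (hg : g.IsThreeCycle) {x y : β} (hx : g x ≠ x) (hy : g y ≠ y)
    (hxy : x ≠ y) : g x = y ∨ g y = x := by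
  obtain ⟨i, hi⟩ := hg.isCycle.exists_pow_eq hx hy
  have h3 : g ^ 3 = 1 := by rw [← hg.orderOf]; exact pow_orderOf_eq_one g
  have hmod : g ^ i = g ^ (i % 3) := by
    conv_lhs => rw [← Nat.div_add_mod i 3, pow_add, pow_mul, h3, one_pow, one_mul]
  rw [hmod] at hi
  have hlt : i % 3 < 3 := Nat.mod_lt _ (by norm_num)
  interval_cases h : i % 3
  · exact absurd (by simpa using hi) hxy
  · left; simpa using hi
  · right
    have : g (g (g x)) = x := by
      have := congrArg (fun f : Perm β => f x) h3
      simpa [pow_succ, Perm.mul_apply] using this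
    have h2 : g (g x) = y := by simpa [pow_succ, Perm.mul_apply] using hi
    rw [← h2]; exact this

end adj

section prim

variable {β : Type*} [Fintype β] [DecidableEq β]

/-- A transitive permutation group generated by 3-cycles is primitive. -/
theorem isPreprimitive_of_threeCycle_gen (C : Set (Perm β)) (hC : ∀ c ∈ C, c.IsThreeCycle)
    (R : Subgroup (Perm β)) (hR : R = Subgroup.closure C) [IsPretransitive R β] :
    IsPreprimitive R β := by
  refine ⟨fun {B} hB => ?_⟩
  by_contra hnt
  unfold IsTrivialBlock at hnt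
  rw [not_or] at hnt
  obtain ⟨hns, hnu⟩ := hnt
  rw [Set.not_subsingleton_iff] at hns
  obtain ⟨b₁, hb₁, b₂, hb₂, hne⟩ := hns
  -- some generator moves `B`
  have hex : ∃ c ∈ C, (c : Perm β) • B ≠ B := by
    by_contra hall
    push Not at hall
    have hle : R ≤ MulAction.stabilizer (Perm β) B := by
      rw [hR, Subgroup.closure_le]
      intro c hc
      exact hall c hc
    apply hnu
    rw [Set.eq_univ_iff_forall]
    intro y
    obtain ⟨r, hr⟩ := MulAction.exists_smul_eq R b₁ y
    have h1 : (r : Perm β) • B = B := hle r.2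
    rw [← h1, ← hr]
    exact Set.smul_mem_smul_set hb₁
  obtain ⟨c, hc, hcB⟩ := hex
  have hcR : c ∈ R := by rw [hR]; exact Subgroup.subset_closure hc
  have hdisj : Disjoint ((⟨c, hcR⟩ : R) • B) B := by
    rcases hB.smul_eq_or_disjoint ⟨c, hcR⟩ with h | h
    · exact absurd h hcB
    · exact h
  have hmem : ∀ b ∈ B, c b ∈ (⟨c, hcR⟩ : R) • B := fun b hb => ⟨b, hb, rfl⟩
  have hmove : ∀ b ∈ B, c b ≠ b := by
    intro b hb h
    have h1 := hmem b hb
    rw [h] at h1
    exact Set.disjoint_left.mp hdisj h1 hb
  rcases threeCycle_adj (hC c hc) (hmove b₁ hb₁) (hmove b₂ hb₂) hne with h | h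
  · have h1 := hmem b₁ hb₁
    rw [h] at h1
    exact Set.disjoint_left.mp hdisj h1 hb₂
  · have h1 := hmem b₂ hb₂
    rw [h] at h1
    exact Set.disjoint_left.mp hdisj h1 hb₁

end prim

section main

variable {α : Type*} [Fintype α] [DecidableEq α]

/-- A group generated by 3-cycles supported in `p` and transitive on `p` is the alternating group
of `p`. -/
theorem closure_threeCycles_eq_alt (p : α → Prop) [DecidablePred p]
    (C : Set (Perm α)) (hC3 : ∀ c ∈ C, c.IsThreeCycle) (hCp : ∀ c ∈ C, ∀ x, c x ≠ x → p x)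
    (hne : C.Nonempty)
    (htr : ∀ x y, p x → p y → ∃ k ∈ Subgroup.closure C, k x = y) :
    Subgroup.closure C =
      (alternatingGroup (Subtype p)).map (ofSubtype : Perm (Subtype p) →* Perm α) := by
  set C' : Set (Perm (Subtype p)) := {r | ofSubtype r ∈ C} with hC'
  have h1 : (ofSubtype : Perm (Subtype p) →* Perm α) '' C' = C := by
    ext c
    constructor
    · rintro ⟨r, hr, rfl⟩; exact hr
    · intro hc
      have hinv : ∀ x, p (c x) ↔ p x := by
        intro x
        by_cases hx : c x = x
        · rw [hx]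
        · have h2 : c (c x) ≠ c x := fun h => hx (c.injective h)
          exact ⟨fun _ => hCp c hc x hx, fun _ => hCp c hc (c x) h2⟩
      have hof : ofSubtype (subtypePerm c hinv) = c := ofSubtype_subtypePerm hinv (hCp c hc)
      exact ⟨subtypePerm c hinv, by rw [hC']; simpa [hof] using hc, hof⟩
  set R : Subgroup (Perm (Subtype p)) := Subgroup.closure C' with hR
  have h2 : R.map (ofSubtype : Perm (Subtype p) →* Perm α) = Subgroup.closure C := by
    rw [hR, MonoidHom.map_closure, h1]
  have h3 : ∀ r ∈ C', r.IsThreeCycle := by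
    intro r hr
    have := hC3 _ hr
    unfold IsThreeCycle at this ⊢
    rwa [cycleType_ofSubtype] at this
  haveI h4 : IsPretransitive R (Subtype p) := by
    refine ⟨fun x y => ?_⟩
    obtain ⟨k, hk, hkx⟩ := htr x y x.2 y.2
    rw [← h2] at hk
    obtain ⟨r, hr, rfl⟩ := hk
    refine ⟨⟨r, hr⟩, ?_⟩
    apply Subtype.ext
    rw [ofSubtype_apply_coe] at hkx
    exact hkx
  have h5 : IsPreprimitive R (Subtype p) := isPreprimitive_of_threeCycle_gen C' h3 R hR
  obtain ⟨c, hc⟩ := hne
  rw [← h1] at hc
  obtain ⟨r, hr, -⟩ := hc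
  have h6 : alternatingGroup (Subtype p) ≤ R :=
    alternatingGroup_le_of_isPreprimitive_of_isThreeCycle_mem h5 (h3 r hr)
      (Subgroup.subset_closure hr)
  have h7 : R ≤ alternatingGroup (Subtype p) := by
    rw [hR, Subgroup.closure_le]
    intro r hr
    exact (h3 r hr).mem_alternatingGroup
  rw [← h2, le_antisymm h7 h6]

end main

end Cfsg.Agent.Lib.Helper14.ThreeCycGen
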