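import Mathlib
import Cfsg.Prelude.Def_Local
import Cfsg.Agent.Lib.Helper8.Components
import Cfsg.Agent.Lib.Helper14.ThreeCycGen

/-!
Pieces for S2929: Sylow conjugation inside a subgroup, 3-cycles and perfect subgroups.
-/

set_option autoImplicit false

namespace Cfsg.Agent.Lib.Helper14.Syl3Over

open Equiv Equiv.Perm
open scoped Pointwise

/-- Sylow conjugation inside a subgroup `Y` containing the Sylow subgroup `P`. -/
theorem exists_conj_mem_sylow {G : Type*} [Group G] [Finite G] {p : ℕ} [Fact p.Prime]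
    (P : Sylow p G) (Y : Subgroup G) (hPY : (P : Subgroup G) ≤ Y) (d : G) (hdY : d ∈ Y)
    (hd : orderOf d = p) : ∃ y ∈ Y, y * d * y⁻¹ ∈ (P : Subgroup G) := by
  let P' : Sylow p ↥Y := P.subtype hPY
  let d' : ↥Y := ⟨d, hdY⟩
  have hpg : IsPGroup p (Subgroup.zpowers d') := by
    apply IsPGroup.of_card (n := 1)
    rw [Nat.card_zpowers, pow_one, ← hd]
    exact Subgroup.orderOf_mk d hdY
  obtain ⟨Q, hQ⟩ := hpg.exists_le_sylow
  obtain ⟨y, hy⟩ := MulAction.exists_smul_eq ↥Y Q P'
  refine ⟨y, y.2, ?_⟩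
  have h1 : y * d' * y⁻¹ ∈ (P' : Subgroup ↥Y) := by
    rw [← hy, Sylow.coe_subgroup_smul, Subgroup.mem_pointwise_smul_iff_inv_smul_mem]
    rw [MulAut.smul_def, MulAut.conj_inv_apply]
    have : y⁻¹ * (y * d' * y⁻¹) * y = d' := by group
    rw [this]
    exact hQ (Subgroup.mem_zpowers d')
  have h2 : (P' : Subgroup ↥Y) = (P : Subgroup G).subgroupOf Y := Sylow.coe_subtype P hPY
  rw [h2, Subgroup.mem_subgroupOf] at h1
  simpa [d'] using h1

variable {n : ℕ}

/-- A perfect subgroup of `Perm` cannot contain a central 3-cycle. -/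
theorem no_central_threeCycle (L : Subgroup (Perm (Fin n))) (hperf : ⁅L, L⁆ = L)
    (c : Perm (Fin n)) (hc3 : c.IsThreeCycle) (hcL : c ∈ L) (hcc : ∀ l ∈ L, c * l = l * c) :
    False := by
  obtain ⟨a, ha⟩ : ∃ a, c a ≠ a := by
    by_contra h
    push Not at h
    have : c = 1 := Equiv.ext h
    rw [this] at hc3
    exact hc3.ne_one rfl
  -- each l ∈ L shifts the cycle of `a`
  have hshift : ∀ l ∈ L, ∃ i : ℤ, ∀ k : ℤ, l ((c ^ k) a) = (c ^ (k + i)) a := by
    intro l hl
    have hcomm : Commute c l := hcc l hl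
    have hla : c (l a) ≠ l a := by
      intro h
      have h1 : l (c a) = l a := by
        have := congrArg (fun f : Perm (Fin n) => f a) (hcc l hl)
        simp only [Perm.mul_apply] at this
        rw [← this]; exact h
      exact ha (l.injective h1)
    obtain ⟨i, hi⟩ := hc3.isCycle.exists_zpow_eq ha hla
    refine ⟨i, fun k => ?_⟩
    have h1 : Commute (c ^ k) l := hcomm.zpow_left k
    have h2 := congrArg (fun f : Perm (Fin n) => f a) h1.eq
    simp only [Perm.mul_apply] at h2
    rw [← h2, ← hi, zpow_add, Perm.mul_apply]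
  have hstab : L ≤ MulAction.stabilizer (Perm (Fin n)) a := by
    rw [← hperf, Subgroup.commutator_le]
    intro l hl l' hl'
    rw [MulAction.mem_stabilizer_iff]
    obtain ⟨i, hi⟩ := hshift l hl
    obtain ⟨j, hj⟩ := hshift l' hl'
    have hinv : ∀ k : ℤ, l⁻¹ ((c ^ k) a) = (c ^ (k - i)) a := by
      intro k
      rw [Perm.inv_eq_iff_eq, hi, sub_add_cancel]
    have hinv' : ∀ k : ℤ, l'⁻¹ ((c ^ k) a) = (c ^ (k - j)) a := by
      intro k
      rw [Perm.inv_eq_iff_eq, hj, sub_add_cancel]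
    have h0 : a = (c ^ (0 : ℤ)) a := by simp
    rw [commutatorElement_def, Perm.smul_def, Perm.mul_apply, Perm.mul_apply, Perm.mul_apply]
    conv_lhs => rw [h0]
    rw [hinv', hinv, hj, hi]
    have : (0 : ℤ) - j - i + j + i = 0 := by ring
    rw [this]
    simp
  have := hstab hcL
  rw [MulAction.mem_stabilizer_iff, Perm.smul_def] at this
  exact ha this

end Cfsg.Agent.Lib.Helper14.Syl3Over
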