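import Mathlib
import Cfsg.Prelude.Def_Local
import Cfsg.Agent.Lib.Helper8.Components
import Cfsg.Agent.Lib.Helper14.ThreeCycGen
import Cfsg.Agent.Lib.Helper14.Syl3OverA
import Cfsg.Agent.S4337

/-!
Main argument for S2929: a quasisimple normal self-centralizing subgroup `L` of `H ≤ S_n`, where `H`
contains a Sylow 3-subgroup of `S_n`, is an alternating group of degree at least `n - 2`.
-/

set_option autoImplicit false

namespace Cfsg.Agent.Lib.Helper14.Syl3Over

open Equiv Equiv.Perm
open scoped Pointwise commutatorElement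
open Cfsg.Agent.Lib.Helper8
open Cfsg.Agent.Lib.Helper14.ThreeCycGen

variable {n : ℕ}

theorem main (hn : 3 ≤ n) (H L : Subgroup (Perm (Fin n))) (P : Sylow 3 (Perm (Fin n)))
    (hPH : (P : Subgroup (Perm (Fin n))) ≤ H) (hLH : L ≤ H)
    (hnorm : ∀ h ∈ H, ∀ l ∈ L, h * l * h⁻¹ ∈ L)
    (hcent : ∀ g ∈ H, (∀ l ∈ L, g * l = l * g) → g ∈ L)
    (hq : Cfsg.IsQuasisimple ↥L) :
    ∃ m : ℕ, (m = n - 2 ∨ m = n - 1 ∨ m = n) ∧
      Nonempty (↥L ≃* ↥(alternatingGroup (Fin m))) := by
  classical
  haveI : Fact (Nat.Prime 3) := ⟨Nat.prime_three⟩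
  have hperf : ⁅L, L⁆ = L := Subgroup.isPerfect_iff.mp hq.1
  haveI hLnt : Nontrivial ↥L := isQuasisimple_nontrivial hq
  have hnsolv : ¬ Group.IsSolvable ↥L := isQuasisimple_not_isSolvable hq
  -- (A') no 3-cycle of `H` centralizes `L`
  have hA : ∀ c ∈ H, c.IsThreeCycle → ¬ (∀ l ∈ L, c * l = l * c) := by
    intro c hcH hc3 hcc
    exact no_central_threeCycle L hperf c hc3 (hcent c hcH hcc) hcc
  -- (F') no 3-cycle at all centralizes `L`
  have hF : ∀ d : Perm (Fin n), d.IsThreeCycle → ¬ (∀ l ∈ L, d * l = l * d) := by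
    intro d hd3 hdc
    set Y : Subgroup (Perm (Fin n)) := Subgroup.normalizer (L : Set (Perm (Fin n))) with hY
    have hHY : H ≤ Y := by
      intro h hh
      rw [hY, Subgroup.mem_normalizer_iff]
      intro x
      constructor
      · intro hx; exact hnorm h hh x hx
      · intro hx
        have := hnorm h⁻¹ (H.inv_mem hh) _ hx
        have e : h⁻¹ * (h * x * h⁻¹) * h⁻¹⁻¹ = x := by group
        rwa [e] at this
    have hdY : d ∈ Y := by
      rw [hY, Subgroup.mem_normalizer_iff]
      intro x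
      constructor
      · intro hx
        have : d * x * d⁻¹ = x := by rw [hdc x hx]; group
        rw [this]; exact hx
      · intro hx
        have h1 := hdc _ hx
        have h2 : d * x * d⁻¹ = x := mul_left_cancel (a := d) (h1.trans (by group))
        rwa [h2] at hx
    obtain ⟨y, hyY, hyP⟩ := exists_conj_mem_sylow P Y (hPH.trans hHY) d hdY hd3.orderOf
    have hd'3 : (y * d * y⁻¹).IsThreeCycle := by
      unfold IsThreeCycle at hd3 ⊢
      rwa [cycleType_conj]
    apply hA (y * d * y⁻¹) (hPH hyP) hd'3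
    intro l hl
    have hl0 : y⁻¹ * l * y ∈ L := by
      rw [hY, Subgroup.mem_normalizer_iff] at hyY
      rw [hyY (y⁻¹ * l * y)]
      have e : y * (y⁻¹ * l * y) * y⁻¹ = l := by group
      rw [e]; exact hl
    have h1 := hdc _ hl0
    have e1 : y * d * y⁻¹ * l = y * (d * (y⁻¹ * l * y)) * y⁻¹ := by group
    have e2 : l * (y * d * y⁻¹) = y * ((y⁻¹ * l * y) * d) * y⁻¹ := by group
    rw [e1, e2, h1]
  -- a 3-cycle in `H`
  obtain ⟨c, hcH, hc3⟩ : ∃ c ∈ H, c.IsThreeCycle := by
    let x0 : Fin n := ⟨0, by omega⟩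
    let x1 : Fin n := ⟨1, by omega⟩
    let x2 : Fin n := ⟨2, by omega⟩
    have h01 : x0 ≠ x1 := by simp [x0, x1, Fin.ext_iff]
    have h02 : x0 ≠ x2 := by simp [x0, x2, Fin.ext_iff]
    have h12 : x1 ≠ x2 := by simp [x1, x2, Fin.ext_iff]
    have hc0 : (swap x0 x1 * swap x0 x2).IsThreeCycle := isThreeCycle_swap_mul_swap_same h01 h02 h12
    obtain ⟨y, -, hyP⟩ := exists_conj_mem_sylow P ⊤ le_top _ (Subgroup.mem_top _) hc0.orderOf
    refine ⟨_, hPH hyP, ?_⟩
    unfold IsThreeCycle at hc0 ⊢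
    rwa [cycleType_conj]
  -- the group generated by the `L`-conjugates of `c`
  set C : Set (Perm (Fin n)) := {g | ∃ l ∈ L, g = l * c * l⁻¹} with hCdef
  set K : Subgroup (Perm (Fin n)) := Subgroup.closure C with hKdef
  have hC3 : ∀ g ∈ C, g.IsThreeCycle := by
    rintro g ⟨l, -, rfl⟩
    unfold IsThreeCycle at hc3 ⊢
    rwa [cycleType_conj]
  have hcC : c ∈ C := ⟨1, L.one_mem, by simp⟩
  have hcK : c ∈ K := Subgroup.subset_closure hcC
  have hKH : K ≤ H := by
    rw [hKdef, Subgroup.closure_le]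
    rintro g ⟨l, hl, rfl⟩
    exact H.mul_mem (H.mul_mem (hLH hl) hcH) (H.inv_mem (hLH hl))
  have hKnorm : ∀ l ∈ L, ∀ k ∈ K, l * k * l⁻¹ ∈ K := by
    intro l hl k hk
    induction hk using Subgroup.closure_induction with
    | mem x hx =>
      obtain ⟨l₁, hl₁, rfl⟩ := hx
      apply Subgroup.subset_closure
      exact ⟨l * l₁, L.mul_mem hl hl₁, by group⟩
    | one => simp
    | mul x y _ _ hx hy =>
      have e : l * (x * y) * l⁻¹ = (l * x * l⁻¹) * (l * y * l⁻¹) := by group
      rw [e]; exact K.mul_mem hx hy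
    | inv x _ hx =>
      have e : l * x⁻¹ * l⁻¹ = (l * x * l⁻¹)⁻¹ := by group
      rw [e]; exact K.inv_mem hx
  -- (B) `L ≤ K`
  have hLK : L ≤ K := by
    have hN : (K.subgroupOf L).Normal := by
      constructor
      intro x hx g
      rw [Subgroup.mem_subgroupOf] at hx ⊢
      exact hKnorm g g.2 x hx
    rcases quasisimple_normal hq (K.subgroupOf L) hN with h | h
    · intro l hl
      have : (⟨l, hl⟩ : L) ∈ K.subgroupOf L := by rw [h]; exact Subgroup.mem_top _
      rwa [Subgroup.mem_subgroupOf] at this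
    · exfalso
      apply hA c hcH hc3
      have h1 : ⁅⁅Subgroup.zpowers c, L⁆, L⁆ = ⊥ := by
        rw [Subgroup.commutator_eq_bot_iff_le_centralizer, Subgroup.commutator_le]
        intro x hx l hl
        have hxK : x ∈ K := by
          rw [Subgroup.mem_zpowers_iff] at hx
          obtain ⟨i, rfl⟩ := hx
          exact K.zpow_mem hcK i
        have hzL : ⁅x, l⁆ ∈ L := by
          rw [commutatorElement_def]
          exact L.mul_mem (hnorm x (hKH hxK) l hl) (L.inv_mem hl)
        have hzK : ⁅x, l⁆ ∈ K := by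
          rw [commutatorElement_def]
          have e : x * l * x⁻¹ * l⁻¹ = x * (l * x⁻¹ * l⁻¹) := by group
          rw [e]
          exact K.mul_mem hxK (hKnorm l hl _ (K.inv_mem hxK))
        have hz : (⟨⁅x, l⁆, hzL⟩ : L) ∈ Subgroup.center ↥L := h (by
          rw [Subgroup.mem_subgroupOf]; exact hzK)
        rw [Subgroup.mem_center_iff] at hz
        rw [Subgroup.mem_centralizer_iff]
        intro g hg
        have := hz ⟨g, hg⟩
        exact congrArg Subtype.val this
      have h2 := commutator_eq_bot_of_perfect L (Subgroup.zpowers c) hperf h1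
      rw [Subgroup.commutator_eq_bot_iff_le_centralizer] at h2
      have h3 := h2 (Subgroup.mem_zpowers c)
      rw [Subgroup.mem_centralizer_iff] at h3
      intro l hl
      exact (h3 l hl).symm
  -- the orbit
  obtain ⟨a, ha⟩ : ∃ a, c a ≠ a := by
    by_contra h
    push Not at h
    have : c = 1 := Equiv.ext h
    rw [this] at hc3
    exact hc3.ne_one rfl
  let p : Fin n → Prop := fun x => x ∈ MulAction.orbit K a
  have hp_iff : ∀ x, p x ↔ ∃ k ∈ K, k a = x := by
    intro x
    constructor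
    · rintro ⟨k, hk⟩
      exact ⟨k, k.2, hk⟩
    · rintro ⟨k, hk, rfl⟩
      exact ⟨⟨k, hk⟩, rfl⟩
  have hCp : ∀ g ∈ C, ∀ x, g x ≠ x → p x := by
    rintro g ⟨l, hl, rfl⟩ x hx
    have h1 : c (l⁻¹ x) ≠ l⁻¹ x := by
      intro h
      apply hx
      simp only [Perm.mul_apply]
      rw [h]; simp
    obtain ⟨i, hi⟩ := hc3.isCycle.exists_zpow_eq ha h1
    rw [hp_iff]
    refine ⟨l * c ^ i, K.mul_mem (hLK hl) (K.zpow_mem hcK i), ?_⟩
    rw [Perm.mul_apply, hi]; simp
  have htr : ∀ x y, p x → p y → ∃ k ∈ Subgroup.closure C, k x = y := by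
    intro x y hx hy
    obtain ⟨k₁, hk₁, rfl⟩ := (hp_iff x).mp hx
    obtain ⟨k₂, hk₂, rfl⟩ := (hp_iff y).mp hy
    exact ⟨k₂ * k₁⁻¹, K.mul_mem hk₂ (K.inv_mem hk₁), by simp⟩
  have hKeq : K = (alternatingGroup (Subtype p)).map (ofSubtype : Perm (Subtype p) →* Perm (Fin n)) :=
    closure_threeCycles_eq_alt p C hC3 hCp ⟨c, hcC⟩ htr
  -- the isomorphism
  set m := Fintype.card (Subtype p) with hm
  let e1 : ↥(alternatingGroup (Subtype p)) ≃*
      ↥((alternatingGroup (Subtype p)).map (ofSubtype : Perm (Subtype p) →* Perm (Fin n))) :=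
    Subgroup.equivMapOfInjective _ _ ofSubtype_injective
  let e2 : ↥K ≃*
      ↥((alternatingGroup (Subtype p)).map (ofSubtype : Perm (Subtype p) →* Perm (Fin n))) :=
    MulEquiv.subgroupCongr hKeq
  let e3 : ↥(alternatingGroup (Subtype p)) ≃* ↥(alternatingGroup (Fin m)) :=
    Equiv.altCongrHom (Fintype.equivFin (Subtype p))
  let eK : ↥K ≃* ↥(alternatingGroup (Fin m)) := e2.trans (e1.symm.trans e3)
  have hm5 : 5 ≤ m := by
    by_contra hlt
    push Not at hlt
    apply hnsolv
    haveI : Group.IsSolvable (Perm (Subtype p)) :=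
      ⟨⟨3, Cfsg.Agent.S4337.derivedSeries_perm_small (by omega)⟩⟩
    let f : ↥L →* Perm (Subtype p) :=
      (alternatingGroup (Subtype p)).subtype.comp
        ((e2.trans e1.symm).toMonoidHom.comp (Subgroup.inclusion hLK))
    have hf : Function.Injective f := by
      intro x y hxy
      have h1 := Subtype.val_injective hxy
      have h2 := (e2.trans e1.symm).injective h1
      exact Subgroup.inclusion_injective hLK h2
    exact solvable_of_solvable_injective hf
  -- `L = K`
  have hKL : K ≤ L := by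
    haveI : IsSimpleGroup ↥(alternatingGroup (Fin m)) :=
      alternatingGroup.isSimpleGroup (by simpa using hm5)
    have hN : (L.subgroupOf K).Normal := by
      constructor
      intro x hx g
      rw [Subgroup.mem_subgroupOf] at hx ⊢
      exact hnorm g (hKH g.2) x hx
    have hN' : ((L.subgroupOf K).map eK.toMonoidHom).Normal :=
      hN.map _ eK.surjective
    rcases hN'.eq_bot_or_eq_top with h | h
    · exfalso
      rw [Subgroup.map_eq_bot_iff_of_injective _ eK.injective] at h
      obtain ⟨x, hx⟩ := exists_ne (1 : ↥L)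
      apply hx
      have : (⟨x, hLK x.2⟩ : K) ∈ L.subgroupOf K := by
        rw [Subgroup.mem_subgroupOf]; exact x.2
      rw [h, Subgroup.mem_bot] at this
      have h5 : ((⟨x, hLK x.2⟩ : K) : Perm (Fin n)) = ((1 : K) : Perm (Fin n)) :=
        congrArg Subtype.val this
      exact Subtype.ext h5
    · intro k hk
      have h1 : eK.toMonoidHom ⟨k, hk⟩ ∈ (L.subgroupOf K).map eK.toMonoidHom := by
        rw [h]; exact Subgroup.mem_top _
      obtain ⟨x, hx, hxk⟩ := h1
      have h2 : x = ⟨k, hk⟩ := eK.injective hxk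
      rw [h2] at hx
      have hx' : (⟨k, hk⟩ : K) ∈ L.subgroupOf K := hx
      rw [Subgroup.mem_subgroupOf] at hx'
      exact hx'
  have hLKeq : L = K := le_antisymm hLK hKL
  refine ⟨m, ?_, ⟨(MulEquiv.subgroupCongr hLKeq).trans eK⟩⟩
  -- the degree
  have hmn : m ≤ n := by
    have := Fintype.card_subtype_le p
    simpa using this
  have hcompl : Fintype.card {x // ¬ p x} = n - m := by
    rw [Fintype.card_subtype_compl, Fintype.card_fin]
  have h2 : n - m ≤ 2 := by
    by_contra hlt
    push Not at hlt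
    have h3 : 2 < Fintype.card {x // ¬ p x} := by rw [hcompl]; exact hlt
    obtain ⟨x, y, z, hxy, hxz, hyz⟩ := Fintype.two_lt_card_iff.mp h3
    have hxy' : (x : Fin n) ≠ y := fun h => hxy (Subtype.ext h)
    have hxz' : (x : Fin n) ≠ z := fun h => hxz (Subtype.ext h)
    have hyz' : (y : Fin n) ≠ z := fun h => hyz (Subtype.ext h)
    have hd3 : (swap (x : Fin n) y * swap (x : Fin n) z).IsThreeCycle :=
      isThreeCycle_swap_mul_swap_same hxy' hxz' hyz'
    apply hF _ hd3
    intro l hl
    have hlK := hLK hl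
    rw [hKeq] at hlK
    obtain ⟨r, -, rfl⟩ := hlK
    apply Perm.Disjoint.commute
    intro w
    by_cases hw : p w
    · left
      have hwx : w ≠ x := fun h => x.2 (h ▸ hw)
      have hwy : w ≠ y := fun h => y.2 (h ▸ hw)
      have hwz : w ≠ z := fun h => z.2 (h ▸ hw)
      rw [Perm.mul_apply, swap_apply_of_ne_of_ne hwx hwz, swap_apply_of_ne_of_ne hwx hwy]
    · right
      exact ofSubtype_apply_of_not_mem r hw
  omega

end Cfsg.Agent.Lib.Helper14.Syl3Over
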