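/-
helper14: leaf A6 of helper27's S4607 plan, exact statement (wrapper of `SymAlgA6Core.comm_core`
with helper21's A0 `finrank_perp` and A1 `perp_commSpan`).
-/
import Cfsg.Agent.Lib.Helper14.SymAlgA6Core
import Cfsg.Agent.Lib.Helper21.SymAlgA0
import Cfsg.Agent.Lib.Helper21.SymAlgA1

set_option autoImplicit false

namespace Cfsg.Agent.Lib.Helper14.SymAlgA6

open Cfsg.Agent.Lib.Helper27.SymAlg

variable {F : Type*} [Field F]

/-- LEAF A6 (local symmetric algebras, Kuelshammer): an augmented symmetric algebra `C = F ⊕ 𝔫`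
with nilpotent augmentation ideal `𝔫` and centre of dimension `≤ 2` is commutative. -/
theorem comm_of_finrank_center_le_two {C : Type*} [Ring C] [Algebra F C] [FiniteDimensional F C]
    {lam : C →ₗ[F] F} (hlam : IsSymForm lam) (aug : C →ₐ[F] F) (N : ℕ)
    (hN : ∀ f : Fin N → C, (∀ i, aug (f i) = 0) → (List.ofFn f).prod = 0)
    (hZ : Module.finrank F (Subalgebra.center F C) ≤ 2) : ∀ x y : C, x * y = y * x :=
  comm_core (Cfsg.Agent.Lib.Helper21.SymAlgA0.finrank_perp hlam (commSpan F C))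
    (Cfsg.Agent.Lib.Helper21.SymAlgA1.perp_commSpan hlam) aug N hN hZ

end Cfsg.Agent.Lib.Helper14.SymAlgA6
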