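/-
helper14: S4885 / S4886 leaf (CG): an `A`-invariant linear character of an abelian normal subgroup
`V`, trivial on `V ∩ A`, extends to `VA` by `va ↦ λ(v)`.
-/
import Mathlib
import Cfsg.Prelude.Def_Blocks
import Cfsg.Agent.Lib.Helper6.Clifford
import Cfsg.Agent.Lib.Helper6.LinChar
import Cfsg.Agent.Lib.Helper6.CentralHom

set_option autoImplicit false

namespace Cfsg.Agent.Lib.Helper14.TP

open Cfsg Cfsg.Agent.CharLib Cfsg.Agent.Lib.Helper6
open scoped commutatorElement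

universe u

variable {H : Type u} [Group H] [Finite H]

/-- An irreducible character of an abelian group has degree one. -/
theorem irr_apply_one_of_comm {V : Type u} [Group V] [Finite V]
    (hab : ∀ x y : V, x * y = y * x) (lam : IrrCharacter V) : (lam : V → ℂ) 1 = 1 := by
  apply IsIrrCharacter.apply_one_eq_one_of_commutator lam.2
  intro g k
  have : (⁅g, k⁆ : V) = 1 := by
    rw [commutatorElement_def, hab g k]
    group
  rw [this]

theorem exists_linear_extension (V A : Subgroup H) [hVn : V.Normal]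
    (hVab : ∀ x ∈ V, ∀ y ∈ V, x * y = y * x) (lam : IrrCharacter V)
    (hinv : ∀ a ∈ A, Cfsg.Agent.Lib.Helper6.conjFun V a (lam : V → ℂ) = lam)
    (htriv : ∀ v : V, (v : H) ∈ A → (lam : V → ℂ) v = 1) :
    ∃ μ : IrrCharacter ↥(V ⊔ A), charDegree (μ : ↥(V ⊔ A) → ℂ) = 1 ∧
      ∀ v : V, (μ : ↥(V ⊔ A) → ℂ) ⟨(v : H), Subgroup.mem_sup_left v.2⟩ = (lam : V → ℂ) v := by
  classical
  have hab : ∀ x y : V, x * y = y * x := fun x y => Subtype.ext (hVab x x.2 y y.2)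
  have h1 : (lam : V → ℂ) 1 = 1 := irr_apply_one_of_comm hab lam
  set φ : V →* ℂˣ := linCharUnitsHom (IsIrrCharacter.isCharacter lam.2) h1 with hφ
  have hφv : ∀ v : V, ((φ v : ℂˣ) : ℂ) = (lam : V → ℂ) v := fun v => rfl
  -- decomposition
  have hdec : ∀ y : ↥(V ⊔ A), ∃ v : V, ∃ a ∈ A, (y : H) = (v : H) * a := by
    intro y
    have hy := y.2
    rw [← SetLike.mem_coe, Subgroup.normal_mul, Set.mem_mul] at hy
    obtain ⟨v, hv, a, ha, h⟩ := hy
    exact ⟨⟨v, hv⟩, a, ha, h.symm⟩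
  -- invariance in terms of `φ`
  have hφinv : ∀ a ∈ A, ∀ v : V, φ ⟨a * v * a⁻¹, hVn.conj_mem v v.2 a⟩ = φ v := by
    intro a ha v
    apply Units.ext
    rw [hφv, hφv]
    have := congrFun (hinv a ha) v
    rwa [conjFun_apply] at this
  have hφtriv : ∀ v : V, (v : H) ∈ A → φ v = 1 := by
    intro v hv
    apply Units.ext
    rw [hφv, htriv v hv]
    rfl
  -- independence of the decomposition
  have hwd : ∀ (v v' : V) (a a' : H), a ∈ A → a' ∈ A → (v : H) * a = (v' : H) * a' →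
      φ v = φ v' := by
    intro v v' a a' ha ha' h
    have h2 : ((v'⁻¹ * v : V) : H) ∈ A := by
      have : ((v'⁻¹ * v : V) : H) = a' * a⁻¹ := by
        rw [Subgroup.coe_mul, Subgroup.coe_inv]
        have h3 : (v : H) = (v' : H) * a' * a⁻¹ := by rw [← h]; group
        rw [h3]; group
      rw [this]
      exact A.mul_mem ha' (A.inv_mem ha)
    have h3 := hφtriv _ h2
    rw [map_mul, map_inv] at h3
    calc φ v = φ v' * ((φ v')⁻¹ * φ v) := by group
      _ = φ v' := by rw [h3, mul_one]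
  let f : ↥(V ⊔ A) → ℂˣ := fun y => φ (Classical.choose (hdec y))
  have hf : ∀ (y : ↥(V ⊔ A)) (v : V) (a : H), a ∈ A → (y : H) = (v : H) * a → f y = φ v := by
    intro y v a ha h
    obtain ⟨a', ha', h'⟩ := Classical.choose_spec (hdec y)
    exact hwd _ v a' a ha' ha (h'.symm.trans h)
  let F : ↥(V ⊔ A) →* ℂˣ := MonoidHom.mk' f (by
    intro y₁ y₂
    obtain ⟨v₁, a₁, ha₁, h₁⟩ := hdec y₁
    obtain ⟨v₂, a₂, ha₂, h₂⟩ := hdec y₂
    have h12 : ((y₁ * y₂ : ↥(V ⊔ A)) : H) =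
        ((v₁ * ⟨a₁ * v₂ * a₁⁻¹, hVn.conj_mem v₂ v₂.2 a₁⟩ : V) : H) * (a₁ * a₂) := by
      rw [Subgroup.coe_mul, h₁, h₂, Subgroup.coe_mul]
      group
    rw [hf _ _ _ (A.mul_mem ha₁ ha₂) h12, hf y₁ v₁ a₁ ha₁ h₁, hf y₂ v₂ a₂ ha₂ h₂, map_mul,
      hφinv a₁ ha₁ v₂])
  refine ⟨⟨fun y => ((F y : ℂˣ) : ℂ), isIrrCharacter_of_hom F⟩, ?_, ?_⟩
  · show charDegree (fun y : ↥(V ⊔ A) => ((F y : ℂˣ) : ℂ)) = 1
    unfold charDegree
    show ⌊(((F 1 : ℂˣ) : ℂ)).re⌋₊ = 1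
    rw [map_one]
    simp
  · intro v
    show ((f ⟨(v : H), Subgroup.mem_sup_left v.2⟩ : ℂˣ) : ℂ) = (lam : V → ℂ) v
    rw [hf ⟨(v : H), Subgroup.mem_sup_left v.2⟩ v 1 A.one_mem (by simp), hφv]

end Cfsg.Agent.Lib.Helper14.TP
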