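/-
helper14: S4885 / S4886 leaf (NQ1): the hypothesis of NAV passes to quotients.
-/
import Mathlib
import Cfsg.Prelude.Def_Blocks
import Cfsg.Agent.Lib.Helper24.Deflation
import Cfsg.Agent.Lib.Helper14.TPDefs

set_option autoImplicit false

namespace Cfsg.Agent.Lib.Helper14.TP

open Cfsg Cfsg.Agent.Lib.Helper2.Glaub

universe u

variable {Γ : Type u} [Group Γ] [Finite Γ]

/-- pullback of an irreducible character along a surjective homomorphism -/
theorem isIrrCharacter_comp_surjective {A B : Type u} [Group A] [Group B] (f : A →* B)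
    (hf : Function.Surjective f) (θ : IrrCharacter B) :
    IsIrrCharacter A (fun a => (θ : B → ℂ) (f a)) := by
  obtain ⟨θf, n, ρ, hirr, rfl⟩ := θ
  exact ⟨n, (MonoidHom.comp ρ f : Representation ℂ A (Fin n → ℂ)),
    (Cfsg.Agent.Lib.Helper24.isIrreducible_comp_iff f hf ρ).mpr hirr, rfl⟩

theorem navHyp_map (q : ℕ) (N K A : Subgroup Γ) [N.Normal] (h : NavHyp q K A) :
    NavHyp q (K.map (QuotientGroup.mk' N)) (A.map (QuotientGroup.mk' N)) := by
  intro θ hθ
  let φ : K →* K.map (QuotientGroup.mk' N) := (QuotientGroup.mk' N).subgroupMap K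
  have hφs : Function.Surjective φ := MonoidHom.subgroupMap_surjective (QuotientGroup.mk' N) K
  have hφv : ∀ k : K, ((φ k : K.map (QuotientGroup.mk' N)) : Γ ⧸ N) = (QuotientGroup.mk' N) k := fun k => rfl
  let θ₀ : IrrCharacter K := ⟨fun k => (θ : K.map (QuotientGroup.mk' N) → ℂ) (φ k), isIrrCharacter_comp_surjective φ hφs θ⟩
  have hinv : InvUnder K A (θ₀ : K → ℂ) := by
    intro t ht g g' hg'
    show (θ : K.map (QuotientGroup.mk' N) → ℂ) (φ g') = (θ : K.map (QuotientGroup.mk' N) → ℂ) (φ g)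
    apply hθ ((QuotientGroup.mk' N) t) (Subgroup.mem_map_of_mem (QuotientGroup.mk' N) ht) (φ g) (φ g')
    rw [hφv, hφv, hg', map_mul, map_mul, map_inv]
  have h1 := h θ₀ hinv
  have h2 : charDegree (θ₀ : K → ℂ) = charDegree (θ : K.map (QuotientGroup.mk' N) → ℂ) := by
    unfold charDegree
    show ⌊((θ : K.map (QuotientGroup.mk' N) → ℂ) (φ 1)).re⌋₊ = _
    rw [map_one]
  rwa [h2] at h1

end Cfsg.Agent.Lib.Helper14.TP
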