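/-
helper14: S4885 + S4886, the leaves (thin wrappers over the modules of the seats that proved them;
signatures = `notes/S4885_leaves.lean`).
-/
import Mathlib
import Cfsg.Prelude.Def_Blocks
import Cfsg.Prelude.Def_Local
import Cfsg.Agent.Lib.Helper6.Clifford
import Cfsg.Agent.Lib.Helper6.CliffordCorr
import Cfsg.Agent.Lib.Helper24.PSolvable
import Cfsg.Agent.Lib.Helper14.TPDefs
import Cfsg.Agent.Lib.Helper11.TPCC
import Cfsg.Agent.Lib.Helper11.TPCF
import Cfsg.Agent.Lib.Helper14.TPCG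
import Cfsg.Agent.Lib.Helper14.TPNQ1
import Cfsg.Agent.Lib.Helper20.TPNV2
import Cfsg.Agent.Lib.Helper20.TPNV3
import Cfsg.Agent.Lib.Helper22.TPL1
import Cfsg.Agent.Lib.Helper22.TPL2
import Cfsg.Agent.Lib.Helper22.TPNV6
import Cfsg.Agent.Lib.Helper23.TPFD
import Cfsg.Agent.Lib.Helper24.TPCD
import Cfsg.Agent.Lib.Helper24.TPFB
import Cfsg.Agent.Lib.Helper27.TPNQ2
import Cfsg.Agent.Lib.Helper27.TPNV5
import Cfsg.Agent.Lib.Helper29.TPCH
import Cfsg.Agent.Lib.Helper29.TPNV4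
import Cfsg.Agent.Lib.Helper4.TPCE
import Cfsg.Agent.Lib.Helper8.TPCI
import Cfsg.Agent.Lib.Helper9.TPCA

set_option autoImplicit false

namespace Cfsg.Agent.Lib.Helper14.TPLeaves

open Cfsg Cfsg.Agent.CharLib Cfsg.Agent.Lib.Helper6 Cfsg.Agent.Lib.Helper2.Glaub
open Cfsg.Agent.Lib.Helper14.TP
open scoped Pointwise

universe u

section nav
variable {Γ : Type u} [Group Γ] [Finite Γ]

/-! ## A. NAV: quotient transfer -/

/-- (NQ1) the hypothesis of NAV passes to quotients (inflation along `K → K.map π`). -/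
theorem navHyp_map (q : ℕ) (N K A : Subgroup Γ) [N.Normal] (h : NavHyp q K A) :
    NavHyp q (K.map (QuotientGroup.mk' N)) (A.map (QuotientGroup.mk' N)) :=
  Cfsg.Agent.Lib.Helper14.TP.navHyp_map q N K A h

/-- (NQ2a) images of Sylow subgroups. -/
theorem isSylowIn_map (q : ℕ) [Fact q.Prime] (N Q K : Subgroup Γ) [N.Normal]
    (h : IsSylowIn q Q K) :
    IsSylowIn q (Q.map (QuotientGroup.mk' N)) (K.map (QuotientGroup.mk' N)) :=
  Cfsg.Agent.Lib.Helper27.TP.isSylowIn_map q N Q K h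

/-- (NQ2b) `q`-solvability of the image. -/
theorem isPSolvable_map (q : ℕ) [Fact q.Prime] (N K : Subgroup Γ) [N.Normal]
    (h : IsPSolvable q K) : IsPSolvable q ↥(K.map (QuotientGroup.mk' N)) :=
  Cfsg.Agent.Lib.Helper27.TP.isPSolvable_map q N K h

/-- (NQ2c) pulling back normalizers. -/
theorem mem_normalizer_sup_of_map (N Q : Subgroup Γ) [N.Normal] (c : Γ)
    (hc : (QuotientGroup.mk' N) c ∈
      Subgroup.normalizer ((Q.map (QuotientGroup.mk' N) : Subgroup (Γ ⧸ N)) : Set (Γ ⧸ N))) :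
    c ∈ Subgroup.normalizer ((Q ⊔ N : Subgroup Γ) : Set Γ) :=
  Cfsg.Agent.Lib.Helper27.TP.mem_normalizer_sup_of_map N Q c hc

/-- (NQ2d) the image is smaller. -/
theorem card_map_lt (N K : Subgroup Γ) [N.Normal] (hNK : N ≤ K) (hN : N ≠ ⊥) :
    Nat.card ↥(K.map (QuotientGroup.mk' N)) < Nat.card K :=
  Cfsg.Agent.Lib.Helper27.TP.card_map_lt N K hNK hN

/-! ## B. NAV: characters -/

/-- (NV2) an `A`-invariant irreducible character of `K` over an `A`-invariant irreducible character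
of `R` (`A` a `p`-group, `K` a `p'`-group: count `ρ^K(1) = |K:R| ρ(1)` mod `p`). -/
theorem exists_invUnder_over (p : ℕ) [Fact p.Prime] (R K A : Subgroup Γ) [R.Normal] [K.Normal]
    (hRK : R ≤ K) (hK : (Nat.card K).Coprime p) (hA : IsPGroup p A) (ρ : IrrCharacter R)
    (hρ : InvUnder R A (ρ : R → ℂ)) :
    ∃ θ : IrrCharacter K, InvUnder K A (θ : K → ℂ) ∧
      haveI := Fintype.ofFinite R
      classInner (resLE hRK (θ : K → ℂ)) (ρ : R → ℂ) ≠ 0 :=
  Cfsg.Agent.Lib.Helper20.TP.exists_invUnder_over p R K A hRK hK hA ρ hρ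

/-- (NV3) if `θ ∈ Irr(K)` of `q'`-degree lies over the `A`-invariant `ρ ∈ Irr(R)`, the stabilizer
of `ρ` in `K` has `q'`-index (Clifford), is `A`-invariant, so contains an `A`-invariant Sylow
`q`-subgroup of `K` (L1). -/
theorem exists_isSylowIn_invUnder (p q : ℕ) [Fact p.Prime] [Fact q.Prime] (R K A : Subgroup Γ)
    [R.Normal] [K.Normal] (hRK : R ≤ K) (hK : (Nat.card K).Coprime p) (hA : IsPGroup p A)
    (ρ : IrrCharacter R) (hρ : InvUnder R A (ρ : R → ℂ)) (θ : IrrCharacter K)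
    (hθ : haveI := Fintype.ofFinite R
      classInner (resLE hRK (θ : K → ℂ)) (ρ : R → ℂ) ≠ 0)
    (hq : ¬ q ∣ charDegree (θ : K → ℂ)) :
    ∃ S : Subgroup Γ, IsSylowIn q S K ∧ A ≤ Subgroup.normalizer (S : Set Γ) ∧
      InvUnder R S (ρ : R → ℂ) :=
  Cfsg.Agent.Lib.Helper20.TP.exists_isSylowIn_invUnder p q R K A hRK hK hA ρ hρ θ hθ hq

/-- (NV4) [BIG-ish] Glauberman counting: if every `A`-invariant irreducible character of `R` is
`Q`-invariant then `C_R(A) ≤ C(Q)`.  [`S = Q ⊔ A` (a subgroup since `A ≤ N(Q)`; solvable; order prime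
to `|R|`).  `Irr_S(R) = Irr_A(R)` by `h`, so helper2 `Glaub.card_inv_irr_solv` (twice) gives
`|Irr(C_R(S))| = |Irr(C_R(A))|`, hence equally many classes, hence (helper2 `Glaub.card_classInv`,
twice) `|Cl_S(R)| = |Cl_A(R)|`; as `Cl_S(R) ⊆ Cl_A(R)` every `A`-invariant class is `S`-invariant.  For
`c ∈ C_R(A)` its class is `A`-invariant, so `S`-invariant, so contains `c₀ ∈ C_R(S)` (helper2
`Glaub.exists_conj_mem_centralizer`), and `c`, `c₀ ∈ C(A)` are conjugate under `C_R(A)` (helper2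
`Glaub.exists_conj_of_conj`): `C_R(A)` is the union of the `C_R(A)`-conjugates of `C_R(S)`, so they are
equal (helper22 `Frobenius` / helper13 `SzSubA`: a finite group is not the union of the conjugates of a
proper subgroup).] -/
theorem inf_centralizer_le_centralizer (p q : ℕ) [Fact p.Prime] [Fact q.Prime] (R A Q : Subgroup Γ)
    [R.Normal] (hRp : (Nat.card R).Coprime p) (hRq : (Nat.card R).Coprime q) (hA : IsPGroup p A)
    (hQ : IsPGroup q Q) (hAQ : A ≤ Subgroup.normalizer (Q : Set Γ))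
    (h : ∀ ρ : IrrCharacter R, InvUnder R A (ρ : R → ℂ) → InvUnder R Q (ρ : R → ℂ)) :
    R ⊓ Subgroup.centralizer (A : Set Γ) ≤ Subgroup.centralizer (Q : Set Γ) :=
  Cfsg.Agent.Lib.Helper29.TP.inf_centralizer_le_centralizer p q R A Q hRp hRq hA hQ hAQ h

/-! ## C. NAV: group theory -/

/-- (L1) coprime action: an `A`-invariant Sylow `q`-subgroup of an `A`-invariant `p'`-subgroup. -/
theorem exists_isSylowIn_le_normalizer (p q : ℕ) [Fact p.Prime] [Fact q.Prime] (T A : Subgroup Γ)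
    (hAT : A ≤ Subgroup.normalizer (T : Set Γ)) (hT : (Nat.card T).Coprime p) (hA : IsPGroup p A) :
    ∃ S : Subgroup Γ, IsSylowIn q S T ∧ A ≤ Subgroup.normalizer (S : Set Γ) :=
  Cfsg.Agent.Lib.Helper22.TP.exists_isSylowIn_le_normalizer p q T A hAT hT hA

/-- (L2) coprime action: two `A`-invariant Sylow `q`-subgroups of `K` are conjugate under
`C_K(A)`. -/
theorem exists_conj_of_isSylowIn (p q : ℕ) [Fact p.Prime] [Fact q.Prime] (K A Q S : Subgroup Γ)
    (hAK : A ≤ Subgroup.normalizer (K : Set Γ)) (hK : (Nat.card K).Coprime p) (hA : IsPGroup p A)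
    (hQ : IsSylowIn q Q K) (hS : IsSylowIn q S K) (hAQ : A ≤ Subgroup.normalizer (Q : Set Γ))
    (hAS : A ≤ Subgroup.normalizer (S : Set Γ)) :
    ∃ c ∈ K ⊓ Subgroup.centralizer (A : Set Γ), S = MulAut.conj c • Q :=
  Cfsg.Agent.Lib.Helper22.TP.exists_conj_of_isSylowIn p q K A Q S hAK hK hA hQ hS hAQ hAS

/-- (NV5) if `c ∈ C(A)` normalizes `QR` and `C_R(A)` centralizes `Q`, then `c` normalizes `Q`. -/
theorem mem_normalizer_of_sup (p q : ℕ) [Fact p.Prime] [Fact q.Prime] (hpq : p ≠ q)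
    (R A Q : Subgroup Γ) [R.Normal] (hRp : (Nat.card R).Coprime p) (hRq : (Nat.card R).Coprime q)
    (hA : IsPGroup p A) (hQ : IsPGroup q Q) (hAQ : A ≤ Subgroup.normalizer (Q : Set Γ))
    (hcent : R ⊓ Subgroup.centralizer (A : Set Γ) ≤ Subgroup.centralizer (Q : Set Γ))
    (c : Γ) (hcA : c ∈ Subgroup.centralizer (A : Set Γ))
    (hc : c ∈ Subgroup.normalizer ((Q ⊔ R : Subgroup Γ) : Set Γ)) :
    c ∈ Subgroup.normalizer (Q : Set Γ) :=
  Cfsg.Agent.Lib.Helper27.TP.mem_normalizer_of_sup p q hpq R A Q hRp hRq hA hQ hAQ hcent c hcA hc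

/-- (NV6) a nontrivial normal `q`-solvable subgroup contains a nontrivial normal subgroup of `Γ`
which is a `q`-group or a `q'`-group (`O_q(K)` or `O_{q'}(K)`). -/
theorem exists_normal_le_q_or_qprime (q : ℕ) [Fact q.Prime] (K : Subgroup Γ) [K.Normal]
    (hK : K ≠ ⊥) (hqs : IsPSolvable q K) :
    ∃ N : Subgroup Γ, N.Normal ∧ N ≤ K ∧ N ≠ ⊥ ∧ (IsPGroup q N ∨ (Nat.card N).Coprime q) :=
  Cfsg.Agent.Lib.Helper22.TP.exists_normal_le_q_or_qprime q K hK hqs

/-- (NV6b) a normal `q`-subgroup lies in every Sylow `q`-subgroup. -/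
theorem le_of_isSylowIn_of_normal (q : ℕ) [Fact q.Prime] (N Q K : Subgroup Γ) [N.Normal]
    (hNK : N ≤ K) (hN : IsPGroup q N) (hQ : IsSylowIn q Q K) : N ≤ Q :=
  Cfsg.Agent.Lib.Helper22.TP.le_of_isSylowIn_of_normal q N Q K hNK hN hQ

end nav

section core
variable {H : Type u} [Group H] [Finite H]

/-! ## D. CORE -/

/-- (CA) in a group where `p'`-degree forces `q'`-degree, every `A`-invariant irreducible character
of a normal `p'`-subgroup `K` (`A` a Sylow `p`-subgroup) has `q'`-degree.  [`θ` extends to `KA`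
(helper2 `CoprimeDeg.exists_extension`); the induced character has `p'`-degree; a `p'`-degree
constituent `χ` lies over `θ`, so `θ(1) ∣ χ(1)`.] -/
theorem navHyp_of_pqDeg (p q : ℕ) [Fact p.Prime] (h : PQDeg p q H) (K : Subgroup H) [K.Normal]
    (hK : (Nat.card K).Coprime p) (A : Sylow p H) : NavHyp q K (A : Subgroup H) :=
  Cfsg.Agent.Lib.Helper9.TP.navHyp_of_pqDeg p q h K hK A

/-- (CC) `PQDeg` passes to quotients (inflation). -/
theorem pqDeg_quotient (p q : ℕ) (N : Subgroup H) [N.Normal] (h : PQDeg p q H) :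
    PQDeg p q (H ⧸ N) :=
  Cfsg.Agent.Lib.Helper11.TP.pqDeg_quotient p q N h

/-- (CD) [BIG] if the normal `p`-subgroup `V` contains its centralizer then `O_{p'}(H/V') = 1`.
[`W` = preimage of `O_{p'}(H/V')`; `W ∩ V = V'`, so `[V, W] ≤ V'`.  For `w ∈ W` the `p`-part of `w` lies
in `V'` and the `p'`-part `t` acts trivially on `V/V'`, hence on `V` (coprime action: every coset
`vV'` is `⟨t⟩`-invariant of `p`-power size, so contains a fixed point when `t` has prime power order;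
so `V = C_V(t) V'`, and `V' ≤ Φ(V)` forces `C_V(t) = V`), so `t ∈ C_H(V) ≤ V`, `t = 1`.  So `W = V'`.] -/
theorem pPrimeCore_quotient_commutator_eq_bot (p : ℕ) [Fact p.Prime] (V : Subgroup H) [V.Normal]
    (hV : IsPGroup p V) (hcent : Subgroup.centralizer (V : Set H) ≤ V) :
    haveI : (⁅V, V⁆ : Subgroup H).Normal := Subgroup.commutator_normal V V
    pPrimeCore p (H ⧸ (⁅V, V⁆ : Subgroup H)) = ⊥ :=
  Cfsg.Agent.Lib.Helper24.TP.pPrimeCore_quotient_commutator_eq_bot p V hV hcent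

/-- (CE) `λ ∈ Irr(V)` invariant under the preimage of `Ā`, lying under `χ ∈ Irr(H)` of
`q'`-degree: then (Clifford) the stabilizer of `λ` has `q'`-index, its image meets `K̄` in an
`Ā`-invariant subgroup of `q'`-index, which contains an `Ā`-invariant Sylow `q`-subgroup (L1),
conjugate to `Q̄` under `C_{K̄}(Ā)` (L2), which normalizes `Q̄` (`hnav`): so `Q̄` fixes `λ`. -/
theorem conjFun_eq_of_nav (p q : ℕ) [Fact p.Prime] [Fact q.Prime] (hpq : p ≠ q) (V : Subgroup H)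
    [V.Normal] (Kb Ab Qb : Subgroup (H ⧸ V)) [Kb.Normal] (hKb : (Nat.card Kb).Coprime p)
    (hAb : IsPGroup p Ab) (hQb : IsSylowIn q Qb Kb)
    (hAQ : Ab ≤ Subgroup.normalizer (Qb : Set (H ⧸ V)))
    (hnav : Kb ⊓ Subgroup.centralizer (Ab : Set (H ⧸ V)) ≤
      Subgroup.normalizer (Qb : Set (H ⧸ V)))
    (lam : IrrCharacter V)
    (hlam : ∀ x : H, (QuotientGroup.mk' V) x ∈ Ab → Cfsg.Agent.Lib.Helper6.conjFun V x (lam : V → ℂ) = lam)
    (χ : IrrCharacter H) (hχq : ¬ q ∣ charDegree (χ : H → ℂ))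
    (hover : haveI := Fintype.ofFinite V
      classInner (resFun V (χ : H → ℂ)) (lam : V → ℂ) ≠ 0) :
    ∀ x : H, (QuotientGroup.mk' V) x ∈ Qb → Cfsg.Agent.Lib.Helper6.conjFun V x (lam : V → ℂ) = lam :=
  Cfsg.Agent.Lib.Helper4.TP.conjFun_eq_of_nav p q hpq V Kb Ab Qb hKb hAb hQb hAQ hnav lam hlam χ hχq hover

/-- (CF) lifting the pair `(Ā, Q̄)`: `Q` a Sylow `q`-subgroup of the preimage `X` of `Q̄Ā`,
`A = P ∩ N_X(Q)` with `P` the preimage of `Ā` (Frattini + Schur–Zassenhaus conjugacy, helper1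
`SZConj` / `Coprime`). -/
theorem exists_lift_pair (p q : ℕ) [Fact p.Prime] [Fact q.Prime] (hpq : p ≠ q) (V : Subgroup H)
    [V.Normal] (hV : IsPGroup p V) (Ab Qb : Subgroup (H ⧸ V)) (hAb : IsPGroup p Ab)
    (hQb : IsPGroup q Qb) (hAQ : Ab ≤ Subgroup.normalizer (Qb : Set (H ⧸ V))) :
    ∃ A Q : Subgroup H, IsPGroup p A ∧ IsPGroup q Q ∧ Q.map (QuotientGroup.mk' V) = Qb ∧
      A.map (QuotientGroup.mk' V) = Ab ∧ A ≤ Subgroup.normalizer (Q : Set H) ∧
      V ⊓ A ≤ Subgroup.centralizer (Q : Set H) :=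
  Cfsg.Agent.Lib.Helper11.TP.exists_lift_pair p q hpq V hV Ab Qb hAb hQb hAQ

/-- (CG) an `A`-invariant (linear) character of the abelian normal subgroup `V`, trivial on
`V ∩ A`, extends to `VA` by `va ↦ λ(v)`. -/
theorem exists_linear_extension (V A : Subgroup H) [V.Normal]
    (hVab : ∀ x ∈ V, ∀ y ∈ V, x * y = y * x) (lam : IrrCharacter V)
    (hinv : ∀ a ∈ A, Cfsg.Agent.Lib.Helper6.conjFun V a (lam : V → ℂ) = lam)
    (htriv : ∀ v : V, (v : H) ∈ A → (lam : V → ℂ) v = 1) :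
    ∃ μ : IrrCharacter ↥(V ⊔ A), charDegree (μ : ↥(V ⊔ A) → ℂ) = 1 ∧
      ∀ v : V, (μ : ↥(V ⊔ A) → ℂ) ⟨(v : H), Subgroup.mem_sup_left v.2⟩ = (lam : V → ℂ) v :=
  Cfsg.Agent.Lib.Helper14.TP.exists_linear_extension V A hVab lam hinv htriv

/-- (CH) [BIG] `Q` centralizes `V`.  Neat proof by characters: `C = C_V(Q)` is `A`-invariant; suppose
`C ≠ V`.  `X = {λ ∈ Irr(V) : λ trivial on C}` has `|V:C|` elements (a power of `p`), `A` (a `p`-group)
acts on `X`, so the number of `A`-fixed points is `≡ 0 mod p`, and `1 ∈ X^A`: there is `1 ≠ λ ∈ X^A`.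
`λ` is trivial on `V ∩ A ≤ C`, so `Q`-invariant by `h`.  For `v ∈ V` the product `∏_{x ∈ Q} x v x⁻¹`
lies in `C` (`V` abelian), so `1 = λ(∏ x v x⁻¹) = λ(v)^{|Q|}`; `λ(v)` is a `p`-power root of unity and
`|Q|` is prime to `p`: `λ(v) = 1`, so `λ = 1`, contradiction.  (Alternative: `M = [V,A]·C`, coprime
action `V = [V,Q]·C`, nilpotent action of `A`.) -/
theorem le_centralizer_of_forall_invariant (p q : ℕ) [Fact p.Prime] [Fact q.Prime] (hpq : p ≠ q)
    (V A Q : Subgroup H) [V.Normal] (hV : IsPGroup p V) (hVab : ∀ x ∈ V, ∀ y ∈ V, x * y = y * x)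
    (hA : IsPGroup p A) (hQ : IsPGroup q Q) (hAQ : A ≤ Subgroup.normalizer (Q : Set H))
    (hVA : V ⊓ A ≤ Subgroup.centralizer (Q : Set H))
    (h : ∀ lam : IrrCharacter V, (∀ a ∈ A, Cfsg.Agent.Lib.Helper6.conjFun V a (lam : V → ℂ) = lam) →
      (∀ v : V, (v : H) ∈ A → (lam : V → ℂ) v = 1) →
      ∀ x ∈ Q, Cfsg.Agent.Lib.Helper6.conjFun V x (lam : V → ℂ) = lam) :
    Q ≤ Subgroup.centralizer (V : Set H) :=
  Cfsg.Agent.Lib.Helper29.TP.le_centralizer_of_forall_invariant p q hpq V A Q hV hVab hA hQ hAQ hVA h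

/-- (CI) transitivity of "lying over". -/
theorem classInner_resFun_ne_zero_of_over (V P : Subgroup H) (hVP : V ≤ P) (χ : IrrCharacter H)
    (μ : IrrCharacter P) (lam : IrrCharacter V)
    (h1 : haveI := Fintype.ofFinite P
      classInner (resFun P (χ : H → ℂ)) (μ : P → ℂ) ≠ 0)
    (h2 : ∀ v : V, (μ : P → ℂ) ⟨(v : H), hVP v.2⟩ = (lam : V → ℂ) v) :
    haveI := Fintype.ofFinite V
    classInner (resFun V (χ : H → ℂ)) (lam : V → ℂ) ≠ 0 :=
  Cfsg.Agent.Lib.Helper8.TP.classInner_resFun_ne_zero_of_over V P hVP χ μ lam h1 h2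

end core

section final
variable {G : Type u} [Group G] [Finite G]

/-! ## E. S4886 / S4885 -/

/-- (FB) commuting Sylow subgroups: `Q ≤ O_{p'}(G)` (helper24
`PSolvable.sylow_eq_bot_of_le_normalizer` in `G/O_{p'}(G)`). -/
theorem not_dvd_card_quotient_of_commute (p q : ℕ) [Fact p.Prime] [Fact q.Prime] (hpq : p ≠ q)
    (hps : IsPSolvable p G) (P : Sylow p G) (Q : Sylow q G)
    (hc : ∀ x ∈ (P : Subgroup G), ∀ y ∈ (Q : Subgroup G), x * y = y * x) :
    haveI := Cfsg.Agent.Lib.Helper24.pPrimeCore_normal' (G := G) p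
    ¬ q ∣ Nat.card (G ⧸ pPrimeCore p G) :=
  Cfsg.Agent.Lib.Helper24.TP.not_dvd_card_quotient_of_commute p q hpq hps P Q hc

/-- (FD) if `q ∣ |G|` (`G` `q`-solvable) the principal `q`-block contains a character of
`q'`-degree not containing all `q`-elements in its kernel.  [In `Ḡ = G/O_{q'}(G)` take `1 ≠ λ`
linear on a Sylow `q`-subgroup, `χ̄` a `q'`-degree constituent of `λ^Ḡ` (helper23
`exists_irr_over_not_dvd`), inflate; Fong = helper24 `mem_principalBlock_iff_of_isPSolvable`.] -/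
theorem exists_qprime_principal_nontrivial (q : ℕ) [Fact q.Prime] (Mq : Ideal AlgInt)
    (hMq : IsPModular q Mq) (hqs : IsPSolvable q G) (hq : q ∣ Nat.card G) :
    ∃ χ : IrrCharacter G, χ ∈ principalBlock Mq G ∧ ¬ q ∣ charDegree (χ : G → ℂ) ∧
      ∃ y : G, (∃ k : ℕ, orderOf y = q ^ k) ∧ (χ : G → ℂ) y ≠ (χ : G → ℂ) 1 :=
  Cfsg.Agent.Lib.Helper23.TP.exists_qprime_principal_nontrivial q Mq hMq hqs hq

end final

end Cfsg.Agent.Lib.Helper14.TPLeaves
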