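/-
helper14: S4885 / S4886 spine, part 1: the theorem NAV (a piece of Navarro's "Actions and invariant
character degrees"): `A` a `p`-group acting on a normal `q`-solvable `p'`-subgroup `K`; if every
`A`-invariant irreducible character of `K` has `q'`-degree then `C_K(A)` normalizes every
`A`-invariant Sylow `q`-subgroup of `K`.
-/
import Mathlib
import Cfsg.Agent.Lib.Helper14.TPLeaves

set_option autoImplicit false

namespace Cfsg.Agent.Lib.Helper14.TP

open Cfsg Cfsg.Agent.CharLib Cfsg.Agent.Lib.Helper6 Cfsg.Agent.Lib.Helper2.Glaub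
open Cfsg.Agent.Lib.Helper14.TPLeaves
open scoped Pointwise

universe u

theorem mem_normalizer_iff_smul_eq {Γ : Type u} [Group Γ] (c : Γ) (S : Subgroup Γ) :
    c ∈ Subgroup.normalizer (S : Set Γ) ↔ MulAut.conj c • S = S := by
  rw [Subgroup.mem_normalizer_iff_map_conj_eq]
  rfl

theorem nav (p q : ℕ) [Fact p.Prime] [Fact q.Prime] (hpq : p ≠ q) :
    ∀ (n : ℕ) (Γ : Type u) [Group Γ] [Finite Γ] (K A Q : Subgroup Γ) [K.Normal], Nat.card K = n →
      (Nat.card K).Coprime p → IsPGroup p A → IsPSolvable q K → NavHyp q K A → IsSylowIn q Q K →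
      A ≤ Subgroup.normalizer (Q : Set Γ) →
      K ⊓ Subgroup.centralizer (A : Set Γ) ≤ Subgroup.normalizer (Q : Set Γ) := by
  intro n
  induction n using Nat.strong_induction_on with
  | _ n ih =>
  intro Γ _ _ K A Q _ hn hKp hA hqs hyp hQ hAQ
  by_cases hKbot : K = ⊥
  · have hQbot : Q = ⊥ := le_bot_iff.mp (hKbot ▸ hQ.1)
    intro c _
    rw [hQbot, mem_normalizer_iff_smul_eq]
    exact Subgroup.smul_bot _
  obtain ⟨N, hNn, hNK, hNbot, hNq⟩ := exists_normal_le_q_or_qprime q K hKbot hqs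
  have := hNn
  -- the quotient step
  have hquot : K ⊓ Subgroup.centralizer (A : Set Γ) ≤
      Subgroup.normalizer ((Q ⊔ N : Subgroup Γ) : Set Γ) := by
    intro c hc
    apply mem_normalizer_sup_of_map N Q c
    have hlt : Nat.card ↥(K.map (QuotientGroup.mk' N)) < n := hn ▸ card_map_lt N K hNK hNbot
    have hcop : (Nat.card ↥(K.map (QuotientGroup.mk' N))).Coprime p :=
      Nat.Coprime.coprime_dvd_left (Subgroup.card_map_dvd K (QuotientGroup.mk' N)) hKp
    have hAm : IsPGroup p ↥(A.map (QuotientGroup.mk' N)) := hA.map _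
    have hnorm : A.map (QuotientGroup.mk' N) ≤
        Subgroup.normalizer ((Q.map (QuotientGroup.mk' N) : Subgroup (Γ ⧸ N)) : Set (Γ ⧸ N)) :=
      (Subgroup.map_mono hAQ).trans (Subgroup.le_normalizer_map _)
    have : (K.map (QuotientGroup.mk' N)).Normal :=
      Subgroup.Normal.map inferInstance _ (QuotientGroup.mk'_surjective N)
    have key := ih _ hlt (Γ ⧸ N) (K.map (QuotientGroup.mk' N)) (A.map (QuotientGroup.mk' N))
      (Q.map (QuotientGroup.mk' N)) rfl hcop hAm (isPSolvable_map q N K hqs)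
      (navHyp_map q N K A hyp) (isSylowIn_map q N Q K hQ) hnorm
    apply key
    refine Subgroup.mem_inf.mpr ⟨Subgroup.mem_map_of_mem _ hc.1, ?_⟩
    rw [Subgroup.mem_centralizer_iff]
    rintro _ ⟨a, ha, rfl⟩
    have h1 := Subgroup.mem_centralizer_iff.mp hc.2 a ha
    rw [← map_mul, ← map_mul, h1]
  rcases hNq with hNq | hNq
  · -- `N` is a `q`-group, so `N ≤ Q`
    have hNQ : N ≤ Q := le_of_isSylowIn_of_normal q N Q K hNK hNq hQ
    rwa [sup_eq_left.mpr hNQ] at hquot
  · -- `N` is a `q'`-group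
    have hNp : (Nat.card N).Coprime p :=
      Nat.Coprime.coprime_dvd_left (Subgroup.card_dvd_of_le hNK) hKp
    have hAK : A ≤ Subgroup.normalizer (K : Set Γ) := by
      rw [Subgroup.normalizer_eq_top K]; exact le_top
    have hfix : ∀ ρ : IrrCharacter N, InvUnder N A (ρ : N → ℂ) → InvUnder N Q (ρ : N → ℂ) := by
      intro ρ hρ
      obtain ⟨θ, hθinv, hθ⟩ := exists_invUnder_over p N K A hNK hKp hA ρ hρ
      obtain ⟨S, hS, hAS, hSρ⟩ :=
        exists_isSylowIn_invUnder p q N K A hNK hKp hA ρ hρ θ hθ (hyp θ hθinv)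
      obtain ⟨c, hc, hSc⟩ := exists_conj_of_isSylowIn p q K A Q S hAK hKp hA hQ hS hAQ hAS
      have hcN := (mem_normalizer_iff_smul_eq c _).mp (hquot hc)
      have hsup : S ⊔ N = Q ⊔ N := by
        have h := hcN
        rw [Subgroup.smul_sup, Subgroup.Normal.conj_smul_eq_self c N, ← hSc] at h
        exact h
      have htop : ∀ T : Subgroup Γ, T ≤ Subgroup.normalizer (N : Set Γ) := by
        intro T; rw [Subgroup.normalizer_eq_top N]; exact le_top
      have h1 : S ≤ invSub N (ρ : N → ℂ) := (invUnder_iff_le_invSub (htop S) _).mp hSρ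
      have h2 : N ≤ invSub N (ρ : N → ℂ) := by
        apply (invUnder_iff_le_invSub (htop N) _).mp
        intro t ht g g' hg'
        have hcl := IsCharacter.isClassFunction (IsIrrCharacter.isCharacter ρ.2)
        have : g' = (⟨t, ht⟩ : N) * g * (⟨t, ht⟩ : N)⁻¹ := Subtype.ext (by rw [hg']; rfl)
        rw [this]
        exact hcl g ⟨t, ht⟩
      apply (invUnder_iff_le_invSub (htop Q) _).mpr
      calc Q ≤ Q ⊔ N := le_sup_left
        _ = S ⊔ N := hsup.symm
        _ ≤ invSub N (ρ : N → ℂ) := sup_le h1 h2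
    have hcent := inf_centralizer_le_centralizer p q N A Q hNp hNq hA hQ.2.1 hAQ hfix
    intro c hc
    exact mem_normalizer_of_sup p q hpq N A Q hNp hNq hA hQ.2.1 hAQ hcent c hc.2 (hquot hc)

end Cfsg.Agent.Lib.Helper14.TP
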