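/-
helper14: S4885 / S4886 spine, part 2: the core theorem.  `H` `p`-solvable and `q`-solvable with
`O_{p'}(H) = 1`; if every irreducible character of `p'`-degree has `q'`-degree then `q ∤ |H|`.
-/
import Mathlib
import Cfsg.Agent.Lib.Helper14.TPNav
import Cfsg.Agent.Lib.Helper12.HallHigman
import Cfsg.Agent.Lib.Helper12.Cores
import Cfsg.Agent.Lib.Helper24.PSolvable
import Cfsg.Agent.Lib.Helper25.PSolvableSub
import Cfsg.Agent.Lib.Helper23.PPrimeKerA
import Cfsg.Agent.Lib.Helper1.SZConj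

set_option autoImplicit false

namespace Cfsg.Agent.Lib.Helper14.TP

open Cfsg Cfsg.Agent.CharLib Cfsg.Agent.Lib.Helper6 Cfsg.Agent.Lib.Helper2.Glaub
open Cfsg.Agent.Lib.Helper14.TPLeaves
open scoped Pointwise

universe u

theorem not_dvd_card_of_quotient {H : Type u} [Group H] [Finite H] {p q : ℕ} [Fact p.Prime]
    [Fact q.Prime] (hpq : p ≠ q) (D : Subgroup H) [D.Normal] (hD : IsPGroup p D)
    (h : ¬ q ∣ Nat.card (H ⧸ D)) : ¬ q ∣ Nat.card H := by
  intro hq
  rw [Subgroup.card_eq_card_quotient_mul_card_subgroup D] at hq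
  rcases (Nat.Prime.dvd_mul (Fact.out : q.Prime)).mp hq with h1 | h1
  · exact h h1
  · obtain ⟨k, hk⟩ := IsPGroup.iff_card.mp hD
    rw [hk] at h1
    have := (Nat.prime_dvd_prime_iff_eq (Fact.out : q.Prime) (Fact.out : p.Prime)).mp
      ((Fact.out : q.Prime).dvd_of_dvd_pow h1)
    exact hpq this.symm

theorem core (p q : ℕ) [Fact p.Prime] [Fact q.Prime] (hpq : p ≠ q) :
    ∀ (n : ℕ) (H : Type u) [Group H] [Finite H], Nat.card H = n → IsPSolvable p H →
      IsPSolvable q H → pPrimeCore p H = ⊥ → PQDeg p q H → ¬ q ∣ Nat.card H := by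
  intro n
  induction n using Nat.strong_induction_on with
  | _ n ih =>
  intro H _ _ hn hps hqs hO hdeg hqH
  have hp : p.Prime := Fact.out
  have hq : q.Prime := Fact.out
  have hnt : Nontrivial H := by
    rw [← Finite.one_lt_card_iff_nontrivial]
    exact lt_of_lt_of_le hq.one_lt (Nat.le_of_dvd Nat.card_pos hqH)
  have hVn : (pCore p H).Normal := Cfsg.Agent.Lib.Helper24.pCore_normal' p
  have hVp : IsPGroup p ↥(pCore p H) := Cfsg.Agent.Lib.Helper12.pCore_isPGroup' p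
  have hVbot : pCore p H ≠ ⊥ := Cfsg.Agent.Lib.Helper24.pCore_ne_bot_of_isPSolvable p hps hO
  have hcent : Subgroup.centralizer ((pCore p H : Subgroup H) : Set H) ≤ pCore p H :=
    Cfsg.Agent.Lib.Helper12.centralizer_pCore_le_pCore p hps hO
  generalize pCore p H = V at hVn hVp hVbot hcent
  -- reduction to `V` abelian
  by_cases hcomm : (⁅V, V⁆ : Subgroup H) = ⊥
  swap
  · have hDn : (⁅V, V⁆ : Subgroup H).Normal := Subgroup.commutator_normal V V
    have h1 := pPrimeCore_quotient_commutator_eq_bot p V hVp hcent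
    have hlt : Nat.card (H ⧸ (⁅V, V⁆ : Subgroup H)) < n :=
      hn ▸ Cfsg.Agent.Lib.Helper1.card_quotient_lt_of_ne_bot hcomm
    have h2 := ih _ hlt (H ⧸ (⁅V, V⁆ : Subgroup H)) rfl
      (Cfsg.Agent.Lib.Helper24.isPSolvable_of_surjective p _ (QuotientGroup.mk'_surjective _) hps)
      (Cfsg.Agent.Lib.Helper24.isPSolvable_of_surjective q _ (QuotientGroup.mk'_surjective _) hqs)
      h1 (pqDeg_quotient p q _ hdeg)
    have hDV : (⁅V, V⁆ : Subgroup H) ≤ V := Subgroup.commutator_le_right V V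
    exact not_dvd_card_of_quotient hpq _ (hVp.to_le hDV) h2 hqH
  have hVab : ∀ x ∈ V, ∀ y ∈ V, x * y = y * x := by
    have h1 := (Subgroup.commutator_eq_bot_iff_le_centralizer (H₁ := V) (H₂ := V)).mp hcomm
    intro x hx y hy
    exact (Subgroup.mem_centralizer_iff.mp (h1 hx) y hy).symm
  -- the quotient `H / V`
  have hpsV : IsPSolvable p (H ⧸ V) :=
    Cfsg.Agent.Lib.Helper24.isPSolvable_of_surjective p _ (QuotientGroup.mk'_surjective _) hps
  have hqsV : IsPSolvable q (H ⧸ V) :=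
    Cfsg.Agent.Lib.Helper24.isPSolvable_of_surjective q _ (QuotientGroup.mk'_surjective _) hqs
  have hdegV : PQDeg p q (H ⧸ V) := pqDeg_quotient p q V hdeg
  have hKbn : (pPrimeCore p (H ⧸ V)).Normal := Cfsg.Agent.Lib.Helper24.pPrimeCore_normal' p
  have hKbp : (Nat.card ↥(pPrimeCore p (H ⧸ V))).Coprime p :=
    Cfsg.Agent.Lib.Helper12.pPrimeCore_coprime p
  have hKbO : pPrimeCore p ((H ⧸ V) ⧸ pPrimeCore p (H ⧸ V)) = ⊥ :=
    Cfsg.Agent.Lib.Helper24.pPrimeCore_quotient_eq_bot' p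
  have hltV : Nat.card (H ⧸ V) < n := hn ▸ Cfsg.Agent.Lib.Helper1.card_quotient_lt_of_ne_bot hVbot
  generalize pPrimeCore p (H ⧸ V) = Kb at hKbn hKbp hKbO
  -- induction hypothesis for `(H/V)/K̄`
  have hlt2 : Nat.card ((H ⧸ V) ⧸ Kb) < n :=
    lt_of_le_of_lt (by
      rw [Subgroup.card_eq_card_quotient_mul_card_subgroup Kb]
      exact Nat.le_mul_of_pos_right _ Nat.card_pos) hltV
  have h2 : ¬ q ∣ Nat.card ((H ⧸ V) ⧸ Kb) := ih _ hlt2 ((H ⧸ V) ⧸ Kb) rfl
    (Cfsg.Agent.Lib.Helper24.isPSolvable_of_surjective p _ (QuotientGroup.mk'_surjective _) hpsV)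
    (Cfsg.Agent.Lib.Helper24.isPSolvable_of_surjective q _ (QuotientGroup.mk'_surjective _) hqsV)
    hKbO (pqDeg_quotient p q Kb hdegV)
  have hqKb : q ∣ Nat.card Kb := by
    by_contra hcon
    have h3 : ¬ q ∣ Nat.card (H ⧸ V) := by
      rw [Subgroup.card_eq_card_quotient_mul_card_subgroup Kb]
      intro h
      rcases (Nat.Prime.dvd_mul hq).mp h with h | h
      · exact h2 h
      · exact hcon h
    exact not_dvd_card_of_quotient hpq V hVp h3 hqH
  -- a Sylow `p`-subgroup of `H / V` and an invariant Sylow `q`-subgroup of `K̄`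
  obtain ⟨Ab⟩ : Nonempty (Sylow p (H ⧸ V)) := inferInstance
  have hAbK : (Ab : Subgroup (H ⧸ V)) ≤ Subgroup.normalizer (Kb : Set (H ⧸ V)) := by
    rw [Subgroup.normalizer_eq_top Kb]; exact le_top
  obtain ⟨Qb, hQb, hAQb⟩ :=
    exists_isSylowIn_le_normalizer p q Kb (Ab : Subgroup (H ⧸ V)) hAbK hKbp Ab.isPGroup'
  have hnav := nav p q hpq _ (H ⧸ V) Kb (Ab : Subgroup (H ⧸ V)) Qb rfl hKbp Ab.isPGroup'
    (Cfsg.Agent.Lib.Helper25.isPSolvable_subgroup q hqsV Kb)
    (navHyp_of_pqDeg p q hdegV Kb hKbp Ab) hQb hAQb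
  -- lift
  obtain ⟨A, Q, hAp, hQq, hQmap, hAmap, hAQ, hVA⟩ :=
    exists_lift_pair p q hpq V hVp (Ab : Subgroup (H ⧸ V)) Qb Ab.isPGroup' hQb.2.1 hAQb
  -- `V ⊔ A` is the preimage of `Ā`
  have hsup : V ⊔ A = (Ab : Subgroup (H ⧸ V)).comap (QuotientGroup.mk' V) := by
    rw [← hAmap, Subgroup.comap_map_eq, QuotientGroup.ker_mk', sup_comm]
  have hidx : ¬ p ∣ (V ⊔ A).index := by
    rw [hsup, Subgroup.index_comap_of_surjective _ (QuotientGroup.mk'_surjective V)]
    exact Ab.not_dvd_index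
  -- `Q` centralizes `V`
  have hQV : Q ≤ Subgroup.centralizer (V : Set H) := by
    apply le_centralizer_of_forall_invariant p q hpq V A Q hVp hVab hAp hQq hAQ hVA
    intro lam hinv htriv x hx
    obtain ⟨μ, hμ1, hμV⟩ := exists_linear_extension V A hVab lam hinv htriv
    let _ : Fintype H := Fintype.ofFinite H
    let _ : Fintype ↥(V ⊔ A) := Fintype.ofFinite _
    obtain ⟨χ, hχp, hχμ⟩ := Cfsg.Agent.Lib.Helper23.PPrimeKer.exists_irr_over_not_dvd p hp (V ⊔ A) hidx μ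
      (by rw [hμ1]; exact hp.one_lt.ne' ∘ Nat.dvd_one.mp)
    have hover := classInner_resFun_ne_zero_of_over V (V ⊔ A) le_sup_left χ μ lam
      (by convert hχμ using 2; rfl) hμV
    have hlam : ∀ y : H, (QuotientGroup.mk' V) y ∈ (Ab : Subgroup (H ⧸ V)) →
        Cfsg.Agent.Lib.Helper6.conjFun V y (lam : V → ℂ) = lam := by
      intro y hy
      have hy' : y ∈ V ⊔ A := by rw [hsup]; exact hy
      rw [← SetLike.mem_coe, Subgroup.normal_mul, Set.mem_mul] at hy'
      obtain ⟨v, hv, a, ha, rfl⟩ := hy'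
      rw [conjFun_mul, conjFun_of_mem V
        (IsCharacter.isClassFunction (IsIrrCharacter.isCharacter lam.2)) hv]
      exact hinv a ha
    exact conjFun_eq_of_nav p q hpq V Kb (Ab : Subgroup (H ⧸ V)) Qb hKbp Ab.isPGroup' hQb hAQb
      hnav lam hlam χ (hdeg χ hχp) hover x (hQmap ▸ Subgroup.mem_map_of_mem _ hx)
  -- so `Q = 1`
  have hQle : Q ≤ V := hQV.trans hcent
  have hQbot : Q = ⊥ := by
    rw [Subgroup.eq_bot_iff_forall]
    intro x hx
    obtain ⟨k, hk⟩ := (hVp.to_le hQle) ⟨x, hx⟩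
    obtain ⟨l, hl⟩ := hQq ⟨x, hx⟩
    have h1 : x ^ p ^ k = 1 := by simpa using congrArg Subtype.val hk
    have h2 : x ^ q ^ l = 1 := by simpa using congrArg Subtype.val hl
    have hcop : Nat.Coprime (p ^ k) (q ^ l) :=
      Nat.Coprime.pow _ _ ((Nat.coprime_primes hp hq).mpr hpq)
    have h3 : orderOf x ∣ 1 := by
      rw [← Nat.Coprime.gcd_eq_one hcop]
      exact Nat.dvd_gcd (orderOf_dvd_of_pow_eq_one h1) (orderOf_dvd_of_pow_eq_one h2)
    exact orderOf_eq_one_iff.mp (Nat.dvd_one.mp h3)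
  have hQbbot : Qb = ⊥ := by rw [← hQmap, hQbot, Subgroup.map_bot]
  apply hQb.2.2
  rw [hQbbot, Subgroup.relIndex_bot_left]
  exact hqKb

end Cfsg.Agent.Lib.Helper14.TP
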