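/-
helper14: S4885 / S4886 spine, part 3: from the core theorem to the two statements.
-/
import Mathlib
import Cfsg.Agent.Lib.Helper14.TPCore
import Cfsg.Agent.Lib.Helper24.FongPrincipal
import Cfsg.Agent.Lib.Helper25.Inflate
import Cfsg.Agent.Lib.Helper24.IrrFacts

set_option autoImplicit false

namespace Cfsg.Agent.Lib.Helper14.TP

open Cfsg Cfsg.Agent.CharLib Cfsg.Agent.Lib.Helper6 Cfsg.Agent.Lib.Helper2.Glaub
open Cfsg.Agent.Lib.Helper14.TPLeaves Cfsg.Agent.Lib.Helper24 Cfsg.Agent.Lib.Helper25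

universe u

variable {G : Type u} [Group G] [Finite G]

theorem charDegree_inflateIrr (N : Subgroup G) [N.Normal] (θ : IrrCharacter (G ⧸ N)) :
    charDegree ((inflateIrr N θ : IrrCharacter G) : G → ℂ) = charDegree (θ : G ⧸ N → ℂ) := by
  unfold charDegree
  rw [inflateIrr_apply, QuotientGroup.mk_one]

/-- A `p`-element lies in a normal subgroup of index prime to `p`. -/
theorem mem_of_not_dvd_card_quotient (p : ℕ) [Fact p.Prime] (N : Subgroup G) [N.Normal]
    (h : ¬ p ∣ Nat.card (G ⧸ N)) (x : G) (k : ℕ) (hx : x ^ p ^ k = 1) : x ∈ N := by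
  have hp : p.Prime := Fact.out
  rw [← QuotientGroup.eq_one_iff]
  have h1 : ((x : G ⧸ N)) ^ p ^ k = 1 := by rw [← QuotientGroup.mk_pow, hx, QuotientGroup.mk_one]
  have h2 : orderOf (x : G ⧸ N) ∣ p ^ k := orderOf_dvd_of_pow_eq_one h1
  have h3 : orderOf (x : G ⧸ N) ∣ Nat.card (G ⧸ N) := orderOf_dvd_natCard _
  have hcop : Nat.Coprime (p ^ k) (Nat.card (G ⧸ N)) :=
    Nat.Coprime.pow_left _ ((Nat.Prime.coprime_iff_not_dvd hp).mpr h)
  have h4 : orderOf (x : G ⧸ N) ∣ 1 := by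
    rw [← Nat.Coprime.gcd_eq_one hcop]
    exact Nat.dvd_gcd h2 h3
  exact orderOf_eq_one_iff.mp (Nat.dvd_one.mp h4)

/-- The core theorem applied to `G / O_{p'}(G)` (Fong). -/
theorem not_dvd_card_quotient_pPrimeCore (p q : ℕ) [Fact p.Prime] [Fact q.Prime] (hpq : p ≠ q)
    (Mp : Ideal AlgInt) (hMp : IsPModular p Mp) (hps : IsPSolvable p G) (hqs : IsPSolvable q G)
    (h : ∀ χ : IrrCharacter G, χ ∈ principalBlock Mp G → ¬ p ∣ charDegree (χ : G → ℂ) →
      ¬ q ∣ charDegree (χ : G → ℂ)) :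
    haveI := pPrimeCore_normal' (G := G) p
    ¬ q ∣ Nat.card (G ⧸ pPrimeCore p G) := by
  haveI := pPrimeCore_normal' (G := G) p
  apply core p q hpq _ (G ⧸ pPrimeCore p G) rfl
    (isPSolvable_of_surjective p _ (QuotientGroup.mk'_surjective _) hps)
    (isPSolvable_of_surjective q _ (QuotientGroup.mk'_surjective _) hqs)
    (pPrimeCore_quotient_eq_bot' p)
  intro χ hχp
  have h1 := h (inflateIrr (pPrimeCore p G) χ)
    ((mem_principalBlock_iff_of_isPSolvable hMp hps _).mpr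
      (fun k hk => inflateIrr_mem_ker (pPrimeCore p G) χ k hk))
  rw [charDegree_inflateIrr] at h1
  exact h1 hχp

/-- Characters of the principal block have degree dividing `|G / O_{p'}(G)|`. -/
theorem charDegree_dvd_of_mem_principalBlock (p : ℕ) [Fact p.Prime] (Mp : Ideal AlgInt)
    (hMp : IsPModular p Mp) (hps : IsPSolvable p G) (χ : IrrCharacter G)
    (hχ : χ ∈ principalBlock Mp G) :
    haveI := pPrimeCore_normal' (G := G) p
    charDegree (χ : G → ℂ) ∣ Nat.card (G ⧸ pPrimeCore p G) := by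
  haveI := pPrimeCore_normal' (G := G) p
  obtain ⟨θ, rfl⟩ := exists_inflateIrr_eq (pPrimeCore p G) χ
    ((mem_principalBlock_iff_of_isPSolvable hMp hps χ).mp hχ)
  rw [charDegree_inflateIrr]
  exact irr_charDegree_dvd_card θ

/-- Commuting Sylow subgroups from the two index conditions. -/
theorem exists_commuting_sylows (p q : ℕ) [Fact p.Prime] [Fact q.Prime] (hpq : p ≠ q)
    (h1 : haveI := pPrimeCore_normal' (G := G) p; ¬ q ∣ Nat.card (G ⧸ pPrimeCore p G))
    (h2 : haveI := pPrimeCore_normal' (G := G) q; ¬ p ∣ Nat.card (G ⧸ pPrimeCore q G)) :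
    ∃ (P : Sylow p G) (Q : Sylow q G),
      ∀ x ∈ (P : Subgroup G), ∀ y ∈ (Q : Subgroup G), x * y = y * x := by
  have hp : p.Prime := Fact.out
  have hq : q.Prime := Fact.out
  haveI hYn := pPrimeCore_normal' (G := G) p
  haveI hXn := pPrimeCore_normal' (G := G) q
  obtain ⟨P⟩ : Nonempty (Sylow p G) := inferInstance
  have hYp : (Nat.card ↥(pPrimeCore p G)).Coprime p := Cfsg.Agent.Lib.Helper12.pPrimeCore_coprime p
  have hXq : (Nat.card ↥(pPrimeCore q G)).Coprime q := Cfsg.Agent.Lib.Helper12.pPrimeCore_coprime q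
  have hPY : (P : Subgroup G) ≤ Subgroup.normalizer ((pPrimeCore p G : Subgroup G) : Set G) := by
    rw [Subgroup.normalizer_eq_top]; exact le_top
  obtain ⟨S, hS, hPS⟩ := exists_isSylowIn_le_normalizer p q (pPrimeCore p G) (P : Subgroup G) hPY
    hYp P.isPGroup'
  -- `S` is a Sylow `q`-subgroup of `G`
  have hSidx : ¬ q ∣ S.index := by
    rw [← Subgroup.relIndex_mul_index hS.1]
    intro h
    rcases (Nat.Prime.dvd_mul hq).mp h with h | h
    · exact hS.2.2 h
    · rw [Subgroup.index_eq_card] at h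
      exact h1 h
  refine ⟨P, hS.2.1.toSylow hSidx, ?_⟩
  intro x hx y hy
  have hy' : y ∈ S := hy
  -- `x ∈ O_{q'}(G)`
  have hxX : x ∈ pPrimeCore q G := by
    obtain ⟨k, hk⟩ := P.isPGroup' ⟨x, hx⟩
    exact mem_of_not_dvd_card_quotient p _ h2 x k (by simpa using congrArg Subtype.val hk)
  -- the commutator lies in `S ⊓ O_{q'}(G) = ⊥`
  have hc1 : x * y * x⁻¹ * y⁻¹ ∈ S := by
    have := (Subgroup.mem_normalizer_iff.mp (hPS hx) y).mp hy'
    exact S.mul_mem this (S.inv_mem hy')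
  have hc2 : x * y * x⁻¹ * y⁻¹ ∈ pPrimeCore q G := by
    have : x * y * x⁻¹ * y⁻¹ = x * (y * x⁻¹ * y⁻¹) := by group
    rw [this]
    exact Subgroup.mul_mem _ hxX (hXn.conj_mem _ (Subgroup.inv_mem _ hxX) y)
  have hdisj : Disjoint S (pPrimeCore q G) := by
    apply Subgroup.disjoint_of_coprime_natCard
    obtain ⟨k, hk⟩ := IsPGroup.iff_card.mp hS.2.1
    rw [hk]
    exact Nat.Coprime.pow_left _ hXq.symm
  have hc3 : x * y * x⁻¹ * y⁻¹ = 1 := by
    have := Subgroup.mem_inf.mpr ⟨hc1, hc2⟩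
    rwa [disjoint_iff.mp hdisj, Subgroup.mem_bot] at this
  calc x * y = (x * y * x⁻¹ * y⁻¹) * (y * x) := by group
    _ = y * x := by rw [hc3, one_mul]

end Cfsg.Agent.Lib.Helper14.TP
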