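import Mathlib
import Cfsg.Agent.Lib.Helper8.TW.Defs
import Cfsg.Agent.Lib.Helper20.AschA89WR
import Cfsg.Agent.Lib.Helper20.AschA89F2J
import Cfsg.Agent.Lib.Helper22.TWExtBasic
import Cfsg.Agent.Lib.Helper22.TWExtMore
import Cfsg.Agent.Lib.Helper23.TWG1
import Cfsg.Agent.Lib.Helper19.TWGrow
import Cfsg.Agent.Lib.Helper14.TWIIDefs
import Cfsg.Agent.Lib.Helper14.TWIIBBK

/-!
S5641 Stage II Case B, leaf IIB-B1 `B1_structure` (exact signature of `notes/S5641_IIB_leaves.lean`).
-/

set_option autoImplicit false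
set_option linter.unusedSectionVars false
set_option linter.unusedVariables false

namespace Cfsg.Agent.Lib.Helper14.TWIIBLeaf
open Matrix Cfsg.Geo Cfsg.Agent.Lib.Helper18.AschA89 Cfsg.Agent.Lib.Helper20.AschLeaf Cfsg.Agent.Lib.Helper8.TW
  Cfsg.Agent.Lib.Helper14.TWII
open Cfsg.Agent.Lib.Helper22.TWLeaf (ins_inj ext_ins slot_ins mat_ext_ins vec_ext_ins blkAt_mul ins_surj)

variable {F : Type*} [Field F] {t m : ℕ}

/-- generic: `img g S = S'` gives `img g⁻¹ S' = S` -/
lemma b1_img_inv_eq {ι : Type} [Fintype ι] [DecidableEq ι] (g : GL ι F) (S S' : Submodule F (ι → F))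
    (h : img g S = S') : img g⁻¹ S' = S := by
  subst h
  unfold img
  rw [← Submodule.map_comp, ← Matrix.toLin'_mul, ← Units.val_mul, inv_mul_cancel, Units.val_one,
    Matrix.toLin'_one]
  exact Submodule.map_id S

/-- B1 (L) STRUCTURE of an element stabilising `W = W(i,e_o)` and normalising `Q(i,e_o)`: `g' = (α ⊗ γ) z`, `z ∈ Z_W`. -/
theorem B1_structure (hm : 1 ≤ m) (i : Fin (t + 1)) (o : Fin m) (g' : GL (Idx (t + 1) m) F)
    (hstab : img g' (Wf i (eo o : Fin m → F)) = Wf i (eo o))
    (hstar : ∀ η : Fin m → F, η o = 0 → ∃ η'' : Fin m → F, η'' o = 0 ∧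
      (g' : Matrix (Idx (t + 1) m) (Idx (t + 1) m) F) * rootN i (eo o) η =
        rootN i (eo o) η'' * (g' : Matrix (Idx (t + 1) m) (Idx (t + 1) m) F)) :
    ∃ (α : GL (Fin m) F) (γ : GL (Idx t m) F) (z : GL (Idx (t + 1) m) F),
      (α : Matrix (Fin m) (Fin m) F) *ᵥ (eo o : Fin m → F) = eo o ∧ InZ i (eo o : Fin m → F) z ∧
        g' = slotGL i α * extGL i γ * z := by
  classical
  -- blocks of `g'` and of `g'⁻¹`
  set G : Fin m → Fin m → Matrix (Idx t m) (Idx t m) F :=
    fun a b => blkAt i (g' : Matrix (Idx (t + 1) m) (Idx (t + 1) m) F) a b with hGdef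
  set G' : Fin m → Fin m → Matrix (Idx t m) (Idx t m) F :=
    fun a b => blkAt i ((g'⁻¹ : GL (Idx (t + 1) m) F) : Matrix (Idx (t + 1) m) (Idx (t + 1) m) F) a b with hG'def
  have hG0 : ∀ a, a ≠ o → G a o = 0 := fun a ha => blkAt_col_of_stab i o g' hstab.le a ha
  have hG'0 : ∀ a, a ≠ o → G' a o = 0 := fun a ha =>
    blkAt_col_of_stab i o g'⁻¹ (b1_img_inv_eq g' _ _ hstab).le a ha
  -- `γ := G o o` is a unit
  have h1 : G o o * G' o o = 1 := by
    have e : blkAt i (((g' * g'⁻¹ : GL (Idx (t + 1) m) F)) : Matrix (Idx (t + 1) m) (Idx (t + 1) m) F) o o = 1 := by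
      rw [mul_inv_cancel, Units.val_one, blkAt_one, if_pos rfl]
    rw [Units.val_mul, blkAt_mul, Finset.sum_eq_single o] at e
    · exact e
    · intro c _ hc
      change G o c * G' c o = 0
      rw [hG'0 c hc, mul_zero]
    · intro h; exact absurd (Finset.mem_univ _) h
  have h2 : G' o o * G o o = 1 := by
    have e : blkAt i (((g'⁻¹ * g' : GL (Idx (t + 1) m) F)) : Matrix (Idx (t + 1) m) (Idx (t + 1) m) F) o o = 1 := by
      rw [inv_mul_cancel, Units.val_one, blkAt_one, if_pos rfl]
    rw [Units.val_mul, blkAt_mul, Finset.sum_eq_single o] at e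
    · exact e
    · intro c _ hc
      change G' o c * G c o = 0
      rw [hG0 c hc, mul_zero]
    · intro h; exact absurd (Finset.mem_univ _) h
  let γ : GL (Idx t m) F := ⟨G o o, G' o o, h1, h2⟩
  have hγval : (γ : Matrix (Idx t m) (Idx t m) F) = G o o := rfl
  have hγinv : ((γ⁻¹ : GL (Idx t m) F) : Matrix (Idx t m) (Idx t m) F) = G' o o := rfl
  have hγne : G o o ≠ 0 := by
    intro h0
    rw [h0, zero_mul] at h1
    have u₀ : Idx t m := fun _ => ⟨0, hm⟩
    have := congrFun (congrFun h1 u₀) u₀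
    rw [Matrix.zero_apply, Matrix.one_apply_eq] at this
    exact zero_ne_one this
  -- the rows of `M̃`
  have hex : ∀ c' : Fin m, ∃ μ : Fin m → F,
      (c' ≠ o → μ o = 0 ∧ (g' : Matrix (Idx (t + 1) m) (Idx (t + 1) m) F) * rootN i (eo o) (Pi.single c' 1) =
        rootN i (eo o) μ * (g' : Matrix (Idx (t + 1) m) (Idx (t + 1) m) F)) ∧ (c' = o → μ = eo o) := by
    intro c'
    by_cases hc : c' = o
    · exact ⟨eo o, fun h => absurd hc h, fun _ => rfl⟩
    · obtain ⟨μ, hμ1, hμ2⟩ := hstar (Pi.single c' 1) (by rw [Pi.single_eq_of_ne (Ne.symm hc)])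
      exact ⟨μ, fun _ => ⟨hμ1, hμ2⟩, fun h => absurd h hc⟩
  choose Mt hMt using hex
  -- the block equations
  set D : Fin m → Fin m → Matrix (Idx t m) (Idx t m) F :=
    fun c' b => if c' = o then G o b else if c' = b then G o o else 0 with hDdef
  have hrow : ∀ c' b, ∑ c, Mt c' c • G c b = D c' b := by
    intro c' b
    by_cases hc : c' = o
    · have hD : D c' b = G o b := by
        simp only [hDdef, if_pos hc]
      rw [hD, (hMt c').2 hc, Finset.sum_eq_single o]
      · simp [eo]
      · intro c _ hcc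
        simp [eo, Pi.single_eq_of_ne hcc]
      · intro h; exact absurd (Finset.mem_univ _) h
    · obtain ⟨hμ1, hμ2⟩ := (hMt c').1 hc
      have e1 : blkAt i ((g' : Matrix (Idx (t + 1) m) (Idx (t + 1) m) F) * rootN i (eo o) (Pi.single c' 1)) o b =
          blkAt i (rootN i (eo o) (Mt c') * (g' : Matrix (Idx (t + 1) m) (Idx (t + 1) m) F)) o b := by rw [hμ2]
      unfold rootN at e1
      rw [blkAt_mul_slot, blkAt_slot_mul] at e1
      -- left side
      have eL : ∑ c, (Matrix.vecMulVec (eo o : Fin m → F) (Pi.single c' 1)) c b • G o c =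
          if c' = b then G o o else 0 := by
        rw [Finset.sum_eq_single o]
        · rw [Matrix.vecMulVec_apply]
          by_cases hcb : c' = b
          · subst hcb
            simp [eo]
          · rw [if_neg hcb, Pi.single_eq_of_ne (Ne.symm hcb), mul_zero, zero_smul]
        · intro c _ hco
          rw [Matrix.vecMulVec_apply]
          simp [eo, Pi.single_eq_of_ne hco]
        · intro h; exact absurd (Finset.mem_univ _) h
      have eR : ∑ c, (Matrix.vecMulVec (eo o : Fin m → F) (Mt c')) o c • G c b = ∑ c, Mt c' c • G c b := by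
        apply Finset.sum_congr rfl
        intro c _
        rw [Matrix.vecMulVec_apply]
        simp [eo]
      change ∑ c, (Matrix.vecMulVec (eo o : Fin m → F) (Pi.single c' 1)) c b • G o c =
        ∑ c, (Matrix.vecMulVec (eo o : Fin m → F) (Mt c')) o c • G c b at e1
      rw [eL, eR] at e1
      simp only [hDdef, if_neg hc]
      exact e1.symm
  -- `M̃` is invertible
  have hdet : (Matrix.of Mt).det ≠ 0 := by
    intro hd
    obtain ⟨ξ, hξ0, hξ⟩ := Matrix.exists_vecMul_eq_zero_iff.mpr hd
    have hcomb : ∀ b, ∑ c', ξ c' • D c' b = 0 := by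
      intro b
      have : ∑ c', ξ c' • D c' b = ∑ c, (∑ c', ξ c' * Mt c' c) • G c b := by
        simp_rw [← hrow, Finset.smul_sum, smul_smul, Finset.sum_smul]
        rw [Finset.sum_comm]
      rw [this]
      apply Finset.sum_eq_zero
      intro c _
      have := congrFun hξ c
      simp only [Matrix.vecMul, dotProduct, Matrix.of_apply, Pi.zero_apply] at this
      rw [this, zero_smul]
    have hξo : ξ o = 0 := by
      have := hcomb o
      rw [Finset.sum_eq_single o] at this
      · simp only [hDdef, if_true] at this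
        rcases smul_eq_zero.mp this with h | h
        · exact h
        · exact absurd h hγne
      · intro c' _ hc'
        simp only [hDdef, if_neg hc', smul_zero]
      · intro h; exact absurd (Finset.mem_univ _) h
    apply hξ0
    funext b
    by_cases hb : b = o
    · rw [hb]; exact hξo
    · have := hcomb b
      rw [Finset.sum_eq_single b] at this
      · simp only [hDdef, if_neg hb, if_true] at this
        rcases smul_eq_zero.mp this with h | h
        · exact h
        · exact absurd h hγne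
      · intro c' _ hc'
        by_cases hco : c' = o
        · rw [hco, hξo, zero_smul]
        · simp only [hDdef, if_neg hco, if_neg hc', smul_zero]
      · intro h; exact absurd (Finset.mem_univ _) h
  let Mu : GL (Fin m) F := Matrix.GeneralLinearGroup.mkOfDetNeZero (Matrix.of Mt) hdet
  have hMuval : (Mu : Matrix (Fin m) (Fin m) F) = Matrix.of Mt := rfl
  have hMe : (Matrix.of Mt) *ᵥ (eo o : Fin m → F) = eo o := by
    funext c'
    simp only [Matrix.mulVec, dotProduct, Matrix.of_apply, eo]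
    rw [Finset.sum_eq_single o]
    · rw [Pi.single_eq_same, mul_one]
      by_cases hc : c' = o
      · rw [(hMt c').2 hc, hc]; simp [eo]
      · rw [((hMt c').1 hc).1, Pi.single_eq_of_ne hc]
    · intro c _ hc
      rw [Pi.single_eq_of_ne hc, mul_zero]
    · intro h; exact absurd (Finset.mem_univ _) h
  refine ⟨Mu⁻¹, γ, (slotGL i Mu⁻¹ * extGL i γ)⁻¹ * g', ?_, ?_, ?_⟩
  · -- `α e_o = e_o`
    have : ((Mu⁻¹ : GL (Fin m) F) : Matrix (Fin m) (Fin m) F) *ᵥ ((Matrix.of Mt) *ᵥ (eo o : Fin m → F)) = eo o := by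
      rw [Matrix.mulVec_mulVec, ← hMuval, ← Units.val_mul, inv_mul_cancel, Units.val_one, Matrix.one_mulVec]
    rwa [hMe] at this
  · -- `z ∈ Z_W`
    rw [InZ_eo_iff_blk]
    have hzval : (((slotGL i Mu⁻¹ * extGL i γ)⁻¹ * g' : GL (Idx (t + 1) m) F) :
        Matrix (Idx (t + 1) m) (Idx (t + 1) m) F) =
        ext i (G' o o) * (slot m (t + 1) i (Matrix.of Mt) * (g' : Matrix (Idx (t + 1) m) (Idx (t + 1) m) F)) := by
      rw [_root_.mul_inv_rev, ← slotGL_inv, inv_inv, ← extGL_inv, Units.val_mul, Units.val_mul, extGL_val,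
        slotGL_val, hγinv, hMuval, mul_assoc]
    have hblk : ∀ a b, blkAt i (((slotGL i Mu⁻¹ * extGL i γ)⁻¹ * g' : GL (Idx (t + 1) m) F) :
        Matrix (Idx (t + 1) m) (Idx (t + 1) m) F) a b = G' o o * D a b := by
      intro a b
      rw [hzval, blkAt_ext_mul, blkAt_slot_mul]
      congr 1
      exact hrow a b
    refine ⟨?_, ?_⟩
    · intro a b ha
      rw [hblk]
      simp only [hDdef, if_neg ha]
      by_cases hab : a = b
      · rw [if_pos hab, if_pos hab, h2]
      · rw [if_neg hab, if_neg hab, mul_zero]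
    · rw [hblk]
      simp only [hDdef, if_true]
      exact h2
  · rw [mul_inv_cancel_left]

end Cfsg.Agent.Lib.Helper14.TWIIBLeaf
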