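import Mathlib
import Cfsg.Agent.Lib.Helper8.TW.Defs
import Cfsg.Agent.Lib.Helper20.AschA89WR
import Cfsg.Agent.Lib.Helper20.AschA89F2J
import Cfsg.Agent.Lib.Helper22.TWExtBasic
import Cfsg.Agent.Lib.Helper22.TWExtMore
import Cfsg.Agent.Lib.Helper23.TWG1
import Cfsg.Agent.Lib.Helper19.TWGrow
import Cfsg.Agent.Lib.Helper14.TWIIDefs
import Cfsg.Agent.Lib.Helper14.TWIIBBK

/-!
S5641 Stage II Case B, leaf IIB-B2a `B2_scalar` (exact signature of `notes/S5641_IIB_leaves.lean`).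
-/

set_option autoImplicit false
set_option linter.unusedSectionVars false
set_option linter.unusedVariables false

namespace Cfsg.Agent.Lib.Helper14.TWIIBLeaf
open Matrix Cfsg.Geo Cfsg.Agent.Lib.Helper18.AschA89 Cfsg.Agent.Lib.Helper20.AschLeaf Cfsg.Agent.Lib.Helper8.TW
  Cfsg.Agent.Lib.Helper14.TWII
open Cfsg.Agent.Lib.Helper22.TWLeaf (ins_inj ext_ins slot_ins mat_ext_ins vec_ext_ins blkAt_mul ins_surj)

variable {F : Type*} [Field F] {t m : ℕ}

/-- the elementary matrix `1 + c E_{ab}` (`a ≠ b`) as a unit of `GL_m` -/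
def elemGL (a b : Fin m) (hab : a ≠ b) (c : F) : GL (Fin m) F :=
  ⟨1 + Matrix.single a b c, 1 - Matrix.single a b c, by
    rw [add_mul, mul_sub, mul_sub, mul_one, one_mul, mul_one, Matrix.single_mul_single_of_ne _ _ _ _ (Ne.symm hab)]
    abel, by
    rw [sub_mul, mul_add, mul_add, mul_one, one_mul, mul_one, Matrix.single_mul_single_of_ne _ _ _ _ (Ne.symm hab)]
    abel⟩

@[simp] lemma elemGL_val (a b : Fin m) (hab : a ≠ b) (c : F) :
    ((elemGL a b hab c : GL (Fin m) F) : Matrix (Fin m) (Fin m) F) = 1 + Matrix.single a b c := rfl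

lemma elemGL_inv_val (a b : Fin m) (hab : a ≠ b) (c : F) :
    (((elemGL a b hab c)⁻¹ : GL (Fin m) F) : Matrix (Fin m) (Fin m) F) = 1 - Matrix.single a b c := rfl

lemma elemGL_det (a b : Fin m) (hab : a ≠ b) (c : F) :
    ((elemGL a b hab c : GL (Fin m) F) : Matrix (Fin m) (Fin m) F).det = 1 := by
  rw [elemGL_val]
  exact Matrix.det_transvection_of_ne a b hab c

lemma elemGL_mulVec_eo (a b : Fin m) (hab : a ≠ b) (c : F) (o : Fin m) (hbo : b ≠ o) :
    ((elemGL a b hab c : GL (Fin m) F) : Matrix (Fin m) (Fin m) F) *ᵥ (eo o : Fin m → F) = eo o := by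
  rw [elemGL_val, Matrix.add_mulVec, Matrix.one_mulVec]
  have : Matrix.single a b c *ᵥ (eo o : Fin m → F) = 0 := by
    funext k
    simp only [Matrix.mulVec, dotProduct, eo, Pi.zero_apply]
    apply Finset.sum_eq_zero
    intro l _
    by_cases hl : l = o
    · subst hl
      rw [Matrix.single_apply_of_ne, zero_mul]
      intro h
      exact hbo h.2
    · rw [Pi.single_eq_of_ne hl, mul_zero]
  rw [this, add_zero]

/-- B2a (M) `z ∈ Z_W` whose commutators with `SL(A)_{e_o}` lie in `Q(i,e_o)` lies in `Q(i,e_o)` -/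
theorem B2_scalar (hm : 3 ≤ m) (i : Fin (t + 1)) (o : Fin m) (z : GL (Idx (t + 1) m) F)
    (hz : InZ i (eo o : Fin m → F) z)
    (hQ : ∀ α' : GL (Fin m) F, (α' : Matrix (Fin m) (Fin m) F).det = 1 →
      (α' : Matrix (Fin m) (Fin m) F) *ᵥ (eo o : Fin m → F) = eo o →
      ∃ η : Fin m → F, η o = 0 ∧
        (((slotGL i α')⁻¹ * z * slotGL i α' * z⁻¹ : GL (Idx (t + 1) m) F) : Matrix (Idx (t + 1) m) (Idx (t + 1) m) F) =
          1 + rootN i (eo o) η) :
    ∃ η₀ : Fin m → F, η₀ o = 0 ∧ (z : Matrix (Idx (t + 1) m) (Idx (t + 1) m) F) = 1 + rootN i (eo o) η₀ := by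
  classical
  obtain ⟨hzA, hzo⟩ := (InZ_eo_iff_blk i o z).mp hz
  -- every block `(o, b₁)`, `b₁ ≠ o`, is scalar
  have hsc : ∀ b₁ : Fin m, b₁ ≠ o → ∃ c : F,
      blkAt i (z : Matrix (Idx (t + 1) m) (Idx (t + 1) m) F) o b₁ = c • (1 : Matrix (Idx t m) (Idx t m) F) := by
    intro b₁ hb₁
    obtain ⟨b₂, hb₂o, hb₂b₁⟩ := Cfsg.Agent.Lib.Helper19.TWGrow.exists_avoid hm o b₁
    have hab : b₁ ≠ b₂ := Ne.symm hb₂b₁
    obtain ⟨η, hηo, hη⟩ := hQ (elemGL b₁ b₂ hab 1) (elemGL_det _ _ _ _) (elemGL_mulVec_eo _ _ _ _ o hb₂o)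
    refine ⟨η b₂, ?_⟩
    -- `a⁻¹ z a = (1 + N) z`
    have e1 : (slotGL i (elemGL b₁ b₂ hab (1 : F)))⁻¹ * z * slotGL i (elemGL b₁ b₂ hab 1) =
        ((slotGL i (elemGL b₁ b₂ hab (1 : F)))⁻¹ * z * slotGL i (elemGL b₁ b₂ hab 1) * z⁻¹) * z := by
      rw [inv_mul_cancel_right]
    have e2 : (((slotGL i (elemGL b₁ b₂ hab (1 : F)))⁻¹ * z * slotGL i (elemGL b₁ b₂ hab 1) :
        GL (Idx (t + 1) m) F) : Matrix (Idx (t + 1) m) (Idx (t + 1) m) F) =
        (((slotGL i (elemGL b₁ b₂ hab (1 : F)))⁻¹ * z * slotGL i (elemGL b₁ b₂ hab 1) * z⁻¹ :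
          GL (Idx (t + 1) m) F) : Matrix (Idx (t + 1) m) (Idx (t + 1) m) F) *
          (z : Matrix (Idx (t + 1) m) (Idx (t + 1) m) F) := by
      rw [← Units.val_mul, ← e1]
    rw [hη, Units.val_mul, Units.val_mul, ← slotGL_inv, slotGL_val, slotGL_val,
      elemGL_inv_val, elemGL_val] at e2
    have e3 : blkAt i (slot m (t + 1) i (1 - Matrix.single b₁ b₂ (1 : F)) *
        (z : Matrix (Idx (t + 1) m) (Idx (t + 1) m) F) * slot m (t + 1) i (1 + Matrix.single b₁ b₂ (1 : F))) o b₂ =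
        blkAt i ((1 + rootN i (eo o) η) * (z : Matrix (Idx (t + 1) m) (Idx (t + 1) m) F)) o b₂ := by rw [e2]
    rw [blkAt_mul_slot, add_mul, one_mul, blkAt_add] at e3
    unfold rootN at e3
    rw [blkAt_slot_mul] at e3
    -- the left side
    have hM : ∀ c, blkAt i (slot m (t + 1) i (1 - Matrix.single b₁ b₂ (1 : F)) *
        (z : Matrix (Idx (t + 1) m) (Idx (t + 1) m) F)) o c =
        blkAt i (z : Matrix (Idx (t + 1) m) (Idx (t + 1) m) F) o c := by
      intro c
      rw [blkAt_slot_mul, Finset.sum_eq_single o]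
      · rw [Matrix.sub_apply, Matrix.one_apply_eq, Matrix.single_apply_of_ne, sub_zero, one_smul]
        intro h
        exact hb₁ h.1
      · intro d _ hd
        rw [Matrix.sub_apply, Matrix.one_apply_ne (Ne.symm hd), Matrix.single_apply_of_ne, sub_zero, zero_smul]
        intro h
        exact hb₁ h.1
      · intro h; exact absurd (Finset.mem_univ _) h
    have eL : ∑ c, (1 + Matrix.single b₁ b₂ (1 : F)) c b₂ •
        blkAt i (slot m (t + 1) i (1 - Matrix.single b₁ b₂ (1 : F)) *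
          (z : Matrix (Idx (t + 1) m) (Idx (t + 1) m) F)) o c =
        blkAt i (z : Matrix (Idx (t + 1) m) (Idx (t + 1) m) F) o b₂ +
          blkAt i (z : Matrix (Idx (t + 1) m) (Idx (t + 1) m) F) o b₁ := by
      simp_rw [hM, Matrix.add_apply, add_smul, Finset.sum_add_distrib]
      congr 1
      · rw [Finset.sum_eq_single b₂]
        · rw [Matrix.one_apply_eq, one_smul]
        · intro c _ hc
          rw [Matrix.one_apply_ne hc, zero_smul]
        · intro h; exact absurd (Finset.mem_univ _) h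
      · rw [Finset.sum_eq_single b₁]
        · rw [Matrix.single_apply_same, one_smul]
        · intro c _ hc
          rw [Matrix.single_apply_of_ne, zero_smul]
          intro h
          exact hc h.1.symm
        · intro h; exact absurd (Finset.mem_univ _) h
    have eR : ∑ c, (Matrix.vecMulVec (eo o : Fin m → F) η) o c •
        blkAt i (z : Matrix (Idx (t + 1) m) (Idx (t + 1) m) F) c b₂ = η b₂ • (1 : Matrix (Idx t m) (Idx t m) F) := by
      rw [Finset.sum_eq_single b₂]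
      · rw [hzA b₂ b₂ hb₂o, if_pos rfl, Matrix.vecMulVec_apply]
        simp [eo]
      · intro c _ hc
        by_cases hco : c = o
        · rw [hco, Matrix.vecMulVec_apply, hηo, mul_zero, zero_smul]
        · rw [hzA c b₂ hco, if_neg hc, smul_zero]
      · intro h; exact absurd (Finset.mem_univ _) h
    rw [eL, eR] at e3
    exact add_left_cancel e3
  -- assemble `η₀`
  have hex : ∀ b₁ : Fin m, ∃ c : F,
      (b₁ ≠ o → blkAt i (z : Matrix (Idx (t + 1) m) (Idx (t + 1) m) F) o b₁ =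
        c • (1 : Matrix (Idx t m) (Idx t m) F)) ∧ (b₁ = o → c = 0) := by
    intro b₁
    by_cases hb : b₁ = o
    · exact ⟨0, fun h => absurd hb h, fun _ => rfl⟩
    · obtain ⟨c, hc⟩ := hsc b₁ hb
      exact ⟨c, fun _ => hc, fun h => absurd h hb⟩
  choose η₀ hη₀ using hex
  refine ⟨η₀, (hη₀ o).2 rfl, ?_⟩
  apply eq_of_blkAt i
  intro a b
  rw [blkAt_add, blkAt_one, blkAt_rootN]
  by_cases ha : a = o
  · subst ha
    by_cases hb : b = a
    · subst hb
      rw [hzo, if_pos rfl, (hη₀ b).2 rfl, mul_zero, zero_smul, add_zero]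
    · rw [(hη₀ b).1 hb, if_neg (Ne.symm hb), zero_add]
      simp [eo]
  · rw [hzA a b ha]
    simp [eo, Pi.single_eq_of_ne ha]

end Cfsg.Agent.Lib.Helper14.TWIIBLeaf
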