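/-
helper14: S3613 TW market, leaf TWPAR (parity): a subgroup of index 2 stays transitive on an odd
number of points.
-/
import Mathlib

set_option autoImplicit false

namespace Cfsg.Agent.Lib.Helper14.TWPAR

open MulAction

set_option linter.dupNamespace false in
/-- **TWPAR**. -/
theorem TWPAR {K X : Type*} [Group K] [MulAction K X] [Finite X] (K₀ : Subgroup K)
    (hidx : K₀.index = 2) (c d : X) (hcd : c ≠ d) (hodd : Odd (Nat.card X))
    (htr : ∀ y y' : X, y ≠ c → y ≠ d → y' ≠ c → y' ≠ d →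
      ∃ k : K, k • c = c ∧ k • d = d ∧ k • y = y') :
    ∀ y y' : X, y ≠ c → y ≠ d → y' ≠ c → y' ≠ d →
      ∃ k ∈ K₀, k • c = c ∧ k • d = d ∧ k • y = y' := by
  intro y y' hyc hyd hy'c hy'd
  by_contra hcon
  -- the element `t` moving `y` to `y'`
  obtain ⟨t, htc, htd, hty⟩ := htr y y' hyc hyd hy'c hy'd
  have htK : t ∉ K₀ := fun h => hcon ⟨t, h, htc, htd, hty⟩
  have hmul : ∀ {a b : K}, a * b ∈ K₀ ↔ (a ∈ K₀ ↔ b ∈ K₀) :=
    Subgroup.mul_mem_iff_of_index_two hidx
  -- the sets
  set Y : Set X := {x | x ≠ c ∧ x ≠ d} with hY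
  set A : Set X := {x | ∃ k ∈ K₀, k • c = c ∧ k • d = d ∧ k • y = x} with hA
  have hAY : A ⊆ Y := by
    rintro x ⟨k, _, hkc, hkd, rfl⟩
    refine ⟨fun h => hyc ?_, fun h => hyd ?_⟩
    · rw [← hkc] at h; exact MulAction.injective k h
    · rw [← hkd] at h; exact MulAction.injective k h
  have hunion : Y = A ∪ (fun x => t • x) '' A := by
    apply Set.Subset.antisymm
    · rintro z ⟨hzc, hzd⟩
      obtain ⟨k, hkc, hkd, hky⟩ := htr y z hyc hyd hzc hzd
      by_cases hk : k ∈ K₀
      · exact Or.inl ⟨k, hk, hkc, hkd, hky⟩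
      · right
        refine ⟨(t⁻¹ * k) • y, ⟨t⁻¹ * k, ?_, ?_, ?_, rfl⟩, ?_⟩
        · rw [hmul, Subgroup.inv_mem_iff]
          exact ⟨fun h => absurd h htK, fun h => absurd h hk⟩
        · rw [mul_smul, hkc, inv_smul_eq_iff, htc]
        · rw [mul_smul, hkd, inv_smul_eq_iff, htd]
        · show t • (t⁻¹ * k) • y = z
          rw [mul_smul, smul_inv_smul, hky]
    · rintro z (hz | ⟨x, hx, rfl⟩)
      · exact hAY hz
      · obtain ⟨hxc, hxd⟩ := hAY hx
        refine ⟨fun h => hxc ?_, fun h => hxd ?_⟩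
        · have h' : t • x = t • c := by rw [htc]; exact h
          exact MulAction.injective t h'
        · have h' : t • x = t • d := by rw [htd]; exact h
          exact MulAction.injective t h'
  have hdisj : Disjoint A ((fun x => t • x) '' A) := by
    rw [Set.disjoint_left]
    rintro z ⟨k, hk, hkc, hkd, hkz⟩ ⟨x, ⟨k', hk', hk'c, hk'd, rfl⟩, hxz⟩
    apply hcon
    -- `s = k⁻¹ t k'` fixes `y` and is outside `K₀`
    have hs : (k⁻¹ * (t * k')) • y = y := by
      rw [mul_smul, mul_smul, inv_smul_eq_iff, hkz]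
      exact hxz
    refine ⟨t * (k⁻¹ * (t * k'))⁻¹, ?_, ?_, ?_, ?_⟩
    · rw [hmul, Subgroup.inv_mem_iff]
      have : k⁻¹ * (t * k') ∉ K₀ := by
        rw [hmul, Subgroup.inv_mem_iff, hmul]
        intro h
        exact htK ((h.mp hk).mpr hk')
      exact ⟨fun h => absurd h htK, fun h => absurd h this⟩
    · rw [mul_smul, inv_smul_eq_iff.mpr, htc]
      rw [mul_smul, mul_smul, hk'c, htc, eq_inv_smul_iff, hkc]
    · rw [mul_smul, inv_smul_eq_iff.mpr, htd]
      rw [mul_smul, mul_smul, hk'd, htd, eq_inv_smul_iff, hkd]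
    · rw [mul_smul, inv_smul_eq_iff.mpr hs.symm, hty]
  -- counting
  have hfin : ∀ s : Set X, s.Finite := fun s => Set.toFinite s
  have hcardY : Y.ncard + 2 = Nat.card X := by
    have h1 : ({c, d} : Set X).ncard = 2 := Set.ncard_pair hcd
    have h2 : ({c, d} : Set X)ᶜ = Y := by
      ext x
      simp only [Set.mem_compl_iff, Set.mem_insert_iff, Set.mem_singleton_iff, not_or, hY,
        Set.mem_ofPred_eq]
    have h3 := Set.ncard_add_ncard_compl ({c, d} : Set X) (hfin _) (hfin _)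
    rw [h1, h2] at h3
    omega
  have hcardY2 : Y.ncard = 2 * A.ncard := by
    rw [hunion, Set.ncard_union_eq hdisj (hfin _) (hfin _),
      Set.ncard_image_of_injective _ (MulAction.injective t)]
    ring
  obtain ⟨r, hr⟩ := hodd
  omega

end Cfsg.Agent.Lib.Helper14.TWPAR
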