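import Mathlib
import Cfsg.Agent.Lib.Helper5.TWS.Defs
import Cfsg.Agent.Lib.Helper8.TW.Defs
import Cfsg.Agent.Lib.Helper22.TWExtBasic
import Cfsg.Agent.Lib.Helper22.TWExtMore
import Cfsg.Agent.Lib.Helper12.TWIIBZ
import Cfsg.Agent.Lib.Helper14.TWIIDefs
import Cfsg.Agent.Lib.Helper14.TWIIBBK
import Cfsg.Agent.Lib.Helper14.TWIIBB1
import Cfsg.Agent.Lib.Helper14.TWSIIDefs

/-!
S5668 Stage II-B (helper14): leaf B1 `B1S_blocks`, part a: the standard hyperbolic pair `(e_o, e_o')`, `o = 0`, `o' = 1`; generic flag lemmas.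
-/

set_option autoImplicit false
set_option linter.unusedSectionVars false
set_option linter.unusedVariables false

namespace Cfsg.Agent.Lib.Helper14.TWSIILeaf
open Matrix Cfsg.Geo Cfsg.Agent.Lib.Helper18.AschA89 Cfsg.Agent.Lib.Helper8.TW Cfsg.Agent.Lib.Helper5.TWS
  Cfsg.Agent.Lib.Helper14.TWII Cfsg.Agent.Lib.Helper14.TWSII
open Cfsg.Agent.Lib.Helper25.SpT (sf Jm sfv)
open Cfsg.Agent.Lib.Helper22.TWLeaf
open Cfsg.Agent.Lib.Helper14.TWIIBLeaf

variable {F : Type*} [Field F] {t k : ℕ}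

lemma Jm_col_o (o o' : Fin k) (ho : o.val = 0) (ho' : o'.val = 1) (b : Fin k) :
    (Jm k : Matrix (Fin k) (Fin k) F) b o = if b = o' then -1 else 0 := by
  rw [Cfsg.Agent.Lib.Helper25.SpT.Jm_apply]
  by_cases hb : b = o'
  · subst hb
    rw [if_neg (by omega), if_pos (by omega), if_pos rfl]
  · have : b.val ≠ 1 := fun h => hb (Fin.ext (by omega))
    rw [if_neg (by omega), if_neg (by omega), if_neg hb]

lemma Jm_col_o' (o o' : Fin k) (ho : o.val = 0) (ho' : o'.val = 1) (b : Fin k) :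
    (Jm k : Matrix (Fin k) (Fin k) F) b o' = if b = o then 1 else 0 := by
  rw [Cfsg.Agent.Lib.Helper25.SpT.Jm_apply]
  by_cases hb : b = o
  · subst hb
    rw [if_pos (by omega), if_pos rfl]
  · have : b.val ≠ 0 := fun h => hb (Fin.ext (by omega))
    rw [if_neg (by omega), if_neg (by omega), if_neg hb]

lemma sfv_eo_apply (r b : Fin k) : sfv (eo r : Fin k → F) b = (Jm k : Matrix (Fin k) (Fin k) F) b r := by
  unfold sfv eo
  rw [Matrix.mulVec_single_one]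
  rfl

lemma sfv_eo (o o' : Fin k) (ho : o.val = 0) (ho' : o'.val = 1) :
    sfv (eo o : Fin k → F) = -(eo o') := by
  funext b
  rw [sfv_eo_apply, Jm_col_o o o' ho ho', Pi.neg_apply, eo]
  by_cases hb : b = o'
  · subst hb
    rw [if_pos rfl, Pi.single_eq_same]
  · rw [if_neg hb, Pi.single_eq_of_ne hb, neg_zero]

lemma sfv_eo' (o o' : Fin k) (ho : o.val = 0) (ho' : o'.val = 1) :
    sfv (eo o' : Fin k → F) = eo o := by
  funext b
  rw [sfv_eo_apply, Jm_col_o' o o' ho ho', eo]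
  by_cases hb : b = o
  · subst hb
    rw [if_pos rfl, Pi.single_eq_same]
  · rw [if_neg hb, Pi.single_eq_of_ne hb]

lemma eo_dot (r : Fin k) (a : Fin k → F) : (eo r : Fin k → F) ⬝ᵥ a = a r := by
  unfold eo
  rw [single_dotProduct, one_mul]

lemma sf_eo (o o' : Fin k) (ho : o.val = 0) (ho' : o'.val = 1) (a : Fin k → F) :
    sf a (eo o : Fin k → F) = - a o' := by
  rw [← Cfsg.Agent.Lib.Helper25.SpT.sfv_dot, sfv_eo o o' ho ho', neg_dotProduct, eo_dot]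

lemma sf_eo' (o o' : Fin k) (ho : o.val = 0) (ho' : o'.val = 1) (a : Fin k → F) :
    sf a (eo o' : Fin k → F) = a o := by
  rw [← Cfsg.Agent.Lib.Helper25.SpT.sfv_dot, sfv_eo' o o' ho ho', eo_dot]

lemma sf_eo_eo' (o o' : Fin k) (ho : o.val = 0) (ho' : o'.val = 1) :
    sf (eo o : Fin k → F) (eo o') = 1 := by
  rw [sf_eo' o o' ho ho', eo, Pi.single_eq_same]

/-- `C(i, e_o†)` in coordinates -/
theorem mem_Cf_eo_iff (i : Fin (t + 1)) (o o' : Fin k) (ho : o.val = 0) (ho' : o'.val = 1)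
    (v : Idx (t + 1) k → F) :
    v ∈ Cf i (sfv (eo o : Fin k → F)) ↔ ∀ x, v (ins i o' x) = 0 := by
  rw [mem_Cf_iff_ctr, sfv_eo o o' ho ho']
  have e : ∀ x, ctr i (-(eo o' : Fin k → F)) v x = - v (ins i o' x) := by
    intro x
    simp only [ctr, Pi.neg_apply, eo]
    rw [Finset.sum_eq_single o']
    · rw [Pi.single_eq_same]; ring
    · intro b _ hb
      rw [Pi.single_eq_of_ne hb]; ring
    · intro h; exact absurd (Finset.mem_univ _) h
  constructor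
  · intro h x
    have := congrFun h x
    rw [e, Pi.zero_apply, neg_eq_zero] at this
    exact this
  · intro h
    funext x
    rw [e, h x, neg_zero, Pi.zero_apply]

/-- a matrix mapping `C(i,e_o†)` into itself has zero blocks `(o', b)`, `b ≠ o'` -/
theorem blkAt_row_of_stabC (i : Fin (t + 1)) (o o' : Fin k) (ho : o.val = 0) (ho' : o'.val = 1)
    (g : GL (Idx (t + 1) k) F)
    (h : img g (Cf i (sfv (eo o : Fin k → F))) ≤ Cf i (sfv (eo o))) (b : Fin k) (hb : b ≠ o') :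
    blkAt i (g : Matrix (Idx (t + 1) k) (Idx (t + 1) k) F) o' b = 0 := by
  classical
  ext x x'
  rw [blkAt_apply, Matrix.zero_apply]
  have hmem : (Pi.single (ins i b x') (1 : F) : Idx (t + 1) k → F) ∈ Cf i (sfv (eo o : Fin k → F)) := by
    rw [mem_Cf_eo_iff i o o' ho ho']
    intro w
    rw [Pi.single_eq_of_ne]
    intro h'
    exact hb ((ins_inj i o' b w x').mp h').1.symm
  have h1 : (g : Matrix (Idx (t + 1) k) (Idx (t + 1) k) F) *ᵥ Pi.single (ins i b x') (1 : F) ∈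
      Cf i (sfv (eo o : Fin k → F)) := by
    apply h
    refine ⟨_, hmem, ?_⟩
    rw [Matrix.toLin'_apply]
  rw [mem_Cf_eo_iff i o o' ho ho'] at h1
  have h2 := h1 x
  rwa [Matrix.mulVec_single_one] at h2

/-! ### generic flag lemmas -/

/-- the inverse of a unitriangular element is unitriangular -/
lemma flag_inv {ι : Type} [Fintype ι] [DecidableEq ι] (u : GL ι F) (W C : Submodule F (ι → F)) (hWC : W ≤ C)
    (h1 : ∀ v ∈ W, mv u v = v) (h2 : ∀ v ∈ C, mv u v - v ∈ W) (h3 : ∀ v, mv u v - v ∈ C) :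
    (∀ v ∈ W, mv u⁻¹ v = v) ∧ (∀ v ∈ C, mv u⁻¹ v - v ∈ W) ∧ (∀ v, mv u⁻¹ v - v ∈ C) := by
  have k1 : ∀ v ∈ W, mv u⁻¹ v = v := by
    intro v hv
    have := Cfsg.Agent.Lib.Helper12.TWIIBLeaf.mv_inv_mv u v
    rwa [h1 v hv] at this
  have key : ∀ v, mv u⁻¹ v - v = - mv u⁻¹ (mv u v - v) := by
    intro v
    rw [Cfsg.Agent.Lib.Helper12.TWIIBLeaf.mv_sub, Cfsg.Agent.Lib.Helper12.TWIIBLeaf.mv_inv_mv]
    abel
  have k2 : ∀ v ∈ C, mv u⁻¹ v - v ∈ W := by
    intro v hv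
    rw [key, k1 _ (h2 v hv)]
    exact W.neg_mem (h2 v hv)
  refine ⟨k1, k2, ?_⟩
  intro v
  rw [key]
  apply C.neg_mem
  have h4 := k2 _ (h3 v)
  have e : mv u⁻¹ (mv u v - v) = (mv u⁻¹ (mv u v - v) - (mv u v - v)) + (mv u v - v) := by abel
  rw [e]
  exact C.add_mem (hWC h4) (h3 v)

/-- `g⁻¹ κ` is unitriangular when `κ - g` is strictly triangular and `g` stabilises the flag -/
lemma flag_of_diff {ι : Type} [Fintype ι] [DecidableEq ι] (g κ : GL ι F) (W C : Submodule F (ι → F))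
    (hgW : img g W = W) (hgC : img g C = C)
    (d1 : ∀ v ∈ W, mv κ v - mv g v = 0) (d2 : ∀ v ∈ C, mv κ v - mv g v ∈ W) (d3 : ∀ v, mv κ v - mv g v ∈ C) :
    (∀ v ∈ W, mv (g⁻¹ * κ) v = v) ∧ (∀ v ∈ C, mv (g⁻¹ * κ) v - v ∈ W) ∧ (∀ v, mv (g⁻¹ * κ) v - v ∈ C) := by
  have hW' : img g⁻¹ W = W := b1_img_inv_eq g W W hgW
  have hC' : img g⁻¹ C = C := b1_img_inv_eq g C C hgC
  have key : ∀ v, mv (g⁻¹ * κ) v - v = mv g⁻¹ (mv κ v - mv g v) := by
    intro v
    rw [Cfsg.Agent.Lib.Helper12.TWIIBLeaf.mv_mul', Cfsg.Agent.Lib.Helper12.TWIIBLeaf.mv_sub,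
      Cfsg.Agent.Lib.Helper12.TWIIBLeaf.mv_inv_mv]
  refine ⟨?_, ?_, ?_⟩
  · intro v hv
    have := key v
    rw [d1 v hv] at this
    have h0 : mv g⁻¹ (0 : ι → F) = 0 := by unfold mv; exact Matrix.mulVec_zero _
    rw [h0] at this
    exact sub_eq_zero.1 this
  · intro v hv
    rw [key, ← hW']
    exact Cfsg.Agent.Lib.Helper12.TWIIBLeaf.mv_mem_img g⁻¹ W _ (d2 v hv)
  · intro v
    rw [key, ← hC']
    exact Cfsg.Agent.Lib.Helper12.TWIIBLeaf.mv_mem_img g⁻¹ C _ (d3 v)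

end Cfsg.Agent.Lib.Helper14.TWSIILeaf
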