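import Mathlib
import Cfsg.Agent.Lib.Helper14.TWSIIB1a

/-!
S5668 Stage II-B (helper14): leaf B1 `B1S_blocks`, part b: the block analysis for the standard hyperbolic pair.
-/

set_option autoImplicit false
set_option linter.unusedSectionVars false
set_option linter.unusedVariables false

namespace Cfsg.Agent.Lib.Helper14.TWSIILeaf
open Matrix Cfsg.Geo Cfsg.Agent.Lib.Helper18.AschA89 Cfsg.Agent.Lib.Helper8.TW Cfsg.Agent.Lib.Helper5.TWS
  Cfsg.Agent.Lib.Helper14.TWII Cfsg.Agent.Lib.Helper14.TWSII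
open Cfsg.Agent.Lib.Helper25.SpT (sf Jm sfv)
open Cfsg.Agent.Lib.Helper22.TWLeaf
open Cfsg.Agent.Lib.Helper14.TWIIBLeaf

variable {F : Type*} [Field F] {t k : ℕ}

/-- the shape of a matrix `M` with `M y = y`, `M a ∈ a + F y` (`a ⊥ y`), `(M - 1) A ≤ y^⊥`, for `y = e_o` -/
lemma M_shape (o o' : Fin k) (ho : o.val = 0) (ho' : o'.val = 1) (M : Matrix (Fin k) (Fin k) F)
    (h2 : M *ᵥ (eo o : Fin k → F) = eo o)
    (h3 : ∀ a : Fin k → F, sf a (eo o : Fin k → F) = 0 → ∃ c : F, M *ᵥ a = a + c • eo o)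
    (h4 : ∀ a : Fin k → F, sf (M *ᵥ a - a) (eo o : Fin k → F) = 0) :
    (∀ c, M c o = if c = o then 1 else 0) ∧ (∀ c b, c ≠ o → b ≠ o' → M c b = if c = b then 1 else 0) ∧
      (∀ b, M o' b = if o' = b then 1 else 0) := by
  classical
  have hcol : ∀ c b, M c b = (M *ᵥ (eo b : Fin k → F)) c := by
    intro c b
    unfold eo
    rw [Matrix.mulVec_single_one]
    rfl
  refine ⟨?_, ?_, ?_⟩
  · intro c
    rw [hcol, h2, eo, Pi.single_apply]
  · intro c b hc hb
    have hb0 : sf (eo b : Fin k → F) (eo o : Fin k → F) = 0 := by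
      rw [sf_eo o o' ho ho', eo, Pi.single_eq_of_ne (Ne.symm hb), neg_zero]
    obtain ⟨d, hd⟩ := h3 _ hb0
    rw [hcol, hd, Pi.add_apply, Pi.smul_apply, eo, eo, Pi.single_eq_of_ne hc, smul_zero, add_zero, Pi.single_apply]
  · intro b
    have h := h4 (eo b)
    rw [sf_eo o o' ho ho', neg_eq_zero, Pi.sub_apply, sub_eq_zero] at h
    rw [hcol, h, eo, Pi.single_apply]

/-- entries of the Heisenberg matrix `η_{e_r, 0}` of `e_o` -/
lemma eta_entry (o o' : Fin k) (ho : o.val = 0) (ho' : o'.val = 1) (r c b : Fin k) :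
    etaS (eo o : Fin k → F) (eo r) 0 c b =
      (if c = b then 1 else 0) - (if c = r then (if b = o' then 1 else 0) else 0) +
        (if c = o then (Jm k : Matrix (Fin k) (Fin k) F) b r else 0) := by
  unfold etaS
  simp only [Matrix.add_apply, Matrix.one_apply, Matrix.vecMulVec_apply, zero_smul, Matrix.zero_apply, add_zero]
  rw [sfv_eo o o' ho ho', sfv_eo_apply]
  simp only [eo, Pi.single_apply, Pi.neg_apply]
  split_ifs <;> ring

/-- the block form of `g * slot i η = slot i M * g` -/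
lemma eta_blocks (i : Fin (t + 1)) (o o' : Fin k) (ho : o.val = 0) (ho' : o'.val = 1) (r : Fin k)
    (g M' : Matrix (Idx (t + 1) k) (Idx (t + 1) k) F) (M : Matrix (Fin k) (Fin k) F)
    (h : g * slot k (t + 1) i (etaS (eo o : Fin k → F) (eo r) 0) = slot k (t + 1) i M * M') (a b : Fin k) :
    blkAt i g a b - (if b = o' then blkAt i g a r else 0) +
        (Jm k : Matrix (Fin k) (Fin k) F) b r • blkAt i g a o = ∑ c, M a c • blkAt i M' c b := by
  classical
  have e : blkAt i (g * slot k (t + 1) i (etaS (eo o : Fin k → F) (eo r) 0)) a b =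
      blkAt i (slot k (t + 1) i M * M') a b := by rw [h]
  rw [blkAt_mul_slot, blkAt_slot_mul] at e
  rw [← e]
  simp only [eta_entry o o' ho ho', add_smul, sub_smul, Finset.sum_add_distrib, Finset.sum_sub_distrib, ite_smul,
    one_smul, zero_smul, Finset.sum_ite_eq', Finset.mem_univ, if_true]

end Cfsg.Agent.Lib.Helper14.TWSIILeaf
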