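import Mathlib
import Cfsg.Agent.Lib.Helper14.TWSIIB1b

/-!
S5668 Stage II-B (helper14): leaf B1 `B1S_blocks`, part c: the graded action for the standard hyperbolic pair (`B1S_std`).
-/

set_option autoImplicit false
set_option linter.unusedSectionVars false
set_option linter.unusedVariables false

namespace Cfsg.Agent.Lib.Helper14.TWSIILeaf
open Matrix Cfsg.Geo Cfsg.Agent.Lib.Helper18.AschA89 Cfsg.Agent.Lib.Helper8.TW Cfsg.Agent.Lib.Helper5.TWS
  Cfsg.Agent.Lib.Helper14.TWII Cfsg.Agent.Lib.Helper14.TWSII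
open Cfsg.Agent.Lib.Helper25.SpT (sf Jm sfv)
open Cfsg.Agent.Lib.Helper22.TWLeaf
open Cfsg.Agent.Lib.Helper14.TWIIBLeaf

variable {F : Type*} [Field F] {t k : ℕ}

/-- the three strict-triangularity statements for a matrix whose blocks vanish in the pattern `(F1) (F2) (F3)` -/
lemma tri_of_blocks (i : Fin (t + 1)) (o o' : Fin k) (ho : o.val = 0) (ho' : o'.val = 1)
    (D : Matrix (Idx (t + 1) k) (Idx (t + 1) k) F)
    (f1 : ∀ a, blkAt i D a o = 0) (f2 : ∀ a b, a ≠ o → b ≠ o' → blkAt i D a b = 0) (f3 : ∀ b, blkAt i D o' b = 0) :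
    (∀ v ∈ Wf i (eo o : Fin k → F), D *ᵥ v = 0) ∧
      (∀ v ∈ Cf i (sfv (eo o : Fin k → F)), D *ᵥ v ∈ Wf i (eo o : Fin k → F)) ∧
      (∀ v, D *ᵥ v ∈ Cf i (sfv (eo o : Fin k → F))) := by
  classical
  refine ⟨?_, ?_, ?_⟩
  · intro v hv
    rw [mem_Wf_eo_iff] at hv
    apply vec_ext_ins i
    intro a x
    rw [mulVec_ins, Pi.zero_apply]
    apply Finset.sum_eq_zero
    intro b _
    by_cases hb : b = o
    · rw [hb, f1 a, Matrix.zero_mulVec, Pi.zero_apply]
    · have e : (fun x' => v (ins i b x')) = 0 := by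
        funext x'
        exact hv b x' hb
      rw [e, Matrix.mulVec_zero, Pi.zero_apply]
  · intro v hv
    rw [mem_Cf_eo_iff i o o' ho ho'] at hv
    rw [mem_Wf_eo_iff]
    intro a x ha
    rw [mulVec_ins]
    apply Finset.sum_eq_zero
    intro b _
    by_cases hb : b = o'
    · have e : (fun x' => v (ins i b x')) = 0 := by
        funext x'
        rw [hb]
        exact hv x'
      rw [e, Matrix.mulVec_zero, Pi.zero_apply]
    · rw [f2 a b ha hb, Matrix.zero_mulVec, Pi.zero_apply]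
  · intro v
    rw [mem_Cf_eo_iff i o o' ho ho']
    intro x
    rw [mulVec_ins]
    apply Finset.sum_eq_zero
    intro b _
    rw [f3 b, Matrix.zero_mulVec, Pi.zero_apply]

/-- B1 for the standard hyperbolic pair `(e_o, e_o')` -/
theorem B1S_std (hk4 : 4 ≤ k) (i : Fin (t + 1)) (o o' : Fin k) (ho : o.val = 0) (ho' : o'.val = 1)
    (g : GL (Idx (t + 1) k) F)
    (hstab : img g (Wf i (eo o : Fin k → F)) = Wf i (eo o))
    (hstabC : img g (Cf i (sfv (eo o : Fin k → F))) = Cf i (sfv (eo o)))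
    (hQ : ∀ w : Fin k → F, sf w (eo o : Fin k → F) = 0 → ∃ M : Matrix (Fin k) (Fin k) F,
      (g : Matrix (Idx (t + 1) k) (Idx (t + 1) k) F) * slot k (t + 1) i (etaS (eo o) w 0) =
        slot k (t + 1) i M * (g : Matrix (Idx (t + 1) k) (Idx (t + 1) k) F) ∧
      M *ᵥ (eo o : Fin k → F) = eo o ∧ (∀ a : Fin k → F, sf a (eo o : Fin k → F) = 0 → ∃ c : F, M *ᵥ a = a + c • eo o) ∧
      (∀ a : Fin k → F, sf (M *ᵥ a - a) (eo o : Fin k → F) = 0)) :
    ∃ (α : GL (Fin k) F) (γ : GL (Idx t k) F) (u : GL (Idx (t + 1) k) F),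
      (α : Matrix (Fin k) (Fin k) F) *ᵥ (eo o : Fin k → F) = eo o ∧
      (∃ c : F, (α : Matrix (Fin k) (Fin k) F) *ᵥ (eo o' : Fin k → F) = c • eo o') ∧
      (∀ a : Fin k → F, sf a (eo o : Fin k → F) = 0 → sf a (eo o' : Fin k → F) = 0 →
        sf ((α : Matrix (Fin k) (Fin k) F) *ᵥ a) (eo o : Fin k → F) = 0 ∧
          sf ((α : Matrix (Fin k) (Fin k) F) *ᵥ a) (eo o' : Fin k → F) = 0) ∧
      InUS i (eo o : Fin k → F) u ∧ g = slotGL i α * extGL i γ * u := by
  classical
  have hoo' : o ≠ o' := by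
    intro h
    rw [h] at ho
    omega
  have ho'o : o' ≠ o := Ne.symm hoo'
  obtain ⟨r₂, hr₂⟩ : ∃ r₂ : Fin k, r₂.val = 2 := ⟨⟨2, by omega⟩, rfl⟩
  obtain ⟨r₃, hr₃⟩ : ∃ r₃ : Fin k, r₃.val = 3 := ⟨⟨3, by omega⟩, rfl⟩
  have hr₂o : r₂ ≠ o := fun h => by rw [h] at hr₂; omega
  have hr₂o' : r₂ ≠ o' := fun h => by rw [h] at hr₂; omega
  have hr₃o : r₃ ≠ o := fun h => by rw [h] at hr₃; omega
  have hr₃o' : r₃ ≠ o' := fun h => by rw [h] at hr₃; omega
  have hJ23 : (Jm k : Matrix (Fin k) (Fin k) F) r₂ r₃ = 1 := by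
    rw [Cfsg.Agent.Lib.Helper25.SpT.Jm_apply, if_pos (by omega)]
  -- blocks of `g` and of `g⁻¹`
  set G : Fin k → Fin k → Matrix (Idx t k) (Idx t k) F :=
    fun a b => blkAt i (g : Matrix (Idx (t + 1) k) (Idx (t + 1) k) F) a b with hGdef
  set G' : Fin k → Fin k → Matrix (Idx t k) (Idx t k) F :=
    fun a b => blkAt i ((g⁻¹ : GL (Idx (t + 1) k) F) : Matrix (Idx (t + 1) k) (Idx (t + 1) k) F) a b with hG'def
  have hG0 : ∀ a, a ≠ o → G a o = 0 := fun a ha => blkAt_col_of_stab i o g hstab.le a ha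
  have hG'0 : ∀ a, a ≠ o → G' a o = 0 := fun a ha =>
    blkAt_col_of_stab i o g⁻¹ (b1_img_inv_eq g _ _ hstab).le a ha
  have hGr : ∀ b, b ≠ o' → G o' b = 0 := fun b hb => blkAt_row_of_stabC i o o' ho ho' g hstabC.le b hb
  -- `γ := G o o` is a unit
  have h1 : G o o * G' o o = 1 := by
    have e : blkAt i (((g * g⁻¹ : GL (Idx (t + 1) k) F)) : Matrix (Idx (t + 1) k) (Idx (t + 1) k) F) o o = 1 := by
      rw [mul_inv_cancel, Units.val_one, blkAt_one, if_pos rfl]
    rw [Units.val_mul, blkAt_mul, Finset.sum_eq_single o] at e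
    · exact e
    · intro c _ hc
      change G o c * G' c o = 0
      rw [hG'0 c hc, mul_zero]
    · intro h; exact absurd (Finset.mem_univ _) h
  have h2 : G' o o * G o o = 1 := by
    have e : blkAt i (((g⁻¹ * g : GL (Idx (t + 1) k) F)) : Matrix (Idx (t + 1) k) (Idx (t + 1) k) F) o o = 1 := by
      rw [inv_mul_cancel, Units.val_one, blkAt_one, if_pos rfl]
    rw [Units.val_mul, blkAt_mul, Finset.sum_eq_single o] at e
    · exact e
    · intro c _ hc
      change G' o c * G c o = 0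
      rw [hG0 c hc, mul_zero]
    · intro h; exact absurd (Finset.mem_univ _) h
  let γ : GL (Idx t k) F := ⟨G o o, G' o o, h1, h2⟩
  have hγval : (γ : Matrix (Idx t k) (Idx t k) F) = G o o := rfl
  have hγne : G o o ≠ 0 := by
    intro h0
    rw [h0, zero_mul] at h1
    have u₀ : Idx t k := fun _ => ⟨0, by omega⟩
    have := congrFun (congrFun h1 u₀) u₀
    rw [Matrix.zero_apply, Matrix.one_apply_eq] at this
    exact zero_ne_one this
  -- the matrices `M_r`
  have hQ' : ∀ r : Fin k, ∃ M : Matrix (Fin k) (Fin k) F, r ≠ o' →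
      ((g : Matrix (Idx (t + 1) k) (Idx (t + 1) k) F) * slot k (t + 1) i (etaS (eo o : Fin k → F) (eo r) 0) =
        slot k (t + 1) i M * (g : Matrix (Idx (t + 1) k) (Idx (t + 1) k) F)) ∧
      (∀ c, M c o = if c = o then 1 else 0) ∧ (∀ c b, c ≠ o → b ≠ o' → M c b = if c = b then 1 else 0) ∧
      (∀ b, M o' b = if o' = b then 1 else 0) := by
    intro r
    by_cases hr : r = o'
    · exact ⟨0, fun h => absurd hr h⟩
    · have hw : sf (eo r : Fin k → F) (eo o : Fin k → F) = 0 := by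
        rw [sf_eo o o' ho ho', eo, Pi.single_eq_of_ne (Ne.symm hr), neg_zero]
      obtain ⟨M, hM1, hM2, hM3, hM4⟩ := hQ (eo r) hw
      exact ⟨M, fun _ => ⟨hM1, M_shape o o' ho ho' M hM2 hM3 hM4⟩⟩
  choose Mr hMr using hQ'
  -- (I) the middle blocks are multiples of `γ'' = G o' o'`
  have hI : ∀ a r, a ≠ o → a ≠ o' → r ≠ o' → G a r = (-(Mr r a o')) • G o' o' := by
    intro a r hao hao' hro'
    obtain ⟨hE, _, hs2, _⟩ := hMr r hro'
    have e := eta_blocks i o o' ho ho' r _ _ (Mr r) hE a o'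
    change G a o' - (if o' = o' then G a r else 0) + (Jm k : Matrix (Fin k) (Fin k) F) o' r • G a o =
      ∑ c, Mr r a c • G c o' at e
    rw [if_pos rfl, hG0 a hao, smul_zero, add_zero, ← Finset.add_sum_erase _ _ (Finset.mem_univ o')] at e
    have e2 : ∑ c ∈ Finset.univ.erase o', Mr r a c • G c o' = G a o' := by
      rw [Finset.sum_eq_single a]
      · rw [hs2 a a hao hao', if_pos rfl, one_smul]
      · intro c hc hca
        rw [hs2 a c hao (Finset.ne_of_mem_erase hc), if_neg (Ne.symm hca), zero_smul]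
      · intro h
        exact absurd (Finset.mem_erase.2 ⟨hao', Finset.mem_univ _⟩) h
    rw [e2] at e
    have e3 : G a r = - (Mr r a o' • G o' o') := by
      have : G a o' - G a r - G a o' = Mr r a o' • G o' o' + G a o' - G a o' := by rw [e]
      rw [add_sub_cancel_right] at this
      rw [← this]
      abel
    rw [e3, neg_smul]
  -- (II) `γ = c₁ • γ''`
  obtain ⟨c₁, hc₁⟩ : ∃ c₁ : F, G o o = c₁ • G o' o' := by
    obtain ⟨hE, hs1, _, _⟩ := hMr r₃ hr₃o'
    have e := eta_blocks i o o' ho ho' r₃ _ _ (Mr r₃) hE o r₂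
    change G o r₂ - (if r₂ = o' then G o r₃ else 0) + (Jm k : Matrix (Fin k) (Fin k) F) r₂ r₃ • G o o =
      ∑ c, Mr r₃ o c • G c r₂ at e
    rw [if_neg hr₂o', sub_zero, hJ23, one_smul, ← Finset.add_sum_erase _ _ (Finset.mem_univ o), hs1 o, if_pos rfl,
      one_smul] at e
    have e2 : ∑ c ∈ Finset.univ.erase o, Mr r₃ o c • G c r₂ =
        (∑ c ∈ Finset.univ.erase o, Mr r₃ o c * (if c = o' then 0 else -(Mr r₂ c o'))) • G o' o' := by
      rw [Finset.sum_smul]
      apply Finset.sum_congr rfl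
      intro c hc
      by_cases hco' : c = o'
      · rw [hco', hGr r₂ hr₂o', if_pos rfl, mul_zero, smul_zero, zero_smul]
      · rw [if_neg hco', hI c r₂ (Finset.ne_of_mem_erase hc) hco' hr₂o', smul_smul]
    rw [e2] at e
    exact ⟨_, add_left_cancel e⟩
  have hc₁0 : c₁ ≠ 0 := by
    rintro rfl
    rw [zero_smul] at hc₁
    exact hγne hc₁
  have hγ'' : G o' o' = c₁⁻¹ • G o o := by
    rw [hc₁, smul_smul, inv_mul_cancel₀ hc₁0, one_smul]
  -- the matrix `α̂`
  set A : Matrix (Fin k) (Fin k) F := fun a b =>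
    if b = o then (if a = o then 1 else 0)
    else if b = o' then (if a = o' then c₁⁻¹ else 0)
    else (if a = o ∨ a = o' then 0 else c₁⁻¹ * (-(Mr b a o'))) with hAdef
  have hAo : ∀ a, A a o = if a = o then 1 else 0 := by
    intro a
    simp [hAdef]
  have hAo' : ∀ a, A a o' = if a = o' then c₁⁻¹ else 0 := by
    intro a
    simp [hAdef, ho'o]
  have hArowo : ∀ b, A o b = if b = o then 1 else 0 := by
    intro b
    by_cases hb : b = o
    · rw [hb]; simp [hAdef]
    · by_cases hb' : b = o'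
      · rw [hb']; simp [hAdef, ho'o, hoo']
      · simp [hAdef, hb, hb']
  have hArowo' : ∀ b, A o' b = if b = o' then c₁⁻¹ else 0 := by
    intro b
    by_cases hb : b = o
    · rw [hb]; simp [hAdef, ho'o, hoo']
    · by_cases hb' : b = o'
      · rw [hb']; simp [hAdef, ho'o]
      · simp [hAdef, hb, hb']
  have hR1 : ∀ x : Fin k → F, (A *ᵥ x) o = x o := by
    intro x
    simp only [Matrix.mulVec, dotProduct]
    rw [Finset.sum_eq_single o]
    · rw [hArowo, if_pos rfl, one_mul]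
    · intro b _ hb
      rw [hArowo, if_neg hb, zero_mul]
    · intro h; exact absurd (Finset.mem_univ _) h
  have hR2 : ∀ x : Fin k → F, (A *ᵥ x) o' = c₁⁻¹ * x o' := by
    intro x
    simp only [Matrix.mulVec, dotProduct]
    rw [Finset.sum_eq_single o']
    · rw [hArowo', if_pos rfl]
    · intro b _ hb
      rw [hArowo', if_neg hb, zero_mul]
    · intro h; exact absurd (Finset.mem_univ _) h
  have hC1 : A *ᵥ (eo o : Fin k → F) = eo o := by
    funext a
    unfold eo
    rw [Matrix.mulVec_single_one]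
    change A a o = _
    rw [hAo, Pi.single_apply]
  have hC2 : A *ᵥ (eo o' : Fin k → F) = c₁⁻¹ • eo o' := by
    funext a
    unfold eo
    rw [Matrix.mulVec_single_one]
    change A a o' = _
    rw [hAo', Pi.smul_apply, Pi.single_apply, smul_eq_mul]
    by_cases ha : a = o'
    · rw [if_pos ha, if_pos ha, mul_one]
    · rw [if_neg ha, if_neg ha, mul_zero]
  -- the block facts
  have hF1 : ∀ a, A a o • G o o = G a o := by
    intro a
    rw [hAo]
    by_cases ha : a = o
    · rw [if_pos ha, one_smul, ha]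
    · rw [if_neg ha, zero_smul, hG0 a ha]
  have hF3 : ∀ b, A o' b • G o o = G o' b := by
    intro b
    rw [hArowo']
    by_cases hb : b = o'
    · rw [if_pos hb, hb, hγ'']
    · rw [if_neg hb, zero_smul, hGr b hb]
  have hF2 : ∀ a b, a ≠ o → b ≠ o' → A a b • G o o = G a b := by
    intro a b ha hb
    by_cases hbo : b = o
    · rw [hbo]; exact hF1 a
    · by_cases hao' : a = o'
      · rw [hao']; exact hF3 b
      · have : A a b = c₁⁻¹ * (-(Mr b a o')) := by
          simp [hAdef, hbo, hb, ha, hao']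
        rw [this, hI a b ha hao' hb, hγ'', smul_smul, mul_comm]
  -- the matrix `K = slot A * ext γ` and the difference `K - g`
  obtain ⟨K, hK⟩ : ∃ K : Matrix (Idx (t + 1) k) (Idx (t + 1) k) F, K = slot k (t + 1) i A * ext i (G o o) := ⟨_, rfl⟩
  have hKblk : ∀ a b, blkAt i K a b = A a b • G o o := by
    intro a b
    rw [hK, ← ext_comm_slot, blkAt_ext_mul_slot]
  obtain ⟨hd1, hd2, hd3⟩ := tri_of_blocks i o o' ho ho' (K - (g : Matrix (Idx (t + 1) k) (Idx (t + 1) k) F))
    (fun a => by rw [blkAt_sub, hKblk, hF1]; exact sub_self _)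
    (fun a b ha hb => by rw [blkAt_sub, hKblk, hF2 a b ha hb]; exact sub_self _)
    (fun b => by rw [blkAt_sub, hKblk, hF3]; exact sub_self _)
  -- `α̂` is invertible
  have hdet : A.det ≠ 0 := by
    intro hd
    obtain ⟨ξ, hξ0, hξ⟩ := Matrix.exists_mulVec_eq_zero_iff.mpr hd
    have hξo : ξ o = 0 := by
      have := hR1 ξ
      rw [hξ, Pi.zero_apply] at this
      exact this.symm
    have hξo' : ξ o' = 0 := by
      have := hR2 ξ
      rw [hξ, Pi.zero_apply] at this
      rcases mul_eq_zero.1 this.symm with h | h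
      · exact absurd h (inv_ne_zero hc₁0)
      · exact h
    let x₀ : Idx t k := fun _ => ⟨0, by omega⟩
    obtain ⟨v, hv⟩ : ∃ v : Idx (t + 1) k → F, v = tens i (Pi.single x₀ (1 : F)) ξ := ⟨_, rfl⟩
    have hKv : K *ᵥ v = 0 := by
      rw [hK, hv, ← Matrix.mulVec_mulVec, ext_mulVec_tens, slot_mulVec_tens, hξ]
      funext z
      simp only [tens, Pi.zero_apply, mul_zero]
    have hvC : v ∈ Cf i (sfv (eo o : Fin k → F)) := by
      rw [mem_Cf_eo_iff i o o' ho ho']
      intro x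
      rw [hv]
      simp only [tens, ins_same, hξo', mul_zero]
    have hgv : (g : Matrix (Idx (t + 1) k) (Idx (t + 1) k) F) *ᵥ v ∈ Wf i (eo o : Fin k → F) := by
      have := hd2 v hvC
      rw [Matrix.sub_mulVec, hKv, zero_sub] at this
      have h' := (Wf i (eo o : Fin k → F)).neg_mem this
      rwa [neg_neg] at h'
    have hvW : v ∈ Wf i (eo o : Fin k → F) := by
      have hW' : img g⁻¹ (Wf i (eo o : Fin k → F)) = Wf i (eo o) := b1_img_inv_eq g _ _ hstab
      have := Cfsg.Agent.Lib.Helper12.TWIIBLeaf.mv_mem_img g⁻¹ _ _ hgv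
      rw [hW'] at this
      have e : mv g⁻¹ ((g : Matrix (Idx (t + 1) k) (Idx (t + 1) k) F) *ᵥ v) = v :=
        Cfsg.Agent.Lib.Helper12.TWIIBLeaf.mv_inv_mv g v
      rwa [e] at this
    rw [mem_Wf_eo_iff] at hvW
    apply hξ0
    funext a
    by_cases ha : a = o
    · rw [ha, hξo, Pi.zero_apply]
    · have := hvW a x₀ ha
      rw [hv] at this
      simp only [tens, ins_same, ins_comp, Pi.single_eq_same, one_mul] at this
      rw [this, Pi.zero_apply]
  let α : GL (Fin k) F := Matrix.GeneralLinearGroup.mkOfDetNeZero A hdet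
  have hαval : (α : Matrix (Fin k) (Fin k) F) = A := rfl
  have hκval : ((slotGL i α * extGL i γ : GL (Idx (t + 1) k) F) : Matrix (Idx (t + 1) k) (Idx (t + 1) k) F) = K := by
    rw [Units.val_mul, slotGL_val, extGL_val, hαval, hγval, hK]
  have hmvκ : ∀ v, mv (slotGL i α * extGL i γ) v - mv g v =
      (K - (g : Matrix (Idx (t + 1) k) (Idx (t + 1) k) F)) *ᵥ v := by
    intro v
    unfold mv
    rw [hκval, Matrix.sub_mulVec]
  have hWC : Wf i (eo o : Fin k → F) ≤ Cf i (sfv (eo o : Fin k → F)) := by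
    intro v hv
    rw [mem_Wf_eo_iff] at hv
    rw [mem_Cf_eo_iff i o o' ho ho']
    intro x
    exact hv o' x ho'o
  obtain ⟨p1, p2, p3⟩ := flag_of_diff g (slotGL i α * extGL i γ) _ _ hstab hstabC
    (fun v hv => by rw [hmvκ]; exact hd1 v hv) (fun v hv => by rw [hmvκ]; exact hd2 v hv)
    (fun v => by rw [hmvκ]; exact hd3 v)
  have hU := flag_inv (g⁻¹ * (slotGL i α * extGL i γ)) _ _ hWC p1 p2 p3
  refine ⟨α, γ, (g⁻¹ * (slotGL i α * extGL i γ))⁻¹, ?_, ⟨c₁⁻¹, ?_⟩, ?_, hU, ?_⟩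
  · rw [hαval]; exact hC1
  · rw [hαval]; exact hC2
  · intro a ha1 ha2
    rw [sf_eo o o' ho ho', neg_eq_zero] at ha1
    rw [sf_eo' o o' ho ho'] at ha2
    rw [hαval, sf_eo o o' ho ho', sf_eo' o o' ho ho', hR1, hR2, ha1, ha2, mul_zero, neg_zero]
    exact ⟨rfl, rfl⟩
  · rw [_root_.mul_inv_rev, inv_inv, mul_inv_cancel_left]

end Cfsg.Agent.Lib.Helper14.TWSIILeaf
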