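import Mathlib
import Cfsg.Agent.Lib.Helper5.TWU.Defs
import Cfsg.Agent.Lib.Helper8.TW.Defs
import Cfsg.Agent.Lib.Helper6.TWT1
import Cfsg.Agent.Lib.Helper26.TWFibA
import Cfsg.Agent.Lib.Helper22.TWExtBasic
import Cfsg.Agent.Lib.Helper22.TWExtMore
import Cfsg.Agent.Lib.Helper23.TWUT3
import Cfsg.Agent.Lib.Helper28.TWIIBE
import Cfsg.Agent.Lib.Helper14.TWIIDefs
import Cfsg.Agent.Lib.Helper14.TWUIIDefs
import Cfsg.Agent.Lib.Helper14.TWUIIThetaG

/-!
S5672 Stage II (Case B), leaf R8 `theta_scalar_q3` (exact signature of `notes/S5672_II_leaves.lean`), modulo the torus leaf T12: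
`theta_scalar_q3_of_torus` takes the torus element as data.  The calculus of the elements `zz Θ = 1 + Θ ⊗ y y†`.
-/

set_option autoImplicit false
set_option linter.unusedSectionVars false
set_option linter.unusedVariables false

namespace Cfsg.Agent.Lib.Helper14.TWUIILeaf
open Matrix Cfsg.Geo Cfsg.Agent.Lib.Helper18.AschA89 Cfsg.Agent.Lib.Helper8.TW Cfsg.Agent.Lib.Helper5.TWU
  Cfsg.Agent.Lib.Helper14.TWII Cfsg.Agent.Lib.Helper14.TWUII
open Cfsg.Agent.Lib.Helper20.UT (hv)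
open Cfsg.Agent.Lib.Helper22.TWLeaf
open Cfsg.Agent.Lib.Helper23.TWUT (adjM adjM_apply adjM_adjM mem_GUA_iff mem_DUA_iff)

variable {F : Type*} [Field F] [Fintype F] {t k q : ℕ}

/-- `N² = 0` for the admissible root nilpotent -/
lemma rootN_dag_sq (i : Fin (t + 1)) (y : Fin k → F) (hy : hv q y y = 0) :
    rootN i y (dag q y) * rootN i y (dag q y) = 0 := by
  unfold rootN
  rw [slot_mul, Matrix.vecMulVec_mul_vecMulVec, ← Cfsg.Agent.Lib.Helper20.UT.hv_eq_dot, hy, zero_smul,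
    Matrix.vecMulVec_zero, slot_zero]

lemma EN_mul_EN (i : Fin (t + 1)) (y : Fin k → F) (hy : hv q y y = 0) (Θ Θ' : Matrix (Idx t k) (Idx t k) F) :
    (ext i Θ * rootN i y (dag q y)) * (ext i Θ' * rootN i y (dag q y)) = 0 := by
  have hc : rootN i y (dag q y) * ext i Θ' = ext i Θ' * rootN i y (dag q y) := (ext_comm_slot i Θ' _).symm
  calc (ext i Θ * rootN i y (dag q y)) * (ext i Θ' * rootN i y (dag q y))
      = ext i Θ * (rootN i y (dag q y) * ext i Θ') * rootN i y (dag q y) := by simp only [Matrix.mul_assoc]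
    _ = ext i Θ * ext i Θ' * (rootN i y (dag q y) * rootN i y (dag q y)) := by rw [hc]; simp only [Matrix.mul_assoc]
    _ = 0 := by rw [rootN_dag_sq i y hy, Matrix.mul_zero]

/-- the element `1 + Θ ⊗ y y†` -/
def zz (q : ℕ) (i : Fin (t + 1)) (y : Fin k → F) (hy : hv q y y = 0) (Θ : Matrix (Idx t k) (Idx t k) F) :
    GL (Idx (t + 1) k) F :=
  ⟨1 + ext i Θ * rootN i y (dag q y), 1 - ext i Θ * rootN i y (dag q y),
    by
      have h := EN_mul_EN i y hy Θ Θ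
      have e : (1 + ext i Θ * rootN i y (dag q y)) * (1 - ext i Θ * rootN i y (dag q y)) =
          1 - (ext i Θ * rootN i y (dag q y)) * (ext i Θ * rootN i y (dag q y)) := by noncomm_ring
      rw [e, h, sub_zero],
    by
      have h := EN_mul_EN i y hy Θ Θ
      have e : (1 - ext i Θ * rootN i y (dag q y)) * (1 + ext i Θ * rootN i y (dag q y)) =
          1 - (ext i Θ * rootN i y (dag q y)) * (ext i Θ * rootN i y (dag q y)) := by noncomm_ring
      rw [e, h, sub_zero]⟩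

lemma zz_val (i : Fin (t + 1)) (y : Fin k → F) (hy : hv q y y = 0) (Θ : Matrix (Idx t k) (Idx t k) F) :
    ((zz q i y hy Θ : GL (Idx (t + 1) k) F) : Matrix (Idx (t + 1) k) (Idx (t + 1) k) F) =
      1 + ext i Θ * rootN i y (dag q y) := rfl

lemma zz_mul (i : Fin (t + 1)) (y : Fin k → F) (hy : hv q y y = 0) (Θ Θ' : Matrix (Idx t k) (Idx t k) F) :
    zz q i y hy Θ * zz q i y hy Θ' = zz q i y hy (Θ + Θ') := by
  apply Units.ext
  rw [Units.val_mul, zz_val, zz_val, zz_val, Cfsg.Agent.Lib.Helper28.TWIIBLeaf.ext_add28]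
  have h := EN_mul_EN i y hy Θ Θ'
  have e : (1 + ext i Θ * rootN i y (dag q y)) * (1 + ext i Θ' * rootN i y (dag q y)) =
      1 + (ext i Θ + ext i Θ') * rootN i y (dag q y) +
        (ext i Θ * rootN i y (dag q y)) * (ext i Θ' * rootN i y (dag q y)) := by noncomm_ring
  rw [e, h, add_zero]

lemma ext_zero14 (i : Fin (t + 1)) : ext i (0 : Matrix (Idx t k) (Idx t k) F) = 0 := by
  have := Cfsg.Agent.Lib.Helper28.TWIIBLeaf.ext_smul28 i (0 : F) (0 : Matrix (Idx t k) (Idx t k) F)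
  rwa [zero_smul, zero_smul] at this

lemma zz_zero (i : Fin (t + 1)) (y : Fin k → F) (hy : hv q y y = 0) : zz q i y hy 0 = 1 := by
  apply Units.ext
  rw [zz_val, ext_zero14, Matrix.zero_mul, add_zero, Units.val_one]

lemma zz_inv (i : Fin (t + 1)) (y : Fin k → F) (hy : hv q y y = 0) (Θ : Matrix (Idx t k) (Idx t k) F) :
    (zz q i y hy Θ)⁻¹ = zz q i y hy (-Θ) := by
  apply inv_eq_of_mul_eq_one_right
  rw [zz_mul, add_neg_cancel, zz_zero]

/-- conjugation by `slotGL i β` when `β (y y†) β⁻¹ = c • y y†` -/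
lemma slot_conj_zz (i : Fin (t + 1)) (y : Fin k → F) (hy : hv q y y = 0) (Θ : Matrix (Idx t k) (Idx t k) F)
    (β : GL (Fin k) F) (c : F)
    (hβ : (β : Matrix (Fin k) (Fin k) F) * Matrix.vecMulVec y (dag q y) *
      ((β⁻¹ : GL (Fin k) F) : Matrix (Fin k) (Fin k) F) = c • Matrix.vecMulVec y (dag q y)) :
    slotGL i β * zz q i y hy Θ * (slotGL i β)⁻¹ = zz q i y hy (c • Θ) := by
  apply Units.ext
  rw [Units.val_mul, Units.val_mul, ← slotGL_inv, slotGL_val, slotGL_val, zz_val, zz_val,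
    Cfsg.Agent.Lib.Helper28.TWIIBLeaf.ext_smul28]
  have hN : slot k (t + 1) i (β : Matrix (Fin k) (Fin k) F) * rootN i y (dag q y) *
      slot k (t + 1) i ((β⁻¹ : GL (Fin k) F) : Matrix (Fin k) (Fin k) F) = c • rootN i y (dag q y) := by
    unfold rootN
    rw [slot_mul, slot_mul, hβ, Cfsg.Agent.Lib.Helper6.TWQ.slot_smul]
  have h1 : slot k (t + 1) i (β : Matrix (Fin k) (Fin k) F) *
      slot k (t + 1) i ((β⁻¹ : GL (Fin k) F) : Matrix (Fin k) (Fin k) F) = 1 := by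
    rw [slot_mul, ← Units.val_mul, mul_inv_cancel, Units.val_one, slot_one]
  have hc : slot k (t + 1) i (β : Matrix (Fin k) (Fin k) F) * ext i Θ =
      ext i Θ * slot k (t + 1) i (β : Matrix (Fin k) (Fin k) F) := (ext_comm_slot i Θ _).symm
  calc slot k (t + 1) i (β : Matrix (Fin k) (Fin k) F) * (1 + ext i Θ * rootN i y (dag q y)) *
        slot k (t + 1) i ((β⁻¹ : GL (Fin k) F) : Matrix (Fin k) (Fin k) F)
      = slot k (t + 1) i (β : Matrix (Fin k) (Fin k) F) *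
          slot k (t + 1) i ((β⁻¹ : GL (Fin k) F) : Matrix (Fin k) (Fin k) F) +
        (slot k (t + 1) i (β : Matrix (Fin k) (Fin k) F) * ext i Θ) * rootN i y (dag q y) *
          slot k (t + 1) i ((β⁻¹ : GL (Fin k) F) : Matrix (Fin k) (Fin k) F) := by noncomm_ring
    _ = 1 + ext i Θ * (slot k (t + 1) i (β : Matrix (Fin k) (Fin k) F) * rootN i y (dag q y) *
          slot k (t + 1) i ((β⁻¹ : GL (Fin k) F) : Matrix (Fin k) (Fin k) F)) := by
        rw [h1, hc]; simp only [Matrix.mul_assoc]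
    _ = 1 + c • ext i Θ * rootN i y (dag q y) := by
        rw [hN, Matrix.mul_smul, Matrix.smul_mul]

/-- conjugation by `extGL i γ` -/
lemma ext_conj_zz (i : Fin (t + 1)) (y : Fin k → F) (hy : hv q y y = 0) (Θ : Matrix (Idx t k) (Idx t k) F)
    (γ : GL (Idx t k) F) :
    extGL i γ * zz q i y hy Θ * (extGL i γ)⁻¹ =
      zz q i y hy ((γ : Matrix (Idx t k) (Idx t k) F) * Θ * ((γ⁻¹ : GL (Idx t k) F) : Matrix (Idx t k) (Idx t k) F)) := by
  apply Units.ext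
  rw [Units.val_mul, Units.val_mul, ← extGL_inv, extGL_val, extGL_val, zz_val, zz_val, ← ext_mul, ← ext_mul]
  have h1 : ext i (γ : Matrix (Idx t k) (Idx t k) F) *
      ext i ((γ⁻¹ : GL (Idx t k) F) : Matrix (Idx t k) (Idx t k) F) = 1 := by
    rw [ext_mul, ← Units.val_mul, mul_inv_cancel, Units.val_one, ext_one]
  have hc : rootN i y (dag q y) * ext i ((γ⁻¹ : GL (Idx t k) F) : Matrix (Idx t k) (Idx t k) F) =
      ext i ((γ⁻¹ : GL (Idx t k) F) : Matrix (Idx t k) (Idx t k) F) * rootN i y (dag q y) :=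
    (ext_comm_slot i _ _).symm
  calc ext i (γ : Matrix (Idx t k) (Idx t k) F) * (1 + ext i Θ * rootN i y (dag q y)) *
        ext i ((γ⁻¹ : GL (Idx t k) F) : Matrix (Idx t k) (Idx t k) F)
      = ext i (γ : Matrix (Idx t k) (Idx t k) F) *
          ext i ((γ⁻¹ : GL (Idx t k) F) : Matrix (Idx t k) (Idx t k) F) +
        ext i (γ : Matrix (Idx t k) (Idx t k) F) * ext i Θ *
          (rootN i y (dag q y) * ext i ((γ⁻¹ : GL (Idx t k) F) : Matrix (Idx t k) (Idx t k) F)) := by noncomm_ring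
    _ = 1 + ext i (γ : Matrix (Idx t k) (Idx t k) F) * ext i Θ *
          ext i ((γ⁻¹ : GL (Idx t k) F) : Matrix (Idx t k) (Idx t k) F) * rootN i y (dag q y) := by
        rw [h1, hc]; simp only [Matrix.mul_assoc]

/-- `zz Θ` is in `Z_W` -/
lemma InZ_zz (hF : Fintype.card F = q ^ 2) (i : Fin (t + 1)) (y : Fin k → F) (hy0 : y ≠ 0) (hy : hv q y y = 0)
    (Θ : Matrix (Idx t k) (Idx t k) F) : InZ i y (zz q i y hy Θ) := by
  have hηy : dag q y ⬝ᵥ y = 0 := by rw [← Cfsg.Agent.Lib.Helper20.UT.hv_eq_dot]; exact hy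
  have hcomm : ext i Θ * rootN i y (dag q y) = rootN i y (dag q y) * ext i Θ := ext_comm_slot i Θ _
  constructor
  · intro v
    unfold mv
    rw [zz_val, Matrix.add_mulVec, Matrix.one_mulVec, add_sub_cancel_left, hcomm, ← Matrix.mulVec_mulVec]
    intro x
    rw [Cfsg.Agent.Lib.Helper26.TWLeaf.rootN_mulVec_slice26]
    exact Submodule.smul_mem _ _ (Submodule.mem_span_singleton_self y)
  · intro v hv
    obtain ⟨b, rfl⟩ := (mem_Wf_iff_tens i y hy0 v).1 hv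
    unfold mv
    rw [zz_val, Matrix.add_mulVec, Matrix.one_mulVec, ← Matrix.mulVec_mulVec]
    unfold rootN
    rw [slot_mulVec_tens, Cfsg.Agent.Lib.Helper6.TWLeaf.vecMulVec_mulVec', hηy, zero_smul,
      tens_zero_right14, Matrix.mulVec_zero, add_zero]

/-- `y† D = (D† y)†` -/
lemma dag_vecMul (hF : Fintype.card F = q ^ 2) (y : Fin k → F) (D : Matrix (Fin k) (Fin k) F) :
    dag q y ᵥ* D = dag q (adjM q D *ᵥ y) := by
  funext b
  simp only [Matrix.vecMul, dotProduct, Matrix.mulVec, adjM_apply, Cfsg.Agent.Lib.Helper20.UT.cj]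
  rw [Cfsg.Agent.Lib.Helper20.UT.sum_pow_q hF]
  apply Finset.sum_congr rfl
  intro a _
  rw [mul_pow, Cfsg.Agent.Lib.Helper20.UT.pow_q_pow_q' hF, mul_comm]

lemma dag_smul (y : Fin k → F) (c : F) : dag q (c • y) = c ^ q • dag q y := by
  funext b
  simp only [Cfsg.Agent.Lib.Helper20.UT.cj, Pi.smul_apply, smul_eq_mul, mul_pow]

/-- a similitude `β` (multiplier `c`) with `β y = s y` conjugates `y y†` to a multiple -/
lemma conj_M (hF : Fintype.card F = q ^ 2) (y : Fin k → F) (β : GL (Fin k) F) (c : Fˣ)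
    (hβ : adjM q (β : Matrix (Fin k) (Fin k) F) * (β : Matrix (Fin k) (Fin k) F) = (c : F) • 1) (s : F)
    (hs : (β : Matrix (Fin k) (Fin k) F) *ᵥ y = s • y) :
    (β : Matrix (Fin k) (Fin k) F) * Matrix.vecMulVec y (dag q y) *
      ((β⁻¹ : GL (Fin k) F) : Matrix (Fin k) (Fin k) F) =
        (s * s ^ q * ((c⁻¹ : Fˣ) : F)) • Matrix.vecMulVec y (dag q y) := by
  have hinv : ((β⁻¹ : GL (Fin k) F) : Matrix (Fin k) (Fin k) F) =
      ((c⁻¹ : Fˣ) : F) • adjM q (β : Matrix (Fin k) (Fin k) F) := by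
    have h1 : (((c⁻¹ : Fˣ) : F) • adjM q (β : Matrix (Fin k) (Fin k) F)) * (β : Matrix (Fin k) (Fin k) F) = 1 := by
      rw [Matrix.smul_mul, hβ, smul_smul, ← Units.val_mul, inv_mul_cancel, Units.val_one, one_smul]
    calc ((β⁻¹ : GL (Fin k) F) : Matrix (Fin k) (Fin k) F)
        = ((((c⁻¹ : Fˣ) : F) • adjM q (β : Matrix (Fin k) (Fin k) F)) * (β : Matrix (Fin k) (Fin k) F)) *
            ((β⁻¹ : GL (Fin k) F) : Matrix (Fin k) (Fin k) F) := by rw [h1, Matrix.one_mul]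
      _ = ((c⁻¹ : Fˣ) : F) • adjM q (β : Matrix (Fin k) (Fin k) F) := by
          rw [Matrix.mul_assoc, ← Units.val_mul, mul_inv_cancel, Units.val_one, Matrix.mul_one]
  rw [Matrix.mul_vecMulVec, Matrix.vecMulVec_mul, hs, hinv, Matrix.vecMul_smul, dag_vecMul hF, adjM_adjM hF, hs,
    dag_smul, Matrix.smul_vecMulVec, Matrix.vecMulVec_smul, Matrix.vecMulVec_smul, smul_smul, smul_smul]
  congr 1
  ring

theorem theta_scalar_q3_of_torus (hF : Fintype.card F = q ^ 2) (hk : 3 ≤ k)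
    (X' : Subgroup (GL (Idx (t + 1) k) F)) (i : Fin (t + 1)) (y : Fin k → F) (hy0 : y ≠ 0) (hy : hv q y y = 0)
    (hB : ∀ u ∈ X', InZ i y u → u ∈ Gstd (t + 1) k F)
    (α₁ : GL (Fin k) F) (hα₁ : α₁ ∈ DUA k q F) (hα₁y : (α₁ : Matrix (Fin k) (Fin k) F) *ᵥ y = y)
    (γ : GL (Idx t k) F) (z₁ : GL (Idx (t + 1) k) F) (θ : Matrix (Idx t k) (Idx t k) F)
    (hz₁ : (z₁ : Matrix (Idx (t + 1) k) (Idx (t + 1) k) F) = 1 + ext i θ * rootN i y (dag q y))
    (hcomm : ∀ α' : GL (Fin k) F, α' ∈ GUA k q F → (α' : Matrix (Fin k) (Fin k) F).det = 1 →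
      (slotGL i α₁ * extGL i γ) * ((slotGL i α')⁻¹ * z₁ * slotGL i α' * z₁⁻¹) * (slotGL i α₁ * extGL i γ)⁻¹ ∈ X')
    (d : GL (Fin k) F) (hdU : d ∈ GUA k q F) (hdet : (d : Matrix (Fin k) (Fin k) F).det = 1) (l : F)
    (hdy : (d : Matrix (Fin k) (Fin k) F) *ᵥ y = l • y) (hl : l ^ (q + 1) ≠ 1) :
    ∃ c : F, θ = c • (1 : Matrix (Idx t k) (Idx t k) F) := by
  classical
  have hz : z₁ = zz q i y hy θ := Units.ext hz₁
  -- `l ≠ 0`
  have hl0 : l ≠ 0 := by
    rintro rfl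
    rw [zero_smul] at hdy
    apply hy0
    have := congrArg (fun v => ((d⁻¹ : GL (Fin k) F) : Matrix (Fin k) (Fin k) F) *ᵥ v) hdy
    simp only [Matrix.mulVec_mulVec, Matrix.mulVec_zero] at this
    rwa [← Units.val_mul, inv_mul_cancel, Units.val_one, Matrix.one_mulVec] at this
  -- `d⁻¹ y = l⁻¹ y`
  have hdiy : ((d⁻¹ : GL (Fin k) F) : Matrix (Fin k) (Fin k) F) *ᵥ y = l⁻¹ • y := by
    have h1 : ((d⁻¹ : GL (Fin k) F) : Matrix (Fin k) (Fin k) F) *ᵥ (l • y) = y := by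
      rw [← hdy, Matrix.mulVec_mulVec, ← Units.val_mul, inv_mul_cancel, Units.val_one, Matrix.one_mulVec]
    rw [Matrix.mulVec_smul] at h1
    calc ((d⁻¹ : GL (Fin k) F) : Matrix (Fin k) (Fin k) F) *ᵥ y
        = l⁻¹ • (l • ((d⁻¹ : GL (Fin k) F) : Matrix (Fin k) (Fin k) F) *ᵥ y) := by
          rw [smul_smul, inv_mul_cancel₀ hl0, one_smul]
      _ = l⁻¹ • y := by rw [h1]
  have hηy : dag q y ⬝ᵥ y = 0 := by rw [← Cfsg.Agent.Lib.Helper20.UT.hv_eq_dot]; exact hy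
  -- conjugation by `d⁻¹`
  have hdi : d⁻¹ ∈ GUA k q F := (GUA k q F).inv_mem hdU
  have hadj := (mem_GUA_iff hF d⁻¹).1 hdi
  have hM1 := conj_M hF y d⁻¹ 1 (by rw [Units.val_one, one_smul]; exact hadj) l⁻¹ hdiy
  obtain ⟨ν, hν⟩ : ∃ ν : F, ν = l⁻¹ * l⁻¹ ^ q * (((1 : Fˣ)⁻¹ : Fˣ) : F) := ⟨_, rfl⟩
  rw [← hν] at hM1
  have h1 : (slotGL i d)⁻¹ * zz q i y hy θ * slotGL i d = zz q i y hy (ν • θ) := by
    have := slot_conj_zz i y hy θ d⁻¹ ν hM1
    rwa [slotGL_inv, inv_inv] at this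
  -- conjugation by `κ`
  obtain ⟨c, hc⟩ := (mem_DUA_iff hF α₁).1 hα₁
  have hM2 := conj_M hF y α₁ c hc 1 (by rw [one_smul]; exact hα₁y)
  obtain ⟨μ', hμ'⟩ : ∃ μ' : F, μ' = 1 * 1 ^ q * ((c⁻¹ : Fˣ) : F) := ⟨_, rfl⟩
  rw [← hμ'] at hM2
  have h2 : ∀ Θ : Matrix (Idx t k) (Idx t k) F,
      (slotGL i α₁ * extGL i γ) * zz q i y hy Θ * (slotGL i α₁ * extGL i γ)⁻¹ =
        zz q i y hy (μ' • ((γ : Matrix (Idx t k) (Idx t k) F) * Θ *
          ((γ⁻¹ : GL (Idx t k) F) : Matrix (Idx t k) (Idx t k) F))) := by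
    intro Θ
    have e : (slotGL i α₁ * extGL i γ) * zz q i y hy Θ * (slotGL i α₁ * extGL i γ)⁻¹ =
        slotGL i α₁ * (extGL i γ * zz q i y hy Θ * (extGL i γ)⁻¹) * (slotGL i α₁)⁻¹ := by group
    rw [e, ext_conj_zz, slot_conj_zz i y hy _ α₁ μ' hM2]
  have hw := hcomm d hdU hdet
  rw [hz, h1, zz_inv, zz_mul, h2] at hw
  have hG := hB _ hw (InZ_zz hF i y hy0 hy _)
  obtain ⟨e, he⟩ := theta_scalar_of_G (by omega) i y (dag q y) hy0 (dag_ne_zero hy0) hηy _ _ hG (zz_val i y hy _)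
  -- the scalars are non-zero
  have hν1 : ν - 1 ≠ 0 := by
    intro h0
    apply hl
    have h1' : ν = 1 := sub_eq_zero.1 h0
    have h2' : ν * l ^ (q + 1) = 1 := by
      rw [hν, inv_one, Units.val_one, mul_one, pow_succ, inv_pow]
      field_simp
    rwa [h1', one_mul] at h2'
  have hμ0 : μ' ≠ 0 := by
    rw [hμ', one_pow, one_mul, one_mul]
    exact Units.ne_zero _
  have hne : μ' * (ν - 1) ≠ 0 := mul_ne_zero hμ0 hν1
  have h3 : (γ : Matrix (Idx t k) (Idx t k) F) * θ * ((γ⁻¹ : GL (Idx t k) F) : Matrix (Idx t k) (Idx t k) F) =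
      (e / (μ' * (ν - 1))) • 1 := by
    have h4 : ν • θ + -θ = (ν - 1) • θ := by rw [sub_smul, one_smul, sub_eq_add_neg]
    rw [h4, Matrix.mul_smul, Matrix.smul_mul, smul_smul] at he
    have h5 := congrArg (fun M => (μ' * (ν - 1))⁻¹ • M) he
    simp only [smul_smul] at h5
    rw [inv_mul_cancel₀ hne, one_smul] at h5
    rw [h5, div_eq_inv_mul]
  refine ⟨e / (μ' * (ν - 1)), ?_⟩
  calc θ = ((γ⁻¹ : GL (Idx t k) F) : Matrix (Idx t k) (Idx t k) F) *
        ((γ : Matrix (Idx t k) (Idx t k) F) * θ * ((γ⁻¹ : GL (Idx t k) F) : Matrix (Idx t k) (Idx t k) F)) *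
          (γ : Matrix (Idx t k) (Idx t k) F) := by
        rw [Matrix.mul_assoc, Matrix.mul_assoc, ← Units.val_mul, inv_mul_cancel, Units.val_one, Matrix.mul_one,
          ← Matrix.mul_assoc, ← Units.val_mul, inv_mul_cancel, Units.val_one, Matrix.one_mul]
    _ = (e / (μ' * (ν - 1))) • 1 := by
        rw [h3, Matrix.mul_smul, Matrix.smul_mul, Matrix.mul_one, ← Units.val_mul, inv_mul_cancel, Units.val_one]

end Cfsg.Agent.Lib.Helper14.TWUIILeaf
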