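import Mathlib
import Cfsg.Agent.Lib.Helper8.TW.Defs
import Cfsg.Agent.Lib.Helper20.AschA89WR
import Cfsg.Agent.Lib.Helper20.AschA89F2J
import Cfsg.Agent.Lib.Helper22.TWExtBasic
import Cfsg.Agent.Lib.Helper22.TWExtMore
import Cfsg.Agent.Lib.Helper22.TWQK
import Cfsg.Agent.Lib.Helper23.TWG1
import Cfsg.Agent.Lib.Helper19.TWGrow
import Cfsg.Agent.Lib.Helper19.TWCaseA
import Cfsg.Agent.Lib.Helper12.TWIIBZ
import Cfsg.Agent.Lib.Helper12.TWIIBS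
import Cfsg.Agent.Lib.Helper28.TWIIBE
import Cfsg.Agent.Lib.Helper2.TWIIBBcore
import Cfsg.Agent.Lib.Helper14.TWIIDefs
import Cfsg.Agent.Lib.Helper14.TWIIBBK
import Cfsg.Agent.Lib.Helper14.TWIIBB1
import Cfsg.Agent.Lib.Helper14.TWIIBB2a

/-!
# S5641 (C7 maximal in SL_n) — part (II) = STAGE II, final wiring (helper14)

`stageII` : `¬ NS X ⟹ ∃ J, 2 ≤ J.card ∧ XT X J` with helper8's exact interface (msg 3962).
Case A = helper19 (`Helper19.TWCaseA`); Case B = `caseB` below on the leaves of `notes/S5641_IIB_leaves.lean`: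
BK / B1 / B2a (helper14), Z / S (helper12), E (helper28), B0 / B2b (helper2, core forms), K-lemma (helper22).
-/

set_option autoImplicit false
set_option linter.unusedSectionVars false
set_option linter.unusedVariables false

namespace Cfsg.Agent.Lib.Helper14.TWStageII
open Matrix Cfsg.Geo Cfsg.Agent.Lib.Helper18.AschA89 Cfsg.Agent.Lib.Helper20.AschLeaf Cfsg.Agent.Lib.Helper8.TW
  Cfsg.Agent.Lib.Helper14.TWII

variable {F : Type*} [Field F] {t m : ℕ}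

/-- B0 (helper2's core, instantiated) -/
theorem star_of_caseB (hm : 2 ≤ m) (X : Subgroup (GL (Idx (t + 1) m) F)) (hHX : Hstd (t + 1) m F ≤ X)
    (g s : GL (Idx (t + 1) m) F) (hgX : g ∈ X) (hs : s ∈ Gstd (t + 1) m F) (i i' : Fin (t + 1)) (y y' : Fin m → F)
    (hy : y ≠ 0) (hy' : y' ≠ 0) (hg : img g (Wf i y) = Wf i' y') (hsW : img s (Wf i y) = Wf i' y')
    (hB : ∀ u ∈ X, InZ i' y' u → u ∈ Gstd (t + 1) m F) (η : Fin m → F) (hη : η ⬝ᵥ y = 0) :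
    ∃ η'' : Fin m → F, η'' ⬝ᵥ y = 0 ∧
      ((s⁻¹ * g : GL (Idx (t + 1) m) F) : Matrix (Idx (t + 1) m) (Idx (t + 1) m) F) * rootN i y η =
        rootN i y η'' * ((s⁻¹ * g : GL (Idx (t + 1) m) F) : Matrix (Idx (t + 1) m) (Idx (t + 1) m) F) :=
  Cfsg.Agent.Lib.Helper2.TWIIBLeaf.star_of_caseB_core
    (fun h hh i y hy h1 h2 => Cfsg.Agent.Lib.Helper22.TWQLeaf.K_lemma hm h hh i y hy h1 h2)
    Cfsg.Agent.Lib.Helper12.TWIIBLeaf.InZ_conj Cfsg.Agent.Lib.Helper12.TWIIBLeaf.InZ_rootU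
    Cfsg.Agent.Lib.Helper12.TWIIBLeaf.rootU_mem_H Cfsg.Agent.Lib.Helper12.TWIIBLeaf.img_inv_eq
    X hHX g s hgX hs i i' y y' hy hy' hg hsW hB η hη

/-- B2b (helper2's core, instantiated) -/
theorem B2_hQ (hm : 2 ≤ m) (X : Subgroup (GL (Idx (t + 1) m) F)) (hHX : Hstd (t + 1) m F ≤ X)
    (s z g : GL (Idx (t + 1) m) F) (i i' : Fin (t + 1)) (o : Fin m) (y' : Fin m → F) (hy' : y' ≠ 0)
    (α : GL (Fin m) F) (γ : GL (Idx t m) F)
    (hα : (α : Matrix (Fin m) (Fin m) F) *ᵥ (eo o : Fin m → F) = eo o)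
    (hz : InZ i (eo o : Fin m → F) z) (hg : g = s * (slotGL i α * extGL i γ) * z) (hgX : g ∈ X)
    (hs : s ∈ Gstd (t + 1) m F) (hsW : img s (Wf i (eo o : Fin m → F)) = Wf i' y')
    (hB : ∀ u ∈ X, InZ i' y' u → u ∈ Gstd (t + 1) m F)
    (α' : GL (Fin m) F) (hdet : (α' : Matrix (Fin m) (Fin m) F).det = 1)
    (hα' : (α' : Matrix (Fin m) (Fin m) F) *ᵥ (eo o : Fin m → F) = eo o) :
    ∃ η : Fin m → F, η o = 0 ∧
      (((slotGL i α')⁻¹ * z * slotGL i α' * z⁻¹ : GL (Idx (t + 1) m) F) : Matrix (Idx (t + 1) m) (Idx (t + 1) m) F) =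
        1 + rootN i (eo o) η :=
  Cfsg.Agent.Lib.Helper2.TWIIBLeaf.B2_hQ_core
    (fun h hh i y hy h1 h2 => Cfsg.Agent.Lib.Helper22.TWQLeaf.K_lemma hm h hh i y hy h1 h2)
    Cfsg.Agent.Lib.Helper12.TWIIBLeaf.InZ_conj Cfsg.Agent.Lib.Helper12.TWIIBLeaf.InZ_mul
    Cfsg.Agent.Lib.Helper12.TWIIBLeaf.InZ_inv Cfsg.Agent.Lib.Helper12.TWIIBLeaf.img_inv_eq
    Cfsg.Agent.Lib.Helper12.TWIIBLeaf.img_mul' Cfsg.Agent.Lib.Helper12.TWIIBLeaf.slotGL_mem_H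
    Cfsg.Agent.Lib.Helper12.TWIIBLeaf.img_slot_Wf Cfsg.Agent.Lib.Helper12.TWIIBLeaf.img_ext_Wf
    Cfsg.Agent.Lib.Helper12.TWIIBLeaf.H_conj_mem
    X hHX s z g i i' o y' hy' α γ hα hz hg hgX hs hsW hB α' hdet hα'

open Cfsg.Agent.Lib.Helper12.TWIIBLeaf (img_mul' img_inv_eq rootU_mem_H exists_sl_mulVec_eq slotGL_mem_H img_slot_Wf
  exists_s_G exists_s_H)
open Cfsg.Agent.Lib.Helper28.TWIIBLeaf (mem_Gstd_one Hstd_le_XB B4_XT)
open Cfsg.Agent.Lib.Helper14.TWIIBLeaf (B1_structure B2_scalar)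

/-- (B1)-(B3): the element `s (α ⊗ γ)` of `X` with `γ ∉ G_t` -/
theorem B123 (hm : 3 ≤ m) (X : Subgroup (GL (Idx (t + 1) m) F)) (hHX : Hstd (t + 1) m F ≤ X)
    (g s : GL (Idx (t + 1) m) F) (hgX : g ∈ X) (hgG : g ∉ Gstd (t + 1) m F) (hs : s ∈ Gstd (t + 1) m F)
    (i i' : Fin (t + 1)) (o : Fin m) (y' : Fin m → F) (hy' : y' ≠ 0)
    (hg : img g (Wf i (eo o : Fin m → F)) = Wf i' y') (hsW : img s (Wf i (eo o : Fin m → F)) = Wf i' y')
    (hB : ∀ u ∈ X, InZ i' y' u → u ∈ Gstd (t + 1) m F) :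
    ∃ (α : GL (Fin m) F) (γ : GL (Idx t m) F), γ ∉ Gstd t m F ∧ s * (slotGL i α * extGL i γ) ∈ X := by
  have hm2 : 2 ≤ m := by omega
  have hm1 : 1 ≤ m := by omega
  have hstab : img (s⁻¹ * g) (Wf i (eo o : Fin m → F)) = Wf i (eo o) := by
    rw [img_mul', hg]
    exact img_inv_eq s _ _ hsW
  have hstar : ∀ η : Fin m → F, η o = 0 → ∃ η'' : Fin m → F, η'' o = 0 ∧
      ((s⁻¹ * g : GL (Idx (t + 1) m) F) : Matrix (Idx (t + 1) m) (Idx (t + 1) m) F) * rootN i (eo o) η =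
        rootN i (eo o) η'' * ((s⁻¹ * g : GL (Idx (t + 1) m) F) : Matrix (Idx (t + 1) m) (Idx (t + 1) m) F) := by
    intro η hη
    obtain ⟨η'', h1, h2⟩ := star_of_caseB hm2 X hHX g s hgX hs i i' (eo o) y' (eo_ne_zero o) hy' hg hsW hB η
      (by rw [dot_eo]; exact hη)
    exact ⟨η'', by rw [dot_eo] at h1; exact h1, h2⟩
  obtain ⟨α, γ, z, hα, hz, hgz⟩ := B1_structure hm1 i o (s⁻¹ * g) hstab hstar
  have hg' : g = s * (slotGL i α * extGL i γ) * z := by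
    rw [mul_assoc, ← hgz, mul_inv_cancel_left]
  obtain ⟨η₀, hη₀, hz1⟩ := B2_scalar hm i o z hz
    (fun α' hdet hα' => B2_hQ hm2 X hHX s z g i i' o y' hy' α γ hα hz hg' hgX hs hsW hB α' hdet hα')
  have hzH : z ∈ Hstd (t + 1) m F := by
    have e : z = rootU i (eo o) η₀ (by rw [dot_eo]; exact hη₀) := by
      apply Units.ext
      rw [hz1, rootU_val]
    rw [e]
    exact rootU_mem_H i _ _ _
  have hsk : s * (slotGL i α * extGL i γ) ∈ X := by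
    have : s * (slotGL i α * extGL i γ) = g * z⁻¹ := by
      rw [hg', mul_inv_cancel_right]
    rw [this]
    exact X.mul_mem hgX (X.inv_mem (hHX hzH))
  refine ⟨α, γ, ?_, hsk⟩
  intro hγ
  apply hgG
  rw [hg']
  have h1 : slotGL i α ∈ Gstd (t + 1) m F := Cfsg.Agent.Lib.Helper23.TWLeaf.slotGL_mem_G i α
  have h2 : extGL i γ ∈ Gstd (t + 1) m F := Cfsg.Agent.Lib.Helper22.TWLeaf.extGL_mem_G i γ hγ
  exact (Gstd (t + 1) m F).mul_mem ((Gstd (t + 1) m F).mul_mem hs ((Gstd (t + 1) m F).mul_mem h1 h2)) hzH.1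

/-- CASE B of Stage II -/
theorem caseB [Fintype F] (hm : 3 ≤ m) (ht : 1 ≤ t) (hind : MainT t m F) (X : Subgroup (GL (Idx (t + 1) m) F))
    (hHX : Hstd (t + 1) m F ≤ X) (g : GL (Idx (t + 1) m) F) (hgX : g ∈ X) (hgG : g ∉ Gstd (t + 1) m F)
    (i i' : Fin (t + 1)) (y y' : Fin m → F) (hy : y ≠ 0) (hy' : y' ≠ 0) (hfib : img g (Wf i y) = Wf i' y')
    (hB : ∀ u ∈ X, InZ i' y' u → u ∈ Gstd (t + 1) m F) :
    ∃ J : Finset (Fin (t + 1)), 2 ≤ J.card ∧ XT X J := by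
  have hm2 : 2 ≤ m := by omega
  -- normalise `y = e_o`
  let o : Fin m := ⟨0, by omega⟩
  obtain ⟨α₁, hdet₁, hα₁⟩ := exists_sl_mulVec_eq hm2 (eo o : Fin m → F) y (eo_ne_zero o) hy
  have ha₁ : slotGL i α₁ ∈ Hstd (t + 1) m F := slotGL_mem_H i α₁ hdet₁
  have hg₁X : g * slotGL i α₁ ∈ X := X.mul_mem hgX (hHX ha₁)
  have hg₁G : g * slotGL i α₁ ∉ Gstd (t + 1) m F := by
    intro h
    apply hgG
    have := (Gstd (t + 1) m F).mul_mem h ((Gstd (t + 1) m F).inv_mem ha₁.1)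
    rwa [mul_inv_cancel_right] at this
  have hfib₁ : img (g * slotGL i α₁) (Wf i (eo o : Fin m → F)) = Wf i' y' := by
    rw [img_mul', img_slot_Wf, hα₁, hfib]
  rcases Nat.lt_or_ge 1 t with ht2 | ht1
  · -- at least three positions: `s ∈ H`
    obtain ⟨s, hsH, hsW⟩ := exists_s_H hm2 (by omega) i i' (eo o : Fin m → F) y' (eo_ne_zero o) hy'
    obtain ⟨α, γ, hγ, hsk⟩ := B123 hm X hHX (g * slotGL i α₁) s hg₁X hg₁G hsH.1 i i' o y' hy' hfib₁ hsW hB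
    have hk : slotGL i α * extGL i γ ∈ X := by
      have := X.mul_mem (X.inv_mem (hHX hsH)) hsk
      rwa [inv_mul_cancel_left] at this
    have hγXB : γ ∈ XB X i := ⟨α, hk⟩
    rcases hind (XB X i) (Hstd_le_XB X hHX i) with h | h
    · exact absurd (h hγXB) hγ
    · refine ⟨Finset.univ.erase i, ?_, B4_XT hm ht X hHX i h⟩
      rw [Finset.card_erase_of_mem (Finset.mem_univ i), Finset.card_univ, Fintype.card_fin]
      omega
  · -- two positions: Case B is impossible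
    have ht' : t = 1 := by omega
    subst ht'
    obtain ⟨s, hsG, hsW⟩ := exists_s_G hm2 i i' (eo o : Fin m → F) y' (eo_ne_zero o) hy'
    obtain ⟨α, γ, hγ, hsk⟩ := B123 hm X hHX (g * slotGL i α₁) s hg₁X hg₁G hsG i i' o y' hy' hfib₁ hsW hB
    exact absurd (mem_Gstd_one γ) hγ

/-- STAGE II (exact interface of helper8's msg 3962): `¬ NS X` gives `XT X J` for some `J` with at least two positions -/
theorem stageII [Fintype F] (hm : 3 ≤ m) (ht : 1 ≤ t) (hind : MainT t m F) (X : Subgroup (GL (Idx (t + 1) m) F))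
    (hHX : Hstd (t + 1) m F ≤ X) (hNS : ¬ NS X) : ∃ J : Finset (Fin (t + 1)), 2 ≤ J.card ∧ XT X J := by
  unfold NS at hNS
  push Not at hNS
  obtain ⟨g, hgX, ⟨i, i', y, y', hy, hy', hfib⟩, hgG⟩ := hNS
  by_cases hA : ∃ u ∈ X, u ∉ Gstd (t + 1) m F ∧ InZ i' y' u
  · obtain ⟨u, huX, huG, hu1, hu2⟩ := hA
    exact Cfsg.Agent.Lib.Helper19.TWIIBLeaf.caseA hm ht X hHX i' y' hy' u huX huG hu1 hu2
  · have hB : ∀ u ∈ X, InZ i' y' u → u ∈ Gstd (t + 1) m F := by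
      intro u huX huZ
      by_contra huG
      exact hA ⟨u, huX, huG, huZ⟩
    exact caseB hm ht hind X hHX g hgX hgG i i' y y' hy hy' hfib hB

end Cfsg.Agent.Lib.Helper14.TWStageII
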