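import Mathlib
import Cfsg.Agent.Lib.Helper8.TW.Defs
import Cfsg.Agent.Lib.Helper12.TWIIBZ
import Cfsg.Agent.Lib.Helper12.TWIIBS
import Cfsg.Agent.Lib.Helper14.TWIIDefs
import Cfsg.Agent.Lib.Helper14.TWIIBB1

/-!
S5672 Stage II (Case B), leaf R5 `B1_structure_y` (exact signature of `notes/S5672_II_leaves.lean`):
S5641's `B1_structure` transported from `e_o` to an arbitrary `y ≠ 0` by a `slot i P` conjugation.
-/

set_option autoImplicit false
set_option linter.unusedSectionVars false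
set_option linter.unusedVariables false

namespace Cfsg.Agent.Lib.Helper14.TWUIILeaf
open Matrix Cfsg.Geo Cfsg.Agent.Lib.Helper18.AschA89 Cfsg.Agent.Lib.Helper8.TW
  Cfsg.Agent.Lib.Helper14.TWII
open Cfsg.Agent.Lib.Helper12.TWIIBLeaf (img_mul' img_inv_eq InZ_conj img_slot_Wf exists_sl_mulVec_eq)

variable {F : Type*} [Field F] [Fintype F] {t k : ℕ}

/-- conjugating a root nilpotent by `slot i P` -/
lemma slot_conj_rootN (i : Fin t) (P : GL (Fin k) F) (y η : Fin k → F) :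
    slot k t i (P : Matrix (Fin k) (Fin k) F) * rootN i y η *
        slot k t i ((P⁻¹ : GL (Fin k) F) : Matrix (Fin k) (Fin k) F) =
      rootN i ((P : Matrix (Fin k) (Fin k) F) *ᵥ y)
        (η ᵥ* ((P⁻¹ : GL (Fin k) F) : Matrix (Fin k) (Fin k) F)) := by
  unfold rootN
  rw [slot_mul, slot_mul, Matrix.mul_vecMulVec, Matrix.vecMulVec_mul]

theorem B1_structure_y (hk : 2 ≤ k) (i : Fin (t + 1)) (y : Fin k → F) (hy0 : y ≠ 0) (g' : GL (Idx (t + 1) k) F)
    (hstab : img g' (Wf i y) = Wf i y)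
    (hstar : ∀ ξ : Fin k → F, ξ ⬝ᵥ y = 0 → ∃ ξ'' : Fin k → F, ξ'' ⬝ᵥ y = 0 ∧
      (g' : Matrix (Idx (t + 1) k) (Idx (t + 1) k) F) * rootN i y ξ =
        rootN i y ξ'' * (g' : Matrix (Idx (t + 1) k) (Idx (t + 1) k) F)) :
    ∃ (α : GL (Fin k) F) (γ : GL (Idx t k) F) (z : GL (Idx (t + 1) k) F),
      (α : Matrix (Fin k) (Fin k) F) *ᵥ y = y ∧ InZ i y z ∧ g' = slotGL i α * extGL i γ * z := by
  classical
  let o : Fin k := ⟨0, by omega⟩
  obtain ⟨P, hPdet, hP⟩ := exists_sl_mulVec_eq hk (eo o : Fin k → F) y (eo_ne_zero o) hy0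
  have hPi : ((P⁻¹ : GL (Fin k) F) : Matrix (Fin k) (Fin k) F) *ᵥ y = eo o := by
    rw [← hP, Matrix.mulVec_mulVec, ← Units.val_mul, inv_mul_cancel, Units.val_one, Matrix.one_mulVec]
  have hS : img (slotGL i P) (Wf i (eo o : Fin k → F)) = Wf i y := by rw [img_slot_Wf, hP]
  have hstab' : img ((slotGL i P)⁻¹ * g' * slotGL i P) (Wf i (eo o : Fin k → F)) = Wf i (eo o) := by
    rw [img_mul', img_mul', hS, hstab]
    exact img_inv_eq (slotGL i P) _ _ hS
  -- the two transport identities for root nilpotents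
  have hR1 : ∀ η : Fin k → F, slot k (t + 1) i (P : Matrix (Fin k) (Fin k) F) * rootN i (eo o) η =
      rootN i y (η ᵥ* ((P⁻¹ : GL (Fin k) F) : Matrix (Fin k) (Fin k) F)) *
        slot k (t + 1) i (P : Matrix (Fin k) (Fin k) F) := by
    intro η
    have h := slot_conj_rootN i P (eo o) η
    rw [hP] at h
    rw [← h, Matrix.mul_assoc, slot_mul, ← Units.val_mul, inv_mul_cancel, Units.val_one, slot_one, Matrix.mul_one]
  have hR2 : ∀ ξ : Fin k → F, slot k (t + 1) i ((P⁻¹ : GL (Fin k) F) : Matrix (Fin k) (Fin k) F) * rootN i y ξ =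
      rootN i (eo o) (ξ ᵥ* (P : Matrix (Fin k) (Fin k) F)) *
        slot k (t + 1) i ((P⁻¹ : GL (Fin k) F) : Matrix (Fin k) (Fin k) F) := by
    intro ξ
    have h := slot_conj_rootN i P⁻¹ y ξ
    rw [hPi, inv_inv] at h
    rw [← h, Matrix.mul_assoc, slot_mul, ← Units.val_mul, mul_inv_cancel, Units.val_one, slot_one, Matrix.mul_one]
  have hstar' : ∀ η : Fin k → F, η o = 0 → ∃ η'' : Fin k → F, η'' o = 0 ∧
      (((slotGL i P)⁻¹ * g' * slotGL i P : GL (Idx (t + 1) k) F) : Matrix (Idx (t + 1) k) (Idx (t + 1) k) F) *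
          rootN i (eo o) η =
        rootN i (eo o) η'' *
          (((slotGL i P)⁻¹ * g' * slotGL i P : GL (Idx (t + 1) k) F) : Matrix (Idx (t + 1) k) (Idx (t + 1) k) F) := by
    intro η hη
    have hξ : (η ᵥ* ((P⁻¹ : GL (Fin k) F) : Matrix (Fin k) (Fin k) F)) ⬝ᵥ y = 0 := by
      rw [← Matrix.dotProduct_mulVec, hPi, dot_eo, hη]
    obtain ⟨ξ'', hξ'', hcomm⟩ := hstar _ hξ
    refine ⟨ξ'' ᵥ* (P : Matrix (Fin k) (Fin k) F), ?_, ?_⟩
    · have h0 := dot_eo (ξ'' ᵥ* (P : Matrix (Fin k) (Fin k) F)) o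
      rw [← h0, ← Matrix.dotProduct_mulVec, hP, hξ'']
    · rw [Units.val_mul, Units.val_mul, ← slotGL_inv, slotGL_val, slotGL_val]
      rw [Matrix.mul_assoc, hR1, ← Matrix.mul_assoc, Matrix.mul_assoc _ (g' : Matrix (Idx (t + 1) k) (Idx (t + 1) k) F),
        hcomm, ← Matrix.mul_assoc, ← Matrix.mul_assoc, hR2]
      simp only [Matrix.mul_assoc]
  obtain ⟨α', γ, z', hα', hz', hg⟩ :=
    Cfsg.Agent.Lib.Helper14.TWIIBLeaf.B1_structure (by omega) i o ((slotGL i P)⁻¹ * g' * slotGL i P) hstab' hstar'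
  refine ⟨P * α' * P⁻¹, γ, slotGL i P * z' * (slotGL i P)⁻¹, ?_, InZ_conj i i (eo o) y (slotGL i P) z' hz' hS, ?_⟩
  · rw [Units.val_mul, Units.val_mul, ← Matrix.mulVec_mulVec, ← Matrix.mulVec_mulVec, hPi, hα', hP]
  · have e : g' = slotGL i P * ((slotGL i P)⁻¹ * g' * slotGL i P) * (slotGL i P)⁻¹ := by group
    rw [e, hg, slotGL_mul, slotGL_mul, slotGL_inv]
    have hc : extGL i γ * (slotGL i P)⁻¹ = (slotGL i P)⁻¹ * extGL i γ := by
      rw [← slotGL_inv]; exact extGL_comm_slotGL i γ P⁻¹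
    have hc2 : extGL i γ * slotGL i P = slotGL i P * extGL i γ := extGL_comm_slotGL i γ P
    calc slotGL i P * (slotGL i α' * extGL i γ * z') * (slotGL i P)⁻¹
        = slotGL i P * slotGL i α' * (extGL i γ * ((slotGL i P)⁻¹ * slotGL i P)) * z' * (slotGL i P)⁻¹ := by
          rw [inv_mul_cancel, mul_one]; simp only [mul_assoc]
      _ = slotGL i P * slotGL i α' * (slotGL i P)⁻¹ * extGL i γ * (slotGL i P * z' * (slotGL i P)⁻¹) := by
          rw [← mul_assoc (extGL i γ), hc]; simp only [mul_assoc]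

end Cfsg.Agent.Lib.Helper14.TWUIILeaf
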