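import Mathlib
import Cfsg.Agent.Lib.Helper8.TW.Defs
import Cfsg.Agent.Lib.Helper6.TWSlot
import Cfsg.Agent.Lib.Helper22.TWExtBasic
import Cfsg.Agent.Lib.Helper22.TWExtMore
import Cfsg.Agent.Lib.Helper22.TWQK
import Cfsg.Agent.Lib.Helper22.TWQStab
import Cfsg.Agent.Lib.Helper14.TWIIDefs

/-!
S5672 Stage II (Case B), leaf R0 `slot_of_fix` (exact signature of `notes/S5672_II_leaves.lean`):
an element of `G` fixing the vectors of a fibre `W(i,y)` is `slot i α` with `α y = y`.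
-/

set_option autoImplicit false
set_option linter.unusedSectionVars false
set_option linter.unusedVariables false

namespace Cfsg.Agent.Lib.Helper14.TWUIILeaf
open Matrix Cfsg.Geo Cfsg.Agent.Lib.Helper18.AschA89 Cfsg.Agent.Lib.Helper8.TW
  Cfsg.Agent.Lib.Helper14.TWII
open Cfsg.Agent.Lib.Helper22.TWLeaf Cfsg.Agent.Lib.Helper22.TWQLeaf

variable {F : Type*} [Field F] [Fintype F] {t k : ℕ}

theorem slot_of_fix (hk : 2 ≤ k) (h : GL (Idx (t + 1) k) F) (hh : h ∈ Gstd (t + 1) k F) (i : Fin (t + 1))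
    (y : Fin k → F) (hy : y ≠ 0) (h1 : ∀ v ∈ Wf i y, mv h v = v) :
    ∃ α : GL (Fin k) F, h = slotGL i α ∧ (α : Matrix (Fin k) (Fin k) F) *ᵥ y = y := by
  classical
  have himg : img h (Wf i y) = Wf i y := by
    ext v
    constructor
    · rintro ⟨w, hw, rfl⟩
      rw [Matrix.toLin'_apply]
      have := h1 w hw
      unfold mv at this
      rw [this]
      exact hw
    · intro hv
      refine ⟨v, hv, ?_⟩
      rw [Matrix.toLin'_apply]
      exact h1 v hv
  obtain ⟨γ, α, _, hval, c, hc⟩ := stab_form hk h hh i y y hy hy himg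
  obtain ⟨ψ, hψ⟩ := Cfsg.Agent.Lib.Helper26.TWLeaf.exists_dot_one26 y hy
  rw [dotProduct_comm] at hψ
  have hγ : ∀ b : Idx t k → F, c • ((γ : Matrix (Idx t k) (Idx t k) F) *ᵥ b) = b := by
    intro b
    have hmem : tens i b y ∈ Wf i y := (mem_Wf_iff_tens i y hy _).mpr ⟨b, rfl⟩
    have e1 := h1 _ hmem
    unfold mv at e1
    rw [hval, ← Matrix.mulVec_mulVec, slot_mulVec_tens, ext_mulVec_tens, hc] at e1
    have e2 := congrArg (ctr i ψ) e1
    rw [ctr_tens, ctr_tens, dotProduct_smul, hψ, smul_eq_mul, mul_one, one_smul] at e2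
    exact e2
  have hu₀ : Nonempty (Idx t k) := ⟨fun _ => ⟨0, by omega⟩⟩
  obtain ⟨u₀⟩ := hu₀
  have hc0 : c ≠ 0 := by
    rintro rfl
    have := congrFun (hγ (fun _ => 1)) u₀
    simp at this
  have hγ' : (γ : Matrix (Idx t k) (Idx t k) F) = c⁻¹ • 1 := by
    apply eq_smul_one_of_mulVec
    intro b
    conv_rhs => rw [← hγ b]
    rw [smul_smul, inv_mul_cancel₀ hc0, one_smul]
  have hval' : (h : Matrix (Idx (t + 1) k) (Idx (t + 1) k) F) =
      slot k (t + 1) i (c⁻¹ • (α : Matrix (Fin k) (Fin k) F)) := by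
    rw [hval, hγ', ext_smul_one, Matrix.smul_mul, Matrix.one_mul, Cfsg.Agent.Lib.Helper6.TWQ.slot_smul]
  refine ⟨⟨c⁻¹ • (α : Matrix (Fin k) (Fin k) F), c • ((α⁻¹ : GL (Fin k) F) : Matrix (Fin k) (Fin k) F), ?_, ?_⟩, ?_, ?_⟩
  · rw [Matrix.smul_mul, Matrix.mul_smul, smul_smul, inv_mul_cancel₀ hc0, one_smul, ← Units.val_mul,
      mul_inv_cancel, Units.val_one]
  · rw [Matrix.smul_mul, Matrix.mul_smul, smul_smul, mul_inv_cancel₀ hc0, one_smul, ← Units.val_mul,
      inv_mul_cancel, Units.val_one]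
  · apply Units.ext
    rw [slotGL_val]
    exact hval'
  · show (c⁻¹ • (α : Matrix (Fin k) (Fin k) F)) *ᵥ y = y
    rw [Matrix.smul_mulVec, hc, smul_smul, inv_mul_cancel₀ hc0, one_smul]

end Cfsg.Agent.Lib.Helper14.TWUIILeaf
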