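import Mathlib
import Cfsg.Agent.Lib.Helper5.TWU.Defs
import Cfsg.Agent.Lib.Helper8.TW.Defs
import Cfsg.Agent.Lib.Helper22.TWExtBasic
import Cfsg.Agent.Lib.Helper22.TWExtMore
import Cfsg.Agent.Lib.Helper22.TWQK
import Cfsg.Agent.Lib.Helper22.TWQStab
import Cfsg.Agent.Lib.Helper23.TWG1
import Cfsg.Agent.Lib.Helper23.TWG6
import Cfsg.Agent.Lib.Helper23.TWUT3
import Cfsg.Agent.Lib.Helper26.TWFibA
import Cfsg.Agent.Lib.Helper26.TWFibB
import Cfsg.Agent.Lib.Helper16.TWImg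
import Cfsg.Agent.Lib.Helper12.TWIIBZ
import Cfsg.Agent.Lib.Helper12.TWIIBS
import Cfsg.Agent.Lib.Helper28.TWIIBE
import Cfsg.Agent.Lib.Helper14.TWIIDefs
import Cfsg.Agent.Lib.Helper14.TWIIBBK
import Cfsg.Agent.Lib.Helper14.TWIIBB1
import Cfsg.Agent.Lib.Helper14.TWUIIDefs
import Cfsg.Agent.Lib.Helper16.TWUIIEta
import Cfsg.Agent.Lib.Helper12.TWUIIS
import Cfsg.Agent.Lib.Helper1.TWUIIT
import Cfsg.Agent.Lib.Helper17.TWUIISigma
import Cfsg.Agent.Lib.Helper17.TWUIIErase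
import Cfsg.Agent.Lib.Helper14.TWUIIB1y
import Cfsg.Agent.Lib.Helper14.TWUIISlotFix
import Cfsg.Agent.Lib.Helper14.TWUIIThetaG
import Cfsg.Agent.Lib.Helper14.TWUIITheta3
import Cfsg.Agent.Lib.Helper16.TWUIIConj
import Cfsg.Agent.Lib.Helper16.TWUIITorus
import Cfsg.Agent.Lib.Helper17.TWUIIR1
import Cfsg.Agent.Lib.Helper12.TWUIIQ2
import Cfsg.Agent.Lib.Helper23.TWUIIU3
import Cfsg.Agent.Lib.Helper6.TWUIIStar

/-!
# S5672 (C7 unitary) — STAGE II, Case B: `coreBU`, `B4U`, `caseBU`, `stageIIU_of_caseA`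
Assembly of `notes/S5672_II_leaves.lean` against the landed leaf modules.
-/

set_option autoImplicit false
set_option linter.unusedSectionVars false
set_option linter.unusedVariables false

namespace Cfsg.Agent.Lib.Helper14.TWUStageIIB
open Matrix Cfsg.Geo Cfsg.Agent.Lib.Helper18.AschA89 Cfsg.Agent.Lib.Helper8.TW Cfsg.Agent.Lib.Helper5.TWU
  Cfsg.Agent.Lib.Helper14.TWII Cfsg.Agent.Lib.Helper14.TWUII
open Cfsg.Agent.Lib.Helper20.UT (hv)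
open Cfsg.Agent.Lib.Helper23.TWUQ (NSp)
open Cfsg.Agent.Lib.Helper16.TWUIILeaf (etaA_mem InU_slot_eta InU_conj exists_torus)
open Cfsg.Agent.Lib.Helper12.TWUIILeaf (slotGL_mem_HU exists_SUA_map exists_s_HU exists_s_GU theta_scalar_q2)
open Cfsg.Agent.Lib.Helper1.TWUIILeaf (extGL_mem_HU XB_le_DUV HU_le_XB HU_conj_mem DUA_conj_mem G_img_Wf)
open Cfsg.Agent.Lib.Helper17.TWUIILeaf (exists_sigma nilU_erase R1plus)
open Cfsg.Agent.Lib.Helper23.TWUIILeaf (U3_normal)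
open Cfsg.Agent.Lib.Helper6.TWUIILeaf (star_of_QU)
open Cfsg.Agent.Lib.Helper14.TWUIILeaf (B1_structure_y slot_of_fix theta_scalar_of_G theta_scalar_q3_of_torus)

variable {F : Type*} [Field F] [Fintype F] {t k q : ℕ}

theorem theta_scalar_q3 (hF : Fintype.card F = q ^ 2) (hk : 3 ≤ k) (hq : 3 ≤ q)
    (X' : Subgroup (GL (Idx (t + 1) k) F)) (i : Fin (t + 1)) (y : Fin k → F) (hy0 : y ≠ 0) (hy : hv q y y = 0)
    (hB : ∀ u ∈ X', InZ i y u → u ∈ Gstd (t + 1) k F)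
    (α₁ : GL (Fin k) F) (hα₁ : α₁ ∈ DUA k q F) (hα₁y : (α₁ : Matrix (Fin k) (Fin k) F) *ᵥ y = y)
    (γ : GL (Idx t k) F) (z₁ : GL (Idx (t + 1) k) F) (θ : Matrix (Idx t k) (Idx t k) F)
    (hz₁ : (z₁ : Matrix (Idx (t + 1) k) (Idx (t + 1) k) F) = 1 + ext i θ * rootN i y (dag q y))
    (hcomm : ∀ α' : GL (Fin k) F, α' ∈ GUA k q F → (α' : Matrix (Fin k) (Fin k) F).det = 1 →
      (slotGL i α₁ * extGL i γ) * ((slotGL i α')⁻¹ * z₁ * slotGL i α' * z₁⁻¹) * (slotGL i α₁ * extGL i γ)⁻¹ ∈ X') :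
    ∃ c : F, θ = c • (1 : Matrix (Idx t k) (Idx t k) F) := by
  obtain ⟨d, hdU, hdet, l, hdy, hl⟩ := exists_torus hF hk hq y hy0 hy
  exact theta_scalar_q3_of_torus hF hk X' i y hy0 hy hB α₁ hα₁ hα₁y γ z₁ θ hz₁ hcomm d hdU hdet l hdy hl

/-! ## ASSEMBLY (helper14; compiles against the leaves above) -/

/-- a group identity used in `coreBU` -/
theorem grp_id {G : Type*} [Group G] (A E B Z : G) (h : E * B⁻¹ = B⁻¹ * E) :
    (A * E) * (B⁻¹ * Z * B * Z⁻¹) * (A * E)⁻¹ = (A * B * A⁻¹)⁻¹ * ((A * E * Z) * B * (A * E * Z)⁻¹) := by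
  simp only [_root_.mul_inv_rev, inv_inv, mul_assoc, inv_mul_cancel_left]
  rw [← mul_assoc E, h, mul_assoc]

/-- `z₁ = 1 + (c • 1) ⊗ y y†` is a root element, in `H` as soon as it is an isometry -/
theorem z1_mem_HU (i : Fin (t + 1)) (y : Fin k → F) (hy : hv q y y = 0) (z₁ : GL (Idx (t + 1) k) F)
    (hz₁U : z₁ ∈ GUV (t + 1) k q F) (c : F)
    (hz₁ : (z₁ : Matrix (Idx (t + 1) k) (Idx (t + 1) k) F) =
      1 + ext i (c • (1 : Matrix (Idx t k) (Idx t k) F)) * rootN i y (dag q y)) :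
    z₁ ∈ HU (t + 1) k q F := by
  have h0 : (c • dag q y) ⬝ᵥ y = 0 := by
    rw [smul_dotProduct, ← Cfsg.Agent.Lib.Helper20.UT.hv_eq_dot, hy, smul_zero]
  have e : z₁ = rootU i y (c • dag q y) h0 := by
    apply Units.ext
    rw [hz₁, rootU_val, Cfsg.Agent.Lib.Helper28.TWIIBLeaf.ext_smul28, ext_one, Matrix.smul_mul, Matrix.one_mul]
    congr 1
    unfold rootN
    rw [Matrix.vecMulVec_smul, slot_smul]
  have hH := Cfsg.Agent.Lib.Helper12.TWIIBLeaf.rootU_mem_H i y (c • dag q y) h0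
  rw [← e] at hH
  exact ⟨hH.1, hz₁U, hH.2⟩

/-- CORE of Case B: a similitude `g'` stabilising the isotropic fibre `W(i,y)` and conjugating `H` into `X'` is `(α ⊗ γ) h`, `h ∈ H` -/
theorem coreBU (hF : Fintype.card F = q ^ 2) (hk : 3 ≤ k) (hex : ¬ (q = 2 ∧ k = 3))
    (X' : Subgroup (GL (Idx (t + 1) k) F)) (hHX : HU (t + 1) k q F ≤ X') (i : Fin (t + 1)) (y : Fin k → F)
    (hy0 : y ≠ 0) (hy : hv q y y = 0)
    (hB : ∀ z : Fin k → F, z ≠ 0 → hv q z z = 0 → ∀ u ∈ X', InZ i z u → u ∈ Gstd (t + 1) k F)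
    (g' : GL (Idx (t + 1) k) F) (hg'D : g' ∈ DUV (t + 1) k q F) (hstab : img g' (Wf i y) = Wf i y)
    (hconj : ∀ a ∈ HU (t + 1) k q F, g' * a * g'⁻¹ ∈ X') :
    ∃ (α : GL (Fin k) F) (γ : GL (Idx t k) F) (h : GL (Idx (t + 1) k) F),
      h ∈ HU (t + 1) k q F ∧ g' = slotGL i α * extGL i γ * h := by
  have hk2 : 2 ≤ k := by omega
  -- `g'` normalises `slot i (Q_U^A(y))` inside `slot i (End A)`
  have hQ : ∀ (w : Fin k → F) (c : F), hv q w y = 0 → c + c ^ q + hv q w w = 0 →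
      ∃ M : Matrix (Fin k) (Fin k) F,
        (g' : Matrix (Idx (t + 1) k) (Idx (t + 1) k) F) * slot k (t + 1) i (etaA q y w c) =
          slot k (t + 1) i M * (g' : Matrix (Idx (t + 1) k) (Idx (t + 1) k) F) := by
    intro w c hw hc
    obtain ⟨η, hη, hηU, hηdet, hηy⟩ := etaA_mem hF y w c hy hw hc
    have haH : slotGL i η ∈ HU (t + 1) k q F := slotGL_mem_HU hF i η hηU hηdet
    have h1 : g' * slotGL i η * g'⁻¹ ∈ X' := hconj _ haH
    have h2 : InU q i y (g' * slotGL i η * g'⁻¹) :=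
      InU_conj hF i y hy0 g' _ hg'D hstab (InU_slot_eta hF i y w c hy hw η hη)
    have h3 := R1plus hF hk2 X' hHX i y hy0 hy (hB y hy0 hy) _ h1 h2
    obtain ⟨α, hα, _⟩ := slot_of_fix hk2 _ h3 i y hy0 h2.1
    refine ⟨(α : Matrix (Fin k) (Fin k) F), ?_⟩
    have e : g' * slotGL i η = slotGL i α * g' := by
      rw [← hα, inv_mul_cancel_right]
    have e' := congrArg (fun u : GL (Idx (t + 1) k) F => (u : Matrix (Idx (t + 1) k) (Idx (t + 1) k) F)) e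
    simp only [Units.val_mul, slotGL_val, hη] at e'
    exact e'
  have hstar := star_of_QU hF hk2 i y hy0 hy g' hstab hQ
  obtain ⟨α, γ, z, hα, hz, hg⟩ := B1_structure_y hk2 i y hy0 g' hstab hstar
  obtain ⟨α₁, z₁, θ, hα₁D, hα₁y, hz₁U, hz₁, hg₁⟩ := U3_normal hF hk2 i y hy0 hy g' hg'D α γ z hα hz hg
  -- the commutators `κ [a⁻¹, z₁] κ⁻¹`, `a = slotGL i α'`, lie in `X'`
  have hcomm : ∀ α' : GL (Fin k) F, α' ∈ GUA k q F → (α' : Matrix (Fin k) (Fin k) F).det = 1 →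
      (slotGL i α₁ * extGL i γ) * ((slotGL i α')⁻¹ * z₁ * slotGL i α' * z₁⁻¹) * (slotGL i α₁ * extGL i γ)⁻¹ ∈ X' := by
    intro α' hα' hdet
    have haH : slotGL i α' ∈ HU (t + 1) k q F := slotGL_mem_HU hF i α' hα' hdet
    have h1 : g' * slotGL i α' * g'⁻¹ ∈ X' := hconj _ haH
    obtain ⟨hc1, hc2⟩ := DUA_conj_mem hF α₁ α' hα₁D hα' hdet
    have h2 : slotGL i (α₁ * α' * α₁⁻¹) ∈ X' := hHX (slotGL_mem_HU hF i _ hc1 hc2)
    have e : (slotGL i α₁ * extGL i γ) * ((slotGL i α')⁻¹ * z₁ * slotGL i α' * z₁⁻¹) * (slotGL i α₁ * extGL i γ)⁻¹ =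
        (slotGL i (α₁ * α' * α₁⁻¹))⁻¹ * (g' * slotGL i α' * g'⁻¹) := by
      have hcm' : extGL i γ * (slotGL i α')⁻¹ = (slotGL i α')⁻¹ * extGL i γ := by
        rw [← slotGL_inv]; exact extGL_comm_slotGL i γ α'⁻¹
      have e1 : slotGL i (α₁ * α' * α₁⁻¹) = slotGL i α₁ * slotGL i α' * (slotGL i α₁)⁻¹ := by
        rw [slotGL_mul, slotGL_mul, slotGL_inv]
      rw [e1, hg₁]
      exact grp_id _ _ _ _ hcm'
    rw [e]
    exact X'.mul_mem (X'.inv_mem h2) h1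
  obtain ⟨c, hc⟩ : ∃ c : F, θ = c • (1 : Matrix (Idx t k) (Idx t k) F) := by
    by_cases hq : 3 ≤ q
    · exact theta_scalar_q3 hF hk hq X' i y hy0 hy (hB y hy0 hy) α₁ hα₁D hα₁y γ z₁ θ hz₁ hcomm
    · have hq2 : q = 2 := by
        have := Cfsg.Agent.Lib.Helper23.TWUQ.two_le_q hF
        omega
      have hk4 : 4 ≤ k := by
        by_contra h
        exact hex ⟨hq2, by omega⟩
      exact theta_scalar_q2 hF hk4 hq2 X' i y hy0 hy hB α₁ hα₁D hα₁y γ z₁ θ hz₁ hcomm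
  rw [hc] at hz₁
  exact ⟨α₁, γ, z₁, z1_mem_HU i y hy z₁ hz₁U c hz₁, hg₁⟩

/-- (B4-U): `SU(B) ≤ X_B` gives `XTU (univ.erase i)` -/
theorem B4U (hF : Fintype.card F = q ^ 2) (hk : 3 ≤ k) (ht : 2 ≤ t) (X : Subgroup (GL (Idx (t + 1) k) F))
    (hHX : HU (t + 1) k q F ≤ X) (i : Fin (t + 1)) (hSU : SUV t k q F ≤ XB X i) :
    XTU q X (Finset.univ.erase i) := by
  intro y c hyJ hc
  have hy' : ∀ j : Fin t, y (i.succAbove j) ≠ 0 ∧ hv q (y (i.succAbove j)) (y (i.succAbove j)) = 0 := fun j =>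
    hyJ _ (Finset.mem_erase.2 ⟨Fin.succAbove_ne i j, Finset.mem_univ _⟩)
  obtain ⟨σ, hσ, r, hr, hval⟩ := exists_sigma hF (by omega) ht (fun j => y (i.succAbove j)) hy' c hc
  obtain ⟨α, hx⟩ := hSU hσ
  have hRX : extGL i r ∈ X := hHX (extGL_mem_HU hF i r hr)
  have hcomm1 : slotGL i α * extGL i σ = extGL i σ * slotGL i α := (extGL_comm_slotGL i σ α).symm
  have hcomm2 : slotGL i α * extGL i r = extGL i r * slotGL i α := (extGL_comm_slotGL i r α).symm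
  have hmem : (slotGL i α * extGL i σ) * extGL i r * (slotGL i α * extGL i σ)⁻¹ * (extGL i r)⁻¹ ∈ X :=
    X.mul_mem (X.mul_mem (X.mul_mem hx hRX) (X.inv_mem hx)) (X.inv_mem hRX)
  rw [Cfsg.Agent.Lib.Helper28.TWIIBLeaf.comm_cancel28 _ _ _ hcomm1 hcomm2] at hmem
  -- `σ r σ⁻¹ r⁻¹ = (r σ r⁻¹ σ⁻¹)⁻¹`
  have hmem' : extGL i (r * σ * r⁻¹ * σ⁻¹) ∈ X := by
    have e : extGL i (r * σ * r⁻¹ * σ⁻¹) = (extGL i σ * extGL i r * (extGL i σ)⁻¹ * (extGL i r)⁻¹)⁻¹ := by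
      rw [extGL_mul, extGL_mul, extGL_mul, extGL_inv, extGL_inv]
      simp only [_root_.mul_inv_rev, inv_inv, mul_assoc]
    rw [e]
    exact X.inv_mem hmem
  refine ⟨_, hmem', ?_⟩
  rw [extGL_val, hval, nilU_erase, Cfsg.Agent.Lib.Helper28.TWIIBLeaf.ext_add28,
    Cfsg.Agent.Lib.Helper28.TWIIBLeaf.ext_smul28, ext_one]

/-- CASE B -/
theorem caseBU (hF : Fintype.card F = q ^ 2) (hk : 3 ≤ k) (hex : ¬ (q = 2 ∧ k = 3)) (ht : 1 ≤ t)
    (hind : 2 ≤ t → MainTU t k q F) (X : Subgroup (GL (Idx (t + 1) k) F)) (hHX : HU (t + 1) k q F ≤ X)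
    (hXD : X ≤ DUV (t + 1) k q F) (g : GL (Idx (t + 1) k) F) (hgX : g ∈ X) (hgG : g ∉ Gstd (t + 1) k F)
    (i i' : Fin (t + 1)) (y y' : Fin k → F) (hy0 : y ≠ 0) (hy : hv q y y = 0) (hy'0 : y' ≠ 0) (hy' : hv q y' y' = 0)
    (hfib : img g (Wf i y) = Wf i' y')
    (hB : ∀ (j : Fin (t + 1)) (z : Fin k → F), z ≠ 0 → hv q z z = 0 → ∀ u ∈ X, InZ j z u → u ∈ Gstd (t + 1) k F) :
    ∃ J : Finset (Fin (t + 1)), 2 ≤ J.card ∧ XTU q X J := by
  have hk2 : 2 ≤ k := by omega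
  rcases Nat.lt_or_ge 1 t with ht2 | ht1
  · -- at least three positions: `s ∈ H`
    obtain ⟨s, hsH, hsW⟩ := exists_s_HU hF hk (by omega) i i' y y' hy0 hy hy'0 hy'
    have hg'X : s⁻¹ * g ∈ X := X.mul_mem (X.inv_mem (hHX hsH)) hgX
    have hstab : img (s⁻¹ * g) (Wf i y) = Wf i y := by
      rw [Cfsg.Agent.Lib.Helper12.TWIIBLeaf.img_mul', hfib]
      exact Cfsg.Agent.Lib.Helper12.TWIIBLeaf.img_inv_eq s _ _ hsW
    obtain ⟨α, γ, h, hhH, hgd⟩ := coreBU hF hk hex X hHX i y hy0 hy (fun z hz0 hz => hB i z hz0 hz) (s⁻¹ * g)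
      (hXD hg'X) hstab (fun a ha => X.mul_mem (X.mul_mem hg'X (hHX ha)) (X.inv_mem hg'X))
    have hκX : slotGL i α * extGL i γ ∈ X := by
      have : slotGL i α * extGL i γ = (s⁻¹ * g) * h⁻¹ := by
        rw [hgd, mul_inv_cancel_right]
      rw [this]
      exact X.mul_mem hg'X (X.inv_mem (hHX hhH))
    have hγXB : γ ∈ XB X i := ⟨α, hκX⟩
    have hγG : γ ∉ Gstd t k F := by
      intro hγ
      apply hgG
      have h1 : slotGL i α ∈ Gstd (t + 1) k F := Cfsg.Agent.Lib.Helper23.TWLeaf.slotGL_mem_G i α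
      have h2 : extGL i γ ∈ Gstd (t + 1) k F := Cfsg.Agent.Lib.Helper22.TWLeaf.extGL_mem_G i γ hγ
      have h3 : s⁻¹ * g ∈ Gstd (t + 1) k F := by
        rw [hgd]
        exact (Gstd (t + 1) k F).mul_mem ((Gstd (t + 1) k F).mul_mem h1 h2) hhH.1
      have := (Gstd (t + 1) k F).mul_mem hsH.1 h3
      rwa [mul_inv_cancel_left] at this
    rcases hind (by omega) (XB X i) (HU_le_XB hF X hHX i) (XB_le_DUV hF (by omega) X hXD i) with h | h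
    · exact absurd (h hγXB) hγG
    · refine ⟨Finset.univ.erase i, ?_, B4U hF hk (by omega) X hHX i h⟩
      rw [Finset.card_erase_of_mem (Finset.mem_univ i), Finset.card_univ, Fintype.card_fin]
      omega
  · -- two positions: Case B is impossible
    have ht' : t = 1 := by omega
    subst ht'
    obtain ⟨s, hsG, hsU, hsW⟩ := exists_s_GU hF hk i i' y y' hy0 hy hy'0 hy'
    have hsD : s ∈ DUV (1 + 1) k q F := GUV_le_DUV hsU
    have hsinvG : s⁻¹ ∈ Gstd (1 + 1) k F := (Gstd (1 + 1) k F).inv_mem hsG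
    have hsinvD : s⁻¹ ∈ DUV (1 + 1) k q F := (DUV (1 + 1) k q F).inv_mem hsD
    have hstab : img (s⁻¹ * g) (Wf i y) = Wf i y := by
      rw [Cfsg.Agent.Lib.Helper12.TWIIBLeaf.img_mul', hfib]
      exact Cfsg.Agent.Lib.Helper12.TWIIBLeaf.img_inv_eq s _ _ hsW
    -- `X' := s⁻¹ X s`
    have hmemX' : ∀ u : GL (Idx (1 + 1) k) F, u ∈ conjG s⁻¹ X ↔ s * u * s⁻¹ ∈ X := by
      intro u
      rw [mem_conjG]
      constructor
      · rintro ⟨x, hx, rfl⟩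
        have : s * (s⁻¹ * x * s⁻¹⁻¹) * s⁻¹ = x := by group
        rw [this]
        exact hx
      · intro hu
        exact ⟨s * u * s⁻¹, hu, by group⟩
    have hHX' : HU (1 + 1) k q F ≤ conjG s⁻¹ X := by
      intro h hh
      rw [hmemX']
      exact hHX (HU_conj_mem hF s h hsG hsD hh)
    have hB' : ∀ z : Fin k → F, z ≠ 0 → hv q z z = 0 → ∀ u ∈ conjG s⁻¹ X, InZ i z u → u ∈ Gstd (1 + 1) k F := by
      intro z hz0 hz u hu huZ
      rw [hmemX'] at hu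
      obtain ⟨j, z', hz'0, hz', himg⟩ := G_img_Wf hF hk2 s hsG hsD i z hz0 hz
      have h1 := hB j z' hz'0 hz' _ hu (Cfsg.Agent.Lib.Helper12.TWIIBLeaf.InZ_conj i j z z' s u huZ himg)
      have := (Gstd (1 + 1) k F).mul_mem ((Gstd (1 + 1) k F).mul_mem hsinvG h1) hsG
      have e : s⁻¹ * (s * u * s⁻¹) * s = u := by group
      rwa [e] at this
    have hg'D : s⁻¹ * g ∈ DUV (1 + 1) k q F := (DUV (1 + 1) k q F).mul_mem hsinvD (hXD hgX)
    have hconj : ∀ a ∈ HU (1 + 1) k q F, (s⁻¹ * g) * a * (s⁻¹ * g)⁻¹ ∈ conjG s⁻¹ X := by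
      intro a ha
      rw [hmemX']
      have e : s * ((s⁻¹ * g) * a * (s⁻¹ * g)⁻¹) * s⁻¹ = g * a * g⁻¹ := by group
      rw [e]
      exact X.mul_mem (X.mul_mem hgX (hHX ha)) (X.inv_mem hgX)
    obtain ⟨α, γ, h, hhH, hgd⟩ := coreBU hF hk hex (conjG s⁻¹ X) hHX' i y hy0 hy hB' (s⁻¹ * g) hg'D hstab hconj
    exfalso
    apply hgG
    have h1 : slotGL i α ∈ Gstd (1 + 1) k F := Cfsg.Agent.Lib.Helper23.TWLeaf.slotGL_mem_G i α
    have h2 : extGL i γ ∈ Gstd (1 + 1) k F :=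
      Cfsg.Agent.Lib.Helper22.TWLeaf.extGL_mem_G i γ (Cfsg.Agent.Lib.Helper28.TWIIBLeaf.mem_Gstd_one γ)
    have h3 : s⁻¹ * g ∈ Gstd (1 + 1) k F := by
      rw [hgd]
      exact (Gstd (1 + 1) k F).mul_mem ((Gstd (1 + 1) k F).mul_mem h1 h2) hhH.1
    have := (Gstd (1 + 1) k F).mul_mem hsG h3
    rwa [mul_inv_cancel_left] at this

/-- STAGE II (unitary), on `t + 1` positions, with Case A as a hypothesis -/
theorem stageIIU_of_caseA (hF : Fintype.card F = q ^ 2) (hk : 3 ≤ k) (hex : ¬ (q = 2 ∧ k = 3)) (ht : 1 ≤ t)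
    (hind : 2 ≤ t → MainTU t k q F) (X : Subgroup (GL (Idx (t + 1) k) F)) (hHX : HU (t + 1) k q F ≤ X)
    (hXD : X ≤ DUV (t + 1) k q F) (hNS : ¬ NSU q X)
    (hcaseA : ∀ (j : Fin (t + 1)) (z : Fin k → F), z ≠ 0 → hv q z z = 0 → ∀ u : GL (Idx (t + 1) k) F, u ∈ X →
      u ∉ Gstd (t + 1) k F → InZ j z u → ∃ J : Finset (Fin (t + 1)), 2 ≤ J.card ∧ XTU q X J) :
    ∃ J : Finset (Fin (t + 1)), 2 ≤ J.card ∧ XTU q X J := by
  unfold NSU NSp at hNS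
  push Not at hNS
  obtain ⟨g, hgX, ⟨i, i', y, y', hy0, hy'0, hy, hy', hfib⟩, hgG⟩ := hNS
  by_cases hA : ∃ (j : Fin (t + 1)) (z : Fin k → F), z ≠ 0 ∧ hv q z z = 0 ∧
      ∃ u ∈ X, u ∉ Gstd (t + 1) k F ∧ InZ j z u
  · obtain ⟨j, z, hz0, hz, u, huX, huG, hu⟩ := hA
    exact hcaseA j z hz0 hz u huX huG hu
  · have hB : ∀ (j : Fin (t + 1)) (z : Fin k → F), z ≠ 0 → hv q z z = 0 → ∀ u ∈ X, InZ j z u →
        u ∈ Gstd (t + 1) k F := by
      intro j z hz0 hz u huX huZ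
      by_contra huG
      exact hA ⟨j, z, hz0, hz, u, huX, huG, huZ⟩
    exact caseBU hF hk hex ht hind X hHX hXD g hgX hgG i i' y y' hy0 hy hy'0 hy' hfib hB

end Cfsg.Agent.Lib.Helper14.TWUStageIIB
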