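import Mathlib
import Cfsg.Agent.Lib.Helper14.TWUStageIIB
import Cfsg.Agent.Lib.Helper28.TWU2AMain

/-!
# S5672 (C7 unitary) — STAGE II: `stageIIU` (`t + 1` positions), `stageIIU'` (`t` positions, helper5's shape)
Case B = `Helper14.TWUStageIIB` (helper14 + leaves by helper1, 4, 6, 12, 16, 17, 23), Case A = `Helper28.TWU2AMain` (helper28 + leaves by
helper6, 8, 13, 19, 24, 26).  Paper proof: `notes/S5672_II_plan.md`.
-/

set_option autoImplicit false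
set_option linter.unusedSectionVars false
set_option linter.unusedVariables false

namespace Cfsg.Agent.Lib.Helper14.TWUStageII
open Matrix Cfsg.Geo Cfsg.Agent.Lib.Helper18.AschA89 Cfsg.Agent.Lib.Helper8.TW Cfsg.Agent.Lib.Helper5.TWU
  Cfsg.Agent.Lib.Helper14.TWII Cfsg.Agent.Lib.Helper14.TWUII
open Cfsg.Agent.Lib.Helper20.UT (hv)

variable {F : Type*} [Field F] [Fintype F] {t k q : ℕ}

/-- STAGE II (unitary), on `t + 1` positions -/
theorem stageIIU (hF : Fintype.card F = q ^ 2) (hk : 3 ≤ k) (hex : ¬ (q = 2 ∧ k = 3)) (ht : 1 ≤ t)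
    (hind : 2 ≤ t → MainTU t k q F) (X : Subgroup (GL (Idx (t + 1) k) F)) (hHX : HU (t + 1) k q F ≤ X)
    (hXD : X ≤ DUV (t + 1) k q F) (hNS : ¬ NSU q X) :
    ∃ J : Finset (Fin (t + 1)), 2 ≤ J.card ∧ XTU q X J :=
  Cfsg.Agent.Lib.Helper14.TWUStageIIB.stageIIU_of_caseA hF hk hex ht hind X hHX hXD hNS
    (fun j z hz0 hz u huX huG hu =>
      Cfsg.Agent.Lib.Helper28.TWUIILeaf.caseAU hF hk hex ht X hHX hXD j z hz0 hz u huX huG hu)

/-- STAGE II in helper5's shape (`t` positions, `hind` for all smaller `t' ≥ 2`) -/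
theorem stageIIU' (hF : Fintype.card F = q ^ 2) (hk : 3 ≤ k) (hex : ¬ (q = 2 ∧ k = 3)) (ht : 2 ≤ t)
    (hind : ∀ t', 2 ≤ t' → t' < t → MainTU t' k q F) (X : Subgroup (GL (Idx t k) F)) (hHX : HU t k q F ≤ X)
    (hXD : X ≤ DUV t k q F) (hNS : ¬ NSU q X) :
    ∃ J : Finset (Fin t), 2 ≤ J.card ∧ XTU q X J := by
  obtain ⟨t₀, rfl⟩ : ∃ t₀, t = t₀ + 1 := ⟨t - 1, by omega⟩
  exact stageIIU hF hk hex (by omega) (fun h2 => hind t₀ h2 (by omega)) X hHX hXD hNS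

end Cfsg.Agent.Lib.Helper14.TWUStageII
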