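import Mathlib

set_option autoImplicit false

/-!
# Tensor product of two non-degenerate alternating forms
-/

namespace Cfsg.Agent.Lib.Helper14.TensorAlt

open TensorProduct Module

variable {F U W : Type*} [Field F] [AddCommGroup U] [Module F U] [FiniteDimensional F U]
  [AddCommGroup W] [Module F W] [FiniteDimensional F W]

omit [FiniteDimensional F U] [FiniteDimensional F W] in
attribute [local ext] TensorProduct.ext in
theorem tmul_isSymm_of_alt (B₁ : LinearMap.BilinForm F U) (B₂ : LinearMap.BilinForm F W)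
    (hA₁ : B₁.IsAlt) (hA₂ : B₂.IsAlt) : (B₁.tmul B₂).IsSymm := by
  rw [LinearMap.isSymm_iff_eq_flip]
  ext x₁ x₂ y₁ y₂
  show B₂ x₂ y₂ • B₁ x₁ y₁ = B₂ y₂ x₂ • B₁ y₁ x₁
  rw [← hA₁.neg_eq y₁ x₁, ← hA₂.neg_eq y₂ x₂]
  simp

theorem tmul_nondegenerate (B₁ : LinearMap.BilinForm F U) (B₂ : LinearMap.BilinForm F W)
    (h₁ : B₁.Nondegenerate) (h₂ : B₂.Nondegenerate) : (B₁.tmul B₂).Nondegenerate := by
  classical
  let b₁ := Module.finBasis F U
  let b₂ := Module.finBasis F W
  refine (LinearMap.BilinForm.nondegenerate_iff_det_ne_zero (b₁.tensorProduct b₂)).mpr ?_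
  have hM : LinearMap.BilinForm.toMatrix (b₁.tensorProduct b₂) (B₁.tmul B₂) =
      Matrix.kronecker (LinearMap.BilinForm.toMatrix b₁ B₁) (LinearMap.BilinForm.toMatrix b₂ B₂) := by
    ext ⟨i, j⟩ ⟨i', j'⟩
    rw [LinearMap.BilinForm.toMatrix_apply, Basis.tensorProduct_apply, Basis.tensorProduct_apply]
    simp [LinearMap.BilinForm.toMatrix_apply, mul_comm]
  rw [hM]
  have hk := Matrix.det_kronecker (LinearMap.BilinForm.toMatrix b₁ B₁) (LinearMap.BilinForm.toMatrix b₂ B₂)
  have hk' : (Matrix.kronecker (LinearMap.BilinForm.toMatrix b₁ B₁) (LinearMap.BilinForm.toMatrix b₂ B₂)).det =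
      ((LinearMap.BilinForm.toMatrix b₁) B₁).det ^ Fintype.card (Fin (finrank F W)) *
        ((LinearMap.BilinForm.toMatrix b₂) B₂).det ^ Fintype.card (Fin (finrank F U)) := hk
  rw [hk']
  have d1 := (LinearMap.BilinForm.nondegenerate_iff_det_ne_zero b₁).mp h₁
  have d2 := (LinearMap.BilinForm.nondegenerate_iff_det_ne_zero b₂).mp h₂
  exact mul_ne_zero (pow_ne_zero _ d1) (pow_ne_zero _ d2)

theorem exists_lagrangian (B : LinearMap.BilinForm F U) (h : B.Nondegenerate) (hA : B.IsAlt)
    (k : ℕ) (hU : finrank F U = 2 * k) :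
    ∃ L : Submodule F U, finrank F L = k ∧ ∀ x ∈ L, ∀ y ∈ L, B x y = 0 := by
  classical
  let S : Set (Submodule F U) := {L | ∀ x ∈ L, ∀ y ∈ L, B x y = 0}
  have hS : S.Nonempty := ⟨⊥, by
    intro x hx y hy
    rw [Submodule.mem_bot] at hx
    rw [hx, map_zero, LinearMap.zero_apply]⟩
  obtain ⟨L, hL, hmax⟩ := (wellFounded_gt (α := Submodule F U)).has_min S hS
  have hle : L ≤ B.orthogonal L := by
    intro x hx
    rw [LinearMap.BilinForm.mem_orthogonal_iff]
    intro n hn
    exact hL n hn x hx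
  have heq : B.orthogonal L = L := by
    apply le_antisymm _ hle
    intro v hv
    by_contra hvL
    rw [LinearMap.BilinForm.mem_orthogonal_iff] at hv
    have hL' : L ⊔ Submodule.span F {v} ∈ S := by
      intro x hx y hy
      rw [Submodule.mem_sup] at hx hy
      obtain ⟨l, hl, z, hz, rfl⟩ := hx
      obtain ⟨l', hl', z', hz', rfl⟩ := hy
      rw [Submodule.mem_span_singleton] at hz hz'
      obtain ⟨c, rfl⟩ := hz
      obtain ⟨c', rfl⟩ := hz'
      have h1 : B v l' = 0 := by rw [← hA.neg_eq l' v, hv l' hl', neg_zero]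
      simp only [map_add, LinearMap.add_apply, map_smul, LinearMap.smul_apply, hL l hl l' hl',
        hv l hl, h1, hA v, smul_zero, add_zero]
    have hlt : L < L ⊔ Submodule.span F {v} := by
      apply lt_of_le_of_ne le_sup_left
      intro heq'
      apply hvL
      rw [heq']
      exact Submodule.mem_sup_right (Submodule.mem_span_singleton_self v)
    exact hmax _ hL' hlt
  have hfr := LinearMap.BilinForm.finrank_orthogonal h L
  rw [heq, hU] at hfr
  refine ⟨L, ?_, hL⟩
  have : finrank F L ≤ 2 * k := by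
    rw [← hU]; exact Submodule.finrank_le L
  omega

theorem exists_isotropic_tensor (B₁ : LinearMap.BilinForm F U) (B₂ : LinearMap.BilinForm F W)
    (h₁ : B₁.Nondegenerate) (hA₁ : B₁.IsAlt) (k l : ℕ) (hU : finrank F U = 2 * k)
    (hW : finrank F W = 2 * l) :
    ∃ X : Submodule F (U ⊗[F] W), finrank F X = 2 * k * l ∧
      ∀ x ∈ X, ∀ y ∈ X, (B₁.tmul B₂) x y = 0 := by
  obtain ⟨L, hLk, hL⟩ := exists_lagrangian B₁ h₁ hA₁ k hU
  refine ⟨LinearMap.range (LinearMap.rTensor W L.subtype), ?_, ?_⟩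
  · rw [LinearMap.finrank_range_of_inj
      (Module.Flat.rTensor_preserves_injective_linearMap L.subtype L.subtype_injective),
      Module.finrank_tensorProduct, hLk, hW]
    ring
  · rintro x ⟨x', rfl⟩ y ⟨y', rfl⟩
    induction x' using TensorProduct.induction_on with
    | zero => simp
    | tmul a w =>
      induction y' using TensorProduct.induction_on with
      | zero => simp
      | tmul a' w' =>
        simp only [LinearMap.rTensor_tmul, Submodule.subtype_apply]
        show B₂ w w' • B₁ a.1 a'.1 = 0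
        rw [hL a.1 a.2 a'.1 a'.2, smul_zero]
      | add y1 y2 h1 h2 => rw [map_add, map_add, h1, h2, add_zero]
    | add x1 x2 h1 h2 => rw [map_add, map_add, LinearMap.add_apply, h1, h2, add_zero]

end Cfsg.Agent.Lib.Helper14.TensorAlt
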