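import Mathlib
import Cfsg.Agent.Lib.Helper20.UTDefs
import Cfsg.Agent.Lib.Helper20.UTCT
import Cfsg.Agent.Lib.Helper1.U23Opp

/-!
S5801 conjunct (8) `GU_2 ⊗ GU_3 < SU_6(3)`, the `q = 3` endgame, leaf Q2 (Step B, `dim W = 2`):
from an element `u ∈ M` that fixes `x ⊗ d^⊥ + x₂ ⊗ d` pointwise and is block diagonal with respect to
`A ⊗ d^⊥ ⊕ A ⊗ d`, the commutator with `kA 3 x s` is a slice element `a_d(c)`, `c ∈ SU(A)`, `c² = -1`.
Vocabulary: `Helper20.UT` + `Helper25.Tens`.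
-/

set_option autoImplicit false
set_option linter.unusedSectionVars false
set_option linter.unusedVariables false

namespace Cfsg.Agent.Lib.Helper14.U23Q2
open Matrix
open Cfsg.Agent.Lib.Helper25.Tens Cfsg.Agent.Lib.Helper25.TensLeaf Cfsg.Agent.Lib.Helper20.UT
open Cfsg.Agent.Lib.Helper20.UTLeaf

variable {F : Type*} [Field F] [Fintype F]

lemma three_eq_zero (hF : Fintype.card F = 3 ^ 2) : (3 : F) = 0 := by
  have h9 : ((Fintype.card F : ℕ) : F) = 0 := Nat.cast_card_eq_zero F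
  rw [hF] at h9
  have h33 : (3 : F) * 3 = 0 := by
    have : ((3 ^ 2 : ℕ) : F) = 3 * 3 := by norm_num
    rw [← this]; exact h9
  exact mul_self_eq_zero.mp h33

lemma skew_sq {s : F} (hs0 : s ≠ 0) (hs : s ^ 3 = -s) : s ^ 2 = -1 := by
  have h : s * (s ^ 2 + 1) = 0 := by linear_combination hs
  rcases mul_eq_zero.mp h with h | h
  · exact absurd h hs0
  · linear_combination h

lemma pow_eight (hF : Fintype.card F = 3 ^ 2) {η : F} (hη : η ≠ 0) : η ^ 8 = 1 := by
  have := FiniteField.pow_card_sub_one_eq_one η hη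
  rw [hF] at this
  simpa using this

lemma mv_inv_eq {ι : Type} [Fintype ι] [DecidableEq ι] {g : GL ι F} {v w : ι → F}
    (h : mv g v = w) : mv g⁻¹ w = v := by
  rw [← h, mv_inv_mv]

/-- in the unitary plane, the perp of an isotropic vector is its span -/
lemma perp_iso_two {q : ℕ} {x₂ w : Fin 2 → F} (hx0 : x₂ ≠ 0) (hx₂ : hv q x₂ x₂ = 0)
    (hw : hv q w x₂ = 0) : ∃ β : F, w = β • x₂ := by
  simp only [hv, Fin.sum_univ_two] at hx₂ hw
  have hp : x₂ 0 ≠ 0 := by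
    intro h0
    rw [h0] at hx₂
    have h1 : x₂ 1 * x₂ 1 ^ q = 0 := by
      by_cases hq : q = 0
      · subst hq; simpa using hx₂
      · rw [zero_pow hq, zero_mul, zero_add] at hx₂; exact hx₂
    have h1' : x₂ 1 = 0 := by
      rcases mul_eq_zero.mp h1 with h | h
      · exact h
      · exact pow_eq_zero_iff (n := q) (by
          intro hq; subst hq; simp at h) |>.mp h
    apply hx0
    ext i; fin_cases i
    · exact h0
    · exact h1'
  have hpq : x₂ 0 ^ q ≠ 0 := pow_ne_zero q hp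
  refine ⟨w 0 / x₂ 0, ?_⟩
  have key : x₂ 0 ^ q * (w 0 * x₂ 1 - w 1 * x₂ 0) = 0 := by
    linear_combination x₂ 1 * hw - w 1 * hx₂
  have key' : w 0 * x₂ 1 - w 1 * x₂ 0 = 0 := by
    rcases mul_eq_zero.mp key with h | h
    · exact absurd h hpq
    · exact h
  ext i; fin_cases i
  · simp only [Pi.smul_apply, smul_eq_mul, Fin.zero_eta, Fin.isValue]
    field_simp
  · simp only [Pi.smul_apply, smul_eq_mul, Fin.mk_one, Fin.isValue]
    field_simp
    linear_combination -key'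

lemma decomp_two {q : ℕ} (hF : Fintype.card F = q ^ 2) {x x₂ : Fin 2 → F} (hx₂ : hv q x₂ x₂ = 0)
    (h12 : hv q x x₂ ≠ 0) (a : Fin 2 → F) :
    ∃ μ : F, a = (hv q a x₂ / hv q x x₂) • x + μ • x₂ := by
  have hx0 : x₂ ≠ 0 := by
    rintro rfl; exact h12 (hv_zero_right hF x)
  obtain ⟨μ, hμ⟩ := perp_iso_two hx0 hx₂ (w := a - (hv q a x₂ / hv q x x₂) • x) (by
    rw [hv_sub_left, hv_smul_left]; field_simp; ring)
  exact ⟨μ, by rw [← hμ]; abel⟩

/-- unitary transvections are isometries -/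
lemma tvU_iso {n q : ℕ} (hF : Fintype.card F = q ^ 2) (y : Fin n → F) {c : F} (hc : c ^ q = -c)
    (hy : hv q y y = 0) (u v : Fin n → F) :
    hv q (mv (tvU q y c hy) u) (mv (tvU q y c hy) v) = hv q u v := by
  rw [tvU_mulVec, tvU_mulVec]
  have := iso_of_skew hF hc (fun v => hv q v y • y) (fun u v => hv q u y * hv q y v) ?_ ?_ ?_ u v
  · simpa [smul_smul] using this
  · intro u v; rw [hv_smul_right, hv_conj hF]; ring
  · intro u v; rw [hv_smul_left]
  · intro u v; rw [hv_smul_left, hv_smul_right, hy]; ring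

section act
variable {q : ℕ} (x x₂ : Fin 2 → F) (hx : hv q x x = 0) (hx₂ : hv q x₂ x₂ = 0)

lemma act_tau (s α β : F) :
    mv (tvU q x s hx) (α • x + β • x₂) = (α + β * (s * hv q x₂ x)) • x + β • x₂ := by
  rw [tvU_mulVec, hv_add_left, hv_smul_left, hv_smul_left, hx]
  module

lemma act_C (s α β : F) :
    mv (tvU q x₂ s hx₂) (α • x + β • x₂) = α • x + (β + α * (s * hv q x x₂)) • x₂ := by
  rw [tvU_mulVec, hv_add_left, hv_smul_left, hv_smul_left, hx₂]
  module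

lemma act_c (s s' α β : F) :
    mv ((tvU q x s hx * tvU q x₂ s' hx₂)⁻¹ * (tvU q x₂ s' hx₂ * tvU q x s hx)) (α • x + β • x₂) =
      (α * (1 - (s * hv q x₂ x) * (s' * hv q x x₂)) - β * (s * hv q x₂ x) ^ 2 * (s' * hv q x x₂)) • x +
      (β * (1 + (s * hv q x₂ x) * (s' * hv q x x₂) + (s * hv q x₂ x) ^ 2 * (s' * hv q x x₂) ^ 2) +
        α * (s * hv q x₂ x) * (s' * hv q x x₂) ^ 2) • x₂ := by
  rw [mv_mul]
  apply mv_inv_eq
  rw [mv_mul, mv_mul, act_C, act_tau, act_tau, act_C]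
  congr 1 <;> congr 1 <;> ring

lemma act_c_sq (s s' : F) (h3 : (3 : F) = 0)
    (he : ((s * hv q x₂ x) * (s' * hv q x x₂)) ^ 2 = 1) (α β : F) :
    mv ((tvU q x s hx * tvU q x₂ s' hx₂)⁻¹ * (tvU q x₂ s' hx₂ * tvU q x s hx))
      (mv ((tvU q x s hx * tvU q x₂ s' hx₂)⁻¹ * (tvU q x₂ s' hx₂ * tvU q x s hx)) (α • x + β • x₂)) =
      -(α • x + β • x₂) := by
  rw [act_c, act_c]
  have hneg : -(α • x + β • x₂) = (-α) • x + (-β) • x₂ := by module
  rw [hneg]
  set p := s * hv q x₂ x with hp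
  set r := s' * hv q x x₂ with hr
  congr 1 <;> congr 1
  · linear_combination (α * (1 - p * r) - β * p ^ 2 * r) * h3 + (α * (1 - p * r) - β * p ^ 2 * r) * he
  · linear_combination (β * (2 + p * r) + α * p * r ^ 2) * h3 +
      (β * (4 + p * r + (p * r) ^ 2) + α * p * r ^ 2) * he

end act

/-- **Q2 core** (convenient form of the block hypotheses) -/
theorem slice_core (hF : Fintype.card F = 3 ^ 2) {M : Subgroup (GL (Idx 2 3) F)}
    (hM : KG 2 3 F ⊓ GS 2 3 3 F ≤ M) (hMG : M ≤ GS 2 3 3 F)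
    (x x₂ : Fin 2 → F) (hx : hv 3 x x = 0) (hx₂ : hv 3 x₂ x₂ = 0) (h12 : hv 3 x x₂ ≠ 0)
    (d : Fin 3 → F) (hd : hv 3 d d ≠ 0)
    (u : GL (Idx 2 3) F) (hu : u ∈ M)
    (hfixW : ∀ y, hv 3 y d = 0 → mv u (pt x y) = pt x y)
    (hfix2 : mv u (pt x₂ d) = pt x₂ d)
    (hne : mv u (pt x d) ≠ pt x d)
    (hP : ∀ a y, hv 3 y d = 0 → ∃ y', mv u (pt a y) = pt a y + pt x y')
    (hD : ∀ a, ∃ a', mv u (pt a d) = pt a' d) :
    ∃ c : GL (Fin 2) F, (∀ v w, hv 3 (mv c v) (mv c w) = hv 3 v w) ∧ (∀ v, mv c (mv c v) = -v) ∧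
      (c : Matrix (Fin 2) (Fin 2) F).det = 1 ∧
      ∃ m ∈ M, ∀ a y, mv m (pt a y) = pt a y + (hv 3 y d / hv 3 d d) • pt (mv c a - a) d := by
  have h3 : (3 : F) = 0 := three_eq_zero hF
  have hu_iso : ∀ v w, hv 3 (mv u v) (mv u w) = hv 3 v w := mem_GUI.mp (hMG hu).1
  have hd0 : d ≠ 0 := by
    rintro rfl; exact hd (hv_zero_right hF _)
  have hx₂0 : x₂ ≠ 0 := by
    rintro rfl; exact h12 (hv_zero_right hF x)
  set η := hv 3 x x₂ with hη
  have hη' : hv 3 x₂ x = η ^ 3 := (hv_conj hF x x₂).symm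
  have hη'0 : hv 3 x₂ x ≠ 0 := by rw [hη']; exact pow_ne_zero 3 h12
  -- the image of `x ⊗ d`
  obtain ⟨a', ha'⟩ := hD x
  have h1 : hv 3 a' x₂ = η := by
    have := hu_iso (pt x d) (pt x₂ d)
    rw [ha', hfix2, hv_pt, hv_pt] at this
    exact mul_right_cancel₀ hd this
  obtain ⟨β, hβ⟩ := perp_iso_two hx₂0 hx₂ (w := a' - x) (by rw [hv_sub_left, h1, sub_self])
  have ha'x : a' = x + β • x₂ := by rw [← hβ]; abel
  have hβ0 : β ≠ 0 := by
    rintro rfl
    apply hne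
    rw [ha', ha'x, zero_smul, add_zero]
  have hiso : β ^ 3 * η + β * η ^ 3 = 0 := by
    have := hu_iso (pt x d) (pt x d)
    rw [ha', hv_pt, hv_pt, hx, zero_mul] at this
    have h0 : hv 3 a' a' = 0 := by
      rcases mul_eq_zero.mp this with h | h
      · exact h
      · exact absurd h hd
    rw [ha'x, hv_add_left, hv_add_right hF, hv_add_right hF, hx, hv_smul_right, hv_smul_left,
      hv_smul_left, hv_smul_right, hx₂, hη'] at h0
    linear_combination h0
  set s' := β / η with hs'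
  have hs'0 : s' ≠ 0 := div_ne_zero hβ0 h12
  have hsum : β ^ 2 + η ^ 2 = 0 := by
    have : β * η * (β ^ 2 + η ^ 2) = 0 := by linear_combination hiso
    rcases mul_eq_zero.mp this with h | h
    · exact absurd h (mul_ne_zero hβ0 h12)
    · exact h
  have hs'sk : s' ^ 3 = -s' := by
    rw [hs', div_pow, eq_neg_iff_add_eq_zero]
    have hη3 : η ^ 3 ≠ 0 := pow_ne_zero 3 h12
    have : β ^ 3 / η ^ 3 + β / η = (β * (β ^ 2 + η ^ 2)) / η ^ 3 := by
      field_simp
    rw [this, hsum, mul_zero, zero_div]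
  -- `u` on `A ⊗ d`
  have huD : ∀ a, mv u (pt a d) = pt (mv (tvU 3 x₂ s' hx₂) a) d := by
    intro a
    obtain ⟨μ, hμ⟩ := decomp_two hF hx₂ h12 a
    have e1 : pt a d = (hv 3 a x₂ / η) • pt x d + μ • pt x₂ d := by
      rw [← pt_smul_left, ← pt_smul_left, ← pt_add_left, ← hμ]
    rw [e1, mv_add, mv_smul, mv_smul, ha', hfix2, ← pt_smul_left, ← pt_smul_left, ← pt_add_left,
      tvU_mulVec]
    congr 1
    rw [ha'x]
    have e2 : a + (s' * hv 3 a x₂) • x₂ =
        ((hv 3 a x₂ / η) • x + μ • x₂) + (s' * hv 3 a x₂) • x₂ := by rw [← hμ]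
    rw [e2, hs']
    have : (β / η * hv 3 a x₂) = (hv 3 a x₂ / η) * β := by ring
    rw [this]
    module
  -- the elements
  set τ := tvU 3 x s' hx with hτ
  set C := tvU 3 x₂ s' hx₂ with hC
  set k : GL (Idx 2 3) F := kA 3 x s' hx with hk
  have hkM : k ∈ M := hM ⟨kA_mem_KG 3 x s' hx, kA_mem_GS hF x hs'sk hx⟩
  have hkpt : ∀ a z, mv k (pt a z) = pt (mv τ a) z := by
    intro a z
    rw [hk, mv_kA_pt, hτ, tvU_mulVec]
  have hτx : mv τ x = x := by
    rw [hτ, tvU_mulVec, hx, mul_zero, zero_smul, add_zero]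
  refine ⟨(τ * C)⁻¹ * (C * τ), ?_, ?_, ?_, (k * u)⁻¹ * (u * k), ?_, ?_⟩
  · -- unitary
    have hτi : ∀ v w, hv 3 (mv τ v) (mv τ w) = hv 3 v w := tvU_iso hF x hs'sk hx
    have hCi : ∀ v w, hv 3 (mv C v) (mv C w) = hv 3 v w := tvU_iso hF x₂ hs'sk hx₂
    have hτC : ∀ v w, hv 3 (mv (τ * C) v) (mv (τ * C) w) = hv 3 v w := by
      intro v w; rw [mv_mul, mv_mul, hτi, hCi]
    intro v w
    rw [mv_mul, mv_mul, mv_mul, mv_mul]
    rw [← hτC (mv (τ * C)⁻¹ _) (mv (τ * C)⁻¹ _), mv_mv_inv, mv_mv_inv, hCi, hτi]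
  · -- square
    intro v
    obtain ⟨μ, hμ⟩ := decomp_two hF hx₂ h12 v
    rw [hμ]
    apply act_c_sq x x₂ hx hx₂ s' s' h3
    have hs2 : s' ^ 2 = -1 := skew_sq hs'0 hs'sk
    have h8 : η ^ 8 = 1 := pow_eight hF h12
    rw [hη']
    have : (s' * η ^ 3 * (s' * η)) ^ 2 = (s' ^ 2) ^ 2 * η ^ 8 := by ring
    rw [this, hs2, h8]; ring
  · -- determinant
    have hdet : Matrix.GeneralLinearGroup.det ((τ * C)⁻¹ * (C * τ)) = 1 := by
      rw [map_mul, map_inv, map_mul, map_mul,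
        mul_comm (Matrix.GeneralLinearGroup.det C) (Matrix.GeneralLinearGroup.det τ), inv_mul_cancel]
    have := congrArg (fun z : Fˣ => (z : F)) hdet
    simpa using this
  · exact M.mul_mem (M.inv_mem (M.mul_mem hkM hu)) (M.mul_mem hu hkM)
  · -- the action of `m`
    have hmD : ∀ a, mv ((k * u)⁻¹ * (u * k)) (pt a d) = pt (mv ((τ * C)⁻¹ * (C * τ)) a) d := by
      intro a
      have e1 : mv (u * k) (pt a d) = pt (mv (C * τ) a) d := by
        rw [mv_mul, hkpt, huD, ← mv_mul]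
      have e2 : ∀ b, mv (k * u) (pt b d) = pt (mv (τ * C) b) d := by
        intro b; rw [mv_mul, huD, hkpt, ← mv_mul]
      rw [mv_mul, e1]
      apply mv_inv_eq
      rw [e2, ← mv_mul, mul_inv_cancel_left]
    have hmW : ∀ a y, hv 3 y d = 0 → mv ((k * u)⁻¹ * (u * k)) (pt a y) = pt a y := by
      intro a y hy
      obtain ⟨y', hy'⟩ := hP a y hy
      have e3 : mv (u * k) (pt a y) = mv (k * u) (pt a y) := by
        rw [mv_mul, mv_mul, hy', mv_add, hkpt, hkpt, hτx]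
        have hτa : mv τ a = a + (s' * hv 3 a x) • x := by rw [hτ, tvU_mulVec]
        rw [hτa, pt_add_left, pt_smul_left, mv_add, mv_smul, hy', hfixW y hy]
        abel
      rw [mv_mul, e3, mv_inv_mv]
    intro a y
    set lam := hv 3 y d / hv 3 d d with hlam
    have hy0 : hv 3 (y - lam • d) d = 0 := by
      rw [hv_sub_left, hv_smul_left, hlam]; field_simp; ring
    have e1 : pt a y = pt a (y - lam • d) + lam • pt a d := by
      rw [← pt_smul_right, ← pt_add_right]; congr 1; abel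
    conv_lhs => rw [e1]
    rw [mv_add, mv_smul, hmW a _ hy0, hmD]
    rw [show pt a (y - lam • d) = pt a y - lam • pt a d by
      rw [e1]; abel_nf]
    rw [show pt (mv ((τ * C)⁻¹ * (C * τ)) a - a) d = pt (mv ((τ * C)⁻¹ * (C * τ)) a) d - pt a d by
      rw [sub_eq_add_neg, pt_add_left, ← neg_one_smul F a, pt_smul_left]; module]
    module

/-- nondegeneracy of the standard hermitian form -/
lemma eq_zero_of_hv {κ : Type} [Fintype κ] [DecidableEq κ] {q : ℕ} (hq : q ≠ 0) {b : κ → F}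
    (h : ∀ y, hv q b y = 0) : b = 0 := by
  funext l
  have := h (Pi.single l 1)
  simp only [hv] at this
  rw [Finset.sum_eq_single l] at this
  · simpa using this
  · intro i _ hil
    rw [Pi.single_eq_of_ne hil, zero_pow hq, mul_zero]
  · intro hl; exact absurd (Finset.mem_univ l) hl

/-- `(d^⊥)^⊥ = F d` for a nonsingular `d` -/
lemma perp_perp {n q : ℕ} (hF : Fintype.card F = q ^ 2) (hq : q ≠ 0) {d : Fin n → F}
    (hd : hv q d d ≠ 0) {b : Fin n → F} (h : ∀ y, hv q y d = 0 → hv q b y = 0) :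
    b = (hv q b d / hv q d d) • d := by
  have hz : b - (hv q b d / hv q d d) • d = 0 := by
    apply eq_zero_of_hv hq
    intro y
    set lam := hv q y d / hv q d d with hlam
    have hy0 : hv q (y - lam • d) d = 0 := by
      rw [hv_sub_left, hv_smul_left, hlam]; field_simp; ring
    have e1 : y = (y - lam • d) + lam • d := by abel
    have hbd : hv q (b - (hv q b d / hv q d d) • d) d = 0 := by
      rw [hv_sub_left, hv_smul_left]; field_simp; ring
    rw [e1, hv_add_right hF, hv_smul_right, hbd, mul_zero, add_zero, hv_sub_left, hv_smul_left,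
      h _ hy0, ← hv_conj hF (y - lam • d) d, hy0, zero_pow hq, mul_zero, sub_zero]
  exact sub_eq_zero.mp hz

/-- **Q2 = Step B** (`dim W = 2`), the posted shape: the block hypotheses in `hv`-form. -/
theorem slice_of_block (hF : Fintype.card F = 3 ^ 2) {M : Subgroup (GL (Idx 2 3) F)}
    (hM : KG 2 3 F ⊓ GS 2 3 3 F ≤ M) (hMG : M ≤ GS 2 3 3 F)
    (x x2 : Fin 2 → F) (hx : hv 3 x x = 0) (hx2 : hv 3 x2 x2 = 0) (h12 : hv 3 x x2 ≠ 0)
    (d : Fin 3 → F) (hd : hv 3 d d ≠ 0)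
    (u : GL (Idx 2 3) F) (hu : u ∈ M)
    (hfixW : ∀ y, hv 3 y d = 0 → mv u (pt x y) = pt x y)
    (hfix2 : mv u (pt x2 d) = pt x2 d)
    (hne : mv u (pt x d) ≠ pt x d)
    (hP : ∀ a a' y, hv 3 y d = 0 → hv 3 (mv u (pt a y)) (pt a' d) = 0)
    (hD : ∀ a a' y, hv 3 y d = 0 → hv 3 (mv u (pt a d)) (pt a' y) = 0) :
    ∃ c : GL (Fin 2) F, (∀ v w, hv 3 (mv c v) (mv c w) = hv 3 v w) ∧ (∀ v, mv c (mv c v) = -v) ∧
      (c : Matrix (Fin 2) (Fin 2) F).det = 1 ∧
      ∃ m ∈ M, ∀ a y, mv m (pt a y) = pt a y + (hv 3 y d / hv 3 d d) • pt (mv c a - a) d := by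
  have hu_iso : ∀ v w, hv 3 (mv u v) (mv u w) = hv 3 v w := mem_GUI.mp (hMG hu).1
  -- a normalised hyperbolic partner of `x`
  set η := hv 3 x x2 with hη
  set xs : Fin 2 → F := (η⁻¹) ^ 3 • x2 with hxs
  have hss : hv 3 xs xs = 0 := by
    rw [hxs, hv_smul_left, hv_smul_right, hx2, mul_zero, mul_zero]
  have h1 : hv 3 x xs = 1 := by
    rw [hxs, hv_smul_right, pow_q_pow_q' hF, ← hη]
    exact inv_mul_cancel₀ h12
  apply slice_core hF hM hMG x x2 hx hx2 h12 d hd u hu hfixW hfix2 hne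
  · -- hP'
    intro a y hy
    set w := mv u (pt a y) - pt a y with hw
    have hwx : ∀ y₁, hv 3 w (pt x y₁) = 0 := by
      intro y₁
      set lam := hv 3 y₁ d / hv 3 d d with hlam
      have hy0 : hv 3 (y₁ - lam • d) d = 0 := by
        rw [hv_sub_left, hv_smul_left, hlam]; field_simp; ring
      have e1 : pt x y₁ = pt x (y₁ - lam • d) + lam • pt x d := by
        rw [← pt_smul_right, ← pt_add_right]; congr 1; abel
      have t1 : hv 3 w (pt x (y₁ - lam • d)) = 0 := by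
        rw [hw, hv_sub_left]
        nth_rewrite 1 [← hfixW _ hy0]
        rw [hu_iso, sub_self]
      have t2 : hv 3 w (pt x d) = 0 := by
        rw [hw, hv_sub_left, hP a x y hy, hv_pt, hy, mul_zero, sub_zero]
      rw [e1, hv_add_right hF, hv_smul_right, t1, t2, mul_zero, add_zero]
    have hb2 : ctA (cj 3 x) w = 0 := by
      apply eq_zero_of_hv (q := 3) (by norm_num)
      intro y₁
      rw [← hv_pt_right', hwx]
    have hdec := Cfsg.Agent.Lib.Helper1.U23Opp.hyp_decompV hF hx hss h1 w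
    rw [hb2, pt_zero_right, add_zero] at hdec
    refine ⟨ctA (cj 3 xs) w, ?_⟩
    rw [← hdec, hw]; abel
  · -- hD'
    intro a
    set v := mv u (pt a d) with hv'
    have hdec := Cfsg.Agent.Lib.Helper1.U23Opp.hyp_decompV hF hx hss h1 v
    have hb1 : ctA (cj 3 xs) v = (hv 3 (ctA (cj 3 xs) v) d / hv 3 d d) • d := by
      apply perp_perp hF (by norm_num) hd
      intro y hy
      rw [← hv_pt_right', hv', hD a xs y hy]
    have hb2 : ctA (cj 3 x) v = (hv 3 (ctA (cj 3 x) v) d / hv 3 d d) • d := by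
      apply perp_perp hF (by norm_num) hd
      intro y hy
      rw [← hv_pt_right', hv', hD a x y hy]
    refine ⟨(hv 3 (ctA (cj 3 xs) v) d / hv 3 d d) • x + (hv 3 (ctA (cj 3 x) v) d / hv 3 d d) • xs, ?_⟩
    rw [pt_add_left, pt_smul_left, pt_smul_left, ← pt_smul_right, ← pt_smul_right, ← hb1, ← hb2]
    exact hdec

end Cfsg.Agent.Lib.Helper14.U23Q2
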