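import Mathlib
import Cfsg.Agent.Lib.Helper14.U23Q2
import Cfsg.Agent.Lib.Helper24.U23GC

/-!
S5801 conjunct (8), `q = 3` endgame, structure half of Q1b (`dim W = 2`):
`exists_x2` : a totally isotropic 3-space `R''` with `R'' ∩ x ⊗ B = x ⊗ d^⊥` contains `x₂ ⊗ d`, `x₂` isotropic, `h(x,x₂) ≠ 0`;
`conj_kA_fix` : the fixed space of `g (t_x(c) ⊗ 1) g⁻¹` is `g (x ⊗ B)`.
-/

set_option autoImplicit false
set_option linter.unusedSectionVars false
set_option linter.unusedVariables false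

namespace Cfsg.Agent.Lib.Helper14.U23Q1b
open Matrix
open Cfsg.Agent.Lib.Helper25.Tens Cfsg.Agent.Lib.Helper25.TensLeaf Cfsg.Agent.Lib.Helper20.UT
open Cfsg.Agent.Lib.Helper20.UTLeaf Cfsg.Agent.Lib.Helper11.T23U Cfsg.Agent.Lib.Helper14.U23Q2
open Cfsg.Agent.Lib.Helper5.UForm Cfsg.Agent.Lib.Helper5.HermBridge

variable {F : Type*} [Field F] [Fintype F]

lemma q_ne_zero {q : ℕ} (hF : Fintype.card F = q ^ 2) : q ≠ 0 := by
  rintro rfl
  have : 2 ≤ Fintype.card F := Fintype.one_lt_card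
  rw [hF] at this; omega

/-- **S1** -/
theorem exists_x2 {q : ℕ} (hF : Fintype.card F = q ^ 2) {x : Fin 2 → F} (hx0 : x ≠ 0)
    (hx : hv q x x = 0) {d : Fin 3 → F} (hd : hv q d d ≠ 0) (R2 : Submodule F (Idx 2 3 → F))
    (hti : ∀ u ∈ R2, ∀ v ∈ R2, hv q u v = 0) (hdim : Module.finrank F R2 = 3)
    (hK : ∀ y, pt x y ∈ R2 ↔ hv q y d = 0) :
    ∃ x2 : Fin 2 → F, hv q x2 x2 = 0 ∧ hv q x x2 ≠ 0 ∧ pt x2 d ∈ R2 := by
  have hq : q ≠ 0 := q_ne_zero hF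
  have hf2 := hv_unitary (n := 2) hF
  obtain ⟨xs, -, hss, h1⟩ := exists_partner hf2 (ND_top hf2) (Submodule.mem_top (x := x)) hx0 hx
  have h1' : hv q xs x = 1 := by rw [← hv_conj hF, h1, one_pow]
  -- some `v ∈ R2` outside the fibre
  have hex : ∃ v ∈ R2, v ∉ FibA (b := 3) x := by
    by_contra hall
    push_neg at hall
    have hle : R2 ≤ FibA (b := 3) x := hall
    have heq : R2 = FibA (b := 3) x :=
      Submodule.eq_of_le_of_finrank_eq hle (by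
        rw [hdim, Cfsg.Agent.Lib.Helper24.U23GC.finrank_FibA hx0])
    have : pt x d ∈ R2 := by rw [heq]; exact mem_FibA.mpr ⟨d, rfl⟩
    exact hd ((hK d).mp this)
  obtain ⟨v, hvR, hvF⟩ := hex
  obtain ⟨b₁, hb₁⟩ : ∃ b₁, b₁ = ctA (cj q xs) v := ⟨_, rfl⟩
  obtain ⟨b₂, hb₂⟩ : ∃ b₂, b₂ = ctA (cj q x) v := ⟨_, rfl⟩
  have hdec : v = pt x b₁ + pt xs b₂ := by
    rw [hb₁, hb₂]; exact Cfsg.Agent.Lib.Helper1.U23Opp.hyp_decompV hF hx hss h1 v
  have hb₂0 : b₂ ≠ 0 := by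
    intro h0
    apply hvF
    rw [hdec, h0, pt_zero_right, add_zero]
    exact mem_FibA.mpr ⟨b₁, rfl⟩
  have hb₂d : b₂ = (hv q b₂ d / hv q d d) • d := by
    apply perp_perp hF hq hd
    intro y hy
    have := hti v hvR (pt x y) ((hK y).mpr hy)
    rw [hv_pt_right'] at this
    rw [hb₂]; exact this
  obtain ⟨c₂, hc₂⟩ : ∃ c₂, c₂ = hv q b₂ d / hv q d d := ⟨_, rfl⟩
  obtain ⟨c₁, hc₁⟩ : ∃ c₁, c₁ = hv q b₁ d / hv q d d := ⟨_, rfl⟩
  rw [← hc₂] at hb₂d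
  have hc₂0 : c₂ ≠ 0 := by
    intro h0; apply hb₂0; rw [hb₂d, h0, zero_smul]
  have hb₁0 : hv q (b₁ - c₁ • d) d = 0 := by
    rw [hv_sub_left, hv_smul_left, hc₁]; field_simp; ring
  have hmem : pt x (b₁ - c₁ • d) ∈ R2 := (hK _).mpr hb₁0
  have e : pt (c₁ • x + c₂ • xs) d = v - pt x (b₁ - c₁ • d) := by
    rw [pt_add_left, pt_smul_left, pt_smul_left, ← pt_smul_right, ← pt_smul_right (c := c₂), ← hb₂d]
    conv_rhs => rw [hdec]
    have : pt x (b₁ - c₁ • d) = pt x b₁ - pt x (c₁ • d) := by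
      rw [sub_eq_add_neg, pt_add_right, ← neg_one_smul F (c₁ • d), pt_smul_right]; module
    rw [this]; abel
  have hmem2 : pt (c₁ • x + c₂ • xs) d ∈ R2 := by
    rw [e]; exact R2.sub_mem hvR hmem
  refine ⟨c₁ • x + c₂ • xs, ?_, ?_, hmem2⟩
  · have := hti _ hmem2 _ hmem2
    rw [hv_pt] at this
    rcases mul_eq_zero.mp this with h | h
    · exact h
    · exact absurd h hd
  · rw [hv_add_right hF, hv_smul_right, hv_smul_right, hx, h1, mul_zero, zero_add, mul_one]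
    exact pow_ne_zero q hc₂0

/-- **S2**: the fixed space of `g (t_x(c) ⊗ 1) g⁻¹` is `g (x ⊗ B)` -/
theorem conj_kA_fix {q : ℕ} (hF : Fintype.card F = q ^ 2) {x : Fin 2 → F} (hx0 : x ≠ 0)
    (hx : hv q x x = 0) {c : F} (hc0 : c ≠ 0) (g : GL (Idx 2 3) F) :
    (∀ v ∈ mvS g (FibA (b := 3) x), mv (g * kA q x c hx * g⁻¹) v = v) ∧
    (∀ v, mv (g * kA q x c hx * g⁻¹) v = v → v ∈ mvS g (FibA (b := 3) x)) := by
  have hf2 := hv_unitary (n := 2) hF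
  obtain ⟨xs, -, hss, h1⟩ := exists_partner hf2 (ND_top hf2) (Submodule.mem_top (x := x)) hx0 hx
  constructor
  · intro v hv'
    obtain ⟨w, hw, rfl⟩ := mem_mvS.mp hv'
    obtain ⟨y, rfl⟩ := mem_FibA.mp hw
    rw [mv_mul, mv_mul, mv_inv_mv, mv_kA_pt, hx, mul_zero, zero_smul, add_zero]
  · intro v hfix
    rw [mv_mul, mv_mul] at hfix
    have h2 : mv (kA q x c hx) (mv g⁻¹ v) = mv g⁻¹ v := by
      have := congrArg (mv g⁻¹) hfix
      rwa [mv_inv_mv] at this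
    rw [mv_kA] at h2
    have h3 : pt x (ctA (cj q x) (mv g⁻¹ v)) = 0 := by
      have h4 : c • pt x (ctA (cj q x) (mv g⁻¹ v)) = 0 := by
        have := h2
        rwa [add_eq_left] at this
      rcases smul_eq_zero.mp h4 with h | h
      · exact absurd h hc0
      · exact h
    have h5 : ctA (cj q x) (mv g⁻¹ v) = 0 := by
      rcases (pt_eq_zero_iff _ _).mp h3 with h | h
      · exact absurd h hx0
      · exact h
    have hdec := Cfsg.Agent.Lib.Helper1.U23Opp.hyp_decompV hF hx hss h1 (mv g⁻¹ v)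
    rw [h5, pt_zero_right, add_zero] at hdec
    refine mem_mvS.mpr ⟨mv g⁻¹ v, ?_, mv_mv_inv g v⟩
    rw [hdec]; exact mem_FibA.mpr ⟨_, rfl⟩

end Cfsg.Agent.Lib.Helper14.U23Q1b
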