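import Mathlib
import Cfsg.Agent.Lib.Helper14.U23Q1bS
import Cfsg.Agent.Lib.Helper24.U23Q2d
import Cfsg.Agent.Lib.Helper11.C4UBasic

/-!
S5801 conjunct (8), `q = 3` endgame, leaf Q1b `block_of_meet_two` (`dim W = 2`): producer of the inputs of
`Helper14.U23Q2.slice_of_block`.  kB-variant: `u = g (t_x(c) ⊗ 1) g⁻¹` commutes with `1 ⊗ t_z(t)` for every isotropic
`z ⊥ d` (the conjugate is a pointwise fixer of `g (x ⊗ B)`, i.e. `u^{±1}`, and `(1 ⊗ t_z(t))³ = 1`), hence is block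
diagonal with respect to `A ⊗ d^⊥ ⊕ A ⊗ d`.
-/

set_option autoImplicit false
set_option linter.unusedSectionVars false
set_option linter.unusedVariables false

namespace Cfsg.Agent.Lib.Helper14.U23Q1b
open Matrix
open Cfsg.Agent.Lib.Helper25.Tens Cfsg.Agent.Lib.Helper25.TensLeaf Cfsg.Agent.Lib.Helper20.UT
open Cfsg.Agent.Lib.Helper20.UTLeaf Cfsg.Agent.Lib.Helper11.T23U Cfsg.Agent.Lib.Helper14.U23Q2
open Cfsg.Agent.Lib.Helper5.UForm Cfsg.Agent.Lib.Helper5.HermBridge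

variable {F : Type*} [Field F] [Fintype F]

section frame
variable {q : ℕ} {z₁ z₂ d : Fin 3 → F}

/-- a vector orthogonal to the frame `z₁, z₂, d` is zero -/
lemma frame_span (hF : Fintype.card F = q ^ 2) (h11 : hv q z₁ z₁ = 0) (h22 : hv q z₂ z₂ = 0)
    (h12 : hv q z₁ z₂ = 1) (h1d : hv q z₁ d = 0) (h2d : hv q z₂ d = 0) (hd : hv q d d ≠ 0)
    {b : Fin 3 → F} (hb1 : hv q b z₁ = 0) (hb2 : hv q b z₂ = 0) (hbd : hv q b d = 0) : b = 0 := by
  have hq : q ≠ 0 := q_ne_zero hF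
  have h21 : hv q z₂ z₁ = 1 := by rw [← hv_conj hF, h12, one_pow]
  have hd1 : hv q d z₁ = 0 := hv_symm_zero hF h1d
  have hd2 : hv q d z₂ = 0 := hv_symm_zero hF h2d
  let Φ : (Fin 3 → F) →ₗ[F] (Fin 3 → F) :=
    { toFun := fun c => c 0 • z₁ + c 1 • z₂ + c 2 • d
      map_add' := by intro c c'; simp only [Pi.add_apply, add_smul]; abel
      map_smul' := by
        intro r c
        simp only [Pi.smul_apply, smul_eq_mul, RingHom.id_apply, smul_add, mul_smul] }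
  have hΦ : ∀ c, Φ c = c 0 • z₁ + c 1 • z₂ + c 2 • d := fun c => rfl
  have hinj : Function.Injective Φ := by
    rw [← LinearMap.ker_eq_bot, LinearMap.ker_eq_bot']
    intro c hc
    rw [hΦ] at hc
    have e0 := congrArg (fun v => hv q v z₂) hc
    have e1 := congrArg (fun v => hv q v z₁) hc
    have e2 := congrArg (fun v => hv q v d) hc
    simp only [hv_add_left, hv_smul_left, hv_zero_left, h11, h22, h12, h21, h1d, h2d, hd1, hd2,
      mul_zero, mul_one, add_zero, zero_add] at e0 e1 e2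
    have e2' : c 2 = 0 := by
      rcases mul_eq_zero.mp e2 with h | h
      · exact h
      · exact absurd h hd
    funext i; fin_cases i
    · exact e0
    · exact e1
    · exact e2'
  have hsurj : Function.Surjective Φ := LinearMap.injective_iff_surjective.mp hinj
  apply eq_zero_of_hv hq
  intro y
  obtain ⟨c, rfl⟩ := hsurj y
  rw [hΦ, hv_add_right hF, hv_add_right hF, hv_smul_right, hv_smul_right, hv_smul_right, hb1, hb2,
    hbd, mul_zero, mul_zero, mul_zero, add_zero, add_zero]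

/-- the frame decomposition of `F³` -/
lemma frame_decomp3 (hF : Fintype.card F = q ^ 2) (h11 : hv q z₁ z₁ = 0) (h22 : hv q z₂ z₂ = 0)
    (h12 : hv q z₁ z₂ = 1) (h1d : hv q z₁ d = 0) (h2d : hv q z₂ d = 0) (hd : hv q d d ≠ 0)
    (y : Fin 3 → F) :
    y = hv q y z₂ • z₁ + hv q y z₁ • z₂ + (hv q y d / hv q d d) • d := by
  have h21 : hv q z₂ z₁ = 1 := by rw [← hv_conj hF, h12, one_pow]
  have hd1 : hv q d z₁ = 0 := hv_symm_zero hF h1d
  have hd2 : hv q d z₂ = 0 := hv_symm_zero hF h2d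
  have := frame_span hF h11 h22 h12 h1d h2d hd
    (b := y - (hv q y z₂ • z₁ + hv q y z₁ • z₂ + (hv q y d / hv q d d) • d))
    (by simp only [hv_sub_left, hv_add_left, hv_smul_left, h11, h21, hd1]; ring)
    (by simp only [hv_sub_left, hv_add_left, hv_smul_left, h22, h12, hd2]; ring)
    (by simp only [hv_sub_left, hv_add_left, hv_smul_left, h1d, h2d]; field_simp; ring)
  exact sub_eq_zero.mp this

end frame

/-- (C1) `1 ⊗ t_z(t)` maps `R''` into itself when `x ⊗ z ∈ R''` -/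
lemma kB_maps {q : ℕ} {x : Fin 2 → F} (hx0 : x ≠ 0) (hx : hv q x x = 0)
    (R2 : Submodule F (Idx 2 3 → F)) (hti : ∀ u ∈ R2, ∀ v ∈ R2, hv q u v = 0)
    {z : Fin 3 → F} (hz : hv q z z = 0) (hxz : pt x z ∈ R2) (t : F) :
    ∀ v ∈ R2, mv (kB q z t hz : GL (Idx 2 3) F) v ∈ R2 := by
  intro v hv'
  rw [mv_kB]
  have h0 : hv q (ct (cj q z) v) x = 0 := by
    rw [← hv_pt_right]; exact hti v hv' _ hxz
  obtain ⟨l, hl⟩ := perp_iso_two hx0 hx h0
  rw [hl, pt_smul_left]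
  exact R2.add_mem hv' (R2.smul_mem _ (R2.smul_mem _ hxz))

/-- (C2) `u = g (t_x(c) ⊗ 1) g⁻¹` commutes with `1 ⊗ t_z(t)` -/
lemma comm_kB (hF : Fintype.card F = 3 ^ 2) {M : Subgroup (GL (Idx 2 3) F)}
    (hle : KG 2 3 F ⊓ GS 2 3 3 F ≤ M) (hleG : M ≤ GS 2 3 3 F) {x : Fin 2 → F} (hx0 : x ≠ 0)
    (hx : hv 3 x x = 0)
    (hfp : ∀ m ∈ M, (∀ y : Fin 3 → F, mv m (pt x y) = pt x y) → ∃ c : F, c ^ 3 = -c ∧ m = kA 3 x c hx)
    {g : GL (Idx 2 3) F} (hg : g ∈ M) {c : F} (hc0 : c ≠ 0) (hc : c ^ 3 = -c)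
    {z : Fin 3 → F} (hz : hv 3 z z = 0) (hxz : pt x z ∈ mvS g (FibA (b := 3) x)) {t : F}
    (ht : t ^ 3 = -t) :
    (kB 3 z t hz : GL (Idx 2 3) F) * (g * kA 3 x c hx * g⁻¹) = (g * kA 3 x c hx * g⁻¹) * kB 3 z t hz := by
  have h3 : (3 : F) = 0 := three_eq_zero hF
  have : CharP F 3 := (CharP.charP_iff_prime_eq_zero (by norm_num : Nat.Prime 3)).mpr (by exact_mod_cast h3)
  have hgU : g ∈ GUI 2 3 3 F := (hleG hg).1
  set R2 := mvS g (FibA (b := 3) x) with hR2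
  have hti := Cfsg.Agent.Lib.Helper24.U23GC.isotropic_mvS hx hgU
  set h : GL (Idx 2 3) F := kB 3 z t hz with hh
  set kk : GL (Idx 2 3) F := kA 3 x c hx with hkk
  have hhM : h ∈ M := hle ⟨kB_mem_KG 3 z t hz, kB_mem_GS hF z ht hz⟩
  have hkM : kk ∈ M := hle ⟨kA_mem_KG 3 x c hx, kA_mem_GS hF x hc hx⟩
  set u := g * kk * g⁻¹ with hu
  have huM : u ∈ M := M.mul_mem (M.mul_mem hg hkM) (M.inv_mem hg)
  -- `u ≠ 1`
  have hu1 : u ≠ 1 := by
    intro h1
    have : kk = 1 := by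
      have := congrArg (fun w => g⁻¹ * w * g) h1
      simpa [hu, mul_assoc] using this
    obtain ⟨xs, -, hss, h1x⟩ := exists_partner (hv_unitary (n := 2) hF) (ND_top (hv_unitary (n := 2) hF))
      (Submodule.mem_top (x := x)) hx0 hx
    have e := congrArg (fun w => mv w (pt xs (Pi.single 0 1 : Fin 3 → F))) this
    simp only [mv_one] at e
    rw [hkk, mv_kA_pt] at e
    have h1x' : hv 3 xs x = 1 := by rw [← hv_conj hF, h1x, one_pow]
    rw [h1x', mul_one, pt_add_left, pt_smul_left] at e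
    have e' : c • pt x (Pi.single 0 1 : Fin 3 → F) = 0 := by
      have := e; rwa [add_eq_left] at this
    rcases smul_eq_zero.mp e' with h | h
    · exact hc0 h
    · rcases (pt_eq_zero_iff _ _).mp h with h | h
      · exact hx0 h
      · have := congrFun h 0
        simp at this
  -- the conjugate `k = g⁻¹ h g` stabilises the fibre
  set k := g⁻¹ * h * g with hk
  have hkM' : k ∈ M := M.mul_mem (M.mul_mem (M.inv_mem hg) hhM) hg
  have hkS : k ∈ StabA (b := 3) x := by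
    apply Cfsg.Agent.Lib.Helper11.C4U.mem_StabA_of_maps
    intro y
    have h1 : mv g (pt x y) ∈ R2 := mem_mvS.mpr ⟨pt x y, mem_FibA.mpr ⟨y, rfl⟩, rfl⟩
    have h2 := kB_maps hx0 hx R2 hti hz hxz t _ h1
    obtain ⟨w, hw, hw'⟩ := mem_mvS.mp h2
    rw [hk, mv_mul, mv_mul, ← hw', mv_inv_mv]
    exact hw
  -- `m = k kA k⁻¹` fixes the fibre pointwise
  set m := k * kk * k⁻¹ with hm
  have hmM : m ∈ M := M.mul_mem (M.mul_mem hkM' hkM) (M.inv_mem hkM')
  have hmfix : ∀ y : Fin 3 → F, mv m (pt x y) = pt x y := by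
    intro y
    have hkinv : k⁻¹ ∈ StabA (b := 3) x := (StabA (b := 3) x).inv_mem hkS
    have h1 : mv k⁻¹ (pt x y) ∈ FibA (b := 3) x :=
      (mem_StabA.mp hkinv _).mp (mem_FibA.mpr ⟨y, rfl⟩)
    obtain ⟨y', hy'⟩ := mem_FibA.mp h1
    rw [hm, mv_mul, mv_mul, hy', hkk, mv_kA_pt, hx, mul_zero, zero_smul, add_zero, ← hy', mv_mv_inv]
  obtain ⟨c', hc', hmc⟩ := hfp m hmM hmfix
  have hconj : h * u * h⁻¹ = g * m * g⁻¹ := by
    rw [hu, hm, hk]; group
  -- `c' ∈ {0, c, -c}`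
  have hr : c' * (c' - c) * (c' + c) = 0 := by
    have hc2 : c ^ 2 = -1 := skew_sq hc0 hc
    have : c' * (c' - c) * (c' + c) = c' ^ 3 - c' * c ^ 2 := by ring
    rw [this, hc', hc2]; ring
  have hu3 : u ^ 3 = 1 := by
    rw [hu, conj_pow, hkk, kA_pow_char 3, mul_one, mul_inv_cancel]
  have hh3 : h ^ 3 = 1 := by rw [hh, kB_pow_char 3]
  rcases mul_eq_zero.mp hr with hr' | hr'
  · rcases mul_eq_zero.mp hr' with h0 | h0
    · -- `c' = 0`
      exfalso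
      rw [hmc, h0, Cfsg.Agent.Lib.Helper11.C4U.kA_zero hx, mul_one, mul_inv_cancel] at hconj
      apply hu1
      have := congrArg (fun w => h⁻¹ * w * h) hconj
      simpa [mul_assoc] using this
    · -- `c' = c`
      have hcc : c' = c := sub_eq_zero.mp h0
      rw [hmc, hcc, ← hkk, ← hu] at hconj
      have := congrArg (fun w => w * h) hconj
      simpa [mul_assoc] using this
  · -- `c' = -c`
    exfalso
    have hcc : c' = -c := eq_neg_of_add_eq_zero_left hr'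
    have e : h * u * h⁻¹ = u⁻¹ := by
      rw [hconj, hmc, hcc, ← Cfsg.Agent.Lib.Helper11.C4U.kA_inv hx c, ← hkk, hu]; group
    have e2 : h * u⁻¹ * h⁻¹ = u := by
      rw [show h * u⁻¹ * h⁻¹ = (h * u * h⁻¹)⁻¹ by group, e, inv_inv]
    have e3 : h ^ 3 * u * (h ^ 3)⁻¹ = u⁻¹ := by
      have : h ^ 3 * u * (h ^ 3)⁻¹ = h * (h * (h * u * h⁻¹) * h⁻¹) * h⁻¹ := by
        rw [pow_succ, pow_two]; simp only [_root_.mul_inv_rev, mul_assoc]
      rw [this, e, e2, e]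
    rw [hh3, one_mul, inv_one, mul_one] at e3
    apply hu1
    have h2 : u * u = 1 := by
      nth_rewrite 1 [e3]; exact inv_mul_cancel u
    have : u ^ 3 = u := by rw [pow_succ, pow_two, h2, one_mul]
    rw [← this, hu3]

/-- a vector fixed by `1 ⊗ t_z(t)` has zero `z`-contraction -/
lemma ct_zero_of_fix {q : ℕ} {z : Fin 3 → F} (hz : hv q z z = 0) (hz0 : z ≠ 0) {t : F} (ht0 : t ≠ 0)
    {w : Idx 2 3 → F} (h : mv (kB q z t hz : GL (Idx 2 3) F) w = w) : ct (cj q z) w = 0 := by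
  rw [mv_kB, add_eq_left] at h
  rcases smul_eq_zero.mp h with h' | h'
  · exact absurd h' ht0
  · rcases (pt_eq_zero_iff _ _).mp h' with h'' | h''
    · exact h''
    · exact absurd h'' hz0

/-- an element commuting with `1 ⊗ t_{z'}(t)` maps `A ⊗ z'` into itself -/
lemma maps_slice {q : ℕ} {z z' : Fin 3 → F} (hz' : hv q z' z' = 0) (hzz' : hv q z z' = 1) {t : F}
    (ht0 : t ≠ 0) {u : GL (Idx 2 3) F}
    (hcomm : (kB q z' t hz' : GL (Idx 2 3) F) * u = u * kB q z' t hz') (a : Fin 2 → F) :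
    mv u (pt a z') = pt (ct (cj q z') (mv u (pt a z))) z' := by
  have e1 : mv (kB q z' t hz' : GL (Idx 2 3) F) (pt a z) = pt a z + t • pt a z' := by
    rw [mv_kB_pt, hzz', mul_one, pt_add_right, pt_smul_right]
  have e2 : mv u (mv (kB q z' t hz' : GL (Idx 2 3) F) (pt a z)) =
      mv (kB q z' t hz' : GL (Idx 2 3) F) (mv u (pt a z)) := by
    rw [← mv_mul, ← mv_mul, hcomm]
  rw [e1, mv_add, mv_smul, mv_kB] at e2
  have e3 : t • mv u (pt a z') = t • pt (ct (cj q z') (mv u (pt a z))) z' := add_left_cancel e2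
  have := congrArg (fun w => t⁻¹ • w) e3
  simpa [smul_smul, inv_mul_cancel₀ ht0] using this

/-- **Q1b**: the producer of the inputs of `Helper14.U23Q2.slice_of_block` (`dim W = 2`). -/
theorem block_of_meet_two {M : Subgroup (GL (Idx 2 3) F)} (hF : Fintype.card F = 3 ^ 2)
    (hle : KG 2 3 F ⊓ GS 2 3 3 F ≤ M) (hleG : M ≤ GS 2 3 3 F) {x : Fin 2 → F} (hx0 : x ≠ 0)
    (hx : hv 3 x x = 0)
    (hL1 : ∀ m ∈ M, m ∈ StabA (b := 3) x → m ∈ KG 2 3 F)
    (hfp : ∀ m ∈ M, (∀ y : Fin 3 → F, mv m (pt x y) = pt x y) → ∃ c : F, c ^ 3 = -c ∧ m = kA 3 x c hx)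
    {g : GL (Idx 2 3) F} (hg : g ∈ M) {d : Fin 3 → F} (hd : hv 3 d d ≠ 0)
    (hK : ∀ y, pt x y ∈ mvS g (FibA (b := 3) x) ↔ hv 3 y d = 0) :
    ∃ x2 : Fin 2 → F, hv 3 x2 x2 = 0 ∧ hv 3 x x2 ≠ 0 ∧ ∃ u ∈ M,
      (∀ y, hv 3 y d = 0 → mv u (pt x y) = pt x y) ∧ mv u (pt x2 d) = pt x2 d ∧
      mv u (pt x d) ≠ pt x d ∧
      (∀ a a' y, hv 3 y d = 0 → hv 3 (mv u (pt a y)) (pt a' d) = 0) ∧
      (∀ a a' y, hv 3 y d = 0 → hv 3 (mv u (pt a d)) (pt a' y) = 0) := by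
  have hgU : g ∈ GUI 2 3 3 F := (hleG hg).1
  have hti := Cfsg.Agent.Lib.Helper24.U23GC.isotropic_mvS hx hgU
  have hdim : Module.finrank F (mvS g (FibA (b := 3) x)) = 3 := by
    rw [Cfsg.Agent.Lib.Helper24.U23GC.finrank_mvS, Cfsg.Agent.Lib.Helper24.U23GC.finrank_FibA hx0]
  obtain ⟨x2, hx2, h12, hx2d⟩ := exists_x2 hF hx0 hx hd _ hti hdim hK
  have hf2 := hv_unitary (n := 2) hF
  obtain ⟨c, hc0, hcσ⟩ := exists_skew hf2.involutive hf2.ne_refl
  have hc : c ^ 3 = -c := by rw [← frobQ_apply hF]; exact hcσ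
  have hkM : (kA 3 x c hx : GL (Idx 2 3) F) ∈ M :=
    hle ⟨kA_mem_KG 3 x c hx, kA_mem_GS hF x hc hx⟩
  obtain ⟨hfixR, hfixO⟩ := conj_kA_fix hF hx0 hx hc0 g
  obtain ⟨z₁, z₂, h11, h22, h1d, h2d, h12z⟩ :=
    Cfsg.Agent.Lib.Helper24.U23Q2d.exists_hyp_pair_perp hF d hd
  have h21z : hv 3 z₂ z₁ = 1 := by rw [← hv_conj hF, h12z, one_pow]
  have hd1 : hv 3 d z₁ = 0 := hv_symm_zero hF h1d
  have hd2 : hv 3 d z₂ = 0 := hv_symm_zero hF h2d
  have hz₁0 : z₁ ≠ 0 := by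
    rintro rfl; rw [hv_zero_left] at h12z; exact zero_ne_one h12z
  have hz₂0 : z₂ ≠ 0 := by
    rintro rfl; rw [hv_zero_left] at h21z; exact zero_ne_one h21z
  have hcomm₁ := comm_kB hF hle hleG hx0 hx hfp hg hc0 hc h11 ((hK z₁).mpr h1d) hc
  have hcomm₂ := comm_kB hF hle hleG hx0 hx hfp hg hc0 hc h22 ((hK z₂).mpr h2d) hc
  have hdecomp : ∀ y, hv 3 y d = 0 → y = hv 3 y z₂ • z₁ + hv 3 y z₁ • z₂ := by
    intro y hy
    have := frame_decomp3 hF h11 h22 h12z h1d h2d hd y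
    rwa [hy, zero_div, zero_smul, add_zero] at this
  refine ⟨x2, hx2, h12, g * kA 3 x c hx * g⁻¹,
    M.mul_mem (M.mul_mem hg hkM) (M.inv_mem hg), ?_, ?_, ?_, ?_, ?_⟩
  · intro y hy; exact hfixR _ ((hK y).mpr hy)
  · exact hfixR _ hx2d
  · intro h; exact hd ((hK d).mp (hfixO _ h))
  · -- hP
    intro a a' y hy
    have e1 := maps_slice h11 h21z hc0 hcomm₁ a
    have e2 := maps_slice h22 h12z hc0 hcomm₂ a
    rw [hdecomp y hy, pt_add_right, pt_smul_right, pt_smul_right, mv_add, mv_smul, mv_smul,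
      hv_add_left, hv_smul_left, hv_smul_left, e1, e2, hv_pt, hv_pt, h1d, h2d]
    ring
  · -- hD
    intro a a' y hy
    set w := mv (g * kA 3 x c hx * g⁻¹) (pt a d) with hw
    have f1 : mv (kB 3 z₁ c h11 : GL (Idx 2 3) F) w = w := by
      rw [hw, ← mv_mul, hcomm₁, mv_mul, mv_kB_pt, hd1, mul_zero, zero_smul, add_zero]
    have f2 : mv (kB 3 z₂ c h22 : GL (Idx 2 3) F) w = w := by
      rw [hw, ← mv_mul, hcomm₂, mv_mul, mv_kB_pt, hd2, mul_zero, zero_smul, add_zero]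
    have g1 := ct_zero_of_fix h11 hz₁0 hc0 f1
    have g2 := ct_zero_of_fix h22 hz₂0 hc0 f2
    rw [hdecomp y hy, pt_add_right, pt_smul_right, pt_smul_right, hv_add_right hF, hv_smul_right,
      hv_smul_right, hv_pt_right, hv_pt_right, g1, g2, hv_zero_left]
    ring

end Cfsg.Agent.Lib.Helper14.U23Q1b
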