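import Mathlib

set_option autoImplicit false
set_option linter.style.haveILetI false
set_option linter.unusedSectionVars false

/-!
An abstract version of the Sylow-`5`/Sylow-`7` counting argument showing that `SU₃(5)` has no subgroup
containing its centre of index between 15 and 49.  The hypotheses are phrased in terms of a family of
"Borel" subgroups `B x` of order dividing `3000` (the stabilisers of the isotropic points).
-/

namespace Cfsg.Agent.Lib.Helper14.U35

open Subgroup MulAction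

variable {S : Type*} [Group S]

/-- `g` is a `5`-element -/
def IsFive (g : S) : Prop := ∃ k : ℕ, g ^ 5 ^ k = 1

/-- the properties of the point stabilisers used in the counting argument -/
structure Borel5 {X : Type*} (B : X → Subgroup S) : Prop where
  card_dvd : ∀ x, Nat.card (B x) ∣ 3000
  fix : ∀ P : Subgroup S, IsPGroup 5 P → ∃ x, P ≤ B x
  uniq : ∀ g : S, g ≠ 1 → IsFive g → ∀ x y, g ∈ B x → g ∈ B y → B x = B y
  norm : ∀ g : S, g ≠ 1 → IsFive g → ∀ x (n : S), g ∈ B x → n⁻¹ * g * n ∈ B x → n ∈ B x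
  closed : ∀ x, ∀ a ∈ B x, ∀ b ∈ B x, IsFive a → IsFive b → IsFive (a * b)

instance fact5 : Fact (Nat.Prime 5) := ⟨by norm_num⟩
instance fact7 : Fact (Nat.Prime 7) := ⟨by norm_num⟩

variable {X : Type*} {B : X → Subgroup S}

/-- the `5`-elements of `H` inside `B x` form a subgroup -/
def fiveSub (hB : Borel5 B) (H : Subgroup S) (x : X) : Subgroup H where
  carrier := {h | (h : S) ∈ B x ∧ IsFive (h : S)}
  one_mem' := ⟨one_mem _, 0, by simp⟩
  mul_mem' := fun {a b} ha hb => ⟨mul_mem ha.1 hb.1, hB.closed x _ ha.1 _ hb.1 ha.2 hb.2⟩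
  inv_mem' := fun {a} ha => ⟨inv_mem ha.1, by
    obtain ⟨k, hk⟩ := ha.2
    exact ⟨k, by rw [Subgroup.coe_inv, inv_pow, hk, inv_one]⟩⟩

theorem mem_fiveSub (hB : Borel5 B) (H : Subgroup S) (x : X) (h : H) :
    h ∈ fiveSub hB H x ↔ (h : S) ∈ B x ∧ IsFive (h : S) := Iff.rfl

theorem isPGroup_fiveSub (hB : Borel5 B) (H : Subgroup S) (x : X) :
    IsPGroup 5 (fiveSub hB H x) := by
  intro g
  obtain ⟨k, hk⟩ := g.2.2
  refine ⟨k, ?_⟩
  apply Subtype.ext
  apply Subtype.ext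
  rw [Subgroup.coe_pow, Subgroup.coe_pow, hk]
  rfl

theorem isFive_of_mem_sylow {H : Subgroup S} (Q : Sylow 5 H) {g : H} (hg : g ∈ Q.1) :
    IsFive (g : S) := by
  obtain ⟨k, hk⟩ := Q.2 ⟨g, hg⟩
  refine ⟨k, ?_⟩
  have h1 := congrArg (fun e : ↥Q.1 => ((e : H) : S)) hk
  simpa only [Subgroup.coe_pow, Subgroup.coe_one] using h1

theorem sylow_le_borel (hB : Borel5 B) {H : Subgroup S} (Q : Sylow 5 H) :
    ∃ x, ∀ g : H, g ∈ Q.1 → (g : S) ∈ B x := by
  obtain ⟨x, hx⟩ := hB.fix (Q.1.map H.subtype) (Q.2.map H.subtype)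
  exact ⟨x, fun g hg => hx (Subgroup.mem_map_of_mem H.subtype hg)⟩

theorem sylow_eq_fiveSub (hB : Borel5 B) {H : Subgroup S} (Q : Sylow 5 H) (x : X)
    (hx : ∀ g : H, g ∈ Q.1 → (g : S) ∈ B x) : Q.1 = fiveSub hB H x := by
  have hle : Q.1 ≤ fiveSub hB H x := fun g hg => ⟨hx g hg, isFive_of_mem_sylow Q hg⟩
  exact (Q.3 (isPGroup_fiveSub hB H x) hle).symm

theorem sylow_inter (hB : Borel5 B) {H : Subgroup S} (Q P : Sylow 5 H) (hPQ : P ≠ Q) (g : H)
    (hgQ : g ∈ Q.1) (hgP : g ∈ P.1) : g = 1 := by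
  by_contra hg1
  obtain ⟨x, hx⟩ := sylow_le_borel hB Q
  obtain ⟨y, hy⟩ := sylow_le_borel hB P
  have hgS : (g : S) ≠ 1 := fun h => hg1 (Subtype.ext h)
  have hxy := hB.uniq (g : S) hgS (isFive_of_mem_sylow Q hgQ) x y (hx g hgQ) (hy g hgP)
  have hy' : ∀ g : H, g ∈ P.1 → (g : S) ∈ B x := fun g hg => by rw [hxy]; exact hy g hg
  apply hPQ
  apply Sylow.ext
  rw [sylow_eq_fiveSub hB Q x hx, sylow_eq_fiveSub hB P x hy']

theorem normalizer_le_borel (hB : Borel5 B) {H : Subgroup S} (Q : Sylow 5 H) (hQ : Q.1 ≠ ⊥) (x : X)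
    (hx : ∀ g : H, g ∈ Q.1 → (g : S) ∈ B x) (n : H) (hn : n ∈ normalizer (Q.1 : Set H)) :
    (n : S) ∈ B x := by
  obtain ⟨g, hg1⟩ := (Subgroup.ne_bot_iff_exists_ne_one).mp hQ
  have hgS : ((g : H) : S) ≠ 1 := fun h => hg1 (Subtype.ext (Subtype.ext h))
  have h1 : n⁻¹ * (g : H) * n ∈ Q.1 := by
    have := (Subgroup.mem_normalizer_iff.mp (inv_mem hn) (g : H)).mp g.2
    simpa using this
  have h2 := hx _ h1
  exact hB.norm _ hgS (isFive_of_mem_sylow Q g.2) x (n : S) (hx _ g.2) (by simpa using h2)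

section finite

variable [Finite S]

theorem card_normalizer_dvd (hB : Borel5 B) {H : Subgroup S} (Q : Sylow 5 H) (hQ : Q.1 ≠ ⊥) :
    Nat.card (normalizer (Q.1 : Set H)) ∣ 3000 := by
  obtain ⟨x, hx⟩ := sylow_le_borel hB Q
  let f : ↥(normalizer (Q.1 : Set H)) →* ↥(B x) :=
    (H.subtype.comp (normalizer (Q.1 : Set H)).subtype).codRestrict (B x)
      (fun n => normalizer_le_borel hB Q hQ x hx n.1 n.2)
  have hf : Function.Injective f := by
    intro a b hab
    have h1 : ((a : H) : S) = ((b : H) : S) := congrArg (fun z : ↥(B x) => (z : S)) hab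
    exact Subtype.ext (Subtype.ext h1)
  exact (Subgroup.card_dvd_of_injective f hf).trans (hB.card_dvd x)

/-- the Sylow `5`-subgroups of `H` other than `Q`, with the conjugation action of `Q` -/
def otherSylow {H : Subgroup S} (Q : Sylow 5 H) : SubMulAction ↥Q.1 (Sylow 5 H) where
  carrier := {P | P ≠ Q}
  smul_mem' := by
    intro g P hP hgP
    apply hP
    have h1 : (g : H) • P = Q := hgP
    have h2 : (g : H) • Q = Q := Sylow.smul_eq_iff_mem_normalizer.mpr (le_normalizer g.2)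
    have h3 : (g : H) • P = (g : H) • Q := h1.trans h2.symm
    exact smul_left_cancel _ h3

theorem card_sylow_modEq (hB : Borel5 B) {H : Subgroup S} (Q : Sylow 5 H) :
    Nat.card (Sylow 5 H) ≡ 1 [MOD Nat.card Q.1] := by
  classical
  have hfree : ∀ y : ↥(otherSylow Q), MulAction.stabilizer ↥Q.1 y = ⊥ := by
    intro y
    rw [Subgroup.eq_bot_iff_forall]
    intro g hg
    have h1 : g • y = y := hg
    have h2 : (g : H) • (y : Sylow 5 H) = (y : Sylow 5 H) := congrArg Subtype.val h1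
    have h3 : (g : H) ∈ normalizer ((y : Sylow 5 H).1 : Set H) :=
      Sylow.smul_eq_iff_mem_normalizer.mp h2
    have h4 : (g : H) ∈ Q.1 ⊓ (y : Sylow 5 H).1 :=
      (Q.2.inf_normalizer_sylow (y : Sylow 5 H)).le ⟨g.2, h3⟩
    have h5 := sylow_inter hB Q (y : Sylow 5 H) y.2 (g : H) g.2 h4.2
    exact Subtype.ext h5
  have e := MulAction.selfEquivOrbitsQuotientProd hfree
  have h1 : Nat.card ↥(otherSylow Q) =
      Nat.card (Quotient (MulAction.orbitRel ↥Q.1 ↥(otherSylow Q))) * Nat.card ↥Q.1 := by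
    rw [Nat.card_congr e, Nat.card_prod]
  have h2 : Nat.card ↥(otherSylow Q) + 1 = Nat.card (Sylow 5 H) := by
    have h3 : ((otherSylow Q : Set (Sylow 5 H))) = Set.univ \ {Q} := by
      ext P
      exact ⟨fun h => ⟨Set.mem_univ _, h⟩, fun h => h.2⟩
    have h4 : Nat.card ↥(otherSylow Q) = (Set.univ \ {Q} : Set (Sylow 5 H)).ncard := by
      rw [← h3]
      exact (Nat.card_coe_set_eq _)
    rw [h4, Set.ncard_diff_singleton_add_one (Set.mem_univ Q) (Set.toFinite _), Set.ncard_univ]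
  rw [← h2, h1]
  exact (Nat.modEq_iff_dvd' (by omega)).mpr (by
    rw [Nat.add_sub_cancel]
    exact Dvd.intro_left _ rfl) |>.symm

end finite

end Cfsg.Agent.Lib.Helper14.U35
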