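import Mathlib
import Cfsg.Agent.Lib.Helper14.U35A

set_option autoImplicit false
set_option linter.style.haveILetI false
set_option linter.unusedSectionVars false

/-!
The arithmetic part of the counting argument for `SU₃(5)`.
-/

namespace Cfsg.Agent.Lib.Helper14.U35

/-- the divisors of `3000` -/
def divs3000 : List ℕ := [1, 2, 3, 4, 5, 6, 8, 10, 12, 15, 20, 24, 25, 30, 40, 50, 60, 75, 100, 120,
  125, 150, 200, 250, 300, 375, 500, 600, 750, 1000, 1500, 3000]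

set_option maxRecDepth 100000 in
theorem mem_divs3000 (n : ℕ) (hn : n ∣ 3000) : n ∈ divs3000 := by
  have h1 : n ≤ 3000 := Nat.le_of_dvd (by norm_num) hn
  have key : ∀ n ∈ List.range 3001, 3000 % n = 0 → n ∈ divs3000 := by decide +kernel
  exact key n (List.mem_range.mpr (by omega)) (Nat.mod_eq_zero_of_dvd hn)

/-- the arithmetic check for a subgroup of order `h` -/
def Chk (h : ℕ) : Prop :=
  ∀ s ∈ [1, 5, 25, 125], ∀ nN ∈ divs3000,
    (h % s = 0 ∧ (h / s) % 5 ≠ 0 ∧ nN % s = 0 ∧ h % nN = 0 ∧ nN % 3 = 0 ∧ (h / nN) % s = 1 % s) →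
      (h % 7 = 0 ∧ ∀ m ∈ [21, 63], ¬ (h % m = 0 ∧ (h / m) % 7 = 1))

instance (h : ℕ) : Decidable (Chk h) := by unfold Chk; infer_instance

set_option maxRecDepth 100000 in
theorem chk_all : ∀ k ∈ List.range 50, 15 ≤ k → 378000 % k = 0 → Chk (378000 / k) := by
  decide +kernel

theorem arith_final (k h s nN : ℕ) (hkh : k * h = 378000) (h15 : 15 ≤ k) (h50 : k < 50)
    (hs : ∃ a, s = 5 ^ a) (hsh : s ∣ h) (hcop : ¬ 5 ∣ h / s) (hsN : s ∣ nN) (hNh : nN ∣ h)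
    (hN3000 : nN ∣ 3000) (h3 : 3 ∣ nN) (hmod : (h / nN) % s = 1 % s)
    (h7 : 7 ∣ h → ∃ m, m ∣ 63 ∧ 21 ∣ m ∧ m ∣ h ∧ (h / m) % 7 = 1) : False := by
  have hk0 : 0 < k := by omega
  have hh : h = 378000 / k := by
    rw [← hkh, Nat.mul_div_cancel_left _ hk0]
  have hkd : 378000 % k = 0 := Nat.mod_eq_zero_of_dvd ⟨h, hkh.symm⟩
  have hchk := chk_all k (List.mem_range.mpr h50) h15 hkd
  rw [← hh] at hchk
  have hh0 : 0 < h := by
    rcases Nat.eq_zero_or_pos h with h0 | h0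
    · rw [h0] at hkh; omega
    · exact h0
  obtain ⟨a, rfl⟩ := hs
  have ha : a ≤ 3 := by
    by_contra hcon
    have h4 : 4 ≤ a := by omega
    have h5 : 5 ^ 4 ∣ 378000 := by
      calc 5 ^ 4 ∣ 5 ^ a := pow_dvd_pow 5 h4
        _ ∣ h := hsh
        _ ∣ 378000 := ⟨k, by rw [← hkh, mul_comm]⟩
    norm_num at h5
  have hsmem : 5 ^ a ∈ [1, 5, 25, 125] := by
    interval_cases a <;> simp
  have hNmem := mem_divs3000 nN hN3000
  have h2 := hchk (5 ^ a) hsmem nN hNmem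
    ⟨Nat.mod_eq_zero_of_dvd hsh, fun h0 => hcop (Nat.dvd_of_mod_eq_zero h0),
      Nat.mod_eq_zero_of_dvd hsN, Nat.mod_eq_zero_of_dvd hNh, Nat.mod_eq_zero_of_dvd h3, hmod⟩
  obtain ⟨m, hm63, hm21, hmh, hmm⟩ := h7 (Nat.dvd_of_mod_eq_zero h2.1)
  have hmmem : m ∈ [21, 63] := by
    obtain ⟨j, rfl⟩ := hm21
    have hj : j ∣ 3 := by
      have : 21 * j ∣ 21 * 3 := hm63
      exact Nat.dvd_of_mul_dvd_mul_left (by norm_num) this
    have hj3 : j ≤ 3 := Nat.le_of_dvd (by norm_num) hj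
    interval_cases j
    · simp at hj
    · simp
    · norm_num at hj
    · simp
  exact h2.2 m hmmem ⟨Nat.mod_eq_zero_of_dvd hmh, hmm⟩

set_option maxRecDepth 100000 in
/-- the order of the normaliser of a Sylow `7`-subgroup of `SU₃(5)` -/
theorem arith_sylow7 (M n : ℕ) (hM : M * n = 378000) (h21 : 21 ∣ M) (h5 : ¬ 5 ∣ M) (h4 : ¬ 4 ∣ M)
    (hn : n % 7 = 1) : M = 63 := by
  have hM0 : 0 < M := by
    rcases Nat.eq_zero_or_pos M with h0 | h0
    · rw [h0] at hM; omega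
    · exact h0
  have hcop : Nat.Coprime M 125 := by
    have : Nat.Coprime M 5 := (Nat.Prime.coprime_iff_not_dvd (by norm_num)).mpr h5 |>.symm
    have h125 : (125 : ℕ) = 5 ^ 3 := by norm_num
    rw [h125]
    exact Nat.Coprime.pow_right 3 this
  have hd : M ∣ 125 * 3024 := ⟨n, by rw [hM]⟩
  have hd2 : M ∣ 3024 := hcop.dvd_of_dvd_mul_left hd
  have hle : M ≤ 3024 := Nat.le_of_dvd (by norm_num) hd2
  have hn' : n = 378000 / M := by rw [← hM, Nat.mul_div_cancel_left _ hM0]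
  have key : ∀ M ∈ List.range 3025, 3024 % M = 0 → M % 21 = 0 → M % 4 ≠ 0 →
      (378000 / M) % 7 = 1 → M = 63 := by decide +kernel
  exact key M (List.mem_range.mpr (by omega)) (Nat.mod_eq_zero_of_dvd hd2)
    (Nat.mod_eq_zero_of_dvd h21) (fun h0 => h4 (Nat.dvd_of_mod_eq_zero h0)) (by rw [← hn']; exact hn)

end Cfsg.Agent.Lib.Helper14.U35
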