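import Mathlib
import Cfsg.Agent.Lib.Helper19.SchurAltCover3
import Cfsg.Agent.Lib.Helper19.SUCongr
import Cfsg.Agent.Lib.Helper14.Unitary3
import Cfsg.Agent.Lib.Helper18.SU3Sylow
import Cfsg.Agent.Lib.Helper9.SU3Local

set_option autoImplicit false
set_option linter.style.haveILetI false
set_option linter.unusedSectionVars false

/-!
`PSU₃(5)` has a subgroup of index 50: explicit unitary generators of `3.A₇ ≤ SU₃(5)` (helper19's
generators of `3.A₇ ≤ SL₃(25)`, conjugated into the standard Hermitian form) satisfy Moore's relations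
modulo scalars, so their images in `PSU₃(5)` generate a copy of `A₇`.
-/

namespace Cfsg.Agent.Lib.Helper14.U35

open Cfsg.Agent.Lib.Helper14 Cfsg.Agent.Lib.Helper25.Moore Cfsg.Agent.Lib.Helper19.SchurAltCover

/-- the field with 25 elements, `𝔽₅[√2]` -/
abbrev K25 : Type := QuadraticAlgebra (ZMod 5) 2 0

instance fact5p : Fact (Nat.Prime 5) := ⟨by norm_num⟩

instance factK25 : Fact (∀ r : ZMod 5, r ^ 2 ≠ (2 : ZMod 5) + 0 * r) := ⟨by decide⟩

noncomputable instance fintypeK25 : Fintype K25 :=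
  Fintype.ofEquiv _ (QuadraticAlgebra.equivProd (2 : ZMod 5) 0).symm

theorem card_K25 : Fintype.card K25 = 25 := by
  rw [Fintype.card_congr (QuadraticAlgebra.equivProd (2 : ZMod 5) 0)]
  simp [ZMod.card]

theorem card_K25' : Fintype.card K25 = 5 ^ 2 := by rw [card_K25]; norm_num

abbrev M3 : Type := Matrix (Fin 3) (Fin 3) K25

def B0 : M3 := !![⟨4, 4⟩, ⟨1, 2⟩, ⟨1, 1⟩; ⟨0, 1⟩, ⟨0, 0⟩, ⟨0, 1⟩; ⟨4, 4⟩, ⟨4, 3⟩, ⟨1, 1⟩]
def B1 : M3 := !![⟨4, 0⟩, ⟨0, 0⟩, ⟨0, 0⟩; ⟨0, 0⟩, ⟨1, 0⟩, ⟨0, 0⟩; ⟨0, 0⟩, ⟨0, 0⟩, ⟨4, 0⟩]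
def B2 : M3 := !![⟨2, 0⟩, ⟨1, 1⟩, ⟨0, 4⟩; ⟨1, 4⟩, ⟨2, 0⟩, ⟨4, 3⟩; ⟨0, 1⟩, ⟨4, 2⟩, ⟨0, 0⟩]
def B3 : M3 := !![⟨1, 0⟩, ⟨0, 0⟩, ⟨0, 0⟩; ⟨0, 0⟩, ⟨4, 0⟩, ⟨0, 0⟩; ⟨0, 0⟩, ⟨0, 0⟩, ⟨4, 0⟩]
def B4 : M3 := !![⟨2, 0⟩, ⟨0, 0⟩, ⟨0, 3⟩; ⟨0, 0⟩, ⟨4, 0⟩, ⟨0, 0⟩; ⟨0, 2⟩, ⟨0, 0⟩, ⟨3, 0⟩]
/-- the scalar matrix `ω` -/
def W1 : M3 := !![⟨2, 3⟩, 0, 0; 0, ⟨2, 3⟩, 0; 0, 0, ⟨2, 3⟩]

set_option maxRecDepth 100000

theorem det_B0 : B0.det = 1 := by rw [Matrix.det_fin_three]; decide +kernel
theorem det_B1 : B1.det = 1 := by rw [Matrix.det_fin_three]; decide +kernel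
theorem det_B2 : B2.det = 1 := by rw [Matrix.det_fin_three]; decide +kernel
theorem det_B3 : B3.det = 1 := by rw [Matrix.det_fin_three]; decide +kernel
theorem det_B4 : B4.det = 1 := by rw [Matrix.det_fin_three]; decide +kernel
theorem det_W1 : W1.det = 1 := by rw [Matrix.det_fin_three]; decide +kernel

theorem uni_B0 : B0.transpose * B0.map (fun x => x ^ 5) = 1 := by decide +kernel
theorem uni_B1 : B1.transpose * B1.map (fun x => x ^ 5) = 1 := by decide +kernel
theorem uni_B2 : B2.transpose * B2.map (fun x => x ^ 5) = 1 := by decide +kernel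
theorem uni_B3 : B3.transpose * B3.map (fun x => x ^ 5) = 1 := by decide +kernel
theorem uni_B4 : B4.transpose * B4.map (fun x => x ^ 5) = 1 := by decide +kernel
theorem uni_W1 : W1.transpose * W1.map (fun x => x ^ 5) = 1 := by decide +kernel

theorem W1_eq : W1 = (⟨2, 3⟩ : K25) • (1 : M3) := by decide +kernel

theorem rel_cube : B0 ^ 3 = 1 := by decide +kernel
theorem rel_sq1 : B1 ^ 2 = 1 := by decide +kernel
theorem rel_sq2 : B2 ^ 2 = 1 := by decide +kernel
theorem rel_sq3 : B3 ^ 2 = 1 := by decide +kernel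
theorem rel_sq4 : B4 ^ 2 = 1 := by decide +kernel
theorem rel_adj01 : (B0 * B1) ^ 3 = 1 := by decide +kernel
theorem rel_adj12 : (B1 * B2) ^ 3 = 1 := by decide +kernel
theorem rel_adj23 : (B2 * B3) ^ 3 = 1 := by decide +kernel
theorem rel_adj34 : (B3 * B4) ^ 3 = 1 := by decide +kernel
theorem rel_far02 : (B0 * B2) ^ 2 = 1 := by decide +kernel
theorem rel_far03 : (B0 * B3) ^ 2 = W1 := by decide +kernel
theorem rel_far04 : (B0 * B4) ^ 2 = 1 := by decide +kernel
theorem rel_far13 : (B1 * B3) ^ 2 = 1 := by decide +kernel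
theorem rel_far14 : (B1 * B4) ^ 2 = 1 := by decide +kernel
theorem rel_far24 : (B2 * B4) ^ 2 = 1 := by decide +kernel
theorem B1_ne : B1 ≠ (B1 0 0) • (1 : M3) := by decide +kernel


section su

open Cfsg.Agent.Lib.Helper9.SU3Local

abbrev S25 : Type := ↥(Cfsg.SU 3 K25 5)

theorem isUni_of_mul_eq_one (M : M3) (h : M.transpose * M.map (fun x => x ^ 5) = 1) :
    IsUni K25 5 3 M := by
  classical
  intro u v
  refine hermForm_mulVec_of_orthoN card_K25' M ?_ u v
  intro j l
  have h1 := congrFun (congrFun h j) l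
  rw [Matrix.mul_apply, Matrix.one_apply] at h1
  unfold Cfsg.hermForm
  simpa using h1

/-- an element of `SU₃(5)` from a unitary matrix of determinant one -/
def mkSU (M : M3) (hd : M.det = 1) (hu : M.transpose * M.map (fun x => x ^ 5) = 1) : S25 :=
  ⟨⟨M, hd⟩, (mem_SU_iff _).mpr (isUni_of_mul_eq_one M hu)⟩

theorem mat_mkSU (M : M3) (hd : M.det = 1) (hu : M.transpose * M.map (fun x => x ^ 5) = 1) :
    mat (mkSU M hd hu) = M := rfl

def g0 : S25 := mkSU B0 det_B0 uni_B0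
def g1 : S25 := mkSU B1 det_B1 uni_B1
def g2 : S25 := mkSU B2 det_B2 uni_B2
def g3 : S25 := mkSU B3 det_B3 uni_B3
def g4 : S25 := mkSU B4 det_B4 uni_B4
def w1 : S25 := mkSU W1 det_W1 uni_W1

theorem w1_mem_center : w1 ∈ Subgroup.center S25 := by
  rw [Subgroup.mem_center_iff]
  intro h
  apply mat_injective
  rw [mat_mul, mat_mul]
  show mat h * W1 = W1 * mat h
  rw [W1_eq, Matrix.mul_smul, Matrix.smul_mul, mul_one, one_mul]

/-- the generators -/
def gen : ℕ → S25
  | 0 => g0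
  | 1 => g1
  | 2 => g2
  | 3 => g3
  | 4 => g4
  | _ => 1

abbrev P25 : Type := Cfsg.PSU 3 K25 5

theorem mk_eq_one_of_mat {x : S25} (h : mat x = 1) : (QuotientGroup.mk x : P25) = 1 := by
  have : x = 1 := mat_injective (by rw [h, mat_one])
  rw [this]; rfl

theorem mooreRel_gen : MooreRel (fun k => (QuotientGroup.mk (gen k) : P25)) 5 := by
  refine ⟨fun _ => ?_, ?_, ?_, ?_⟩
  · show (QuotientGroup.mk (gen 0) : P25) ^ 3 = 1
    rw [← QuotientGroup.mk_pow]
    apply mk_eq_one_of_mat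
    rw [mat_pow]
    exact rel_cube
  · intro i h1 h2
    show (QuotientGroup.mk (gen i) : P25) ^ 2 = 1
    rw [← QuotientGroup.mk_pow]
    apply mk_eq_one_of_mat
    rw [mat_pow]
    interval_cases i
    · exact rel_sq1
    · exact rel_sq2
    · exact rel_sq3
    · exact rel_sq4
  · intro i h1
    show ((QuotientGroup.mk (gen i) : P25) * QuotientGroup.mk (gen (i + 1))) ^ 3 = 1
    rw [← QuotientGroup.mk_mul, ← QuotientGroup.mk_pow]
    apply mk_eq_one_of_mat
    rw [mat_pow, mat_mul]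
    have hi : i < 4 := by omega
    interval_cases i
    · exact rel_adj01
    · exact rel_adj12
    · exact rel_adj23
    · exact rel_adj34
  · intro i j h1 h2
    show ((QuotientGroup.mk (gen i) : P25) * QuotientGroup.mk (gen j)) ^ 2 = 1
    rw [← QuotientGroup.mk_mul, ← QuotientGroup.mk_pow]
    by_cases h03 : i = 0 ∧ j = 3
    · obtain ⟨rfl, rfl⟩ := h03
      have : (gen 0 * gen 3) ^ 2 = w1 := by
        apply mat_injective
        rw [mat_pow, mat_mul]
        exact rel_far03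
      rw [this]
      exact (QuotientGroup.eq_one_iff _).mpr w1_mem_center
    · apply mk_eq_one_of_mat
      rw [mat_pow, mat_mul]
      have hj : j < 5 := h2
      have hi : i < 3 := by omega
      interval_cases i <;> interval_cases j <;> first | omega | skip
      · exact rel_far02
      · exact rel_far04
      · exact rel_far13
      · exact rel_far14
      · exact rel_far24

theorem g1_not_mem_center : g1 ∉ Subgroup.center S25 := by
  intro h
  have h1 := center_eq_scalar (m := 1) card_K25' g1 h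
  apply B1_ne
  have h2 : mat g1 = B1 := rfl
  have h3 : (g1.1 : M3) = B1 := rfl
  rw [h3] at h1
  exact h1.trans (Matrix.smul_one_eq_diagonal _).symm

theorem card_S25 : Nat.card S25 = 378000 := by
  rw [Cfsg.Agent.Lib.Helper18.SU3Model.card_SU3 card_K25']
  norm_num

theorem card_center_S25 : Nat.card (Subgroup.center S25) = 3 := by
  rw [card_center_SU card_K25' 3 (by norm_num)]
  rfl

theorem card_P25 : Nat.card P25 = 126000 := by
  have h := Subgroup.card_eq_card_quotient_mul_card_subgroup (Subgroup.center S25)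
  rw [card_S25, card_center_S25] at h
  show Nat.card (S25 ⧸ Subgroup.center S25) = 126000
  omega

/-- a subgroup of index 50 of `PSU₃(5)` over the model field -/
theorem exists_index_fifty_model : ∃ H : Subgroup P25, H.index = 50 := by
  classical
  obtain ⟨e⟩ := nonempty_mulEquiv_alternatingGroup 5
  obtain ⟨φ, hφ⟩ := exists_hom_of_mooreRel _ 5 mooreRel_gen
  let ψ : alternatingGroup (Fin 7) →* P25 := φ.comp e.symm.toMonoidHom
  haveI : IsSimpleGroup (alternatingGroup (Fin 7)) := alternatingGroup.isSimpleGroup (by simp)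
  have hinj : Function.Injective ψ := by
    rw [← MonoidHom.ker_eq_bot_iff]
    rcases (MonoidHom.normal_ker ψ).eq_bot_or_eq_top with h | h
    · exact h
    · exfalso
      have h1 : ψ (e (PresentedGroup.of ⟨1, by norm_num⟩)) = 1 := by
        rw [← MonoidHom.mem_ker, h]; exact Subgroup.mem_top _
      have h2 : ψ (e (PresentedGroup.of ⟨1, by norm_num⟩)) = (QuotientGroup.mk (gen 1) : P25) := by
        show φ (e.symm (e _)) = _
        rw [MulEquiv.symm_apply_apply, hφ]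
      rw [h2] at h1
      exact g1_not_mem_center ((QuotientGroup.eq_one_iff _).mp h1)
  haveI : Finite P25 := Nat.finite_of_card_ne_zero (by rw [card_P25]; norm_num)
  refine ⟨ψ.range, ?_⟩
  have h1 : Nat.card ψ.range = 2520 := by
    rw [← Nat.card_congr (MonoidHom.ofInjective hinj).toEquiv]
    have h2 := nat_card_alternatingGroup (α := Fin 7)
    rw [Nat.card_eq_fintype_card (α := Fin 7), Fintype.card_fin] at h2
    rw [h2]
    decide
  have h3 := Subgroup.card_mul_index ψ.range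
  rw [h1, card_P25] at h3
  omega

end su

section transport

variable {F : Type*} [Field F] [Fintype F]

/-- a subgroup of index 50 of `PSU₃(5)` -/
theorem exists_index_fifty (hF : Fintype.card F = 25) :
    ∃ H : Subgroup (Cfsg.PSU 3 F 5), H.index = 50 := by
  obtain ⟨H, hH⟩ := exists_index_fifty_model
  let φ : K25 ≃+* F := FiniteField.ringEquivOfCardEq (by rw [card_K25, hF])
  let e : Cfsg.PSU 3 K25 5 ≃* Cfsg.PSU 3 F 5 := Cfsg.Agent.Lib.Helper19.SUCongr.psuCongr φ
  refine ⟨H.map e.toMonoidHom, ?_⟩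
  rw [← hH]
  exact Subgroup.index_map_equiv H e

end transport

end Cfsg.Agent.Lib.Helper14.U35
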