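import Mathlib
import Cfsg.Agent.Lib.Helper14.U35B

set_option autoImplicit false
set_option linter.style.haveILetI false
set_option linter.unusedSectionVars false

/-!
The Sylow-`7` part of the counting argument for `SU₃(5)` and the abstract index bound.
-/

namespace Cfsg.Agent.Lib.Helper14.U35

open Subgroup MulAction

theorem card_sylow7_of {G : Type*} [Group G] [Finite G] (hG : Nat.card G ∣ 378000)
    (h7 : 7 ∣ Nat.card G) (R : Sylow 7 G) : Nat.card R.1 = 7 := by
  obtain ⟨n, hn⟩ := IsPGroup.iff_card.mp R.2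
  have hn' : Nat.card R.1 = 7 ^ n := hn
  have hmul := Subgroup.card_mul_index R.1
  have hnd := R.not_dvd_index
  rcases Nat.lt_or_ge n 1 with h0 | h1
  · have : n = 0 := by omega
    subst this
    rw [hn', pow_zero, one_mul] at hmul
    rw [hmul] at hnd
    exact absurd h7 hnd
  rcases Nat.lt_or_ge n 2 with h2 | h2
  · have : n = 1 := by omega
    subst this
    rw [hn', pow_one]
  · exfalso
    have h3 : 7 ^ 2 ∣ 378000 := by
      calc 7 ^ 2 ∣ 7 ^ n := pow_dvd_pow 7 h2
        _ = Nat.card R.1 := hn'.symm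
        _ ∣ Nat.card G := Subgroup.card_subgroup_dvd_card R.1
        _ ∣ 378000 := hG
    norm_num at h3

variable {S : Type*} [Group S] [Finite S] {X : Type*} {B : X → Subgroup S}

theorem exists_order_seven (R : Subgroup S) (hR : Nat.card R = 7) :
    ∃ g ∈ R, g ≠ 1 ∧ orderOf g = 7 := by
  have hne : R ≠ ⊥ := fun h => by rw [h, Subgroup.card_bot] at hR; omega
  obtain ⟨g, hg⟩ := (Subgroup.ne_bot_iff_exists_ne_one).mp hne
  have hg1 : (g : S) ≠ 1 := fun h => hg (Subtype.ext h)
  refine ⟨g.1, g.2, hg1, ?_⟩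
  have h1 : orderOf (g : S) ∣ 7 := hR ▸ Subgroup.orderOf_dvd_natCard R g.2
  rcases (Nat.dvd_prime (by norm_num)).mp h1 with h | h
  · exact absurd (orderOf_eq_one_iff.mp h) hg1
  · exact h

theorem card_normalizer_sylow7 (hS : Nat.card S = 378000) (Z : Subgroup S)
    (hZc : Z ≤ center S) (hZ : Nat.card Z = 3) (hB : Borel5 B)
    (hinv : ∀ t : S, t ≠ 1 → t * t = 1 → ¬ 7 ∣ Nat.card (centralizer ({t} : Set S)))
    (R : Sylow 7 S) : Nat.card (normalizer (R.1 : Set S)) = 63 := by
  have hR : Nat.card R.1 = 7 := card_sylow7_of (by rw [hS]) (by rw [hS]; norm_num) R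
  obtain ⟨g, hgR, hg1, hg7⟩ := exists_order_seven R.1 hR
  set N := normalizer (R.1 : Set S) with hN
  let φ : ↥N →* MulAut ↥R.1 := R.1.normalizerMonoidHom
  have hker : φ.ker = (centralizer (R.1 : Set S)).subgroupOf N :=
    Subgroup.normalizerMonoidHom_ker _
  haveI : IsCyclic ↥R.1 := isCyclic_of_prime_card hR
  have hAut : Nat.card (MulAut ↥R.1) = 6 := by
    rw [IsCyclic.card_mulAut, hR]
    decide
  -- no element of order 5
  have h5 : ¬ 5 ∣ Nat.card N := by
    intro h5
    obtain ⟨u, hu⟩ := exists_prime_orderOf_dvd_card' (G := ↥N) 5 h5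
    have hφu : φ u = 1 := by
      have h1 : orderOf (φ u) ∣ 5 := hu ▸ orderOf_map_dvd φ u
      have h2 : orderOf (φ u) ∣ 6 := hAut ▸ orderOf_dvd_natCard (φ u)
      have h3 : orderOf (φ u) ∣ Nat.gcd 5 6 := Nat.dvd_gcd h1 h2
      have h4 : orderOf (φ u) = 1 := Nat.dvd_one.mp (by simpa using h3)
      exact orderOf_eq_one_iff.mp h4
    have hu_c : (u : S) ∈ centralizer (R.1 : Set S) := by
      have h1 : u ∈ φ.ker := hφu
      rw [hker] at h1
      exact h1
    have hcomm : g * (u : S) = (u : S) * g := hu_c g hgR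
    have hu1 : (u : S) ≠ 1 := by
      intro h
      have h1 : u = 1 := Subtype.ext h
      rw [h1, orderOf_one] at hu
      omega
    have hu5' : (u : S) ^ 5 = 1 := by
      have h1 := pow_orderOf_eq_one u
      rw [hu] at h1
      have h2 := congrArg (fun e : ↥N => (e : S)) h1
      simpa only [Subgroup.coe_pow, Subgroup.coe_one] using h2
    have hu5 : IsFive (u : S) := ⟨1, by rw [pow_one]; exact hu5'⟩
    have hord : orderOf (u : S) = 5 := by
      rw [Subgroup.orderOf_coe]; exact hu
    obtain ⟨x, hx⟩ := hB.fix (zpowers (u : S))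
      (IsPGroup.of_card (n := 1) (by rw [Nat.card_zpowers, hord, pow_one]))
    have hux : (u : S) ∈ B x := hx (mem_zpowers _)
    have hconj : g⁻¹ * (u : S) * g = (u : S) := by
      rw [mul_assoc, ← hcomm, ← mul_assoc, inv_mul_cancel, one_mul]
    have hgx : g ∈ B x := hB.norm _ hu1 hu5 x g hux (by rw [hconj]; exact hux)
    have h7 := (Subgroup.orderOf_dvd_natCard (B x) hgx).trans (hB.card_dvd x)
    rw [hg7] at h7
    omega
  -- the kernel has odd order
  have hcard : Nat.card φ.ker * Nat.card φ.range = Nat.card N := by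
    rw [← Subgroup.index_ker φ]
    exact Subgroup.card_mul_index φ.ker
  have hrange : Nat.card φ.range ∣ 6 := hAut ▸ Subgroup.card_subgroup_dvd_card φ.range
  have hkerodd : ¬ 2 ∣ Nat.card φ.ker := by
    intro h2
    obtain ⟨t, ht⟩ := exists_prime_orderOf_dvd_card' (G := ↥φ.ker) 2 h2
    have htc : ((t : ↥N) : S) ∈ centralizer (R.1 : Set S) := by
      have h1 : (t : ↥N) ∈ (centralizer (R.1 : Set S)).subgroupOf N := by
        rw [← hker]; exact t.2
      exact h1
    have ht1 : ((t : ↥N) : S) ≠ 1 := by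
      intro h
      have h1 : t = 1 := Subtype.ext (Subtype.ext h)
      rw [h1, orderOf_one] at ht
      omega
    have ht2 : ((t : ↥N) : S) * ((t : ↥N) : S) = 1 := by
      have h1 := pow_orderOf_eq_one t
      rw [ht, pow_two] at h1
      have h2 := congrArg (fun e : ↥φ.ker => ((e : ↥N) : S)) h1
      simpa only [Subgroup.coe_mul, Subgroup.coe_one] using h2
    have hcomm : g * ((t : ↥N) : S) = ((t : ↥N) : S) * g := htc g hgR
    have hgC : g ∈ centralizer ({((t : ↥N) : S)} : Set S) := by
      rw [mem_centralizer_iff]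
      intro y hy
      rw [Set.mem_singleton_iff.mp hy]
      exact hcomm.symm
    have h7 := Subgroup.orderOf_dvd_natCard _ hgC
    rw [hg7] at h7
    exact hinv _ ht1 ht2 h7
  have h4 : ¬ 4 ∣ Nat.card N := by
    rw [← hcard]
    intro h4
    have hc2 : Nat.Coprime 2 (Nat.card φ.ker) :=
      (Nat.Prime.coprime_iff_not_dvd (by norm_num)).mpr hkerodd
    have hc4 : Nat.Coprime 4 (Nat.card φ.ker) := by
      have h22 : (4 : ℕ) = 2 ^ 2 := by norm_num
      rw [h22]
      exact Nat.Coprime.pow_left 2 hc2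
    have h5 : 4 ∣ Nat.card φ.range := hc4.dvd_of_dvd_mul_left h4
    have h6 : 4 ∣ 6 := h5.trans hrange
    omega
  -- divisibility by 21
  have h21 : 21 ∣ Nat.card N := by
    have h7 : 7 ∣ Nat.card N := hR ▸ Subgroup.card_dvd_of_le (le_normalizer (H := R.1))
    have h3 : 3 ∣ Nat.card N := by
      have hZN : Z ≤ N := hZc.trans (Subgroup.center_le_normalizer _)
      exact hZ ▸ Subgroup.card_dvd_of_le hZN
    have hc : Nat.Coprime 7 3 := by decide
    exact hc.mul_dvd_of_dvd_of_dvd h7 h3
  -- Sylow's theorem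
  have hidx : Nat.card (Sylow 7 S) = N.index := R.card_eq_index_normalizer
  have hmod : Nat.card (Sylow 7 S) ≡ 1 [MOD 7] := card_sylow_modEq_one 7 S
  have hmul : Nat.card N * N.index = 378000 := by rw [← hS]; exact Subgroup.card_mul_index N
  have hmod' : N.index % 7 = 1 := by rw [← hidx]; exact hmod
  exact arith_sylow7 _ _ hmul h21 h5 h4 hmod'


theorem three_dvd_of_center_le (Z H : Subgroup S) (hZc : Z ≤ center S) (hZ : Nat.card Z = 3)
    (hZH : Z ≤ H) (K : Subgroup H) (hK : center H ≤ K) : 3 ∣ Nat.card K := by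
  have h1 : Z.subgroupOf H ≤ center H := by
    intro z hz
    rw [Subgroup.mem_center_iff]
    intro y
    apply Subtype.ext
    have hz' : (z : S) ∈ center S := hZc (Subgroup.mem_subgroupOf.mp hz)
    exact Subgroup.mem_center_iff.mp hz' (y : S)
  have h2 : Nat.card (Z.subgroupOf H) = 3 := by
    rw [Nat.card_congr (Subgroup.subgroupOfEquivOfLe hZH).toEquiv, hZ]
  exact h2 ▸ Subgroup.card_dvd_of_le (h1.trans hK)

/-- **the abstract index bound**: no subgroup containing the centre has index between 15 and 49. -/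
theorem index_ge_fifty (hS : Nat.card S = 378000) (Z : Subgroup S)
    (hZc : Z ≤ center S) (hZ : Nat.card Z = 3) (hB : Borel5 B)
    (hinv : ∀ t : S, t ≠ 1 → t * t = 1 → ¬ 7 ∣ Nat.card (centralizer ({t} : Set S)))
    (H : Subgroup S) (hZH : Z ≤ H) (h15 : 15 ≤ H.index) : 50 ≤ H.index := by
  by_contra hlt
  have h50 : H.index < 50 := by omega
  have hkh : H.index * Nat.card H = 378000 := by
    rw [← hS, mul_comm]; exact Subgroup.card_mul_index H
  have hhdvd : Nat.card H ∣ 378000 := ⟨H.index, by rw [← hkh, mul_comm]⟩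
  -- Sylow 5
  obtain ⟨Q⟩ : Nonempty (Sylow 5 H) := inferInstance
  have hs : ∃ a, Nat.card Q.1 = 5 ^ a := IsPGroup.iff_card.mp Q.2
  have hsh : Nat.card Q.1 ∣ Nat.card H := Subgroup.card_subgroup_dvd_card Q.1
  have hcop : ¬ 5 ∣ Nat.card H / Nat.card Q.1 := by
    have h1 := Q.not_dvd_index
    have h2 := Subgroup.card_mul_index Q.1
    have h3 : Q.1.index = Nat.card H / Nat.card Q.1 := by
      rw [← h2, Nat.mul_div_cancel_left _ Nat.card_pos]
    rwa [h3] at h1
  have h5h : 5 ∣ Nat.card H := by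
    by_contra hcon
    have hc : Nat.Coprime 5 (Nat.card H) := (Nat.Prime.coprime_iff_not_dvd (by norm_num)).mpr hcon
    have hc3 : Nat.Coprime (5 ^ 3) (Nat.card H) := Nat.Coprime.pow_left 3 hc
    have hd : 5 ^ 3 ∣ H.index * Nat.card H := ⟨3024, by rw [hkh]; norm_num⟩
    have hd2 : 5 ^ 3 ∣ H.index := hc3.dvd_of_dvd_mul_right hd
    have := Nat.le_of_dvd (by omega) hd2
    omega
  have hQne : Q.1 ≠ ⊥ := Q.ne_bot_of_dvd_card h5h
  have hsN : Nat.card Q.1 ∣ Nat.card (normalizer (Q.1 : Set H)) :=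
    Subgroup.card_dvd_of_le le_normalizer
  have hNh : Nat.card (normalizer (Q.1 : Set H)) ∣ Nat.card H :=
    Subgroup.card_subgroup_dvd_card _
  have hN3000 : Nat.card (normalizer (Q.1 : Set H)) ∣ 3000 := card_normalizer_dvd hB Q hQne
  have h3 : 3 ∣ Nat.card (normalizer (Q.1 : Set H)) :=
    three_dvd_of_center_le Z H hZc hZ hZH _ (Subgroup.center_le_normalizer _)
  have hmod : (Nat.card H / Nat.card (normalizer (Q.1 : Set H))) % Nat.card Q.1
      = 1 % Nat.card Q.1 := by
    have h1 := card_sylow_modEq hB Q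
    have h2 : Nat.card (Sylow 5 H) = (normalizer (Q.1 : Set H)).index := Q.card_eq_index_normalizer
    have h4 := Subgroup.card_mul_index (normalizer (Q.1 : Set H))
    have h5 : (normalizer (Q.1 : Set H)).index =
        Nat.card H / Nat.card (normalizer (Q.1 : Set H)) := by
      rw [← h4, Nat.mul_div_cancel_left _ Nat.card_pos]
    rw [h2, h5] at h1
    exact h1
  have h7 : 7 ∣ Nat.card H → ∃ m, m ∣ 63 ∧ 21 ∣ m ∧ m ∣ Nat.card H ∧ (Nat.card H / m) % 7 = 1 := by
    intro h7
    obtain ⟨P⟩ : Nonempty (Sylow 7 H) := inferInstance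
    have hP : Nat.card P.1 = 7 := card_sylow7_of hhdvd h7 P
    obtain ⟨R, hR⟩ := (P.2.map H.subtype).exists_le_sylow
    have hRcard : Nat.card R.1 = 7 := card_sylow7_of (by rw [hS]) (by rw [hS]; norm_num) R
    have hmapcard : Nat.card (P.1.map H.subtype) = 7 := by
      rw [Subgroup.card_map_of_injective H.subtype_injective]; exact hP
    have hRe : P.1.map H.subtype = R.1 :=
      Subgroup.eq_of_le_of_card_ge hR (by rw [hRcard, hmapcard])
    refine ⟨Nat.card (normalizer (P.1 : Set H)), ?_, ?_, Subgroup.card_subgroup_dvd_card _, ?_⟩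
    · have h1 : (normalizer (P.1 : Set H)).map H.subtype ≤ normalizer (R.1 : Set S) := by
        rw [← hRe]; exact Subgroup.le_normalizer_map H.subtype
      have h2 := Subgroup.card_dvd_of_le h1
      rw [Subgroup.card_map_of_injective H.subtype_injective,
        card_normalizer_sylow7 hS Z hZc hZ hB hinv R] at h2
      exact h2
    · have h7' : 7 ∣ Nat.card (normalizer (P.1 : Set H)) := by
        have h0 := Subgroup.card_dvd_of_le (le_normalizer (H := P.1))
        rwa [hP] at h0
      have h3' : 3 ∣ Nat.card (normalizer (P.1 : Set H)) :=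
        three_dvd_of_center_le Z H hZc hZ hZH _ (Subgroup.center_le_normalizer _)
      have hc : Nat.Coprime 7 3 := by decide
      exact hc.mul_dvd_of_dvd_of_dvd h7' h3'
    · have h1 : Nat.card (Sylow 7 H) ≡ 1 [MOD 7] := card_sylow_modEq_one 7 H
      have h2 : Nat.card (Sylow 7 H) = (normalizer (P.1 : Set H)).index :=
        P.card_eq_index_normalizer
      have h4 := Subgroup.card_mul_index (normalizer (P.1 : Set H))
      have h5 : (normalizer (P.1 : Set H)).index =
          Nat.card H / Nat.card (normalizer (P.1 : Set H)) := by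
        rw [← h4, Nat.mul_div_cancel_left _ Nat.card_pos]
      rw [h2, h5] at h1
      exact h1
  exact arith_final H.index (Nat.card H) (Nat.card Q.1) (Nat.card (normalizer (Q.1 : Set H)))
    hkh h15 h50 hs hsh hcop hsN hNh hN3000 h3 hmod h7

end Cfsg.Agent.Lib.Helper14.U35
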