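import Mathlib
import Cfsg.Agent.Lib.Helper14.U35D
import Cfsg.Agent.Lib.Helper9.SU3Local
import Cfsg.Agent.Lib.Helper9.SU3Invol
import Cfsg.Agent.Lib.Helper5.UTIStab
import Cfsg.Agent.Lib.Helper18.SU3Sylow
import Cfsg.Agent.Lib.Helper14.Unitary3

set_option autoImplicit false
set_option linter.style.haveILetI false
set_option linter.unusedSectionVars false
set_option linter.unusedVariables false

/-!
The point stabilisers of `SU₃(5)` on the isotropic points satisfy the hypotheses `Borel5` of the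
abstract counting argument.
-/

namespace Cfsg.Agent.Lib.Helper14.U35

open Cfsg.Agent.Lib.Helper14 Cfsg.Agent.Lib.Helper9.SU3Local Matrix

section inst

variable {F : Type*} [Field F] [Fintype F]

theorem charP_five (hF : Fintype.card F = 25) : CharP F 5 := by
  obtain ⟨p, hp, n, hpp, hn⟩ := FiniteField.card' F
  rw [hF] at hn
  have h1 : p ∣ 5 ^ 2 := by
    have : p ∣ p ^ (n : ℕ) := dvd_pow_self p n.pos.ne'
    rw [← hn] at this
    exact this
  have h2 : p ∣ 5 := hpp.dvd_of_dvd_pow h1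
  have h3 : p = 5 := (Nat.prime_dvd_prime_iff_eq hpp (by norm_num)).mp h2
  rw [← h3]
  exact hp

theorem hF' (hF : Fintype.card F = 25) : Fintype.card F = 5 ^ 2 := by rw [hF]; norm_num

/-- the group `SU₃(5)` -/
abbrev SF (F : Type*) [Field F] : Type _ := ↥(Cfsg.SU 3 F 5)

/-- the stabiliser of the point `⟨u⟩` -/
def Bor (u : Fin 3 → F) : Subgroup (SF F) :=
  (Cfsg.stabilizing (Cfsg.slToMat 3 F)
    ((Submodule.span F {u} : Submodule F (Fin 3 → F)) : Set (Fin 3 → F))).subgroupOf (Cfsg.SU 3 F 5)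

variable [DecidableEq F]

theorem mem_Bor_iff (u : Fin 3 → F) (g : SF F) :
    g ∈ Bor u ↔ ∀ v, v ∈ Submodule.span F {u} ↔ mat g *ᵥ v ∈ Submodule.span F {u} := Iff.rfl

theorem exists_smul_of_mem_Bor (u : Fin 3 → F) (g : SF F) (h : g ∈ Bor u) :
    ∃ c : F, mat g *ᵥ u = c • u := by
  have h1 := ((mem_Bor_iff u g).mp h u).mp (Submodule.mem_span_singleton_self u)
  obtain ⟨c, hc⟩ := Submodule.mem_span_singleton.mp h1
  exact ⟨c, hc.symm⟩

theorem mem_Bor_of_smul (u : Fin 3 → F) (hu : u ≠ 0) (g : SF F) (c : F)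
    (h : mat g *ᵥ u = c • u) : g ∈ Bor u := by
  have hc : c ≠ 0 := by
    intro h0
    rw [h0, zero_smul] at h
    apply hu
    have h1 := congrArg (fun t => mat g⁻¹ *ᵥ t) h
    simp only [Matrix.mulVec_mulVec, mat_inv_mul, Matrix.one_mulVec, Matrix.mulVec_zero] at h1
    exact h1
  have hinv : mat g⁻¹ *ᵥ u = c⁻¹ • u := by
    have h1 := congrArg (fun t => mat g⁻¹ *ᵥ t) h
    simp only [Matrix.mulVec_mulVec, mat_inv_mul, Matrix.one_mulVec, Matrix.mulVec_smul] at h1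
    calc mat g⁻¹ *ᵥ u = c⁻¹ • (c • (mat g⁻¹ *ᵥ u)) := by
          rw [smul_smul, inv_mul_cancel₀ hc, one_smul]
      _ = c⁻¹ • u := by rw [← h1]
  rw [mem_Bor_iff]
  intro v
  constructor
  · intro hv
    obtain ⟨a, rfl⟩ := Submodule.mem_span_singleton.mp hv
    rw [Matrix.mulVec_smul, h, smul_smul]
    exact Submodule.mem_span_singleton.mpr ⟨a * c, rfl⟩
  · intro hv
    obtain ⟨a, ha⟩ := Submodule.mem_span_singleton.mp hv
    have h1 := congrArg (fun t => mat g⁻¹ *ᵥ t) ha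
    simp only [Matrix.mulVec_mulVec, mat_inv_mul, Matrix.one_mulVec, Matrix.mulVec_smul] at h1
    rw [← h1, hinv, smul_smul]
    exact Submodule.mem_span_singleton.mpr ⟨a * c⁻¹, rfl⟩

theorem Bor_smul (u : Fin 3 → F) (c : F) (hc : c ≠ 0) : Bor (c • u) = Bor u := by
  unfold Bor
  congr 3
  ext v
  rw [Submodule.mem_span_singleton, Submodule.mem_span_singleton]
  constructor
  · rintro ⟨a, rfl⟩
    exact ⟨a * c, by rw [smul_smul]⟩
  · rintro ⟨a, rfl⟩
    exact ⟨a * c⁻¹, by rw [smul_smul, mul_assoc, inv_mul_cancel₀ hc, mul_one]⟩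

theorem mat_pow_of_isFive (g : SF F) (h : IsFive g) : ∃ k : ℕ, mat g ^ 5 ^ k = 1 := by
  obtain ⟨k, hk⟩ := h
  exact ⟨k, by rw [← mat_pow, hk, mat_one]⟩

theorem fix_of_five (hF : Fintype.card F = 25) (u : Fin 3 → F) (hu : u ≠ 0) (g : SF F)
    (h5 : IsFive g) (hB : g ∈ Bor u) : mat g *ᵥ u = u := by
  haveI := charP_five hF
  obtain ⟨c, hc⟩ := exists_smul_of_mem_Bor u g hB
  obtain ⟨k, hk⟩ := mat_pow_of_isFive g h5
  have h1 := eigen_one (p := 5) (mat g) k hk u hu c hc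
  rw [hc, h1, one_smul]

theorem isFive_conj (g n : SF F) (h : IsFive g) : IsFive (n⁻¹ * g * n) := by
  obtain ⟨k, hk⟩ := h
  refine ⟨k, ?_⟩
  have : n⁻¹ * g * n = MulAut.conj n⁻¹ g := by simp [MulAut.conj_apply]
  rw [this, ← map_pow, hk, map_one]

/-- the isotropic non-zero vectors -/
abbrev IsoV (F : Type*) [Field F] : Type _ :=
  {u : Fin 3 → F // u ≠ 0 ∧ Cfsg.hermForm 3 F 5 u u = 0}

theorem card_Bor (hF : Fintype.card F = 25) (u : Fin 3 → F) (hu : u ≠ 0)
    (huu : Cfsg.hermForm 3 F 5 u u = 0) : Nat.card (Bor u) = 3000 := by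
  classical
  have hW : ∀ a ∈ Submodule.span F {u}, ∀ b ∈ Submodule.span F {u},
      Cfsg.hermForm 3 F 5 a b = 0 := by
    intro a ha b hb
    obtain ⟨α, rfl⟩ := Submodule.mem_span_singleton.mp ha
    obtain ⟨β, rfl⟩ := Submodule.mem_span_singleton.mp hb
    rw [hermForm_smul_left, hermForm_smul_right, huu, mul_zero, mul_zero]
  have hWk : Module.finrank F (Submodule.span F {u} : Submodule F (Fin 3 → F)) = 1 :=
    finrank_span_singleton hu
  have h1 := Cfsg.Agent.Lib.Helper5.UTIStab.card_stab_SU_mul (hF' hF) (by norm_num : 1 ≤ 3)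
    (Submodule.span F {u}) hW
  have h2 := Cfsg.Agent.Lib.Helper5.UTIStab.card_SWG_mul (hF' hF) (Submodule.span F {u}) 1 hWk hW
  have h3 := Cfsg.Agent.Lib.Helper5.UTICount.card_TI (F := F) (n := 3) (hF' hF) 1 (by norm_num)
  have h4 := card_GU (hF' hF) 3
  have h5 : Nat.card ↥(Cfsg.GU 3 F 5) = 2268000 := by
    rw [h4]
    decide
  have h6 : Nat.card {s : Fin 1 → (Fin 3 → F) // Cfsg.Agent.Lib.Helper5.UTICount.TI F 5 3 1 s}
      = 3024 := by
    rw [h3]
    decide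
  rw [h5, h6, hF] at h2
  have h7 : (∏ i : Fin 1, (25 ^ 1 - 25 ^ (i : ℕ))) = 24 := by decide
  rw [h7] at h2
  have h8 : Nat.card ↥(Bor u) = Nat.card ↥((Cfsg.stabilizing (Cfsg.slToMat 3 F)
      ((Submodule.span F {u} : Submodule F (Fin 3 → F)) : Set (Fin 3 → F))).subgroupOf
        (Cfsg.SU 3 F 5)) := rfl
  rw [h8]
  omega

theorem borel5 (hF : Fintype.card F = 25) :
    Borel5 (S := SF F) (fun x : IsoV F => Bor x.1) := by
  classical
  haveI := charP_five hF
  refine ⟨?_, ?_, ?_, ?_, ?_⟩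
  · intro x
    rw [card_Bor hF x.1 x.2.1 x.2.2]
  · intro P hP
    have hF1 : Fintype.card F = (5 ^ 1) ^ 2 := by rw [hF]; norm_num
    obtain ⟨u, hu, huu, hfix⟩ := exists_fixed_iso (p := 5) (n := 1) le_rfl hF1 P hP
    refine ⟨⟨u, hu, huu⟩, ?_⟩
    intro g hg
    exact mem_Bor_of_smul u hu g 1 (by rw [one_smul]; exact hfix g hg)
  · intro g hg1 hg5 x y hgx hgy
    have h1 := fix_of_five hF x.1 x.2.1 g hg5 hgx
    have h2 := fix_of_five hF y.1 y.2.1 g hg5 hgy
    obtain ⟨k, hk⟩ := mat_pow_of_isFive g hg5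
    have hF1 : Fintype.card F = 5 ^ 2 := hF' hF
    by_contra hne
    apply hg1
    apply mat_injective
    rw [mat_one]
    refine eq_one_of_two_points (p := 5) hF1 x.1 x.2.1 x.2.2 (mat g) (mat_isUni g) k hk h1
      y.1 y.2.2 h2 ?_
    rintro ⟨c, hc⟩
    apply hne
    have hc0 : c ≠ 0 := by
      intro h0
      rw [h0, zero_smul] at hc
      exact y.2.1 hc
    show Bor x.1 = Bor y.1
    rw [hc, Bor_smul _ c hc0]
  · intro g hg1 hg5 x n hgx hngx
    have h1 := fix_of_five hF x.1 x.2.1 g hg5 hgx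
    have h2 := fix_of_five hF x.1 x.2.1 (n⁻¹ * g * n) (isFive_conj g n hg5) hngx
    obtain ⟨k, hk⟩ := mat_pow_of_isFive g hg5
    have hF1 : Fintype.card F = 5 ^ 2 := hF' hF
    -- `g` fixes `n u`
    have h3 : mat g *ᵥ (mat n *ᵥ x.1) = mat n *ᵥ x.1 := by
      have h4 := congrArg (fun t => mat n *ᵥ t) h2
      simp only [mat_mul, Matrix.mulVec_mulVec] at h4
      rw [← mul_assoc, ← mul_assoc, mat_mul_inv, one_mul] at h4
      rw [Matrix.mulVec_mulVec]
      exact h4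
    have hiso : Cfsg.hermForm 3 F 5 (mat n *ᵥ x.1) (mat n *ᵥ x.1) = 0 := by
      rw [mat_isUni]; exact x.2.2
    by_contra hne
    apply hg1
    apply mat_injective
    rw [mat_one]
    refine eq_one_of_two_points (p := 5) hF1 x.1 x.2.1 x.2.2 (mat g) (mat_isUni g) k hk h1
      (mat n *ᵥ x.1) hiso h3 ?_
    rintro ⟨c, hc⟩
    exact hne (mem_Bor_of_smul x.1 x.2.1 n c hc)
  · intro x a ha b hb ha5 hb5
    have h1 := fix_of_five hF x.1 x.2.1 a ha5 ha
    have h2 := fix_of_five hF x.1 x.2.1 b hb5 hb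
    obtain ⟨k₁, hk₁⟩ := mat_pow_of_isFive a ha5
    obtain ⟨k₂, hk₂⟩ := mat_pow_of_isFive b hb5
    have hF1 : Fintype.card F = 5 ^ 2 := hF' hF
    have h3 := mul_pow_eq_one (p := 5) hF1 x.1 x.2.1 x.2.2 (mat a) (mat b) (mat_isUni a)
      (mat_isUni b) k₁ k₂ hk₁ hk₂ h1 h2
    refine ⟨2, ?_⟩
    apply mat_injective
    rw [mat_pow, mat_mul, mat_one]
    exact h3

end inst

end Cfsg.Agent.Lib.Helper14.U35
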