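import Mathlib
import Cfsg.Agent.Lib.Helper14.U35E
import Cfsg.Agent.Lib.Helper5.PSUSimple

set_option autoImplicit false
set_option linter.style.haveILetI false
set_option linter.unusedSectionVars false
set_option linter.unusedVariables false

/-!
Every proper subgroup of `PSU₃(5)` has index at least 50.
-/

namespace Cfsg.Agent.Lib.Helper14.U35

open Cfsg.Agent.Lib.Helper14 Cfsg.Agent.Lib.Helper9.SU3Local

theorem card_dvd_factorial_index {G : Type*} [Group G] [Finite G] [IsSimpleGroup G]
    (H : Subgroup G) (hH : H ≠ ⊤) : Nat.card G ∣ (H.index).factorial := by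
  let φ := MulAction.toPermHom G (G ⧸ H)
  have hker : φ.ker = H.normalCore := (Subgroup.normalCore_eq_ker H).symm
  have hinj : Function.Injective φ := by
    rw [← MonoidHom.ker_eq_bot_iff]
    rcases (MonoidHom.normal_ker φ).eq_bot_or_eq_top with h | h
    · exact h
    · exfalso
      apply hH
      rw [hker] at h
      exact top_le_iff.mp (h ▸ Subgroup.normalCore_le H)
  have h1 := Subgroup.card_dvd_of_injective φ hinj
  rw [Nat.card_perm] at h1
  exact h1

section

variable {F : Type*} [Field F] [Fintype F]

theorem card_SF (hF : Fintype.card F = 25) : Nat.card (SF F) = 378000 := by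
  rw [Cfsg.Agent.Lib.Helper18.SU3Model.card_SU3 (hF' hF)]
  norm_num

theorem card_center_SF (hF : Fintype.card F = 25) :
    Nat.card (Subgroup.center (SF F)) = 3 := by
  classical
  rw [card_center_SU (hF' hF) 3 (by norm_num)]
  rfl

theorem card_PSU (hF : Fintype.card F = 25) : Nat.card (Cfsg.PSU 3 F 5) = 126000 := by
  have h := Subgroup.card_eq_card_quotient_mul_card_subgroup (Subgroup.center (SF F))
  rw [card_SF hF, card_center_SF hF] at h
  show Nat.card (SF F ⧸ Subgroup.center (SF F)) = 126000
  omega

/-- every proper subgroup of `PSU₃(5)` has index at least 50 -/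
theorem index_ge_fifty_psu (hF : Fintype.card F = 25) (H : Subgroup (Cfsg.PSU 3 F 5))
    (hH : H ≠ ⊤) : 50 ≤ H.index := by
  classical
  haveI : Finite (Cfsg.PSU 3 F 5) :=
    Nat.finite_of_card_ne_zero (by rw [card_PSU hF]; norm_num)
  haveI : IsSimpleGroup (Cfsg.PSU 3 F 5) :=
    Cfsg.Agent.Lib.Helper5.PSUSimple.isSimpleGroup_PSU (hF' hF) le_rfl (by norm_num)
  -- the index is at least 15
  have h15 : 15 ≤ H.index := by
    by_contra hlt
    have h1 := card_dvd_factorial_index H hH
    rw [card_PSU hF] at h1
    have h2 : (H.index).factorial ∣ (14).factorial := Nat.factorial_dvd_factorial (by omega)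
    have h3 : 126000 ∣ (14).factorial := h1.trans h2
    revert h3
    decide
  -- pull back to `SU₃(5)`
  let π := QuotientGroup.mk' (Subgroup.center (SF F))
  have hπ : Function.Surjective π := QuotientGroup.mk'_surjective _
  have hidx : (H.comap π).index = H.index := Subgroup.index_comap_of_surjective H hπ
  have hZH : Subgroup.center (SF F) ≤ H.comap π := by
    intro z hz
    rw [Subgroup.mem_comap]
    have : π z = 1 := (QuotientGroup.eq_one_iff z).mpr hz
    rw [this]
    exact one_mem H
  have hinv : ∀ t : SF F, t ≠ 1 → t * t = 1 →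
      ¬ 7 ∣ Nat.card (Subgroup.centralizer ({t} : Set (SF F))) := by
    intro t ht ht2
    rw [Cfsg.Agent.Lib.Helper9.SU3Invol.card_centralizer_invol (by decide) (hF' hF) t ht ht2]
    decide
  rw [← hidx]
  exact index_ge_fifty (card_SF hF) (Subgroup.center (SF F)) le_rfl (card_center_SF hF)
    (borel5 hF) hinv (H.comap π) hZH (by rw [hidx]; exact h15)

end

end Cfsg.Agent.Lib.Helper14.U35
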