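import Mathlib
import Cfsg.Agent.Lib.Helper15.AschUCtx
import Cfsg.Agent.Lib.Helper6.TWQ1
import Cfsg.Agent.Lib.Helper20.AschA89F2J
import Cfsg.Agent.Lib.Helper1.AFKrP
import Cfsg.Agent.Lib.Helper22.PolUnD

/-!
S5663 (Aschbacher for `GU_n(q)`), sub-block T2 (`notes/S5663_T2_leaves.lean`), leaves T2-D1, T2-D2, T2-D:
an element of the standard wreath group `GL_2 ≀ S_t` which is a `σ`-isometry of `Jt t` is rational over `Fix σ` up to a scalar.
-/

set_option autoImplicit false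
set_option linter.unusedSectionVars false
set_option linter.unusedVariables false

namespace Cfsg.Agent.Lib.Helper14.UALeaf
open Matrix Cfsg Cfsg.Geo Cfsg.Agent.Lib.Helper20.Asch
open Cfsg.Agent.Lib.Helper15.AschU Cfsg.Agent.Lib.Helper15.AschForm Cfsg.Agent.Lib.Helper18.AschA89

variable {F : Type*} [Field F] [Fintype F] {n q : ℕ} {H : Subgroup (GL (Fin n) F)}

/-- (T2-D1) a `σ`-similitude of `J2` is `σ`-proportional to itself -/
theorem sigma_smul_of_J2 (σ : F →+* F) (a : Matrix (Fin 2) (Fin 2) F) (hdet : a.det ≠ 0) (lam : F)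
    (h : aᵀ * (J2 : Matrix (Fin 2) (Fin 2) F) * a.map σ = lam • (J2 : Matrix (Fin 2) (Fin 2) F)) :
    a.map σ = (lam / a.det) • a := by
  have h00 := congrFun (congrFun h 0) 0
  have h01 := congrFun (congrFun h 0) 1
  have h10 := congrFun (congrFun h 1) 0
  have h11 := congrFun (congrFun h 1) 1
  simp [J2, Matrix.mul_apply, Fin.sum_univ_two] at h00 h01 h10 h11
  have hd : a.det = a 0 0 * a 1 1 - a 0 1 * a 1 0 := Matrix.det_fin_two a
  ext i j
  rw [Matrix.smul_apply, smul_eq_mul, Matrix.map_apply, div_mul_eq_mul_div, eq_div_iff hdet, hd]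
  fin_cases i <;> fin_cases j <;> simp only [Fin.zero_eta, Fin.mk_one, Fin.isValue]
  · linear_combination (a 0 1) * h00 - (a 0 0) * h10
  · linear_combination (-(a 0 0)) * h11 + (a 0 1) * h01
  · linear_combination (a 1 1) * h00 - (a 1 0) * h10
  · linear_combination (-(a 1 0)) * h11 + (a 1 1) * h01

/-- (T2-D2) Hilbert 90 for a matrix `σ`-proportional to itself -/
theorem rational_of_sigma_smul (hF : Fintype.card F = q ^ 2) {σ : F ≃+* F} (hσ : IsFrob q σ) {m : ℕ}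
    (a : Matrix (Fin m) (Fin m) F) (ha : a ≠ 0) (μ : F) (h : a.map (σ : F →+* F) = μ • a) :
    ∃ ν : F, ν ≠ 0 ∧ ∀ i j, σ (ν⁻¹ * a i j) = ν⁻¹ * a i j := by
  have hent : ∀ i j, σ (a i j) = μ * a i j := by
    intro i j
    have := congrFun (congrFun h i) j
    simpa using this
  obtain ⟨i₀, j₀, h0⟩ : ∃ i j, a i j ≠ 0 := by
    by_contra hall
    push Not at hall
    exact ha (by ext i j; exact hall i j)
  have hμ : σ μ * μ = 1 := by
    have h1 : σ (σ (a i₀ j₀)) = a i₀ j₀ := hσ.invol _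
    rw [hent, map_mul, hent] at h1
    have h2 : (σ μ * μ) * a i₀ j₀ = 1 * a i₀ j₀ := by rw [one_mul]; linear_combination h1
    exact mul_right_cancel₀ h0 h2
  have hμ0 : μ ≠ 0 := by
    rintro rfl
    rw [mul_zero] at hμ
    exact zero_ne_one hμ
  obtain ⟨ν, hν0, hν⟩ := Cfsg.Agent.Lib.Helper22.PolUn.hilbert90 hF (σ μ) (by
    rw [← hσ.pow, hσ.invol]; exact hμ)
  rw [← hσ.pow] at hν
  have hσν : σ ν = μ * ν := by
    have := congrArg σ hν
    rw [map_mul, hσ.invol, hσ.invol] at this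
    exact this
  refine ⟨ν, hν0, fun i j => ?_⟩
  rw [map_mul, map_inv₀, hσν, hent]
  field_simp

/-- `Jt t ≠ 0` -/
lemma Jt_ne_zero (t : ℕ) : (Jt t : Matrix (Fin t → Fin 2) (Fin t → Fin 2) F) ≠ 0 := by
  intro h
  have h1 := congrFun (congrFun h (fun _ => 0)) (fun _ => 1)
  unfold Jt at h1
  rw [ptens_apply] at h1
  simp [J2] at h1

/-- a factor permutation is fixed by every ring hom -/
lemma fperm_map (σ : F →+* F) (m t : ℕ) (π : Equiv.Perm (Fin t)) :
    (fperm (F := F) m t π).map σ = fperm m t π := by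
  ext x y
  rw [Matrix.map_apply, fperm_apply]
  split_ifs <;> simp

/-- (T2-D) THE HEART: a `σ`-isometry of `Jt t` in the standard wreath group is rational over `Fix σ` up to a scalar -/
theorem rational_of_isometry_Jt (hF : Fintype.card F = q ^ 2) {σ : F ≃+* F} (hσ : IsFrob q σ) {t : ℕ}
    (F₀ : Subfield F) (hF₀ : ∀ a : F, a ∈ F₀ ↔ σ a = a)
    (g : GL (Fin t → Fin 2) F) (hg : g ∈ tensorWreathStandard 2 t F)
    (hiso : (g : Matrix (Fin t → Fin 2) (Fin t → Fin 2) F)ᵀ * (Jt t : Matrix (Fin t → Fin 2) (Fin t → Fin 2) F) *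
      (g : Matrix (Fin t → Fin 2) (Fin t → Fin 2) F).map (σ : F →+* F) = Jt t) :
    ∃ μ : F, μ ≠ 0 ∧ ∀ x y, ∃ a ∈ F₀, (g : Matrix (Fin t → Fin 2) (Fin t → Fin 2) F) x y = μ * a := by
  obtain ⟨π, gs, hgs⟩ := Cfsg.Agent.Lib.Helper6.TWQ.exists_fperm_ptens g hg
  obtain ⟨A, hA⟩ : ∃ A : Fin t → Matrix (Fin 2) (Fin 2) F,
      A = fun i => ((gs i : GL (Fin 2) F) : Matrix (Fin 2) (Fin 2) F) := ⟨_, rfl⟩
  rw [← hA] at hgs
  -- the pure tensor part is a `σ`-isometry of `Jt t`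
  have hperm : (fperm (F := F) 2 t π)ᵀ * (Jt t : Matrix (Fin t → Fin 2) (Fin t → Fin 2) F) * fperm 2 t π = Jt t :=
    Cfsg.Agent.Lib.Helper20.AschLeaf.fperm_Jt t (Cfsg.Agent.Lib.Helper20.AschLeaf.wrFpermGL 2 t π)
      ⟨π, fun x y => rfl⟩
  have hpt : (ptens 2 t A)ᵀ * (Jt t : Matrix (Fin t → Fin 2) (Fin t → Fin 2) F) *
      (ptens 2 t A).map (σ : F →+* F) = Jt t := by
    rw [hgs, Matrix.transpose_mul, Matrix.map_mul, fperm_map] at hiso
    calc (ptens 2 t A)ᵀ * (Jt t : Matrix (Fin t → Fin 2) (Fin t → Fin 2) F) * (ptens 2 t A).map (σ : F →+* F)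
        = (ptens 2 t A)ᵀ * ((fperm (F := F) 2 t π)ᵀ * (Jt t : Matrix (Fin t → Fin 2) (Fin t → Fin 2) F) *
            fperm 2 t π) * (ptens 2 t A).map (σ : F →+* F) := by rw [hperm]
      _ = Jt t := by
          conv_rhs => rw [← hiso]
          simp only [Matrix.mul_assoc]
  obtain ⟨c, hc, -⟩ := Cfsg.Agent.Lib.Helper1.AFLeaf.ptens_similitude (σ := (σ : F →+* F))
    (fun _ => (J2 : Matrix (Fin 2) (Fin 2) F)) A (Jt_ne_zero t) hpt
  -- every factor is rational up to a scalar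
  have hfac : ∀ i, ∃ ν : F, ν ≠ 0 ∧ ∀ a b, σ (ν⁻¹ * A i a b) = ν⁻¹ * A i a b := by
    intro i
    have hdet : (A i).det ≠ 0 := by
      rw [hA]
      exact (Matrix.isUnits_det_units (gs i)).ne_zero
    have hne : A i ≠ 0 := by
      intro h0
      rw [h0] at hdet
      exact hdet Matrix.det_zero
    have h1 := sigma_smul_of_J2 (σ : F →+* F) (A i) hdet (c i) (hc i)
    exact rational_of_sigma_smul hF hσ (A i) hne _ h1
  choose ν hν0 hν using hfac
  refine ⟨∏ i, ν i, Finset.prod_ne_zero_iff.mpr (fun i _ => hν0 i), fun x y => ?_⟩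
  refine ⟨∏ i, (ν i)⁻¹ * A i ((x ∘ π) i) (y i), ?_, ?_⟩
  · rw [hF₀, map_prod]
    exact Finset.prod_congr rfl (fun i _ => hν i _ _)
  · rw [hgs, Cfsg.Agent.Lib.Helper20.AschLeaf.wr_fperm_mul_apply, ptens_apply, ← Finset.prod_mul_distrib]
    refine Finset.prod_congr rfl (fun i _ => ?_)
    rw [← mul_assoc, mul_inv_cancel₀ (hν0 i), one_mul]

end Cfsg.Agent.Lib.Helper14.UALeaf
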