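import Mathlib
import Cfsg.Agent.Lib.Helper15.AschUCtx
import Cfsg.Agent.Lib.Helper20.AschA89F2J
import Cfsg.Agent.Lib.Helper25.AFTns
import Cfsg.Agent.Lib.Helper23.SpPrfB5
import Cfsg.Agent.Lib.Helper14.UAT2D
import Cfsg.Agent.Lib.Helper6.UAT2A
import Cfsg.Agent.Lib.Helper6.UAT2B
import Cfsg.Agent.Lib.Helper12.UAT2E
import Cfsg.Agent.Lib.Helper12.UAT2F
import Cfsg.Agent.Lib.Helper12.UAT2H
import Cfsg.Agent.Lib.Helper29.UAT2IJ

/-!
S5663 (Aschbacher for `GU_n(q)`), SUB-BLOCK T2: `t2_of_std` (tensor wreath structure with factors of dimension 2 => class 5),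
assembled from the leaves of `notes/S5663_T2_leaves.lean`:
A, B, C = helper6 (`Helper6.UAT2A/B`), D1, D2, D = helper14 (`Helper14.UAT2D`), E, F, G, H0-H2 = helper12 (`Helper12.UAT2*`),
I, J = helper29 (`Helper29.UAT2IJ`).  Exact signature of `Cfsg.Agent.Lib.Helper15.UAschSub.t2_of_std`.
-/

set_option autoImplicit false
set_option linter.unusedSectionVars false
set_option linter.unusedVariables false

namespace Cfsg.Agent.Lib.Helper14.UALeaf
open Matrix Cfsg Cfsg.Geo Cfsg.Agent.Lib.Helper20.Asch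
open Cfsg.Agent.Lib.Helper15.AschU Cfsg.Agent.Lib.Helper15.AschForm Cfsg.Agent.Lib.Helper18.AschA89
open Cfsg.Agent.Lib.Helper6.UALeaf (exists_hyp_basis std_to_Jt coeff_fixed)
open Cfsg.Agent.Lib.Helper12.UALeaf (mem_subfieldSubgroup_of_entries exists_fixedSubfield_card two_eq_zero_of_not_odd even_of_equiv)
open Cfsg.Agent.Lib.Helper29.UALeaf (exit_orth exit_symp)

variable {F : Type*} [Field F] [Fintype F] {n q : ℕ} {H : Subgroup (GL (Fin n) F)}

/-- (WU4) [T2] = `Cfsg.Agent.Lib.Helper15.UAschSub.t2_of_std`, exact signature. -/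
theorem t2_of_std (h : UCtx q H) {σ : F ≃+* F} (hσ : IsFrob q σ) {t : ℕ} (ht : 2 ≤ t)
    (e : Fin n ≃ (Fin t → Fin 2)) (P : GL (Fin n) F) (c : F) (hc : c ≠ 0)
    (hstd : gramIn (σ : F →+* F) 1 e P = c • (1 : Matrix (Fin t → Fin 2) (Fin t → Fin 2) F))
    (hH : H ≤ tensorWreathSubgroup 2 t e P) : GeoU q H := by
  obtain ⟨S₀, θ, hθ0, hθ, hS⟩ := exists_hyp_basis h.card hσ
  obtain ⟨P', hP', hJ⟩ := std_to_Jt (σ : F →+* F) e P c hstd S₀ θ hS
  obtain ⟨F₀, hF₀, hcard⟩ := exists_fixedSubfield_card h.card hσ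
  have hcfix : σ c = c := coeff_fixed hσ e P c hstd
  have hc' : c * θ ^ t ≠ 0 := mul_ne_zero hc (pow_ne_zero _ hθ0)
  have hsig : σ (c * θ ^ t) = (-1) ^ t * (c * θ ^ t) := by
    rw [map_mul, map_pow, hcfix, hθ, neg_pow]
    ring
  rw [← hP'] at hH
  -- `H` lies in the subfield group
  have hsub : H ≤ subfieldSubgroup F₀ P' := by
    intro x hx
    obtain ⟨g, hg, rfl⟩ := (Cfsg.Agent.Lib.Helper23.SpPrfLeaf.b_mem_tws e P' x).mp (hH hx)
    have hfix := h.fixJ hσ _ hx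
    have hiso := Cfsg.Agent.Lib.Helper25.AFLeaf.fix_gramIn (σ : F →+* F) 1 e P'
      (g : Matrix (Fin t → Fin 2) (Fin t → Fin 2) F) _ (by
        rw [Units.val_mul, Units.val_mul]
        rfl) hfix
    rw [hJ, Matrix.mul_smul, Matrix.smul_mul] at hiso
    have hiso' : (g : Matrix (Fin t → Fin 2) (Fin t → Fin 2) F)ᵀ * (Jt t : Matrix (Fin t → Fin 2) (Fin t → Fin 2) F) *
        (g : Matrix (Fin t → Fin 2) (Fin t → Fin 2) F).map (σ : F →+* F) = Jt t := by
      exact smul_right_injective _ hc' hiso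
    obtain ⟨μ, hμ, hent⟩ := rational_of_isometry_Jt h.card hσ F₀ hF₀ g hg hiso'
    exact mem_subfieldSubgroup_of_entries F₀ e P' g μ hμ hent
  have ht1 : 1 ≤ t := by omega
  by_cases hq : Odd q
  · rcases Nat.even_or_odd t with hte | hto
    · -- `q` odd, `t` even: orthogonal kind
      refine exit_orth h hσ hq e P' _ hJ ?_ F₀ hF₀ hcard hsub
      rw [hsig, hte.neg_one_pow, one_mul]
    · -- `q` odd, `t` odd: symplectic kind with `ζ = c'⁻¹`
      have hsig' : σ (c * θ ^ t) = -(c * θ ^ t) := by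
        rw [hsig, hto.neg_one_pow, neg_one_mul]
      refine exit_symp h hσ e P' _ hJ (Cfsg.Agent.Lib.Helper20.AschLeaf.Jt_alternating t (by omega) (Or.inl hto))
        (even_of_equiv ht1 e) (c * θ ^ t)⁻¹ (inv_ne_zero hc') ?_ F₀ hF₀ ?_ hcard hsub
      · rw [map_inv₀, hsig', inv_neg, add_neg_cancel]
      · rw [inv_mul_cancel₀ hc', map_one]
  · -- `q` even: characteristic 2, symplectic kind with `ζ = 1`
    have h2 : (2 : F) = 0 := two_eq_zero_of_not_odd h.card hq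
    have hneg : (-1 : F) = 1 := by
      have : (1 : F) + 1 = 0 := by rw [one_add_one_eq_two]; exact h2
      exact (eq_neg_of_add_eq_zero_left this).symm
    refine exit_symp h hσ e P' _ hJ (Cfsg.Agent.Lib.Helper20.AschLeaf.Jt_alternating t (by omega) (Or.inr h2))
      (even_of_equiv ht1 e) 1 one_ne_zero ?_ F₀ hF₀ ?_ hcard hsub
    · rw [map_one, one_add_one_eq_two]; exact h2
    · rw [one_mul, hsig, hneg, one_pow, one_mul]

end Cfsg.Agent.Lib.Helper14.UALeaf
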