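import Mathlib

/-!
helper14: S3572 market "WD": elementary facts on `ZMod n` and its subgroup `P = {t | p • t = 0}`.
-/

set_option autoImplicit false

namespace Cfsg.Agent.Lib.Helper14.WDZn

open Finset

theorem nsmul_mod_of {A : Type*} [AddMonoid A] {p : ℕ} {s : A} (hs : p • s = 0) (m : ℕ) :
    m • s = (m % p) • s := by
  conv_lhs => rw [← Nat.div_add_mod m p]
  rw [add_nsmul, mul_nsmul, hs, nsmul_zero, zero_add]

theorem nsmul_congr_of {A : Type*} [AddMonoid A] {p : ℕ} {s : A} (hs : p • s = 0) {m k : ℕ}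
    (h : m ≡ k [MOD p]) : m • s = k • s := by
  rw [nsmul_mod_of hs m, nsmul_mod_of hs k, h]

variable {n : ℕ} [NeZero n]

/-- every element of `P` is a multiple of a given nonzero element of `P` -/
theorem exists_nsmul_eq {p : ℕ} (hp : p.Prime) (s t : ZMod n) (hs : p • s = 0) (hs0 : s ≠ 0)
    (ht : p • t = 0) : ∃ k < p, t = k • s := by
  have : Fact p.Prime := ⟨hp⟩
  have ho : addOrderOf s = p := addOrderOf_eq_prime hs hs0
  have hinj : Set.InjOn (fun k : ℕ => k • s) (Finset.range p : Set ℕ) := by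
    intro a ha b hb hab
    rw [Finset.coe_range, Set.mem_Iio, ← ho] at ha hb
    exact nsmul_injOn_Iio_addOrderOf ha hb hab
  have hcardQ : ((Finset.range p).image (fun k : ℕ => k • s)).card = p := by
    rw [Finset.card_image_of_injOn hinj, Finset.card_range]
  have hsub : (Finset.range p).image (fun k : ℕ => k • s) ⊆
      univ.filter (fun a : ZMod n => p • a = 0) := by
    intro x hx
    rw [Finset.mem_image] at hx
    obtain ⟨k, _, rfl⟩ := hx
    rw [Finset.mem_filter]
    refine ⟨Finset.mem_univ _, ?_⟩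
    rw [smul_comm, hs, nsmul_zero]
  have hP : (univ.filter (fun a : ZMod n => p • a = 0)).card ≤ p :=
    IsAddCyclic.card_nsmul_eq_zero_le hp.pos
  have heq := Finset.eq_of_subset_of_card_le hsub (by rw [hcardQ]; exact hP)
  have hmem : t ∈ univ.filter (fun a : ZMod n => p • a = 0) :=
    Finset.mem_filter.2 ⟨Finset.mem_univ _, ht⟩
  rw [← heq, Finset.mem_image] at hmem
  obtain ⟨k, hk, rfl⟩ := hmem
  exact ⟨k, Finset.mem_range.1 hk, rfl⟩

/-- the element `n / p` of `P` -/
theorem exists_mem_P {p : ℕ} (hp : p.Prime) (hpn : p ∣ n) :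
    ∃ s : ZMod n, p • s = 0 ∧ s ≠ 0 := by
  have hn0 : n ≠ 0 := NeZero.ne n
  refine ⟨((n / p : ℕ) : ZMod n), ?_, ?_⟩
  · rw [nsmul_eq_mul, ← Nat.cast_mul, Nat.mul_div_cancel' hpn, ZMod.natCast_self]
  · rw [Ne, ZMod.natCast_eq_zero_iff]
    intro h
    have hpos : 0 < n / p := Nat.div_pos (Nat.le_of_dvd (Nat.pos_of_ne_zero hn0) hpn) hp.pos
    have := Nat.le_of_dvd hpos h
    have h2 : n / p < n := Nat.div_lt_self (Nat.pos_of_ne_zero hn0) hp.one_lt
    omega

/-- `|P| = p` -/
theorem card_P {p : ℕ} (hp : p.Prime) (hpn : p ∣ n) :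
    (univ.filter (fun a : ZMod n => p • a = 0)).card = p := by
  obtain ⟨s, hs, hs0⟩ := exists_mem_P (n := n) hp hpn
  have : Fact p.Prime := ⟨hp⟩
  have ho : addOrderOf s = p := addOrderOf_eq_prime hs hs0
  have hinj : Set.InjOn (fun k : ℕ => k • s) (Finset.range p : Set ℕ) := by
    intro a ha b hb hab
    rw [Finset.coe_range, Set.mem_Iio, ← ho] at ha hb
    exact nsmul_injOn_Iio_addOrderOf ha hb hab
  have hcardQ : ((Finset.range p).image (fun k : ℕ => k • s)).card = p := by
    rw [Finset.card_image_of_injOn hinj, Finset.card_range]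
  have hsub : (Finset.range p).image (fun k : ℕ => k • s) ⊆
      univ.filter (fun a : ZMod n => p • a = 0) := by
    intro x hx
    rw [Finset.mem_image] at hx
    obtain ⟨k, _, rfl⟩ := hx
    rw [Finset.mem_filter]
    refine ⟨Finset.mem_univ _, ?_⟩
    rw [smul_comm, hs, nsmul_zero]
  have hP : (univ.filter (fun a : ZMod n => p • a = 0)).card ≤ p :=
    IsAddCyclic.card_nsmul_eq_zero_le hp.pos
  apply le_antisymm hP
  calc p = ((Finset.range p).image (fun k : ℕ => k • s)).card := hcardQ.symm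
    _ ≤ _ := Finset.card_le_card hsub

/-- a natural number coprime to `n` in a given nonzero class mod `p` -/
theorem exists_coprime_modEq {p : ℕ} (hp : p.Prime) (hpn : p ∣ n) (k : ℕ) (hk : ¬ p ∣ k) :
    ∃ m : ℕ, m.Coprime n ∧ m ≡ k [MOD p] := by
  have : Fact p.Prime := ⟨hp⟩
  have hcop : k.Coprime p := ((Nat.Prime.coprime_iff_not_dvd hp).2 hk).symm
  obtain ⟨u, hu⟩ := ZMod.unitsMap_surjective hpn (ZMod.unitOfCoprime k hcop)
  refine ⟨(u : ZMod n).val, ZMod.val_coe_unit_coprime u, ?_⟩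
  have h1 : ((ZMod.unitsMap hpn u : (ZMod p)ˣ) : ZMod p) = (k : ZMod p) := by
    rw [hu, ZMod.coe_unitOfCoprime]
  rw [ZMod.unitsMap_val] at h1
  rw [← ZMod.natCast_eq_natCast_iff, ZMod.natCast_val]
  exact h1

end Cfsg.Agent.Lib.Helper14.WDZn
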