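import Mathlib
import Cfsg.Agent.Lib.Helper29.WDDefs
import Cfsg.Agent.Lib.Helper29.WDBAS
import Cfsg.Agent.Lib.Helper14.WDZn

/-!
helper14: S3572 market "WD", leaf MULT in `_of` form (inputs: `frob_r`, `symm` as hypotheses).
(M1) prime multipliers, (M2) all multipliers coprime to `n`, (M3) rational closure.
-/

set_option autoImplicit false
set_option linter.unusedSectionVars false
set_option linter.unusedVariables false

namespace Cfsg.Agent.Lib.Helper14.WDLeaf

open Finset DihedralGroup
open Cfsg.Agent.Lib.Helper19.SchurCyclic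
open Cfsg.Agent.Lib.Helper7.DHB
open Cfsg.Agent.Lib.Helper29.WD

variable {n : ℕ} [NeZero n] {U : Type*} [Group U] {star : U → DihedralGroup n → DihedralGroup n}
variable {T T' T₁ T₂ : Finset (DihedralGroup n)}

/-- multiplication by a number coprime to `n` is injective on `ZMod n` -/
theorem nsmul_injective_of_coprime {m : ℕ} (hm : m.Coprime n) :
    Function.Injective (fun s : ZMod n => m • s) := by
  intro a b hab
  simp only [nsmul_eq_mul] at hab
  have hu : IsUnit ((m : ℕ) : ZMod n) := (ZMod.isUnit_iff_coprime m n).2 hm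
  exact hu.mul_left_cancel hab

theorem mem_mulSet {m : ℕ} {S : Finset (ZMod n)} {i : ZMod n} :
    i ∈ mulSet m S ↔ ∃ s ∈ S, m • s = i := by
  unfold mulSet
  rw [Finset.mem_image]

theorem mulSet_one (S : Finset (ZMod n)) : mulSet 1 S = S := by
  ext i
  rw [mem_mulSet]
  constructor
  · rintro ⟨s, hs, rfl⟩
    rwa [one_nsmul]
  · intro hi
    exact ⟨i, hi, one_nsmul i⟩

theorem mulSet_mulSet (a b : ℕ) (S : Finset (ZMod n)) : mulSet a (mulSet b S) = mulSet (a * b) S := by
  ext i
  simp only [mem_mulSet]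
  constructor
  · rintro ⟨s, ⟨s', hs', rfl⟩, rfl⟩
    exact ⟨s', hs', by rw [mul_comm, mul_nsmul]⟩
  · rintro ⟨s, hs, rfl⟩
    exact ⟨b • s, ⟨s, hs, rfl⟩, by rw [mul_comm, mul_nsmul]⟩

theorem mulSet_congr {a b : ℕ} (h : a ≡ b [MOD n]) (S : Finset (ZMod n)) : mulSet a S = mulSet b S := by
  ext i
  simp only [mem_mulSet]
  have hn : ∀ s : ZMod n, n • s = 0 := fun s => by
    rw [nsmul_eq_mul, ZMod.natCast_self, zero_mul]
  constructor
  · rintro ⟨s, hs, rfl⟩
    exact ⟨s, hs, (Cfsg.Agent.Lib.Helper14.WDZn.nsmul_congr_of (hn s) h).symm⟩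
  · rintro ⟨s, hs, rfl⟩
    exact ⟨s, hs, Cfsg.Agent.Lib.Helper14.WDZn.nsmul_congr_of (hn s) h⟩

/-- (M1), `_of` form: the level set `{coeff η(T)^q = 1 mod q}`. -/
theorem mult_prime_of {q : ℕ} [Fact q.Prime] (hax : Ax star) (hqn : ¬ q ∣ n) (hT : Inv star T)
    (hfrob : ∀ i : ZMod n, ((eta (ZMod q) T) ^ q).coeff (r i) =
      (((XX T).filter (fun s => q • s = i)).card : ZMod q)) :
    ∃ T' : Finset (DihedralGroup n), Inv star T' ∧ XX T' = mulSet q (XX T) := by
  classical
  have hq : q.Prime := Fact.out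
  have hcop : q.Coprime n := (Nat.Prime.coprime_iff_not_dvd hq).2 hqn
  refine ⟨univ.filter (fun g => ((eta (ZMod q) T) ^ q).coeff g = 1), ?_, ?_⟩
  · exact Cfsg.Agent.Lib.Helper29.WDLeaf.inv_filter hax
      (fun g => ((eta (ZMod q) T) ^ q).coeff g)
      (fun u g => Cfsg.Agent.Lib.Helper29.WDLeaf.coeff_pow_star hax hT (ZMod q) q u g)
      (fun c => c = 1) Cfsg.Agent.Lib.Helper29.WDLeaf.inv_univ
  · ext i
    rw [mem_XX, Finset.mem_filter, mem_mulSet, hfrob i]
    have hle : ((XX T).filter (fun s => q • s = i)).card ≤ 1 := by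
      rw [Finset.card_le_one]
      intro a ha b hb
      rw [Finset.mem_filter] at ha hb
      exact nsmul_injective_of_coprime hcop (ha.2.trans hb.2.symm)
    constructor
    · rintro ⟨_, h1⟩
      have hne : ((XX T).filter (fun s => q • s = i)).card ≠ 0 := by
        intro h0
        rw [h0, Nat.cast_zero] at h1
        exact zero_ne_one h1
      obtain ⟨s, hs⟩ := Finset.card_pos.1 (Nat.pos_of_ne_zero hne)
      rw [Finset.mem_filter] at hs
      exact ⟨s, hs.1, hs.2⟩
    · rintro ⟨s, hs, hsi⟩
      refine ⟨Finset.mem_univ _, ?_⟩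
      have hpos : 0 < ((XX T).filter (fun s => q • s = i)).card :=
        Finset.card_pos.2 ⟨s, Finset.mem_filter.2 ⟨hs, hsi⟩⟩
      have : ((XX T).filter (fun s => q • s = i)).card = 1 := by omega
      rw [this, Nat.cast_one]

/-- (M2), `_of` form: induction on the prime factorisation of an odd representative. -/
theorem mult_of (hn : 3 ≤ n)
    (hprime : ∀ (q : ℕ) (T : Finset (DihedralGroup n)), q.Prime → q ≠ 2 → ¬ q ∣ n → Inv star T →
      ∃ T' : Finset (DihedralGroup n), Inv star T' ∧ XX T' = mulSet q (XX T))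
    (m : ℕ) (hm : m.Coprime n) (hT : Inv star T) :
    ∃ T' : Finset (DihedralGroup n), Inv star T' ∧ XX T' = mulSet m (XX T) := by
  -- odd case by strong induction
  have hodd : ∀ m : ℕ, Odd m → m.Coprime n →
      ∃ T' : Finset (DihedralGroup n), Inv star T' ∧ XX T' = mulSet m (XX T) := by
    intro m
    induction m using Nat.strong_induction_on with
    | _ m ih =>
      intro hmo hmc
      by_cases h1 : m = 1
      · subst h1
        exact ⟨T, hT, (mulSet_one _).symm⟩
      · obtain ⟨q, hq, hqm⟩ := Nat.exists_prime_and_dvd h1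
        obtain ⟨m', rfl⟩ := hqm
        have hq2 : q ≠ 2 := by
          rintro rfl
          exact (Nat.not_even_iff_odd.2 hmo) (even_two.mul_right m')
        have hqn : ¬ q ∣ n := by
          intro hqn
          have := Nat.dvd_gcd (Dvd.intro m' rfl) hqn
          rw [hmc] at this
          exact hq.one_lt.ne' (Nat.dvd_one.1 this)
        have hm'pos : 0 < m' := by
          rcases Nat.eq_zero_or_pos m' with h | h
          · subst h
            rw [mul_zero] at hmo
            exact absurd hmo (by decide)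
          · exact h
        have hlt : m' < q * m' := by
          have := hq.one_lt
          nlinarith
        have hm'o : Odd m' := by
          rcases Nat.even_or_odd m' with h | h
          · exact absurd (h.mul_left q) (Nat.not_even_iff_odd.2 hmo)
          · exact h
        have hm'c : m'.Coprime n := Nat.Coprime.coprime_dvd_left (Dvd.intro_left q rfl) hmc
        obtain ⟨T'', hT'', hX''⟩ := ih m' hlt hm'o hm'c
        obtain ⟨T', hT', hX'⟩ := hprime q T'' hq hq2 hqn hT''
        refine ⟨T', hT', ?_⟩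
        rw [hX', hX'', mulSet_mulSet]
  rcases Nat.even_or_odd m with he | ho
  · -- `n` is odd, use `m + n`
    have hno : Odd n := by
      rcases Nat.even_or_odd n with h | h
      · exfalso
        have h2 : 2 ∣ Nat.gcd m n := Nat.dvd_gcd he.two_dvd h.two_dvd
        rw [hm] at h2
        omega
      · exact h
    have hmo : Odd (m + n) := he.add_odd hno
    have hmc : (m + n).Coprime n := by
      rw [Nat.coprime_add_self_left]
      exact hm
    obtain ⟨T', hT', hX'⟩ := hodd (m + n) hmo hmc
    refine ⟨T', hT', ?_⟩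
    rw [hX']
    apply mulSet_congr
    exact Nat.add_modEq_right
  · exact hodd m ho hm

/-- (M3), `_of` form: rational closure. -/
theorem rat_closure_of
    (hmult : ∀ m : ℕ, m.Coprime n →
      ∃ T' : Finset (DihedralGroup n), Inv star T' ∧ XX T' = mulSet m (XX T)) :
    ∃ W : Finset (DihedralGroup n), Inv star W ∧
      ∀ i : ZMod n, i ∈ XX W ↔ ∃ m : ℕ, m.Coprime n ∧ ∃ s ∈ XX T, i = m • s := by
  classical
  let f : ℕ → Finset (DihedralGroup n) := fun m =>
    if h : m.Coprime n then Classical.choose (hmult m h) else ∅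
  have hf : ∀ m, m.Coprime n → Inv star (f m) ∧ XX (f m) = mulSet m (XX T) := by
    intro m h
    show Inv star (if h : m.Coprime n then Classical.choose (hmult m h) else ∅) ∧
      XX (if h : m.Coprime n then Classical.choose (hmult m h) else ∅) = mulSet m (XX T)
    rw [dif_pos h]
    exact Classical.choose_spec (hmult m h)
  have hf0 : ∀ m, ¬ m.Coprime n → f m = ∅ := by
    intro m h
    show (if h : m.Coprime n then Classical.choose (hmult m h) else ∅) = ∅
    rw [dif_neg h]
  refine ⟨(Finset.range n).biUnion f, ?_, ?_⟩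
  · apply Cfsg.Agent.Lib.Helper29.WDLeaf.inv_biUnion
    intro m _
    by_cases h : m.Coprime n
    · exact (hf m h).1
    · rw [hf0 m h]
      exact Cfsg.Agent.Lib.Helper29.WDLeaf.inv_empty
  · intro i
    rw [mem_XX, Finset.mem_biUnion]
    constructor
    · rintro ⟨m, _, hm⟩
      by_cases h : m.Coprime n
      · have h2 : i ∈ XX (f m) := mem_XX.2 hm
        rw [(hf m h).2, mem_mulSet] at h2
        obtain ⟨s, hs, rfl⟩ := h2
        exact ⟨m, h, s, hs, rfl⟩
      · rw [hf0 m h] at hm
        exact absurd hm (Finset.notMem_empty _)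
    · rintro ⟨m, hm, s, hs, rfl⟩
      have hn0 : n ≠ 0 := NeZero.ne n
      have hmod : (m % n).Coprime n := by
        show Nat.gcd (m % n) n = 1
        rw [← Nat.gcd_rec, Nat.gcd_comm]
        exact hm
      refine ⟨m % n, Finset.mem_range.2 (Nat.mod_lt _ (Nat.pos_of_ne_zero hn0)), ?_⟩
      have h2 : m • s ∈ XX (f (m % n)) := by
        rw [(hf _ hmod).2, mem_mulSet]
        refine ⟨s, hs, ?_⟩
        have hns : n • s = 0 := by rw [nsmul_eq_mul, ZMod.natCast_self, zero_mul]
        exact (Cfsg.Agent.Lib.Helper14.WDZn.nsmul_mod_of hns m).symm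
      exact mem_XX.1 h2

end Cfsg.Agent.Lib.Helper14.WDLeaf
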