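import Mathlib
import Cfsg.Agent.Lib.Helper29.WDDefs
import Cfsg.Agent.Lib.Helper7.DHBGP
import Cfsg.Agent.Lib.Helper7.DHB2S
import Cfsg.Agent.Lib.Helper15.WDFROB
import Cfsg.Agent.Lib.Helper21.WDF12
import Cfsg.Agent.Lib.Helper14.WDMULTOf

/-!
helper14: S3572 market "WD", leaf MULT (exact): (M1) prime multipliers, (M2) multipliers, (M3) rational closure.
-/

set_option autoImplicit false
set_option linter.unusedSectionVars false
set_option linter.unusedVariables false

namespace Cfsg.Agent.Lib.Helper14.WDLeaf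

open Finset DihedralGroup
open Cfsg.Agent.Lib.Helper19.SchurCyclic
open Cfsg.Agent.Lib.Helper7.DHB
open Cfsg.Agent.Lib.Helper29.WD

variable {n : ℕ} [NeZero n] {U : Type*} [Group U] {star : U → DihedralGroup n → DihedralGroup n}
variable {T T' T₁ T₂ : Finset (DihedralGroup n)}

/-- (M1) the level set `{coeff η(T)^q = 1 mod q}`; `frob_r`, `s ↦ q • s` injective. -/
theorem mult_prime {q : ℕ} (hax : Ax star) (hprim : Prim star) (hq : q.Prime) (hq2 : q ≠ 2) (hqn : ¬ q ∣ n)
    (hT : Inv star T) : ∃ T' : Finset (DihedralGroup n), Inv star T' ∧ XX T' = mulSet q (XX T) := by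
  have : Fact q.Prime := ⟨hq⟩
  exact mult_prime_of hax hqn hT
    (fun i => Cfsg.Agent.Lib.Helper15.WDLeaf.frob_r hq2 T
      (Cfsg.Agent.Lib.Helper21.WDLeaf.symm hax hprim hT) i)

/-- (M2) `m' = m` or `m + n` odd, induction on the prime factorisation. -/
theorem mult (hax : Ax star) (hprim : Prim star) (hn : 3 ≤ n) (m : ℕ) (hm : m.Coprime n)
    (hT : Inv star T) : ∃ T' : Finset (DihedralGroup n), Inv star T' ∧ XX T' = mulSet m (XX T) :=
  mult_of hn (fun q T hq hq2 hqn hT => mult_prime hax hprim hq hq2 hqn hT) m hm hT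

/-- (M3) rational closure. -/
theorem rat_closure (hax : Ax star) (hprim : Prim star) (hn : 3 ≤ n) (hT : Inv star T) :
    ∃ W : Finset (DihedralGroup n), Inv star W ∧
      ∀ i : ZMod n, i ∈ XX W ↔ ∃ m : ℕ, m.Coprime n ∧ ∃ s ∈ XX T, i = m • s :=
  rat_closure_of (fun m hm => mult hax hprim hn m hm hT)

end Cfsg.Agent.Lib.Helper14.WDLeaf
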