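import Mathlib
import Cfsg.Agent.Lib.Helper29.WDDefs
import Cfsg.Agent.Lib.Helper7.DHBGP
import Cfsg.Agent.Lib.Helper7.DHB2S
import Cfsg.Agent.Lib.Helper14.WDZn

/-!
helper14: S3572 market "WD", leaf SUBP.
-/

set_option autoImplicit false
set_option linter.unusedSectionVars false
set_option linter.unusedVariables false

namespace Cfsg.Agent.Lib.Helper14.WDLeaf

open Finset DihedralGroup
open Cfsg.Agent.Lib.Helper19.SchurCyclic
open Cfsg.Agent.Lib.Helper7.DHB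
open Cfsg.Agent.Lib.Helper29.WD

variable {n : ℕ} [NeZero n] {U : Type*} [Group U] {star : U → DihedralGroup n → DihedralGroup n}
variable {T T' T₁ T₂ : Finset (DihedralGroup n)}

/-- a symmetric `X_P ⊆ P ∖ 0` with `X_P + X_P ⊆ X_P ∪ 0` is empty or `P ∖ 0` (`X_P ∪ 0` is a subgroup of `P`). -/
theorem subgroup_of_P {p : ℕ} (hp : p.Prime) (hpn : p ∣ n) (XP : Finset (ZMod n)) (hP : ∀ s ∈ XP, p • s = 0 ∧ s ≠ 0)
    (hneg : ∀ s ∈ XP, -s ∈ XP) (hadd : ∀ s ∈ XP, ∀ s' ∈ XP, s + s' ≠ 0 → s + s' ∈ XP) :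
    XP = ∅ ∨ ∀ t : ZMod n, p • t = 0 → t ≠ 0 → t ∈ XP := by
  by_cases hX : XP = ∅
  · exact Or.inl hX
  right
  obtain ⟨s, hs⟩ := Finset.nonempty_iff_ne_empty.2 hX
  obtain ⟨hps, hs0⟩ := hP s hs
  have : Fact p.Prime := ⟨hp⟩
  have ho : addOrderOf s = p := addOrderOf_eq_prime hps hs0
  have hmul : ∀ k : ℕ, k + 1 < p → (k + 1) • s ∈ XP := by
    intro k
    induction k with
    | zero => intro _; rw [zero_add, one_nsmul]; exact hs
    | succ k ih =>
      intro hk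
      have h1 := ih (by omega)
      have h2 : (k + 1 + 1) • s ≠ 0 := by
        apply nsmul_ne_zero_of_lt_addOrderOf (by omega)
        rw [ho]; exact hk
      rw [succ_nsmul] at h2 ⊢
      exact hadd _ h1 _ hs h2
  intro t ht ht0
  obtain ⟨k, hk, rfl⟩ := Cfsg.Agent.Lib.Helper14.WDZn.exists_nsmul_eq hp s t hps hs0 ht
  rcases Nat.eq_zero_or_pos k with rfl | hk0
  · rw [zero_nsmul] at ht0; exact absurd rfl ht0
  · obtain ⟨k', rfl⟩ : ∃ k', k = k' + 1 := ⟨k - 1, by omega⟩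
    exact hmul k' hk

end Cfsg.Agent.Lib.Helper14.WDLeaf
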