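import Mathlib
import Cfsg.Agent.Lib.Helper29.WDDefs
import Cfsg.Agent.Lib.Helper7.DHBGP
import Cfsg.Agent.Lib.Helper7.DHB2S
import Cfsg.Agent.Lib.Helper14.WDZn

/-!
helper14: S3572 market "WD", leaf UNITS: the power maps coprime to `n` on `ZMod n`.
-/

set_option autoImplicit false
set_option linter.unusedSectionVars false
set_option linter.unusedVariables false

namespace Cfsg.Agent.Lib.Helper14.WDLeaf

open Finset DihedralGroup
open Cfsg.Agent.Lib.Helper19.SchurCyclic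
open Cfsg.Agent.Lib.Helper7.DHB
open Cfsg.Agent.Lib.Helper29.WD

variable {n : ℕ} [NeZero n] {U : Type*} [Group U] {star : U → DihedralGroup n → DihedralGroup n}
variable {T T' T₁ T₂ : Finset (DihedralGroup n)}

/-- the power maps coprime to `n` are transitive on `P ∖ 0`. -/
theorem exists_coprime_smul_eq {p : ℕ} (hp : p.Prime) (hpn : p ∣ n) (s t : ZMod n) (hs : p • s = 0) (hs0 : s ≠ 0)
    (ht : p • t = 0) (ht0 : t ≠ 0) : ∃ m : ℕ, m.Coprime n ∧ t = m • s := by
  obtain ⟨k, hk, rfl⟩ := Cfsg.Agent.Lib.Helper14.WDZn.exists_nsmul_eq hp s t hs hs0 ht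
  have hk0 : k ≠ 0 := by
    rintro rfl
    rw [zero_nsmul] at ht0
    exact ht0 rfl
  have hpk : ¬ p ∣ k := fun h => by
    have := Nat.le_of_dvd (Nat.pos_of_ne_zero hk0) h
    omega
  obtain ⟨m, hm, hmk⟩ := Cfsg.Agent.Lib.Helper14.WDZn.exists_coprime_modEq hp hpn k hpk
  exact ⟨m, hm, (Cfsg.Agent.Lib.Helper14.WDZn.nsmul_congr_of hs hmk).symm⟩

/-- a generator of `ZMod n` is a unit -/
theorem isUnit_of_zmultiples_eq_top (s : ZMod n) (hs : AddSubgroup.zmultiples s = ⊤) : IsUnit s := by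
  have h1 : (1 : ZMod n) ∈ AddSubgroup.zmultiples s := by rw [hs]; trivial
  obtain ⟨k, hk⟩ := AddSubgroup.mem_zmultiples_iff.1 h1
  rw [zsmul_eq_mul] at hk
  exact IsUnit.of_mul_eq_one _ (by rw [mul_comm]; exact hk)

/-- the power maps coprime to `n` are transitive on the generators. -/
theorem exists_coprime_smul_eq_of_gen (s t : ZMod n) (hs : AddSubgroup.zmultiples s = ⊤)
    (ht : AddSubgroup.zmultiples t = ⊤) : ∃ m : ℕ, m.Coprime n ∧ t = m • s := by
  obtain ⟨us, rfl⟩ := isUnit_of_zmultiples_eq_top s hs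
  obtain ⟨ut, rfl⟩ := isUnit_of_zmultiples_eq_top t ht
  refine ⟨((ut * us⁻¹ : (ZMod n)ˣ) : ZMod n).val, ZMod.val_coe_unit_coprime _, ?_⟩
  rw [nsmul_eq_mul, ZMod.natCast_val, ZMod.cast_id', id, Units.val_mul, mul_assoc, Units.inv_mul,
    mul_one]

/-- the unique element of order two of `ZMod n` -/
theorem eq_half_of_two_nsmul (h2 : 2 ∣ n) (x : ZMod n) (hx0 : x ≠ 0) (hx : 2 • x = 0) :
    x = ((n / 2 : ℕ) : ZMod n) := by
  have hn0 : n ≠ 0 := NeZero.ne n
  have hval : x.val < n := ZMod.val_lt x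
  have hx' : ((2 * x.val : ℕ) : ZMod n) = 0 := by
    rw [Nat.cast_mul, ZMod.natCast_val, ZMod.cast_id', id, Nat.cast_ofNat, ← hx, nsmul_eq_mul,
      Nat.cast_ofNat]
  rw [ZMod.natCast_eq_zero_iff] at hx'
  have hpos : 0 < x.val := by
    rw [Nat.pos_iff_ne_zero, Ne, ZMod.val_eq_zero]
    exact hx0
  obtain ⟨c, hc⟩ := hx'
  have hc1 : c = 1 := by
    have h3 : n * c < n * 2 := by rw [← hc]; omega
    have h4 : c < 2 := Nat.lt_of_mul_lt_mul_left h3
    have h5 : c ≠ 0 := by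
      rintro rfl
      omega
    omega
  rw [hc1, mul_one] at hc
  have : x.val = n / 2 := by omega
  rw [← this, ZMod.natCast_val, ZMod.cast_id', id]

/-- `z + s = m • s` with `m = 1 + 2^(j-1) n'` coprime to `n`, for `s` of order `2^j ≥ 4`. -/
theorem exists_coprime_smul_eq_add_half (h2 : 2 ∣ n) (s : ZMod n) (hs : ∃ j, 2 ^ j • s = 0) (hs2 : 2 • s ≠ 0) :
    ∃ m : ℕ, m.Coprime n ∧ m • s = s + ((n / 2 : ℕ) : ZMod n) := by
  classical
  have hn0 : n ≠ 0 := NeZero.ne n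
  -- minimal `j`
  let j := Nat.find hs
  have hj : 2 ^ j • s = 0 := Nat.find_spec hs
  have hjmin : ∀ i < j, 2 ^ i • s ≠ 0 := fun i hi => Nat.find_min hs hi
  have hs0 : s ≠ 0 := by
    rintro rfl
    exact hs2 (nsmul_zero _)
  have hj2 : 2 ≤ j := by
    by_contra hlt
    have : j = 0 ∨ j = 1 := by omega
    rcases this with h | h
    · rw [h, pow_zero, one_nsmul] at hj; exact hs0 hj
    · rw [h, pow_one] at hj; exact hs2 hj
  obtain ⟨j', hj'⟩ : ∃ j', j = j' + 1 := ⟨j - 1, by omega⟩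
  have hj'1 : 1 ≤ j' := by omega
  have hz : 2 ^ j' • s = ((n / 2 : ℕ) : ZMod n) := by
    apply eq_half_of_two_nsmul h2
    · exact hjmin j' (by omega)
    · rw [hj', pow_succ, mul_nsmul] at hj; exact hj
  -- `n = 2 ^ e * n'` with `n'` odd
  obtain ⟨e, n', hn'odd, hne⟩ := Nat.exists_eq_two_pow_mul_odd hn0
  refine ⟨1 + 2 ^ j' * n', ?_, ?_⟩
  · rw [hne]
    apply Nat.Coprime.mul_right
    · apply Nat.Coprime.pow_right
      rw [Nat.coprime_two_right]
      have hev : Even (2 ^ j' * n') := by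
        apply Even.mul_right
        exact (Nat.even_pow' (by omega)).2 even_two
      exact Even.one_add hev
    · rw [Nat.coprime_add_mul_right_left]
      exact Nat.coprime_one_left n'
  · rw [add_nsmul, one_nsmul, mul_nsmul, hz]
    congr 1
    obtain ⟨c, hc⟩ := hn'odd
    have h2z : 2 • ((n / 2 : ℕ) : ZMod n) = 0 := by
      rw [nsmul_eq_mul, Nat.cast_ofNat, ← Nat.cast_ofNat (R := ZMod n), ← Nat.cast_mul,
        Nat.mul_div_cancel' h2, ZMod.natCast_self]
    rw [hc, add_nsmul, one_nsmul, mul_nsmul, h2z, nsmul_zero, zero_add]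

/-- multiplication by a number coprime to `n` preserves `P`-invariance off `P` -/
theorem pinvoff_mulSet {p m : ℕ} (hp : p.Prime) (hpn : p ∣ n) (hm : m.Coprime n) (X : Finset (ZMod n))
    (hX : PInvOff p X) : PInvOff p (mulSet m X) := by
  intro i hi hpi t ht
  unfold mulSet at hi ⊢
  rw [Finset.mem_image] at hi ⊢
  obtain ⟨x, hx, rfl⟩ := hi
  have hpx : p • x ≠ 0 := by
    intro h
    apply hpi
    rw [smul_comm, h, nsmul_zero]
  -- inverse of `m` mod `n`
  have hu : IsUnit ((m : ℕ) : ZMod n) := (ZMod.isUnit_iff_coprime m n).2 hm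
  obtain ⟨u, hu'⟩ := hu
  let t' : ZMod n := ((u⁻¹ : (ZMod n)ˣ) : ZMod n) * t
  have hmt' : m • t' = t := by
    rw [nsmul_eq_mul, ← hu', ← mul_assoc, Units.mul_inv, one_mul]
  have hpt' : p • t' = 0 := by
    show p • (((u⁻¹ : (ZMod n)ˣ) : ZMod n) * t) = 0
    rw [nsmul_eq_mul, mul_left_comm, ← nsmul_eq_mul, ht, mul_zero]
  refine ⟨x + t', hX x hx hpx t' hpt', ?_⟩
  rw [nsmul_add, hmt']

end Cfsg.Agent.Lib.Helper14.WDLeaf
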