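import Mathlib
import Cfsg.Agent.Lib.Helper29.WDDefs
import Cfsg.Agent.Lib.Helper29.WDBAS
import Cfsg.Agent.Lib.Helper7.DHBGP
import Cfsg.Agent.Lib.Helper7.DHB2S
import Cfsg.Agent.Lib.Helper15.WDSQ
import Cfsg.Agent.Lib.Helper21.WDF12
import Cfsg.Agent.Lib.Helper21.WDLEMF
import Cfsg.Agent.Lib.Helper14.WDUNITS

/-!
helper14: S3572 market "WD", leaf SUBTWO: SUB(Z) for every even `n`.
-/

set_option autoImplicit false
set_option linter.unusedSectionVars false
set_option linter.unusedVariables false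

namespace Cfsg.Agent.Lib.Helper14.WDLeaf

open Finset DihedralGroup
open Cfsg.Agent.Lib.Helper19.SchurCyclic
open Cfsg.Agent.Lib.Helper7.DHB
open Cfsg.Agent.Lib.Helper29.WD

variable {n : ℕ} [NeZero n] {U : Type*} [Group U] {star : U → DihedralGroup n → DihedralGroup n}
variable {T T' T₁ T₂ : Finset (DihedralGroup n)}

/-- a finite set with a fixed-point-free involution has even cardinality -/
theorem even_card_of_involution {α : Type*} [DecidableEq α] (S : Finset α) (g : α → α)
    (hmem : ∀ a ∈ S, g a ∈ S) (hinv : ∀ a ∈ S, g (g a) = a) (hfix : ∀ a ∈ S, g a ≠ a) :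
    Even S.card := by
  have h := Finset.sum_involution (s := S) (f := fun _ => (1 : ZMod 2)) (fun a _ => g a)
    (fun a _ => by decide) (fun a ha _ => hfix a ha) hmem hinv
  rw [Finset.sum_const, nsmul_eq_mul, mul_one] at h
  exact (ZMod.natCast_eq_zero_iff_even).1 h

/-- the element `z = n / 2` of order two -/
theorem half_props (h2n : 2 ∣ n) (hn : 3 ≤ n) :
    2 • ((n / 2 : ℕ) : ZMod n) = 0 ∧ ((n / 2 : ℕ) : ZMod n) ≠ 0 := by
  constructor
  · rw [nsmul_eq_mul, Nat.cast_ofNat, ← Nat.cast_ofNat (R := ZMod n), ← Nat.cast_mul,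
      Nat.mul_div_cancel' h2n, ZMod.natCast_self]
  · rw [Ne, ZMod.natCast_eq_zero_iff]
    intro h
    have hpos : 0 < n / 2 := by omega
    have := Nat.le_of_dvd hpos h
    omega

/-- `dif Y Y i` is even for a `z`-invariant `Y` -/
theorem even_dif_of_pinv (h2n : 2 ∣ n) (hn : 3 ≤ n) (Y : Finset (ZMod n)) (hY : PInv 2 Y) (i : ZMod n) :
    Even (dif Y Y i) := by
  obtain ⟨hz2, hz0⟩ := half_props h2n hn
  unfold dif
  apply even_card_of_involution _ (fun q => (q.1 + ((n / 2 : ℕ) : ZMod n), q.2 + ((n / 2 : ℕ) : ZMod n)))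
  · intro a ha
    rw [Finset.mem_filter, Finset.mem_product] at ha ⊢
    refine ⟨⟨hY _ ha.1.1 _ hz2, hY _ ha.1.2 _ hz2⟩, ?_⟩
    rw [← ha.2]
    exact add_sub_add_right_eq_sub _ _ _
  · intro a _
    have hzz : ((n / 2 : ℕ) : ZMod n) + ((n / 2 : ℕ) : ZMod n) = 0 := by rw [← two_nsmul]; exact hz2
    ext
    · show a.1 + _ + _ = a.1
      rw [add_assoc, hzz, add_zero]
    · show a.2 + _ + _ = a.2
      rw [add_assoc, hzz, add_zero]
  · intro a _ h
    have := congrArg Prod.fst h
    simp only [add_eq_left] at this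
    exact hz0 this

/-- SUB(Z), every even `n`. -/
theorem sub_two (hax : Ax star) (hprim : Prim star) (hn : 3 ≤ n) (h2n : 2 ∣ n)
    (hT : Inv star T) (h1 : (1 : DihedralGroup n) ∉ T) (hY : PInv 2 (YY T)) : Triv T := by
  classical
  have hX := Cfsg.Agent.Lib.Helper21.WDLeaf.symm hax hprim hT
  obtain ⟨hz2, hz0⟩ := half_props h2n hn
  -- the odd level set of `η(T)²`, minus `1`
  have hO : Inv star ((univ.filter (fun g => Odd (((eta ℕ T) ^ 2).coeff g))).erase 1) := by
    apply Cfsg.Agent.Lib.Helper29.WDLeaf.inv_erase_one hax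
    exact Cfsg.Agent.Lib.Helper29.WDLeaf.inv_filter hax (fun g => ((eta ℕ T) ^ 2).coeff g)
      (fun u g => Cfsg.Agent.Lib.Helper29.WDLeaf.coeff_pow_star hax hT ℕ 2 u g)
      (fun c => Odd c) Cfsg.Agent.Lib.Helper29.WDLeaf.inv_univ
  have hOempty : (univ.filter (fun g => Odd (((eta ℕ T) ^ 2).coeff g))).erase 1 = ∅ := by
    by_contra hne
    have hne' := Finset.nonempty_iff_ne_empty.2 hne
    obtain ⟨_, ⟨j, hj⟩⟩ := Cfsg.Agent.Lib.Helper21.WDLeaf.F2 hax hprim hn hO
      (Finset.notMem_erase _ _) hne'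
    rw [mem_YY, Finset.mem_erase, Finset.mem_filter,
      Cfsg.Agent.Lib.Helper15.WDLeaf.coeff_sq_sr T hX j] at hj
    exact (Nat.not_even_iff_odd.2 hj.2.2) (even_two_mul _)
  have heven : ∀ i : ZMod n, i ≠ 0 → Even (rep (XX T) (XX T) i) := by
    intro i hi
    have h1' : r i ∉ (univ.filter (fun g => Odd (((eta ℕ T) ^ 2).coeff g))).erase 1 := by
      rw [hOempty]; exact Finset.notMem_empty _
    rw [Finset.mem_erase, Finset.mem_filter, Cfsg.Agent.Lib.Helper15.WDLeaf.coeff_sq_r T i] at h1'
    have hr1 : r i ≠ (1 : DihedralGroup n) := by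
      rw [DihedralGroup.one_def]
      intro h
      exact hi (r.inj h)
    have hnodd : ¬ Odd (rep (XX T) (XX T) i + dif (YY T) (YY T) i) := fun h =>
      h1' ⟨hr1, Finset.mem_univ _, h⟩
    have he := Nat.not_odd_iff_even.1 hnodd
    have hd := even_dif_of_pinv h2n hn (YY T) hY i
    exact (Nat.even_add.1 he).2 hd
  have hXoff : PInvOff 2 (XX T) := by
    intro s hs h2s t ht
    by_cases ht0 : t = 0
    · rw [ht0, add_zero]; exact hs
    have htz : t = ((n / 2 : ℕ) : ZMod n) := eq_half_of_two_nsmul h2n t ht0 ht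
    rw [htz]
    by_contra hsz
    -- the pairs with sum `2 s`, minus `(s, s)`, carry the swap involution without fixed points
    have hev := heven (2 • s) h2s
    unfold rep at hev
    have hmem : (s, s) ∈ ((XX T) ×ˢ (XX T)).filter (fun q => q.1 + q.2 = 2 • s) := by
      rw [Finset.mem_filter, Finset.mem_product]
      exact ⟨⟨hs, hs⟩, (two_nsmul s).symm⟩
    have hev2 : Even ((((XX T) ×ˢ (XX T)).filter (fun q => q.1 + q.2 = 2 • s)).erase (s, s)).card := by
      apply even_card_of_involution _ (fun q => (q.2, q.1))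
      · intro a ha
        rw [Finset.mem_erase, Finset.mem_filter, Finset.mem_product] at ha ⊢
        refine ⟨?_, ⟨ha.2.1.2, ha.2.1.1⟩, by rw [add_comm]; exact ha.2.2⟩
        intro h
        apply ha.1
        have h1 := congrArg Prod.fst h
        have h2 := congrArg Prod.snd h
        simp only at h1 h2
        exact Prod.ext h2 h1
      · intro a _
        rfl
      · intro a ha h
        rw [Finset.mem_erase, Finset.mem_filter, Finset.mem_product] at ha
        have h12 : a.2 = a.1 := congrArg Prod.fst h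
        have hsum : 2 • a.1 = 2 • s := by
          rw [two_nsmul]
          conv_lhs => rw [← h12, add_comm]
          rw [h12] at ha ⊢
          exact ha.2.2
        have hd : 2 • (a.1 - s) = 0 := by rw [smul_sub, hsum, sub_self]
        by_cases hd0 : a.1 - s = 0
        · apply ha.1
          have : a.1 = s := sub_eq_zero.1 hd0
          exact Prod.ext this (h12.trans this)
        · have := eq_half_of_two_nsmul h2n _ hd0 hd
          apply hsz
          have h3 : a.1 = s + ((n / 2 : ℕ) : ZMod n) := by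
            rw [← this]; abel
          rw [← h3]
          exact ha.2.1.1
    rw [← Finset.card_erase_add_one hmem] at hev
    exact (Nat.not_even_iff_odd.2 (Even.add_one hev2)) hev
  exact Cfsg.Agent.Lib.Helper21.WDLeaf.lemF hax hprim hn Nat.prime_two h2n hT h1 hXoff hY

end Cfsg.Agent.Lib.Helper14.WDLeaf
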