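/-
helper14: S2524, tools for STEP: the torus `T_1 = {LvG (t1G t)}` acting on `Ysp`, and the `T_1`-average of a map
`Ysp ρ' → Ysp ρ`.
-/
import Mathlib
import Cfsg.Agent.Lib.Helper10.WGDefs
import Cfsg.Agent.Lib.Helper29.WGLVH
import Cfsg.Agent.Lib.Helper23.WGINV

set_option autoImplicit false

namespace Cfsg.Agent.Lib.Helper14.WGAVG

open Matrix Cfsg.Agent.Lib.Helper11.LS Cfsg.Agent.Lib.Helper10.WG

universe u

variable {F : Type*} [Field F]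

theorem t1G_mul {k : ℕ} (s t : Fˣ) : (t1G (s * t) : GL (Fin (k + 1)) F) = t1G s * t1G t := by
  apply Units.ext
  rw [Units.val_mul]
  show diagonal (fun i => ((Fin.cons (s * t) (fun _ => 1) : Fin (k + 1) → Fˣ) i : F)) =
    diagonal (fun i => ((Fin.cons s (fun _ => 1) : Fin (k + 1) → Fˣ) i : F)) *
      diagonal (fun i => ((Fin.cons t (fun _ => 1) : Fin (k + 1) → Fˣ) i : F))
  rw [diagonal_mul_diagonal]
  congr 1
  funext i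
  refine Fin.cases ?_ (fun i' => ?_) i <;> simp

theorem t1G_one {k : ℕ} : (t1G (1 : Fˣ) : GL (Fin (k + 1)) F) = 1 := by
  apply Units.ext
  show diagonal (fun i => ((Fin.cons 1 (fun _ => 1) : Fin (k + 1) → Fˣ) i : F)) = 1
  rw [← diagonal_one]
  congr 1
  funext i
  refine Fin.cases ?_ (fun i' => ?_) i <;> simp

variable [Fintype F] [DecidableEq F] {k : ℕ} {V V' : Type u} [AddCommGroup V] [Module ℂ V]
  [AddCommGroup V'] [Module ℂ V']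

/-- `T_1` acting on `Ysp` -/
noncomputable def tauY (ρ : Representation ℂ (SpG F (k + 1)) V) (t : Fˣ) : ↥(Ysp ρ) →ₗ[ℂ] ↥(Ysp ρ) :=
  (ρ (LvG (t1G t))).restrict (fun v hv => Cfsg.Agent.Lib.Helper23.WGINV.t1G_mem_Ysp ρ t v hv)

theorem tauY_coe (ρ : Representation ℂ (SpG F (k + 1)) V) (t : Fˣ) (y : ↥(Ysp ρ)) :
    ((tauY ρ t y : ↥(Ysp ρ)) : V) = ρ (LvG (t1G t)) (y : V) := rfl

theorem tauY_mul_apply (ρ : Representation ℂ (SpG F (k + 1)) V) (s t : Fˣ) (y : ↥(Ysp ρ)) :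
    tauY ρ (s * t) y = tauY ρ s (tauY ρ t y) := by
  apply Subtype.ext
  rw [tauY_coe, tauY_coe, tauY_coe, t1G_mul, Cfsg.Agent.Lib.Helper29.WGLVH.LvG_mul, map_mul]
  rfl

theorem tauY_one_apply (ρ : Representation ℂ (SpG F (k + 1)) V) (y : ↥(Ysp ρ)) : tauY ρ 1 y = y := by
  apply Subtype.ext
  rw [tauY_coe, t1G_one, Cfsg.Agent.Lib.Helper29.WGLVH.LvG_one, map_one]
  rfl

/-- the `T_1`-average -/
noncomputable def avg (ρ' : Representation ℂ (SpG F (k + 1)) V') (ρ : Representation ℂ (SpG F (k + 1)) V)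
    (b₀ : ↥(Ysp ρ') →ₗ[ℂ] ↥(Ysp ρ)) : ↥(Ysp ρ') →ₗ[ℂ] ↥(Ysp ρ) :=
  ((Fintype.card Fˣ : ℂ)⁻¹) • ∑ t : Fˣ, (tauY ρ t) ∘ₗ b₀ ∘ₗ (tauY ρ' t⁻¹)

theorem avg_apply (ρ' : Representation ℂ (SpG F (k + 1)) V') (ρ : Representation ℂ (SpG F (k + 1)) V)
    (b₀ : ↥(Ysp ρ') →ₗ[ℂ] ↥(Ysp ρ)) (y : ↥(Ysp ρ')) :
    avg ρ' ρ b₀ y = ((Fintype.card Fˣ : ℂ)⁻¹) • ∑ t : Fˣ, tauY ρ t (b₀ (tauY ρ' t⁻¹ y)) := by
  simp only [avg, LinearMap.smul_apply, LinearMap.sum_apply, LinearMap.comp_apply]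

theorem avg_tauY (ρ' : Representation ℂ (SpG F (k + 1)) V') (ρ : Representation ℂ (SpG F (k + 1)) V)
    (b₀ : ↥(Ysp ρ') →ₗ[ℂ] ↥(Ysp ρ)) (s : Fˣ) (y : ↥(Ysp ρ')) :
    avg ρ' ρ b₀ (tauY ρ' s y) = tauY ρ s (avg ρ' ρ b₀ y) := by
  rw [avg_apply, avg_apply, map_smul, map_sum]
  congr 1
  rw [← Fintype.sum_equiv (Equiv.mulLeft s)
    (fun u => tauY ρ (s * u) (b₀ (tauY ρ' (s * u)⁻¹ (tauY ρ' s y))))
    (fun t => tauY ρ t (b₀ (tauY ρ' t⁻¹ (tauY ρ' s y)))) (fun u => rfl)]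
  apply Finset.sum_congr rfl
  intro u _
  rw [tauY_mul_apply, ← tauY_mul_apply ρ' (s * u)⁻¹ s y]
  have : (s * u)⁻¹ * s = u⁻¹ := by
    rw [_root_.mul_inv_rev, mul_assoc, inv_mul_cancel, mul_one]
  rw [this]

theorem avg_eq (ρ' : Representation ℂ (SpG F (k + 1)) V') (ρ : Representation ℂ (SpG F (k + 1)) V)
    (b₀ : ↥(Ysp ρ') →ₗ[ℂ] ↥(Ysp ρ)) (y : ↥(Ysp ρ')) (z : ↥(Ysp ρ))
    (h : ∀ t : Fˣ, tauY ρ t (b₀ (tauY ρ' t⁻¹ y)) = z) : avg ρ' ρ b₀ y = z := by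
  rw [avg_apply, Finset.sum_congr rfl (fun t _ => h t), Finset.sum_const, Finset.card_univ,
    ← Nat.cast_smul_eq_nsmul ℂ, smul_smul, inv_mul_cancel₀, one_smul]
  exact Nat.cast_ne_zero.mpr Fintype.card_pos.ne'

theorem avg_isHom (ι : SpG F k →* SpG F (k + 1)) (hι : IsIota ι)
    (ρ' : Representation ℂ (SpG F (k + 1)) V') (ρ : Representation ℂ (SpG F (k + 1)) V)
    (hinv' : ∀ g, ∀ v ∈ Ysp ρ', ρ' (ι g) v ∈ Ysp ρ') (hinv : ∀ g, ∀ v ∈ Ysp ρ, ρ (ι g) v ∈ Ysp ρ)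
    (b₀ : ↥(Ysp ρ') →ₗ[ℂ] ↥(Ysp ρ)) (hb₀ : IsHom (resY ρ' ι hinv') (resY ρ ι hinv) b₀) :
    IsHom (resY ρ' ι hinv') (resY ρ ι hinv) (avg ρ' ρ b₀) := by
  have hc' : ∀ (t : Fˣ) (g : SpG F k) (y : ↥(Ysp ρ')),
      tauY ρ' t (resY ρ' ι hinv' g y) = resY ρ' ι hinv' g (tauY ρ' t y) := by
    intro t g y
    apply Subtype.ext
    rw [tauY_coe, resY_apply, resY_apply, tauY_coe, ← Module.End.mul_apply, ← map_mul,
      Cfsg.Agent.Lib.Helper23.WGINV.t1G_comm_iota ι hι, map_mul]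
    rfl
  have hc : ∀ (t : Fˣ) (g : SpG F k) (y : ↥(Ysp ρ)),
      tauY ρ t (resY ρ ι hinv g y) = resY ρ ι hinv g (tauY ρ t y) := by
    intro t g y
    apply Subtype.ext
    rw [tauY_coe, resY_apply, resY_apply, tauY_coe, ← Module.End.mul_apply, ← map_mul,
      Cfsg.Agent.Lib.Helper23.WGINV.t1G_comm_iota ι hι, map_mul]
    rfl
  intro g y
  rw [avg_apply, avg_apply, map_smul, map_sum]
  congr 1
  apply Finset.sum_congr rfl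
  intro t _
  rw [hc', hb₀ g, hc]

end Cfsg.Agent.Lib.Helper14.WGAVG
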