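/-
helper14: S2524 leaf (TR) `isStabMap_toY`: transport of a stabiliser map from the weight `κ E_00` to `Ysp`.
`w = w01 = LvG P`, `P` the permutation matrix of `(0 1)`, is an involution; `P (κ E_00) P = bd 0 (κ E_00)`.
Key lemma `star`: for `g` in the stabiliser of `bd 0 (κ E_00)` and `v'` of that weight,
`ρ w (φ (ρ' w (ρ' (LvG g) v'))) = ρ (LvG g) (ρ w (φ (ρ' w v')))` (`P g P` stabilises `κ E_00`).
-/
import Mathlib
import Cfsg.Agent.Lib.Helper10.WGDefs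
import Cfsg.Agent.Lib.Helper29.WGLVH
import Cfsg.Agent.Lib.Helper29.WGIOTA
import Cfsg.Agent.Lib.Helper23.WGLVW
import Cfsg.Agent.Lib.Helper17.WGZD
import Cfsg.Agent.Lib.Helper14.WGF2
import Cfsg.Agent.Lib.Helper14.WGF6X

set_option autoImplicit false

namespace Cfsg.Agent.Lib.Helper14.WGTR

open Matrix Cfsg.Agent.Lib.Helper11.LS Cfsg.Agent.Lib.Helper10.WG Cfsg.Agent.Lib.Helper14.WGF2

universe u

variable {F : Type*} [Field F]

section mat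

variable {m : ℕ}

/-- the permutation matrix of `(0 1)` -/
noncomputable abbrev P01 (F : Type*) [Field F] (m : ℕ) : Matrix (Fin (m + 2)) (Fin (m + 2)) F :=
  (Equiv.swap (0 : Fin (m + 2)) 1).permMatrix F

theorem P01_mul_self : P01 F m * P01 F m = 1 := by
  unfold P01 Equiv.Perm.permMatrix
  rw [PEquiv.toMatrix_toPEquiv_mul]
  ext i j
  simp only [submatrix_apply, id_eq, PEquiv.toMatrix_apply, Equiv.toPEquiv_apply, Option.mem_def,
    Option.some.injEq, Equiv.swap_apply_self, one_apply]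

theorem P01_transpose : (P01 F m)ᵀ = P01 F m := by
  unfold P01 Equiv.Perm.permMatrix
  rw [← PEquiv.toMatrix_symm, ← Equiv.toPEquiv_symm, Equiv.symm_swap]

theorem bd_single (κ : F) :
    bd (0 : F) (single (0 : Fin (m + 1)) 0 κ) = single (1 : Fin (m + 2)) 1 κ := by
  rw [← Fin.succ_zero_eq_one]
  ext i j
  refine Fin.cases ?_ (fun i' => ?_) i <;> refine Fin.cases ?_ (fun j' => ?_) j
  · simp [single_apply, Fin.succ_ne_zero]
  · simp [single_apply, Fin.succ_ne_zero]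
  · simp [single_apply, Fin.succ_ne_zero]
  · simp only [bd_succ_succ, single_apply, Fin.succ_inj]

/-- `P (κ E_11) P = κ E_00` -/
theorem P01_conj_one (κ : F) :
    P01 F m * bd (0 : F) (single (0 : Fin (m + 1)) 0 κ) * P01 F m = single 0 0 κ := by
  rw [bd_single, Matrix.mul_assoc, single_mul_permMatrix, Equiv.swap_apply_right, ← Matrix.mul_assoc,
    P01_mul_self, Matrix.one_mul]

/-- `P (κ E_00) P = κ E_11` -/
theorem P01_conj_zero (κ : F) :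
    P01 F m * single 0 0 κ * P01 F m = bd (0 : F) (single (0 : Fin (m + 1)) 0 κ) := by
  rw [bd_single, Matrix.mul_assoc, single_mul_permMatrix, Equiv.swap_apply_left, ← Matrix.mul_assoc,
    P01_mul_self, Matrix.one_mul]

/-- the element `p` of `GL` with matrix `P` -/
noncomputable abbrev p01 (F : Type*) [Field F] (m : ℕ) : GL (Fin (m + 2)) F := pmG (Equiv.swap 0 1)

theorem p01_val : ((p01 F m : GL (Fin (m + 2)) F) : Matrix (Fin (m + 2)) (Fin (m + 2)) F) = P01 F m :=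
  rfl

theorem p01_mul_self : p01 F m * p01 F m = 1 := by
  apply Units.ext
  rw [Units.val_mul, p01_val, P01_mul_self]
  rfl

theorem p01_inv : (p01 F m)⁻¹ = p01 F m := inv_eq_of_mul_eq_one_right p01_mul_self

/-- `gᵀ B g = B` gives `g⁻ᵀ B g⁻¹ = B` -/
theorem stab_inv {n : ℕ} (g : GL (Fin n) F) (B : Matrix (Fin n) (Fin n) F)
    (h : (g : Matrix (Fin n) (Fin n) F)ᵀ * B * (g : Matrix (Fin n) (Fin n) F) = B) :
    ((g⁻¹ : GL (Fin n) F) : Matrix (Fin n) (Fin n) F)ᵀ * B *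
      ((g⁻¹ : GL (Fin n) F) : Matrix (Fin n) (Fin n) F) = B := by
  have h1 : (g : Matrix (Fin n) (Fin n) F) * ((g⁻¹ : GL (Fin n) F) : Matrix (Fin n) (Fin n) F) = 1 := by
    rw [← Units.val_mul, mul_inv_cancel, Units.val_one]
  have h2 : ((g⁻¹ : GL (Fin n) F) : Matrix (Fin n) (Fin n) F)ᵀ * (g : Matrix (Fin n) (Fin n) F)ᵀ = 1 := by
    rw [← transpose_mul, h1, transpose_one]
  conv_lhs => rw [← h]
  calc ((g⁻¹ : GL (Fin n) F) : Matrix (Fin n) (Fin n) F)ᵀ *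
        ((g : Matrix (Fin n) (Fin n) F)ᵀ * B * (g : Matrix (Fin n) (Fin n) F)) *
        ((g⁻¹ : GL (Fin n) F) : Matrix (Fin n) (Fin n) F)
      = (((g⁻¹ : GL (Fin n) F) : Matrix (Fin n) (Fin n) F)ᵀ * (g : Matrix (Fin n) (Fin n) F)ᵀ) * B *
        ((g : Matrix (Fin n) (Fin n) F) * ((g⁻¹ : GL (Fin n) F) : Matrix (Fin n) (Fin n) F)) := by
        simp only [Matrix.mul_assoc]
    _ = B := by rw [h1, h2, Matrix.one_mul, Matrix.mul_one]

/-- `P g P` stabilises `κ E_00` when `g` stabilises `κ E_11` -/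
theorem stab_conj (κ : F) (g : GL (Fin (m + 2)) F)
    (hg : ((g⁻¹ : GL (Fin (m + 2)) F) : Matrix (Fin (m + 2)) (Fin (m + 2)) F)ᵀ *
      bd (0 : F) (single (0 : Fin (m + 1)) 0 κ) *
      ((g⁻¹ : GL (Fin (m + 2)) F) : Matrix (Fin (m + 2)) (Fin (m + 2)) F) =
      bd (0 : F) (single (0 : Fin (m + 1)) 0 κ)) :
    (((p01 F m * g * p01 F m)⁻¹ : GL (Fin (m + 2)) F) : Matrix (Fin (m + 2)) (Fin (m + 2)) F)ᵀ *
      single 0 0 κ *
      (((p01 F m * g * p01 F m)⁻¹ : GL (Fin (m + 2)) F) : Matrix (Fin (m + 2)) (Fin (m + 2)) F) =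
      single 0 0 κ := by
  have hinv : (p01 F m * g * p01 F m)⁻¹ = p01 F m * g⁻¹ * p01 F m := by
    rw [_root_.mul_inv_rev, _root_.mul_inv_rev, p01_inv, mul_assoc]
  rw [hinv, Units.val_mul, Units.val_mul, p01_val, transpose_mul, transpose_mul, P01_transpose]
  set G := ((g⁻¹ : GL (Fin (m + 2)) F) : Matrix (Fin (m + 2)) (Fin (m + 2)) F) with hG
  calc P01 F m * (Gᵀ * P01 F m) * single 0 0 κ * (P01 F m * G * P01 F m)
      = P01 F m * (Gᵀ * (P01 F m * single 0 0 κ * P01 F m) * G) * P01 F m := by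
        simp only [Matrix.mul_assoc]
    _ = single 0 0 κ := by rw [P01_conj_zero, hg, P01_conj_one]

end mat

section main

variable [Fintype F] [DecidableEq F] {m : ℕ} {V V' : Type u} [AddCommGroup V] [Module ℂ V]
  [AddCommGroup V'] [Module ℂ V']

theorem w01_eq : (w01 : SpG F (m + 2)) = LvG (p01 F m) := rfl

theorem w01_mul_self : (w01 : SpG F (m + 2)) * w01 = 1 := by
  rw [w01_eq, ← Cfsg.Agent.Lib.Helper29.WGLVH.LvG_mul, p01_mul_self,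
    Cfsg.Agent.Lib.Helper29.WGLVH.LvG_one]

theorem w01_inv : (w01 : SpG F (m + 2))⁻¹ = w01 := inv_eq_of_mul_eq_one_right w01_mul_self

/-- `ρ w` maps the weight space of `κ E_11` to that of `κ E_00` -/
theorem w01_mem_wt_zero (ψ : AddChar F ℂ) (ρ : Representation ℂ (SpG F (m + 2)) V) (κ : F) (v : V)
    (hv : v ∈ wt ψ ρ (bd 0 (single (0 : Fin (m + 1)) 0 κ))) : ρ w01 v ∈ wt ψ ρ (single 0 0 κ) := by
  have := Cfsg.Agent.Lib.Helper23.WGLVW.LvG_mem_wt ψ ρ (p01 F m) _ v hv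
  rw [p01_inv, p01_val, P01_transpose, P01_conj_one] at this
  exact this

/-- `ρ w` maps the weight space of `κ E_00` to that of `κ E_11` -/
theorem w01_mem_wt_one (ψ : AddChar F ℂ) (ρ : Representation ℂ (SpG F (m + 2)) V) (κ : F) (v : V)
    (hv : v ∈ wt ψ ρ (single 0 0 κ)) : ρ w01 v ∈ wt ψ ρ (bd 0 (single (0 : Fin (m + 1)) 0 κ)) := by
  have := Cfsg.Agent.Lib.Helper23.WGLVW.LvG_mem_wt ψ ρ (p01 F m) _ v hv
  rw [p01_inv, p01_val, P01_transpose, P01_conj_zero] at this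
  exact this

theorem wt_bd_le_Ysp (ψ : AddChar F ℂ) (ρ : Representation ℂ (SpG F (m + 2)) V)
    (E : Matrix (Fin (m + 1)) (Fin (m + 1)) F) : wt ψ ρ (bd 0 E) ≤ Ysp ρ := by
  have := Cfsg.Agent.Lib.Helper17.WGZD.wt_le_zsp ψ ρ (bd 0 E)
  rwa [bd_zero_zero, Cfsg.Agent.Lib.Helper17.WGZD.zsp_zero] at this

/-- the key commutation -/
theorem star (ψ : AddChar F ℂ) (ρ' : Representation ℂ (SpG F (m + 2)) V')
    (ρ : Representation ℂ (SpG F (m + 2)) V) (κ : F) (φ : V' →ₗ[ℂ] V)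
    (hφ : IsStabMap ψ ρ' ρ (single 0 0 κ) φ) (g : GL (Fin (m + 2)) F)
    (hg : ((g⁻¹ : GL (Fin (m + 2)) F) : Matrix (Fin (m + 2)) (Fin (m + 2)) F)ᵀ *
      bd (0 : F) (single (0 : Fin (m + 1)) 0 κ) *
      ((g⁻¹ : GL (Fin (m + 2)) F) : Matrix (Fin (m + 2)) (Fin (m + 2)) F) =
      bd (0 : F) (single (0 : Fin (m + 1)) 0 κ))
    (v' : V') (hv' : v' ∈ wt ψ ρ' (bd 0 (single (0 : Fin (m + 1)) 0 κ))) :
    ρ w01 (φ (ρ' w01 (ρ' (LvG g) v'))) = ρ (LvG g) (ρ w01 (φ (ρ' w01 v'))) := by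
  set g' := p01 F m * g * p01 F m with hg'
  have e1 : (w01 : SpG F (m + 2)) * LvG g = LvG g' * w01 := by
    rw [hg', Cfsg.Agent.Lib.Helper29.WGLVH.LvG_mul, Cfsg.Agent.Lib.Helper29.WGLVH.LvG_mul, ← w01_eq,
      mul_assoc, w01_mul_self, mul_one]
  have e2 : (w01 : SpG F (m + 2)) * LvG g' = LvG g * w01 := by
    rw [hg', Cfsg.Agent.Lib.Helper29.WGLVH.LvG_mul, Cfsg.Agent.Lib.Helper29.WGLVH.LvG_mul, ← w01_eq,
      ← mul_assoc, ← mul_assoc, w01_mul_self, one_mul]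
  have hu := w01_mem_wt_zero ψ ρ' κ v' hv'
  have h1 : ρ' w01 (ρ' (LvG g) v') = ρ' (LvG g') (ρ' w01 v') := by
    rw [← Module.End.mul_apply, ← map_mul, e1, map_mul]
    rfl
  rw [h1, hφ.2 g' (stab_conj κ g hg) _ hu, ← Module.End.mul_apply, ← map_mul, e2, map_mul]
  rfl

/-- (TR) -/
theorem isStabMap_toY (h2 : (2 : F) ≠ 0) (ψ : AddChar F ℂ) (hψ : ψ.IsPrimitive)
    (ι : SpG F (m + 1) →* SpG F (m + 2)) (hι : IsIota ι)
    (ρ' : Representation ℂ (SpG F (m + 2)) V') (ρ : Representation ℂ (SpG F (m + 2)) V)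
    (hW' : IsW ψ ρ') (hW : IsW ψ ρ)
    (hinv' : ∀ g, ∀ v ∈ Ysp ρ', ρ' (ι g) v ∈ Ysp ρ') (hinv : ∀ g, ∀ v ∈ Ysp ρ, ρ (ι g) v ∈ Ysp ρ)
    (κ : F) (φ : V' →ₗ[ℂ] V) (hφ : IsStabMap ψ ρ' ρ (single 0 0 κ) φ) :
    IsStabMap ψ (resY ρ' ι hinv') (resY ρ ι hinv) (single 0 0 κ) (toY ψ ρ' ρ φ) ∧
    (∀ y : ↥(Ysp ρ'), y ∈ wt ψ (resY ρ' ι hinv') (single 0 0 κ) →
      ((toY ψ ρ' ρ φ y : ↥(Ysp ρ)) : V) = ρ w01 (φ (ρ' (w01⁻¹) (y : V')))) ∧
    (∀ (t : Fˣ) (y : ↥(Ysp ρ')), y ∈ wt ψ (resY ρ' ι hinv') (single 0 0 κ) →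
      ρ w01 (φ (ρ' (w01⁻¹) (ρ' (LvG (t1G t)) (y : V')))) =
        ρ (LvG (t1G t)) (ρ w01 (φ (ρ' (w01⁻¹) (y : V'))))) := by
  have hE : (single (0 : Fin (m + 1)) (0 : Fin (m + 1)) κ)ᵀ = single 0 0 κ := by simp
  have hA' := fun y => Cfsg.Agent.Lib.Helper14.WGF6X.wt_resY_iff h2 ψ hψ ι hι ρ' hW' hinv'
    (single 0 0 κ) hE y
  have hA := fun y => Cfsg.Agent.Lib.Helper14.WGF6X.wt_resY_iff h2 ψ hψ ι hι ρ hW hinv
    (single 0 0 κ) hE y
  -- the image lies in the weight space of `κ E_11`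
  have himg : ∀ v' ∈ wt ψ ρ' (bd 0 (single (0 : Fin (m + 1)) 0 κ)),
      ρ w01 (φ (ρ' w01 v')) ∈ wt ψ ρ (bd 0 (single (0 : Fin (m + 1)) 0 κ)) := fun v' hv' =>
    w01_mem_wt_one ψ ρ κ _ (hφ.1 _ (w01_mem_wt_zero ψ ρ' κ v' hv'))
  -- the formula for `toY`
  have hform : ∀ y : ↥(Ysp ρ'), y ∈ wt ψ (resY ρ' ι hinv') (single 0 0 κ) →
      ((toY ψ ρ' ρ φ y : ↥(Ysp ρ)) : V) = ρ w01 (φ (ρ' w01 (y : V'))) := by
    intro y hy
    have h1 := himg _ ((hA' y).1 hy)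
    have h3 : ((toY ψ ρ' ρ φ y : ↥(Ysp ρ)) : V) =
        zProj ψ ρ 0 (ρ w01 (φ (ρ' (w01⁻¹) (y : V')))) := rfl
    rw [h3, w01_inv]
    apply Cfsg.Agent.Lib.Helper17.WGZD.zProj_of_mem
    rw [Cfsg.Agent.Lib.Helper17.WGZD.zsp_zero]
    exact wt_bd_le_Ysp ψ ρ _ h1
  refine ⟨⟨fun y hy => ?_, fun h hh y hy => ?_⟩, fun y hy => ?_, fun t y hy => ?_⟩
  · rw [hA, hform y hy]
    exact himg _ ((hA' y).1 hy)
  · -- commutation with the stabiliser in the Levi factor of `C`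
    have hy2 : resY ρ' ι hinv' (LvG h) y ∈ wt ψ (resY ρ' ι hinv') (single 0 0 κ) := by
      have := Cfsg.Agent.Lib.Helper23.WGLVW.LvG_mem_wt ψ (resY ρ' ι hinv') h _ y hy
      rwa [hh] at this
    apply Subtype.ext
    rw [hform _ hy2, resY_apply, resY_apply, hform y hy,
      (Cfsg.Agent.Lib.Helper29.WGIOTA.iota_gens ι hι).2.1 h]
    apply star ψ ρ' ρ κ φ hφ (upG h) _ _ ((hA' y).1 hy)
    show (bd 1 ((h⁻¹ : GL (Fin (m + 1)) F) : Matrix (Fin (m + 1)) (Fin (m + 1)) F))ᵀ * _ *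
      bd 1 ((h⁻¹ : GL (Fin (m + 1)) F) : Matrix (Fin (m + 1)) (Fin (m + 1)) F) = _
    rw [bd_transpose, bd_mul, bd_mul, hh, one_mul, zero_mul]
  · rw [w01_inv]
    exact hform y hy
  · rw [w01_inv]
    apply star ψ ρ' ρ κ φ hφ (t1G t) _ _ ((hA' y).1 hy)
    apply stab_inv
    show (diagonal fun i => ((Fin.cons t (fun _ => 1) : Fin (m + 2) → Fˣ) i : F))ᵀ * _ *
      diagonal (fun i => ((Fin.cons t (fun _ => 1) : Fin (m + 2) → Fˣ) i : F)) = _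
    rw [diagonal_transpose]
    ext a b
    rw [Matrix.mul_diagonal, Matrix.diagonal_mul]
    refine Fin.cases ?_ (fun a' => ?_) a <;> refine Fin.cases ?_ (fun b' => ?_) b <;> simp

end main

end Cfsg.Agent.Lib.Helper14.WGTR
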