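/-
helper14: S2524 leaf (STEP) `surj_step`: surjectivity for the pair `(Ysp ρ', Ysp ρ)` of `Sp_{2m+2}`-modules gives
surjectivity for `(ρ', ρ)`.  Pure assembly of the wave 1-2 leaves, steps (a)-(g) of `notes/S2524_plan3.md`.
-/
import Mathlib
import Cfsg.Agent.Lib.Helper10.WGDefs
import Cfsg.Agent.Lib.Helper10.WGDefs2
import Cfsg.Agent.Lib.Helper17.WGWD
import Cfsg.Agent.Lib.Helper17.WGZD
import Cfsg.Agent.Lib.Helper23.WGINV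
import Cfsg.Agent.Lib.Helper23.WGLVW
import Cfsg.Agent.Lib.Helper29.WGLVH
import Cfsg.Agent.Lib.Helper29.WGIOTA
import Cfsg.Agent.Lib.Helper24.WGMKE
import Cfsg.Agent.Lib.Helper22.WGMKU
import Cfsg.Agent.Lib.Helper4.WGF5
import Cfsg.Agent.Lib.Helper4.WGGENI
import Cfsg.Agent.Lib.Helper14.WGF6X
import Cfsg.Agent.Lib.Helper14.WGF2X
import Cfsg.Agent.Lib.Helper14.WGTR
import Cfsg.Agent.Lib.Helper14.WGAVG

set_option autoImplicit false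

namespace Cfsg.Agent.Lib.Helper14.WGSTEP

open Matrix Cfsg.Agent.Lib.Helper11.LS Cfsg.Agent.Lib.Helper10.WG Cfsg.Agent.Lib.Helper14.WGAVG
  Cfsg.Agent.Lib.Helper14.WGF2 Cfsg.Agent.Lib.Helper14.WGTR

universe u

variable {F : Type*} [Field F] [Fintype F] [DecidableEq F]

section gen

variable {n : ℕ} {V V' : Type u} [AddCommGroup V] [Module ℂ V] [AddCommGroup V'] [Module ℂ V']

/-- the elements with which `Φ` commutes -/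
def commSubG (ρ' : Representation ℂ (SpG F n) V') (ρ : Representation ℂ (SpG F n) V) (Φ : V' →ₗ[ℂ] V) :
    Subgroup (SpG F n) where
  carrier := {g | Comm ρ' ρ Φ g}
  one_mem' := by
    intro v
    rw [map_one, map_one]
    rfl
  mul_mem' := by
    intro g h hg hh v
    rw [map_mul, map_mul]
    show Φ (ρ' g (ρ' h v)) = ρ g (ρ h (Φ v))
    rw [hg, hh]
  inv_mem' := by
    intro g hg v
    have h1 := hg (ρ' g⁻¹ v)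
    have e1 : ρ' g (ρ' g⁻¹ v) = v := by
      rw [← Module.End.mul_apply, ← map_mul, mul_inv_cancel, map_one]
      rfl
    rw [e1] at h1
    rw [h1, ← Module.End.mul_apply, ← map_mul, inv_mul_cancel, map_one]
    rfl

/-- a homomorphism maps weight spaces to weight spaces -/
theorem hom_mem_wt (ψ : AddChar F ℂ) (ρ' : Representation ℂ (SpG F n) V')
    (ρ : Representation ℂ (SpG F n) V) (Φ : V' →ₗ[ℂ] V)
    (hΦ : ∀ (S : Matrix (Fin n) (Fin n) F) (hS : Sᵀ = S), Comm ρ' ρ Φ (Xs S hS))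
    (B : Matrix (Fin n) (Fin n) F) (v : V') (hv : v ∈ wt ψ ρ' B) : Φ v ∈ wt ψ ρ B := by
  intro S hS
  rw [← hΦ S hS v, hv S hS, map_smul]

end gen

section step

variable {m : ℕ} {V V' : Type u} [AddCommGroup V] [Module ℂ V] [AddCommGroup V'] [Module ℂ V']

/-- `T_1` commutes with `C` on `Ysp` -/
theorem tauY_resY (ι : SpG F (m + 1) →* SpG F (m + 2)) (hι : IsIota ι)
    (ρ : Representation ℂ (SpG F (m + 2)) V) (hinv : ∀ g, ∀ v ∈ Ysp ρ, ρ (ι g) v ∈ Ysp ρ)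
    (t : Fˣ) (g : SpG F (m + 1)) (y : ↥(Ysp ρ)) :
    tauY ρ t (resY ρ ι hinv g y) = resY ρ ι hinv g (tauY ρ t y) := by
  apply Subtype.ext
  rw [tauY_coe, resY_apply, resY_apply, tauY_coe, ← Module.End.mul_apply, ← map_mul,
    Cfsg.Agent.Lib.Helper23.WGINV.t1G_comm_iota ι hι, map_mul]
  rfl

/-- `T_1` preserves the `Q'`-weight spaces of `Ysp` -/
theorem tauY_mem_wt (ψ : AddChar F ℂ) (ι : SpG F (m + 1) →* SpG F (m + 2)) (hι : IsIota ι)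
    (ρ : Representation ℂ (SpG F (m + 2)) V) (hinv : ∀ g, ∀ v ∈ Ysp ρ, ρ (ι g) v ∈ Ysp ρ)
    (t : Fˣ) (B' : Matrix (Fin (m + 1)) (Fin (m + 1)) F) (y : ↥(Ysp ρ))
    (hy : y ∈ wt ψ (resY ρ ι hinv) B') : tauY ρ t y ∈ wt ψ (resY ρ ι hinv) B' := by
  intro S hS
  rw [← tauY_resY ι hι ρ hinv, hy S hS, map_smul]

theorem tauY_inv_apply (ρ : Representation ℂ (SpG F (m + 2)) V) (t : Fˣ) (v : V) :
    ρ (LvG (t1G t)) (ρ (LvG (t1G t⁻¹)) v) = v := by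
  rw [← Module.End.mul_apply, ← map_mul, ← Cfsg.Agent.Lib.Helper29.WGLVH.LvG_mul, ← t1G_mul,
    mul_inv_cancel, t1G_one, Cfsg.Agent.Lib.Helper29.WGLVH.LvG_one, map_one]
  rfl

/-- (c3): the average agrees with `toY φ` on the weight space of `κ E_00` -/
theorem avg_eq_toY (ψ : AddChar F ℂ) (ι : SpG F (m + 1) →* SpG F (m + 2)) (hι : IsIota ι)
    (ρ' : Representation ℂ (SpG F (m + 2)) V') (ρ : Representation ℂ (SpG F (m + 2)) V)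
    (hinv' : ∀ g, ∀ v ∈ Ysp ρ', ρ' (ι g) v ∈ Ysp ρ') (hinv : ∀ g, ∀ v ∈ Ysp ρ, ρ (ι g) v ∈ Ysp ρ)
    (κ : F) (φ : V' →ₗ[ℂ] V)
    (hf : ∀ y : ↥(Ysp ρ'), y ∈ wt ψ (resY ρ' ι hinv') (single 0 0 κ) →
      ((toY ψ ρ' ρ φ y : ↥(Ysp ρ)) : V) = ρ w01 (φ (ρ' (w01⁻¹) (y : V'))))
    (ht : ∀ (t : Fˣ) (y : ↥(Ysp ρ')), y ∈ wt ψ (resY ρ' ι hinv') (single 0 0 κ) →
      ρ w01 (φ (ρ' (w01⁻¹) (ρ' (LvG (t1G t)) (y : V')))) =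
        ρ (LvG (t1G t)) (ρ w01 (φ (ρ' (w01⁻¹) (y : V')))))
    (b₀ : ↥(Ysp ρ') →ₗ[ℂ] ↥(Ysp ρ))
    (hb : ∀ y ∈ wt ψ (resY ρ' ι hinv') (single 0 0 κ), b₀ y = toY ψ ρ' ρ φ y)
    (y : ↥(Ysp ρ')) (hy : y ∈ wt ψ (resY ρ' ι hinv') (single 0 0 κ)) :
    avg ρ' ρ b₀ y = toY ψ ρ' ρ φ y := by
  apply avg_eq
  intro t
  have hy' := tauY_mem_wt ψ ι hι ρ' hinv' t⁻¹ _ y hy
  rw [hb _ hy']
  apply Subtype.ext
  rw [tauY_coe, hf _ hy', tauY_coe, ht t⁻¹ y hy, tauY_inv_apply, hf y hy]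

end step

section step2

variable {V V' : Type u} [AddCommGroup V] [Module ℂ V] [AddCommGroup V'] [Module ℂ V']

/-- (STEP) -/
theorem surj_step {m : ℕ} (h2 : (2 : F) ≠ 0) (ψ : AddChar F ℂ) (hψ : ψ.IsPrimitive) (ν : F)
    (hν : ¬ IsSquare ν) (ι : SpG F (m + 1) →* SpG F (m + 2)) (hι : IsIota ι)
    (ρ' : Representation ℂ (SpG F (m + 2)) V') (ρ : Representation ℂ (SpG F (m + 2)) V)
    (hW' : IsW ψ ρ') (hW : IsW ψ ρ)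
    (hinv' : ∀ g, ∀ v ∈ Ysp ρ', ρ' (ι g) v ∈ Ysp ρ') (hinv : ∀ g, ∀ v ∈ Ysp ρ, ρ (ι g) v ∈ Ysp ρ)
    (hrec : SurjAt ψ ν (resY ρ' ι hinv') (resY ρ ι hinv)) : SurjAt ψ ν ρ' ρ := by
  intro φ₁ φ₂ h₁ h₂
  -- (a)
  obtain ⟨hs1, hf1, ht1⟩ := Cfsg.Agent.Lib.Helper14.WGTR.isStabMap_toY h2 ψ hψ ι hι ρ' ρ hW' hW
    hinv' hinv 1 φ₁ h₁
  obtain ⟨hs2, hf2, ht2⟩ := Cfsg.Agent.Lib.Helper14.WGTR.isStabMap_toY h2 ψ hψ ι hι ρ' ρ hW' hW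
    hinv' hinv ν φ₂ h₂
  -- (b)
  obtain ⟨b₀, hb₀, hb₀1, hb₀2⟩ := hrec _ _ hs1 hs2
  -- (c)
  set b₁ := avg ρ' ρ b₀ with hb₁
  have hb₁hom : IsHom (resY ρ' ι hinv') (resY ρ ι hinv) b₁ := avg_isHom ι hι ρ' ρ hinv' hinv b₀ hb₀
  have hb₁T : ∀ (s : Fˣ) (y : ↥(Ysp ρ')), b₁ (tauY ρ' s y) = tauY ρ s (b₁ y) := avg_tauY ρ' ρ b₀
  have hb₁1 : ∀ y ∈ wt ψ (resY ρ' ι hinv') (single 0 0 1), b₁ y = toY ψ ρ' ρ φ₁ y :=
    avg_eq_toY ψ ι hι ρ' ρ hinv' hinv 1 φ₁ hf1 ht1 b₀ hb₀1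
  have hb₁2 : ∀ y ∈ wt ψ (resY ρ' ι hinv') (single 0 0 ν), b₁ y = toY ψ ρ' ρ φ₂ y :=
    avg_eq_toY ψ ι hι ρ' ρ hinv' hinv ν φ₂ hf2 ht2 b₀ hb₀2
  -- (d)
  set b : V' →ₗ[ℂ] V := (Ysp ρ).subtype ∘ₗ b₁ ∘ₗ
    (zProj ψ ρ' 0).codRestrict (Ysp ρ') (zProj_zero_mem_Ysp ψ ρ') with hb
  have hbY : ∀ y : ↥(Ysp ρ'), b (y : V') = ((b₁ y : ↥(Ysp ρ)) : V) := by
    intro y
    show ((b₁ ((zProj ψ ρ' 0).codRestrict (Ysp ρ') (zProj_zero_mem_Ysp ψ ρ') (y : V')) : ↥(Ysp ρ)) : V) = _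
    congr 2
    apply Subtype.ext
    show zProj ψ ρ' 0 (y : V') = y
    apply Cfsg.Agent.Lib.Helper17.WGZD.zProj_of_mem
    rw [Cfsg.Agent.Lib.Helper17.WGZD.zsp_zero]
    exact y.2
  have hwt0' : ∀ y : ↥(Ysp ρ'), y ∈ wt ψ (resY ρ' ι hinv') 0 ↔ (y : V') ∈ wt ψ ρ' 0 := by
    intro y
    have := Cfsg.Agent.Lib.Helper14.WGF6X.wt_resY_iff h2 ψ hψ ι hι ρ' hW' hinv' 0 (by simp) y
    rwa [Cfsg.Agent.Lib.Helper14.WGF6.bd_zero] at this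
  have hwt0 : ∀ y : ↥(Ysp ρ), y ∈ wt ψ (resY ρ ι hinv) 0 ↔ (y : V) ∈ wt ψ ρ 0 := by
    intro y
    have := Cfsg.Agent.Lib.Helper14.WGF6X.wt_resY_iff h2 ψ hψ ι hι ρ hW hinv 0 (by simp) y
    rwa [Cfsg.Agent.Lib.Helper14.WGF6.bd_zero] at this
  have hb₁wt : ∀ (B' : Matrix (Fin (m + 1)) (Fin (m + 1)) F) (y : ↥(Ysp ρ')),
      y ∈ wt ψ (resY ρ' ι hinv') B' → b₁ y ∈ wt ψ (resY ρ ι hinv) B' := fun B' y hy =>
    hom_mem_wt ψ _ _ b₁ (fun S hS => hb₁hom _) B' y hy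
  have hbι : ∀ (g : SpG F (m + 1)) (y : ↥(Ysp ρ')), b (ρ' (ι g) (y : V')) = ρ (ι g) (b (y : V')) := by
    intro g y
    have e1 : ρ' (ι g) (y : V') = ((resY ρ' ι hinv' g y : ↥(Ysp ρ')) : V') := rfl
    rw [e1, hbY, hbY, hb₁hom g y]
    rfl
  have hb0 : ∀ v ∈ wt ψ ρ' 0, b v ∈ wt ψ ρ 0 := by
    intro v hv
    have hvY : v ∈ Ysp ρ' := wt_zero_le_Ysp ψ ρ' hv
    have := hbY ⟨v, hvY⟩
    rw [show ((⟨v, hvY⟩ : ↥(Ysp ρ')) : V') = v from rfl] at this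
    rw [this, ← hwt0]
    exact hb₁wt 0 _ ((hwt0' ⟨v, hvY⟩).2 hv)
  have hbT : ∀ (t : Fˣ), ∀ v ∈ wt ψ ρ' 0, b (ρ' (LvG (t1G t)) v) = ρ (LvG (t1G t)) (b v) := by
    intro t v hv
    have hvY : v ∈ Ysp ρ' := wt_zero_le_Ysp ψ ρ' hv
    have e1 : ρ' (LvG (t1G t)) v = ((tauY ρ' t ⟨v, hvY⟩ : ↥(Ysp ρ')) : V') := rfl
    have e2 : v = ((⟨v, hvY⟩ : ↥(Ysp ρ')) : V') := rfl
    rw [e1, hbY, hb₁T, tauY_coe]
    conv_rhs => rw [e2, hbY]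
  have hbL : ∀ (h : GL (Fin (m + 1)) F), ∀ v ∈ wt ψ ρ' 0,
      b (ρ' (LvG (upG h)) v) = ρ (LvG (upG h)) (b v) := by
    intro h v hv
    have hvY : v ∈ Ysp ρ' := wt_zero_le_Ysp ψ ρ' hv
    rw [← (Cfsg.Agent.Lib.Helper29.WGIOTA.iota_gens ι hι).2.1 h]
    exact hbι (LvG h) ⟨v, hvY⟩
  have hA0 : IsStabMap ψ ρ' ρ 0 b :=
    Cfsg.Agent.Lib.Helper14.WGF2X.isStabMap_zero h2 ψ hψ ρ' ρ hW' hW b hb0 hbT hbL
  -- (e)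
  obtain ⟨Φ, hΦQ, hΦL, hΦ0, hΦ1, hΦ2⟩ := Cfsg.Agent.Lib.Helper24.WGMKE.exists_P_hom h2 ψ hψ ν hν
    ρ' ρ hW' b φ₁ φ₂ hA0 h₁ h₂
  -- (f)
  have hΦz : ∀ (l : F), ∀ v ∈ zsp ψ ρ' l, Φ v ∈ zsp ψ ρ l := by
    intro l v hv c
    have := hΦQ (single 0 0 c) (by simp) v
    show ρ (Xs (single 0 0 c) _) (Φ v) = _
    rw [← this]
    have hv' := hv c
    show Φ (ρ' (xZ c) v) = _
    rw [hv', map_smul]
  have hΦY : ∀ v ∈ Ysp ρ', Φ v ∈ Ysp ρ := by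
    intro v hv
    rw [← Cfsg.Agent.Lib.Helper17.WGZD.zsp_zero ψ ρ]
    apply hΦz 0 v
    rw [Cfsg.Agent.Lib.Helper17.WGZD.zsp_zero]
    exact hv
  set ΦY : ↥(Ysp ρ') →ₗ[ℂ] ↥(Ysp ρ) :=
    (Φ ∘ₗ (Ysp ρ').subtype).codRestrict (Ysp ρ) (fun y => hΦY y y.2) with hΦYdef
  have hΦYcoe : ∀ y : ↥(Ysp ρ'), ((ΦY y : ↥(Ysp ρ)) : V) = Φ (y : V') := fun y => rfl
  have hkey : ∀ (κ : F) (φ : V' →ₗ[ℂ] V),
      (∀ v ∈ wt ψ ρ' (single 0 0 κ), Φ v = φ v) →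
      (∀ y : ↥(Ysp ρ'), y ∈ wt ψ (resY ρ' ι hinv') (single 0 0 κ) →
        ((toY ψ ρ' ρ φ y : ↥(Ysp ρ)) : V) = ρ w01 (φ (ρ' (w01⁻¹) (y : V')))) →
      ∀ y ∈ wt ψ (resY ρ' ι hinv') (single 0 0 κ), Φ (y : V') = ((toY ψ ρ' ρ φ y : ↥(Ysp ρ)) : V) := by
    intro κ φ hΦκ hf y hy
    have hy1 : (y : V') ∈ wt ψ ρ' (bd 0 (single (0 : Fin (m + 1)) 0 κ)) :=
      (Cfsg.Agent.Lib.Helper14.WGF6X.wt_resY_iff h2 ψ hψ ι hι ρ' hW' hinv' _ (by simp) y).1 hy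
    have hx := w01_mem_wt_zero ψ ρ' κ _ hy1
    have e1 : ρ' w01 (ρ' w01 (y : V')) = (y : V') := by
      rw [← Module.End.mul_apply, ← map_mul, w01_mul_self, map_one]
      rfl
    rw [hf y hy, w01_inv, ← hΦκ _ hx]
    have := hΦL (p01 F m) (ρ' w01 (y : V'))
    rw [← w01_eq] at this
    rw [← this, e1]
  have hΦYeq : ΦY = b₁ := by
    apply Cfsg.Agent.Lib.Helper22.WGMKU.P_hom_unique h2 ψ hψ ν hν (resY ρ' ι hinv') (resY ρ ι hinv)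
      (Cfsg.Agent.Lib.Helper14.WGF6X.isW_resY h2 ψ hψ ι hι ρ' hW' hinv') ΦY b₁
    · intro S hS y
      apply Subtype.ext
      rw [hΦYcoe, resY_apply, resY_apply, hΦYcoe, Cfsg.Agent.Lib.Helper14.WGF6.iota_Xs ι hι S hS]
      exact hΦQ _ _ _
    · intro h y
      apply Subtype.ext
      rw [hΦYcoe, resY_apply, resY_apply, hΦYcoe, (Cfsg.Agent.Lib.Helper29.WGIOTA.iota_gens ι hι).2.1 h]
      exact hΦL _ _
    · intro S hS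
      exact hb₁hom _
    · intro h
      exact hb₁hom _
    · intro y hy
      apply Subtype.ext
      rw [hΦYcoe, hΦ0 _ ((hwt0' y).1 hy), hbY]
    · intro y hy
      apply Subtype.ext
      rw [hΦYcoe, hb₁1 y hy]
      exact hkey 1 φ₁ hΦ1 hf1 y hy
    · intro y hy
      apply Subtype.ext
      rw [hΦYcoe, hb₁2 y hy]
      exact hkey ν φ₂ hΦ2 hf2 y hy
  have hΦιY : ∀ (g : SpG F (m + 1)) (y : ↥(Ysp ρ')), Φ (ρ' (ι g) (y : V')) = ρ (ι g) (Φ (y : V')) := by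
    intro g y
    have e1 : ρ' (ι g) (y : V') = ((resY ρ' ι hinv' g y : ↥(Ysp ρ')) : V') := rfl
    rw [e1, ← hΦYcoe, ← hΦYcoe, hΦYeq, hb₁hom g y]
    rfl
  have hΦι : ∀ (g : SpG F (m + 1)) (v : V'), Φ (ρ' (ι g) v) = ρ (ι g) (Φ v) := by
    intro g v
    conv_lhs => rw [← Cfsg.Agent.Lib.Helper17.WGZD.sum_zProj ψ hψ ρ' v]
    conv_rhs => rw [← Cfsg.Agent.Lib.Helper17.WGZD.sum_zProj ψ hψ ρ' v]
    rw [map_sum, map_sum, map_sum, map_sum]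
    apply Finset.sum_congr rfl
    intro l _
    by_cases hl : l = 0
    · subst hl
      exact hΦιY g ⟨zProj ψ ρ' 0 v, zProj_zero_mem_Ysp ψ ρ' v⟩
    · exact Cfsg.Agent.Lib.Helper4.WGF5.comm_iota_on_zsp h2 ψ hψ ι hι ρ' ρ hW' hW Φ
        (fun c => hΦQ _ _) (fun j c => hΦQ _ _) (fun j c => hΦL _) l hl _
        (Cfsg.Agent.Lib.Helper17.WGZD.zProj_mem ψ ρ' l v) g
  -- (g)
  have htop : commSubG ρ' ρ Φ = ⊤ := by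
    rw [eq_top_iff, ← Cfsg.Agent.Lib.Helper4.WGGENI.closure_iota (F := F) (m + 1) (by omega) ι hι,
      Subgroup.closure_le]
    rintro g ((⟨S, hS, rfl⟩ | ⟨h, rfl⟩) | ⟨g', rfl⟩)
    · exact hΦQ S hS
    · exact hΦL h
    · exact hΦι g'
  refine ⟨Φ, fun g => ?_, hΦ1, hΦ2⟩
  have : g ∈ commSubG ρ' ρ Φ := by rw [htop]; trivial
  exact this

end step2

end Cfsg.Agent.Lib.Helper14.WGSTEP
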