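/-
helper14: S2524 leaf (MAIN) `surj_main`: the surjectivity theorem for (W)-modules of `Sp_{2n}`, `n = m + 2`.
Induction on `m` from `surj_step`; `m = 0`: `surj_SL2` + `adm1_resY`; `m + 1`: `isW_resY`.
-/
import Mathlib
import Cfsg.Agent.Lib.Helper10.WGDefs
import Cfsg.Agent.Lib.Helper10.WGDefs2
import Cfsg.Agent.Lib.Helper14.WGSTEP
import Cfsg.Agent.Lib.Helper13.WGSL2
import Cfsg.Agent.Lib.Helper9.WGSXC

set_option autoImplicit false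

namespace Cfsg.Agent.Lib.Helper14.WGMAIN

open Matrix Cfsg.Agent.Lib.Helper11.LS Cfsg.Agent.Lib.Helper10.WG

universe u

variable {F : Type*} [Field F] [Fintype F] [DecidableEq F]

/-- (MAIN) the surjectivity theorem for (W)-modules of `Sp_{2n}`, `n = m + 2`. -/
theorem surj_main (h2 : (2 : F) ≠ 0) (ψ : AddChar F ℂ) (hψ : ψ.IsPrimitive) (ν : F)
    (hν : ¬ IsSquare ν) :
    ∀ (m : ℕ) (V V' : Type u) [AddCommGroup V] [Module ℂ V] [AddCommGroup V'] [Module ℂ V']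
      [FiniteDimensional ℂ V'] [FiniteDimensional ℂ V]
      (ρ' : Representation ℂ (SpG F (m + 2)) V') (ρ : Representation ℂ (SpG F (m + 2)) V),
      IsW ψ ρ' → IsW ψ ρ → SurjAt ψ ν ρ' ρ := by
  intro m
  induction m with
  | zero =>
    intro V V' _ _ _ _ _ _ ρ' ρ hW' hW
    obtain ⟨ι, hι⟩ := Cfsg.Agent.Lib.Helper29.WGIOTA.exists_iota (F := F) 1
    have hinv' : ∀ g, ∀ v ∈ Ysp ρ', ρ' (ι g) v ∈ Ysp ρ' := fun g v hv =>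
      Cfsg.Agent.Lib.Helper23.WGINV.iota_mem_Ysp ι hι ρ' g v hv
    have hinv : ∀ g, ∀ v ∈ Ysp ρ, ρ (ι g) v ∈ Ysp ρ := fun g v hv =>
      Cfsg.Agent.Lib.Helper23.WGINV.iota_mem_Ysp ι hι ρ g v hv
    refine Cfsg.Agent.Lib.Helper14.WGSTEP.surj_step (m := 0) h2 ψ hψ ν hν ι hι ρ' ρ hW' hW hinv' hinv ?_
    intro φ₁ φ₂ h₁ h₂
    exact Cfsg.Agent.Lib.Helper13.WGSL2.surj_SL2 h2 ψ hψ ν hν _ _
      (Cfsg.Agent.Lib.Helper9.WGSXC.adm1_resY h2 ψ hψ ι hι ρ' hW' hinv')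
      (Cfsg.Agent.Lib.Helper9.WGSXC.adm1_resY h2 ψ hψ ι hι ρ hW hinv) φ₁ φ₂ h₁ h₂
  | succ m ih =>
    intro V V' _ _ _ _ _ _ ρ' ρ hW' hW
    obtain ⟨ι, hι⟩ := Cfsg.Agent.Lib.Helper29.WGIOTA.exists_iota (F := F) (m + 2)
    have hinv' : ∀ g, ∀ v ∈ Ysp ρ', ρ' (ι g) v ∈ Ysp ρ' := fun g v hv =>
      Cfsg.Agent.Lib.Helper23.WGINV.iota_mem_Ysp ι hι ρ' g v hv
    have hinv : ∀ g, ∀ v ∈ Ysp ρ, ρ (ι g) v ∈ Ysp ρ := fun g v hv =>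
      Cfsg.Agent.Lib.Helper23.WGINV.iota_mem_Ysp ι hι ρ g v hv
    refine Cfsg.Agent.Lib.Helper14.WGSTEP.surj_step (m := m + 1) h2 ψ hψ ν hν ι hι ρ' ρ hW' hW hinv' hinv ?_
    exact ih _ _ (resY ρ' ι hinv') (resY ρ ι hinv)
      (Cfsg.Agent.Lib.Helper14.WGF6X.isW_resY h2 ψ hψ ι hι ρ' hW' hinv')
      (Cfsg.Agent.Lib.Helper14.WGF6X.isW_resY h2 ψ hψ ι hι ρ hW hinv)

end Cfsg.Agent.Lib.Helper14.WGMAIN
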